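import Groth.Statements.S6640
import Groth.Agent.L28.Pts.Basic
import Groth.Agent.L28.LocConst.PullInst
import Groth.Agent.L27.EtSite.Points
import Mathlib.Topology.Sober
import Mathlib.AlgebraicGeometry.Morphisms.UniversallyOpen

set_option autoImplicit false
open CategoryTheory CategoryTheory.Limits AlgebraicGeometry Opposite
universe u
open EtCore

namespace Groth.Agent.S6640

/-- Let X be an irreducible scheme, ξ a geometric point over its generic point, A' an additive subgroup
of an abelian group A, and G an abelian sheaf on the small etale site of X with monomorphisms a :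
const A' ⟶ G and b : G ⟶ const A whose composite is the map of constant sheaves induced by the
inclusion. If the stalk of a at ξ is an isomorphism, then a is an isomorphism. -/
theorem result {X : Scheme.{u}} [IrreducibleSpace ↥X]
    {Ω : Type u} [Field Ω] [IsSepClosed Ω] (ξ : Spec (CommRingCat.of Ω) ⟶ X)
    (hξ : ξ.base default = genericPoint ↥X)
    (A : Type) [AddCommGroup A] (A' : AddSubgroup A) (G : EtCoh.Ab X)
    (a : EtCoh.const X ↥A' ⟶ G) (b : G ⟶ EtCoh.const X A) [Mono a] [Mono b]
    (hab : a ≫ b = (constantSheaf X.smallEtaleTopology AddCommGrpCat.{u + 1}).map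
      (AddCommGrpCat.ofHom (AddEquiv.ulift.symm.toAddMonoidHom.comp (A'.subtype.comp AddEquiv.ulift.toAddMonoidHom))))
    (hst : IsIso ((EtCoh.stalk ξ).map a)) : IsIso a := by
  have hW : ∀ (Ω' : Type u) [Field Ω'] [IsSepClosed Ω'] (ξ' : Spec (CommRingCat.of Ω') ⟶ X),
      X.smallEtaleTopology.W.IsInvertedBy
        ((Scheme.pointSmallEtale ξ').presheafFiber (A := AddCommGrpCat.{u + 1})) :=
    fun _ _ _ ξ' => GrothendieckTopology.Point.W_isInvertedBy_presheafFiber' _
  have hgerm : ∀ (Ω' : Type u) [Field Ω'] [IsSepClosed Ω'] (ξ' : Spec (CommRingCat.of Ω') ⟶ X)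
      (M : AddCommGrpCat.{u + 1}) (U : X.Etale) (y : (Scheme.pointSmallEtale ξ').fiber.obj U),
      Function.Bijective (Groth.L28.Pts.constSect (J := X.smallEtaleTopology) M U ≫
        (Scheme.pointSmallEtale ξ').toPresheafFiber U y ((constantSheaf X.smallEtaleTopology _).obj M).obj) := by
    intro Ω' _ _ ξ' M U y
    have h := Groth.L28.Pts.constSect_sheafFiberConstIso_hom.{u} (Scheme.pointSmallEtale ξ') (hW Ω' ξ') M U y
    rw [← (Iso.comp_hom_eq_id _).1 ((Category.assoc _ _ _).trans h) |>.symm]
    exact ((ConcreteCategory.isIso_iff_bijective _).1 (Iso.isIso_inv _))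
  have hmono : ∀ V : X.Etale, Function.Injective (b.hom.app (op V)) := fun V =>
    (AddCommGrpCat.mono_iff_injective _).1
      (inferInstanceAs (Mono ((((evaluation _ _).obj (op V))).map ((sheafToPresheaf _ _).map b))))
  let M₁ : AddCommGrpCat.{u + 1} := AddCommGrpCat.of (ULift.{u + 1} ↥A')
  let M₂ : AddCommGrpCat.{u + 1} := AddCommGrpCat.of (ULift.{u + 1} A)
  obtain ⟨i, hab'⟩ : ∃ i : M₁ ⟶ M₂, a ≫ b =
      (constantSheaf X.smallEtaleTopology AddCommGrpCat.{u + 1}).map i := ⟨_, hab⟩
  have key : ∀ (V : X.Etale) (m : M₁), b.hom.app (op V) (a.hom.app (op V) (Groth.L28.Pts.constSect (J := X.smallEtaleTopology) M₁ V m)) =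
      Groth.L28.Pts.constSect (J := X.smallEtaleTopology) M₂ V (i m) := by
    intro V m
    refine Eq.trans ?_ (ConcreteCategory.congr_hom (Groth.L28.Pts.constSect_app.{u} (J := X.smallEtaleTopology) i V) m)
    exact congrArg (fun φ : (constantSheaf X.smallEtaleTopology AddCommGrpCat.{u + 1}).obj M₁ ⟶
      (constantSheaf X.smallEtaleTopology AddCommGrpCat.{u + 1}).obj M₂ =>
        φ.hom.app (op V) (Groth.L28.Pts.constSect (J := X.smallEtaleTopology) M₁ V m)) hab'
  refine (Sheaf.isLocallyBijective_iff_isIso a).1 ⟨?_, Groth.L27.EtSite.isLocallySurjective_of_stalks a.hom ?_⟩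
  · exact Presheaf.isLocallyInjective_of_injective _ _ fun V =>
      (AddCommGrpCat.mono_iff_injective _).1
        (inferInstanceAs (Mono ((((evaluation _ _).obj V)).map ((sheafToPresheaf _ _).map a))))
  intro Ω' _ _ ξ' g
  obtain ⟨V, y, t, rfl⟩ := (Scheme.pointSmallEtale ξ').toPresheafFiber_jointly_surjective g
  obtain ⟨m, hm⟩ := (hgerm Ω' ξ' M₂ V y).2
    ((Scheme.pointSmallEtale ξ').toPresheafFiber V y ((constantSheaf X.smallEtaleTopology _).obj M₂).obj (b.hom.app (op V) t))
  obtain ⟨W, c, w, hw, hc⟩ := ((Scheme.pointSmallEtale ξ').toPresheafFiber_eq_iff' _ _ _ _).1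
    (show (Scheme.pointSmallEtale ξ').toPresheafFiber V y ((constantSheaf X.smallEtaleTopology _).obj M₂).obj
      (Groth.L28.Pts.constSect (J := X.smallEtaleTopology) M₂ V m) = _ from hm)
  obtain ⟨x, hx⟩ : genericPoint X ∈ Set.range W.hom := by
    haveI : AlgebraicGeometry.Etale W.hom := W.prop
    refine ((genericPoint_spec X).mem_open_set_iff W.hom.isOpenMap.isOpen_range).2 ?_
    exact ⟨_, trivial, ⟨_, Groth.L27.EtSite.fiber_apply w⟩⟩
  obtain ⟨w0, -⟩ := Groth.L27.EtSite.exists_fiber ξ W x (hx.trans hξ.symm)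
  obtain ⟨s, hs⟩ := ((ConcreteCategory.isIso_iff_bijective _).1 hst).2
    ((Scheme.pointSmallEtale ξ).toPresheafFiber W w0 G.obj (G.obj.map c.op t))
  obtain ⟨m', rfl⟩ := (hgerm Ω ξ M₁ W w0).2 s
  have hbt : b.hom.app (op W) (G.obj.map c.op t) = Groth.L28.Pts.constSect (J := X.smallEtaleTopology) M₂ W m := by
    refine (NatTrans.naturality_apply b.hom c.op t).trans (hc.symm.trans ?_)
    exact ConcreteCategory.congr_hom (Groth.L28.Pts.constSect_map.{u} (J := X.smallEtaleTopology) M₂ c) m
  have hm' : i m' = m := by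
    refine (hgerm Ω ξ M₂ W w0).1 ?_
    show (Scheme.pointSmallEtale ξ).toPresheafFiber W w0 ((constantSheaf X.smallEtaleTopology _).obj M₂).obj _ = (Scheme.pointSmallEtale ξ).toPresheafFiber W w0 ((constantSheaf X.smallEtaleTopology _).obj M₂).obj _
    refine (congrArg _ (key W m').symm).trans (Eq.trans ?_ (congrArg _ hbt))
    refine (GrothendieckTopology.Point.toPresheafFiber_naturality_apply _ b.hom W w0 _).symm.trans
      (Eq.trans ?_ (GrothendieckTopology.Point.toPresheafFiber_naturality_apply _ b.hom W w0 _))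
    refine congrArg _ (Eq.trans ?_ hs)
    exact (GrothendieckTopology.Point.toPresheafFiber_naturality_apply _ a.hom W w0 _).symm
  refine ⟨(Scheme.pointSmallEtale ξ').toPresheafFiber W w ((constantSheaf X.smallEtaleTopology _).obj M₁).obj (Groth.L28.Pts.constSect (J := X.smallEtaleTopology) M₁ W m'), ?_⟩
  refine (GrothendieckTopology.Point.toPresheafFiber_naturality_apply _ a.hom W w _).trans ?_
  rw [← hw, ← GrothendieckTopology.Point.toPresheafFiber_w_apply]
  refine congrArg _ (hmono W ?_)
  exact (key W m').trans ((congrArg _ hm').trans hbt.symm)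

end Groth.Agent.S6640
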