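import Groth.Statements.S6648
import Groth.Agent.L27.EtSite.Points
import Mathlib.Algebra.Category.Ring.FilteredColimits
import Mathlib.AlgebraicGeometry.Morphisms.UniversallyOpen

set_option autoImplicit false
open CategoryTheory CategoryTheory.Limits AlgebraicGeometry Opposite
universe u
open EtCore

namespace Groth.Agent.S6648

/-- For a sheaf of (commutative) rings O on the small etale site of a scheme S, the set of points s of S
over which some geometric stalk of O is a nonzero ring is closed in S. (Rings are taken in the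
universe of the schemes, as for the structure presheaf of the prelude.) -/
theorem result {S : Scheme.{u}} (O : Sheaf S.smallEtaleTopology CommRingCat.{u}) :
    IsClosed {s : ↥S | ∃ (Ω : Type u) (_ : Field Ω) (_ : IsSepClosed Ω) (ξ : Spec (CommRingCat.of Ω) ⟶ S),
      ξ.base default = s ∧ Nontrivial ↑((Scheme.pointSmallEtale ξ).presheafFiber.obj O.obj)} := by
  refine isOpen_compl_iff.1 (isOpen_iff_forall_mem_open.2 fun t ht => ?_)
  obtain ⟨Ω, _, _, ξ, hξ⟩ := Groth.L27.EtSite.exists_geometric_point t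
  haveI : Subsingleton ↑((Scheme.pointSmallEtale ξ).presheafFiber.obj O.obj) :=
    not_nontrivial_iff_subsingleton.1 fun hN => ht ⟨Ω, inferInstance, inferInstance, ξ, hξ, hN⟩
  haveI : AlgebraicGeometry.Etale (EtCoh.top S).hom := (EtCoh.top S).prop
  obtain ⟨y, -⟩ := Groth.L27.EtSite.exists_fiber ξ (EtCoh.top S) (ξ.base default) rfl
  obtain ⟨W, c, w, -, hc⟩ := ((Scheme.pointSmallEtale ξ).toPresheafFiber_eq_iff' _ _ _ _).1
    (Subsingleton.elim ((Scheme.pointSmallEtale ξ).toPresheafFiber (EtCoh.top S) y O.obj 1)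
      ((Scheme.pointSmallEtale ξ).toPresheafFiber (EtCoh.top S) y O.obj 0))
  haveI : AlgebraicGeometry.Etale W.hom := W.prop
  refine ⟨Set.range W.hom, ?_, W.hom.isOpenMap.isOpen_range, ⟨_, (Groth.L27.EtSite.fiber_apply w).trans hξ⟩⟩
  rintro s ⟨z, hz⟩ ⟨Ω', _, _, ξ', hξ', hN⟩
  obtain ⟨w', -⟩ := Groth.L27.EtSite.exists_fiber ξ' W z (hz.trans hξ'.symm)
  refine not_nontrivial_iff_subsingleton.2 ?_ hN
  refine subsingleton_of_zero_eq_one ?_
  rw [← map_zero ((Scheme.pointSmallEtale ξ').toPresheafFiber W w' O.obj).hom,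
    ← map_one ((Scheme.pointSmallEtale ξ').toPresheafFiber W w' O.obj).hom]
  refine congrArg _ ?_
  rw [← map_zero (O.obj.map c.op).hom, ← map_one (O.obj.map c.op).hom]
  exact hc.symm

end Groth.Agent.S6648
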