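import Groth.Statements.S6654
import Groth.Agent.L28.Pts.EtMod
import Mathlib.AlgebraicGeometry.Morphisms.Etale
import Mathlib.Topology.Sober
import Mathlib.Algebra.Category.ModuleCat.AB
import Mathlib.AlgebraicGeometry.Morphisms.UniversallyOpen
import Groth.Agent.L28.Pts.Linear

set_option autoImplicit false
open CategoryTheory CategoryTheory.Limits AlgebraicGeometry Opposite
universe u
open EtModW

namespace Groth.Agent.S6654

set_option backward.isDefEq.respectTransparency.types false

instance (Λ : Type (u + 1)) [CommRing Λ] : AB5OfSize.{u, u} (ModuleCat.{u + 1} Λ) :=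
  AB5OfSize_shrink.{u, u, u + 1, u + 1} _

open Groth.L28 in
theorem germ_constSect (Λ : Type (u + 1)) [CommRing Λ] {X : Scheme.{u}} {Ω : Type u} [Field Ω] [IsSepClosed Ω]
    (ξ : Spec (CommRingCat.of Ω) ⟶ X) (M : ModuleCat.{u + 1} Λ) (U : X.Etale)
    (y : (Scheme.pointSmallEtale ξ).fiber.obj U) (m : M) :
    (EtModStalk.stalkConstIso Λ ξ M).hom ((Scheme.pointSmallEtale ξ).toPresheafFiber U y
      ((constantSheaf X.smallEtaleTopology (ModuleCat.{u + 1} Λ)).obj M).obj (Pts.constSect (J := X.smallEtaleTopology) M U m)) = m :=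
  ConcreteCategory.congr_hom (Pts.constSect_sheafFiberConstIso_hom _ (EtModStalk.inverted Λ ξ) M U y) m

open Groth.L28 in
theorem map_germ_constSect (Λ : Type (u + 1)) [CommRing Λ] {X : Scheme.{u}} {Ω : Type u} [Field Ω] [IsSepClosed Ω]
    (ξ : Spec (CommRingCat.of Ω) ⟶ X) {M N : ModuleCat.{u + 1} Λ} (h : M ⟶ N) (U : X.Etale)
    (y : (Scheme.pointSmallEtale ξ).fiber.obj U) (m : M) :
    (EtModW.stalk Λ ξ).map ((constantSheaf X.smallEtaleTopology (ModuleCat.{u + 1} Λ)).map h)
      ((Scheme.pointSmallEtale ξ).toPresheafFiber U y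
      ((constantSheaf X.smallEtaleTopology (ModuleCat.{u + 1} Λ)).obj M).obj (Pts.constSect (J := X.smallEtaleTopology) M U m)) =
    (Scheme.pointSmallEtale ξ).toPresheafFiber U y
      ((constantSheaf X.smallEtaleTopology (ModuleCat.{u + 1} Λ)).obj N).obj (Pts.constSect (J := X.smallEtaleTopology) N U (h m)) := by
  refine (GrothendieckTopology.Point.toPresheafFiber_naturality_apply (Scheme.pointSmallEtale ξ)
    ((constantSheaf X.smallEtaleTopology (ModuleCat.{u + 1} Λ)).map h).hom U y (Pts.constSect (J := X.smallEtaleTopology) M U m)).trans ?_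
  exact congrArg _ (ConcreteCategory.congr_hom (Pts.constSect_app.{u} (J := X.smallEtaleTopology) h U) m)

/-- Let X be an irreducible scheme, ξ a geometric point over its generic point, Λ a commutative ring, M'
a submodule of a Λ-module M, and G a sheaf of Λ-modules on the small etale site of X with
monomorphisms a : const M' ⟶ G and b : G ⟶ const M whose composite is the map of constant sheaves
induced by the inclusion. If the stalk of a at ξ is an isomorphism, then a is an isomorphism. -/
theorem result (Λ : Type (u + 1)) [CommRing Λ] {X : Scheme.{u}} [IrreducibleSpace ↥X]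
    {Ω : Type u} [Field Ω] [IsSepClosed Ω] (ξ : Spec (CommRingCat.of Ω) ⟶ X)
    (hξ : ξ.base default = genericPoint ↥X)
    (M : Type (u + 1)) [AddCommGroup M] [Module Λ M] (M' : Submodule Λ M) (G : EtModW.Mod Λ X)
    (a : EtModW.constMod Λ X ↥M' ⟶ G) (b : G ⟶ EtModW.constMod Λ X M) [Mono a] [Mono b]
    (hab : a ≫ b = (constantSheaf X.smallEtaleTopology (ModuleCat.{u + 1} Λ)).map (ModuleCat.ofHom M'.subtype))
    (hst : IsIso ((EtModW.stalk Λ ξ).map a)) : IsIso a := by
  have hsurj : ∀ (Ω' : Type u) [Field Ω'] [IsSepClosed Ω'] (ξ' : Spec (CommRingCat.of Ω') ⟶ X),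
      Function.Surjective ((EtModW.stalk Λ ξ').map a) := by
    intro Ω' _ _ ξ' g
    obtain ⟨V, y, t, ht⟩ := (Scheme.pointSmallEtale ξ').toPresheafFiber_jointly_surjective g
    let e' := Groth.L28.EtModStalk.stalkConstIso Λ ξ' (ModuleCat.of Λ M)
    let e := Groth.L28.EtModStalk.stalkConstIso Λ ξ (ModuleCat.of Λ M)
    let m : M := e'.hom ((EtModW.stalk Λ ξ').map b g)
    have hb' : (EtModW.stalk Λ ξ').map b g = (Scheme.pointSmallEtale ξ').toPresheafFiber V y
        (EtModW.constMod Λ X M).obj (Groth.L28.Pts.constSect (J := X.smallEtaleTopology) (ModuleCat.of Λ M) V m) :=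
      Groth.L28.EtModStalk.stalk_const_eq_germ Λ ξ' (ModuleCat.of Λ M) V y _
    have h1 : (Scheme.pointSmallEtale ξ').toPresheafFiber V y (EtModW.constMod Λ X M).obj (b.hom.app (op V) t) =
        (Scheme.pointSmallEtale ξ').toPresheafFiber V y
          (EtModW.constMod Λ X M).obj (Groth.L28.Pts.constSect (J := X.smallEtaleTopology) (ModuleCat.of Λ M) V m) := by
      rw [← hb', ← ht]
      exact (GrothendieckTopology.Point.toPresheafFiber_naturality_apply _ b.hom V y t).symm
    obtain ⟨W, f, w, hw, hW⟩ := ((Scheme.pointSmallEtale ξ').toPresheafFiber_eq_iff' _ _ _ _).1 h1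
    obtain ⟨z, hz⟩ : genericPoint X ∈ Set.range W.hom := by
      haveI : AlgebraicGeometry.Etale W.hom := W.prop
      refine ((genericPoint_spec X).mem_open_set_iff W.hom.isOpenMap.isOpen_range).2 ?_
      exact ⟨_, trivial, ⟨_, Groth.L27.EtSite.fiber_apply w⟩⟩
    obtain ⟨w0, -⟩ := Groth.L27.EtSite.exists_fiber ξ W z (hz.trans hξ.symm)
    obtain ⟨s, hs⟩ := ((ConcreteCategory.isIso_iff_bijective _).1 hst).2
      ((Scheme.pointSmallEtale ξ).toPresheafFiber W w0 G.obj (G.obj.map f.op t))
    let m' : M' := (Groth.L28.EtModStalk.stalkConstIso Λ ξ (ModuleCat.of Λ M')).hom s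
    have hm : (m' : M) = m := by
      have h2 : (EtModW.stalk Λ ξ).map b ((EtModW.stalk Λ ξ).map a s) =
          (Scheme.pointSmallEtale ξ).toPresheafFiber W w0 (EtModW.constMod Λ X M).obj
            (Groth.L28.Pts.constSect (J := X.smallEtaleTopology) (ModuleCat.of Λ M) W m) := by
        rw [hs]
        refine (GrothendieckTopology.Point.toPresheafFiber_naturality_apply _ b.hom W w0 _).trans ?_
        refine congrArg _ ?_
        exact (NatTrans.naturality_apply b.hom f.op t).trans
          (hW.trans (ConcreteCategory.congr_hom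
            (Groth.L28.Pts.constSect_map.{u} (J := X.smallEtaleTopology) (ModuleCat.of Λ M) f) m))
      rw [← ConcreteCategory.comp_apply, ← Functor.map_comp, hab,
        Groth.L28.EtModStalk.stalk_const_eq_germ Λ ξ (ModuleCat.of Λ M') W w0 s] at h2
      have h3 := congrArg e.hom ((map_germ_constSect Λ ξ (ModuleCat.ofHom M'.subtype) W w0 m').symm.trans h2)
      exact (germ_constSect Λ ξ _ W w0 _).symm.trans (h3.trans (germ_constSect Λ ξ _ W w0 _))
    refine ⟨(Scheme.pointSmallEtale ξ').toPresheafFiber V y (EtModW.constMod Λ X ↥M').obj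
      (Groth.L28.Pts.constSect (J := X.smallEtaleTopology) (ModuleCat.of Λ M') V m'), ?_⟩
    apply (ModuleCat.mono_iff_injective _).1 ((EtModW.stalk Λ ξ').map_mono b)
    rw [← ConcreteCategory.comp_apply, ← Functor.map_comp, hab, hb', ← hm]
    exact map_germ_constSect Λ ξ' (ModuleCat.ofHom M'.subtype) V y m'
  have h1 : Sheaf.IsLocallySurjective a := Groth.L27.EtSite.isLocallySurjective_of_stalks a.hom hsurj
  have h2 : Sheaf.IsLocallyInjective a := Groth.L27.EtSite.isLocallyInjective_of_stalks a.hom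
    fun Ω' _ _ ξ' => (ModuleCat.mono_iff_injective _).1 ((EtModW.stalk Λ ξ').map_mono a)
  exact (Sheaf.isLocallyBijective_iff_isIso a).1 ⟨h2, h1⟩

end Groth.Agent.S6654
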