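import Groth.Statements.S6656
import Groth.Agent.L27.CechInj
import Groth.Agent.L27.EtSite.Push
import Mathlib.AlgebraicGeometry.Morphisms.FlatMono
import Mathlib.AlgebraicGeometry.Limits

set_option backward.isDefEq.respectTransparency.types false
set_option linter.style.haveILetI false

set_option autoImplicit false
open CategoryTheory CategoryTheory.Limits AlgebraicGeometry Opposite
universe u
open EtCore

namespace Groth.Agent.S6656

open Groth.L27.CechInj

section Aux

variable {X : Scheme.{u}}

theorem isOpenImmersion_left_of_mono {A B : X.Etale} (f : A ⟶ B) [Mono f] : IsOpenImmersion f.left := by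
  let v : A.left ⟶ X := A.hom
  let w : B.left ⟶ X := B.hom
  have hf : f.left ≫ w = v := Over.w ((Scheme.Etale.forget X).map f)
  haveI hv : Etale v := A.prop
  haveI hw : Etale w := B.prop
  haveI : Etale (f.left ≫ w) := by rw [hf]; infer_instance
  haveI : Etale f.left := Etale.of_comp f.left w
  haveI : Mono ((Scheme.Etale.forget X).map f) := inferInstance
  haveI : Mono f.left := Over.mono_left_of_mono ((Scheme.Etale.forget X).map f)
  exact IsOpenImmersion.of_flat_of_mono f.left

variable {U : X.Etale}

theorem mono_overForget {A B : Over U} (f : A ⟶ B) [Mono f] : Mono f.left :=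
  Over.mono_left_of_mono f

variable {ι : Type (u + 1)} [Finite ι] {Uf : ι → Over U} {V : Over U} {incl : ∀ i, Uf i ⟶ V}
  (hV : IsColimit (Cofan.mk V.left.left fun i => (incl i).left.left))

include hV

theorem isOpenImmersion_incl (i : ι) : IsOpenImmersion (incl i).left.left := by
  haveI : Small.{u} ι := inferInstance
  let f : ι → Scheme.{u} := fun i => (Uf i).left.left
  let e := (coproductIsCoproduct f).coconePointUniqueUpToIso hV
  have he : Sigma.ι f i ≫ e.hom = (incl i).left.left :=
    (coproductIsCoproduct f).comp_coconePointUniqueUpToIso_hom hV ⟨i⟩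
  rw [← he]
  infer_instance

theorem disjoint_incl {i j : ι} (h : i ≠ j) (x : (Uf i).left.left) (y : (Uf j).left.left) :
    (incl i).left.left x ≠ (incl j).left.left y := by
  haveI : Small.{u} ι := inferInstance
  let f : ι → Scheme.{u} := fun i => (Uf i).left.left
  let e := (coproductIsCoproduct f).coconePointUniqueUpToIso hV
  have he : ∀ k, Sigma.ι f k ≫ e.hom = (incl k).left.left := fun k =>
    (coproductIsCoproduct f).comp_coconePointUniqueUpToIso_hom hV ⟨k⟩
  intro hxy
  rw [← he i, ← he j, Scheme.Hom.comp_apply, Scheme.Hom.comp_apply] at hxy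
  have h2 : Disjoint (Set.range (Sigma.ι f i)) (Set.range (Sigma.ι f j)) :=
    TopologicalSpace.Opens.coe_disjoint.mpr (disjoint_opensRange_sigmaι f i j h)
  exact Set.disjoint_left.mp h2 ⟨x, rfl⟩ ⟨y, (e.hom.homeomorph.injective hxy).symm⟩

theorem exists_incl (z : V.left.left) : ∃ i x, (incl i).left.left x = z := by
  haveI : Small.{u} ι := inferInstance
  let f : ι → Scheme.{u} := fun i => (Uf i).left.left
  let e := (coproductIsCoproduct f).coconePointUniqueUpToIso hV
  have he : ∀ k, Sigma.ι f k ≫ e.hom = (incl k).left.left := fun k =>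
    (coproductIsCoproduct f).comp_coconePointUniqueUpToIso_hom hV ⟨k⟩
  obtain ⟨w, rfl⟩ := e.hom.homeomorph.surjective z
  obtain ⟨i, x, rfl⟩ := (sigmaOpenCover f).exists_eq w
  refine ⟨i, x, ?_⟩
  rw [← he i, Scheme.Hom.comp_apply]
  rfl

theorem mono_incl (i : ι) : Mono (incl i) := by
  haveI := isOpenImmersion_incl hV i
  exact ⟨fun g h e => Over.OverMorphism.ext (MorphismProperty.Over.Hom.ext
    ((cancel_mono (incl i).left.left).1 (congrArg (fun m => m.left.left) e)))⟩

end Aux

section Cech

variable {X : Scheme.{u}} {U : X.Etale} [HasFiniteProducts (Over U)] {ι : Type (u + 1)}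
  {Uf : ι → Over U} {V : Over U} (incl : ∀ i, Uf i ⟶ V)

/-- The only tuple. -/
abbrev st (n : ℕ) : Fin (n + 1) → PUnit.{u + 2} := fun _ => PUnit.unit

/-- The comparison of products. -/
noncomputable def t {n : ℕ} (a : Fin (n + 1) → ι) :
    tup Uf a ⟶ tup (fun _ : PUnit.{u + 2} => V) (st n) :=
  Pi.lift fun k => Pi.π (Uf ∘ a) k ≫ incl (a k)

theorem face_t {n : ℕ} (j : Fin (n + 2)) (a : Fin (n + 2) → ι) :
    face Uf j a ≫ t incl (a ∘ j.succAbove) = t incl a ≫ face (fun _ : PUnit.{u + 2} => V) j (st (n + 1)) := by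
  refine Pi.hom_ext _ _ fun k => ?_
  have e1 : t incl (a ∘ j.succAbove) ≫ Pi.π ((fun _ : PUnit.{u + 2} => V) ∘ (st n)) k =
      Pi.π (Uf ∘ (a ∘ j.succAbove)) k ≫ incl (a (j.succAbove k)) := Pi.lift_π _ k
  have e2 : face Uf j a ≫ Pi.π (Uf ∘ (a ∘ j.succAbove)) k = Pi.π (Uf ∘ a) (j.succAbove k) := Pi.lift_π _ k
  have e3 : face (fun _ : PUnit.{u + 2} => V) j (st (n + 1)) ≫ Pi.π ((fun _ : PUnit.{u + 2} => V) ∘ (st n)) k =
      Pi.π ((fun _ : PUnit.{u + 2} => V) ∘ (st (n + 1))) (j.succAbove k) := Pi.lift_π _ k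
  have e4 : t incl a ≫ Pi.π ((fun _ : PUnit.{u + 2} => V) ∘ (st (n + 1))) (j.succAbove k) =
      Pi.π (Uf ∘ a) (j.succAbove k) ≫ incl (a (j.succAbove k)) := Pi.lift_π _ (j.succAbove k)
  exact (Category.assoc _ _ _).trans ((congrArg (face Uf j a ≫ ·) e1).trans ((Category.assoc _ _ _).symm.trans
    ((congrArg (· ≫ incl (a (j.succAbove k))) e2).trans
      (e4.symm.trans ((congrArg (t incl a ≫ ·) e3).symm.trans (Category.assoc _ _ _).symm)))))

variable (P : (X.Etale)ᵒᵖ ⥤ AddCommGrpCat.{u + 1})

/-- The comparison of complexes. -/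
noncomputable def φ :
    EtCech.cechComplex (fun _ : PUnit.{u + 2} => V) P ⟶ EtCech.cechComplex Uf P where
  f n := Pi.lift fun a : Fin (n + 1) → ι =>
    Pi.π (fun b : Fin (n + 1) → PUnit.{u + 2} => P.obj (op (tup (fun _ : PUnit.{u + 2} => V) b).left)) (st n) ≫
      P.map (t incl a).left.op
  comm' n m hnm := by
    obtain rfl : n + 1 = m := hnm
    refine AddCommGrpCat.hom_ext (AddMonoidHom.ext fun x => co_ext fun a => ?_)
    have hf : ∀ (n : ℕ) (y : (EtCech.cechComplex (fun _ : PUnit.{u + 2} => V) P).X n) (b : Fin (n + 1) → ι),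
        co b ((Pi.lift fun a : Fin (n + 1) → ι =>
          Pi.π (fun b : Fin (n + 1) → PUnit.{u + 2} => P.obj (op (tup (fun _ : PUnit.{u + 2} => V) b).left)) (st n) ≫
            P.map (t incl a).left.op) y) = P.map (t incl b).left.op (co (st n) y) := fun n y b =>
      (ConcreteCategory.congr_hom (Pi.lift_π _ b) y)
    refine (co_d a _).trans (Eq.trans ?_ (hf (n + 1) _ a).symm)
    refine Eq.trans ?_ (congrArg (P.map (t incl a).left.op) (co_d (st (n + 1)) x)).symm
    rw [map_sum]
    refine Finset.sum_congr rfl fun j _ => ?_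
    rw [map_zsmul]
    refine congrArg _ ?_
    refine (congrArg (P.map (face Uf j a).left.op) (hf n x (a ∘ j.succAbove))).trans ?_
    refine Eq.trans ?_ ((ConcreteCategory.comp_apply _ _ _))
    rw [← ConcreteCategory.comp_apply, ← P.map_comp, ← P.map_comp, ← op_comp, ← op_comp,
      ← Over.comp_left, ← Over.comp_left, face_t]

theorem co_φ {n : ℕ} (a : Fin (n + 1) → ι)
    (x : (EtCech.cechComplex (fun _ : PUnit.{u + 2} => V) P).X n) :
    co a ((φ incl P).f n x) = P.map (t incl a).left.op (co (st n) x) :=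
  ConcreteCategory.congr_hom (Pi.lift_π _ a) x

end Cech

theorem isIso_φ {X : Scheme.{u}} (F : EtCoh.Ab X) {U : X.Etale}
    [HasFiniteProducts (Over U)] {ι : Type (u + 1)} [Finite ι] {Uf : ι → Over U}
    {V : Over U} (incl : ∀ i, Uf i ⟶ V)
    (hV : IsColimit (Cofan.mk V.left.left fun i => (incl i).left.left)) (n : ℕ) :
    IsIso ((φ incl F.obj).f n) := by
  let cV : PUnit.{u + 2} → Over U := fun _ => V
  let c : ∀ a : Fin (n + 1) → ι, (tup Uf a).left ⟶ (tup cV (st n)).left := fun a => (t incl a).left
  haveI hmono : ∀ a, Mono (t incl a (n := n)) := fun a => ⟨fun g h e => Pi.hom_ext _ _ fun k => by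
    haveI := mono_incl hV (a k)
    have := congrArg (· ≫ Pi.π (cV ∘ (st n)) k) e
    simp only [t, Category.assoc] at this
    rw [← cancel_mono (incl (a k)), Category.assoc, Category.assoc]
    simpa [cV] using this⟩
  haveI : ∀ a, IsOpenImmersion (c a).left := fun a =>
    haveI : Mono (c a) := mono_overForget (t incl a)
    isOpenImmersion_left_of_mono (c a)
  have hπ : ∀ a k (y : (tup Uf a).left.left), (Pi.π (cV ∘ (st n)) k).left.left ((c a).left y) =
      (incl (a k)).left.left ((Pi.π (Uf ∘ a) k).left.left y) := fun a k y => by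
    have h : t incl a ≫ Pi.π (cV ∘ (st n)) k = Pi.π (Uf ∘ a) k ≫ incl (a k) := Pi.lift_π _ k
    exact congrArg (fun m : tup Uf a ⟶ V => m.left.left y) h
  have hd : Pairwise fun a b => Disjoint (Set.range (c a).left) (Set.range (c b).left) := fun a b hab => by
    obtain ⟨k, hk⟩ := Function.ne_iff.mp hab
    refine Set.disjoint_left.mpr ?_
    rintro z ⟨y, rfl⟩ ⟨y', hy'⟩
    refine disjoint_incl hV hk _ _ ((hπ a k y).symm.trans (Eq.trans ?_ (hπ b k y')))
    exact congrArg _ hy'.symm
  have hc : ∀ z : (tup cV (st n)).left.left, ∃ a y, (c a).left y = z := fun z => by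
    choose a x hx using fun k => exists_incl hV ((Pi.π (cV ∘ (st n)) k).left.left z)
    let W₀ := (tup cV (st n)).left.left
    let O : W₀.Opens := ⟨⋂ k, (Pi.π (cV ∘ (st n)) k).left.left ⁻¹' Set.range (incl (a k)).left.left,
      isOpen_iInter_of_finite fun k => by
        haveI := isOpenImmersion_incl hV (a k)
        exact (incl (a k)).left.left.isOpenEmbedding.isOpen_range.preimage
          (Pi.π (cV ∘ (st n)) k).left.left.continuous⟩
    have hz : z ∈ O := Set.mem_iInter.mpr fun k => ⟨x k, hx k⟩
    let s : W₀ ⟶ X := (tup cV (st n)).left.hom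
    haveI : Etale s := (tup cV (st n)).left.prop
    haveI : Etale (O.ι ≫ s) := inferInstance
    let Z : X.Etale := MorphismProperty.Over.mk _ (O.ι ≫ s) ‹Etale (O.ι ≫ s)›
    let i₀ : Z ⟶ (tup cV (st n)).left := MorphismProperty.Over.homMk O.ι rfl
    let Z' : Over U := Over.mk (i₀ ≫ (tup cV (st n)).hom)
    let i' : Z' ⟶ tup cV (st n) := Over.homMk i₀ rfl
    have hl : ∀ k, ∃ m : Z' ⟶ Uf (a k), m ≫ incl (a k) = i' ≫ Pi.π (cV ∘ (st n)) k := fun k => by
      haveI := isOpenImmersion_incl hV (a k)
      let g := (i' ≫ Pi.π (cV ∘ (st n)) k).left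
      let p := (incl (a k)).left
      have hr : Set.range g.left ⊆ Set.range p.left := by
        rintro _ ⟨w, rfl⟩
        exact Set.mem_iInter.mp w.2 k
      let l := IsOpenImmersion.lift p.left g.left hr
      have hl' : l ≫ p.left = g.left := IsOpenImmersion.lift_fac p.left g.left hr
      let l₀ : Z ⟶ (Uf (a k)).left := MorphismProperty.Over.homMk l ((congrArg (l ≫ ·) (Over.w ((Scheme.Etale.forget X).map p))).symm.trans
          ((Category.assoc _ _ _).symm.trans ((congrArg (· ≫ V.left.hom) hl').trans
            (Over.w ((Scheme.Etale.forget X).map g)))))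
      have hlg : l₀ ≫ p = g := MorphismProperty.Over.Hom.ext hl'
      refine ⟨Over.homMk l₀ ?_, Over.OverMorphism.ext hlg⟩
      rw [← Over.w (incl (a k))]
      exact (Category.assoc _ _ _).symm.trans ((congrArg (· ≫ V.hom) hlg).trans
        (Over.w (i' ≫ Pi.π (cV ∘ (st n)) k)))
    choose m hm using hl
    let L : Z' ⟶ tup Uf a := Pi.lift m
    have hL : L ≫ t incl a = i' := Pi.hom_ext _ _ fun k => by
      rw [Category.assoc, ← hm k]
      simp [t, L]
    exact ⟨a, L.left.left ⟨z, hz⟩, congrArg (fun g : Z' ⟶ tup cV (st n) => g.left.left ⟨z, hz⟩) hL⟩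
  have hb := Groth.L27.EtSite.bijective_of_disjoint
    ((sheafCompose X.smallEtaleTopology (forget AddCommGrpCat.{u + 1})).obj F) _ c hd hc
  haveI : Subsingleton (Fin (n + 1) → PUnit.{u + 2}) := inferInstance
  rw [ConcreteCategory.isIso_iff_bijective]
  refine ⟨fun x y hxy => co_ext fun b => ?_, fun y => ?_⟩
  · obtain rfl : (st n) = b := Subsingleton.elim _ _
    refine hb.1 (funext fun a => ?_)
    exact (co_φ incl F.obj a x).symm.trans ((congrArg (co a) hxy).trans (co_φ incl F.obj a y))
  · obtain ⟨s, hs⟩ := hb.2 fun a => co a y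
    refine ⟨mk fun _ => s, co_ext fun a => (co_φ incl F.obj a _).trans ?_⟩
    exact (congrArg (F.obj.map (t incl a).left.op) (co_mk (fun _ => s) (st n))).trans (congrFun hs a)


/-- Let F be an abelian sheaf on the small etale site of a scheme X, U an etale X-scheme, {U_i ⟶ U} a
finite family of etale X-schemes over U, and V ⟶ U an etale X-scheme over U with U-morphisms U_i ⟶ V
making the underlying scheme of V the coproduct (disjoint union) of the U_i. Then the Čech complex
of F for the family {U_i ⟶ U} and the Čech complex of F for the single morphism {V ⟶ U} are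
isomorphic cochain complexes (existence of an isomorphism; fibre products over U in the small etale
site are carried as the finite-products binder of the Čech complex). (The published statement is for
a standard covering, whose members are affine; this row allows any finite family with V their
disjoint union, which the same argument covers.) -/
theorem result {X : Scheme.{u}} (F : EtCoh.Ab X) (U : X.Etale)
    [HasFiniteProducts (Over U)] {ι : Type (u + 1)} [Finite ι] (Uf : ι → Over U)
    (V : Over U) (incl : ∀ i, Uf i ⟶ V)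
    (hV : IsColimit (Cofan.mk V.left.left fun i => (incl i).left.left)) :
    Nonempty (EtCech.cechComplex Uf F.obj ≅ EtCech.cechComplex (fun _ : PUnit.{u + 2} => V) F.obj) := by
  haveI := isIso_φ F incl hV
  haveI : IsIso (φ incl F.obj) := HomologicalComplex.Hom.isIso_of_components _
  exact ⟨(asIso (φ incl F.obj)).symm⟩

end Groth.Agent.S6656
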