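import Groth.Statements.S6659
import Groth.Agent.L10.ExactAdj.Derived
import Groth.Agent.L10.ExactAdj.EtClosed
import Groth.Agent.L27.ExtZero.Cont

set_option autoImplicit false
set_option backward.defeqAttrib.useBackward true
set_option backward.isDefEq.respectTransparency false
set_option backward.isDefEq.respectTransparency.types false
set_option backward.defeqAttrib.useBackward true
set_option backward.isDefEq.respectTransparency false
universe u
open CategoryTheory CategoryTheory.Limits AlgebraicGeometry Opposite
attribute [local instance] HasDerivedCategory.standard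
open EtDual

namespace Groth.Agent.S6659

/-- Let i : Z → X be a closed immersion of schemes with open complement j : U → X. The direct image i_*
of abelian etale sheaves is exact (its right exactness is carried as an instance hypothesis), and
the induced functor D(Z_et) → D(X_et) is fully faithful; an object K of D(X_et) lies in its
essential image if and only if every cohomology sheaf of K has zero restriction to U, i.e. K has
cohomology sheaves supported on Z. (The identification of the quasi-inverse with the derived functor
of sections supported on Z is not part of this row.) -/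
theorem result {Z X U : Scheme.{u}} (i : Z ⟶ X)
    [IsClosedImmersion i] (j : U ⟶ X) [IsOpenImmersion j] (hZU : Set.range j = (Set.range i)ᶜ)
    [PreservesFiniteColimits (EtCoh.push i)] :
    ((EtCoh.push i).mapDerivedCategory.Full ∧ (EtCoh.push i).mapDerivedCategory.Faithful) ∧
      ∀ K : DCoh.DEt X,
        (EtCoh.push i).mapDerivedCategory.essImage K ↔
          ∀ n : ℤ, IsZero ((EtCoh.pull j).obj (DCoh.HDEt K n)) := by
  haveI := Groth.L27.EtSite.preservesFiniteLimits_pull i
  haveI : PreservesLimitsOfSize.{0, 0} (EtCoh.push i) := (EtCoh.pullPushAdj i).rightAdjoint_preservesLimits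
  haveI : PreservesFiniteLimits (EtCoh.push i) := PreservesLimitsOfSize.preservesFiniteLimits _
  haveI : PreservesColimitsOfSize.{0, 0} (EtCoh.pull i) := (EtCoh.pullPushAdj i).leftAdjoint_preservesColimits
  haveI : PreservesFiniteColimits (EtCoh.pull i) := PreservesColimitsOfSize.preservesFiniteColimits _
  haveI : (EtCoh.pull i).Additive := Functor.additive_of_preserves_binary_products _
  haveI : ∀ F, IsIso ((EtCoh.pullPushAdj i).counit.app F) := fun F =>
    Groth.L27.EtSite.isIso_counit i (Groth.L27.EtSite.propA_of_isIntegralHom i) F
  haveI : IsIso (EtCoh.pullPushAdj i).counit := NatIso.isIso_of_isIso_app _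
  haveI : AlgebraicGeometry.Etale j := inferInstance
  haveI := Groth.L27.ExtZero.jCont j
  haveI := Groth.L27.EtSite.preservesFiniteLimits_pull j
  have key : ∀ F : EtCoh.Ab X, IsIso ((EtCoh.pullPushAdj i).unit.app F) ↔ IsZero ((EtCoh.pull j).obj F) := by
    intro F
    refine ⟨fun h => (Groth.L27.InjPush.isZero_pull_push j i hZU _).of_iso
      ((EtCoh.pull j).mapIso (@asIso _ _ _ _ _ h)), fun h => ?_⟩
    exact Groth.L10.ExactAdj.isIso_unit_of_isZero j i hZU F h
  refine ⟨Groth.L10.ExactAdj.fullyFaithful (EtCoh.pullPushAdj i), fun K => ?_⟩
  exact (Groth.L10.ExactAdj.essImage_iff (EtCoh.pullPushAdj i) K).trans (forall_congr' fun n => key _)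

end Groth.Agent.S6659
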