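import Groth.Statements.S6670
import Groth.Agent.L27.StalkBC.FibreCritPoint

set_option autoImplicit false
set_option linter.style.haveILetI false
set_option backward.isDefEq.respectTransparency.types false
universe u
open CategoryTheory CategoryTheory.Limits AlgebraicGeometry Opposite
open EtBC

namespace Groth.Agent.S6670

/-- Let f : X → S be a morphism of schemes, x a point of X, R_X a strict henselization of the local ring
of X at x and R_S one of the local ring of S at f(x), ψ : R_S → R_X a local homomorphism compatible
with f, K a separably closed field with a ring map κ : R_S → K, F an abelian sheaf on the small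
etale site of Spec K and q ≥ 0. Form P_S = Spec R_S ×_S Spec K and P_X = Spec R_X ×_S Spec K (Spec K
mapping to S through κ and Spec R_S) with the morphism m : P_X → P_S induced by ψ. Then the pullback
map H^q(P_S, F|P_S) → H^q(P_X, F|P_X) along m is bijective if and only if, for every ring map κ' :
R_S → K that agrees with κ on the local ring of S at f(x) and Q' = Spec R_X ×_{Spec R_S} Spec K
formed with κ' and ψ, the pullback map H^q(Spec K, F) → H^q(Q', F|Q') along the projection Q' → Spec
K is bijective. (The published statement asks the second condition only for the given map κ. The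
points of P_S are all the ring maps R_S → K agreeing with κ on the local ring of S, and the first
condition does not depend on κ among them; when the local ring of S at f(x) has two branches, for
instance at the node of a nodal cubic with X its normalization, q = 0 and F constant, the second
condition holds for κ through one branch while the first fails. So the second condition is asked
here for every such map.) -/
theorem result {X S : Scheme.{u}} (f : X ⟶ S) (x : X)
    (RS : Type u) [CommRing RS] [IsLocalRing RS] [Algebra (S.presheaf.stalk (f.base x)) RS]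
      [IsLocalHom (algebraMap (S.presheaf.stalk (f.base x)) RS)] [Hensel.IsStrictHenselization (S.presheaf.stalk (f.base x)) RS]
    (RX : Type u) [CommRing RX] [IsLocalRing RX] [Algebra (X.presheaf.stalk x) RX]
      [IsLocalHom (algebraMap (X.presheaf.stalk x) RX)] [Hensel.IsStrictHenselization (X.presheaf.stalk x) RX]
    (ψ : RS →+* RX) [IsLocalHom ψ]
    (hψ : ψ.comp (algebraMap (S.presheaf.stalk (f.base x)) RS) = (algebraMap (X.presheaf.stalk x) RX).comp (f.stalkMap x).hom)
    (K : Type u) [Field K] [IsSepClosed K] (κ : RS →+* K) (F : EtCoh.Ab (Spec (CommRingCat.of K))) (q : ℕ)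
    (PS PX : Scheme.{u}) (aS : PS ⟶ Spec (CommRingCat.of K)) (bS : PS ⟶ Spec (CommRingCat.of RS))
    (cS : IsPullback aS bS (Spec.map (CommRingCat.ofHom κ) ≫ Hens2.specOf S (f.base x) RS) (Hens2.specOf S (f.base x) RS))
    (aX : PX ⟶ Spec (CommRingCat.of K)) (bX : PX ⟶ Spec (CommRingCat.of RX))
    (cX : IsPullback aX bX (Spec.map (CommRingCat.ofHom κ) ≫ Hens2.specOf S (f.base x) RS) (Hens2.specOf X x RX ≫ f))
    (m : PX ⟶ PS) (w : m ≫ aS = aX) (hm : m ≫ bS = bX ≫ Spec.map (CommRingCat.ofHom ψ))
    [PreservesFiniteLimits (EtCoh.pull m)] :
    Function.Bijective (EtCore.HpullVia m aS aX w F q) ↔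
      ∀ (κ' : RS →+* K), κ'.comp (algebraMap (S.presheaf.stalk (f.base x)) RS) =
          κ.comp (algebraMap (S.presheaf.stalk (f.base x)) RS) →
        ∀ (Q' : Scheme.{u}) (aQ' : Q' ⟶ Spec (CommRingCat.of K)) (bQ' : Q' ⟶ Spec (CommRingCat.of RX)),
          IsPullback aQ' bQ' (Spec.map (CommRingCat.ofHom κ')) (Spec.map (CommRingCat.ofHom ψ)) →
          ∀ [PreservesFiniteLimits (EtCoh.pull aQ')], Function.Bijective (EtCore.Hpull aQ' F q) := by
  exact Groth.L27.StalkBC.fibre_criterion f x RS RX ψ hψ K κ F q PS PX aS bS cS aX bX cX m w hm

end Groth.Agent.S6670
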