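import Groth.Statements.S6671
import Groth.Agent.L27.EtSite.ConnBaseChange
import Groth.Agent.L27.TopInv.Hom
import Groth.Agent.L27.EtSite.BaseChangeIso

set_option autoImplicit false
universe u
open CategoryTheory CategoryTheory.Limits AlgebraicGeometry Opposite
open EtBC
set_option backward.isDefEq.respectTransparency.types false

namespace Groth.Agent.S6671

/-- Let Y = X ×_S T be a cartesian square of schemes with f : X → S flat, g : T → S, h : Y → X, e : Y →
T. Assume that every etale X-scheme U has a jointly surjective family of morphisms of etale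
X-schemes U_i → U such that each composite U_i → S factors as a quasi-compact morphism a_i : U_i →
V_i with geometrically connected fibres followed by an etale morphism V_i → S. Then for every sheaf
of sets F on the small etale site of T the base change map f⁻¹ g_* F → h_* e⁻¹ F is an isomorphism. -/
theorem result {X S Y T : Scheme.{u}} (f : X ⟶ S) [Flat f]
    (g : T ⟶ S) (h : Y ⟶ X) (e : Y ⟶ T) (c : IsPullback e h g f)
    (hcov : ∀ U : X.Etale, ∃ (ι : Type u) (Uc : ι → X.Etale) (mU : ∀ i, Uc i ⟶ U),
      (∀ y : U.left, ∃ (i : ι) (z : (Uc i).left), (mU i).left.base z = y) ∧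
      ∀ i, ∃ (V : S.Etale) (a : (Uc i).left ⟶ V.left),
        a ≫ V.hom = (Uc i).hom ≫ f ∧ QuasiCompact a ∧ GeometricallyConnected a)
    (F : EtDesc.Sh T) :
    IsIso (EtBC.baseChange0Sh g f h e c.w F) := by
  have hpost : MorphismProperty.HasOfPostcompProperty @Flat.{u} @AlgebraicGeometry.Etale.{u} :=
    MorphismProperty.hasOfPostcompProperty_iff_le_diagonal.2 fun X₁ Y₁ d hd => by
      haveI : AlgebraicGeometry.Etale d := hd
      exact (inferInstance : Flat (pullback.diagonal d))
  have hgood : ∀ (U : X.Etale) (x : U.left), ∃ (U₁ : X.Etale) (p : U₁ ⟶ U) (x₁ : U₁.left) (V : S.Etale)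
      (m : U₁ ⟶ (EtCoh.bc f).obj V), p.left.base x₁ = x ∧ Groth.L27.EtSite.CBC.Good m := by
    intro U x
    obtain ⟨ι, Uc, mU, hsur, hfac⟩ := hcov U
    obtain ⟨i, z, hz⟩ := hsur x
    obtain ⟨V, a, ha, hqc, hconn⟩ := hfac i
    let m : Uc i ⟶ (EtCoh.bc f).obj V :=
      MorphismProperty.Over.homMk (pullback.lift a (Uc i).hom ha) (pullback.lift_snd _ _ _)
    refine ⟨Uc i, mU i, z, V, m, hz, ?_⟩
    have hb : Groth.L27.EtSite.CM.bot m = a := pullback.lift_fst _ _ _
    haveI : AlgebraicGeometry.Etale (Uc i).hom := (Uc i).prop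
    haveI : AlgebraicGeometry.Etale V.hom := V.prop
    haveI : Flat (a ≫ V.hom) := ha ▸ inferInstance
    haveI : Flat a := MorphismProperty.of_postcomp (W := @Flat) (W' := @AlgebraicGeometry.Etale) a V.hom inferInstance inferInstance
    haveI := hqc
    haveI := hconn
    haveI : Surjective a := inferInstance
    refine ⟨hb ▸ Groth.L27.TopInv.univSubmersive_of_fpqc a, fun Ω _ _ η => ?_⟩
    haveI : ConnectedSpace ↥(pullback a η) := pullback_of_geometrically hconn.geometrically_connectedSpace Ω η
    exact (pullback.congrHom hb (rfl : η = η)).inv.homeomorph.surjective.connectedSpace (pullback.congrHom hb (rfl : η = η)).inv.continuous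
  have hloc := Groth.L27.EtSite.CBC.isLocallyInjective_and_surjective c F (EtBC.baseChange0Sh g f h e c.w F)
    (fun V s => by
      rw [EtBC.baseChange0Sh, Equiv.apply_symm_apply, Groth.L27.EtSite.BC.psi, ← Groth.L27.EtSite.BC.swap_eq c.w V]
      exact Groth.L27.EtSite.BC.map_map_map (Groth.L27.EtSite.BC.P e F).obj _ _ _ _) hgood
  haveI : Sheaf.IsLocallyInjective (EtBC.baseChange0Sh g f h e c.w F) := hloc.1
  haveI : Sheaf.IsLocallySurjective (EtBC.baseChange0Sh g f h e c.w F) := hloc.2
  haveI := Sheaf.mono_of_isLocallyInjective (EtBC.baseChange0Sh g f h e c.w F)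
  haveI := (Sheaf.isLocallySurjective_iff_epi' (φ := EtBC.baseChange0Sh g f h e c.w F)).1 hloc.2
  exact isIso_of_mono_of_epi _

end Groth.Agent.S6671
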