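import Groth.Statements.S6675
import Groth.Agent.L23.PhCmp.Results

set_option backward.defeqAttrib.useBackward true
set_option backward.isDefEq.respectTransparency false
set_option backward.isDefEq.respectTransparency.types false
set_option linter.style.haveILetI false

set_option autoImplicit false
universe u
open CategoryTheory CategoryTheory.Limits AlgebraicGeometry Opposite
open HTop

namespace Groth.Agent.S6675

/-- Let X be a scheme and F a torsion abelian sheaf on the small etale site of X. Write a_X⁻¹ F for its
pullback to the big ph site of X, ε_X,_* for restriction from the big ph site to the big etale site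
of X (the identity on underlying presheaves) and π_X⁻¹ F for the pullback of F to the big etale
site. Then ε_X,_* (a_X⁻¹ F) is isomorphic to π_X⁻¹ F (existence of an isomorphism) and R^i ε_X,_*
(a_X⁻¹ F) = 0 for every i > 0. (Continuity of the comparison functors is carried as instance
hypotheses.) -/
theorem result (X : Scheme.{u}) [HTop.APhCont X] [HTop.EpsPhCont X] (F : EtCoh.Ab X)
    (hF : EtCoh.IsTorsion F) :
    Nonempty ((HTop.epsPhPush X).obj ((HTop.aPhPull X).obj F) ≅
      ((Scheme.Etale.forget X).sheafPullback AddCommGrpCat.{u + 1} X.smallEtaleTopology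
        (Scheme.etaleTopology.over X)).obj F) ∧
    ∀ i : ℕ, 0 < i → IsZero ((HTop.RepsPhPush X i).obj ((HTop.aPhPull X).obj F)) := by
  refine ⟨⟨?_⟩, fun i hi => ?_⟩
  · exact ((Groth.L23.PhCmp.incl X).mapIso ((Groth.L23.PhCmp.aPhPullIso X).app F).symm) ≪≫
      (@asIso _ _ _ _ _ (Groth.L23.PhCmp.isIso_unit_eps (Groth.L10.EtDescent.inImg_piEtPull F))).symm
  · obtain ⟨k, rfl⟩ := Nat.exists_eq_succ_of_ne_zero hi.ne'
    let L := injectiveResolution ((HTop.aPhPull X).obj F)
    refine IsZero.of_iso ?_ (L.isoRightDerivedObj (HTop.epsPhPush X) (k + 1))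
    rw [HomologicalComplex.homologyFunctor_obj, ← HomologicalComplex.exactAt_iff_isZero_homology]
    exact ((Groth.L23.PhCmp.inclN L).extend_exactAt_iff ComplexShape.embeddingUpNat (j := k + 1) rfl).1
      (Groth.L23.PhCmp.exactAt_inclZ L (Groth.L23.PhCmp.inImg_aPhPull F)
        (Groth.L23.PhCmp.isTorsion_res_aPhPull F hF) ((k + 1 : ℕ) : ℤ) (by omega))

end Groth.Agent.S6675
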