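import Groth.Statements.S6679
import Groth.Agent.L23.HCmp.Results

set_option backward.defeqAttrib.useBackward true
set_option backward.isDefEq.respectTransparency false
set_option backward.isDefEq.respectTransparency.types false
set_option linter.style.haveILetI false


set_option autoImplicit false
universe u
open CategoryTheory CategoryTheory.Limits AlgebraicGeometry Opposite
open HTop

namespace Groth.Agent.S6679

/-- For an abelian sheaf: let S be a scheme, F an abelian sheaf on the small etale site of S and f : X →
S a scheme over S. Then the value at (X → S) of the pullback a_S⁻¹ F of F to the big h site of S is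
isomorphic, as an abelian group, to the group of global sections of f⁻¹ F on the small etale site of
X. (Existence of an isomorphism; the continuity of the comparison functor from the small etale site
to the big h site is carried as an instance hypothesis.) -/
theorem result (S : Scheme.{u}) [HTop.AHCont S] (F : EtCoh.Ab S)
    {X : Scheme.{u}} (f : X ⟶ S) :
    Nonempty (((HTop.aHPull S).obj F).obj.obj (op (Over.mk f)) ≅
      ((EtCoh.pull f).obj F).obj.obj (op (EtCoh.top X))) := by
  let e : (Groth.L23.HCmp.incl S).obj ((HTop.aHPull S).obj F) ≅
      (BigSite.piEtPull Scheme.etalePrecoverage S).obj F :=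
    ((Groth.L23.HCmp.incl S).mapIso ((Groth.L23.HCmp.aHPullIso S).app F).symm) ≪≫
      (@asIso _ _ _ _ _ (Groth.L23.HCmp.isIso_unit_eps (Groth.L10.EtDescent.inImg_piEtPull F))).symm
  let i : (Over.map f).obj ((EtFppf.a X).obj (EtCoh.top X)) ≅ Over.mk f :=
    Over.isoMk (Iso.refl _) ((Category.id_comp f).trans (Category.id_comp f).symm)
  exact ⟨(((sheafToPresheaf _ _).mapIso e).app (op (Over.mk f))) ≪≫
    ((BigSite.piEtPull Scheme.etalePrecoverage S).obj F).obj.mapIso i.op ≪≫
    (((sheafToPresheaf _ _).mapIso (Groth.L23.Big.resAlongPiIso f F)).app (op (EtCoh.top X)))⟩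

end Groth.Agent.S6679
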