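import Groth.Statements.S6689
import Groth.Agent.L28.Strata.EtMod
import Mathlib.Algebra.Homology.DerivedCategory.ExactFunctor
import Mathlib.Algebra.Homology.HomologicalComplexAbelian

set_option autoImplicit false
universe u
open CategoryTheory CategoryTheory.Limits AlgebraicGeometry Opposite
attribute [local instance] HasDerivedCategory.standard
open EtModD

namespace Groth.Agent.S6689

/-- Let Λ be a Noetherian ring, f : X → Y a morphism of schemes and K an object of D(Y_et, Λ) whose
cohomology sheaves are all constructible sheaves of Λ-modules. Then all cohomology sheaves of f⁻¹ K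
are constructible, where f⁻¹ on derived categories is induced by the exact inverse image functor on
sheaves of Λ-modules (its left exactness is carried as an instance hypothesis). -/
theorem result (Λ : Type (u + 1)) [CommRing Λ] [IsNoetherianRing Λ] {X Y : Scheme.{u}}
    (f : X ⟶ Y) [PreservesFiniteLimits (EtModW.pull Λ f)] (K : EtModD.D Λ Y)
    (hK : ∀ i : ℤ, EtModW.IsConstructible Λ (EtModD.HD K i)) (i : ℤ) :
    EtModW.IsConstructible Λ (EtModD.HD ((EtModW.pull Λ f).mapDerivedCategory.obj K) i) := by
  obtain ⟨L, ⟨e⟩⟩ : ∃ L : CochainComplex (EtModW.Mod Λ Y) ℤ, Nonempty (DerivedCategory.Q.obj L ≅ K) :=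
    ⟨_, ⟨DerivedCategory.Q.objObjPreimageIso K⟩⟩
  let H := DerivedCategory.homologyFunctor (EtModW.Mod Λ Y) i
  have e1 : EtModD.HD K i ≅ L.homology i :=
    (H.mapIso e).symm ≪≫ (DerivedCategory.homologyFunctorFactors _ i).app L
  have e2 : EtModD.HD ((EtModW.pull Λ f).mapDerivedCategory.obj K) i ≅ (EtModW.pull Λ f).obj (L.homology i) :=
    (DerivedCategory.homologyFunctor (EtModW.Mod Λ X) i).mapIso
      ((EtModW.pull Λ f).mapDerivedCategory.mapIso e.symm ≪≫ (EtModW.pull Λ f).mapDerivedCategoryFactors.app L) ≪≫
      (DerivedCategory.homologyFunctorFactors _ i).app _ ≪≫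
      (L.sc i).mapHomologyIso (EtModW.pull Λ f)
  exact Groth.L28.Strata.isConstructibleMod_of_iso e2.symm
    (Groth.L28.Strata.isConstructibleMod_pull f (Groth.L28.Strata.isConstructibleMod_of_iso e1 (hK i)))

end Groth.Agent.S6689
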