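import Groth.Statements.S6699
import Groth.Agent.L28.ExtShriekMod.Constr
import Mathlib.Algebra.Homology.DerivedCategory.Basic
import Mathlib.Algebra.Homology.SingleHomology

set_option linter.style.haveILetI false
set_option backward.isDefEq.respectTransparency.types false

set_option autoImplicit false
universe u
open CategoryTheory CategoryTheory.Limits AlgebraicGeometry Opposite
attribute [local instance] HasDerivedCategory.standard
open EtModD

namespace Groth.Agent.S6699

attribute [local instance] Abelian.hasFiniteBiproducts

/-- maps from a single complex inducing an epimorphism in homology -/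
theorem exists_map_single {A : Type*} [Category A] [Abelian A] (C : CochainComplex A ℤ) (b : ℤ) {F : A}
    (φ : F ⟶ C.cycles b) [Epi (φ ≫ C.homologyπ b)] :
    ∃ f : (HomologicalComplex.single A (ComplexShape.up ℤ) b).obj F ⟶ C, Epi (HomologicalComplex.homologyMap f b) := by
  let f : (HomologicalComplex.single A (ComplexShape.up ℤ) b).obj F ⟶ C :=
    HomologicalComplex.mkHomFromSingle (φ ≫ C.iCycles b) (fun j _ => by simp)
  refine ⟨f, ?_⟩
  have e : (HomologicalComplex.singleObjCyclesSelfIso (ComplexShape.up ℤ) b F).inv ≫ HomologicalComplex.cyclesMap f b = φ := by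
    rw [← cancel_mono (C.iCycles b), Category.assoc, HomologicalComplex.cyclesMap_i,
      HomologicalComplex.singleObjCyclesSelfIso_inv_iCycles_assoc]
    simp [f]
  have h : ((HomologicalComplex.singleObjCyclesSelfIso (ComplexShape.up ℤ) b F).inv ≫
      ((HomologicalComplex.single A (ComplexShape.up ℤ) b).obj F).homologyπ b) ≫ HomologicalComplex.homologyMap f b =
        φ ≫ C.homologyπ b := by
    rw [Category.assoc, HomologicalComplex.homologyπ_naturality, ← Category.assoc, e]
  haveI := epi_of_epi_fac h
  infer_instance

/-- Let X be a quasi-compact and quasi-separated scheme, Λ a Noetherian ring, K an object of D(X_et, Λ)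
and b an integer such that the b-th cohomology sheaf of K is a constructible sheaf of Λ-modules.
Then there exist finitely many affine schemes U_k with etale morphisms j_k : U_k → X and a morphism
φ : F[-b] → K in D(X_et, Λ), where F is the direct sum of the sheaves j_{k!} Λ (extension by zero of
the constant sheaf Λ on U_k) placed in degree b, such that the map induced by φ on b-th cohomology
sheaves is an epimorphism F → H^b(K). (Continuity of the functors V ↦ (V → U_k → X) between small
etale sites, true for every etale morphism, appears as an instance binder in front of the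
extension-by-zero terms.) -/
theorem result (Λ : Type (u + 1)) [CommRing Λ] [IsNoetherianRing Λ] (X : Scheme.{u})
    [CompactSpace X] [QuasiSeparatedSpace X] (K : EtModD.D Λ X) (b : ℤ)
    (hK : EtModW.IsConstructible Λ (EtModD.HD K b)) :
    ∃ (m : ℕ) (U : Fin m → Scheme.{u}) (j : ∀ k, U k ⟶ X) (_ : ∀ k, Etale (j k)) (_ : ∀ k, IsAffine (U k)),
      ∀ [∀ k, EtShriek.JCont (j k)],
        ∃ φ : (DerivedCategory.singleFunctor (EtModW.Mod Λ X) b).obj
              (∐ fun k => (EtSix.extZeroMod Λ (j k)).obj (EtSix.constΛ Λ (U k))) ⟶ K,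
          Epi ((DerivedCategory.homologyFunctor (EtModW.Mod Λ X) b).map φ) := by
  let C := DerivedCategory.Q.objPreimage K
  let e : DerivedCategory.Q.obj C ≅ K := DerivedCategory.Q.objObjPreimageIso K
  let eH : HD K b ≅ C.homology b := ((DerivedCategory.homologyFunctor _ b).mapIso e.symm) ≪≫
    (DerivedCategory.homologyFunctorFactors _ b).app C
  obtain ⟨m, U, hU, φ, hφ⟩ := Groth.L28.ExtShriekMod.exists_epi_lift (C.homologyπ b)
    (Groth.L28.Strata.isConstructibleMod_of_iso eH hK)
  refine ⟨m, fun k => (U k).left, fun k => (U k).hom, fun k => (U k).prop, hU, ?_⟩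
  intro _
  haveI := hφ
  haveI : Epi (((biproduct.isoCoproduct (fun k => Groth.L28.ExtShriekMod.sh Λ (U k))).inv ≫ φ) ≫ C.homologyπ b) :=
    (Category.assoc (biproduct.isoCoproduct (fun k => Groth.L28.ExtShriekMod.sh Λ (U k))).inv φ (C.homologyπ b)).symm ▸
      epi_comp (biproduct.isoCoproduct (fun k => Groth.L28.ExtShriekMod.sh Λ (U k))).inv (φ ≫ C.homologyπ b)
  obtain ⟨f, hf⟩ := exists_map_single C b ((biproduct.isoCoproduct (fun k => Groth.L28.ExtShriekMod.sh Λ (U k))).inv ≫ φ)
  haveI := hf
  refine ⟨DerivedCategory.Q.map f ≫ e.hom, ?_⟩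
  have h : Epi ((DerivedCategory.homologyFunctor (EtModW.Mod Λ X) b).map (DerivedCategory.Q.map f)) :=
    ((MorphismProperty.epimorphisms _).arrow_mk_iso_iff
      (((Functor.mapArrowFunctor _ _).mapIso (DerivedCategory.homologyFunctorFactors (EtModW.Mod Λ X) b)).app (Arrow.mk f))).2 hf
  rw [Functor.map_comp]
  exact @epi_comp _ _ _ _ _ _ h _ inferInstance

end Groth.Agent.S6699
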