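import Groth.Statements.S6700
import Groth.Agent.L28.ExtShriekMod.Resolution

set_option backward.isDefEq.respectTransparency.types false
set_option linter.style.haveILetI false

set_option autoImplicit false
universe u
open CategoryTheory CategoryTheory.Limits AlgebraicGeometry Opposite
attribute [local instance] HasDerivedCategory.standard
open EtModD

namespace Groth.Agent.S6700

/-- (1) ⇔ (2): let X be a quasi-compact and quasi-separated scheme, Λ a Noetherian ring and K an object
of D(X_et, Λ) which is bounded above. Then every cohomology sheaf of K is a constructible sheaf of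
Λ-modules if and only if K is isomorphic, in D(X_et, Λ), to the image of a bounded above complex of
sheaves of Λ-modules each of whose terms is isomorphic to a finite direct sum of sheaves j_! Λ,
extensions by zero of the constant sheaf Λ along etale morphisms j : U → X with U affine. (A third
equivalent condition, representability by a bounded above complex of flat constructible sheaves of
Λ-modules, is not included. Continuity of the functors V ↦ (V → U → X) between small etale sites,
true for every etale morphism, appears as an instance binder in front of the extension-by-zero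
terms.) -/
theorem result (Λ : Type (u + 1)) [CommRing Λ]
    [IsNoetherianRing Λ] (X : Scheme.{u}) [CompactSpace X] [QuasiSeparatedSpace X] (K : EtModD.D Λ X) (n : ℤ)
    [K.IsLE n] :
    (∀ i : ℤ, EtModW.IsConstructible Λ (EtModD.HD K i)) ↔
      ∃ (C : CochainComplex (EtModW.Mod Λ X) ℤ) (c : ℤ),
        (∀ i : ℤ, c < i → IsZero (C.X i)) ∧
        (∀ i : ℤ, ∃ (m : ℕ) (U : Fin m → Scheme.{u}) (j : ∀ k, U k ⟶ X) (_ : ∀ k, Etale (j k))
            (_ : ∀ k, IsAffine (U k)),
            ∀ [∀ k, EtShriek.JCont (j k)],
              Nonempty (C.X i ≅ ∐ fun k => (EtSix.extZeroMod Λ (j k)).obj (EtSix.constΛ Λ (U k)))) ∧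
        Nonempty (DerivedCategory.Q.obj C ≅ K) := by
  haveI := CategoryTheory.Abelian.hasFiniteBiproducts (C := EtModW.Mod Λ X)
  let eH : ∀ (C : CochainComplex (EtModW.Mod Λ X) ℤ) (i : ℤ), HD (DerivedCategory.Q.obj C) i ≅ C.homology i :=
    fun C i => (DerivedCategory.homologyFunctorFactors (EtModW.Mod Λ X) i).app C
  constructor
  · intro hK
    let C₀ := DerivedCategory.Q.objPreimage K
    let e : DerivedCategory.Q.obj C₀ ≅ K := DerivedCategory.Q.objObjPreimageIso K
    let eK : ∀ i, HD K i ≅ C₀.homology i := fun i =>
      (DerivedCategory.homologyFunctor (EtModW.Mod Λ X) i).mapIso e.symm ≪≫ eH C₀ i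
    obtain ⟨L, α, hα, hL, hP⟩ := Groth.L28.ExtShriekMod.exists_resolution C₀
      (fun i => Groth.L28.Strata.isConstructibleMod_of_iso (eK i) (hK i)) (n + 1)
      (fun i hi => (DerivedCategory.isZero_of_isLE K n i (by omega)).of_iso (eK i).symm)
    refine ⟨L, n, fun i hi => hL i (by omega), fun i => ?_, ?_⟩
    · obtain ⟨m, U, hU, ⟨ei⟩⟩ := hP i
      refine ⟨m, fun k => (U k).left, fun k => (U k).hom, fun k => (U k).prop, hU, ?_⟩
      intro _
      exact ⟨ei ≪≫ biproduct.isoCoproduct (fun k => Groth.L28.ExtShriekMod.sh Λ (U k))⟩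
    · haveI := hα
      exact ⟨asIso (DerivedCategory.Q.map α) ≪≫ e⟩
  · rintro ⟨C, c, -, hC, ⟨e⟩⟩ i
    refine Groth.L28.Strata.isConstructibleMod_of_iso
      ((eH C i).symm ≪≫ (DerivedCategory.homologyFunctor (EtModW.Mod Λ X) i).mapIso e)
      (Groth.L28.ExtShriekMod.isConstructible_homology C (fun k => ?_) i)
    obtain ⟨m, U, j, hj, hU, h⟩ := hC k
    haveI := fun k => Groth.L27.ExtZero.jCont (j k)
    obtain ⟨ek⟩ := h
    refine Groth.L28.Strata.isConstructibleMod_of_iso (ek ≪≫ (biproduct.isoCoproduct _).symm).symm
      (Groth.L28.ExtShriekMod.isConstructible_biproduct _ fun l => ?_)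
    haveI := hU l
    exact Groth.L28.ExtShriekMod.isConstructible_extZero_constΛ (j l)

end Groth.Agent.S6700
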