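import Groth.Statements.S6707
import Groth.Agent.L29.Sib.Eff

set_option autoImplicit false
set_option backward.isDefEq.respectTransparency false
universe w v u
open CategoryTheory
open DEquiv

namespace Groth.Agent.S6707

open CategoryTheory.Limits in
/-- Let A be an abelian category in which every object X is the target of an epimorphism N ⟶ X with
Hom(X, N) = 0. Let f : X ⟶ X' be a morphism between bounded objects of D(A) and b an integer with
H^i(X) = 0 for i > b and H^i(X') = 0 for i ≥ b. Then there exist an object N of A and a morphism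
N⟦-b⟧ ⟶ X (N placed in degree b) inducing an epimorphism N ⟶ H^b(X), with Hom(H^b(X), N) = 0, and
whose composite with f is zero. -/
theorem result
    {A : Type u} [Category.{v} A] [Abelian A] [HasDerivedCategory.{w} A]
    (hneg : ∀ X : A, ∃ (N : A) (p : N ⟶ X), Epi p ∧ ∀ f : X ⟶ N, f = 0)
    (X X' : DerivedCategory A) (f : X ⟶ X') (a b a' : ℤ) [X.IsGE a] [X.IsLE b] [X'.IsGE a']
    [X'.IsLE (b - 1)] :
    ∃ (N : A) (g : (DerivedCategory.singleFunctor A b).obj N ⟶ X),
      Epi ((DerivedCategory.homologyFunctor A b).map g) ∧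
        (∀ φ : (DerivedCategory.homologyFunctor A b).obj X ⟶ N, φ = 0) ∧ g ≫ f = 0 := by
  let b₀ := min (min a a') (b - 1)
  haveI h₁ : X.IsGE b₀ := DerivedCategory.TStructure.t.isGE_of_ge X b₀ a
  haveI h₂ : X'.IsGE b₀ := DerivedCategory.TStructure.t.isGE_of_ge X' b₀ a'
  let K : DerivedCategory.Bounded A := ⟨X, ⟨b₀, h₁⟩, ⟨b, inferInstance⟩⟩
  let K' : DerivedCategory.Bounded A := ⟨X', ⟨b₀, h₂⟩, ⟨b - 1, inferInstance⟩⟩
  have hK : Groth.L29.Sib.Amp K b₀ b := ⟨h₁, inferInstanceAs (X.IsLE b)⟩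
  have hK' : Groth.L29.Sib.Amp K' b₀ (b - 1) := ⟨h₂, inferInstanceAs (X'.IsLE (b - 1))⟩
  let f' : K ⟶ K' := Groth.L29.Sib.ι'.preimage f
  obtain ⟨X₀, i₀, hi₀⟩ := Groth.L29.Sib.exists_eff hK (show b₀ < b by omega)
  obtain ⟨E, p, hp, hpf⟩ := Groth.L29.Sib.exists_efface hK' (show b - 1 < b by omega) (i₀ ≫ f')
  let H := (DerivedCategory.homologyFunctor A b).obj X
  obtain ⟨N, π, hπ, hN⟩ := hneg (E ⊞ H)
  haveI : Epi (π ≫ biprod.fst ≫ p) := inferInstance
  let i := (Groth.L29.Sib.sg A b).map (π ≫ biprod.fst ≫ p) ≫ i₀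
  refine ⟨N, (Groth.L29.Sib.sgIso b N).inv ≫ Groth.L29.Sib.ι'.map i, ?_, fun φ => ?_, ?_⟩
  · haveI := (hi₀.comp_epi hK (by omega) (π ≫ biprod.fst ≫ p)).epi
    rw [Functor.map_comp]
    exact epi_comp _ _
  · have h := congrArg (biprod.inr ≫ ·) (hN (biprod.snd ≫ φ))
    simpa using h
  · have h0 : i ≫ f' = 0 := by
      simp only [i, Functor.map_comp, Category.assoc]
      rw [hpf, comp_zero, comp_zero]
    have h1 := congrArg (fun t => Groth.L29.Sib.ι'.map t) h0
    simp only [Functor.map_comp, Functor.map_zero, f', Functor.map_preimage] at h1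
    rw [Category.assoc]
    exact (congrArg (_ ≫ ·) h1).trans comp_zero

end Groth.Agent.S6707
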