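import Groth.Statements.S6708
import Mathlib.CategoryTheory.Triangulated.Pretriangulated

set_option autoImplicit false
universe v u
open CategoryTheory
open DEquiv

namespace Groth.Agent.S6708

open CategoryTheory.Limits CategoryTheory.Pretriangulated in
/-- Let D be a pretriangulated category, D' ⊆ D a full triangulated subcategory (given as a property of
objects that is triangulated in Mathlib's sense) and X an object of D. Then the category of arrows E
⟶ X with E in D' is filtered. -/
theorem result
    {D : Type u} [Category.{v} D] [Preadditive D] [HasZeroObject D] [HasShift D ℤ]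
    [∀ n : ℤ, (shiftFunctor D n).Additive] [Pretriangulated D]
    (P : ObjectProperty D) [P.IsTriangulated] (X : D) :
    IsFiltered (CostructuredArrow P.ι X) := by
  have hbi : ∀ E₁ E₂ : D, P E₁ → P E₂ → P.isoClosure (E₁ ⊞ E₂) := fun E₁ E₂ h₁ h₂ =>
    P.ext_of_isTriangulatedClosed₂' _ (binaryBiproductTriangle_distinguished E₁ E₂) h₁ h₂
  haveI : Nonempty (CostructuredArrow P.ι X) := by
    obtain ⟨Z, hZ, hPZ⟩ := P.exists_prop_of_containsZero
    exact ⟨CostructuredArrow.mk (Y := (⟨Z, hPZ⟩ : P.FullSubcategory)) (0 : Z ⟶ X)⟩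
  haveI : IsFilteredOrEmpty (CostructuredArrow P.ι X) := by
    refine ⟨fun a b => ?_, fun a b f g => ?_⟩
    · obtain ⟨E, hE, ⟨e⟩⟩ := hbi a.left.obj b.left.obj a.left.property b.left.property
      refine ⟨CostructuredArrow.mk (Y := (⟨E, hE⟩ : P.FullSubcategory)) (e.inv ≫ biprod.desc a.hom b.hom),
        CostructuredArrow.homMk (ObjectProperty.homMk (biprod.inl ≫ e.hom)) ?_,
        CostructuredArrow.homMk (ObjectProperty.homMk (biprod.inr ≫ e.hom)) ?_, trivial⟩
      · simp
      · simp
    · obtain ⟨C, p, w, hT⟩ := distinguished_cocone_triangle (f.left.hom - g.left.hom)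
      obtain ⟨C', hC', ⟨(e : C ≅ C')⟩⟩ := P.ext_of_isTriangulatedClosed₃' _ hT a.left.property b.left.property
      have hf : f.left.hom ≫ b.hom = a.hom := CostructuredArrow.w f
      have hg : g.left.hom ≫ b.hom = a.hom := CostructuredArrow.w g
      have h0 : (f.left.hom - g.left.hom) ≫ b.hom = 0 := by
        rw [Preadditive.sub_comp]; exact sub_eq_zero.2 (hf.trans hg.symm)
      obtain ⟨(h : C ⟶ X), (hh : b.hom = p ≫ h)⟩ := Triangle.yoneda_exact₂ _ hT b.hom h0
      refine ⟨CostructuredArrow.mk (Y := (⟨C', hC'⟩ : P.FullSubcategory)) (e.inv ≫ h),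
        CostructuredArrow.homMk (ObjectProperty.homMk (p ≫ e.hom)) ?_, ?_⟩
      · simp [hh]
      · apply CostructuredArrow.hom_ext
        apply ObjectProperty.hom_ext
        show f.left.hom ≫ p ≫ e.hom = g.left.hom ≫ p ≫ e.hom
        have hc : (f.left.hom - g.left.hom) ≫ p = 0 := comp_distTriang_mor_zero₁₂ _ hT
        rw [← sub_eq_zero, ← Preadditive.sub_comp, reassoc_of% hc, zero_comp]
  exact {}

end Groth.Agent.S6708
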