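import Groth.Statements.S6710
import Mathlib.Algebra.Module.FinitePresentation
import Mathlib.RingTheory.Support
import Mathlib.LinearAlgebra.Matrix.Adjugate
import Mathlib.RingTheory.Finiteness.Ideal

set_option autoImplicit false
set_option backward.isDefEq.respectTransparency.types false
set_option backward.isDefEq.respectTransparency false
set_option linter.style.haveILetI false
universe u v
open CategoryTheory
open FunMor

namespace Groth.Agent.S6710

/-- The statement for an affine scheme written in terms of modules: let A be a commutative ring, M a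
finitely presented A-module and N a nonzero A-module with Supp(N) ⊆ Supp(M). Then Hom_A(M, N) is
nonzero. -/
theorem result
    (A : Type u) [CommRing A] (M : Type v) [AddCommGroup M] [Module A M]
    [Module.FinitePresentation A M] (N : Type v) [AddCommGroup N] [Module A N] [Nontrivial N]
    (h : Module.support A N ⊆ Module.support A M) : Nontrivial (M →ₗ[A] N) := by
  classical
  obtain ⟨n, π, hπ⟩ := Module.Finite.exists_fin' A M
  obtain ⟨m, col, hcol⟩ := Submodule.fg_iff_exists_fin_generating_family.1
    (Module.FinitePresentation.fg_ker π hπ)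
  let T : Matrix (Fin n) (Fin m) A := Matrix.of fun k j => col j k
  obtain ⟨x, hx⟩ := exists_ne (0 : N)
  let I : Ideal A := (Submodule.span A {x}).annihilator
  have hI : ∀ a, a ∈ I ↔ a • x = 0 := fun a => Submodule.mem_annihilator_span_singleton x a
  let J : Ideal A := Ideal.span (Set.range fun p : (Fin n → Fin n) × (Fin n → Fin m) =>
    (T.submatrix p.1 p.2).det)
  have hJrad : J ≤ I.radical := by
    rw [Ideal.radical_eq_sInf, le_sInf_iff]
    rintro q ⟨hIq, hq⟩
    rw [Ideal.span_le]
    rintro _ ⟨⟨f, g⟩, rfl⟩
    by_contra hd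
    simp only [SetLike.mem_coe] at hd
    have hf : Function.Bijective f := by
      rw [Finite.injective_iff_bijective.symm]
      intro a b hab
      by_contra hne
      exact hd (by
        rw [Matrix.det_zero_of_row_eq hne (funext fun c => by simp [Matrix.submatrix_apply, hab])]
        exact q.zero_mem)
    have hann : (T.submatrix f g).det ∈ Module.annihilator A M := by
      rw [Module.mem_annihilator]
      intro w
      obtain ⟨v, rfl⟩ := hπ w
      let a : Fin n → A := (T.submatrix f g).adjugate.mulVec fun k => v (f k)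
      have h1 : (T.submatrix f g).mulVec a = (T.submatrix f g).det • fun k => v (f k) := by
        simp only [a, Matrix.mulVec_mulVec, Matrix.mul_adjugate, Matrix.smul_mulVec,
          Matrix.one_mulVec]
      have h2 : (T.submatrix f g).det • v = ∑ l, a l • col (g l) := by
        funext i
        obtain ⟨k, rfl⟩ := hf.2 i
        have := congrFun h1 k
        simp only [Pi.smul_apply, smul_eq_mul, Matrix.mulVec, dotProduct, Matrix.submatrix_apply,
          T, Matrix.of_apply] at this
        rw [Pi.smul_apply, smul_eq_mul, ← this, Finset.sum_apply]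
        simp [mul_comm]
      rw [← map_smul, h2, map_sum]
      refine Finset.sum_eq_zero fun l _ => ?_
      have : col (g l) ∈ LinearMap.ker π := hcol ▸ Submodule.subset_span ⟨_, rfl⟩
      rw [map_smul, LinearMap.mem_ker.1 this, smul_zero]
    let P : PrimeSpectrum A := ⟨q, hq⟩
    have hN : P ∈ Module.support A N := by
      rw [Module.mem_support_iff_exists_annihilator]
      exact ⟨x, hIq⟩
    have hM := h hN
    rw [Module.support_eq_zeroLocus] at hM
    exact hd (hM hann)
  obtain ⟨K, hK⟩ := Ideal.exists_pow_le_of_le_radical_of_fg hJrad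
    (Submodule.fg_span (Set.finite_range _))
  have hex : ∃ K, ∀ a ∈ J ^ K, a • x = 0 := ⟨K, fun a ha => (hI a).1 (hK ha)⟩
  have hpos : Nat.find hex ≠ 0 := fun h0 =>
    hx (by simpa using Nat.find_spec hex 1 (by rw [h0]; simp))
  obtain ⟨K', hK'⟩ := Nat.exists_eq_succ_of_ne_zero hpos
  have hmin := Nat.find_min hex (m := K') (by omega)
  push Not at hmin
  obtain ⟨b, hb, hbx⟩ := hmin
  set y := b • x with hy
  have hkill : ∀ (f : Fin n → Fin n) (g : Fin n → Fin m), (T.submatrix f g).det • y = 0 := by
    intro f g
    rw [hy, smul_smul]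
    apply Nat.find_spec hex
    rw [hK', pow_succ']
    exact Ideal.mul_mem_mul (Ideal.subset_span ⟨(f, g), rfl⟩) hb
  let Q : ℕ → Prop := fun r => ∀ (f : Fin r → Fin n) (g : Fin r → Fin m),
    (T.submatrix f g).det • y = 0
  have hQ : ∃ r, Q r := ⟨n, hkill⟩
  have hQ0 : ¬ Q 0 := fun h0 => hbx (by simpa using h0 Fin.elim0 Fin.elim0)
  obtain ⟨r, hr⟩ := Nat.exists_eq_succ_of_ne_zero
    (show Nat.find hQ ≠ 0 from fun h0 => hQ0 (h0 ▸ Nat.find_spec hQ))
  have hle : Nat.find hQ ≤ n := Nat.find_min' hQ hkill
  have hrQ := Nat.find_min hQ (m := r) (by omega)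
  simp only [Q, not_forall] at hrQ
  obtain ⟨f, g, hfg⟩ := hrQ
  have hsucc : Q (r + 1) := by
    have h := Nat.find_spec hQ
    rwa [hr] at h
  obtain ⟨i, hi⟩ : ∃ i, i ∉ Set.range f := by
    by_contra hcon
    push Not at hcon
    have := Fintype.card_le_of_surjective f hcon
    simp at this
    omega
  let f' : Fin (r + 1) → Fin n := Fin.cons i f
  let c : Fin (r + 1) → A := fun k => (-1) ^ (k : ℕ) * (T.submatrix (f' ∘ k.succAbove) g).det
  let ψ : (Fin n → A) →ₗ[A] N := ∑ k, (LinearMap.proj (f' k)).smulRight (c k • y)
  have hψ : ∀ v, ψ v = ∑ k, (v (f' k) * c k) • y := by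
    intro v
    simp [ψ, mul_smul]
  have hker : LinearMap.ker π ≤ LinearMap.ker ψ := by
    rw [← hcol, Submodule.span_le]
    rintro _ ⟨j, rfl⟩
    rw [SetLike.mem_coe, LinearMap.mem_ker, hψ, ← Finset.sum_smul]
    have := hsucc f' (Fin.cons j g)
    rw [Matrix.det_succ_column_zero] at this
    refine Eq.trans ?_ this
    congr 1
    refine Finset.sum_congr rfl fun k _ => ?_
    have hsub : (T.submatrix f' (Fin.cons j g)).submatrix k.succAbove Fin.succ =
        T.submatrix (f' ∘ k.succAbove) g := by
      ext a b
      simp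
    simp only [Matrix.submatrix_apply, Fin.cons_zero, hsub, c, T, Matrix.of_apply]
    ring
  have hne : ψ (Pi.single i 1) ≠ 0 := by
    rw [hψ, Fin.sum_univ_succ]
    have h0 : ∀ k : Fin r, (Pi.single i (1 : A) : Fin n → A) (f k) = 0 := by
      intro k
      have : f k ≠ i := fun e => hi ⟨k, e⟩
      simp [this]
    simp [h0, f', c, Function.comp_def]
    simpa [f'] using hfg
  refine ⟨⟨((LinearMap.ker π).liftQ ψ hker).comp (π.quotKerEquivOfSurjective hπ).symm.toLinearMap,
    0, fun hz => hne ?_⟩⟩
  have := LinearMap.congr_fun hz (π (Pi.single i 1))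
  have e : (π.quotKerEquivOfSurjective hπ).symm (π (Pi.single i 1)) =
      Submodule.Quotient.mk (Pi.single i 1) := by
    rw [LinearEquiv.symm_apply_eq]
    rfl
  simpa [e] using this

end Groth.Agent.S6710
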