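import Groth.Statements.S6715
import Groth.Agent.L09.IndLan.ModFpClosed

set_option autoImplicit false
universe u v' u'
open CategoryTheory CategoryTheory.Limits
open FunMor

set_option backward.isDefEq.respectTransparency false
set_option backward.isDefEq.respectTransparency.types false

namespace Groth.Agent.S6715

/-- Let A be a commutative ring and B an additive category with filtered colimits. Let F' be a functor
from A-modules to B commuting with filtered colimits whose restriction to the full subcategory of
finitely presented A-modules is additive (F' is then the extension of that restriction). Then F' is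
additive and preserves all small direct sums. -/
theorem result
    (A : Type u) [CommRing A] {B : Type u'} [Category.{v'} B] [Preadditive B] [HasFiniteBiproducts B]
    [HasFilteredColimitsOfSize.{u, u} B]
    (F' : ModuleCat.{u} A ⥤ B) [PreservesFilteredColimitsOfSize.{u, u} F']
    [(ObjectProperty.ι (fun M : ModuleCat.{u} A => Module.FinitePresentation A M) ⋙ F').Additive] :
    F'.Additive ∧ ∀ J : Type u, PreservesColimitsOfShape (Discrete J) F' := by
  have hP := fun M => Groth.L09.IndLan.isFinitelyPresentable_fp (A := A) M
  have hgen := fun M => Groth.L09.IndLan.ind_fp (A := A) M
  haveI : F'.Additive := Groth.L09.IndLan.Acc.additive (P := Groth.L09.IndLan.fpMod A) hP hgen F'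
  exact ⟨inferInstance, Groth.L09.IndLan.Acc.preserves_coproducts (P := Groth.L09.IndLan.fpMod A) hP hgen F'⟩

end Groth.Agent.S6715
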