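import Groth.Statements.S6717
import Groth.Agent.L07.BoxSurj.Basic

set_option autoImplicit false
set_option linter.style.haveILetI false
set_option backward.isDefEq.respectTransparency.types false
universe u
open CategoryTheory AlgebraicGeometry
open DEquiv

namespace Groth.Agent.S6717

open CategoryTheory.Limits in
/-- Let R be a commutative ring and X, Y quasi-compact and quasi-separated schemes over R which have the
resolution property. Then for every quasi-coherent O-module F of finite type on X ×_R Y there are a
finite locally free O_X-module E, a finite locally free O_Y-module G and an epimorphism pr_1^* E ⊗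
pr_2^* G ⟶ F. -/
theorem result
    (R : Type u) [CommRing R] (X Y : Scheme.{u}) [X.Over (Spec (.of R))] [Y.Over (Spec (.of R))]
    [CompactSpace X] [QuasiSeparatedSpace X] [CompactSpace Y] [QuasiSeparatedSpace Y]
    (hX : PerfAux.HasResolutionProperty X) (hY : PerfAux.HasResolutionProperty Y)
    (F : (pullback (X ↘ Spec (.of R)) (Y ↘ Spec (.of R))).Modules) (hF : Coh.IsQCoh F) (hF' : CohB1.IsFT F) :
    ∃ (E : X.Modules) (G : Y.Modules), FlatMod.IsFinLocFree E ∧ FlatMod.IsFinLocFree G ∧
      ∃ π : CohB1.tensorMod
          ((Scheme.Modules.pullback (pullback.fst (X ↘ Spec (.of R)) (Y ↘ Spec (.of R)))).obj E)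
          ((Scheme.Modules.pullback (pullback.snd (X ↘ Spec (.of R)) (Y ↘ Spec (.of R)))).obj G) ⟶ F,
        Epi π := by
  set p1 := pullback.fst (X ↘ Spec (CommRingCat.of R)) (Y ↘ Spec (CommRingCat.of R))
  set p2 := pullback.snd (X ↘ Spec (CommRingCat.of R)) (Y ↘ Spec (CommRingCat.of R))
  haveI : QuasiCompact (X ↘ Spec (CommRingCat.of R)) := (quasiCompact_iff_compactSpace _).2 inferInstance
  haveI : QuasiCompact (Y ↘ Spec (CommRingCat.of R)) := (quasiCompact_iff_compactSpace _).2 inferInstance
  haveI : QuasiSeparated (X ↘ Spec (CommRingCat.of R)) :=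
    (quasiSeparated_iff_quasiSeparatedSpace _).2 inferInstance
  haveI : QuasiSeparated (Y ↘ Spec (CommRingCat.of R)) :=
    (quasiSeparated_iff_quasiSeparatedSpace _).2 inferInstance
  haveI : QuasiCompact p1 := MorphismProperty.pullback_fst _ _ inferInstance
  haveI : QuasiCompact p2 := MorphismProperty.pullback_snd _ _ inferInstance
  haveI : QuasiSeparated p1 := MorphismProperty.pullback_fst _ _ inferInstance
  haveI : QuasiSeparated p2 := MorphismProperty.pullback_snd _ _ inferInstance
  haveI : CompactSpace (pullback (X ↘ Spec (CommRingCat.of R)) (Y ↘ Spec (CommRingCat.of R)) :) :=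
    QuasiCompact.compactSpace_of_compactSpace p1
  haveI : QuasiSeparatedSpace (pullback (X ↘ Spec (CommRingCat.of R)) (Y ↘ Spec (CommRingCat.of R)) :) :=
    quasiSeparatedSpace_of_quasiSeparated p1
  exact Groth.L07.BoxSurj.exists_box_epi p1 p2 (IsPullback.of_hasPullback _ _) hX hY F hF hF'

end Groth.Agent.S6717
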