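import Groth.Statements.S6721
import Groth.Agent.L29.DCoh.RegExtVanish

set_option autoImplicit false
universe u
open CategoryTheory AlgebraicGeometry
attribute [local instance] HasDerivedCategory.standard
open DEquiv

namespace Groth.Agent.S6721

/-- Let X be a Noetherian scheme all of whose local rings are regular and whose underlying space has
Krull dimension d. Let K be a bounded object of D(O_X) with coherent cohomology sheaves and a ∈ ℤ
with H^i(K) = 0 for a < i < a + d. Then the connecting morphism τ_{≥ a+d} K ⟶ (τ_{< a+d} K)⟦1⟧ of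
the truncation triangle vanishes (note τ_{< a+d} K = τ_{≤ a} K here), so K decomposes as τ_{≤ a} K ⊕
τ_{≥ a+d} K. -/
theorem result
    (X : Scheme.{u}) [IsNoetherian X] (hreg : Models.IsRegularScheme X) (d : ℕ)
    (hd : topologicalKrullDim X = d) (K : DCoh.D X) (hK : DCoh.IsCohD K) (lo hi : ℤ)
    [DerivedCategory.IsGE K lo] [DerivedCategory.IsLE K hi] (a : ℤ)
    (hgap : ∀ i : ℤ, a < i → i < a + d → Limits.IsZero (DCoh.HD K i)) :
    (DerivedCategory.TStructure.t.truncGEδLT (a + d)).app K = 0 := by
  let t := DerivedCategory.TStructure.t (C := X.Modules)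
  haveI hLA : ((t.truncLT (a + d)).obj K).IsLE a := by
    rw [DerivedCategory.isLE_iff]
    intro i hi'
    by_cases h : i < a + d
    · haveI := Groth.L10.isIso_H_ι (a + d) i h K
      exact Limits.IsZero.of_iso (hgap i hi' h)
        (asIso ((DerivedCategory.homologyFunctor X.Modules i).map ((t.truncLTι (a + d)).app K)))
    · exact Groth.L10.isZero_H_LT (a + d) i (by omega) K
  haveI : ((t.truncLT (a + d)).obj K).IsGE lo := inferInstance
  haveI : ((t.truncGE (a + d)).obj K).IsLE hi := inferInstance
  haveI : ((t.truncGE (a + d)).obj K).IsGE (a + d) := inferInstance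
  have hK' := Groth.L29.DC.RegExt.isCohD_trunc hK (a + d)
  let L := (shiftFunctor (DCoh.D X) (1 : ℤ)).obj ((t.truncLT (a + d)).obj K)
  have hL : DCoh.IsCohD L := fun m =>
    Groth.L16.CohSupport.isCoh_of_iso (Groth.L10.hShiftIso _ 1 m (m + 1) (by omega)).symm (hK'.1 (m + 1))
  haveI : L.IsLE (a - 1) := t.isLE_shift _ a 1 (a - 1) (by omega)
  haveI : L.IsGE (lo - 1) := t.isGE_shift _ lo 1 (lo - 1) (by omega)
  exact Groth.L29.DC.RegExt.hom_bounded hreg hd.le L (lo - 1) (a - 1) hL (hi + 1 - (a + d)).toNat
    ((t.truncGE (a + d)).obj K) (a + d) hi hK'.2 inferInstance inferInstance (by omega) (by omega) _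

end Groth.Agent.S6721
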