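import Groth.Statements.S6725
import Mathlib.CategoryTheory.Preadditive.LeftExact
import Mathlib.Algebra.Module.FinitePresentation
import Mathlib.LinearAlgebra.StdBasis
import Mathlib.Algebra.Category.ModuleCat.Basic
import Mathlib.CategoryTheory.Preadditive.Biproducts

set_option autoImplicit false
universe u v' u'
open CategoryTheory CategoryTheory.Limits
open FunMor

namespace Groth.Agent.S6725

section

variable {A : Type u} [CommRing A] {B : Type u'} [Category.{v'} B] [Preadditive B] {K : B} (κ : A →+* End K)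

/-- Morphisms out of `K`, as a module through `κ`. -/
def HomK (_ : A →+* End K) (Y : B) : Type v' := K ⟶ Y

instance (Y : B) : AddCommGroup (HomK κ Y) := inferInstanceAs (AddCommGroup (K ⟶ Y))

instance (Y : B) : Module A (HomK κ Y) where
  smul a f := (κ a : K ⟶ K) ≫ (f : K ⟶ Y)
  one_smul f := by
    change (κ 1 : K ⟶ K) ≫ (f : K ⟶ Y) = f
    rw [map_one]
    exact Category.id_comp (obj := B) (f : K ⟶ Y)
  mul_smul a b f := by
    change (κ (a * b) : K ⟶ K) ≫ (f : K ⟶ Y) = (κ a : K ⟶ K) ≫ ((κ b : K ⟶ K) ≫ (f : K ⟶ Y))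
    rw [mul_comm a b, map_mul]
    exact Category.assoc (κ a : K ⟶ K) (κ b : K ⟶ K) (f : K ⟶ Y)
  smul_zero a := comp_zero
  smul_add a f g := Preadditive.comp_add _ _ _ _ _ _
  add_smul a b f := by
    change (κ (a + b) : K ⟶ K) ≫ (f : K ⟶ Y) = (κ a : K ⟶ K) ≫ (f : K ⟶ Y) + (κ b : K ⟶ K) ≫ (f : K ⟶ Y)
    rw [map_add]
    exact Preadditive.add_comp _ _ _ _ _ _
  zero_smul f := by
    change (κ 0 : K ⟶ K) ≫ (f : K ⟶ Y) = 0
    rw [map_zero]
    exact zero_comp

/-- Postcomposition. -/
def post {Y Y' : B} (g : Y ⟶ Y') : HomK κ Y →ₗ[A] HomK κ Y' where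
  toFun f := (f : K ⟶ Y) ≫ g
  map_add' f f' := Preadditive.add_comp _ _ _ _ _ _
  map_smul' a f := Category.assoc _ _ _

/-- An object of `B` corepresenting `Y ↦ Hom_A(M, Hom(K, Y))`. -/
structure Rep (M : Type u) [AddCommGroup M] [Module A M] where
  obj : B
  u : M →ₗ[A] HomK κ obj
  bij : ∀ Y : B, Function.Bijective fun g : obj ⟶ Y => (post κ g).comp u

theorem nonempty_rep [HasFiniteBiproducts B] [HasCokernels B] (M : Type u) [AddCommGroup M] [Module A M]
    [Module.FinitePresentation A M] : Nonempty (Rep κ M) := by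
  classical
  obtain ⟨n, π, hπ⟩ := Module.Finite.exists_fin' A M
  obtain ⟨m, r, hr⟩ := Submodule.fg_iff_exists_fin_generating_family.1 (Module.FinitePresentation.fg_ker π hπ)
  let Φ : biproduct (fun _ : Fin m => K) ⟶ biproduct (fun _ : Fin n => K) :=
    biproduct.desc fun j => ∑ l, (κ (r j l) : K ⟶ K) ≫ biproduct.ι (fun _ : Fin n => K) l
  let pl : ∀ (Y : B), (Fin n → HomK κ Y) → ((Fin n → A) →ₗ[A] HomK κ Y) := fun Y w =>
    (Pi.basisFun A (Fin n)).constr A w
  have hpl : ∀ Y w (v : Fin n → A), pl Y w v = ∑ l, v l • w l := fun Y w v => by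
    simp [pl, Module.Basis.constr_apply_fintype]
  let w₀ : Fin n → HomK κ (cokernel Φ) := fun l => biproduct.ι (fun _ : Fin n => K) l ≫ cokernel.π Φ
  have hrel : ∀ (Y : B) (w : Fin n → HomK κ Y) (j : Fin m),
      (biproduct.ι (fun _ : Fin m => K) j ≫ Φ ≫ biproduct.desc (fun l => (w l : K ⟶ Y)) : K ⟶ Y) = pl Y w (r j) := by
    intro Y w j
    rw [hpl, biproduct.ι_desc_assoc, Preadditive.sum_comp]
    refine Finset.sum_congr rfl fun l _ => ?_
    refine (Category.assoc _ _ _).trans ?_
    exact congrArg ((κ (r j l) : K ⟶ K) ≫ ·) (biproduct.ι_desc (fun l => (w l : K ⟶ Y)) l)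
  have hker : LinearMap.ker π ≤ LinearMap.ker (pl _ w₀) := by
    rw [← hr, Submodule.span_le]
    rintro _ ⟨j, rfl⟩
    rw [SetLike.mem_coe, LinearMap.mem_ker, ← hrel, show biproduct.desc (fun l => (w₀ l : K ⟶ cokernel Φ)) = cokernel.π Φ from
      biproduct.hom_ext' _ _ fun l => biproduct.ι_desc _ _, cokernel.condition, comp_zero]
    rfl
  let e := π.quotKerEquivOfSurjective hπ
  let u₀ : M →ₗ[A] HomK κ (cokernel Φ) := ((LinearMap.ker π).liftQ _ hker).comp e.symm.toLinearMap
  have hu : ∀ v, u₀ (π v) = pl _ w₀ v := by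
    intro v
    change (LinearMap.ker π).liftQ _ hker (e.symm (π v)) = _
    rw [show π v = e (Submodule.Quotient.mk v) from rfl, LinearEquiv.symm_apply_apply, Submodule.liftQ_apply]
  have hu1 : ∀ l, u₀ (π (Pi.single l 1)) = w₀ l := fun l => by
    rw [hu, hpl, Finset.sum_eq_single l (fun b _ hb => by rw [Pi.single_eq_of_ne hb, zero_smul])
      (fun h => absurd (Finset.mem_univ l) h), Pi.single_eq_same, one_smul]
  refine ⟨⟨cokernel Φ, u₀, fun Y => ⟨fun g g' hg => ?_, fun φ => ?_⟩⟩⟩
  · refine coequalizer.hom_ext (biproduct.hom_ext' _ _ fun l => ?_)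
    have h := LinearMap.congr_fun hg (π (Pi.single l 1))
    simp only [LinearMap.comp_apply, hu1] at h
    change (biproduct.ι (fun _ : Fin n => K) l ≫ cokernel.π Φ) ≫ g = (biproduct.ι (fun _ : Fin n => K) l ≫ cokernel.π Φ) ≫ g' at h
    rwa [Category.assoc, Category.assoc] at h
  · let w : Fin n → HomK κ Y := fun l => φ (π (Pi.single l 1))
    have hw : pl Y w = φ.comp π := (Pi.basisFun A (Fin n)).ext fun l => by
      rw [Module.Basis.constr_basis, LinearMap.comp_apply, Pi.basisFun_apply]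
    have hΦ : Φ ≫ biproduct.desc (fun l => (w l : K ⟶ Y)) = 0 := by
      refine biproduct.hom_ext' _ _ fun j => ?_
      rw [hrel, hw, LinearMap.comp_apply, show π (r j) = 0 from
        LinearMap.mem_ker.1 (hr ▸ Submodule.subset_span ⟨j, rfl⟩), map_zero, comp_zero]
      rfl
    refine ⟨cokernel.desc Φ _ hΦ, ?_⟩
    change (post κ (cokernel.desc Φ _ hΦ)).comp u₀ = φ
    refine LinearMap.ext fun x => ?_
    obtain ⟨v, rfl⟩ := hπ x
    have h2 : ((post κ (cokernel.desc Φ _ hΦ)).comp u₀).comp π = φ.comp π := by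
      refine (Pi.basisFun A (Fin n)).ext fun l => ?_
      rw [Pi.basisFun_apply]
      change ((u₀ (π (Pi.single l 1)) : K ⟶ cokernel Φ) ≫ cokernel.desc Φ _ hΦ : K ⟶ Y) = φ (π (Pi.single l 1))
      rw [hu1]
      refine ((Category.assoc _ _ _).trans (congrArg (biproduct.ι (fun _ : Fin n => K) l ≫ ·) (cokernel.π_desc _ _ _))).trans ?_
      exact biproduct.ι_desc (fun l => (w l : K ⟶ Y)) l
    exact LinearMap.congr_fun h2 v

variable [HasFiniteBiproducts B] [HasCokernels B]

/-- Finitely presented modules. -/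
abbrev FP (A : Type u) [CommRing A] := ObjectProperty.FullSubcategory (fun M : ModuleCat.{u} A => Module.FinitePresentation A M)

instance (M : FP A) : Module.FinitePresentation A M.obj := M.property

/-- The chosen corepresenting object. -/
noncomputable def rep (M : FP A) : Rep κ M.obj := (nonempty_rep κ M.obj).some

/-- The map out of the corepresenting object. -/
noncomputable def dsc (M : FP A) (Y : B) (φ : M.obj →ₗ[A] HomK κ Y) : (rep κ M).obj ⟶ Y :=
  ((rep κ M).bij Y).2 φ |>.choose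

theorem dsc_fac (M : FP A) (Y : B) (φ : M.obj →ₗ[A] HomK κ Y) :
    (post κ (dsc κ M Y φ)).comp (rep κ M).u = φ := (((rep κ M).bij Y).2 φ).choose_spec

theorem rep_ext (M : FP A) {Y : B} {g g' : (rep κ M).obj ⟶ Y}
    (h : ∀ x, ((rep κ M).u x : K ⟶ (rep κ M).obj) ≫ g = ((rep κ M).u x : K ⟶ (rep κ M).obj) ≫ g') : g = g' :=
  ((rep κ M).bij Y).1 (LinearMap.ext h)

/-- The right exact functor. -/
noncomputable def F : FP A ⥤ B where
  obj M := (rep κ M).obj
  map {M N} f := dsc κ M _ ((rep κ N).u.comp f.hom.hom)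
  map_id M := rep_ext κ M fun x => by
    refine (LinearMap.congr_fun (dsc_fac κ M _ _) x).trans ?_
    exact (Category.comp_id _).symm
  map_comp {M N P} f g := rep_ext κ M fun x => by
    refine (LinearMap.congr_fun (dsc_fac κ M _ _) x).trans ?_
    refine Eq.trans ?_ (Category.assoc ((rep κ M).u x : K ⟶ (rep κ M).obj) _ _)
    rw [show ((rep κ M).u x : K ⟶ (rep κ M).obj) ≫ dsc κ M _ ((rep κ N).u.comp f.hom.hom) =
      (rep κ N).u (f.hom.hom x) from LinearMap.congr_fun (dsc_fac κ M _ _) x]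
    exact (LinearMap.congr_fun (dsc_fac κ N _ ((rep κ P).u.comp g.hom.hom)) (f.hom.hom x)).symm

theorem F_map_u {M N : FP A} (f : M ⟶ N) (x : M.obj) :
    ((rep κ M).u x : K ⟶ (rep κ M).obj) ≫ (F κ).map f = (rep κ N).u (f.hom.hom x) :=
  LinearMap.congr_fun (dsc_fac κ M _ _) x

theorem F_map_u' {M N : FP A} (f : M ⟶ N) (x : M.obj) {Y : B} (g : (F κ).obj N ⟶ Y) :
    ((rep κ M).u x : K ⟶ (rep κ M).obj) ≫ (F κ).map f ≫ g =
      ((rep κ N).u (f.hom.hom x) : K ⟶ (rep κ N).obj) ≫ g :=
  (Category.assoc _ _ _).symm.trans (congrArg (fun q : K ⟶ (rep κ N).obj => q ≫ g) (F_map_u κ f x))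

instance F_additive : (F κ).Additive where
  map_add {M N} {f g} := rep_ext κ M fun x => by
    rw [F_map_u]
    refine Eq.trans ?_ (Preadditive.comp_add _ _ _ ((rep κ M).u x : K ⟶ (rep κ M).obj) _ _).symm
    rw [F_map_u, F_map_u]
    exact map_add (rep κ N).u _ _

instance : HasCokernels (FP A) where
  has_colimit {X Y} f := by
    haveI : Module.FinitePresentation A (Y.obj ⧸ LinearMap.range f.hom.hom) :=
      Module.finitePresentation_of_surjective _ (Submodule.mkQ_surjective _)
        (by rw [Submodule.ker_mkQ]; exact (Module.Finite.fg_top.map f.hom.hom).imp fun t ht => ht.trans (LinearMap.range_eq_map _).symm)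
    let Q : FP A := ⟨ModuleCat.of A (Y.obj ⧸ LinearMap.range f.hom.hom), this⟩
    let q : Y ⟶ Q := ObjectProperty.homMk (ModuleCat.ofHom (LinearMap.range f.hom.hom).mkQ)
    refine HasColimit.mk ⟨CokernelCofork.ofπ q ?_, Cofork.IsColimit.mk' _ fun c => ?_⟩
    · refine ObjectProperty.hom_ext _ (ModuleCat.hom_ext (LinearMap.ext fun x => ?_))
      exact (Submodule.Quotient.mk_eq_zero _).2 ⟨x, rfl⟩
    · have hc : LinearMap.range f.hom.hom ≤ LinearMap.ker c.π.hom.hom := by
        rintro _ ⟨x, rfl⟩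
        exact congr(($(CokernelCofork.condition c)).hom.hom x)
      refine ⟨ObjectProperty.homMk (ModuleCat.ofHom ((LinearMap.range f.hom.hom).liftQ _ hc)), ?_, fun {m} hm => ?_⟩
      · exact ObjectProperty.hom_ext _ (ModuleCat.hom_ext (LinearMap.ext fun x => rfl))
      · refine ObjectProperty.hom_ext _ (ModuleCat.hom_ext (Submodule.linearMap_qext _ (LinearMap.ext fun x => ?_)))
        exact congr(($hm).hom.hom x)

instance : HasBinaryBiproducts (FP A) where
  has_binary_biproduct X Y := by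
    let Z : FP A := ⟨ModuleCat.of A (X.obj × Y.obj), inferInstance⟩
    let b : BinaryBicone X Y :=
      { pt := Z
        fst := ObjectProperty.homMk (ModuleCat.ofHom (LinearMap.fst A X.obj Y.obj))
        snd := ObjectProperty.homMk (ModuleCat.ofHom (LinearMap.snd A X.obj Y.obj))
        inl := ObjectProperty.homMk (ModuleCat.ofHom (LinearMap.inl A X.obj Y.obj))
        inr := ObjectProperty.homMk (ModuleCat.ofHom (LinearMap.inr A X.obj Y.obj))
        inl_fst := rfl
        inl_snd := rfl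
        inr_fst := rfl
        inr_snd := rfl }
    refine hasBinaryBiproduct_of_total b (ObjectProperty.hom_ext _ (ModuleCat.hom_ext (LinearMap.ext fun x => ?_)))
    exact Prod.ext (add_zero x.1) (zero_add x.2)

instance : HasZeroObject (FP A) :=
  ⟨⟨ModuleCat.of A PUnit.{u+1}, inferInstance⟩, by
    refine ⟨fun X => ⟨⟨⟨0⟩, fun f => ObjectProperty.hom_ext _ (ModuleCat.hom_ext (LinearMap.ext fun x => ?_))⟩⟩,
      fun X => ⟨⟨⟨0⟩, fun f => ObjectProperty.hom_ext _ (ModuleCat.hom_ext (LinearMap.ext fun x => Subsingleton.elim (α := PUnit.{u+1}) _ _))⟩⟩⟩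
    obtain rfl : x = 0 := Subsingleton.elim (α := PUnit.{u+1}) _ _
    rw [map_zero, map_zero]⟩

theorem preservesCokernel {X Y : FP A} (f : X ⟶ Y) : PreservesColimit (parallelPair f 0) (F κ) := by
  constructor
  intro c hc
  constructor
  haveI hQ : Module.FinitePresentation A (Y.obj ⧸ LinearMap.range f.hom.hom) :=
      Module.finitePresentation_of_surjective _ (Submodule.mkQ_surjective _)
        (by rw [Submodule.ker_mkQ]; exact (Module.Finite.fg_top.map f.hom.hom).imp fun t ht => ht.trans (LinearMap.range_eq_map _).symm)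
  let Q : FP A := ⟨ModuleCat.of A (Y.obj ⧸ LinearMap.range f.hom.hom), hQ⟩
  let q : Y ⟶ Q := ObjectProperty.homMk (ModuleCat.ofHom (LinearMap.range f.hom.hom).mkQ)
  have hq : f ≫ q = 0 := ObjectProperty.hom_ext _ (ModuleCat.hom_ext (LinearMap.ext fun x =>
    (Submodule.Quotient.mk_eq_zero _).2 ⟨x, rfl⟩))
  obtain ⟨t, ht⟩ := CokernelCofork.IsColimit.desc' hc q hq
  -- `c.π` is surjective with kernel the range of `f`
  let π := Cofork.π c
  have hcond : f ≫ π = 0 := CokernelCofork.condition c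
  have hker : ∀ y, π.hom.hom y = 0 → y ∈ LinearMap.range f.hom.hom := fun y hy => by
    refine (Submodule.Quotient.mk_eq_zero _).1 ?_
    exact (congr(($ht).hom.hom y)).symm.trans ((congrArg t.hom.hom hy).trans (map_zero _))
  have hsurj : Function.Surjective π.hom.hom := by
    have hle : LinearMap.range f.hom.hom ≤ LinearMap.ker π.hom.hom := by
      rintro _ ⟨x, rfl⟩
      exact congr(($hcond).hom.hom x)
    let s : Q ⟶ c.pt := ObjectProperty.homMk (ModuleCat.ofHom ((LinearMap.range f.hom.hom).liftQ _ hle))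
    have hst : t ≫ s = 𝟙 c.pt := by
      refine Cofork.IsColimit.hom_ext hc ?_
      rw [← Category.assoc, ht, Category.comp_id]
      exact ObjectProperty.hom_ext _ (ModuleCat.hom_ext (LinearMap.ext fun x => rfl))
    intro z
    obtain ⟨y, hy⟩ := Submodule.mkQ_surjective _ (t.hom.hom z)
    exact ⟨y, (congrArg s.hom.hom hy).trans congr(($hst).hom.hom z)⟩
  refine (CokernelCofork.isColimitMapCoconeEquiv c (F κ)).symm (Cofork.IsColimit.mk' _ fun d => ?_)
  let φ : Y.obj →ₗ[A] HomK κ d.pt := (post κ (Cofork.π d)).comp (rep κ Y).u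
  have hφ : ∀ x, φ (f.hom.hom x) = 0 := fun x => by
    change ((rep κ Y).u (f.hom.hom x) : K ⟶ (rep κ Y).obj) ≫ Cofork.π d = 0
    exact (F_map_u' κ f x _).symm.trans ((congrArg (fun q => ((rep κ X).u x : K ⟶ (rep κ X).obj) ≫ q) (CokernelCofork.condition d)).trans comp_zero)
  have hle : LinearMap.ker π.hom.hom ≤ LinearMap.ker φ := fun y hy => by
    obtain ⟨x, rfl⟩ := hker y hy
    exact hφ x
  let ψ : c.pt.obj →ₗ[A] HomK κ d.pt :=
    ((LinearMap.ker π.hom.hom).liftQ φ hle).comp (π.hom.hom.quotKerEquivOfSurjective hsurj).symm.toLinearMap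
  have hψ : ∀ y, ψ (π.hom.hom y) = φ y := fun y => by
    change (LinearMap.ker π.hom.hom).liftQ φ hle ((π.hom.hom.quotKerEquivOfSurjective hsurj).symm (π.hom.hom y)) = _
    rw [show π.hom.hom y = π.hom.hom.quotKerEquivOfSurjective hsurj (Submodule.Quotient.mk y) from rfl,
      LinearEquiv.symm_apply_apply, Submodule.liftQ_apply]
  refine ⟨dsc κ c.pt _ ψ, rep_ext κ Y fun y => ?_, fun {m} hm => rep_ext κ c.pt fun z => ?_⟩
  · change ((rep κ Y).u y : K ⟶ (rep κ Y).obj) ≫ ((F κ).map π ≫ dsc κ c.pt _ ψ) = φ y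
    exact (F_map_u' κ π y _).trans <| (LinearMap.congr_fun (dsc_fac κ c.pt _ ψ) _).trans (hψ y)
  · obtain ⟨y, rfl⟩ := hsurj z
    refine Eq.trans ?_ ((LinearMap.congr_fun (dsc_fac κ c.pt _ ψ) (π.hom.hom y)).trans (hψ y)).symm
    exact (F_map_u' κ π y m).symm.trans (congrArg (((rep κ Y).u y : K ⟶ (rep κ Y).obj) ≫ ·) hm)

end

/-- Essential surjectivity of the functor F ↦ (F(A), induced A-action): let A be a commutative ring and
B an additive category with cokernels. For every object K of B and ring map κ : A → End(K) there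
exist a right exact functor F from the category of finitely presented A-modules to B and an
isomorphism F(A) ≅ K carrying F(multiplication by a) to κ(a) for every a ∈ A. -/
theorem result
    (A : Type u) [CommRing A] {B : Type u'} [Category.{v'} B] [Preadditive B] [HasFiniteBiproducts B]
    [HasCokernels B] (K : B) (κ : A →+* End K) :
    ∃ (F : (ObjectProperty.FullSubcategory (fun M : ModuleCat.{u} A => Module.FinitePresentation A M)) ⥤ B) (_ : PreservesFiniteColimits F)
      (e : F.obj (⟨ModuleCat.of A A, inferInstance⟩ : (ObjectProperty.FullSubcategory (fun M : ModuleCat.{u} A => Module.FinitePresentation A M))) ≅ K),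
      ∀ a : A, F.map (ObjectProperty.homMk (ModuleCat.ofHom (LinearMap.lsmul A A a)) : (⟨ModuleCat.of A A, inferInstance⟩ : (ObjectProperty.FullSubcategory (fun M : ModuleCat.{u} A => Module.FinitePresentation A M))) ⟶ (⟨ModuleCat.of A A, inferInstance⟩ : (ObjectProperty.FullSubcategory (fun M : ModuleCat.{u} A => Module.FinitePresentation A M)))) ≫ e.hom = e.hom ≫ κ a := by
  haveI : ∀ {X Y : FP A} (f : X ⟶ Y), PreservesColimit (parallelPair f 0) (F κ) := fun f => preservesCokernel κ f
  haveI : HasCoequalizers (FP A) := Preadditive.hasCoequalizers_of_hasCokernels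
  haveI : HasFiniteCoproducts (FP A) := hasFiniteCoproducts_of_has_binary_and_initial
  haveI : HasZeroObject B := hasZeroObject_of_hasFiniteBiproducts B
  haveI hF : PreservesFiniteColimits (F κ) := Functor.preservesFiniteColimits_of_preservesCokernels (F κ)
  let A₀ : FP A := ⟨ModuleCat.of A A, inferInstance⟩
  let ι₀ : A →ₗ[A] HomK κ K := LinearMap.toSpanSingleton A _ (𝟙 K : K ⟶ K)
  have hι : ∀ a : A, (ι₀ a : K ⟶ K) = κ a := fun a => Category.comp_id _
  let hom : (F κ).obj A₀ ⟶ K := dsc κ A₀ K ι₀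
  have hu : ∀ a : A, ((rep κ A₀).u a : K ⟶ (rep κ A₀).obj) = (κ a : K ⟶ K) ≫ (rep κ A₀).u (1 : A) := fun a =>
    (congrArg (rep κ A₀).u (mul_one a).symm).trans ((rep κ A₀).u.map_smul a (1 : A))
  have hh : ∀ a : A, ((rep κ A₀).u a : K ⟶ (rep κ A₀).obj) ≫ hom = κ a := fun a =>
    (LinearMap.congr_fun (dsc_fac κ A₀ K ι₀) a).trans (hι a)
  let e : (F κ).obj A₀ ≅ K :=
    { hom := hom
      inv := (rep κ A₀).u (1 : A)
      hom_inv_id := rep_ext κ A₀ fun a => by
        exact (Category.assoc _ _ _).symm.trans ((congrArg (· ≫ ((rep κ A₀).u (1 : A) : K ⟶ (rep κ A₀).obj)) (hh a)).trans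
          ((hu a).symm.trans (Category.comp_id _).symm))
      inv_hom_id := by
        refine (hh 1).trans ?_
        rw [map_one, End.one_def] }
  refine ⟨F κ, hF, e, fun a => rep_ext κ A₀ fun b => ?_⟩
  refine (Category.assoc _ _ _).symm.trans ?_
  rw [F_map_u]
  refine Eq.trans ?_ (Category.assoc _ _ _)
  change ((rep κ A₀).u (a * b) : K ⟶ (rep κ A₀).obj) ≫ hom = (((rep κ A₀).u b : K ⟶ (rep κ A₀).obj) ≫ hom) ≫ κ a
  rw [hh, hh, map_mul]
  rfl

end Groth.Agent.S6725
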