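import Groth.Statements.S6727
import Groth.Agent.L09.IndLan.ModFpClosed
import Groth.Agent.S6366

set_option autoImplicit false
universe u v' u'
open CategoryTheory CategoryTheory.Limits
open FunMor

set_option backward.isDefEq.respectTransparency false
set_option backward.isDefEq.respectTransparency.types false

namespace Groth.Agent.S6727

/-- Let A be a coherent commutative ring (every finitely generated ideal of A is a finitely presented
A-module) and B an additive category with kernels and filtered colimits in which filtered colimits
commute with kernels (equivalently with equalizers). Let F' be a functor from A-modules to B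
commuting with filtered colimits whose restriction to the full subcategory of finitely presented
A-modules is left exact. Then F' is additive and left exact, and it preserves all small direct sums. -/
theorem result
    (A : Type u) [CommRing A] (hcoh : ∀ I : Ideal A, I.FG → Module.FinitePresentation A I)
    {B : Type u'} [Category.{v'} B] [Preadditive B] [HasFiniteBiproducts B]
    [HasKernels B] [HasFilteredColimitsOfSize.{u, u} B]
    (hcomm : ∀ (J : Type u) [SmallCategory J] [IsFiltered J],
      PreservesLimitsOfShape WalkingParallelPair (colim : (J ⥤ B) ⥤ B))
    (F' : ModuleCat.{u} A ⥤ B) [PreservesFilteredColimitsOfSize.{u, u} F']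
    [PreservesFiniteLimits (ObjectProperty.ι (fun M : ModuleCat.{u} A => Module.FinitePresentation A M) ⋙ F')] :
    F'.Additive ∧ PreservesFiniteLimits F' ∧
      ∀ J : Type u, PreservesColimitsOfShape (Discrete J) F' := by
  have hP := fun M => Groth.L09.IndLan.isFinitelyPresentable_fp (A := A) M
  have hgen := fun M => Groth.L09.IndLan.ind_fp (A := A) M
  haveI := Groth.L09.IndLan.fpMod_kernels (A := A) fun M hM => ((Groth.Agent.S6366.result A hcoh M).2 hM).2
  haveI := Groth.L09.IndLan.additive_of_leftExact (ObjectProperty.ι (Groth.L09.IndLan.fpMod A) ⋙ F')
  haveI : F'.Additive := Groth.L09.IndLan.Acc.additive (P := Groth.L09.IndLan.fpMod A) hP hgen F'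
  haveI : ∀ {M N : ModuleCat.{u} A} (f : M ⟶ N), PreservesLimit (parallelPair f 0) F' := fun f =>
    Groth.L09.IndLan.Acc.preserves_kernel (P := Groth.L09.IndLan.fpMod A) hP hgen F' (fun g => inferInstance) hcomm f
  exact ⟨inferInstance, Functor.preservesFiniteLimits_of_preservesKernels F',
    Groth.L09.IndLan.Acc.preserves_coproducts (P := Groth.L09.IndLan.fpMod A) hP hgen F'⟩

end Groth.Agent.S6727
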