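import Groth.Statements.S6728
import Groth.Agent.L07.StrongGen.Bound
import Groth.Agent.L07.BoxSurj.Env
import Groth.Agent.S1066
import Groth.Agent.S0999
import Groth.Agent.L03.ShStab.TwistFlat
import Groth.Agent.L29.DCoh.PushPerfectFlat
import Groth.Agent.L29.BC.PerfectPush
import Groth.Agent.S1109

set_option autoImplicit false
set_option linter.style.haveILetI false
set_option backward.isDefEq.respectTransparency.types false
universe u v' u'
open CategoryTheory AlgebraicGeometry
attribute [local instance] HasDerivedCategory.standard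
open DEquiv

namespace Groth.Agent.S6728

open CategoryTheory.Limits CategoryTheory.Pretriangulated in
/-- Let X be a smooth proper scheme over a field k, let A be an abelian category and H : D_perf(O_X) ⥤ A
a homological functor such that for every perfect K the objects H(K⟦i⟧) are nonzero for only
finitely many i. Then there is an integer m ≥ 1 such that H(F⟦i⟧) = 0 for every coherent O_X-module
F (placed in degree 0; such F is perfect as X is regular) and every i ∉ [-m, m]. Here D_perf(O_X) is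
the full subcategory of perfect objects of D(O_X) with its induced triangulated structure (the
instance hypothesis records that perfect objects form a triangulated subcategory). The cohomological
variant is not restated. -/
theorem result
    (k : Type u) [Field k] (X : Scheme.{u}) [X.Over (Spec (.of k))] [Smooth (X ↘ Spec (.of k))]
    [IsProper (X ↘ Spec (.of k))] [ObjectProperty.IsTriangulated (fun K : DCoh.D X => DCoh.IsPerfect K)]
    {A : Type u'} [Category.{v'} A] [Abelian A]
    (H : (ObjectProperty.FullSubcategory (fun K : DCoh.D X => DCoh.IsPerfect K)) ⥤ A) [H.IsHomological]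
    (hfin : ∀ K : (ObjectProperty.FullSubcategory (fun K : DCoh.D X => DCoh.IsPerfect K)),
      Set.Finite {i : ℤ | ¬ IsZero (H.obj ((shiftFunctor (ObjectProperty.FullSubcategory (fun K : DCoh.D X => DCoh.IsPerfect K)) i).obj K))}) :
    ∃ m : ℕ, 1 ≤ m ∧ ∀ (F : X.Modules), Coh.IsCoh F → ∀ (hF : DCoh.IsPerfect (DCoh.inD X F)) (i : ℤ),
      (i < -(m : ℤ) ∨ (m : ℤ) < i) →
        IsZero (H.obj ((shiftFunctor (ObjectProperty.FullSubcategory (fun K : DCoh.D X => DCoh.IsPerfect K)) i).obj ⟨DCoh.inD X F, hF⟩)) := by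
  classical
  set s := X ↘ Spec (CommRingCat.of k) with hsdef
  haveI : IsLocallyNoetherian X := LocallyOfFiniteType.isLocallyNoetherian s
  haveI : CompactSpace X := QuasiCompact.compactSpace_of_compactSpace s
  haveI : QuasiSeparatedSpace X := quasiSeparatedSpace_of_quasiSeparated s
  let p1 := pullback.fst s s
  let p2 := pullback.snd s s
  haveI : QuasiCompact p1 := MorphismProperty.pullback_fst _ _ inferInstance
  haveI : QuasiCompact p2 := MorphismProperty.pullback_snd _ _ inferInstance
  haveI : QuasiSeparated p1 := MorphismProperty.pullback_fst _ _ inferInstance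
  haveI : QuasiSeparated p2 := MorphismProperty.pullback_snd _ _ inferInstance
  haveI : LocallyOfFiniteType p1 := MorphismProperty.pullback_fst _ _ inferInstance
  haveI : CompactSpace (pullback s s :) := QuasiCompact.compactSpace_of_compactSpace p1
  haveI : QuasiSeparatedSpace (pullback s s :) := quasiSeparatedSpace_of_quasiSeparated p1
  haveI : IsLocallyNoetherian (pullback s s) := LocallyOfFiniteType.isLocallyNoetherian p1
  haveI : Smooth p1 := MorphismProperty.pullback_fst _ _ inferInstance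
  haveI : X.IsSeparated := ⟨by rw [← terminal.comp_from s]; infer_instance⟩
  have hregX : ∀ x : X, IsRegularLocalRing (X.presheaf.stalk x) :=
    Groth.L07.SyntKoszul.isRegularLocalRing_of_smooth s
  have hregP : ∀ z : (pullback s s :), IsRegularLocalRing ((pullback s s).presheaf.stalk z) :=
    Groth.L07.SyntKoszul.isRegularLocalRing_of_smooth (p1 ≫ s)
  have hres : PerfAux.HasResolutionProperty X := Groth.Agent.S1109.result X hregX
    (fun U V hU hV => hU.inf hV)
  have hO := Groth.L16.CohClosedPush.isCoh_push (pullback.diagonal s)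
      (Groth.L16.Rees.RelVanish.isCoh_structureModule X)
  obtain ⟨B, G, hB, hG, henv⟩ := Groth.L07.BoxSurj.exists_env p1 p2 (IsPullback.of_hasPullback s s) hres hres _ hO
    (Groth.L07.BvdB.PointSelf.isPerfect_inD hregP hO)
  haveI : ∀ (Z : Scheme.{u}) (L : CochainComplex Z.Modules ℤ), DCoh.HasLTensorCx L := fun Z L =>
    Groth.L00.KFlat.hasLTensorCx L
  haveI : DCoh.HasLpull p1 := Groth.L00.KFlat.hasLpull p1
  haveI : DCoh.HasLpull s := Groth.L00.KFlat.hasLpull s
  haveI : DCoh.HasRpush s := Groth.L29.DC.RpushQC.hasRpush s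
  haveI : DCoh.HasRpush p2 := Groth.L29.DC.RpushQC.hasRpush p2
  haveI : ∀ (Z : Scheme.{u}) (M : Z.Modules), DCoh.HasLTensorMod M := fun Z M =>
    Groth.L00.DerivedApi.hasLTensorMod M
  haveI : DCoh.HasLpull (pullback.diagonal s ≫ p1) := Groth.L00.KFlat.hasLpull _
  haveI : DCoh.HasRpush (pullback.diagonal s ≫ p2) := Groth.L29.DC.RpushQC.hasRpush _
  let gen := Groth.L07.StrongGen.gen s (Groth.L07.StrongGen.sgl G)


  have hres' : ∀ K : DCoh.D X, ∃ L : CochainComplex (pullback s s).Modules ℤ,
      DCoh.IsKFlat L ∧ Nonempty (DCoh.toD _ L ≅ (DCoh.Lpull p1).obj K) := fun K => by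
    obtain ⟨L, q, hL, -, hq, -⟩ :=
      Groth.L00.KFlat.exists_resolution (DerivedCategory.Q.objPreimage ((DCoh.Lpull p1).obj K))
    haveI := (DerivedCategory.isIso_Q_map_iff_quasiIso _ q).2 hq
    exact ⟨L, hL, ⟨asIso (DerivedCategory.Q.map q) ≪≫ DerivedCategory.Q.objObjPreimageIso _⟩⟩
  choose L hL eL using hres'
  haveI hiso : ObjectProperty.IsClosedUnderIsomorphisms (fun K : DCoh.D X => DCoh.IsPerfect K) :=
    ⟨fun e h => Groth.L29.DC.isPerfect_of_iso e h⟩
  haveI hret : ObjectProperty.IsStableUnderRetracts (fun K : DCoh.D X => DCoh.IsPerfect K) :=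
    ⟨fun r h => Groth.L29.BC.isPerfect_of_retract r h⟩
  have hgen : DCoh.IsPerfect gen := by
    refine Groth.L29.DC.isPerfect_LTensorCx _ (Groth.L29.DC.isKFlat_of_isStrictlyPerfect
      (Groth.L07.StrongGen.isStrictlyPerfect_sgl hG))
      (Groth.L29.DC.isPerfect_of_iso (Groth.L07.StrongGen.sglIso G).symm (Groth.Lead.PCProj.isPerfect_inD hG)) _ ?_
    refine Groth.L29.DC.isPerfect_Lpull s ((Groth.Agent.S1105.result k _).2 ?_)
    exact ⟨(HomologicalComplex.single (ModuleCat.{u} k) (ComplexShape.up ℤ) 0).obj (ModuleCat.of k k), 0, 0,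
      fun i hi => HomologicalComplex.isZero_single_obj_X _ _ _ _ (by omega), fun i => by
        by_cases h : i = 0
        · subst h
          let e := (HomologicalComplex.singleObjXSelf (ComplexShape.up ℤ) 0 (ModuleCat.of k k)).symm.toLinearEquiv
          exact ⟨Module.Finite.equiv e, Module.Projective.of_equiv e⟩
        · haveI := ModuleCat.subsingleton_of_isZero
            (HomologicalComplex.isZero_single_obj_X (ComplexShape.up ℤ) 0 (ModuleCat.of k k) i h)
          exact ⟨inferInstance, inferInstance⟩,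
      ⟨((DerivedCategory.singleFunctorIsoCompQ (ModuleCat.{u} k) 0).app (ModuleCat.of k k)).symm⟩⟩
  let m₀ : ℕ := (hfin ⟨gen, hgen⟩).toFinset.sup Int.natAbs
  have hm₀ : Groth.L07.StrongGen.Bdd (fun K : DCoh.D X => DCoh.IsPerfect K) H m₀ gen := by
    refine ⟨hgen, fun i hi => ?_⟩
    by_contra hne
    have := Finset.le_sup (f := Int.natAbs) ((hfin ⟨gen, hgen⟩).mem_toFinset.2 hne)
    change i.natAbs ≤ m₀ at this
    omega
  obtain ⟨N, hN⟩ := Groth.Agent.S0999.result s
  let F : {M : X.Modules // Coh.IsCoh M} → (DCoh.D (pullback s s) ⥤ DCoh.D X) :=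
    fun M => DCoh.LTensorCx (L (DCoh.inD X M.1)) ⋙ DCoh.Rpush p2
  have hbox : (ObjectProperty.ofObj (fun _ : PUnit.{u + 1} => DCoh.inD (pullback s s)
      (Groth.L07.BoxSurj.box p1 p2 B G))) ≤
        Groth.L07.StrongGen.URange (fun K : DCoh.D X => DCoh.IsPerfect K) H F := by
    rintro _ ⟨⟨⟩⟩
    refine ⟨m₀ + N.toNat, fun M => ?_⟩
    let E' := (Scheme.Modules.pullback p1).obj B
    haveI : Coh.IsQCoh M.1 := M.2.1
    haveI : Coh.IsQCoh B := Groth.L29.DC.PCQCoh.isQCoh_of_isFinLocFree hB
    have hMq := Groth.L10.RelPC.PushCoh.isQCohD_inD M.1 M.2.1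
    have hMp := Groth.L07.BvdB.PointSelf.isPerfect_inD hregX M.2
    obtain ⟨e⟩ := Groth.L07.StrongGen.nonempty_box p1 p2 B G hB hG (L (DCoh.inD X M.1)) (hL _)
    obtain ⟨bc⟩ := Groth.Agent.S1066.result s s (DCoh.inD X M.1) hMq B inferInstance
      (Groth.L03.ShStab.TwistFlat.isFlatOver_field s B)
    have hcoh : Coh.IsCoh B := Groth.L16.NegPow.isCoh_of_isFinLocFree hB
    have hV : DCoh.IsPerfect ((DCoh.Rpush s).obj ((DCoh.LTensorMod B).obj (DCoh.inD X M.1))) :=
      Groth.L29.DC.PerfectTensor.isPerfect_Rpush_LTensorMod s _ hMp B hcoh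
        (Groth.L03.ShStab.TwistFlat.isFlatOver_field s B)
        ⟨Groth.L16.CohSupport.isClosed_support _ hcoh.2, inferInstance⟩
    obtain ⟨et⟩ := Groth.L07.StrongGen.nonempty_lt_sgl M.1 B (Groth.L29.DC.isKFlat_of_isStrictlyPerfect
      (Groth.L07.StrongGen.isStrictlyPerfect_sgl hB))
    let T := CohB1.tensorMod M.1 B
    haveI : Coh.IsQCoh T := Groth.L00.Tensor.isQCoh_tensorMod M.1 B
    have hTq := Groth.L10.RelPC.PushCoh.isQCohD_inD T inferInstance
    haveI : DerivedCategory.IsGE (DCoh.inD X T) 0 :=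
      inferInstanceAs (DerivedCategory.IsGE ((DerivedCategory.singleFunctor X.Modules 0).obj T) 0)
    have hTle : DerivedCategory.IsLE (DCoh.inD X T) 0 :=
      inferInstanceAs (DerivedCategory.IsLE ((DerivedCategory.singleFunctor X.Modules 0).obj T) 0)
    haveI := Groth.L29.DC.RpushQC.isGE_Rpush s (DCoh.inD X T) 0
    have hzero : ∀ i : ℤ, (i < 0 ∨ ((N.toNat : ℕ) : ℤ) < i) →
        IsZero (DCoh.HD ((DCoh.Rpush s).obj ((DCoh.LTensorMod B).obj (DCoh.inD X M.1))) i) := fun i hi => by
      refine IsZero.of_iso ?_ ((DerivedCategory.homologyFunctor _ i).mapIso ((DCoh.Rpush s).mapIso et))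
      rcases hi with hi | hi
      · exact DerivedCategory.isZero_of_isGE _ 0 i hi
      · exact hN _ hTq hTle i (by omega)
    exact (Groth.L07.StrongGen.bdd_of_perfect s (Groth.L07.StrongGen.sgl G) _ H hm₀ N.toNat _ hV hzero).of_iso
      (e ≪≫ (DCoh.LTensorCx (Groth.L07.StrongGen.sgl G)).mapIso
        ((DCoh.Rpush p2).mapIso ((DCoh.LTensorMod E').mapIso (eL (DCoh.inD X M.1)).some) ≪≫ bc.symm)).symm
  obtain ⟨m, hm⟩ := Groth.L07.StrongGen.urange_of_triangEnvelope _ H F
    (fun M => (Groth.L07.StrongGen.ex_LTensorCx (L (DCoh.inD X M.1))).comp (Groth.L07.StrongGen.ex_Rpush p2))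
    _ hbox _ henv
  refine ⟨m + 1, by omega, fun M hM hMP i hi => ?_⟩
  obtain ⟨c⟩ := Groth.L07.StrongGen.nonempty_closed (pullback.diagonal s) p1 p2 _ rfl _ rfl (DCoh.inD X M)
    (L (DCoh.inD X M)) (hL _) (eL _).some
  obtain ⟨c1⟩ := Groth.L07.StrongGen.nonempty_Lpull_id (pullback.diagonal s ≫ p1) (pullback.diagonal_fst s)
    (DCoh.inD X M)
  obtain ⟨c2⟩ := Groth.L07.StrongGen.nonempty_Rpush_id (pullback.diagonal s ≫ p2) (pullback.diagonal_snd s)
    (DCoh.inD X M)
  obtain ⟨_, h⟩ := (hm ⟨M, hM⟩).of_iso (c ≪≫ (DCoh.Rpush _).mapIso c1 ≪≫ c2)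
  exact h i (by omega)

end Groth.Agent.S6728
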