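import Groth.Statements.S6729
import Groth.Agent.S6717
import Groth.Agent.L07.BoxSurj.Res
import Groth.Agent.L16.CohKernel
import Groth.Agent.L16.CohClosedPush
import Groth.Agent.L16.NegPow.Gen
import Groth.Agent.L16.Rees.RelVanish

set_option autoImplicit false
set_option linter.style.haveILetI false
set_option backward.isDefEq.respectTransparency.types false
universe u
open CategoryTheory AlgebraicGeometry
open DEquiv

namespace Groth.Agent.S6729

open CategoryTheory.Limits in
/-- Let R be a Noetherian ring and X a separated scheme of finite type over R which has the resolution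
property. Let O_Δ = Δ_* O_X on X ×_R X, where Δ is the diagonal. Then there is a resolution ⋯ ⟶ E_1
⊠ G_1 ⟶ E_0 ⊠ G_0 ⟶ O_Δ ⟶ 0 with every E_i and G_i a finite locally free O_X-module: an ℕ-indexed
chain complex with a quasi-isomorphism to O_Δ in degree 0, each of whose terms is isomorphic to
pr_1^* E_i ⊗ pr_2^* G_i. -/
theorem result
    (R : Type u) [CommRing R] [IsNoetherianRing R] (X : Scheme.{u}) [X.Over (Spec (.of R))]
    [IsSeparated (X ↘ Spec (.of R))] [LocallyOfFiniteType (X ↘ Spec (.of R))] [CompactSpace X]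
    (hX : PerfAux.HasResolutionProperty X) :
    ∃ (C : ChainComplex (pullback (X ↘ Spec (.of R)) (X ↘ Spec (.of R))).Modules ℕ)
      (π : C ⟶ (ChainComplex.single₀ _).obj
        ((Coh.push (pullback.diagonal (X ↘ Spec (.of R)))).obj (Coh.structureModule X))),
      QuasiIso π ∧ ∀ n : ℕ, ∃ (E G : X.Modules), FlatMod.IsFinLocFree E ∧ FlatMod.IsFinLocFree G ∧
        Nonempty (C.X n ≅ CohB1.tensorMod
          ((Scheme.Modules.pullback (pullback.fst (X ↘ Spec (.of R)) (X ↘ Spec (.of R)))).obj E)
          ((Scheme.Modules.pullback (pullback.snd (X ↘ Spec (.of R)) (X ↘ Spec (.of R)))).obj G)) := by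
  set sX := X ↘ Spec (CommRingCat.of R)
  haveI : IsLocallyNoetherian X := LocallyOfFiniteType.isLocallyNoetherian sX
  haveI : QuasiSeparatedSpace X := quasiSeparatedSpace_of_quasiSeparated sX
  haveI : LocallyOfFiniteType (pullback.fst sX sX) := MorphismProperty.pullback_fst _ _ inferInstance
  haveI : IsLocallyNoetherian (pullback sX sX) := LocallyOfFiniteType.isLocallyNoetherian (pullback.fst sX sX)
  haveI : IsClosedImmersion (pullback.diagonal sX) := inferInstance
  exact Groth.L07.BoxSurj.exists_res
    (fun M => ∃ (E G : X.Modules), FlatMod.IsFinLocFree E ∧ FlatMod.IsFinLocFree G ∧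
      Nonempty (M ≅ CohB1.tensorMod ((Scheme.Modules.pullback (pullback.fst sX sX)).obj E)
        ((Scheme.Modules.pullback (pullback.snd sX sX)).obj G)))
    (fun M => Coh.IsCoh M)
    (fun M hM => by
      obtain ⟨E, G, hE, hG, π, hπ⟩ := Groth.Agent.S6717.result R X X hX hX M hM.1 hM.2
      refine ⟨_, π, ⟨E, G, hE, hG, ⟨Iso.refl _⟩⟩, hπ, ?_⟩
      have hb : FlatMod.IsFinLocFree (CohB1.tensorMod ((Scheme.Modules.pullback (pullback.fst sX sX)).obj E)
          ((Scheme.Modules.pullback (pullback.snd sX sX)).obj G)) :=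
        Groth.L29.DC.isFinLocFree_tensor (Groth.L29.LocFree.pullback _ hE) (Groth.L29.LocFree.pullback _ hG)
      exact (Groth.L16.CohKernel.isCoh_kernel_cokernel (Groth.L16.NegPow.isCoh_of_isFinLocFree hb) hM π).1)
    _ (Groth.L16.CohClosedPush.isCoh_push (pullback.diagonal sX)
      (Groth.L16.Rees.RelVanish.isCoh_structureModule X))

end Groth.Agent.S6729
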