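import Groth.Statements.S6730
import Groth.Agent.L09.IndLan.QCohFp

set_option autoImplicit false
universe u
open CategoryTheory CategoryTheory.Limits AlgebraicGeometry
open FunMor

set_option backward.isDefEq.respectTransparency false
set_option backward.isDefEq.respectTransparency.types false

namespace Groth.Agent.S6730

/-- Let X and Y be Noetherian schemes and F : Coh(O_X) ⥤ Coh(O_Y) a functor. Then F extends to a functor
F' : QCoh(O_X) ⥤ QCoh(O_Y) which commutes with filtered colimits, uniquely up to isomorphism;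
moreover for any such extension F': if F is additive, F' commutes with arbitrary direct sums, and if
F is left exact (resp. right exact), so is F'. -/
theorem result
    (X Y : Scheme.{u}) [IsNoetherian X] [IsNoetherian Y]
    (F : ObjectProperty.FullSubcategory (fun M : X.Modules => Coh.IsCoh M) ⥤ ObjectProperty.FullSubcategory (fun M : Y.Modules => Coh.IsCoh M)) :
    (∃ F' : QCohCat.QCoh X ⥤ QCohCat.QCoh Y, PreservesFilteredColimitsOfSize.{u, u} F' ∧
      Nonempty ((ObjectProperty.ιOfLE (P := (fun M : X.Modules => Coh.IsCoh M)) (P' := QCohCat.isQCoh X) (fun _ h => h.1)) ⋙ F' ≅ F ⋙ (ObjectProperty.ιOfLE (P := (fun M : Y.Modules => Coh.IsCoh M)) (P' := QCohCat.isQCoh Y) (fun _ h => h.1)))) ∧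
    (∀ F₁ F₂ : QCohCat.QCoh X ⥤ QCohCat.QCoh Y, PreservesFilteredColimitsOfSize.{u, u} F₁ →
      PreservesFilteredColimitsOfSize.{u, u} F₂ →
      Nonempty ((ObjectProperty.ιOfLE (P := (fun M : X.Modules => Coh.IsCoh M)) (P' := QCohCat.isQCoh X) (fun _ h => h.1)) ⋙ F₁ ≅ F ⋙ (ObjectProperty.ιOfLE (P := (fun M : Y.Modules => Coh.IsCoh M)) (P' := QCohCat.isQCoh Y) (fun _ h => h.1))) →
      Nonempty ((ObjectProperty.ιOfLE (P := (fun M : X.Modules => Coh.IsCoh M)) (P' := QCohCat.isQCoh X) (fun _ h => h.1)) ⋙ F₂ ≅ F ⋙ (ObjectProperty.ιOfLE (P := (fun M : Y.Modules => Coh.IsCoh M)) (P' := QCohCat.isQCoh Y) (fun _ h => h.1))) → Nonempty (F₁ ≅ F₂)) ∧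
    ∀ F' : QCohCat.QCoh X ⥤ QCohCat.QCoh Y, PreservesFilteredColimitsOfSize.{u, u} F' →
      Nonempty ((ObjectProperty.ιOfLE (P := (fun M : X.Modules => Coh.IsCoh M)) (P' := QCohCat.isQCoh X) (fun _ h => h.1)) ⋙ F' ≅ F ⋙ (ObjectProperty.ιOfLE (P := (fun M : Y.Modules => Coh.IsCoh M)) (P' := QCohCat.isQCoh Y) (fun _ h => h.1))) →
      (F.Additive → ∀ J : Type u, PreservesColimitsOfShape (Discrete J) F') ∧
      (PreservesFiniteLimits F → PreservesFiniteLimits F') ∧
      (PreservesFiniteColimits F → PreservesFiniteColimits F') := by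
  open Groth.L09.IndLan in
  have main := fun (G : (QC.cohM X).FullSubcategory ⥤ QCohCat.QCoh Y) (F' : QCohCat.QCoh X ⥤ QCohCat.QCoh Y) => QC.nonempty_restrict X G F'
  have hP := Groth.L09.IndLan.QC.cohQ_fp X
  have hgen := Groth.L09.IndLan.QC.cohQ_ind X
  haveI hGX := Groth.L17.QCohGab.isGrothendieckAbelian X
  haveI hGY := Groth.L17.QCohGab.isGrothendieckAbelian Y
  haveI : HasFilteredColimitsOfSize.{u, u} (QCohCat.QCoh X) := ⟨fun J _ _ => inferInstance⟩
  haveI : HasFilteredColimitsOfSize.{u, u} (QCohCat.QCoh Y) := ⟨fun J _ _ => inferInstance⟩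
  let G : (Groth.L09.IndLan.QC.cohM X).FullSubcategory ⥤ QCohCat.QCoh Y := F ⋙ Groth.L09.IndLan.QC.cohι Y
  let H := Groth.L09.IndLan.QC.Φ X ⋙ G
  refine ⟨?_, fun F₁ F₂ h₁ h₂ e₁ e₂ => ?_, fun F' h' e' => ?_⟩
  · haveI := Groth.L09.IndLan.Acc.hasPointwiseLeftKanExtension (P := Groth.L09.IndLan.QC.cohQ X) hP hgen H
    let ι := ObjectProperty.ι (Groth.L09.IndLan.QC.cohQ X)
    haveI : IsIso (ι.pointwiseLeftKanExtensionUnit H) := (ι.pointwiseLeftKanExtensionIsPointwiseLeftKanExtension H).isIso_hom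
    exact ⟨_, Groth.L09.IndLan.Acc.preserves_lan (P := Groth.L09.IndLan.QC.cohQ X) hP H,
      (main G _).2 ⟨(asIso (ι.pointwiseLeftKanExtensionUnit H)).symm⟩⟩
  · obtain ⟨a⟩ := (main G F₁).1 e₁
    obtain ⟨b⟩ := (main G F₂).1 e₂
    exact Groth.L09.IndLan.Acc.nonempty_iso (P := Groth.L09.IndLan.QC.cohQ X) hP hgen F₁ F₂ a b
  obtain ⟨e⟩ := (main G F').1 e'
  haveI : HasFiniteBiproducts (Groth.L09.IndLan.QC.cohM X).FullSubcategory := HasFiniteBiproducts.of_hasFiniteProducts
  haveI := hasBinaryBiproducts_of_finite_biproducts (Groth.L09.IndLan.QC.cohM X).FullSubcategory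
  haveI : HasFiniteBiproducts (QCohCat.QCoh Y) := HasFiniteBiproducts.of_hasFiniteProducts
  haveI : (Groth.L09.IndLan.QC.cohι Y).Additive := ⟨fun {_ _ _ _} => rfl⟩
  have hadd : ∀ [F.Additive], F'.Additive := fun {_} => by
    haveI : ((Groth.L09.IndLan.QC.cohQ X).ι ⋙ F').Additive := Functor.additive_of_iso e.symm
    exact Groth.L09.IndLan.Acc.additive (P := Groth.L09.IndLan.QC.cohQ X) hP hgen F'
  refine ⟨fun _ => ?_, fun _ => ?_, fun _ => ?_⟩
  · haveI := @hadd ‹_›
    exact Groth.L09.IndLan.Acc.preserves_coproducts (P := Groth.L09.IndLan.QC.cohQ X) hP hgen F'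
  · haveI : F.PreservesZeroMorphisms := inferInstance
    haveI : F.Additive := Functor.additive_of_preserves_binary_products F
    haveI := @hadd ‹_›
    haveI : PreservesFiniteLimits H := inferInstance
    haveI : ∀ {M N : QCohCat.QCoh X} (f : M ⟶ N), PreservesLimit (parallelPair f 0) F' := fun f => by
      refine Groth.L09.IndLan.Acc.preserves_kernel (P := Groth.L09.IndLan.QC.cohQ X) hP hgen F' (fun g => ?_) (fun I _ _ => ?_) f
      · exact preservesLimit_of_natIso _ e.symm
      · exact inferInstance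
    exact Functor.preservesFiniteLimits_of_preservesKernels F'
  · haveI : F.PreservesZeroMorphisms := inferInstance
    haveI := preservesBinaryBiproducts_of_preservesBinaryCoproducts F
    haveI : F.Additive := Functor.additive_of_preservesBinaryBiproducts F
    haveI := @hadd ‹_›
    haveI : PreservesFiniteColimits H := inferInstance
    haveI : ∀ {M N : QCohCat.QCoh X} (f : M ⟶ N), PreservesColimit (parallelPair f 0) F' := fun f =>
      Groth.L09.IndLan.Acc.preserves_cokernel (P := Groth.L09.IndLan.QC.cohQ X) hP hgen F' (fun g => preservesColimit_of_natIso _ e.symm) f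
    exact Functor.preservesFiniteColimits_of_preservesCokernels F'

end Groth.Agent.S6730
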