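import Groth.Statements.S6733
import Groth.Agent.L07.BvdB.DualPoint

set_option autoImplicit false
set_option linter.style.haveILetI false
set_option backward.isDefEq.respectTransparency.types false
universe u
open CategoryTheory AlgebraicGeometry
attribute [local instance] HasDerivedCategory.standard
open DEquiv

namespace Groth.Agent.S6733

/-- Let X be a scheme of finite type over a field k which is regular, x ∈ X a closed point, O_x the
skyscraper sheaf at x with value κ(x), d = dim O_{X,x}, and K a perfect object of D(O_X); the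
derived functors - ⊗^L O_x and RΓ(X, -) are assumed to exist (instance binders). (5) If H^i(X, K ⊗^L
O_x) = 0 then H^i(K) vanishes on an open neighbourhood of x. (6) If H^i(X, K ⊗^L O_x) = 0 for all i
then every cohomology sheaf of K vanishes on an open neighbourhood of x. (1) If Hom(O_x, K⟦i⟧) = 0
then H^{i-d}(K) vanishes on an open neighbourhood of x. (Vanishing on U: no point of U lies in the
support.) -/
theorem result
    (k : Type u) [Field k] (X : Scheme.{u}) [X.Over (Spec (.of k))]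
    [LocallyOfFiniteType (X ↘ Spec (.of k))] [CompactSpace X]
    (hreg : Models.IsRegularScheme X) (x : X) (hx : IsClosed ({x} : Set X))
    (d : ℕ) (hd : ringKrullDim (X.presheaf.stalk x) = d)
    (K : DCoh.D X) (hK : DCoh.IsPerfect K)
    [DCoh.HasLTensorMod ((Coh.push (X.fromSpecResidueField x)).obj (Coh.structureModule _))] [DCoh.HasRΓ X] :
    (∀ i : ℤ, Limits.IsZero ((DerivedCategory.homologyFunctor AddCommGrpCat.{u} i).obj
          ((DCoh.RΓ X).obj ((DCoh.LTensorMod ((Coh.push (X.fromSpecResidueField x)).obj (Coh.structureModule _))).obj K))) →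
      ∃ U : X.Opens, x ∈ U ∧ ∀ y : X, y ∈ U → y ∉ CohB1.support (DCoh.HD K i)) ∧
    ((∀ i : ℤ, Limits.IsZero ((DerivedCategory.homologyFunctor AddCommGrpCat.{u} i).obj
          ((DCoh.RΓ X).obj ((DCoh.LTensorMod ((Coh.push (X.fromSpecResidueField x)).obj (Coh.structureModule _))).obj K)))) →
      ∃ U : X.Opens, x ∈ U ∧ ∀ (i : ℤ) (y : X), y ∈ U → y ∉ CohB1.support (DCoh.HD K i)) ∧
    (∀ i : ℤ, (∀ φ : DCoh.inD X ((Coh.push (X.fromSpecResidueField x)).obj (Coh.structureModule _)) ⟶ (shiftFunctor (DCoh.D X) i).obj K, φ = 0) →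
      ∃ U : X.Opens, x ∈ U ∧ ∀ y : X, y ∈ U → y ∉ CohB1.support (DCoh.HD K (i - d))) := by
  haveI : IsLocallyNoetherian X := LocallyOfFiniteType.isLocallyNoetherian (X ↘ Spec (CommRingCat.of k))
  haveI : ∀ y : X, DCoh.HasLpull (X.fromSpecResidueField y) := fun y => Groth.L00.KFlat.hasLpull _
  have five : ∀ i : ℤ, Limits.IsZero ((DerivedCategory.homologyFunctor AddCommGrpCat.{u} i).obj
      ((DCoh.RΓ X).obj ((DCoh.LTensorMod (Groth.L07.BvdB.PointSky.pt x)).obj K))) →
      x ∉ CohB1.support (DCoh.HD K i) := by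
    intro i hz
    let G := Groth.L07.BvdB.PointSky.pt x
    let P := Groth.L07.BvdB.DualFun.rep K
    have hP := Groth.L07.BvdB.DualFun.isKFlat_rep K
    let eP : DCoh.toD X P ≅ K := Groth.L07.BvdB.DualFun.repIso K
    haveI := Groth.L00.KFlat.hasLTensorCx P
    let S := (HomologicalComplex.single X.Modules (ComplexShape.up ℤ) 0).obj G
    let eS : DerivedCategory.Q.obj S ≅ Groth.L07.BvdB.PointHom.ptD x :=
      (((SingleFunctors.evaluation _ _ 0).mapIso
        (DerivedCategory.singleFunctorsPostcompQIso X.Modules)).app G).symm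
    let e : (DCoh.LTensorMod G).obj K ≅ (DCoh.LTensorCx P).obj (Groth.L07.BvdB.PointHom.ptD x) :=
      (DCoh.LTensorMod G).mapIso eP.symm ≪≫
        Groth.L00.DerivedApi.objIso (Groth.L00.DerivedApi.acyclicKFlat_tensorMod G) P hP ≪≫
        DerivedCategory.Q.mapIso (Groth.L00.DerivedApi.tensorModCxIso G P) ≪≫
        ((Groth.L29.DC.Assoc.allIso P hP).app S).symm ≪≫ (DCoh.LTensorCx P).mapIso eS
    letI := Groth.Lead.GammaHom.commShiftRΓ (X := X)
    have hz0 : Limits.IsZero ((DerivedCategory.homologyFunctor AddCommGrpCat.{u} 0).obj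
        ((DCoh.RΓ X).obj (((DCoh.LTensorCx P).obj (Groth.L07.BvdB.PointHom.ptD x))⟦i⟧))) :=
      hz.of_iso ((DerivedCategory.homologyFunctor AddCommGrpCat.{u} 0).mapIso
        (((DCoh.RΓ X).commShiftIso i).app _) ≪≫
        ((DerivedCategory.homologyFunctor AddCommGrpCat.{u} 0).shiftIso i 0 i (by omega)).app _ ≪≫
        (DerivedCategory.homologyFunctor AddCommGrpCat.{u} i).mapIso ((DCoh.RΓ X).mapIso e.symm))
    have hb : PerfD.betti K x i = 0 := Groth.L07.BvdB.FibreHom.betti_eq_zero K x i fun φ => by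
      rw [← cancel_mono ((shiftFunctor _ i).map ((DCoh.Lpull (X.fromSpecResidueField x)).map eP.inv)),
        Limits.zero_comp]
      exact Groth.L07.BvdB.FibreHom.zero_fibre_of_zero_tensor hx P hP i
        (fun ψ => Groth.Lead.GammaHom.hom_eq_zero _ hz0 ψ) _
    exact Groth.L07.BvdB.FibreNakayama.notMem_support K hK x i hb
  have nhd : ∀ i : ℤ, x ∉ CohB1.support (DCoh.HD K i) →
      ∃ U : X.Opens, x ∈ U ∧ ∀ y : X, y ∈ U → y ∉ CohB1.support (DCoh.HD K i) := fun i hi =>
    ⟨⟨_, (Groth.L16.CohSupport.isClosed_support _ (Groth.L29.CohSupp.isCohD_of_perfect hK i).2).isOpen_compl⟩,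
      hi, fun y hy => hy⟩
  refine ⟨fun i hz => nhd i (five i hz), fun hz => ?_, fun i hi => nhd _ ?_⟩
  · obtain ⟨a, b, ha, hb⟩ := Groth.L29.CohSupp.exists_bounds_of_perfect hK
    have hc : IsClosed (⋃ i ∈ Finset.Icc a b, CohB1.support (DCoh.HD K i)) :=
      Set.Finite.isClosed_biUnion (Finset.finite_toSet _) fun i _ =>
        Groth.L16.CohSupport.isClosed_support _ (Groth.L29.CohSupp.isCohD_of_perfect hK i).2
    refine ⟨⟨_, hc.isOpen_compl⟩, fun hx' => ?_, fun i y hy hs => ?_⟩
    · obtain ⟨i, -, hxi⟩ := Set.mem_iUnion₂.1 hx'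
      exact five i (hz i) hxi
    · rcases lt_or_ge i a with h | h
      · exact (Groth.L29.CohSupp.support_of_isZero (DerivedCategory.isZero_of_isGE K a i h)).subset hs
      rcases lt_or_ge b i with h' | h'
      · exact (Groth.L29.CohSupp.support_of_isZero (DerivedCategory.isZero_of_isLE K b i h')).subset hs
      exact hy (Set.mem_iUnion₂.2 ⟨i, Finset.mem_Icc.2 ⟨h, h'⟩, hs⟩)
  · let B := K⟦i⟧
    have hB : DCoh.IsPerfect B := Groth.L29.DC.perfect_shift hK i
    have hdB := Groth.L07.BvdB.DualFun.isPerfect_dual hB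
    let A : DCoh.D X := (Groth.L07.BvdB.DualFun.dual B)⟦(d : ℤ)⟧
    have hA : DCoh.IsPerfect A := Groth.L29.DC.perfect_shift hdB (d : ℤ)
    obtain ⟨eB⟩ := Groth.L07.BvdB.DualFun.nonempty_bidual hB
    obtain ⟨eT⟩ := Groth.L07.BvdB.DualPoint.nonempty_dual_pt (k := k) hreg hx d hd
    obtain ⟨E⟩ := Groth.L07.BvdB.FibreHom.nonempty_hom_pt_equiv (k := k) hx A hA
    let pD := Groth.L07.BvdB.PointHom.ptD x
    let Φ : (pD ⟶ B) ≃ (A ⟶ pD) :=
      (Iso.homCongr (Iso.refl pD) eB.symm).trans
        ((Groth.L07.BvdB.DualFun.theta pD (Groth.L07.BvdB.DualFun.dual B)).trans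
          ((Iso.homCongr (Iso.refl _) eT).trans
            ((Equiv.ofBijective _ ((Functor.FullyFaithful.ofFullyFaithful
                (shiftFunctor (DCoh.D X) (d : ℤ))).map_bijective _ _)).trans
              (Iso.homCongr (Iso.refl _)
                ((shiftFunctorCompIsoId (DCoh.D X) (-(d : ℤ)) (d : ℤ) (by omega)).app pD)))))
    have hzero : ∀ v : A ⟶ pD, v = 0 := fun v => by
      have h0 : ∀ w, Φ w = Φ 0 := fun w => congrArg Φ (hi w)
      obtain ⟨w, rfl⟩ := Φ.surjective v
      obtain ⟨w', hw'⟩ := Φ.surjective 0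
      rw [← hw', h0, h0 w']
    have hb : PerfD.betti (Groth.L07.BvdB.DualFun.dual A) x 0 = 0 :=
      Groth.L07.BvdB.FibreHom.betti_eq_zero _ x 0 fun φ => E.symm.injective ((hzero _).trans (hzero _).symm)
    have hx0 := Groth.L07.BvdB.FibreNakayama.notMem_support _ (Groth.L07.BvdB.DualFun.isPerfect_dual hA) x 0 hb
    obtain ⟨s⟩ := Groth.L07.BvdB.DualFun.nonempty_dual_shift (Groth.L07.BvdB.DualFun.dual B) (d : ℤ)
    intro hs
    exact hx0 ((Groth.L21.Mod.support_congr ((DerivedCategory.homologyFunctor X.Modules 0).mapIso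
      (s ≪≫ (shiftFunctor _ (-(d : ℤ))).mapIso eB ≪≫
        ((shiftFunctorAdd' (DCoh.D X) i (-(d : ℤ)) (i - d) (by omega)).app K).symm) ≪≫
      ((DerivedCategory.homologyFunctor X.Modules 0).shiftIso (i - d) 0 (i - d) (by omega)).app K)).symm.subset hs)

end Groth.Agent.S6733
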