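import Groth.Statements.S6734
import Groth.Agent.L07.BoxSurj.Env
import Groth.Agent.S1109

set_option autoImplicit false
set_option linter.style.haveILetI false
set_option backward.isDefEq.respectTransparency.types false
universe u
open CategoryTheory AlgebraicGeometry
attribute [local instance] HasDerivedCategory.standard
open DEquiv

namespace Groth.Agent.S6734

open CategoryTheory.Limits in
/-- Let X be a quasi-compact separated smooth scheme over a field k. Then one can find a pair E, G of
finite locally free O_X-modules for which O_Δ = Δ_* O_X belongs to ⟨E ⊠ G⟩, the smallest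
triangulated subcategory of D(O_{X ×_k X}) containing pr_1^* E ⊗ pr_2^* G and closed under direct
summands (Mathlib's triangulated envelope). -/
theorem result
    (k : Type u) [Field k] (X : Scheme.{u}) [X.Over (Spec (.of k))] [CompactSpace X] [IsSeparated (X ↘ Spec (.of k))] [Smooth (X ↘ Spec (.of k))] :
    ∃ (E G : X.Modules), FlatMod.IsFinLocFree E ∧ FlatMod.IsFinLocFree G ∧
      ObjectProperty.triangEnvelope
        (ObjectProperty.ofObj (fun _ : PUnit.{u + 1} => DCoh.inD (pullback (X ↘ Spec (.of k)) (X ↘ Spec (.of k))) (CohB1.tensorMod ((Scheme.Modules.pullback (pullback.fst (X ↘ Spec (.of k)) (X ↘ Spec (.of k)))).obj E)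
            ((Scheme.Modules.pullback (pullback.snd (X ↘ Spec (.of k)) (X ↘ Spec (.of k)))).obj G))))
        (DCoh.inD (pullback (X ↘ Spec (.of k)) (X ↘ Spec (.of k))) ((Coh.push (pullback.diagonal (X ↘ Spec (.of k)))).obj (Coh.structureModule X))) := by
  set sX := X ↘ Spec (CommRingCat.of k)
  haveI : IsLocallyNoetherian X := LocallyOfFiniteType.isLocallyNoetherian sX
  haveI : QuasiSeparatedSpace X := quasiSeparatedSpace_of_quasiSeparated sX
  haveI : QuasiCompact sX := (quasiCompact_iff_compactSpace _).2 inferInstance
  haveI : QuasiCompact (pullback.fst sX sX) := MorphismProperty.pullback_fst _ _ inferInstance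
  haveI : QuasiCompact (pullback.snd sX sX) := MorphismProperty.pullback_snd _ _ inferInstance
  haveI : CompactSpace (pullback sX sX :) := QuasiCompact.compactSpace_of_compactSpace (pullback.fst sX sX)
  haveI : QuasiSeparatedSpace (pullback sX sX :) := quasiSeparatedSpace_of_quasiSeparated (pullback.fst sX sX)
  haveI : LocallyOfFiniteType (pullback.fst sX sX) := MorphismProperty.pullback_fst _ _ inferInstance
  haveI : IsLocallyNoetherian (pullback sX sX) := LocallyOfFiniteType.isLocallyNoetherian (pullback.fst sX sX)
  haveI : Smooth (pullback.fst sX sX) := MorphismProperty.pullback_fst _ _ inferInstance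
  have hregX : ∀ x : X, IsRegularLocalRing (X.presheaf.stalk x) :=
    Groth.L07.SyntKoszul.isRegularLocalRing_of_smooth sX
  have hregP : ∀ z : (pullback sX sX :), IsRegularLocalRing ((pullback sX sX).presheaf.stalk z) :=
    Groth.L07.SyntKoszul.isRegularLocalRing_of_smooth (pullback.fst sX sX ≫ sX)
  haveI : IsSeparated (terminal.from X) := by
    rw [← terminal.comp_from sX]; infer_instance
  have hres : PerfAux.HasResolutionProperty X := Groth.Agent.S1109.result X hregX
    (fun U V hU hV => hU.inf hV)
  have hO := Groth.L16.CohClosedPush.isCoh_push (pullback.diagonal sX)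
      (Groth.L16.Rees.RelVanish.isCoh_structureModule X)
  exact Groth.L07.BoxSurj.exists_env (pullback.fst sX sX) (pullback.snd sX sX)
    (IsPullback.of_hasPullback sX sX) hres hres _ hO (Groth.L07.BvdB.PointSelf.isPerfect_inD hregP hO)

end Groth.Agent.S6734
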