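import Groth.Statements.S6735
import Groth.Agent.L07.StrongGen.Field
import Groth.Agent.L07.BoxSurj.Env
import Groth.Agent.S1066
import Groth.Agent.L03.ShStab.TwistFlat
import Groth.Agent.L29.DCoh.PushPerfectFlat
import Groth.Agent.S1109

set_option autoImplicit false
set_option linter.style.haveILetI false
set_option backward.isDefEq.respectTransparency.types false
universe u
open CategoryTheory AlgebraicGeometry
attribute [local instance] HasDerivedCategory.standard
open DEquiv

namespace Groth.Agent.S6735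

open CategoryTheory.Limits in
/-- Let X be a scheme proper and smooth over a field k. Then D_perf(O_X) has a strong generator: there
exist a perfect object E of D(O_X) and n such that every perfect object of D(O_X) lies in ⟨E⟩_n, the
objects obtained from E by shifts, finite direct sums, direct summands and at most n extensions
(Mathlib's iterated triangulated envelope, computed in D(O_X); all its members are perfect). -/
theorem result
    (k : Type u) [Field k] (X : Scheme.{u}) [X.Over (Spec (.of k))] [IsProper (X ↘ Spec (.of k))] [Smooth (X ↘ Spec (.of k))] :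
    ∃ (E : DCoh.D X) (n : ℕ), DCoh.IsPerfect E ∧
      ∀ K : DCoh.D X, DCoh.IsPerfect K →
        ObjectProperty.triangEnvelopeIter (ObjectProperty.ofObj (fun _ : PUnit.{u + 1} => E)) n K := by
  set s := X ↘ Spec (CommRingCat.of k) with hsdef
  haveI : IsLocallyNoetherian X := LocallyOfFiniteType.isLocallyNoetherian s
  haveI : CompactSpace X := QuasiCompact.compactSpace_of_compactSpace s
  haveI : QuasiSeparatedSpace X := quasiSeparatedSpace_of_quasiSeparated s
  let p1 := pullback.fst s s
  let p2 := pullback.snd s s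
  haveI : QuasiCompact p1 := MorphismProperty.pullback_fst _ _ inferInstance
  haveI : QuasiCompact p2 := MorphismProperty.pullback_snd _ _ inferInstance
  haveI : QuasiSeparated p1 := MorphismProperty.pullback_fst _ _ inferInstance
  haveI : QuasiSeparated p2 := MorphismProperty.pullback_snd _ _ inferInstance
  haveI : LocallyOfFiniteType p1 := MorphismProperty.pullback_fst _ _ inferInstance
  haveI : CompactSpace (pullback s s :) := QuasiCompact.compactSpace_of_compactSpace p1
  haveI : QuasiSeparatedSpace (pullback s s :) := quasiSeparatedSpace_of_quasiSeparated p1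
  haveI : IsLocallyNoetherian (pullback s s) := LocallyOfFiniteType.isLocallyNoetherian p1
  haveI : Smooth p1 := MorphismProperty.pullback_fst _ _ inferInstance
  haveI : X.IsSeparated := ⟨by rw [← terminal.comp_from s]; infer_instance⟩
  have hregX : ∀ x : X, IsRegularLocalRing (X.presheaf.stalk x) :=
    Groth.L07.SyntKoszul.isRegularLocalRing_of_smooth s
  have hregP : ∀ z : (pullback s s :), IsRegularLocalRing ((pullback s s).presheaf.stalk z) :=
    Groth.L07.SyntKoszul.isRegularLocalRing_of_smooth (p1 ≫ s)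
  have hres : PerfAux.HasResolutionProperty X := Groth.Agent.S1109.result X hregX
    (fun U V hU hV => hU.inf hV)
  have hO := Groth.L16.CohClosedPush.isCoh_push (pullback.diagonal s)
      (Groth.L16.Rees.RelVanish.isCoh_structureModule X)
  obtain ⟨B, G, hB, hG, henv⟩ := Groth.L07.BoxSurj.exists_env p1 p2 (IsPullback.of_hasPullback s s) hres hres _ hO
    (Groth.L07.BvdB.PointSelf.isPerfect_inD hregP hO)
  haveI : ∀ (Z : Scheme.{u}) (L : CochainComplex Z.Modules ℤ), DCoh.HasLTensorCx L := fun Z L =>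
    Groth.L00.KFlat.hasLTensorCx L
  haveI : DCoh.HasLpull p1 := Groth.L00.KFlat.hasLpull p1
  haveI : DCoh.HasLpull s := Groth.L00.KFlat.hasLpull s
  haveI : DCoh.HasRpush s := Groth.L29.DC.RpushQC.hasRpush s
  haveI : DCoh.HasRpush p2 := Groth.L29.DC.RpushQC.hasRpush p2
  haveI : ∀ (Z : Scheme.{u}) (M : Z.Modules), DCoh.HasLTensorMod M := fun Z M =>
    Groth.L00.DerivedApi.hasLTensorMod M
  haveI : DCoh.HasLpull (pullback.diagonal s ≫ p1) := Groth.L00.KFlat.hasLpull _
  haveI : DCoh.HasRpush (pullback.diagonal s ≫ p2) := Groth.L29.DC.RpushQC.hasRpush _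
  let gen := Groth.L07.StrongGen.gen s (Groth.L07.StrongGen.sgl G)
  let Q := ObjectProperty.ofObj (fun _ : PUnit.{u + 1} => gen)
  have hQ : Q gen := ObjectProperty.ofObj.mk PUnit.unit
  have hres' : ∀ K : DCoh.D X, ∃ L : CochainComplex (pullback s s).Modules ℤ,
      DCoh.IsKFlat L ∧ Nonempty (DCoh.toD _ L ≅ (DCoh.Lpull p1).obj K) := fun K => by
    obtain ⟨L, q, hL, -, hq, -⟩ :=
      Groth.L00.KFlat.exists_resolution (DerivedCategory.Q.objPreimage ((DCoh.Lpull p1).obj K))
    haveI := (DerivedCategory.isIso_Q_map_iff_quasiIso _ q).2 hq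
    exact ⟨L, hL, ⟨asIso (DerivedCategory.Q.map q) ≪≫ DerivedCategory.Q.objObjPreimageIso _⟩⟩
  choose L hL eL using hres'
  let F : {K : DCoh.D X // DCoh.IsPerfect K} → (DCoh.D (pullback s s) ⥤ DCoh.D X) :=
    fun K => DCoh.LTensorCx (L K.1) ⋙ DCoh.Rpush p2
  have hbox : (ObjectProperty.ofObj (fun _ : PUnit.{u + 1} => DCoh.inD (pullback s s)
      (Groth.L07.BoxSurj.box p1 p2 B G))) ≤ Groth.L07.StrongGen.Unif F Q := by
    rintro _ ⟨⟨⟩⟩
    refine ⟨0, fun K => ?_⟩
    let E' := (Scheme.Modules.pullback p1).obj B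
    obtain ⟨e⟩ := Groth.L07.StrongGen.nonempty_box p1 p2 B G hB hG (L K.1) (hL K.1)
    haveI : Coh.IsQCoh B := Groth.L29.DC.PCQCoh.isQCoh_of_isFinLocFree hB
    obtain ⟨bc⟩ := Groth.Agent.S1066.result s s K.1 (Groth.L29.DC.PCQCoh.isQCohD_of_perfect K.2) B
      (Groth.L29.DC.PCQCoh.isQCoh_of_isFinLocFree hB) (Groth.L03.ShStab.TwistFlat.isFlatOver_field s B)
    have hcoh : Coh.IsCoh B := Groth.L16.NegPow.isCoh_of_isFinLocFree hB
    have hV : DCoh.IsPerfect ((DCoh.Rpush s).obj ((DCoh.LTensorMod B).obj K.1)) :=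
      Groth.L29.DC.PerfectTensor.isPerfect_Rpush_LTensorMod s K.1 K.2 B hcoh
        (Groth.L03.ShStab.TwistFlat.isFlatOver_field s B)
        ⟨Groth.L16.CohSupport.isClosed_support _ hcoh.2, inferInstance⟩
    exact (Q.triangEnvelopeIter 0).prop_of_iso
      (e ≪≫ (DCoh.LTensorCx (Groth.L07.StrongGen.sgl G)).mapIso
        ((DCoh.Rpush p2).mapIso ((DCoh.LTensorMod E').mapIso (eL K.1).some) ≪≫ bc.symm)).symm
      (Groth.L07.StrongGen.iter_of_perfect s (Groth.L07.StrongGen.sgl G) _ hV)
  obtain ⟨n, hn⟩ := Groth.L07.StrongGen.unif_of_triangEnvelope F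
    (fun K => (Groth.L07.StrongGen.ex_LTensorCx (L K.1)).comp (Groth.L07.StrongGen.ex_Rpush p2))
    Q gen hQ _ hbox _ henv
  refine ⟨gen, n, ?_, fun K hK => ?_⟩
  · refine Groth.L29.DC.isPerfect_LTensorCx _ (Groth.L29.DC.isKFlat_of_isStrictlyPerfect
      (Groth.L07.StrongGen.isStrictlyPerfect_sgl hG))
      (Groth.L29.DC.isPerfect_of_iso (Groth.L07.StrongGen.sglIso G).symm (Groth.Lead.PCProj.isPerfect_inD hG)) _ ?_
    refine Groth.L29.DC.isPerfect_Lpull s ((Groth.Agent.S1105.result k _).2 ?_)
    exact ⟨(HomologicalComplex.single (ModuleCat.{u} k) (ComplexShape.up ℤ) 0).obj (ModuleCat.of k k), 0, 0,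
      fun i hi => HomologicalComplex.isZero_single_obj_X _ _ _ _ (by omega), fun i => by
        by_cases h : i = 0
        · subst h
          let e := (HomologicalComplex.singleObjXSelf (ComplexShape.up ℤ) 0 (ModuleCat.of k k)).symm.toLinearEquiv
          exact ⟨Module.Finite.equiv e, Module.Projective.of_equiv e⟩
        · haveI := ModuleCat.subsingleton_of_isZero
            (HomologicalComplex.isZero_single_obj_X (ComplexShape.up ℤ) 0 (ModuleCat.of k k) i h)
          exact ⟨inferInstance, inferInstance⟩,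
      ⟨((DerivedCategory.singleFunctorIsoCompQ (ModuleCat.{u} k) 0).app (ModuleCat.of k k)).symm⟩⟩
  · obtain ⟨c⟩ := Groth.L07.StrongGen.nonempty_closed (pullback.diagonal s) p1 p2 _ rfl _ rfl K (L K) (hL K)
      (eL K).some
    obtain ⟨c1⟩ := Groth.L07.StrongGen.nonempty_Lpull_id (pullback.diagonal s ≫ p1) (pullback.diagonal_fst s) K
    obtain ⟨c2⟩ := Groth.L07.StrongGen.nonempty_Rpush_id (pullback.diagonal s ≫ p2) (pullback.diagonal_snd s) K
    exact (Q.triangEnvelopeIter n).prop_of_iso (c ≪≫ (DCoh.Rpush _).mapIso c1 ≪≫ c2) (hn ⟨K, hK⟩)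

end Groth.Agent.S6735
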