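import Groth.Statements.S6738
import Groth.Agent.L29.Spread.Koszul
import Groth.Agent.L04.RegularOpen
import Groth.Agent.L19.PerfectHomCases
import Groth.Agent.L29.Dual.GorensteinFlatBC
-- import your own Groth.Agent.* helpers here

set_option autoImplicit false
set_option maxSynthPendingDepth 3
set_option backward.isDefEq.respectTransparency false
set_option backward.defeqAttrib.useBackward true
set_option linter.style.haveILetI false
attribute [local instance] HasDerivedCategory.standard
universe u
open CategoryTheory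
attribute [local instance] HasDerivedCategory.standard
open DEquiv

namespace Groth.Agent.S6738

/-- Suppose R → S is a flat, finite type ring map of Noetherian rings, q ⊂ S is a prime, K is a perfect
object of D(S), and f_1, …, f_r ∈ q S_q form a regular sequence for which the quotient S_q/(f_1, …,
f_r) is R-flat and K ⊗^L_S S_q agrees, up to isomorphism in D(S_q), with the Koszul complex of f_1,
…, f_r. Then one can find an element g ∈ S with g ∉ q, together with a regular sequence f'_1, …,
f'_r in S_g mapping to the f_i in S_q, such that the quotient of S_g by the ideal (f'_1, …, f'_r) is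
R-flat and the Koszul complex of f'_1, …, f'_r is isomorphic, in D(S_g), to K ⊗^L_S S_g. (The
canonical S-algebra map S_g → S_q is quantified over — it exists and is unique since g ∉ q; the
derived base change functors are assumed to exist, as instance binders.) -/
theorem result
    (R S : Type u) [CommRing R] [CommRing S] [IsNoetherianRing R] [IsNoetherianRing S] [Algebra R S]
    [Algebra.FiniteType R S] [Module.Flat R S] (q : Ideal S) [q.IsPrime]
    (K : Dual.D S) (hK : DRing.IsPerfect S K)
    (fs : List (Localization.AtPrime q)) (hfs : ∀ f ∈ fs, f ∈ IsLocalRing.maximalIdeal (Localization.AtPrime q))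
    (hreg : RingTheory.Sequence.IsRegular (Localization.AtPrime q) fs)
    (hflat : Module.Flat R ((Localization.AtPrime q) ⧸ Ideal.span {a : (Localization.AtPrime q) | a ∈ fs}))
    [DRing.HasLBaseChange (algebraMap S (Localization.AtPrime q))]
    (hKf : Nonempty ((DRing.LBaseChange (algebraMap S (Localization.AtPrime q))).obj K ≅
      DerivedCategory.Q.obj (Koszul.koszul (Localization.AtPrime q) fs))) :
    ∃ g : S, g ∉ q ∧ ∀ (φ : (Localization.Away g) →ₐ[S] (Localization.AtPrime q)), ∃ fs' : List (Localization.Away g),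
      fs'.map φ = fs ∧ RingTheory.Sequence.IsRegular (Localization.Away g) fs' ∧
      Module.Flat R ((Localization.Away g) ⧸ Ideal.span {a : (Localization.Away g) | a ∈ fs'}) ∧
      ∀ [DRing.HasLBaseChange (algebraMap S (Localization.Away g))],
        Nonempty ((DRing.LBaseChange (algebraMap S (Localization.Away g))).obj K ≅
          DerivedCategory.Q.obj (Koszul.koszul (Localization.Away g) fs')) := by
  classical
  let L := Localization.AtPrime q
  haveI : Module.Flat S L := IsLocalization.flat L q.primeCompl
  obtain ⟨ls, rfl⟩ : ∃ ls : List (S × q.primeCompl), ls.map (fun x => IsLocalization.mk' L x.1 x.2) = fs := by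
    clear hfs hreg hflat hKf
    induction fs with
    | nil => exact ⟨[], rfl⟩
    | cons f fs ih =>
      obtain ⟨ls, rfl⟩ := ih
      obtain ⟨⟨a, s⟩, rfl⟩ := IsLocalization.mk'_surjective q.primeCompl f
      exact ⟨(a, s) :: ls, rfl⟩
  let l := ls.map Prod.fst
  have hA := Groth.L29.SpreadIso.forall₂_mk' (B := L) q.primeCompl ls
  obtain ⟨g₁, hg₁, hR⟩ := Groth.L04.exists_isWeaklyRegular_nhd q l S L (Algebra.linearMap S L)
    ((RingTheory.Sequence.isWeaklyRegular_map_algebraMap_iff L L l).1
      (Groth.L04.isWeaklyRegular_of_associated hA hreg.toIsWeaklyRegular))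
  let J := Ideal.ofList l
  have hJL : J.map (algebraMap S L) =
      Ideal.span {a : L | a ∈ ls.map (fun x => IsLocalization.mk' L x.1 x.2)} := by
    rw [Ideal.map_ofList, ← Groth.L29.SpreadIso.ofList_eq_of_associated hA]
  haveI : Algebra.FinitePresentation R S := Algebra.FinitePresentation.of_finiteType.mp inferInstance
  haveI : Module.FinitePresentation S (S ⧸ J) := Module.finitePresentation_of_finite S _
  haveI := (Groth.L29.SpreadIso.flat_quot_iff (R := R) q.primeCompl L J _ hJL).2 hflat
  obtain ⟨g₂, hg₂, hF⟩ := Groth.L20.exists_flat_away (R := R) (M := S ⧸ J) q.primeCompl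
  obtain ⟨e₀⟩ := hKf
  obtain ⟨e₁⟩ := Groth.L29.SpreadIso.nonempty_koszul_associated hA
  obtain ⟨e₂⟩ := Groth.L29.SpreadIso.nonempty_L_koszul L l
  obtain ⟨g₃, hg₃, hI⟩ := Groth.L29.SpreadIso.exists_iso_away hK (Groth.L19.PerfectHom.perfect_koszul l) q
    (((Groth.L29.FlatBC.lbcIso (A := S) (B := L)).app K).symm ≪≫ e₀ ≪≫ DerivedCategory.Q.mapIso e₁ ≪≫ e₂.symm)
  let s : S := (ls.map fun x => (x.2 : S)).prod
  have hs : s ∈ q.primeCompl := list_prod_mem fun y hy => by
    obtain ⟨x, -, rfl⟩ := List.mem_map.1 hy
    exact x.2.2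
  let g := g₁ * g₂ * g₃ * s
  have hg : g ∈ q.primeCompl := mul_mem (mul_mem (mul_mem hg₁ hg₂) hg₃) hs
  refine ⟨g, hg, fun φ => ?_⟩
  let G := Localization.Away g
  haveI : Module.Flat S G := IsLocalization.flat G (Submonoid.powers g)
  have hu : ∀ x : S × q.primeCompl, x ∈ ls → IsUnit (algebraMap S G (x.2 : S)) := fun x hx => by
    refine isUnit_of_dvd_unit (map_dvd (algebraMap S G) ?_) (IsLocalization.Away.algebraMap_isUnit g)
    exact (List.dvd_prod (List.mem_map.2 ⟨x, hx, rfl⟩)).trans ⟨g₁ * g₂ * g₃, mul_comm _ _⟩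
  let f' : S × q.primeCompl → G := fun x => algebraMap S G x.1 * Ring.inverse (algebraMap S G (x.2 : S))
  have hA' : List.Forall₂ Associated (ls.map f') (l.map (algebraMap S G)) := by
    rw [List.map_map, List.forall₂_map_left_iff, List.forall₂_map_right_iff, List.forall₂_same]
    intro x hx
    refine ⟨(hu x hx).unit, ?_⟩
    show algebraMap S G x.1 * Ring.inverse (algebraMap S G (x.2 : S)) * algebraMap S G (x.2 : S) = algebraMap S G x.1
    rw [mul_assoc, Ring.inverse_mul_cancel _ (hu x hx), mul_one]
  have hmap : (ls.map f').map φ = ls.map (fun x => IsLocalization.mk' L x.1 x.2) := by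
    rw [List.map_map]
    refine List.map_congr_left fun x hx => ?_
    show φ (f' x) = _
    rw [IsLocalization.eq_mk'_iff_mul_eq, ← φ.commutes, ← map_mul]
    show φ (algebraMap S G x.1 * Ring.inverse (algebraMap S G (x.2 : S)) * algebraMap S G (x.2 : S)) = _
    rw [mul_assoc, Ring.inverse_mul_cancel _ (hu x hx), mul_one, φ.commutes]
  have hsymm : List.Forall₂ Associated (l.map (algebraMap S G)) (ls.map f') :=
    hA'.flip.imp fun a b (h : Associated b a) => Associated.symm h
  refine ⟨ls.map f', hmap, ⟨?_, ?_⟩, ?_, ?_⟩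
  · refine Groth.L04.isWeaklyRegular_of_associated hsymm
      ((RingTheory.Sequence.isWeaklyRegular_map_algebraMap_iff G G l).2 ?_)
    exact hR (Submonoid.powers g) ⟨g, Submonoid.mem_powers g, ⟨g₂ * g₃ * s, by simp only [g]; ring⟩⟩ G
      (Algebra.linearMap S G)
  · intro htop
    have h1 : (1 : G) ∈ Ideal.ofList (ls.map f') := by
      have : (1 : G) ∈ (⊤ : Submodule G G) := trivial
      rw [htop, smul_eq_mul, Ideal.mul_top] at this
      exact this
    have h2 : φ 1 ∈ (Ideal.ofList (ls.map f')).map φ.toRingHom := Ideal.mem_map_of_mem φ.toRingHom h1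
    rw [map_one, Ideal.map_ofList] at h2
    refine (IsLocalRing.maximalIdeal.isMaximal L).ne_top ((Ideal.eq_top_iff_one _).2 (Ideal.span_le.2 ?_ h2))
    intro y hy
    exact hfs y (by rw [← hmap]; exact hy)
  · have hJG : J.map (algebraMap S G) = Ideal.span {a : G | a ∈ ls.map f'} := by
      rw [Ideal.map_ofList, ← Groth.L29.SpreadIso.ofList_eq_of_associated hA']
    exact (Groth.L29.SpreadIso.flat_quot_iff (R := R) (Submonoid.powers g) G J _ hJG).1
      (Groth.L29.SpreadIso.flat_localized_powers_of_dvd ⟨g₁ * g₃ * s, by simp only [g]; ring⟩ hF)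
  · intro _
    obtain ⟨e⟩ := hI g ⟨g₁ * g₂ * s, by simp only [g]; ring⟩
    obtain ⟨e₃⟩ := Groth.L29.SpreadIso.nonempty_L_koszul G l
    obtain ⟨e₄⟩ := Groth.L29.SpreadIso.nonempty_koszul_associated hA'
    exact ⟨(Groth.L29.FlatBC.lbcIso (A := S) (B := G)).app K ≪≫ e ≪≫ e₃ ≪≫ DerivedCategory.Q.mapIso e₄.symm⟩

end Groth.Agent.S6738
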