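import Groth.Statements.S6739
import Groth.Agent.L07.BvdB.KernelSystem
import Mathlib.AlgebraicGeometry.Morphisms.FiniteType

set_option autoImplicit false
set_option linter.style.haveILetI false
set_option backward.isDefEq.respectTransparency.types false
universe u
open CategoryTheory CategoryTheory.Limits AlgebraicGeometry
attribute [local instance] HasDerivedCategory.standard
open DEquiv

namespace Groth.Agent.S6739

/-- Let k be a field and X, Y schemes of finite type over k. Let K_0 ⟶ K_1 ⟶ K_2 ⟶ ⋯ be a system of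
perfect objects of D(O_{X ×_k Y}) and m ≥ 0 an integer such that (1) H^q(K_n) = 0 for q > m and all
n, and (2) for every coherent O_X-module F whose support is a finite set of closed points, each
object R pr_{2,*}(pr_1^* F ⊗^L K_n) has zero cohomology sheaves except possibly in degrees lying in
[-m, m] ∪ [-m-n, m-n], and whenever n > 2m, the maps induced by the system are isomorphisms on the
i-th cohomology sheaves of these objects for all i with -m ≤ i ≤ m. Then the cohomology sheaves of
each K_n are zero in every degree not in [-m, m] ∪ [-m-n, m-n], and once n > 2m, each map K_n ⟶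
K_{n+1} of the system induces an isomorphism on the i-th cohomology sheaf for all i with -m ≤ i ≤ m.
(The derived functors - ⊗^L pr_1^* F and R pr_{2,*} are assumed to exist, as instance binders; pr_1
is flat, so pr_1^* F is the derived pullback. A further splitting of K_n when X and Y are smooth is
not part of this statement.) -/
theorem result
    (k : Type u) [Field k] (X Y : Scheme.{u}) [X.Over (Spec (.of k))] [Y.Over (Spec (.of k))]
    [LocallyOfFiniteType (X ↘ Spec (.of k))] [CompactSpace X] [LocallyOfFiniteType (Y ↘ Spec (.of k))] [CompactSpace Y]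
    [∀ F : X.Modules, DCoh.HasLTensorMod ((Scheme.Modules.pullback (pullback.fst (X ↘ Spec (.of k)) (Y ↘ Spec (.of k)))).obj F)]
    [DCoh.HasRpush (pullback.snd (X ↘ Spec (.of k)) (Y ↘ Spec (.of k)))]
    (K : ℕ → DCoh.D (pullback (X ↘ Spec (.of k)) (Y ↘ Spec (.of k)))) (t : ∀ n : ℕ, K n ⟶ K (n + 1)) (hK : ∀ n, DCoh.IsPerfect (K n))
    (m : ℕ) (h1 : ∀ (n : ℕ) (q : ℤ), (m : ℤ) < q → IsZero (DCoh.HD (K n) q))
    (h2 : ∀ (F : X.Modules), Coh.IsCoh F → (CohB1.support F).Finite →
      (∀ x ∈ CohB1.support F, IsClosed ({x} : Set X)) →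
      (∀ (n : ℕ) (i : ℤ), ¬ (-(m : ℤ) ≤ i ∧ i ≤ m) → ¬ (-(m : ℤ) - n ≤ i ∧ i ≤ (m : ℤ) - n) →
          IsZero (DCoh.HD ((DCoh.Rpush (pullback.snd (X ↘ Spec (.of k)) (Y ↘ Spec (.of k)))).obj ((DCoh.LTensorMod ((Scheme.Modules.pullback (pullback.fst (X ↘ Spec (.of k)) (Y ↘ Spec (.of k)))).obj F)).obj (K n))) i)) ∧
      (∀ (n : ℕ) (i : ℤ), 2 * m < n → -(m : ℤ) ≤ i → i ≤ m →
          IsIso ((DerivedCategory.homologyFunctor _ i).map ((DCoh.Rpush (pullback.snd (X ↘ Spec (.of k)) (Y ↘ Spec (.of k)))).map ((DCoh.LTensorMod ((Scheme.Modules.pullback (pullback.fst (X ↘ Spec (.of k)) (Y ↘ Spec (.of k)))).obj F)).map (t n)))))) :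
    (∀ (n : ℕ) (i : ℤ), ¬ (-(m : ℤ) ≤ i ∧ i ≤ m) → ¬ (-(m : ℤ) - n ≤ i ∧ i ≤ (m : ℤ) - n) →
        IsZero (DCoh.HD (K n) i)) ∧
    ∀ (n : ℕ) (i : ℤ), 2 * m < n → -(m : ℤ) ≤ i → i ≤ m →
        IsIso ((DerivedCategory.homologyFunctor _ i).map (t n)) := by
  haveI : IsLocallyNoetherian X := LocallyOfFiniteType.isLocallyNoetherian (X ↘ Spec (.of k))
  set p1 := pullback.fst (X ↘ Spec (.of k)) (Y ↘ Spec (.of k))
  set p2 := pullback.snd (X ↘ Spec (.of k)) (Y ↘ Spec (.of k))
  let P := pullback (X ↘ Spec (CommRingCat.of k)) (Y ↘ Spec (CommRingCat.of k))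
  haveI : LocallyOfFiniteType p1 := MorphismProperty.pullback_fst _ _ inferInstance
  haveI : IsLocallyNoetherian P := LocallyOfFiniteType.isLocallyNoetherian p1
  haveI : QuasiCompact (Y ↘ Spec (CommRingCat.of k)) :=
    (quasiCompact_iff_compactSpace _).2 inferInstance
  haveI : QuasiCompact p1 := MorphismProperty.pullback_fst _ _ inferInstance
  haveI : CompactSpace P := QuasiCompact.compactSpace_of_compactSpace p1
  haveI : ∀ G : P.Modules, DCoh.HasLTensorMod G := fun G => Groth.L00.DerivedApi.hasLTensorMod G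
  haveI : JacobsonSpace (Spec (CommRingCat.of k) : Scheme.{u}) := inferInstance
  haveI : JacobsonSpace X := LocallyOfFiniteType.jacobsonSpace (X ↘ Spec (CommRingCat.of k))
  have hcl : ∀ z : P, IsClosed ({z} : Set P) → IsClosed ({p1 z} : Set X) :=
    fun z hz => Scheme.Hom.closePoints_subset_preimage_closedPoints p1 hz
  have sq := IsPullback.of_hasPullback (X ↘ Spec (CommRingCat.of k)) (Y ↘ Spec (CommRingCat.of k))
  have hT : ∀ (x : X) (hx : IsClosed ({x} : Set X)) (j : ℕ) (hj : 0 < j), _ := fun x hx j hj =>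
    h2 _ (Groth.L07.BvdB.ThickPoint.isCoh_thick hx j hj)
      ((Set.finite_singleton x).subset (Groth.L07.BvdB.ThickPoint.support_thick hx j hj))
      (fun y hy => by rw [Set.mem_singleton_iff.1 (Groth.L07.BvdB.ThickPoint.support_thick hx j hj hy)]; exact hx)
  refine ⟨fun n i hi hi' => Groth.L07.BvdB.KernelSystem.isZero_of_twists sq hcl (K n) (hK n) i
    (fun x hx j hj => (hT x hx j hj).1 n i hi hi'), fun n i hn hi hi' => ?_⟩
  obtain ⟨C, g, h, hd⟩ := Pretriangulated.distinguished_cocone_triangle (t n)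
  have hC : ∀ l : ℤ, -(m : ℤ) - 1 ≤ l → l ≤ m → IsZero (DCoh.HD C l) := by
    intro l hl hl'
    refine Groth.L07.BvdB.KernelSystem.isZero_of_twists sq hcl C
      (Groth.L29.DC.perfect_third hd (hK n) (hK (n + 1))) l (fun x hx j hj => ?_)
    obtain ⟨C', g', h', hd', a, b, hab⟩ := Groth.L07.BvdB.KernelSystem.exists_cone
      (Groth.L00.DerivedApi.acyclicKFlat_tensorMod
        ((Scheme.Modules.pullback p1).obj (Groth.L07.BvdB.ThickPoint.thick x j))) (t n)
    let eC : C ≅ C' := Pretriangulated.Triangle.π₃.mapIso (Pretriangulated.isoTriangleOfIso₁₂ _ _ hd hd'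
      (Iso.refl _) (Iso.refl _) ((Category.comp_id _).trans (Category.id_comp _).symm))
    haveI := Groth.L17.PushQCoh.hasInjectiveResolutions P
    haveI := Groth.L29.DC.QRlim.enoughKInj P
    haveI := Groth.L17.PushQCoh.additive_push p2
    let α := (DCoh.pushKh p2).totalRightDerivedUnit DerivedCategory.Qh
      (HomotopyCategory.quasiIso P.Modules (ComplexShape.up ℤ))
    obtain ⟨δ, hR⟩ := Groth.L10.RDerTri.exists_triangle (F := Scheme.Modules.pushforward p2) α _ hab
    refine IsZero.of_iso (Groth.L07.BvdB.KernelSystem.isZero_H₃ hR l ?_ ?_)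
      ((DerivedCategory.homologyFunctor Y.Modules l).mapIso ((DCoh.Rpush p2).mapIso
        ((DCoh.LTensorMod _).mapIso eC)))
    · by_cases h0 : -(m : ℤ) ≤ l
      · exact @IsIso.epi_of_iso _ _ _ _ _ ((hT x hx j hj).2 n l hn h0 hl')
      · exact ⟨fun u v _ => ((hT x hx j hj).1 (n + 1) l (by omega) (by push_cast; omega)).eq_of_src _ _⟩
    · by_cases h0 : l + 1 ≤ (m : ℤ)
      · exact @IsIso.mono_of_iso _ _ _ _ _ ((hT x hx j hj).2 n (l + 1) hn (by omega) h0)
      · exact ⟨fun u v _ => ((hT x hx j hj).1 n (l + 1) (by omega) (by omega)).eq_of_tgt _ _⟩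
  exact Groth.L07.BvdB.KernelSystem.isIso_H_of_isZero_H₃ hd i (hC _ (by omega) (by omega)) (hC _ (by omega) hi')

end Groth.Agent.S6739
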