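import Groth.Statements.S6741
import Groth.Agent.L07.BvdB.FibreHom
import Groth.Agent.L07.BvdB.PointDual

set_option autoImplicit false
set_option linter.style.haveILetI false
set_option backward.isDefEq.respectTransparency.types false
universe u
open CategoryTheory AlgebraicGeometry
attribute [local instance] HasDerivedCategory.standard
open DEquiv

namespace Groth.Agent.S6741

/-- Let X be a scheme of finite type over a field k which is regular, x ∈ X a closed point, O_x the
skyscraper sheaf at x with value κ(x), and K a perfect object of D(O_X), given by a complex E of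
O_X-modules; the derived functors - ⊗^L E and its right adjoint RHom(E, -) are assumed to exist
(instance binders), and K^∨ = RHom(E, O_X). If Hom(K, O_x⟦i⟧) = 0 then H^i(K^∨) vanishes on an open
neighbourhood of x (no point of it lies in the support). -/
theorem result
    (k : Type u) [Field k] (X : Scheme.{u}) [X.Over (Spec (.of k))]
    [LocallyOfFiniteType (X ↘ Spec (.of k))] [CompactSpace X]
    (hreg : Models.IsRegularScheme X) (x : X) (hx : IsClosed ({x} : Set X))
    (E : CochainComplex X.Modules ℤ) (hK : DCoh.IsPerfect (DCoh.toD X E))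
    [DCoh.HasLTensorCx E] [DCoh.HasRSheafHom E] (i : ℤ)
    (h : ∀ φ : DCoh.toD X E ⟶ (shiftFunctor (DCoh.D X) i).obj (DCoh.inD X ((Coh.push (X.fromSpecResidueField x)).obj (Coh.structureModule _))), φ = 0) :
    ∃ U : X.Opens, x ∈ U ∧ ∀ y : X, y ∈ U →
      y ∉ CohB1.support (DCoh.HD ((DCoh.RSheafHom E).obj (DCoh.inD X (Coh.structureModule X))) i) := by
  haveI : IsLocallyNoetherian X := LocallyOfFiniteType.isLocallyNoetherian (X ↘ Spec (CommRingCat.of k))
  haveI : ∀ y : X, DCoh.HasLpull (X.fromSpecResidueField y) := fun y => Groth.L00.KFlat.hasLpull _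
  let A := DCoh.toD X E
  let A' : DCoh.D X := A⟦-i⟧
  have hA' : DCoh.IsPerfect A' := Groth.L29.DC.perfect_shift hK (-i)
  let K' := Groth.L07.BvdB.DualFun.rep A'
  have hK' := Groth.L07.BvdB.DualFun.isKFlat_rep A'
  let e' : DCoh.toD X K' ≅ A' := Groth.L07.BvdB.DualFun.repIso A'
  haveI := Groth.L00.KFlat.hasLTensorCx K'
  haveI := Groth.L29.DC.RHom.hasRSheafHom K'
  let B := Groth.L07.BvdB.DualFun.dual A'
  let D := Groth.L07.BvdB.DualFun.rep B
  have hD := Groth.L07.BvdB.DualFun.isKFlat_rep B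
  haveI := Groth.L00.KFlat.hasLTensorCx D
  let eD : DCoh.toD X D ≅ B := Groth.L07.BvdB.DualFun.repIso B
  obtain ⟨a⟩ := Groth.L07.BvdB.DualHom.nonempty_homOD (k := k) K' (Groth.L07.BvdB.PointHom.ptD x)
  obtain ⟨b⟩ := Groth.L29.DC.EvalMain.nonempty_dual K' D hK' (Groth.L29.DC.isPerfect_of_iso e'.symm hA') hD
    ⟨eD ≪≫ Groth.L07.BvdB.DualFun.dualIso A' e'⟩ (Groth.L07.BvdB.PointHom.ptD x)
  let z := (shiftFunctorZero (DCoh.D X) ℤ).app ((DCoh.LTensorCx D).obj (Groth.L07.BvdB.PointHom.ptD x))
  have hz : ∀ φ : A' ⟶ Groth.L07.BvdB.PointHom.ptD x, φ = 0 := fun φ => by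
    apply (shiftFunctor (DCoh.D X) i).map_injective
    rw [← cancel_epi (((shiftFunctorCompIsoId (DCoh.D X) (-i) i (by omega)).app A).inv), Functor.map_zero,
      Limits.comp_zero]
    exact h _
  have h0 : PerfD.betti B x 0 = 0 :=
    Groth.L07.BvdB.FibreHom.betti_eq_zero B x 0 fun φ => by
      let t := (shiftFunctor _ (0 : ℤ)).mapIso
        ((DCoh.Lpull (X.fromSpecResidueField x)).mapIso eD)
      rw [← cancel_mono t.inv, Limits.zero_comp]
      refine Groth.L07.BvdB.FibreHom.zero_fibre_of_zero_tensor hx D hD 0 (fun ψ => ?_) _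
      rw [← cancel_mono (z.hom ≫ b.hom), Limits.zero_comp]
      obtain ⟨χ, hχ⟩ := a.surjective (ψ ≫ z.hom ≫ b.hom)
      rw [← hχ, show χ = 0 by rw [← cancel_epi e'.inv, Limits.comp_zero]; exact hz _]
      exact map_zero a
  have hB : DCoh.IsPerfect B := Groth.L07.BvdB.DualFun.isPerfect_dual hA'
  obtain ⟨s⟩ := Groth.L07.BvdB.DualFun.nonempty_dual_shift A (-i)
  let oQ : DerivedCategory.Q.obj (Groth.L29.DC.RHom.O0 X) ≅ DCoh.inD X (Coh.structureModule X) :=
    (((SingleFunctors.evaluation _ _ 0).mapIso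
      (DerivedCategory.singleFunctorsPostcompQIso X.Modules)).app (Coh.structureModule X)).symm
  let d : DCoh.HD B 0 ≅ DCoh.HD ((DCoh.RSheafHom E).obj (DCoh.inD X (Coh.structureModule X))) i :=
    (DerivedCategory.homologyFunctor X.Modules 0).mapIso s ≪≫
      ((DerivedCategory.homologyFunctor X.Modules 0).shiftIso (- -i) 0 i (by omega)).app _ ≪≫
      (DerivedCategory.homologyFunctor X.Modules i).mapIso
        (Groth.L07.BvdB.DualFun.dualIso A (Iso.refl A) ≪≫ (DCoh.RSheafHom E).mapIso oQ)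
  have hx0 := Groth.L07.BvdB.FibreNakayama.notMem_support B hB x 0 h0
  refine ⟨⟨_, (Groth.L16.CohSupport.isClosed_support _ (Groth.L29.CohSupp.isCohD_of_perfect hB 0).2).isOpen_compl⟩,
    hx0, fun y hy hs => hy ((Groth.L21.Mod.support_congr d).symm.subset hs)⟩

end Groth.Agent.S6741
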