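import Groth.Statements.S6745
import Groth.Agent.L07.BvdB.Transfer
import Groth.Agent.L07.BvdB.Represent

set_option autoImplicit false
set_option linter.style.haveILetI false
set_option backward.isDefEq.respectTransparency.types false
universe u
open CategoryTheory AlgebraicGeometry
attribute [local instance] HasDerivedCategory.standard
open DEquiv

namespace Groth.Agent.S6745

open CategoryTheory.Limits CategoryTheory.Pretriangulated Opposite in
/-- Let X be a scheme over a field k whose structure morphism is H-projective (X is a closed subscheme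
of some P^n_k) and write D_perf(O_X) for the full subcategory of perfect objects of D(O_X) (the
instance hypothesis records that it is a triangulated subcategory). Let H be a contravariant functor
from D_perf(O_X) to k-vector spaces which is k-linear, cohomological (for every distinguished
triangle A ⟶ B ⟶ C of D(O_X) with perfect vertices the sequence H(C) ⟶ H(B) ⟶ H(A) is exact) and
such that for every perfect E the spaces H(E⟦n⟧) are finite-dimensional for all n ∈ ℤ and nonzero
for only finitely many n. Then H is isomorphic to the functor E ↦ Hom(E, K) for some object K of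
D(O_X) which is bounded with coherent cohomology sheaves (existence of K and of an isomorphism of
functors). -/
theorem result
    (k : Type u) [Field k] (X : Scheme.{u}) [X.Over (Spec (.of k))]
    (hproj : RelProj.IsHProjective (X ↘ Spec (.of k)))
    [(SGA6.perfP X).IsTriangulated]
    (H : ((SGA6.perfP X).FullSubcategory)ᵒᵖ ⥤ ModuleCat.{u + 1} k) [H.Additive]
    (hlin : ∀ (A B : (SGA6.perfP X).FullSubcategory) (r : k) (f : A ⟶ B), H.map (r • f).op = r • H.map f.op)
    (hcoh : ∀ T ∈ distTriang (DCoh.D X), ∀ (h₁ : DCoh.IsPerfect T.obj₁)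
      (h₂ : DCoh.IsPerfect T.obj₂) (h₃ : DCoh.IsPerfect T.obj₃)
      (y : H.obj (op ⟨T.obj₂, h₂⟩)),
      H.map (ObjectProperty.homMk T.mor₁ : (⟨T.obj₁, h₁⟩ : (SGA6.perfP X).FullSubcategory) ⟶ ⟨T.obj₂, h₂⟩).op y = 0 →
        ∃ z : H.obj (op ⟨T.obj₃, h₃⟩),
          H.map (ObjectProperty.homMk T.mor₂ : (⟨T.obj₂, h₂⟩ : (SGA6.perfP X).FullSubcategory) ⟶ ⟨T.obj₃, h₃⟩).op z = y)
    (hfin : ∀ E : (SGA6.perfP X).FullSubcategory,
      (∀ n : ℤ, Module.Finite k (H.obj (op ((shiftFunctor ((SGA6.perfP X).FullSubcategory) n).obj E)))) ∧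
      Set.Finite {n : ℤ | Nontrivial (H.obj (op ((shiftFunctor ((SGA6.perfP X).FullSubcategory) n).obj E)))}) :
    ∃ K : DCoh.D X, SGA6.cohbP X K ∧
      Nonempty (H ≅ (ObjectProperty.ι (SGA6.perfP X)).op ⋙ (linearYoneda k (DCoh.D X)).obj K) := by
  obtain ⟨n, i, hi, hif⟩ := hproj
  let j : X ⟶ CohB1.ProjSpace n k := i ≫ (Groth.L16.ProjSpace.isoOver n k).inv
  haveI : IsClosedImmersion j := inferInstance
  have hj : j ≫ CohB1.ProjSpace.toSpec n k = X ↘ Spec (CommRingCat.of k) := by
    rw [← hif, ← Groth.L16.ProjSpace.isoOver_hom_toBase, Category.assoc, Iso.inv_hom_id_assoc]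
  haveI : IsProper (X ↘ Spec (CommRingCat.of k)) := by
    rw [← hif]
    infer_instance
  haveI : CompactSpace X := QuasiCompact.compactSpace_of_compactSpace (X ↘ Spec (CommRingCat.of k))
  haveI : QuasiSeparatedSpace X := quasiSeparatedSpace_of_quasiSeparated (X ↘ Spec (CommRingCat.of k))
  have hfin' : ∀ A : (SGA6.perfP X).FullSubcategory, Module.Finite k (H.obj (op A)) := fun A => by
    haveI := (hfin A).1 0
    exact Module.Finite.equiv (H.mapIso ((shiftFunctorZero ((SGA6.perfP X).FullSubcategory) ℤ).app A).op).toLinearEquiv.symm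
  obtain ⟨K, hK, ⟨e⟩⟩ := Groth.L07.BvdB.exists_representing_perf H hlin hcoh hfin'
  refine ⟨K, Groth.L07.BvdB.cohb_of_fin_closed j hj K hK fun d _ => ?_, ⟨e⟩⟩
  let A : (SGA6.perfP X).FullSubcategory := ⟨Groth.L07.BvdB.test j d, Groth.L07.BvdB.isPerfect_test j d⟩
  let φ : ∀ m : ℤ, H.obj (op (A⟦(-m)⟧)) ≃ₗ[k] (A.obj ⟶ K⟦m⟧) := fun m =>
    ((e.app (op (A⟦(-m)⟧))).toLinearEquiv : H.obj (op (A⟦(-m)⟧)) ≃ₗ[k] ((SGA6.perfP X).ι.obj (A⟦(-m)⟧) ⟶ K)).trans
      ((Linear.homCongr k (((SGA6.perfP X).ι.commShiftIso (-m)).app A) (Iso.refl K)).trans ((LinearEquiv.ofBijective ((shiftFunctor (DCoh.D X) m).mapLinearMap k :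
          (A.obj⟦(-m)⟧ ⟶ K) →ₗ[k] _) ((Functor.FullyFaithful.ofFullyFaithful _).map_bijective _ _)).trans
        (Linear.homCongr k ((shiftFunctorCompIsoId (DCoh.D X) (-m) m (by omega)).app A.obj) (Iso.refl _))))
  refine ⟨fun m => ?_, ((hfin A).2.image fun n => -n).subset fun m hm => ⟨-m, ?_, neg_neg m⟩⟩
  · haveI := (hfin A).1 (-m)
    exact Module.Finite.equiv (φ m)
  · exact (φ m).toEquiv.nontrivial_congr.2 hm

end Groth.Agent.S6745
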