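import Groth.Statements.S6752
import Groth.Agent.L07.PtAuto.Main

set_option autoImplicit false
universe u
open CategoryTheory AlgebraicGeometry
attribute [local instance] HasDerivedCategory.standard
open DEquiv

namespace Groth.Agent.S6752

/-- Let X be a scheme proper over a field k which is regular (all local rings regular), and let F :
D_perf(O_X) ⥤ D_perf(O_X) be a k-linear exact functor on the full subcategory of perfect objects
(the instance hypothesis records that it is a triangulated subcategory). Assume M ≅ F(M) for every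
coherent O_X-module M whose support has dimension 0 (a nonempty finite set of closed points; M
viewed in degree 0, a perfect object since X is regular, the statement quantifying over a proof of
this). Then there exist an automorphism f of X over k which is the identity on the underlying
topological space and an invertible O_X-module L such that F(M) ≅ (f^* M ⊗ L)⟦0⟧ for every coherent
O_X-module M, naturally in M. (The published statement concludes that F and K ↦ Lf^* K ⊗^L L are
siblings; this row states the first sibling condition, the natural isomorphism on coherent modules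
in degree 0, and does not state the objectwise isomorphisms F(K) ≅ Lf^* K ⊗^L L.) -/
theorem result
    (k : Type u) [Field k] (X : Scheme.{u}) [X.Over (Spec (.of k))] [IsProper (X ↘ Spec (.of k))]
    (hreg : Models.IsRegularScheme X) [(SGA6.perfP X).IsTriangulated]
    (F : (SGA6.perfP X).FullSubcategory ⥤ (SGA6.perfP X).FullSubcategory) [F.Additive] [F.Linear k]
    [F.CommShift ℤ] [F.IsTriangulated]
    (h : ∀ (M : X.Modules), Coh.IsCoh M → (CohB1.support M).Finite → (CohB1.support M).Nonempty →
        (∀ x ∈ CohB1.support M, IsClosed ({x} : Set X)) →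
        ∀ (hM : DCoh.IsPerfect (DCoh.inD X M)),
          Nonempty ((⟨DCoh.inD X M, hM⟩ : (SGA6.perfP X).FullSubcategory) ≅ F.obj ⟨DCoh.inD X M, hM⟩)) :
    ∃ (f : X ≅ X) (_ : f.hom ≫ (X ↘ Spec (.of k)) = X ↘ Spec (.of k)) (_ : ∀ x : X, f.hom.base x = x)
      (L : X.Modules) (_ : PicF.IsInvertible L)
      (e : ∀ (M : X.Modules), Coh.IsCoh M → ∀ (hM : DCoh.IsPerfect (DCoh.inD X M)),
        (F.obj ⟨DCoh.inD X M, hM⟩).obj ≅ DCoh.inD X ((Scheme.Modules.pullback f.hom ⋙ DCoh.tensorRightMod L).obj M)),
      ∀ (M N : X.Modules) (hcM : Coh.IsCoh M) (hcN : Coh.IsCoh N)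
        (hM : DCoh.IsPerfect (DCoh.inD X M)) (hN : DCoh.IsPerfect (DCoh.inD X N)) (φ : M ⟶ N),
        (F.map (ObjectProperty.homMk ((DerivedCategory.singleFunctor X.Modules 0).map φ) :
            (⟨DCoh.inD X M, hM⟩ : (SGA6.perfP X).FullSubcategory) ⟶ ⟨DCoh.inD X N, hN⟩)).hom ≫ (e N hcN hN).hom =
          (e M hcM hM).hom ≫ (DerivedCategory.singleFunctor X.Modules 0).map ((Scheme.Modules.pullback f.hom ⋙ DCoh.tensorRightMod L).map φ) := by
  haveI : IsLocallyNoetherian X := LocallyOfFiniteType.isLocallyNoetherian (X ↘ Spec (.of k))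
  haveI : CompactSpace X := QuasiCompact.compactSpace_of_compactSpace (X ↘ Spec (.of k))
  haveI : JacobsonSpace X := LocallyOfFiniteType.jacobsonSpace (X ↘ Spec (.of k))
  obtain ⟨hF, hF'⟩ := Groth.Agent.S6750.result k X hreg F h
  haveI := hF
  haveI := hF'
  haveI : F.EssSurj := ⟨fun M => Groth.Agent.S6751.result k X X hreg F (𝟭 _)
    (fun N a b c d e => (h N a b c d e).map Iso.symm) M⟩
  obtain ⟨f, hf, hb, L, hL, ⟨E⟩⟩ := Groth.L07.PtAuto.exists_pullback_twist hreg F (k := k) h
  exact ⟨f, hf, hb, L, hL, fun M hc _ => E.app ⟨M, hc⟩,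
    fun M N hcM hcN _ _ φ => E.hom.naturality (X := (⟨M, hcM⟩ : Groth.L07.PtAuto.CC X)) (Y := ⟨N, hcN⟩) (ObjectProperty.homMk φ)⟩

end Groth.Agent.S6752
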