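import Groth.Statements.S6759
import Groth.Agent.L07.FMDiag.Kernel
import Groth.Agent.L07.SyntKoszul
import Groth.Agent.L29.DCoh.RHomQCoh
import Mathlib.AlgebraicGeometry.Morphisms.FiniteType

set_option autoImplicit false
set_option linter.style.haveILetI false
set_option backward.isDefEq.respectTransparency.types false
universe u
open CategoryTheory AlgebraicGeometry
attribute [local instance] HasDerivedCategory.standard
open DEquiv

namespace Groth.Agent.S6759

/-- Let X be a scheme smooth and proper over a field k and let K be a complex of O_{X ×_k X}-modules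
defining a perfect object of D(O_{X ×_k X}). The derived functors Lpr_1^*, - ⊗^L K and Rpr_{2,*} are
assumed to exist (instance binders). If the Fourier-Mukai functor Φ_K = Rpr_{2,*}(Lpr_1^*(-) ⊗^L K),
restricted to the full subcategory of perfect objects of D(O_X), is isomorphic to the inclusion of
that subcategory (that is, Φ_K is isomorphic to the identity functor of D_perf(O_X)), then K is
isomorphic in D(O_{X ×_k X}) to Δ_* O_X placed in degree 0, where Δ is the diagonal of X over k
(existence of an isomorphism). -/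
theorem result
    (k : Type u) [Field k] (X : Scheme.{u}) [X.Over (Spec (.of k))] [IsProper (X ↘ Spec (.of k))] [Smooth (X ↘ Spec (.of k))]
    (K : CochainComplex (Limits.pullback (X ↘ Spec (.of k)) (X ↘ Spec (.of k))).Modules ℤ) (hK : DCoh.IsPerfect (DCoh.toD _ K))
    [DCoh.HasLpull (Limits.pullback.fst (X ↘ Spec (.of k)) (X ↘ Spec (.of k)))] [DCoh.HasLTensorCx K] [DCoh.HasRpush (Limits.pullback.snd (X ↘ Spec (.of k)) (X ↘ Spec (.of k)))]
    (h : Nonempty (ObjectProperty.ι (SGA6.perfP X) ⋙ (DCoh.Lpull (Limits.pullback.fst (X ↘ Spec (.of k)) (X ↘ Spec (.of k))) ⋙ DCoh.LTensorCx K ⋙ DCoh.Rpush (Limits.pullback.snd (X ↘ Spec (.of k)) (X ↘ Spec (.of k)))) ≅ ObjectProperty.ι (SGA6.perfP X))) :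
    Nonempty (DCoh.toD _ K ≅
      DCoh.inD (Limits.pullback (X ↘ Spec (.of k)) (X ↘ Spec (.of k))) ((Coh.push (Limits.pullback.diagonal (X ↘ Spec (.of k)))).obj (Coh.structureModule X))) := by
  let s := X ↘ Spec (CommRingCat.of k)
  let p1 := Limits.pullback.fst s s
  let p2 := Limits.pullback.snd s s
  let P := Limits.pullback s s
  haveI : LocallyOfFiniteType p1 := MorphismProperty.pullback_fst _ _ inferInstance
  haveI : Flat p1 := MorphismProperty.pullback_fst _ _ inferInstance
  haveI : QuasiCompact p1 := MorphismProperty.pullback_fst _ _ inferInstance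
  haveI : IsLocallyNoetherian X := LocallyOfFiniteType.isLocallyNoetherian s
  haveI : IsLocallyNoetherian P := LocallyOfFiniteType.isLocallyNoetherian p1
  haveI : CompactSpace X := QuasiCompact.compactSpace_of_compactSpace s
  haveI : CompactSpace P := QuasiCompact.compactSpace_of_compactSpace p1
  haveI : JacobsonSpace X := LocallyOfFiniteType.jacobsonSpace s
  haveI : JacobsonSpace P := LocallyOfFiniteType.jacobsonSpace p1
  haveI : ∀ G : (Limits.pullback s s).Modules, DCoh.HasLTensorMod G :=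
    fun G => Groth.L00.DerivedApi.hasLTensorMod G
  have sq := IsPullback.of_hasPullback s s
  have hreg : Models.IsRegularScheme X := fun x => Groth.L07.SyntKoszul.isRegularLocalRing_of_smooth s x
  obtain ⟨Φ⟩ := h
  let perf : ∀ T : X.Modules, Coh.IsCoh T → (SGA6.perfP X).FullSubcategory := fun T hT =>
    ⟨DCoh.inD X T, Groth.L07.BvdB.PointSelf.isPerfect_inD hreg hT⟩
  have hKq : DCoh.IsQCohD (DCoh.toD P K) := Groth.L29.DC.PCQCoh.isQCohD_of_perfect hK
  have hcl : ∀ z : P, IsClosed ({z} : Set P) → IsClosed ({p1 z} : Set X) :=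
    fun z hz => Scheme.Hom.closePoints_subset_preimage_closedPoints p1 hz
  have hK0 : ∀ i : ℤ, i ≠ 0 → Limits.IsZero (DCoh.HD (DCoh.toD P K) i) := by
    intro i hi
    obtain ⟨Pk, q, hPk, -, hq, -⟩ := Groth.L00.KFlat.exists_resolution K
    haveI := (DerivedCategory.isIso_Q_map_iff_quasiIso _ q).2 hq
    let eK : DCoh.toD P Pk ≅ DCoh.toD P K := asIso (DerivedCategory.Q.map q)
    haveI := Groth.L00.KFlat.hasLTensorCx Pk
    obtain ⟨t⟩ := Groth.L29.DC.RHom.nonempty_lt_iso eK
    refine Groth.L07.BvdB.KernelSystem.isZero_of_twists sq hcl _ hK i fun x hx n hn => ?_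
    let T := Groth.L07.BvdB.ThickPoint.thick x n
    obtain ⟨eM⟩ := Groth.L07.FMDiag.nonempty_ltMod (p := p1) Pk hPk eK T
    refine Limits.IsZero.of_iso ?_ ((DerivedCategory.homologyFunctor X.Modules i).mapIso
      ((DCoh.Rpush p2).mapIso (eM ≪≫ ((Groth.L07.FMDiag.ltIso (p := p1) Pk hPk).app T).symm ≪≫
        t.app _) ≪≫ Φ.app (perf T (Groth.L07.BvdB.ThickPoint.isCoh_thick hx n hn))))
    show Limits.IsZero (DCoh.HD (DCoh.inD X T) i)
    rcases lt_or_gt_of_ne hi with h | h
    · exact DerivedCategory.isZero_of_isGE (DCoh.inD X T) 0 i h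
    · exact DerivedCategory.isZero_of_isLE (DCoh.inD X T) 0 i h
  obtain ⟨L, hLle, hL, -, ⟨eL⟩⟩ := Groth.L29.DC.exists_flat_representative_le (DCoh.toD P K) 0
    (fun i hi => hK0 i (by omega))
  haveI := hLle
  haveI := Groth.L00.KFlat.hasLTensorCx L
  obtain ⟨t⟩ := Groth.L29.DC.RHom.nonempty_lt_iso eL
  let H : ∀ i : ℤ, L.homology i ≅ DCoh.HD (DCoh.toD P K) i := fun i =>
    ((DerivedCategory.homologyFunctorFactors P.Modules i).app L).symm ≪≫
      (DerivedCategory.homologyFunctor P.Modules i).mapIso eL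
  let M := L.homology 0
  have hMc : Coh.IsCoh M :=
    Groth.L16.CohSupport.isCoh_of_iso (H 0).symm (Groth.L29.CohSupp.isCohD_of_perfect hK 0)
  have hLq : DCoh.IsQCohD (DCoh.toD P L) := Groth.L29.DC.PCQCoh.isQCohD_of_perfect
    (Groth.L29.DC.isPerfect_of_iso eL.symm hK)
  haveI : QuasiIso (Groth.L07.FMDiag.toTop L) := by
    rw [quasiIso_iff]
    intro i
    by_cases hi : i = 0
    · subst hi; exact Groth.L07.FMDiag.quasiIsoAt_toTop L
    · rw [quasiIsoAt_iff_isIso_homologyMap]
      exact ((hK0 i hi).of_iso (H i)).isIso ((HomologicalComplex.exactAt_iff_isZero_homology _ _).1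
        (HomologicalComplex.exactAt_single_obj _ 0 _ i hi)) _
  haveI : IsIso (DerivedCategory.Q.map (Groth.L07.FMDiag.toTop L)) :=
    (DerivedCategory.isIso_Q_map_iff_quasiIso _ _).2 inferInstance
  let eS : DerivedCategory.Q.obj ((HomologicalComplex.single P.Modules (ComplexShape.up ℤ) 0).obj M) ≅
      DCoh.inD P M := (((SingleFunctors.evaluation _ _ 0).mapIso
      (DerivedCategory.singleFunctorsPostcompQIso P.Modules)).app M).symm
  let eKM : DCoh.toD P K ≅ DCoh.inD P M :=
    eL.symm ≪≫ asIso (DerivedCategory.Q.map (Groth.L07.FMDiag.toTop L)) ≪≫ eS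
  let ι : ∀ (A : (SGA6.perfP X).FullSubcategory),
      (DCoh.Rpush p2).obj ((DCoh.LTensorCx L).obj ((DCoh.Lpull p1).obj A.obj)) ≅ A.obj := fun A =>
    (DCoh.Rpush p2).mapIso (t.app _) ≪≫ Φ.app A
  have hθ : ∀ (x : X), IsClosed ({x} : Set X) → ∀ n : ℕ, 0 < n →
      ∃ θ : (Scheme.Modules.pushforward p2).obj ((Groth.L07.FMDiag.tw p1 M).obj
          (Groth.L07.BvdB.ThickPoint.thick x n)) ⟶ Groth.L07.BvdB.ThickPoint.thick x n, Mono θ ∧
        ∀ a : Groth.L07.BvdB.ThickPoint.thick x n ⟶ Groth.L07.BvdB.ThickPoint.thick x n,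
          (Scheme.Modules.pushforward p2).map ((Groth.L07.FMDiag.tw p1 M).map a) ≫ θ = θ ≫ a := by
    intro x hx n hn
    let A := perf _ (Groth.L07.BvdB.ThickPoint.isCoh_thick hx n hn)
    obtain ⟨θ, hθm, hθn⟩ := Groth.L07.FMDiag.exists_mono sq L hL hLq hx n hn _ (ι A)
    refine ⟨θ, hθm, fun a => hθn a a ?_⟩
    let m := (DerivedCategory.singleFunctor X.Modules 0).map a
    have h1 := Φ.hom.naturality (ObjectProperty.homMk m : A ⟶ A)
    have h2 := t.hom.naturality ((DCoh.Lpull p1).map m)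
    show (DCoh.Rpush p2).map ((DCoh.LTensorCx L).map ((DCoh.Lpull p1).map m)) ≫
      (DCoh.Rpush p2).map (t.hom.app _) ≫ Φ.hom.app A = ((DCoh.Rpush p2).map (t.hom.app _) ≫ Φ.hom.app A) ≫ m
    rw [← Category.assoc, ← Functor.map_comp, h2, Functor.map_comp, Category.assoc, Category.assoc]
    exact congrArg ((DCoh.Rpush p2).map (t.hom.app _) ≫ ·) h1
  let A0 := perf (Coh.structureModule X) (Groth.L16.Rees.RelVanish.isCoh_structureModule X)
  obtain ⟨h0⟩ := Groth.L07.FMDiag.nonempty_H0_Rpush (q := p2) M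
  let G0 := (Scheme.Modules.pullback p1).obj (Coh.structureModule X)
  let eT : (Groth.L07.FMDiag.twCx (p := p1) L).obj (Coh.structureModule X) ≅ L :=
    ((NatIso.mapHomologicalComplex ((DCoh.tensorBi (X := P)).mapIso (Groth.L29.LocFree.pullbackUnitIso p1) ≪≫
      Groth.L29.DC.RHom.unitNatIso) (ComplexShape.up ℤ)).app L) ≪≫
      (Functor.mapHomologicalComplexIdIso P.Modules (ComplexShape.up ℤ)).app L
  let e : (Scheme.Modules.pushforward p2).obj M ≅ Coh.structureModule X :=
    h0.symm ≪≫ (DerivedCategory.homologyFunctor X.Modules 0).mapIso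
      ((DCoh.Rpush p2).mapIso (eKM.symm ≪≫ eL.symm ≪≫ DerivedCategory.Q.mapIso eT.symm ≪≫
        ((Groth.L07.FMDiag.ltIso (p := p1) L hL).app (Coh.structureModule X)).symm) ≪≫ ι A0) ≪≫
      (DerivedCategory.singleFunctorCompHomologyFunctorIso X.Modules 0).app _
  obtain ⟨g⟩ := Groth.L07.FMDiag.nonempty_iso_diag s M hMc
    (fun w hw hws => Groth.L07.FMDiag.points_agree s M hMc hθ hw hws)
    (fun U hU r m => Groth.L07.FMDiag.actions_agree s M hMc hθ hU r m) e
  exact ⟨eKM ≪≫ (DerivedCategory.singleFunctor P.Modules 0).mapIso g⟩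

end Groth.Agent.S6759
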