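import Groth.Statements.S6764
import Groth.Agent.Lead.FunMor.Comp
import Groth.Agent.L17.Kun.H0Flat

set_option autoImplicit false
universe u
open CategoryTheory AlgebraicGeometry
attribute [local instance] HasDerivedCategory.standard
open FunMor

namespace Groth.Agent.S6764

/-- Fix a ring R and R-schemes X, Y, Z, where X and Y are quasi-compact and have affine diagonal.
Suppose the functors F from QCoh(O_X) to QCoh(O_Y) and G from QCoh(O_Y) to QCoh(O_Z) are exact,
R-linear, and preserve arbitrary direct sums, and let K on X ×_R Y and L on Y ×_R Z be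
quasi-coherent kernels for them: K is flat over X, L is flat over Y, the higher direct images R^n
pr_{2,*}(pr_1^* M ⊗ K) and R^n pr_{2,*}(pr_1^* N ⊗ L) vanish for n > 0 and M, N quasi-coherent
(right derived functors; injective resolutions carried as binders), and F ≅ pr_{2,*}(pr_1^*(-) ⊗ K),
G ≅ pr_{2,*}(pr_1^*(-) ⊗ L) as functors to O-modules. Realise X ×_R Y ×_R Z as (X ×_R Y) ×_Y (Y ×_R
Z) with projections pr_{12}, pr_{23} and let pr_{13} be its morphism to X ×_R Z determined by the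
two components. Then G ∘ F is isomorphic, as a functor QCoh(O_X) ⥤ Mod(O_Z), to M ↦ pr_{2,*}(pr_1^*
M ⊗ E) with E = pr_{13,*}(pr_{12}^* K ⊗ pr_{23}^* L). -/
theorem result
    (R : Type u) [CommRing R] (X Y Z : Scheme.{u}) [X.Over (Spec (.of R))] [Y.Over (Spec (.of R))] [Z.Over (Spec (.of R))]
    [CompactSpace X] [IsAffineHom (Limits.pullback.diagonal (X ↘ Spec (.of R)))]
    [CompactSpace Y] [IsAffineHom (Limits.pullback.diagonal (Y ↘ Spec (.of R)))]
    [HasInjectiveResolutions (Limits.pullback (X ↘ Spec (.of R)) (Y ↘ Spec (.of R))).Modules] [HasInjectiveResolutions (Limits.pullback (Y ↘ Spec (.of R)) (Z ↘ Spec (.of R))).Modules]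
    (F : QCohCat.QCoh X ⥤ QCohCat.QCoh Y) [F.Additive] [F.Linear R]
    [Limits.PreservesFiniteLimits F] [Limits.PreservesFiniteColimits F]
    [∀ J : Type u, Limits.PreservesColimitsOfShape (Discrete J) F]
    (G : QCohCat.QCoh Y ⥤ QCohCat.QCoh Z) [G.Additive] [G.Linear R]
    [Limits.PreservesFiniteLimits G] [Limits.PreservesFiniteColimits G]
    [∀ J : Type u, Limits.PreservesColimitsOfShape (Discrete J) G]
    (K : (Limits.pullback (X ↘ Spec (.of R)) (Y ↘ Spec (.of R))).Modules) (hK : Coh.IsQCoh K) (hKf : FlatMod.IsFlatOver (Limits.pullback.fst (X ↘ Spec (.of R)) (Y ↘ Spec (.of R))) K)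
    (hKa : (∀ (M : X.Modules), Coh.IsQCoh M → ∀ n : ℕ, 0 < n →
      Limits.IsZero ((Coh.Rpush (Limits.pullback.snd (X ↘ Spec (.of R)) (Y ↘ Spec (.of R))) n).obj ((DCoh.tensorRightMod K).obj ((Scheme.Modules.pullback (Limits.pullback.fst (X ↘ Spec (.of R)) (Y ↘ Spec (.of R)))).obj M)))))
    (hFK : Nonempty (F ⋙ ObjectProperty.ι (QCohCat.isQCoh Y) ≅ ObjectProperty.ι (QCohCat.isQCoh X) ⋙ (Scheme.Modules.pullback (Limits.pullback.fst (X ↘ Spec (.of R)) (Y ↘ Spec (.of R))) ⋙ DCoh.tensorRightMod K ⋙ Coh.push (Limits.pullback.snd (X ↘ Spec (.of R)) (Y ↘ Spec (.of R))))))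
    (L : (Limits.pullback (Y ↘ Spec (.of R)) (Z ↘ Spec (.of R))).Modules) (hL : Coh.IsQCoh L) (hLf : FlatMod.IsFlatOver (Limits.pullback.fst (Y ↘ Spec (.of R)) (Z ↘ Spec (.of R))) L)
    (hLa : (∀ (M : Y.Modules), Coh.IsQCoh M → ∀ n : ℕ, 0 < n →
      Limits.IsZero ((Coh.Rpush (Limits.pullback.snd (Y ↘ Spec (.of R)) (Z ↘ Spec (.of R))) n).obj ((DCoh.tensorRightMod L).obj ((Scheme.Modules.pullback (Limits.pullback.fst (Y ↘ Spec (.of R)) (Z ↘ Spec (.of R)))).obj M)))))
    (hGL : Nonempty (G ⋙ ObjectProperty.ι (QCohCat.isQCoh Z) ≅ ObjectProperty.ι (QCohCat.isQCoh Y) ⋙ (Scheme.Modules.pullback (Limits.pullback.fst (Y ↘ Spec (.of R)) (Z ↘ Spec (.of R))) ⋙ DCoh.tensorRightMod L ⋙ Coh.push (Limits.pullback.snd (Y ↘ Spec (.of R)) (Z ↘ Spec (.of R))))))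
    (pr₁₃ : (Limits.pullback (Limits.pullback.snd (X ↘ Spec (.of R)) (Y ↘ Spec (.of R))) (Limits.pullback.fst (Y ↘ Spec (.of R)) (Z ↘ Spec (.of R)))) ⟶ (Limits.pullback (X ↘ Spec (.of R)) (Z ↘ Spec (.of R))))
    (h₁ : pr₁₃ ≫ (Limits.pullback.fst (X ↘ Spec (.of R)) (Z ↘ Spec (.of R))) = (Limits.pullback.fst (Limits.pullback.snd (X ↘ Spec (.of R)) (Y ↘ Spec (.of R))) (Limits.pullback.fst (Y ↘ Spec (.of R)) (Z ↘ Spec (.of R)))) ≫ (Limits.pullback.fst (X ↘ Spec (.of R)) (Y ↘ Spec (.of R))))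
    (h₂ : pr₁₃ ≫ (Limits.pullback.snd (X ↘ Spec (.of R)) (Z ↘ Spec (.of R))) = (Limits.pullback.snd (Limits.pullback.snd (X ↘ Spec (.of R)) (Y ↘ Spec (.of R))) (Limits.pullback.fst (Y ↘ Spec (.of R)) (Z ↘ Spec (.of R)))) ≫ (Limits.pullback.snd (Y ↘ Spec (.of R)) (Z ↘ Spec (.of R)))) :
    Nonempty ((F ⋙ G) ⋙ ObjectProperty.ι (QCohCat.isQCoh Z) ≅
      ObjectProperty.ι (QCohCat.isQCoh X) ⋙
        (Scheme.Modules.pullback (Limits.pullback.fst (X ↘ Spec (.of R)) (Z ↘ Spec (.of R))) ⋙ DCoh.tensorRightMod ((Coh.push pr₁₃).obj (CohB1.tensorMod ((Scheme.Modules.pullback (Limits.pullback.fst (Limits.pullback.snd (X ↘ Spec (.of R)) (Y ↘ Spec (.of R))) (Limits.pullback.fst (Y ↘ Spec (.of R)) (Z ↘ Spec (.of R))))).obj K) ((Scheme.Modules.pullback (Limits.pullback.snd (Limits.pullback.snd (X ↘ Spec (.of R)) (Y ↘ Spec (.of R))) (Limits.pullback.fst (Y ↘ Spec (.of R)) (Z ↘ Spec (.of R))))).obj L))) ⋙ Coh.push (Limits.pullback.snd (X ↘ Spec (.of R)) (Z ↘ Spec (.of R))))) :=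 by
  let a : X ⟶ Spec (.of R) := X ↘ Spec (.of R)
  let b : Y ⟶ Spec (.of R) := Y ↘ Spec (.of R)
  let c : Z ⟶ Spec (.of R) := Z ↘ Spec (.of R)
  haveI : QuasiCompact a := inferInstance
  haveI : QuasiSeparated a := ⟨inferInstance⟩
  haveI : QuasiCompact b := inferInstance
  haveI : QuasiSeparated b := ⟨inferInstance⟩
  haveI : QuasiCompact (Limits.pullback.snd a b) := MorphismProperty.pullback_snd _ _ inferInstance
  haveI : QuasiSeparated (Limits.pullback.snd a b) := MorphismProperty.pullback_snd _ _ inferInstance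
  haveI : QuasiCompact (Limits.pullback.snd b c) := MorphismProperty.pullback_snd _ _ inferInstance
  haveI : QuasiSeparated (Limits.pullback.snd b c) := MorphismProperty.pullback_snd _ _ inferInstance
  have hW := IsPullback.of_hasPullback (Limits.pullback.snd a b) (Limits.pullback.fst b c)
  have h3 := hW.flip.paste_vert (IsPullback.of_hasPullback a b).flip
  have hπ : IsPullback (Limits.pullback.snd (Limits.pullback.snd a b) (Limits.pullback.fst b c)) pr₁₃
      (Limits.pullback.snd b c) (Limits.pullback.snd a c) := by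
    have o : IsPullback (Limits.pullback.snd (Limits.pullback.snd a b) (Limits.pullback.fst b c))
        (pr₁₃ ≫ Limits.pullback.fst a c) (Limits.pullback.snd b c ≫ c) a := by
      rw [h₁, ← Limits.pullback.condition]; exact h3
    exact IsPullback.of_bot o h₂.symm (IsPullback.of_hasPullback a c).flip
  haveI : QuasiCompact pr₁₃ := MorphismProperty.of_isPullback hπ inferInstance
  haveI : QuasiSeparated pr₁₃ := MorphismProperty.of_isPullback hπ inferInstance
  haveI := Groth.L00.Tensor.grothendieckAbelian_modules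
    (Limits.pullback (Limits.pullback.snd a b) (Limits.pullback.fst b c))
  haveI : HasInjectiveResolutions (Limits.pullback (Limits.pullback.snd a b) (Limits.pullback.fst b c)).Modules :=
    inferInstance
  obtain ⟨eK⟩ := hFK
  obtain ⟨eL⟩ := hGL
  obtain ⟨e⟩ := Groth.Lead.FunMor.nonempty_comp_kernel
    (fun U V hU hV => Groth.L17.Kun.isAffineOpen_inf a hU hV)
    _ _ _ _ (Limits.pullback.fst a c) (Limits.pullback.snd a c) _ _ hW pr₁₃ h₁ h₂ K hK hKf L hL hLf fun M hM => by
      refine Groth.Lead.FunMor.isZero_Rpush_tensor _ (Limits.pullback.fst a b) _ (Limits.pullback.snd b c) _ _ hW pr₁₃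
        (Limits.pullback.fst a c) (Limits.pullback.snd a c) h₁ h₂ (fun U hU => ?_) (fun U hU => ?_) M hM L hL 1
        (fun N hN => hLa N hN 1 one_pos)
      · haveI : IsAffine U.toScheme := hU
        haveI : IsAffineHom (U.ι ≫ a) := isAffineHom_of_isAffine _
        exact MorphismProperty.of_isPullback
          ((isPullback_morphismRestrict (Limits.pullback.fst a b) U).paste_vert (IsPullback.of_hasPullback a b)) inferInstance
      · haveI : IsAffine U.toScheme := hU
        haveI : IsAffineHom (U.ι ≫ a) := isAffineHom_of_isAffine _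
        exact MorphismProperty.of_isPullback
          ((isPullback_morphismRestrict (Limits.pullback.fst a c) U).paste_vert (IsPullback.of_hasPullback a c)) inferInstance
  exact ⟨(Functor.isoWhiskerLeft F eL :) ≪≫ (Functor.isoWhiskerRight eK (Scheme.Modules.pullback (Limits.pullback.fst b c) ⋙ DCoh.tensorRightMod L ⋙ Coh.push (Limits.pullback.snd b c)) :) ≪≫ e⟩

end Groth.Agent.S6764
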