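import Groth.Statements.S6765
import Groth.Agent.L10.SerrePerf.Serre
import Groth.Agent.L10.SerrePerf.Duality
import Groth.Agent.L29.FMAdj.Gor
import Groth.Agent.L29.DCoh.RHomBound
import Groth.Agent.S3624
import Groth.Agent.L11.Magnet.Factor

set_option autoImplicit false
set_option linter.style.haveILetI false
set_option linter.unusedVariables false
set_option maxHeartbeats 1600000
set_option maxSynthPendingDepth 4
set_option backward.isDefEq.respectTransparency.types false
set_option backward.defeqAttrib.useBackward true
set_option backward.isDefEq.respectTransparency false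
universe u
open CategoryTheory AlgebraicGeometry
attribute [local instance] HasDerivedCategory.standard
open DEquiv

namespace Groth.Agent.S6765

attribute [local instance] Groth.L00.KFlat.hasLTensorCx

/-- Let X be a scheme proper over a field k which is Gorenstein, with structure morphism f : X → Spec k.
Assume (instance binders and hypotheses, all true theorems not available at this pin) that Rf_*
exists on D(O_X) and preserves D_QCoh, that its restriction to D_QCoh has a right adjoint a, and let
ω_X^• = a(O_{Spec k}) be the dualizing complex, computed on a chosen object of D_QCoh(Spec k)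
identified with O_{Spec k}⟦0⟧ and represented by a chosen complex W of O_X-modules with - ⊗^L W
defined. Then the k-linear category D_perf(O_X) of perfect objects (the instance hypothesis records
that it is a triangulated subcategory; Hom spaces are finite-dimensional as X is proper) admits a
Serre functor — a k-linear auto-equivalence S with k-linear isomorphisms Hom(K, L) ≅ Hom(L, S K)^∨
natural in both variables — whose functor S, followed by the inclusion into D(O_X), is isomorphic to
K ↦ K ⊗^L ω_X^•. (The Serre duality isomorphisms themselves are asserted to exist, not identified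
with a named pairing.) -/
theorem result
    (k : Type u) [Field k] (X : Scheme.{u}) [X.Over (Spec (.of k))] [IsProper (X ↘ Spec (.of k))]
    (hG : Dual3.IsGorenstein X)
    [DCoh.HasRpush (X ↘ Spec (.of k))] (hq : DCoh.RpushPreservesQCoh (X ↘ Spec (.of k))) [DCoh.HasShriek (X ↘ Spec (.of k)) hq]
    (OY : DCoh.DQCoh (Spec (.of k)))
    (hOY : OY.obj ≅ DCoh.inD (Spec (.of k)) (Coh.structureModule (Spec (.of k))))
    (W : CochainComplex X.Modules ℤ) (hW : DCoh.toD X W ≅ DCoh.dualizingCx (X ↘ Spec (.of k)) hq OY)
    [DCoh.HasLTensorCx W] [(SGA6.perfP X).IsTriangulated] :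
    ∃ σ : KLin.SerreFunctor k (SGA6.perfP X).FullSubcategory,
      Nonempty (σ.S.functor ⋙ ObjectProperty.ι (SGA6.perfP X) ≅
        ObjectProperty.ι (SGA6.perfP X) ⋙ DCoh.LTensorCx W) := by
  let f := X ↘ Spec (CommRingCat.of k)
  haveI : Flat f := Groth.L11.Magnet.flat_of_field (Over.mk f)
  haveI := (Groth.Agent.S3624.result X (Spec (CommRingCat.of k)) f hG).1
  haveI : IsNoetherian (Spec (CommRingCat.of k)) := {}
  have hperf : DCoh.IsPerfect (DCoh.dualizingCx f hq OY) :=
    Groth.L29.FMAdj.isPerfect_dualizing f (Groth.Agent.S3624.result X (Spec (CommRingCat.of k)) f hG).1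
      (DCoh.shriekAdj f hq) OY ⟨hOY⟩
  obtain ⟨τ, hτ⟩ := Groth.L10.SerrePerf.exists_trace k hq OY hOY
  obtain ⟨σ, hσ⟩ := Groth.L10.SerrePerf.exists_serreFunctor hperf τ
    (fun M hM => hτ M (Groth.L29.DC.PCQCoh.isQCohD_of_perfect hM))
  let Wd := DCoh.dualizingCx f hq OY
  obtain ⟨e⟩ := Groth.L29.DC.RHom.nonempty_lt_iso (E := Groth.L07.BvdB.DualFun.rep Wd) (E' := W)
    (Groth.L07.BvdB.DualFun.repIso Wd ≪≫ hW.symm)
  refine ⟨σ, ⟨?_⟩⟩
  rw [hσ]
  exact Functor.isoWhiskerLeft _ (Groth.L07.BvdB.DualFun.flipObjIso Wd ≪≫ e)

end Groth.Agent.S6765
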