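import Groth.Statements.S6769
import Groth.Agent.L06.EilenbergWatts

set_option autoImplicit false
universe u
open CategoryTheory CategoryTheory.Limits TensorProduct
open scoped ModuleCat.Algebra
open FunMor

namespace Groth.Agent.S6769

/-- Let R be a commutative ring and A, B commutative R-algebras; Mod_A and Mod_B are R-linear
categories. Suppose F, F' : Mod_A ⥤ Mod_B are R-linear functors, each of which preserves finite
colimits (so is right exact) and also preserves direct sums indexed by any set. Then: (i) there is
an A ⊗_R B-module K — a module over A and over B with commuting actions on which the two R-actions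
agree — and B-linear isomorphisms K ⊗_A M ≅ F(M) natural in the A-module M; (ii) a natural
transformation F ⟶ F' is determined by its component at A, and a B-linear map φ : F(A) ⟶ F'(A) is
the component at A of some natural transformation F ⟶ F' if and only if it commutes with the
A-actions, i.e. F(a · id_A) ≫ φ = φ ≫ F'(a · id_A) for all a ∈ A. (Together: K ↦ (- ⊗_A K) is an
equivalence from Mod_{A ⊗_R B} onto the category of such functors.) -/
theorem result
    (R : Type u) [CommRing R] (A B : Type u) [CommRing A] [CommRing B] [Algebra R A] [Algebra R B]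
    (F F' : ModuleCat.{u} A ⥤ ModuleCat.{u} B) [F.Additive] [F.Linear R] [F'.Additive] [F'.Linear R]
    [PreservesFiniteColimits F] [∀ J : Type u, PreservesColimitsOfShape (Discrete J) F]
    [PreservesFiniteColimits F'] [∀ J : Type u, PreservesColimitsOfShape (Discrete J) F'] :
    (∃ (K : Type u) (_ : AddCommGroup K) (_ : Module A K) (_ : Module B K) (_ : SMulCommClass A B K),
      (∀ (r : R) (x : K), algebraMap R A r • x = algebraMap R B r • x) ∧
      ∃ η : ∀ M : ModuleCat.{u} A, (K ⊗[A] M) ≃ₗ[B] F.obj M,
        ∀ (M N : ModuleCat.{u} A) (f : M ⟶ N) (x : K ⊗[A] M),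
          η N (LinearMap.lTensor K f.hom x) = F.map f (η M x)) ∧
    (∀ t t' : F ⟶ F', t.app (ModuleCat.of A A) = t'.app (ModuleCat.of A A) → t = t') ∧
    (∀ φ : F.obj (ModuleCat.of A A) ⟶ F'.obj (ModuleCat.of A A),
      (∃ t : F ⟶ F', t.app (ModuleCat.of A A) = φ) ↔
        ∀ a : A, F.map (a • 𝟙 (ModuleCat.of A A)) ≫ φ = φ ≫ F'.map (a • 𝟙 (ModuleCat.of A A))) := by
  classical
  have hb : ∀ M, Function.Bijective (Groth.L06.EW.η F M) :=
    Groth.L06.EW.bijective F inferInstance
  have hinc : ∀ a : A, Groth.L06.EW.inc (ModuleCat.of A A) a = a • 𝟙 (ModuleCat.of A A) := fun a => by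
    ext; simp
  refine ⟨⟨Groth.L06.EW.K F, inferInstance, inferInstance, inferInstance, inferInstance, fun r x => ?_,
    fun M => LinearEquiv.ofBijective (Groth.L06.EW.η F M) (hb M),
    fun M N f x => Groth.L06.EW.η_natural F f x⟩, fun t t' h => ?_, fun φ => ⟨?_, fun hφ => ?_⟩⟩
  · rw [Groth.L06.EW.smul_def]
    refine Eq.trans ?_ (show (r • 𝟙 (F.obj (ModuleCat.of A A))).hom x = algebraMap R B r • x by
      simp [Algebra.smul_def]; rfl)
    have key := F.map_smul r (𝟙 (ModuleCat.of A A))
    rw [F.map_id] at key
    rw [← key]
    refine congr($(congrArg F.map ?_).hom x)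
    ext
    simp [Algebra.smul_def]
    exact (mul_one _).symm
  · ext M z
    obtain ⟨w, rfl⟩ := (hb M).2 z
    induction w using TensorProduct.induction_on with
    | zero => simp
    | tmul k m =>
      rw [Groth.L06.EW.η_tmul]
      have h1 := congr($(t.naturality (Groth.L06.EW.inc M m)).hom k)
      have h2 := congr($(t'.naturality (Groth.L06.EW.inc M m)).hom k)
      exact h1.trans ((congrArg (F'.map (Groth.L06.EW.inc M m)).hom congr($(h).hom k)).trans h2.symm)
    | add x y hx hy => simp [hx, hy]
  · rintro ⟨t, rfl⟩ a
    exact t.naturality _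
  · let φA : Groth.L06.EW.K F →ₗ[A] Groth.L06.EW.K F' :=
      { toFun := φ.hom
        map_add' := map_add _
        map_smul' := fun a k => by
          show φ.hom (a • k) = a • (show Groth.L06.EW.K F' from φ.hom k)
          rw [Groth.L06.EW.smul_def, Groth.L06.EW.smul_def, hinc]
          exact congr($(hφ a).hom k) }
    let g : ∀ M : ModuleCat.{u} A, F.obj M →+ F'.obj M := fun M =>
      ((Groth.L06.EW.η F' M).toAddMonoidHom.comp (LinearMap.rTensor M φA).toAddMonoidHom).comp
        (LinearEquiv.ofBijective (Groth.L06.EW.η F M) (hb M)).symm.toAddEquiv.toAddMonoidHom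
    have hg : ∀ (M : ModuleCat.{u} A) w, g M (Groth.L06.EW.η F M w) =
        Groth.L06.EW.η F' M (LinearMap.rTensor M φA w) := fun M w => by
      show Groth.L06.EW.η F' M (LinearMap.rTensor M φA
        ((LinearEquiv.ofBijective (Groth.L06.EW.η F M) (hb M)).symm
          (LinearEquiv.ofBijective (Groth.L06.EW.η F M) (hb M) w))) = _
      rw [LinearEquiv.symm_apply_apply]
    have hlin : ∀ (M : ModuleCat.{u} A) (b : B) z, g M (b • z) = b • g M z := fun M b z => by
      obtain ⟨w, rfl⟩ := (hb M).2 z
      rw [← map_smul, hg, hg, ← map_smul]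
      refine congrArg _ ?_
      induction w using TensorProduct.induction_on with
      | zero => simp
      | tmul k m =>
        rw [TensorProduct.smul_tmul', LinearMap.rTensor_tmul, LinearMap.rTensor_tmul, TensorProduct.smul_tmul']
        exact congrArg (fun q => q ⊗ₜ[A] m) (φ.hom.map_smul b k)
      | add x y hx hy => simp only [smul_add, map_add, hx, hy]
    refine ⟨{ app := fun M => ModuleCat.ofHom { toFun := g M, map_add' := map_add _, map_smul' := hlin M },
              naturality := fun M N f => ?_ }, ?_⟩
    · ext z
      obtain ⟨w, rfl⟩ := (hb M).2 z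
      show g N (F.map f (Groth.L06.EW.η F M w)) = F'.map f (g M (Groth.L06.EW.η F M w))
      rw [← Groth.L06.EW.η_natural F f w, hg, hg, ← Groth.L06.EW.η_natural F' f]
      refine congrArg _ ?_
      rw [← LinearMap.comp_apply, ← LinearMap.comp_apply, LinearMap.rTensor_comp_lTensor,
        LinearMap.lTensor_comp_rTensor]
    · ext z
      obtain ⟨w, rfl⟩ := (hb _).2 z
      show g _ (Groth.L06.EW.η F _ w) = φ.hom (Groth.L06.EW.η F _ w)
      rw [hg, Groth.L06.EW.η_self, Groth.L06.EW.η_self]
      induction w using TensorProduct.induction_on with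
      | zero => rw [map_zero, map_zero, map_zero]; exact (map_zero φ.hom).symm
      | tmul k m =>
        rw [LinearMap.rTensor_tmul, TensorProduct.rid_tmul, TensorProduct.rid_tmul]
        exact (φA.map_smul m k).symm
      | add x y hx hy => rw [map_add, map_add, map_add, hx, hy]; exact (φ.hom.map_add _ _).symm

end Groth.Agent.S6769
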