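import Groth.Statements.S6775
import Mathlib.CategoryTheory.Abelian.CommSq
import Mathlib.CategoryTheory.Abelian.Refinements
import Mathlib.CategoryTheory.Idempotents.Basic
import Mathlib.CategoryTheory.Limits.Shapes.Countable
import Mathlib.CategoryTheory.Adjunction.FullyFaithful
import Mathlib.CategoryTheory.IsConnected
import Mathlib.CategoryTheory.Monoidal.Category
import Mathlib.CategoryTheory.Limits.Shapes.Kernels
import Mathlib.CategoryTheory.Limits.Shapes.Opposites.Products
import Mathlib.CategoryTheory.Limits.Shapes.Opposites.Kernels

set_option autoImplicit false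
open CategoryTheory CategoryTheory.Limits
universe v u
open CategoryTheory CategoryTheory.Abelian

namespace Groth.Agent.S6775
open CategoryTheory Category Limits

/-- In an abelian category a cartesian square whose bottom arrow `k` is an epimorphism is also
cocartesian, and the arrow `f` opposite to `k` is an epimorphism. -/
theorem result {A : Type u} [Category.{v} A] [Abelian A] {w x y z : A} (f : w ⟶ y) (g : w ⟶ x) (h : y ⟶ z) (k : x ⟶ z) (sq : IsPullback f g h k) [Epi k] : IsPushout f g h k ∧ Epi f := by
  refine ⟨?_, ?_⟩
  · have hepi : Epi sq.toCommSq.shortComplex.g := by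
      suffices Epi (biprod.desc h k) from this
      apply Preadditive.epi_of_cancel_zero
      intro T u hu
      rw [← cancel_epi k]
      simpa using biprod.inr ≫= hu
    have hex : sq.toCommSq.shortComplex.Exact := by
      rw [ShortComplex.exact_iff_exact_up_to_refinements]
      intro T (x₂ : T ⟶ y ⊞ x) (hx : x₂ ≫ biprod.desc h k = 0)
      have hw : (x₂ ≫ biprod.fst) ≫ h = (-(x₂ ≫ biprod.snd)) ≫ k := by
        rw [biprod.desc_eq, Preadditive.comp_add, ← assoc, ← assoc, add_eq_zero_iff_eq_neg] at hx
        rw [hx, Preadditive.neg_comp]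
      refine ⟨T, 𝟙 T, inferInstance, sq.lift _ _ hw, ?_⟩
      show 𝟙 T ≫ x₂ = sq.lift _ _ hw ≫ biprod.lift f (-g)
      apply biprod.hom_ext <;> simp
    exact IsPushout.of_isColimit' sq.toCommSq
      ((CommSq.isColimitEquivIsColimitCokernelCofork sq.toCommSq).symm hex.gIsCokernel)
  · have : (MorphismProperty.epimorphisms A) k := (inferInstance : Epi k)
    exact MorphismProperty.of_isPullback sq.flip this

end Groth.Agent.S6775
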