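import Groth.Statements.S6776
import Mathlib.CategoryTheory.Abelian.CommSq
import Mathlib.CategoryTheory.Abelian.Refinements
import Mathlib.CategoryTheory.Idempotents.Basic
import Mathlib.CategoryTheory.Limits.Shapes.Countable
import Mathlib.CategoryTheory.Adjunction.FullyFaithful
import Mathlib.CategoryTheory.IsConnected
import Mathlib.CategoryTheory.Monoidal.Category
import Mathlib.CategoryTheory.Limits.Shapes.Kernels
import Mathlib.CategoryTheory.Limits.Shapes.Opposites.Products
import Mathlib.CategoryTheory.Limits.Shapes.Opposites.Kernels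

set_option autoImplicit false
open CategoryTheory CategoryTheory.Limits
universe v u
open CategoryTheory CategoryTheory.Abelian

namespace Groth.Agent.S6776
open CategoryTheory Category Limits

/-- In an abelian category a cocartesian square whose left arrow `g` is a monomorphism is also
cartesian, and the arrow `h` opposite to `g` is a monomorphism. -/
theorem result {A : Type u} [Category.{v} A] [Abelian A] {w x y z : A} (f : w ⟶ y) (g : w ⟶ x) (h : y ⟶ z) (k : x ⟶ z) (sq : IsPushout f g h k) [Mono g] : IsPullback f g h k ∧ Mono h := by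
  refine ⟨?_, ?_⟩
  · have hm : Mono sq.toCommSq.shortComplex'.f := by
      suffices Mono (biprod.lift f g) from this
      apply Preadditive.mono_of_cancel_zero
      intro T u hu
      rw [← cancel_mono g]
      simpa using hu =≫ biprod.snd
    have hex : sq.toCommSq.shortComplex'.Exact := by
      rw [ShortComplex.exact_iff_exact_up_to_refinements]
      intro T (x₂ : T ⟶ y ⊞ x) (hx : x₂ ≫ biprod.desc h (-k) = 0)
      obtain ⟨T', π, hπ, x₁, hx₁⟩ := sq.exact_shortComplex.exact_up_to_refinements
        (x₂ ≫ (biprod.desc biprod.inl (-biprod.inr) : y ⊞ x ⟶ y ⊞ x)) (by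
        show (x₂ ≫ _) ≫ biprod.desc h k = 0
        rw [assoc]
        convert hx using 2
        ext <;> simp)
      refine ⟨T', π, hπ, x₁, ?_⟩
      show @CategoryStruct.comp A _ T' T (y ⊞ x) π x₂ = @CategoryStruct.comp A _ T' w (y ⊞ x) x₁ (biprod.lift f g)
      change @CategoryStruct.comp A _ T' T (y ⊞ x) π (x₂ ≫ _) = @CategoryStruct.comp A _ T' w (y ⊞ x) x₁ (biprod.lift f (-g)) at hx₁
      apply biprod.hom_ext
      · have h1 := hx₁ =≫ biprod.fst
        simpa [biprod.desc_eq, Preadditive.add_comp, Preadditive.comp_add] using h1
      · have h1 := hx₁ =≫ biprod.snd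
        simpa [biprod.desc_eq, Preadditive.add_comp, Preadditive.comp_add] using h1
    exact IsPullback.of_isLimit' sq.toCommSq
      ((CommSq.isLimitEquivIsLimitKernelFork sq.toCommSq).symm hex.fIsKernel)
  · have : (MorphismProperty.monomorphisms A) g := (inferInstance : Mono g)
    exact MorphismProperty.of_isPushout sq this

end Groth.Agent.S6776
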