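import Groth.Statements.S6778
import Mathlib.CategoryTheory.Abelian.CommSq
import Mathlib.CategoryTheory.Abelian.Refinements
import Mathlib.CategoryTheory.Idempotents.Basic
import Mathlib.CategoryTheory.Limits.Shapes.Countable
import Mathlib.CategoryTheory.Adjunction.FullyFaithful
import Mathlib.CategoryTheory.IsConnected
import Mathlib.CategoryTheory.Monoidal.Category
import Mathlib.CategoryTheory.Limits.Shapes.Kernels
import Mathlib.CategoryTheory.Limits.Shapes.Opposites.Products
import Mathlib.CategoryTheory.Limits.Shapes.Opposites.Kernels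

set_option autoImplicit false
open CategoryTheory CategoryTheory.Limits
universe v u
open CategoryTheory CategoryTheory.Abelian

namespace Groth.Agent.S6778
open CategoryTheory Category Limits

/-- For a commutative diagram with rows `x ⟶ y ⟶ z` and `u ⟶ v ⟶ w` in an abelian category, if the
second row is exact and the second map `g` of the first row is an epimorphism, then the induced
sequence of cokernels of the vertical maps is exact. -/
theorem result {A : Type u} [Category.{v} A] [Abelian A] {x y z u' v' w : A} (f : x ⟶ y) (g : y ⟶ z) (k : u' ⟶ v') (l : v' ⟶ w) (α : x ⟶ u') (β : y ⟶ v') (γ : z ⟶ w) (h₁ : α ≫ k = f ≫ β) (h₂ : β ≫ l = g ≫ γ) (hkl : k ≫ l = 0) (hex : (ShortComplex.mk k l hkl).Exact) [Epi g] : ∃ hc : cokernel.map α β f k h₁ ≫ cokernel.map β γ g l h₂ = 0, (ShortComplex.mk _ _ hc).Exact := by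
  refine ⟨by ext; simp [reassoc_of% hkl], ?_⟩
  rw [ShortComplex.exact_iff_exact_up_to_refinements]
  intro T x₂ hx
  obtain ⟨T₁, π₁, hπ₁, b, hb⟩ := surjective_up_to_refinements_of_epi (cokernel.π β) x₂
  have h0 : (b ≫ l) ≫ cokernel.π γ = 0 := by
    have h' := hx
    dsimp at h'
    calc (b ≫ l) ≫ cokernel.π γ = (b ≫ cokernel.π β) ≫ cokernel.map β γ g l h₂ := by simp
      _ = (π₁ ≫ x₂) ≫ cokernel.map β γ g l h₂ := by rw [hb]
      _ = 0 := by rw [assoc, h', comp_zero]
  obtain ⟨T₂, π₂, hπ₂, c, hc⟩ := (ShortComplex.exact_of_g_is_cokernel (ShortComplex.mk γ _ (cokernel.condition γ)) (cokernelIsCokernel γ)).exact_up_to_refinements (b ≫ l) h0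
  obtain ⟨T₃, π₃, hπ₃, d, hd⟩ := surjective_up_to_refinements_of_epi g c
  dsimp at hc
  obtain ⟨T₄, π₄, hπ₄, e, he⟩ := hex.exact_up_to_refinements (π₃ ≫ π₂ ≫ b - d ≫ β) (by
    dsimp
    rw [Preadditive.sub_comp, assoc, assoc, assoc, hc, h₂, reassoc_of% hd, sub_self])
  refine ⟨T₄, π₄ ≫ π₃ ≫ π₂ ≫ π₁, inferInstance, e ≫ cokernel.π α, ?_⟩
  dsimp at he
  have := he =≫ cokernel.π β
  simp [Preadditive.sub_comp] at this
  simp [hb, this]

end Groth.Agent.S6778
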