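import Groth.Statements.S6779
import Groth.Agent.L09.MooreKan
import Mathlib.Algebra.Category.Grp.ForgetCorepresentable
import Mathlib.Algebra.Category.Grp.EquivalenceGroupAddGroup

set_option autoImplicit false
open CategoryTheory
universe u
open SSet

namespace Groth.Agent.S6779
open CategoryTheory Simplicial Opposite HomotopicalAlgebra Limits SSet

/-- The underlying simplicial set of a simplicial group is a Kan complex. -/
theorem result (X : SimplicialObject GrpCat.{u}) : SSet.KanComplex (X ⋙ forget GrpCat.{u}) := by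
  rw [SSet.KanComplex.iff]
  intro n i f hf
  let P : ∀ m, Subgroup (X.obj m) := fun _ => ⊤
  have hP : ∀ ⦃m m' : SimplexCategoryᵒᵖ⦄ (g : m ⟶ m') (x : X.obj m), x ∈ P m → X.map g x ∈ P m' :=
    fun _ _ _ _ _ => trivial
  let y : ∀ j : Fin (n + 2), j ≠ i → (X _⦋n⦌ : GrpCat.{u}) := fun j hj => SSet.yonedaEquiv (f j hj)
  have yd : ∀ (W : SSet.{u}) (m : ℕ) (j : Fin (m + 2)) (φ : Δ[m + 1] ⟶ W),
      SSet.yonedaEquiv (stdSimplex.δ j ≫ φ) = W.δ j (SSet.yonedaEquiv φ) := by
    intro W m j φ
    exact (SSet.yonedaEquiv_comp _ _).trans ((congrArg (φ.app _) (SSet.yonedaEquiv_map _)).trans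
      (by
        obtain ⟨w, rfl⟩ := SSet.yonedaEquiv.symm.surjective φ
        simp
        rfl))
  obtain ⟨x, -, hx⟩ : ∃ x ∈ P _, ∀ j hj, X.δ j x = y j hj := by
    cases n with
    | zero => exact Groth.L09.MooreKan.fill_zero P _ hP fun _ _ => trivial
    | succ n =>
      refine Groth.L09.MooreKan.fill P hP i _ (fun _ _ => trivial) fun a c ha hc hac => ?_
      exact ((yd _ _ _ _).symm.trans (congrArg SSet.yonedaEquiv (hf.δ_pred_comp a c ha hc hac))).trans (yd _ _ _ _)
  exact ⟨SSet.yonedaEquiv.symm x, fun j hj => SSet.yonedaEquiv.injective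
    ((yd _ _ _ _).trans ((congrArg _ (Equiv.apply_symm_apply _ _)).trans (hx j hj)))⟩

end Groth.Agent.S6779
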