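import Groth.Statements.S6782
import Groth.Agent.L09.Cosk
import Mathlib.AlgebraicTopology.SimplicialSet.Homotopy
import Mathlib.AlgebraicTopology.SimplicialSet.Boundary
import Mathlib.AlgebraicTopology.SimplicialSet.CategoryWithFibrations

set_option autoImplicit false
open CategoryTheory Opposite
universe u
open SSet

namespace Groth.Agent.S6782
open CategoryTheory Simplicial Opposite SSet MonoidalCategory CartesianMonoidalCategory

/-- A map of `n`-coskeletal simplicial sets which is bijective on simplices of dimension `< n` and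
surjective on `n`-simplices is a trivial Kan fibration. -/
theorem result {U V : SSet.{u}} (f : V ⟶ U) (n : ℕ) (h1 : ∀ i : ℕ, i < n → Function.Bijective (f.app (op (SimplexCategory.mk i)))) (h2 : Function.Surjective (f.app (op (SimplexCategory.mk n)))) [SimplicialObject.IsCoskeletal U n] [SimplicialObject.IsCoskeletal V n] : SSet.modelCategoryQuillen.I.rlp f := by
  intro _ _ g hg
  obtain ⟨k⟩ := hg
  refine ⟨fun {t b} sq => ?_⟩
  have w : ∀ m (z : (∂Δ[k] : SSet.{u}).obj m), f.app m (t.app m z) = b.app m z.1 := fun m z =>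
    ConcreteCategory.congr_hom (NatTrans.congr_app sq.w m) z
  by_cases hk : k ≤ n
  · obtain ⟨x, hx⟩ : ∃ x, f.app (op ⦋k⦌) x = SSet.yonedaEquiv b := by
      rcases hk.lt_or_eq with h | rfl
      · exact (h1 k h).2 _
      · exact h2 _
    let φ : Δ[k] ⟶ V := SSet.yonedaEquiv.symm x
    have hφ : φ ≫ f = b := SSet.yonedaEquiv.injective
      ((SSet.yonedaEquiv_comp _ _).trans ((congrArg _ (Equiv.apply_symm_apply _ _)).trans hx))
    refine CommSq.HasLift.mk' ⟨φ, ?_, hφ⟩
    obtain _ | j := k
    · ext
    · refine SSet.boundary.hom_ext fun i => SSet.yonedaEquiv.injective ((h1 j (by lia)).1 ?_)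
      rw [← SSet.yonedaEquiv_comp, ← SSet.yonedaEquiv_comp]
      simp only [Category.assoc, hφ, sq.w]
  · have hu : ∀ (m : (SimplexCategory.Truncated n)ᵒᵖ) (z : (Δ[k] : SSet.{u}).obj (op m.unop.obj)),
        z ∈ (∂Δ[k]).obj (op m.unop.obj) := fun m z => by
      have h : m.unop.obj.len < k := lt_of_le_of_lt m.unop.property (by lia)
      exact (SSet.boundary_obj_eq_univ m.unop.obj.len k h).symm ▸ Set.mem_univ z
    let ψ : (SimplexCategory.Truncated.inclusion n).op ⋙ (Δ[k] : SSet.{u}) ⟶
        (SimplexCategory.Truncated.inclusion n).op ⋙ V :=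
      { app := fun m => ↾fun z => t.app (op m.unop.obj) ⟨z, hu m z⟩
        naturality := fun a c q => by
          ext z
          exact NatTrans.naturality_apply t q.unop.hom.op ⟨z, hu a z⟩ }
    refine CommSq.HasLift.mk' ⟨(Groth.L09.Cosk.homEquiv V n _).symm ψ, ?_, ?_⟩
    · refine Groth.L09.Cosk.hom_ext n fun m hm => ?_
      ext z
      exact (ConcreteCategory.congr_hom (Groth.L09.Cosk.homEquiv_symm_app ψ m hm) z.1)
    · refine Groth.L09.Cosk.hom_ext n fun m hm => ?_
      ext z
      exact (congrArg (f.app _) (ConcreteCategory.congr_hom (Groth.L09.Cosk.homEquiv_symm_app ψ m hm) z)).trans (w _ _)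

end Groth.Agent.S6782
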