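import Groth.Statements.S6783
import Groth.Agent.L09.BdryLift

set_option autoImplicit false
open CategoryTheory
universe u
open SSet

namespace Groth.Agent.S6783

/-- For a surjective map of sets `f : A → B`, the augmentation from the Čech nerve of `f` (with
`n`-simplices the `(n+1)`-fold fibre product of `A` over `B`) to the constant simplicial set `B` is
a trivial Kan fibration. -/
theorem result {A B : Type u} (f : A ⟶ B) (hf : Function.Surjective f) : SSet.modelCategoryQuillen.I.rlp (Arrow.mk f).augmentedCechNerve.hom := by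
  open Simplicial Opposite Limits in
  classical
  let S := (Arrow.mk f).augmentedCechNerve.left
  let π : ∀ {n : ℕ}, S _⦋n⦌ → Fin (n + 1) → A := fun {n} x k => WidePullback.π (fun _ => f) k x
  have base_eq : ∀ {n : ℕ} (x : S _⦋n⦌) (k : Fin (n + 1)), WidePullback.base (fun _ => f) x = f (π x k) :=
    fun {n} x k => (ConcreteCategory.congr_hom (WidePullback.π_arrow (fun _ : Fin (n + 1) => f) k) x).symm
  have πδ : ∀ {n : ℕ} (x : S _⦋n + 1⦌) (j : Fin (n + 2)) (k : Fin (n + 1)),
      π (S.δ j x) k = π x (j.succAbove k) := fun {n} x j k => by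
    exact ConcreteCategory.congr_hom (WidePullback.lift_π (arrows := fun _ : Fin (n + 1) => f) (X := S _⦋n + 1⦌) _ _ _ k) x
  have mk : ∀ {n : ℕ} (a : Fin (n + 1) → A) (b : B), (∀ k, f (a k) = b) →
      ∃ x : S _⦋n⦌, (∀ k, π x k = a k) ∧ WidePullback.base (fun _ => f) x = b := fun {n} a b h => by
    refine ⟨WidePullback.lift (TypeCat.ofHom fun _ : PUnit.{u + 1} => b)
      (fun k => TypeCat.ofHom fun _ => a k) (fun k => by ext; exact h k) PUnit.unit, fun k => ?_, ?_⟩
    · exact ConcreteCategory.congr_hom (WidePullback.lift_π (X := PUnit.{u + 1}) (fun _ : Fin (n + 1) => f) _ _ _ k) PUnit.unit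
    · exact ConcreteCategory.congr_hom (WidePullback.lift_base (X := PUnit.{u + 1}) (fun _ : Fin (n + 1) => f) _ _ _) PUnit.unit
  have ext : ∀ {n : ℕ} (x y : S _⦋n⦌), (∀ k, π x k = π y k) → x = y := fun {n} x y h => by
    refine Types.limit_ext _ x y ?_
    rintro (_ | k)
    · have : WidePullback.base (fun _ => f) x = WidePullback.base (fun _ => f) y := by
        rw [base_eq x 0, base_eq y 0, h]
      exact this
    · exact h k
  refine Groth.L09.BdryLift.rlp_I _ (fun b => ?_) fun n y z hz hc => ?_
  · obtain ⟨a, ha⟩ := hf b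
    obtain ⟨x, -, hx⟩ := mk (n := 0) (fun _ => a) b (fun _ => ha)
    exact ⟨x, hx⟩
  have agree : ∀ (p q : Fin (n + 2)) (k l : Fin (n + 1)), p.succAbove k = q.succAbove l →
      π (z p) k = π (z q) l := by
    intro p q k l e
    rcases eq_or_ne p q with rfl | hpq
    · rw [Fin.succAbove_right_injective e]
    cases n with
    | zero =>
      exfalso
      revert e hpq
      revert p q k l
      decide
    | succ m =>
      have main : ∀ (p q : Fin (m + 3)) (k l : Fin (m + 2)), p < q → p.succAbove k = q.succAbove l →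
          π (z p) k = π (z q) l := by
        intro p q k l hlt e
        obtain ⟨j, rfl⟩ := Fin.exists_succ_eq.mpr (Fin.ne_of_gt (lt_of_le_of_lt (Fin.zero_le p) hlt))
        obtain ⟨i, rfl⟩ := Fin.exists_castSucc_eq.mpr (Fin.ne_of_lt (lt_of_lt_of_le hlt (Fin.le_last _)))
        have hij : i ≤ j := Fin.castSucc_lt_succ_iff.mp hlt
        have hkj : k ≠ j := fun h => by
          subst h
          rw [Fin.succAbove_castSucc_of_le _ _ hij] at e
          exact Fin.succAbove_ne _ _ e.symm
        obtain ⟨r, rfl⟩ := Fin.exists_succAbove_eq hkj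
        have hl : l = i.succAbove r := Fin.succAbove_right_injective (e.symm.trans
          (congrArg (fun g : ⦋m⦌ ⟶ ⦋m + 2⦌ => g.toOrderHom r) (SimplexCategory.δ_comp_δ hij)).symm)
        subst hl
        exact ((πδ _ _ _).symm.trans (congrArg (fun w => π w r) (hc i j hij).symm)).trans (πδ _ _ _)
      rcases lt_or_gt_of_ne hpq with h | h
      · exact main p q k l h e
      · exact (main q p l k h e.symm).symm
  have hex : ∀ t : Fin (n + 2), ∃ (p : Fin (n + 2)) (k : Fin (n + 1)), p.succAbove k = t := fun t => by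
    obtain ⟨p, hp⟩ := exists_ne t
    exact ⟨p, Fin.exists_succAbove_eq hp.symm⟩
  choose P K hPK using hex
  obtain ⟨x, hx, hxb⟩ := mk (fun t => π (z (P t)) (K t)) y (fun t =>
    (base_eq (z (P t)) (K t)).symm.trans (hz (P t)))
  exact ⟨x, hxb, fun j => ext _ _ fun k => (πδ x j k).trans ((hx _).trans (agree _ _ _ _ (hPK _)))⟩

end Groth.Agent.S6783
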