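import Groth.Statements.S6784
import Groth.Agent.L09.ToposQC

set_option autoImplicit false
open CategoryTheory
universe u
open SSet

namespace Groth.Agent.S6784

/-- The standard simplex `Δ[n]` is `1`-coskeletal, i.e. it is the right Kan extension of its
`1`-truncation. -/
theorem result (n : ℕ) : SimplicialObject.IsCoskeletal (SSet.stdSimplex.{u}.obj (SimplexCategory.mk n)) 1 := by
  open Simplicial Opposite in
  constructor
  refine ⟨⟨Limits.IsTerminal.ofUniqueHom (fun G => CostructuredArrow.homMk ?_ ?_) ?_⟩⟩
  · exact
      { app := fun m => TypeCat.ofHom fun w => SSet.stdSimplex.objEquiv.symm (SimplexCategory.Hom.mk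
          { toFun := fun i => (SSet.stdSimplex.objEquiv (G.hom.app (op ⟨⦋0⦌, by simp⟩)
              (G.left.map (SimplexCategory.const ⦋0⦌ m.unop i).op w))).toOrderHom 0
            monotone' := fun i j hij => by
              let a : ⦋1⦌ ⟶ m.unop := SimplexCategory.mkOfLe (n := m.unop.len) i j hij
              let e := SSet.stdSimplex.objEquiv (G.hom.app (op ⟨⦋1⦌, by simp⟩) (G.left.map a.op w))
              have key : ∀ k : Fin 2, (SSet.stdSimplex.objEquiv (G.hom.app (op ⟨⦋0⦌, by simp⟩)
                  (G.left.map (SimplexCategory.const ⦋0⦌ m.unop (a.toOrderHom k)).op w))).toOrderHom 0 =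
                  e.toOrderHom k := by
                intro k
                let t : (⟨⦋0⦌, by simp⟩ : SimplexCategory.Truncated 1) ⟶ ⟨⦋1⦌, by simp⟩ :=
                  ObjectProperty.homMk (SimplexCategory.const ⦋0⦌ ⦋1⦌ k)
                have h := ConcreteCategory.congr_hom (G.hom.naturality t.op) (G.left.map a.op w)
                have hc : SimplexCategory.const ⦋0⦌ m.unop (a.toOrderHom k) =
                    SimplexCategory.const ⦋0⦌ ⦋1⦌ k ≫ a := by
                  rw [SimplexCategory.const_comp]
                have hw : G.left.map (SimplexCategory.const ⦋0⦌ m.unop (a.toOrderHom k)).op w =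
                    G.left.map (SimplexCategory.const ⦋0⦌ ⦋1⦌ k).op (G.left.map a.op w) := by
                  rw [hc, op_comp, G.left.map_comp]; rfl
                rw [hw]
                exact congrArg (fun z => (SSet.stdSimplex.objEquiv z).toOrderHom 0) h
              have h0 := key 0
              have h1 := key 1
              exact le_of_eq_of_le h0 ((e.toOrderHom.monotone (by decide : (0 : Fin 2) ≤ 1)).trans h1.ge) })
        naturality := fun m l φ => by
          ext w
          apply SSet.stdSimplex.objEquiv.injective
          apply SimplexCategory.Hom.ext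
          ext i
          have hc : SimplexCategory.const ⦋0⦌ l.unop i ≫ φ.unop =
              SimplexCategory.const ⦋0⦌ m.unop (φ.unop.toOrderHom i) := SimplexCategory.const_comp _ _ _
          refine congrArg (fun z => ((SSet.stdSimplex.objEquiv (G.hom.app _ z)).toOrderHom 0 : ℕ)) ?_
          show G.left.map _ (G.left.map φ w) = G.left.map _ w
          rw [← hc, op_comp, G.left.map_comp]
          rfl }
  · ext ⟨⟨m, hm⟩⟩ w
    apply SSet.stdSimplex.objEquiv.injective
    apply SimplexCategory.Hom.ext
    ext i
    let t : (⟨⦋0⦌, by simp⟩ : SimplexCategory.Truncated 1) ⟶ ⟨m, hm⟩ :=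
      ObjectProperty.homMk (SimplexCategory.const ⦋0⦌ m i)
    have h := ConcreteCategory.congr_hom (G.hom.naturality t.op) w
    exact congrArg (fun z => ((SSet.stdSimplex.objEquiv z).toOrderHom 0 : ℕ)) h
  · intro G φ
    apply CostructuredArrow.hom_ext
    ext m w
    apply SSet.stdSimplex.objEquiv.injective
    apply SimplexCategory.Hom.ext
    ext i
    have h1 := ConcreteCategory.congr_hom (φ.left.naturality (SimplexCategory.const ⦋0⦌ m.unop i).op) w
    have h2 := ConcreteCategory.congr_hom (NatTrans.congr_app (CostructuredArrow.w φ) (op ⟨⦋0⦌, by simp⟩))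
      (G.left.map (SimplexCategory.const ⦋0⦌ m.unop i).op w)
    exact congrArg (fun z => ((SSet.stdSimplex.objEquiv z).toOrderHom 0 : ℕ)) (h1.symm.trans h2)

end Groth.Agent.S6784
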