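import Groth.Statements.S6785
import Groth.Agent.L09.TrivFibHomotopy

set_option autoImplicit false
open CategoryTheory
universe u
open SSet

namespace Groth.Agent.S6785

/-- A trivial Kan fibration `f : X ⟶ Y` of simplicial sets is a homotopy equivalence; more precisely it
has a section `g`, and `g ∘ f` is homotopic to the identity of `X` by a single homotopy in each
direction. (The published statement only asserts a homotopy equivalence; the section and the
one-step homotopies are what its proof constructs.) -/
theorem result {X Y : SSet.{u}} (f : X ⟶ Y) (hf : SSet.modelCategoryQuillen.I.rlp f) : ∃ g : Y ⟶ X, g ≫ f = 𝟙 Y ∧ Nonempty (SSet.Homotopy (𝟙 X) (f ≫ g)) ∧ Nonempty (SSet.Homotopy (f ≫ g) (𝟙 X)) := by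
  rw [← SSet.rlp_monomorphisms] at hf
  obtain ⟨g, hg⟩ := Groth.L09.TrivFib.exists_sect f hf
  have e : (f ≫ g) ≫ f = 𝟙 X ≫ f := by
    rw [Category.assoc, hg, Category.id_comp, Category.comp_id]
  exact ⟨g, hg, Groth.L09.TrivFib.nonempty_homotopy f hf _ _ e.symm,
    Groth.L09.TrivFib.nonempty_homotopy f hf _ _ e⟩

end Groth.Agent.S6785
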