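import Groth.Statements.S6786
import Groth.Agent.L04.MLSys
import Mathlib.Tactic.Abel

set_option autoImplicit false
open CategoryTheory CategoryTheory.Limits
universe u
open HomAlg3

namespace Groth.Agent.S6786

open Groth.L04.MLSys CategoryTheory CategoryTheory.Limits Opposite

/-- For a sequence `(A_i) ⟶ (B_i) ⟶ (C_i) ⟶ (D_i)` of inverse systems of abelian groups over `ℕ` that is
exact levelwise at the two middle places, if `(A_i)` is Mittag-Leffler then `lim B_i ⟶ lim C_i ⟶ lim
D_i` is exact. -/
theorem result {A B C D : ℕᵒᵖ ⥤ AddCommGrpCat.{u}} (a : A ⟶ B) (b : B ⟶ C) (c : C ⟶ D) (hB : ∀ i, (b.app i).hom.ker = (a.app i).hom.range) (hC : ∀ i, (c.app i).hom.ker = (b.app i).hom.range) (hA : (A ⋙ forget AddCommGrpCat).IsMittagLeffler) : (limMap c).hom.ker = (limMap b).hom.range := by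
  have hcomp : ∀ i x, (c.app i).hom ((b.app i).hom x) = 0 := fun i x => by
    rw [← AddMonoidHom.mem_ker, hC]; exact ⟨x, rfl⟩
  ext l
  constructor
  · intro hl
    have hmem : ∀ i : ℕ, ∃ y, (b.app (op i)).hom y = (limit.π C (op i)).hom l := fun i => by
      have h0 : (c.app (op i)).hom ((limit.π C (op i)).hom l) = 0 := by
        show (limit.π C (op i) ≫ c.app (op i)).hom l = 0
        rw [← limMap_π]
        show (limit.π D (op i)).hom ((limMap c).hom l) = 0
        rw [show (limMap c).hom l = 0 from hl, map_zero]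
      rw [← AddMonoidHom.mem_ker, hC] at h0
      exact h0
    obtain ⟨x, hx, hbx⟩ := exists_lift ⟨Set.univ, Set.countable_univ, fun i => ⟨i, trivial, le_rfl⟩⟩ a b hB hA
      (fun i => (limit.π C (op i)).hom l) (fun i j h => res_limit C l h) hmem
    obtain ⟨e, he⟩ := exists_limit B x hx
    refine ⟨e, Concrete.limit_ext _ _ _ fun i => ?_⟩
    show (limMap b ≫ limit.π C i).hom e = _
    rw [limMap_π]
    show (b.app i).hom ((limit.π B i).hom e) = _
    rw [he i.unop]
    exact hbx i.unop
  · rintro ⟨e, rfl⟩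
    rw [AddMonoidHom.mem_ker]
    refine Concrete.limit_ext _ _ _ fun i => ?_
    show ((limMap b ≫ limMap c) ≫ limit.π D i).hom e = (limit.π D i).hom 0
    rw [map_zero, Category.assoc, limMap_π, ← Category.assoc, limMap_π]
    exact hcomp i _

end Groth.Agent.S6786
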