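import Groth.Statements.S6787
import Groth.Agent.L04.MLSys
import Mathlib.Tactic.Abel

set_option autoImplicit false
open CategoryTheory CategoryTheory.Limits
universe u
open HomAlg3

namespace Groth.Agent.S6787

open Groth.L04.MLSys CategoryTheory CategoryTheory.Limits Opposite

/-- Take inverse systems `(A_i)`, `(B_i)`, `(C_i)` of abelian groups over `ℕ`, with morphisms of systems
`(A_i) ⟶ (B_i) ⟶ (C_i)` that give a short exact sequence at every index, and suppose `(C_i)` is
essentially constant. Then `(A_i)` is Mittag-Leffler if and only if `(B_i)` is. -/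
theorem result {A B C : ℕᵒᵖ ⥤ AddCommGrpCat.{u}} (a : A ⟶ B) (b : B ⟶ C) (ha : ∀ i, Function.Injective (a.app i).hom) (hb : ∀ i, Function.Surjective (b.app i).hom) (hex : ∀ i, (b.app i).hom.ker = (a.app i).hom.range) (hC : ∃ (C₀ : AddCommGrpCat.{u}) (c : (Functor.const ℕᵒᵖ).obj C₀ ⟶ C), DerCA.IsEssConstant C C₀ c) : (A ⋙ forget AddCommGrpCat).IsMittagLeffler ↔ (B ⋙ forget AddCommGrpCat).IsMittagLeffler := by
  obtain ⟨C₀, c, i₀, s, hs, hC⟩ := hC
  have hc : ∀ (i j : ℕ) (h : i ≤ j) z, res C h ((c.app (op j)).hom z) = (c.app (op i)).hom z := fun i j h z => by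
    rw [res_app c h z]
    exact congrArg _ (show ((Functor.const ℕᵒᵖ).obj C₀).map (homOfLE h).op z = z from rfl)
  have hinj : ∀ i, i₀ ≤ i → Function.Injective (c.app (op i)).hom := fun i hi z z' h => by
    have := congrArg (fun w => s.hom (res C hi w)) h
    simp only [hc] at this
    exact (ConcreteCategory.congr_hom hs z).symm.trans (this.trans (ConcreteCategory.congr_hom hs z'))
  have hform : ∀ j : ℕ, ∃ (k : ℕ) (hi : i₀ ≤ k) (hj : j ≤ k), ∀ z, res C hj z = (c.app (op j)).hom (s.hom (res C hi z)) :=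
    fun j => by
      obtain ⟨k, hi, hj, h⟩ := hC j
      exact ⟨k, hi, hj, fun z => ConcreteCategory.congr_hom h z⟩
  rw [isML_iff, isML_iff]
  constructor
  · intro hA i
    obtain ⟨j, hij, hj⟩ := hA i
    obtain ⟨k, hk0, hjk, hk⟩ := hform j
    refine ⟨k, hij.trans hjk, fun m hm x => ?_⟩
    let l := max j m
    obtain ⟨z, hz⟩ := hb (op l) ((c.app (op l)).hom (s.hom (res C hk0 ((b.app (op k)).hom x))))
    have hd : res B hjk x - res B (le_max_left j m) z ∈ (b.app (op j)).hom.ker := by
      rw [AddMonoidHom.mem_ker, map_sub, ← res_app, ← res_app, hz, hc, hk, sub_self]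
    rw [hex] at hd
    obtain ⟨α, hα⟩ := hd
    obtain ⟨α', hα'⟩ := hj m hm α
    refine ⟨res B (le_max_right j m) z + (a.app (op m)).hom α', ?_⟩
    rw [map_add, res_app a hm α', hα', ← res_app a hij α, hα, map_sub, res_res, res_res, res_res]
    abel
  · intro hB i
    suffices ∀ i, i₀ ≤ i → ∃ k, Stab A i k by
      obtain ⟨k, hik, hk⟩ := this (max i i₀) (le_max_right _ _)
      refine ⟨k, (le_max_left _ _).trans hik, fun m hm x => ?_⟩
      obtain ⟨y, hy⟩ := hk (max (max i i₀) m) (le_max_left _ _) x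
      refine ⟨res A (le_max_right _ _) y, ?_⟩
      rw [res_res, ← res_res A (le_max_left i i₀) (le_max_left _ m), hy, res_res]
    intro i hi
    obtain ⟨k, hik, hk⟩ := hB i
    refine ⟨k, hik, fun m hm x => ?_⟩
    obtain ⟨r, hr0, hir, hr⟩ := hform i
    obtain ⟨n, hn0, hmn, hn⟩ := hform m
    let l := max r n
    obtain ⟨z, hz⟩ := hk l (hm.trans (hmn.trans (le_max_right r n))) ((a.app (op k)).hom x)
    have h0 : res C (hir.trans (le_max_left r n)) ((b.app (op l)).hom z) = 0 := by
      rw [res_app, hz, ← res_app, AddMonoidHom.mem_ker.mp ((hex (op k)).ge ⟨x, rfl⟩ : (a.app (op k)).hom x ∈ (b.app (op k)).hom.ker), map_zero]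
    have h1 : s.hom (res C (hr0.trans (le_max_left r n)) ((b.app (op l)).hom z)) = 0 := by
      apply hinj i hi
      rw [map_zero, ← h0, ← res_res C hir (le_max_left r n), hr, res_res]
    have hd : res B (hmn.trans (le_max_right r n)) z ∈ (b.app (op m)).hom.ker := by
      rw [AddMonoidHom.mem_ker, ← res_app, ← res_res C hmn (le_max_right r n), hn, res_res, h1, map_zero]
    rw [hex] at hd
    obtain ⟨α, hα⟩ := hd
    refine ⟨α, ha (op i) ?_⟩
    rw [← res_app, hα, res_res, hz, res_app]

end Groth.Agent.S6787
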