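import Groth.Statements.S6790
import Groth.Prelude.Def_W4c2gerbepatchBitors
import Groth.Prelude.Def_W4c6defoisocp1TwistExt
import Mathlib.CategoryTheory.Monoidal.Rigid.Basic
import Mathlib.CategoryTheory.Monoidal.Preadditive
import Mathlib.CategoryTheory.Idempotents.Basic
import Mathlib.CategoryTheory.Preadditive.Biproducts
import Mathlib.CategoryTheory.Sites.CoversTop.Basic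
import Mathlib.LinearAlgebra.FiniteDimensional.Lemmas
import Mathlib.GroupTheory.Index
import Mathlib.RingTheory.Nilpotent.Exp
import Mathlib.RingTheory.Nilpotent.Lemmas
import Mathlib.Algebra.Algebra.Bilinear
import Mathlib.Algebra.Ring.GeomSum
import Mathlib.RingTheory.Polynomial.Cyclotomic.Eval
import Mathlib.RingTheory.RootsOfUnity.CyclotomicUnits

set_option autoImplicit false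
open CategoryTheory CategoryTheory.Limits MonoidalCategory
universe v u
open CategoryTheory CategoryTheory.Monoidal

namespace Groth.Agent.S6790
open CategoryTheory CategoryTheory.Limits MonoidalCategory Opposite

/-- In an idempotent-complete additive monoidal category, a direct summand of an object admitting a dual
(with coevaluation `𝟙_ A ⟶ X ⊗ Y` and evaluation `Y ⊗ X ⟶ 𝟙_ A`) again admits such a dual. -/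
theorem result {A : Type u} [Category.{v} A] [Preadditive A] [HasFiniteBiproducts A] [MonoidalCategory A] [MonoidalPreadditive A] [IsIdempotentComplete A] {X X₁ : A} (i : X₁ ⟶ X) (p : X ⟶ X₁) (hip : i ≫ p = 𝟙 X₁) [HasRightDual X] : Nonempty (HasRightDual X₁) := by
  obtain ⟨Y, j, q, hjq, hqj⟩ := IsIdempotentComplete.idempotents_split (Xᘁ) ((p ≫ i)ᘁ)
    (by rw [← comp_rightAdjointMate, Category.assoc, reassoc_of% hip])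
  let d : ExactPairing X₁ Y :=
    { coevaluation' := η_ X Xᘁ ≫ p ▷ Xᘁ ≫ X₁ ◁ q
      evaluation' := j ▷ X₁ ≫ Xᘁ ◁ i ≫ ε_ X Xᘁ
      coevaluation_evaluation' := ?_
      evaluation_coevaluation' := ?_ }
  · exact ⟨⟨Y⟩⟩
  · calc
      _ = 𝟙 _ ⊗≫ (Y ◁ (η_ X Xᘁ ≫ p ▷ Xᘁ)) ⊗≫ ((Y ⊗ X₁) ◁ q ≫ (j ▷ X₁ ≫ Xᘁ ◁ i ≫ ε_ X Xᘁ) ▷ Y) ⊗≫ 𝟙 _ := by monoidal
      _ = 𝟙 _ ⊗≫ (Y ◁ (η_ X Xᘁ ≫ p ▷ Xᘁ) ≫ j ▷ (X₁ ⊗ Xᘁ)) ⊗≫ (Xᘁ ◁ i ≫ ε_ X Xᘁ) ▷ Xᘁ ⊗≫ q ⊗≫ 𝟙 _ := by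
        rw [whisker_exchange]; monoidal
      _ = 𝟙 _ ⊗≫ j ⊗≫ Xᘁ ◁ η_ X Xᘁ ⊗≫ (Xᘁ ◁ (p ≫ i) ≫ ε_ X Xᘁ) ▷ Xᘁ ⊗≫ q ⊗≫ 𝟙 _ := by
        rw [whisker_exchange]; monoidal
      _ = 𝟙 _ ⊗≫ j ⊗≫ (Xᘁ ◁ η_ X Xᘁ ≫ (p ≫ i)ᘁ ▷ (X ⊗ Xᘁ)) ⊗≫ ε_ X Xᘁ ▷ Xᘁ ⊗≫ q ⊗≫ 𝟙 _ := by
        rw [← rightAdjointMate_comp_evaluation]; monoidal
      _ = 𝟙 _ ⊗≫ (j ≫ (p ≫ i)ᘁ) ⊗≫ (Xᘁ ◁ η_ X Xᘁ ⊗≫ ε_ X Xᘁ ▷ Xᘁ) ⊗≫ q ⊗≫ 𝟙 _ := by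
        rw [whisker_exchange]; monoidal
      _ = 𝟙 _ ⊗≫ (j ≫ (p ≫ i)ᘁ ≫ q) ⊗≫ 𝟙 _ := by
        rw [ExactPairing.coevaluation_evaluation'']; monoidal
      _ = _ := by
        rw [← hqj, Category.assoc, hjq, Category.comp_id, hjq]; monoidal
  · calc
      _ = 𝟙 _ ⊗≫ (η_ X Xᘁ ≫ p ▷ Xᘁ) ▷ X₁ ⊗≫ X₁ ◁ (((q ≫ j) ▷ X₁) ≫ Xᘁ ◁ i ≫ ε_ X Xᘁ) ⊗≫ 𝟙 _ := by monoidal
      _ = 𝟙 _ ⊗≫ (η_ X Xᘁ ≫ p ▷ Xᘁ) ▷ X₁ ⊗≫ X₁ ◁ (Xᘁ ◁ i ≫ ((p ≫ i)ᘁ ▷ X ≫ ε_ X Xᘁ)) ⊗≫ 𝟙 _ := by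
        rw [hqj, ← whisker_exchange_assoc]
      _ = 𝟙 _ ⊗≫ η_ X Xᘁ ▷ X₁ ⊗≫ (p ▷ (Xᘁ ⊗ X₁) ≫ X₁ ◁ (Xᘁ ◁ (i ≫ p ≫ i))) ⊗≫ X₁ ◁ ε_ X Xᘁ ⊗≫ 𝟙 _ := by
        rw [rightAdjointMate_comp_evaluation]; monoidal
      _ = 𝟙 _ ⊗≫ (η_ X Xᘁ ▷ X₁ ≫ (X ⊗ Xᘁ) ◁ i) ⊗≫ (p ▷ (Xᘁ ⊗ X) ≫ X₁ ◁ ε_ X Xᘁ) ⊗≫ 𝟙 _ := by
        rw [reassoc_of% hip, ← whisker_exchange p]; monoidal
      _ = 𝟙 _ ⊗≫ i ⊗≫ (η_ X Xᘁ ▷ X ⊗≫ X ◁ ε_ X Xᘁ) ⊗≫ p ⊗≫ 𝟙 _ := by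
        rw [← whisker_exchange, ← whisker_exchange]; monoidal
      _ = 𝟙 _ ⊗≫ (i ≫ p) ⊗≫ 𝟙 _ := by
        rw [ExactPairing.evaluation_coevaluation'']; monoidal
      _ = _ := by rw [hip]; monoidal

end Groth.Agent.S6790
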