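import Groth.Statements.S6791
import Groth.Agent.L09.CatLimLib
import Groth.Prelude.Def_W4stkcategoriessitesEss
import Mathlib.CategoryTheory.ConnectedComponents
import Mathlib.CategoryTheory.Endofunctor.Algebra
import Mathlib.CategoryTheory.Limits.Types.Filtered
import Mathlib.CategoryTheory.Limits.Types.Products
import Mathlib.Algebra.Category.Grp.Colimits
import Mathlib.Algebra.Category.Grp.EpiMono
import Mathlib.CategoryTheory.Limits.Creates
import Mathlib.CategoryTheory.FiberedCategory.Fiber
import Mathlib.CategoryTheory.Abelian.SerreClass.Localization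
import Mathlib.CategoryTheory.Limits.FunctorCategory.Basic

set_option autoImplicit false
open CategoryTheory CategoryTheory.Limits
universe v u v' u' v'' u''
open CategoryTheory CategoryTheory.SerreClass

namespace Groth.Agent.S6791
open CategoryTheory Category Functor Limits Opposite

/-- For an exact functor `F : A ⥤ B` of abelian categories and a Serre class `P` of `A` killed by `F`,
with `L : A ⥤ Q` a model of the quotient `A/P` and `Fbar : Q ⥤ B` the induced functor, `P` is
exactly the kernel of `F` if and only if `Fbar` is faithful. -/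
theorem result {A : Type u} [Category.{v} A] [Abelian A] {B : Type u'} [Category.{v'} B] [Abelian B] (F : A ⥤ B) [F.Additive] [PreservesFiniteLimits F] [PreservesFiniteColimits F] (P : ObjectProperty A) [P.IsSerreClass] (hP : ∀ X : A, P X → IsZero (F.obj X)) {Q : Type u''} [Category.{v''} Q] [Abelian Q] (L : A ⥤ Q) [L.IsLocalization P.isoModSerre] [L.Additive] [PreservesFiniteLimits L] [PreservesFiniteColimits L] (Fbar : Q ⥤ B) (e : L ⋙ Fbar ≅ F) : (∀ X : A, IsZero (F.obj X) → P X) ↔ Fbar.Faithful := by
  constructor
  · intro h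
    have := Localization.essSurj L P.isoModSerre
    have key : ∀ {X Y : A} (g₁ g₂ : L.obj X ⟶ L.obj Y), Fbar.map g₁ = Fbar.map g₂ → g₁ = g₂ := by
      intro X Y g₁ g₂ hg
      obtain ⟨φ, h₁, h₂⟩ := Localization.exists_leftFraction₂ L P.isoModSerre g₁ g₂
      subst h₁ h₂
      have hi := Localization.inverts L P.isoModSerre
      have := hi φ.s φ.hs
      have hmul : ∀ f : X ⟶ φ.Y', (MorphismProperty.LeftFraction.mk f φ.s φ.hs).map L hi ≫ L.map φ.s = L.map f := fun f =>
        MorphismProperty.LeftFraction.map_comp_map_s _ L hi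
      have e1 : Fbar.map (L.map φ.f) = Fbar.map (L.map φ.f') := by
        rw [← hmul φ.f, ← hmul φ.f', Fbar.map_comp, Fbar.map_comp]
        exact congrArg (· ≫ _) hg
      have e2 : F.map (φ.f - φ.f') = 0 := by
        have n1 := e.hom.naturality φ.f
        have n2 := e.hom.naturality φ.f'
        simp only [Functor.comp_map] at n1 n2
        rw [e1, n2] at n1
        have := (cancel_epi (e.hom.app X)).mp n1
        rw [F.map_sub, this, sub_self]
      have e3 : IsZero (F.obj (Abelian.image (φ.f - φ.f'))) := by
        rw [← Abelian.image.fac (φ.f - φ.f'), F.map_comp] at e2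
        have e4 : F.map (Abelian.factorThruImage (φ.f - φ.f')) = 0 := (cancel_mono (F.map (Abelian.image.ι (φ.f - φ.f')))).mp (by rw [e2, zero_comp])
        exact IsZero.of_epi_eq_zero (F.map (Abelian.factorThruImage (φ.f - φ.f'))) e4
      have e5 : L.map φ.f = L.map φ.f' := by
        rw [← sub_eq_zero, ← L.map_sub, ObjectProperty.SerreClassLocalization.map_eq_zero_iff L P]
        exact h _ e3
      rw [← cancel_mono (L.map φ.s)]
      exact (hmul φ.f).trans (e5.trans (hmul φ.f').symm)
    refine ⟨fun {X Y} g₁ g₂ hg => ?_⟩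
    let eX := L.objObjPreimageIso X
    let eY := L.objObjPreimageIso Y
    have := key (eX.hom ≫ g₁ ≫ eY.inv) (eX.hom ≫ g₂ ≫ eY.inv) (by simp only [Functor.map_comp, hg])
    simpa using congrArg (fun k => eX.inv ≫ k ≫ eY.hom) this
  · intro _ X hX
    rw [← ObjectProperty.SerreClassLocalization.isZero_obj_iff L P, IsZero.iff_id_eq_zero]
    apply Fbar.map_injective
    have h0 : IsZero (Fbar.obj (L.obj X)) := hX.of_iso (e.app X)
    exact h0.eq_of_src _ _

end Groth.Agent.S6791
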