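import Groth.Statements.S6795
import Mathlib.CategoryTheory.Abelian.CommSq
import Mathlib.CategoryTheory.Abelian.Refinements
import Mathlib.CategoryTheory.Idempotents.Basic
import Mathlib.CategoryTheory.Limits.Shapes.Countable
import Mathlib.CategoryTheory.Adjunction.FullyFaithful
import Mathlib.CategoryTheory.IsConnected
import Mathlib.CategoryTheory.Monoidal.Category
import Mathlib.CategoryTheory.Limits.Shapes.Kernels
import Mathlib.CategoryTheory.Limits.Shapes.Opposites.Products
import Mathlib.CategoryTheory.Limits.Shapes.Opposites.Kernels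

set_option autoImplicit false
open CategoryTheory CategoryTheory.Limits
universe v u
open CategoryTheory CategoryTheory.Preadditive

namespace Groth.Agent.S6795
open CategoryTheory Category Limits

/-- A preadditive category with countable products in which split epimorphisms have kernels is
idempotent complete (Karoubian). -/
theorem result {D : Type u} [Category.{v} D] [Preadditive D] [HasCountableProducts D] (hk : ∀ ⦃X Y : D⦄ (f : X ⟶ Y), IsSplitEpi f → HasKernel f) : IsIdempotentComplete D := by
  rw [Idempotents.isIdempotentComplete_iff_idempotents_have_kernels]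
  intro X p hp
  -- Q = ∏ ℕ X, shift
  let f : (∏ᶜ fun _ : ℕ => X) ⟶ ∏ᶜ fun _ : ℕ => X :=
    Pi.lift fun n => Pi.π _ n ≫ p + Pi.π _ (n+1) ≫ (𝟙 X - p)
  let s : (∏ᶜ fun _ : ℕ => X) ⟶ ∏ᶜ fun _ : ℕ => X :=
    Pi.lift fun n => match n with
      | 0 => Pi.π _ 0 ≫ p
      | n + 1 => Pi.π _ (n+1) ≫ p + Pi.π _ n ≫ (𝟙 X - p)
  have hsf : s ≫ f = 𝟙 _ := by
    apply Pi.hom_ext
    intro n
    cases n <;> simp [f, s, Preadditive.comp_add, Preadditive.comp_sub, Preadditive.add_comp, hp] 
  have := hk f (IsSplitEpi.mk' ⟨s, hsf⟩)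
  let i : X ⟶ ∏ᶜ fun _ : ℕ => X := Pi.lift fun n => match n with
      | 0 => 𝟙 X - p
      | _ + 1 => 0
  have hi : i ≫ f = 0 := by
    apply Pi.hom_ext
    intro n
    cases n <;> simp [f, i, Preadditive.comp_add, Preadditive.sub_comp, hp]
  refine HasLimit.mk ⟨KernelFork.ofι (kernel.ι f ≫ Pi.π _ 0) ?_, ?_⟩
  · have := (kernel.condition f) =≫ Pi.π _ 0
    simp [f] at this
    have := this =≫ p
    simpa [Preadditive.add_comp, Preadditive.comp_sub, Preadditive.sub_comp, hp] using this
  · refine KernelFork.IsLimit.ofι _ _ (fun {W} g hg => kernel.lift f (g ≫ i) (by rw [assoc, hi, comp_zero])) ?_ ?_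
    · intro W g hg
      simp [i, Preadditive.comp_sub, hg]
    · intro W g hg m hm
      ext n
      simp only [kernel.lift_ι_assoc, assoc]
      have hc := fun k => (m ≫= kernel.condition f) =≫ Pi.π (fun _ : ℕ => X) k
      simp [f, Preadditive.comp_add, Preadditive.comp_sub] at hc
      cases n with
      | zero => simp [i, Preadditive.comp_sub, hg, hm]
      | succ n =>
        simp only [i, Pi.lift_π, comp_zero]
        have h1 := hc n =≫ (𝟙 X - p)
        have h2 := hc (n+1) =≫ p
        simp [Preadditive.add_comp, Preadditive.sub_comp, Preadditive.comp_sub, hp] at h1 h2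
        rw [h2] at h1
        simpa using h1

end Groth.Agent.S6795
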