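import Groth.Statements.S6796
import Mathlib.CategoryTheory.Abelian.CommSq
import Mathlib.CategoryTheory.Abelian.Refinements
import Mathlib.CategoryTheory.Idempotents.Basic
import Mathlib.CategoryTheory.Limits.Shapes.Countable
import Mathlib.CategoryTheory.Adjunction.FullyFaithful
import Mathlib.CategoryTheory.IsConnected
import Mathlib.CategoryTheory.Monoidal.Category
import Mathlib.CategoryTheory.Limits.Shapes.Kernels
import Mathlib.CategoryTheory.Limits.Shapes.Opposites.Products
import Mathlib.CategoryTheory.Limits.Shapes.Opposites.Kernels
import Groth.Agent.S6795

set_option autoImplicit false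
open CategoryTheory CategoryTheory.Limits
universe v u
open CategoryTheory CategoryTheory.Preadditive

namespace Groth.Agent.S6796
open CategoryTheory Category Limits

/-- A preadditive category with countable coproducts in which split monomorphisms have cokernels is
idempotent complete (Karoubian). -/
theorem result {D : Type u} [Category.{v} D] [Preadditive D] [HasCountableCoproducts D] (hk : ∀ ⦃X Y : D⦄ (f : X ⟶ Y), IsSplitMono f → HasCokernel f) : IsIdempotentComplete D := by
  apply Idempotents.isIdempotentComplete_of_isIdempotentComplete_opposite
  have : HasCountableProducts Dᵒᵖ := ⟨fun J _ => inferInstance⟩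
  refine Groth.Agent.S6795.result (fun X Y f hf => ?_)
  have : IsSplitMono f.unop := IsSplitMono.mk' ⟨(section_ f).unop, Quiver.Hom.op_inj (by simp)⟩
  have := hk f.unop this
  exact HasLimit.mk ⟨_, CokernelCofork.IsColimit.ofπOp (cokernel.π f.unop) (cokernel.condition f.unop) (cokernelIsCokernel f.unop)⟩

end Groth.Agent.S6796
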