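import Groth.Statements.S6798
import Mathlib.CategoryTheory.Abelian.CommSq
import Mathlib.CategoryTheory.Abelian.Refinements
import Mathlib.CategoryTheory.Idempotents.Basic
import Mathlib.CategoryTheory.Limits.Shapes.Countable
import Mathlib.CategoryTheory.Adjunction.FullyFaithful
import Mathlib.CategoryTheory.IsConnected
import Mathlib.CategoryTheory.Monoidal.Category
import Mathlib.CategoryTheory.Limits.Shapes.Kernels
import Mathlib.CategoryTheory.Limits.Shapes.Opposites.Products
import Mathlib.CategoryTheory.Limits.Shapes.Opposites.Kernels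

set_option autoImplicit false
open CategoryTheory CategoryTheory.Limits
universe v u
open CategoryTheory CategoryTheory.Preadditive

namespace Groth.Agent.S6798
open CategoryTheory Category Limits

/-- If `q ∘ j = 𝟙` in a preadditive category then `j` is a kernel and `q` a cokernel of `𝟙 - j ∘ q`. -/
theorem result {A : Type u} [Category.{v} A] [Preadditive A] {x y : A} (j : y ⟶ x) (q : x ⟶ y) (hqj : j ≫ q = 𝟙 y) : ∃ (hk : j ≫ (𝟙 x - q ≫ j) = 0) (hc : (𝟙 x - q ≫ j) ≫ q = 0), Nonempty (IsLimit (KernelFork.ofι j hk)) ∧ Nonempty (IsColimit (CokernelCofork.ofπ q hc)) := by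
  refine ⟨by simp [Preadditive.comp_sub, reassoc_of% hqj], by simp [Preadditive.sub_comp, hqj],
    ⟨KernelFork.IsLimit.ofι _ _ (fun g _ => g ≫ q) ?_ ?_⟩,
    ⟨CokernelCofork.IsColimit.ofπ _ _ (fun g _ => j ≫ g) ?_ ?_⟩⟩
  · intro W g hg
    rw [Preadditive.comp_sub, comp_id, sub_eq_zero] at hg
    rw [assoc, ← hg]
  · intro W g hg m hm
    rw [← hm, assoc, hqj, comp_id]
  · intro W g hg
    rw [Preadditive.sub_comp, id_comp, sub_eq_zero, assoc] at hg
    exact hg.symm
  · intro W g hg m hm
    rw [← hm, reassoc_of% hqj]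

end Groth.Agent.S6798
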