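import Groth.Statements.S6799
import Groth.Agent.L09.Cosk
import Mathlib.AlgebraicTopology.SimplicialSet.Homotopy
import Mathlib.AlgebraicTopology.SimplicialSet.Boundary
import Mathlib.AlgebraicTopology.SimplicialSet.CategoryWithFibrations

set_option autoImplicit false
open CategoryTheory Opposite
universe u
open SSet

namespace Groth.Agent.S6799
open CategoryTheory Simplicial Opposite SSet MonoidalCategory CartesianMonoidalCategory

/-- Two maps between `n`-coskeletal simplicial sets which agree on simplices of dimension `< n` are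
homotopic, by a single homotopy. -/
theorem result {U V : SSet.{u}} (f₀ f₁ : V ⟶ U) (n : ℕ) (h : ∀ i : ℕ, i < n → f₀.app (op (SimplexCategory.mk i)) = f₁.app (op (SimplexCategory.mk i))) [SimplicialObject.IsCoskeletal U n] [SimplicialObject.IsCoskeletal V n] : Nonempty (SSet.Homotopy f₀ f₁) := by
  classical
  let pick : ∀ (m : SimplexCategory), V.obj (op m) → (Δ[1] : SSet.{u}).obj (op m) → U.obj (op m) :=
    fun m x α => if (∀ i, SSet.stdSimplex.asOrderHom α i = 1) then f₁.app _ x else f₀.app _ x
  have nat : ∀ {a c : SimplexCategory} (ha : a.len ≤ n) (q : c ⟶ a) (x : V.obj (op a))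
      (α : (Δ[1] : SSet.{u}).obj (op a)),
      pick c (V.map q.op x) ((Δ[1] : SSet.{u}).map q.op α) = U.map q.op (pick a x α) := by
    intro a c ha q x α
    have hq : ∀ i, SSet.stdSimplex.asOrderHom ((Δ[1] : SSet.{u}).map q.op α) i =
        SSet.stdSimplex.asOrderHom α (q.toOrderHom i) := fun i => rfl
    simp only [pick]
    by_cases hα : ∀ i, SSet.stdSimplex.asOrderHom α i = 1
    · rw [if_pos hα, if_pos fun i => (hq i).trans (hα _)]
      exact NatTrans.naturality_apply f₁ q.op x
    · rw [if_neg hα]
      by_cases hc : ∀ i, SSet.stdSimplex.asOrderHom ((Δ[1] : SSet.{u}).map q.op α) i = 1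
      · rw [if_pos hc]
        have hns : ¬ Function.Surjective q.toOrderHom := fun hs => hα fun i => by
          obtain ⟨i', rfl⟩ := hs i
          exact (hq i').symm.trans (hc i')
        obtain ⟨la, rfl⟩ : ∃ l, a = ⦋l⦌ := ⟨a.len, rfl⟩
        obtain _ | la := la
        · exact absurd (fun i => ⟨0, Fin.ext (by have := i.isLt; have := (q.toOrderHom 0).isLt; simp at *)⟩) hns
        obtain ⟨i, q', rfl⟩ := SimplexCategory.eq_comp_δ_of_not_surjective q hns
        simp only [op_comp, Functor.map_comp_apply]
        rw [NatTrans.naturality_apply f₁ q'.op, ← congrArg (fun k => k (V.map (SimplexCategory.δ i).op x))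
          (congrArg (fun k => (ConcreteCategory.hom k : _ → _)) (h la (by simp at ha; lia)))]
        exact congrArg _ (NatTrans.naturality_apply f₀ (SimplexCategory.δ i).op x)
      · rw [if_neg hc]
        exact NatTrans.naturality_apply f₀ q.op x
  let ψ : (SimplexCategory.Truncated.inclusion n).op ⋙ (V ⊗ Δ[1] : SSet.{u}) ⟶
      (SimplexCategory.Truncated.inclusion n).op ⋙ U :=
    { app := fun m => ↾fun z => pick m.unop.obj z.1 z.2
      naturality := fun a c q => by
        ext z
        exact nat a.unop.property q.unop.hom z.1 z.2 }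
  have key : ∀ (m : ℕ) (hm : m ≤ n) (z : (V ⊗ Δ[1] : SSet.{u}).obj (op ⦋m⦌)),
      ((Groth.L09.Cosk.homEquiv U n _).symm ψ).app (op ⦋m⦌) z = pick ⦋m⦌ z.1 z.2 := fun m hm z =>
    ConcreteCategory.congr_hom (Groth.L09.Cosk.homEquiv_symm_app ψ m hm) z
  refine ⟨{ h := (Groth.L09.Cosk.homEquiv U n _).symm ψ, h₀ := ?_, h₁ := ?_, rel := ?_ }⟩
  · refine Groth.L09.Cosk.hom_ext n fun m hm => ?_
    ext x
    refine (key m hm _).trans ?_
    exact if_neg fun hh => absurd (hh 0) (show ¬ ((0 : Fin 2) = 1) by decide)
  · refine Groth.L09.Cosk.hom_ext n fun m hm => ?_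
    ext x
    refine (key m hm _).trans ?_
    exact if_pos fun i => rfl
  · ext m z
    exact (Set.notMem_empty _ (z.1).2).elim

end Groth.Agent.S6799
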