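import Groth.Statements.S6807
import Groth.Agent.L04.HomAlg.LimHomology

set_option autoImplicit false
open CategoryTheory CategoryTheory.Limits
universe u
open HomAlg3

namespace Groth.Agent.S6807

/-- For an inverse system of cochain complexes of abelian groups over `ℕ` whose terms in degrees `n-2`
and `n-1` form Mittag-Leffler systems and whose degree-`(n-1)` cohomologies form an essentially
constant system, the canonical map from the degree-`n` cohomology of the limit complex to the limit
of the degree-`n` cohomologies is an isomorphism. (The published statement is for four-term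
complexes in degrees `-2, …, 1`; only those four degrees of a longer complex enter.) -/
theorem result (K : ℕᵒᵖ ⥤ HomologicalComplex AddCommGrpCat.{u} (ComplexShape.up ℤ)) (n : ℤ) (h2 : ((K ⋙ HomologicalComplex.eval _ _ (n - 2)) ⋙ forget AddCommGrpCat).IsMittagLeffler) (h1 : ((K ⋙ HomologicalComplex.eval _ _ (n - 1)) ⋙ forget AddCommGrpCat).IsMittagLeffler) (hH : ∃ (C₀ : AddCommGrpCat.{u}) (c : (Functor.const ℕᵒᵖ).obj C₀ ⟶ K ⋙ HomologicalComplex.homologyFunctor _ _ (n - 1)), DerCA.IsEssConstant (K ⋙ HomologicalComplex.homologyFunctor _ _ (n - 1)) C₀ c) : IsIso (limit.post K (HomologicalComplex.homologyFunctor _ _ n)) := by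

    have hcof : ∃ s : Set ℕ, s.Countable ∧ ∀ i, ∃ j ∈ s, i ≤ j := ⟨Set.univ, Set.countable_univ, fun i => ⟨i, trivial, le_rfl⟩⟩
    obtain ⟨C₀, c, i, s, -, hc⟩ := hH
    have hstab : ∀ j, ∃ k, Groth.L04.MLSys.Stab (Groth.L04.LimHom.hom K (n - 1)) j k := by
      intro j
      obtain ⟨k, hik, hjk, hk⟩ := hc j
      refine ⟨k, hjk, fun m hm x => ⟨(c.app (Opposite.op m)).hom (s.hom ((ARSys.tr (Groth.L04.LimHom.hom K (n - 1)) hik).hom x)), ?_⟩⟩
      refine Eq.trans ?_ (ConcreteCategory.congr_hom hk x).symm
      exact (ConcreteCategory.congr_hom (c.naturality (homOfLE hm).op) _).symm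
    rw [ConcreteCategory.isIso_iff_bijective]
    exact ⟨Groth.L04.LimHom.post_injective K hcof (show n - 2 + 1 = n - 1 by ring) (sub_add_cancel n 1) h2 hstab,
      Groth.L04.LimHom.post_surjective K hcof (sub_add_cancel n 1) h1⟩

end Groth.Agent.S6807
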