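import Mathlib.AlgebraicTopology.SimplicialObject.Coskeletal
import Mathlib.CategoryTheory.Limits.Shapes.FiniteLimits
import Groth.Agent.L09.SSetSkel

set_option autoImplicit false
set_option linter.style.haveILetI false
open CategoryTheory CategoryTheory.Limits
universe v u
open CategoryTheory CategoryTheory.SimplicialObject

namespace Groth.Agent.S6811

/-- In a category with finite limits, an `n`-coskeletal simplicial object is `m`-coskeletal for every `m
≥ n`. -/
theorem result {C : Type u} [Category.{v} C] [HasFiniteLimits C] (U : SimplicialObject C) {n m : ℕ} (h : n ≤ m) [U.IsCoskeletal n] : U.IsCoskeletal m := by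
  haveI : ∀ (k : ℕ) (F : (SimplexCategory.Truncated k)ᵒᵖ ⥤ C),
      (SimplexCategory.Truncated.inclusion k).op.HasPointwiseRightKanExtension F :=
    fun k F => Groth.L09.SSetSkel.pointwiseRight k F
  rw [isCoskeletal_iff_isIso]
  let an := coskAdj (C := C) n
  let am := coskAdj (C := C) m
  haveI : IsIso (an.unit.app U) := (isCoskeletal_iff_isIso U n).1 inferInstance
  let T := Truncated.trunc C m n h
  let Z : SimplicialObject C := (SimplicialObject.Truncated.cosk m).obj ((truncation m).obj U)
  let η : U ⟶ Z := am.unit.app U
  let ε : (truncation m).obj Z ⟶ (truncation m).obj U := am.counit.app _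
  -- the lift of the `n`-truncation of the counit
  let α : (truncation n).obj Z ⟶ (truncation n).obj U := T.map ε
  let r : Z ⟶ U := an.homEquiv Z _ α ≫ inv (an.unit.app U)
  have hext : ∀ {W : SimplicialObject C} (f g : W ⟶ U),
      (truncation n).map f = (truncation n).map g → f = g := by
    intro W f g hfg
    rw [← cancel_mono (an.unit.app U)]
    have e1 := an.unit.naturality f
    have e2 := an.unit.naturality g
    simp only [CategoryTheory.Functor.id_map, CategoryTheory.Functor.comp_map] at e1 e2
    rw [e1, e2, hfg]
  have hr : (truncation n).map r = α := by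
    have e : r ≫ an.unit.app U = an.homEquiv Z _ α := by simp [r]
    have e' := congrArg (an.homEquiv Z _).symm e
    rw [Equiv.symm_apply_apply, Adjunction.homEquiv_counit, CategoryTheory.Functor.map_comp, Category.assoc] at e'
    erw [an.left_triangle_components, Category.comp_id] at e'
    exact e'
  have htri : (truncation m).map η ≫ ε = 𝟙 _ := am.left_triangle_components U
  have h1 : η ≫ r = 𝟙 U := by
    apply hext
    rw [CategoryTheory.Functor.map_comp, CategoryTheory.Functor.map_id, hr]
    exact ((T.map_comp ((truncation m).map η) ε).symm.trans (congrArg T.map htri)).trans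
      (T.map_id _)
  haveI : IsIso am.counit := Truncated.cosk_reflective m
  haveI : IsIso ε := inferInstanceAs (IsIso (am.counit.app _))
  haveI : IsIso ((truncation m).map η) := by
    rw [(IsIso.eq_comp_inv ε).2 htri, Category.id_comp]
    infer_instance
  have hm : (truncation m).map r = ε := by
    rw [← cancel_epi ((truncation m).map η), htri, ← CategoryTheory.Functor.map_comp, h1, CategoryTheory.Functor.map_id]
  have h2 : r ≫ η = 𝟙 Z := by
    apply (am.homEquiv _ _).symm.injective
    rw [Adjunction.homEquiv_counit, Adjunction.homEquiv_counit, CategoryTheory.Functor.map_comp, Category.assoc,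
      hm]
    erw [am.left_triangle_components, Category.comp_id, CategoryTheory.Functor.map_id, Category.id_comp]
  exact ⟨r, h1, h2⟩

end Groth.Agent.S6811
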