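import Groth.Statements.S6813
import Mathlib.CategoryTheory.Functor.KanExtension.Preserves
import Mathlib.CategoryTheory.Limits.Constructions.Over.Connected
import Mathlib.CategoryTheory.Limits.Shapes.FiniteLimits
import Mathlib.Data.Fintype.Sigma
import Mathlib.Data.Finite.Sigma
import Mathlib.AlgebraicTopology.SimplexCategory.Basic
import Mathlib.AlgebraicTopology.SimplicialObject.Coskeletal

set_option linter.style.haveILetI false
set_option backward.isDefEq.respectTransparency false
set_option backward.isDefEq.respectTransparency.types false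

namespace Groth.Agent.S6813.Aux

open CategoryTheory CategoryTheory.Limits Opposite SimplexCategory

variable (k : ℕ) (m : SimplexCategoryᵒᵖ)

abbrev J := StructuredArrow m (Truncated.inclusion k).op

noncomputable instance finCat : FinCategory (J k m) where
  fintypeObj :=
    haveI := Classical.decEq (J k m)
    haveI : Fintype (Σ j : Fin (k + 1), (SimplexCategory.mk j.1 ⟶ m.unop)) :=
      Fintype.ofFinite _
    Fintype.ofSurjective
      (fun p : Σ j : Fin (k + 1), (SimplexCategory.mk j.1 ⟶ m.unop) =>
        (StructuredArrow.mk (Y := op (⟨SimplexCategory.mk p.1.1, Nat.lt_succ_iff.mp p.1.2⟩ : Truncated k)) p.2.op : J k m))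
      (fun A => ⟨⟨⟨A.right.unop.obj.len, Nat.lt_succ_iff.mpr A.right.unop.property⟩, A.hom.unop⟩, rfl⟩)
  fintypeHom A B :=
    have : Finite (A ⟶ B) := Finite.of_injective (fun φ => φ.right.unop.hom)
      (fun φ ψ h => StructuredArrow.ext _ _ (Quiver.Hom.unop_inj (ObjectProperty.hom_ext _ h)))
    Fintype.ofFinite _

noncomputable def vtx (v : Fin (m.unop.len + 1)) : J k m :=
  StructuredArrow.mk (Y := op (⟨SimplexCategory.mk 0, Nat.zero_le k⟩ : Truncated k))
    (SimplexCategory.const (SimplexCategory.mk 0) m.unop v).op

theorem zigzag_vtx (A : J k m) (p : Fin (A.right.unop.obj.len + 1)) :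
    Zag A (vtx k m (A.hom.unop.toOrderHom p)) := by
  refine Or.inl ⟨StructuredArrow.homMk
    (ObjectProperty.homMk (SimplexCategory.const (SimplexCategory.mk 0) _ p)).op ?_⟩
  apply Quiver.Hom.unop_inj
  exact SimplexCategory.const_comp _ _ _

theorem isConnected (hk : 1 ≤ k) : IsConnected (J k m) := by
  haveI : Nonempty (J k m) := ⟨vtx k m 0⟩
  refine zigzag_isConnected fun A B => ?_
  have hv : ∀ A : J k m, Zigzag A (vtx k m (A.hom.unop.toOrderHom 0)) := fun A =>
    Zigzag.of_zag (zigzag_vtx k m A 0)
  have hle : ∀ v w : Fin (m.unop.len + 1), v ≤ w → Zigzag (vtx k m v) (vtx k m w) := by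
    intro v w hvw
    let E : J k m := StructuredArrow.mk (Y := op (⟨SimplexCategory.mk 1, hk⟩ : Truncated k))
      (SimplexCategory.mkOfLe v w hvw).op
    exact (Zigzag.symm (Zigzag.of_zag (zigzag_vtx k m E 0))).trans (Zigzag.of_zag (zigzag_vtx k m E 1))
  have hvv : ∀ v w : Fin (m.unop.len + 1), Zigzag (vtx k m v) (vtx k m w) := fun v w =>
    (le_total v w).elim (hle v w) fun h => (hle w v h).symm
  exact (hv A).trans ((hvv _ _).trans (hv B).symm)

end Groth.Agent.S6813.Aux


set_option autoImplicit false
open CategoryTheory CategoryTheory.Limits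
universe v u
open CategoryTheory CategoryTheory.SimplicialObject

namespace Groth.Agent.S6813

/-- For `k ≥ 1` the forgetful functor from the over category `C/X` to `C` (with `C` having finite
limits) commutes with `cosk_k`; stated as: a `k`-coskeletal simplicial object of `C/X` has
`k`-coskeletal underlying simplicial object in `C`. -/
theorem result {C : Type u} [Category.{v} C] [HasFiniteLimits C] (X : C) (k : ℕ) (hk : 1 ≤ k) (V : SimplicialObject (Over X)) [V.IsCoskeletal k] : SimplicialObject.IsCoskeletal (V ⋙ Over.forget X) k := by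
  let L := (SimplexCategory.Truncated.inclusion k).op
  haveI : ∀ m, IsConnected (StructuredArrow m L) := fun m => Groth.Agent.S6813.Aux.isConnected k m hk
  haveI : ∀ m, HasLimitsOfShape (StructuredArrow m L) C := fun m => inferInstance
  haveI : ∀ m, HasLimitsOfShape (StructuredArrow m L) (Over X) := fun m =>
    inferInstanceAs (HasLimitsOfShape (StructuredArrow m L) (CostructuredArrow (𝟭 C) X))
  haveI : ∀ m, PreservesLimitsOfShape (StructuredArrow m L) (Over.forget X) := fun m =>
    inferInstanceAs (PreservesLimitsOfShape (StructuredArrow m L) (CostructuredArrow.proj (𝟭 C) X))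
  haveI : L.HasPointwiseRightKanExtension (L ⋙ V) := fun m => by infer_instance
  haveI : V.IsRightKanExtension (𝟙 (L ⋙ V)) := SimplicialObject.IsCoskeletal.isRightKanExtension
  have h := (Functor.isPointwiseRightKanExtensionOfIsRightKanExtension V (𝟙 (L ⋙ V))).postcompose (Over.forget X)
  constructor
  exact (Functor.RightExtension.isPointwiseRightKanExtensionEquivOfIso
    (CostructuredArrow.isoMk (Iso.refl _) (by ext; simp) :
      (Functor.RightExtension.postcompose₂ L (L ⋙ V) (Over.forget X)).obj (Functor.RightExtension.mk _ (𝟙 (L ⋙ V))) ≅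
        Functor.RightExtension.mk (V ⋙ Over.forget X) (𝟙 (L ⋙ V ⋙ Over.forget X))) h).isRightKanExtension


end Groth.Agent.S6813
#print axioms Groth.Agent.S6813.result
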