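import Groth.Statements.S6814
-- import your own Groth.Agent.* helpers here

set_option autoImplicit false
open CategoryTheory CategoryTheory.Limits Opposite
universe v u
open CategoryTheory CategoryTheory.SimplicialObject CategoryTheory.SimplicialObject.Truncated

namespace Groth.Agent.S6814

open Simplicial

variable {C : Type u} [Category.{v} C] {n : ℕ}

/-- The value on a map into the new top simplex does not depend on the face it factors through. -/
lemma wd (U : (SimplexCategory.Truncated (n + 1))ᵒᵖ ⥤ C) {T : C}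
    (π : Fin (n + 3) → (T ⟶ U.obj (op ⟨⦋n + 1⦌, (SimplexCategory.len_mk (n + 1)).le⟩)))
    (hπ : ∀ i j : Fin (n + 2), i ≤ j → π (Fin.castSucc i) ≫ U.map (SimplexCategory.Truncated.δ (n + 1) j
      ((SimplexCategory.len_mk n).trans_le (Nat.le_succ n)) (SimplexCategory.len_mk (n + 1)).le).op =
      π j.succ ≫ U.map (SimplexCategory.Truncated.δ (n + 1) i
      ((SimplexCategory.len_mk n).trans_le (Nat.le_succ n)) (SimplexCategory.len_mk (n + 1)).le).op)
    (a : SimplexCategory.Truncated (n + 1))
    (k l : Fin (n + 3)) (θ θ' : a ⟶ ⟨⦋n + 1⦌, (SimplexCategory.len_mk (n + 1)).le⟩)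
    (h : θ.hom ≫ SimplexCategory.δ k = θ'.hom ≫ SimplexCategory.δ l) :
    π k ≫ U.map θ.op = π l ≫ U.map θ'.op := by
  wlog hkl : k ≤ l generalizing k l θ θ'
  · exact (this l k θ' θ h.symm (le_of_not_ge hkl)).symm
  rcases hkl.lt_or_eq with hkl | rfl
  swap
  · obtain rfl : θ = θ' := ObjectProperty.hom_ext _ ((cancel_mono (SimplexCategory.δ k)).mp h)
    rfl
  obtain ⟨i, rfl⟩ : ∃ i : Fin (n + 2), k = i.castSucc :=
    ⟨k.castPred (ne_of_lt (lt_of_lt_of_le hkl (Fin.le_last _))), (Fin.castSucc_castPred _ _).symm⟩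
  obtain ⟨j, rfl⟩ : ∃ j : Fin (n + 2), l = j.succ :=
    ⟨l.pred (ne_of_gt (lt_of_le_of_lt (Fin.zero_le _) hkl)), (Fin.succ_pred _ _).symm⟩
  have hij : i ≤ j := Fin.castSucc_lt_succ_iff.mp hkl
  have hav : ∀ x, θ.hom.toOrderHom x ≠ j := by
    intro x hx
    have h1 : i.castSucc.succAbove (θ.hom.toOrderHom x) = j.succ.succAbove (θ'.hom.toOrderHom x) :=
      congrArg (fun q : a.obj ⟶ ⦋n + 2⦌ => q.toOrderHom x) h
    rw [hx, Fin.succAbove_of_le_castSucc _ _ (Fin.castSucc_le_castSucc_iff.mpr hij)] at h1
    exact Fin.succAbove_ne j.succ _ h1.symm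
  obtain ⟨ρ, hρ⟩ := SimplexCategory.eq_comp_δ_of_not_surjective' θ.hom j hav
  have hθ' : θ'.hom = ρ ≫ SimplexCategory.δ i := by
    rw [← cancel_mono (SimplexCategory.δ j.succ), ← h, hρ, Category.assoc, Category.assoc,
      SimplexCategory.δ_comp_δ hij]
  let ρ' : a ⟶ ⟨⦋n⦌, (SimplexCategory.len_mk n).trans_le (Nat.le_succ n)⟩ := ObjectProperty.homMk ρ
  have e1 : θ = ρ' ≫ SimplexCategory.Truncated.δ (n + 1) j
      ((SimplexCategory.len_mk n).trans_le (Nat.le_succ n)) (SimplexCategory.len_mk (n + 1)).le :=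
    ObjectProperty.hom_ext _ hρ
  have e2 : θ' = ρ' ≫ SimplexCategory.Truncated.δ (n + 1) i
      ((SimplexCategory.len_mk n).trans_le (Nat.le_succ n)) (SimplexCategory.len_mk (n + 1)).le :=
    ObjectProperty.hom_ext _ hθ'
  rw [e1, e2, op_comp, op_comp, U.map_comp, U.map_comp]
  exact (Category.assoc _ _ _).symm.trans ((congrArg (· ≫ _) (hπ i j hij)).trans (Category.assoc _ _ _))

/-- Every map from a lower simplex into the new top simplex factors through a face. -/
lemma exists_fac (a : SimplexCategory.Truncated (n + 1)) (f : a.obj ⟶ ⦋n + 2⦌) :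
    ∃ (k : Fin (n + 3)) (θ : a ⟶ ⟨⦋n + 1⦌, (SimplexCategory.len_mk (n + 1)).le⟩),
      f = θ.hom ≫ SimplexCategory.δ k := by
  obtain ⟨k, θ, h⟩ := SimplexCategory.eq_comp_δ_of_not_surjective (n := n + 1) f (fun hs => by
    have hc := Fintype.card_le_of_surjective _ hs
    have hl : a.obj.len ≤ n + 1 := a.property
    simp at hc
    omega)
  exact ⟨k, ObjectProperty.homMk θ, h⟩

/-- Let `U` be an `(n+1)`-truncated simplicial object of a category `C` (so the truncation level is at
least `1`), and let `T` be an object with morphisms `π_0, …, π_{n+2} : T ⟶ U_{n+1}` satisfying the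
face relations `d_j π_i = d_i π_{j+1}` for `i ≤ j` and universal among such families (that is, `T`
represents the functor of `(n+3)`-tuples of morphisms to `U_{n+1}` satisfying the face relations).
Then `U` extends to an `(n+2)`-truncated simplicial object right adjoint to restriction: the
pointwise right Kan extension of `U` along the inclusion of `(n+1)`-truncated into `(n+2)`-truncated
simplex categories exists, and for any right Kan extension `V` of `U` the morphism `V_{n+2} ⟶ T`
matching the faces of `V` with the `π_k` is an isomorphism (the new top term is the representing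
object). -/
theorem result {C : Type u} [Category.{v} C] (n : ℕ) (U : (SimplexCategory.Truncated (n + 1))ᵒᵖ ⥤ C) (T : C) (π : Fin (n + 3) → (T ⟶ U.obj (op ⟨SimplexCategory.mk (n + 1), (SimplexCategory.len_mk (n + 1)).le⟩))) (hπ : ∀ i j : Fin (n + 2), i ≤ j → π (Fin.castSucc i) ≫ U.map (SimplexCategory.Truncated.δ (n + 1) j ((SimplexCategory.len_mk n).trans_le (Nat.le_succ n)) (SimplexCategory.len_mk (n + 1)).le).op = π j.succ ≫ U.map (SimplexCategory.Truncated.δ (n + 1) i ((SimplexCategory.len_mk n).trans_le (Nat.le_succ n)) (SimplexCategory.len_mk (n + 1)).le).op) (huniv : ∀ (S : C) (g : Fin (n + 3) → (S ⟶ U.obj (op ⟨SimplexCategory.mk (n + 1), (SimplexCategory.len_mk (n + 1)).le⟩))), (∀ i j : Fin (n + 2), i ≤ j → g (Fin.castSucc i) ≫ U.map (SimplexCategory.Truncated.δ (n + 1) j ((SimplexCategory.len_mk n).trans_le (Nat.le_succ n)) (SimplexCategory.len_mk (n + 1)).le).op = g j.succ ≫ U.map (SimplexCategory.Truncated.δ (n + 1) i ((SimplexCategory.len_mk n).trans_le (Nat.le_succ n)) (SimplexCategory.len_mk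 (n + 1)).le).op) → ∃! t : S ⟶ T, ∀ k : Fin (n + 3), t ≫ π k = g k) : (SimplexCategory.Truncated.incl (n + 1) (n + 2) (Nat.le_succ _)).op.HasPointwiseRightKanExtension U ∧ ∀ (V : (SimplexCategory.Truncated (n + 2))ᵒᵖ ⥤ C) (α : (SimplexCategory.Truncated.incl (n + 1) (n + 2) (Nat.le_succ _)).op ⋙ V ⟶ U) [V.IsRightKanExtension α] (t : V.obj (op ⟨SimplexCategory.mk (n + 2), (SimplexCategory.len_mk (n + 2)).le⟩) ⟶ T), (∀ k : Fin (n + 3), t ≫ π k = V.map (SimplexCategory.Truncated.δ (n + 2) k ((SimplexCategory.len_mk (n + 1)).trans_le (Nat.le_succ (n + 1))) (SimplexCategory.len_mk (n + 2)).le).op ≫ α.app (op ⟨SimplexCategory.mk (n + 1), (SimplexCategory.len_mk (n + 1)).le⟩)) → IsIso t := by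
  let L := (SimplexCategory.Truncated.incl (n + 1) (n + 2) (Nat.le_succ _)).op
  let top₂ : SimplexCategory.Truncated (n + 2) := ⟨⦋n + 2⦌, (SimplexCategory.len_mk (n + 2)).le⟩
  let top₁ : SimplexCategory.Truncated (n + 1) := ⟨⦋n + 1⦌, (SimplexCategory.len_mk (n + 1)).le⟩
  let face (k : Fin (n + 3)) : StructuredArrow (op top₂) L :=
    StructuredArrow.mk (Y := op top₁) (SimplexCategory.Truncated.δ (n + 2) k
      ((SimplexCategory.len_mk (n + 1)).trans_le (Nat.le_succ (n + 1))) (SimplexCategory.len_mk (n + 2)).le).op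
  choose k θ hk using fun g : StructuredArrow (op top₂) L => exists_fac g.right.unop g.hom.unop.hom
  let c : Cone (StructuredArrow.proj (op top₂) L ⋙ U) :=
    { pt := T
      π :=
        { app := fun g => π (k g) ≫ U.map (θ g).op
          naturality := fun g g' φ => by
            refine (Category.id_comp _).trans (Eq.trans ?_ (Category.assoc _ _ _).symm)
            have e : g'.hom.unop.hom = φ.right.unop.hom ≫ g.hom.unop.hom :=
              congrArg (fun q => q.unop.hom) (StructuredArrow.w φ).symm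
            refine (wd U π hπ g'.right.unop _ (k g) (θ g') (φ.right.unop ≫ θ g) ?_).trans
              (congrArg (π (k g) ≫ ·) (U.map_comp (θ g).op φ.right))
            rw [← hk g', e, hk g]
            exact (Category.assoc _ _ _).symm } }
  have hface : ∀ i, c.π.app (face i) = π i := fun i =>
    (wd U π hπ _ _ i (θ (face i)) (𝟙 _) ((hk (face i)).symm.trans (Category.id_comp _).symm)).trans
      ((congrArg (π i ≫ ·) (U.map_id _)).trans (Category.comp_id _))
  have rel : ∀ (s : Cone (StructuredArrow.proj (op top₂) L ⋙ U)) (i j : Fin (n + 2)), i ≤ j →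
      s.π.app (face i.castSucc) ≫ U.map (SimplexCategory.Truncated.δ (n + 1) j
        ((SimplexCategory.len_mk n).trans_le (Nat.le_succ n)) (SimplexCategory.len_mk (n + 1)).le).op =
      s.π.app (face j.succ) ≫ U.map (SimplexCategory.Truncated.δ (n + 1) i
        ((SimplexCategory.len_mk n).trans_le (Nat.le_succ n)) (SimplexCategory.len_mk (n + 1)).le).op := by
    intro s i j hij
    let d (l : Fin (n + 2)) := SimplexCategory.Truncated.δ (n + 1) l
      ((SimplexCategory.len_mk n).trans_le (Nat.le_succ n)) (SimplexCategory.len_mk (n + 1)).le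
    let low : StructuredArrow (op top₂) L := StructuredArrow.mk ((face i.castSucc).hom ≫ L.map (d j).op)
    let a : face i.castSucc ⟶ low := StructuredArrow.homMk (d j).op rfl
    let b : face j.succ ⟶ low := StructuredArrow.homMk (d i).op
      (Quiver.Hom.unop_inj (ObjectProperty.hom_ext _ (SimplexCategory.δ_comp_δ hij)))
    exact (s.w a).trans (s.w b).symm
  have hc : IsLimit c := by
    refine ⟨fun s => (huniv s.pt (fun l => s.π.app (face l)) (rel s)).choose, fun s g => ?_, fun s m hm => ?_⟩
    · have ht := (huniv s.pt (fun l => s.π.app (face l)) (rel s)).choose_spec.1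
      let φ : face (k g) ⟶ g := StructuredArrow.homMk (θ g).op
        (Quiver.Hom.unop_inj (ObjectProperty.hom_ext _ (hk g).symm))
      exact (Category.assoc _ _ _).symm.trans ((congrArg (· ≫ _) (ht (k g))).trans (s.w φ))
    · exact (huniv s.pt (fun l => s.π.app (face l)) (rel s)).choose_spec.2 m fun l =>
        (congrArg (m ≫ ·) (hface l)).symm.trans (hm (face l))
  have hex : L.HasPointwiseRightKanExtension U := by
    intro Y
    obtain ⟨⟨j, hj⟩⟩ := Y
    by_cases hj' : j.len ≤ n + 1
    · have := (StructuredArrow.mkIdInitial (T := L) (Y := op ⟨j, hj'⟩)).hasInitial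
      exact inferInstanceAs (HasLimit (StructuredArrow.proj (L.obj (op ⟨j, hj'⟩)) L ⋙ U))
    · obtain rfl : j = ⦋n + 2⦌ := SimplexCategory.ext (by simp; omega)
      exact ⟨⟨c, hc⟩⟩
  refine ⟨hex, fun V α hV t ht => ?_⟩
  have := hex
  have hV' := Functor.isPointwiseRightKanExtensionOfIsRightKanExtension V α (op top₂)
  let e := hV'.conePointUniqueUpToIso hc
  have he : ∀ l, e.hom ≫ π l = V.map (face l).hom ≫ α.app (op top₁) := fun l =>
    (congrArg (e.hom ≫ ·) (hface l)).symm.trans (hV'.conePointUniqueUpToIso_hom_comp hc (face l))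
  have : t = e.hom := (huniv _ (fun l => t ≫ π l) fun i j hij => by
      simp only [Category.assoc, hπ i j hij]).unique (fun l => rfl) fun l => (he l).trans (ht l).symm
  rw [this]
  exact inferInstanceAs (IsIso e.hom)

end Groth.Agent.S6814
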