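import Groth.Statements.S6815
import Mathlib.AlgebraicTopology.SimplicialObject.Homotopy
import Mathlib.CategoryTheory.Limits.FunctorCategory.Basic
import Mathlib.CategoryTheory.Limits.Shapes.Products

set_option autoImplicit false
open CategoryTheory CategoryTheory.Limits
universe w v u
open CategoryTheory CategoryTheory.SimplicialObject Simplicial

namespace Groth.Agent.S6815

/-- Homotopies between the factors of two product morphisms of simplicial objects assemble to a homotopy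
between the products. -/
theorem result {C : Type u} [Category.{v} C] {T : Type w} [HasLimitsOfShape (Discrete T) C] {X Y : T → SimplicialObject C} (a b : ∀ t, X t ⟶ Y t) (h : ∀ t, Nonempty (SimplicialObject.Homotopy (a t) (b t))) : Nonempty (SimplicialObject.Homotopy (Limits.Pi.map a) (Limits.Pi.map b)) := by
  classical
  have key : ∀ (k : SimplexCategoryᵒᵖ), IsLimit (((evaluation _ C).obj k).mapCone
      (Fan.mk _ (fun t => Pi.π Y t))) := fun k =>
    isLimitOfPreserves ((evaluation _ C).obj k) (productIsProduct Y)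
  let π' : ∀ (k : SimplexCategoryᵒᵖ) (t : T), (∏ᶜ Y).obj k ⟶ (Y t).obj k := fun k t => (Pi.π Y t).app k
  have ext' : ∀ {W : C} {k : SimplexCategoryᵒᵖ} (p q : W ⟶ (∏ᶜ Y).obj k),
      (∀ t, p ≫ π' k t = q ≫ π' k t) → p = q := fun p q hpq =>
    (key _).hom_ext (fun ⟨t⟩ => hpq t)
  let lift' : ∀ {W : C} (k : SimplexCategoryᵒᵖ) (g : ∀ t, W ⟶ (Y t).obj k), W ⟶ (∏ᶜ Y).obj k :=
    fun {W} k g => (key k).lift ⟨W, Discrete.natTrans (fun ⟨t⟩ => g t)⟩
  have lift'π : ∀ {W : C} (k : SimplexCategoryᵒᵖ) (g : ∀ t, W ⟶ (Y t).obj k) (t : T),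
      lift' k g ≫ π' k t = g t := fun {W} k g t =>
    (key k).fac ⟨W, Discrete.natTrans (fun ⟨t⟩ => g t)⟩ ⟨t⟩
  let H := fun t => (h t).some
  let hh : ∀ {n : ℕ} (i : Fin (n + 1)), (∏ᶜ X) _⦋n⦌ ⟶ (∏ᶜ Y) _⦋n + 1⦌ := fun {n} i =>
    lift' _ (fun t => (Pi.π X t).app _ ≫ (H t).h i)
  have hhπ : ∀ {n : ℕ} (i : Fin (n + 1)) (t : T), hh i ≫ π' _ t = (Pi.π X t).app _ ≫ (H t).h i :=
    fun {n} i t => lift'π (Opposite.op ⦋n + 1⦌) (fun t => (Pi.π X t).app _ ≫ (H t).h i) t
  have δπ : ∀ {n : ℕ} (i : Fin (n + 2)) (t : T),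
      (∏ᶜ Y).δ i ≫ π' _ t = π' _ t ≫ (Y t).δ i := fun i t => (Pi.π Y t).naturality _
  have σπ : ∀ {n : ℕ} (i : Fin (n + 1)) (t : T),
      (∏ᶜ Y).σ i ≫ π' _ t = π' _ t ≫ (Y t).σ i := fun i t => (Pi.π Y t).naturality _
  have δπX : ∀ {n : ℕ} (i : Fin (n + 2)) (t : T),
      (∏ᶜ X).δ i ≫ (Pi.π X t).app _ = (Pi.π X t).app _ ≫ (X t).δ i := fun i t => (Pi.π X t).naturality _
  have σπX : ∀ {n : ℕ} (i : Fin (n + 1)) (t : T),
      (∏ᶜ X).σ i ≫ (Pi.π X t).app _ = (Pi.π X t).app _ ≫ (X t).σ i := fun i t => (Pi.π X t).naturality _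
  have mapπ : ∀ (c : ∀ t, X t ⟶ Y t) (k : SimplexCategoryᵒᵖ) (t : T),
      (Limits.Pi.map c).app k ≫ π' k t = (Pi.π X t).app k ≫ (c t).app k := fun c k t =>
    (NatTrans.comp_app _ _ _).symm.trans ((congrArg (fun η => NatTrans.app η k) (Limits.Pi.map_π c t)).trans (NatTrans.comp_app _ _ _))
  refine ⟨{ h := fun i => hh i, h_zero_comp_δ_zero := ?_, h_last_comp_δ_last := ?_,
            h_succ_comp_δ_castSucc_of_lt := ?_, h_succ_comp_δ_castSucc_succ := ?_,
            h_castSucc_comp_δ_succ_of_lt := ?_, h_comp_σ_castSucc_of_le := ?_,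
            h_comp_σ_succ_of_lt := ?_ }⟩
  · intro n; refine ext' _ _ (fun t => ?_)
    rw [Category.assoc, δπ, ← Category.assoc, hhπ, Category.assoc, (H t).h_zero_comp_δ_zero, mapπ]
  · intro n; refine ext' _ _ (fun t => ?_)
    rw [Category.assoc, δπ, ← Category.assoc, hhπ, Category.assoc, (H t).h_last_comp_δ_last, mapπ]
  · intro n i j hij; refine ext' _ _ (fun t => ?_)
    rw [Category.assoc, δπ, ← Category.assoc, hhπ, Category.assoc,
      (H t).h_succ_comp_δ_castSucc_of_lt i j hij, Category.assoc, hhπ, ← Category.assoc,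
      ← Category.assoc, δπX]
  · intro n j; refine ext' _ _ (fun t => ?_)
    rw [Category.assoc, δπ, ← Category.assoc, hhπ, Category.assoc,
      (H t).h_succ_comp_δ_castSucc_succ j, Category.assoc, δπ, ← Category.assoc (hh _), hhπ,
      Category.assoc]
  · intro n i j hij; refine ext' _ _ (fun t => ?_)
    rw [Category.assoc, δπ, ← Category.assoc, hhπ, Category.assoc,
      (H t).h_castSucc_comp_δ_succ_of_lt i j hij, Category.assoc, hhπ, ← Category.assoc,
      ← Category.assoc, δπX]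
  · intro n i j hij; refine ext' _ _ (fun t => ?_)
    rw [Category.assoc, σπ, ← Category.assoc, hhπ, Category.assoc,
      (H t).h_comp_σ_castSucc_of_le i j hij, Category.assoc, hhπ, ← Category.assoc,
      ← Category.assoc, σπX]
  · intro n i j hij; refine ext' _ _ (fun t => ?_)
    rw [Category.assoc, σπ, ← Category.assoc, hhπ, Category.assoc,
      (H t).h_comp_σ_succ_of_lt i j hij, Category.assoc, hhπ, ← Category.assoc,
      ← Category.assoc, σπX]

end Groth.Agent.S6815
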