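import Groth.Statements.S6816

set_option autoImplicit false
set_option backward.defeqAttrib.useBackward true
set_option backward.isDefEq.respectTransparency false
open CategoryTheory CategoryTheory.Limits
universe v u
open CochainComplex

namespace Groth.Agent.S6816

/-- The boundary morphisms `C ⟶ A⟦1⟧` attached to two degreewise splittings of a degreewise split
sequence `A ⟶ B ⟶ C` of cochain complexes are homotopic. -/
theorem result {C : Type u} [Category.{v} C] [Preadditive C] [HasBinaryBiproducts C] (S : ShortComplex (CochainComplex C ℤ)) (σ σ' : ∀ n : ℤ, (S.map (HomologicalComplex.eval C (ComplexShape.up ℤ) n)).Splitting) : Nonempty (Homotopy (CochainComplex.homOfDegreewiseSplit S σ) (CochainComplex.homOfDegreewiseSplit S σ')) := by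
  let a : ∀ n, S.X₃.X n ⟶ S.X₁.X n := fun n => (σ' n).s ≫ (σ n).r
  refine ⟨Homotopy.mk (fun i j => if h : j + 1 = i then (a i ≫ eqToHom (congrArg S.X₁.X h.symm) : S.X₃.X i ⟶ (S.X₁⟦(1 : ℤ)⟧).X j) else 0)
    (fun i j hij => dif_neg hij) (fun n => ?_)⟩
  obtain ⟨m, rfl⟩ : ∃ m, n = m + 1 := ⟨n - 1, by omega⟩
  rw [dNext_eq _ (show (ComplexShape.up ℤ).Rel (m+1) (m+1+1) from rfl), prevD_eq _ (show (ComplexShape.up ℤ).Rel m (m+1) from rfl),
    dif_pos rfl, dif_pos rfl]
  have : Mono (S.f.f (m+1+1)) := SplitMono.mono ⟨(σ (m+1+1)).r, (σ (m+1+1)).f_r⟩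
  have rf : ∀ k, (σ k).r ≫ S.f.f k = 𝟙 (S.X₂.X k) - (S.g.f k ≫ (σ k).s : S.X₂.X k ⟶ S.X₂.X k) := fun k => (σ k).r_f
  have rf' : ∀ k, (σ' k).r ≫ S.f.f k = 𝟙 (S.X₂.X k) - (S.g.f k ≫ (σ' k).s : S.X₂.X k ⟶ S.X₂.X k) := fun k => (σ' k).r_f
  have sg : ∀ k, (σ k).s ≫ S.g.f k = 𝟙 (S.X₃.X k) := fun k => (σ k).s_g
  have sg' : ∀ k, (σ' k).s ≫ S.g.f k = 𝟙 (S.X₃.X k) := fun k => (σ' k).s_g
  refine (cancel_mono (S.f.f (m+1+1))).1 ?_
  simp only [homOfDegreewiseSplit_f, cocycleOfDegreewiseSplit, HomComplex.Cocycle.mk_coe, HomComplex.Cochain.mk_v,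
    shiftFunctor_obj_d', a]
  dsimp
  simp only [eqToHom_refl, Category.comp_id, Int.negOnePow_one, Units.neg_smul, one_smul, Preadditive.comp_neg,
    Preadditive.add_comp, Preadditive.neg_comp, Category.assoc, ← S.f.comm, reassoc_of% (rf (m+1)), rf, rf',
    reassoc_of% (rf' (m+1)),
    Preadditive.comp_sub, Preadditive.sub_comp, Category.id_comp, ← S.g.comm_assoc, reassoc_of% sg, reassoc_of% sg', sg, sg']
  repeat erw [Category.id_comp]
  abel

end Groth.Agent.S6816
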