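import Groth.Statements.S6817
import Groth.Agent.L09.SimpAbHom
import Mathlib.AlgebraicTopology.SimplicialSet.Homotopy

set_option autoImplicit false
open CategoryTheory
universe u
open SSet

namespace Groth.Agent.S6817

/-- A homomorphism of simplicial abelian groups whose underlying map of simplicial sets is a homotopy
equivalence induces a quasi-isomorphism of associated chain complexes. (The published statement
allows the composites with a homotopy inverse to be joined to the identities by chains of
homotopies; this row assumes single homotopies, in either direction.) -/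
theorem result {X Y : SimplicialObject AddCommGrpCat.{u}} (f : X ⟶ Y) (g : (Y ⋙ forget AddCommGrpCat.{u} : SSet.{u}) ⟶ (X ⋙ forget AddCommGrpCat.{u} : SSet.{u})) (hX : Nonempty (SSet.Homotopy (Functor.whiskerRight f (forget AddCommGrpCat.{u}) ≫ g) (𝟙 _)) ∨ Nonempty (SSet.Homotopy (𝟙 _) (Functor.whiskerRight f (forget AddCommGrpCat.{u}) ≫ g))) (hY : Nonempty (SSet.Homotopy (g ≫ Functor.whiskerRight f (forget AddCommGrpCat.{u})) (𝟙 _)) ∨ Nonempty (SSet.Homotopy (𝟙 _) (g ≫ Functor.whiskerRight f (forget AddCommGrpCat.{u})))) : QuasiIso ((AlgebraicTopology.alternatingFaceMapComplex AddCommGrpCat.{u}).map f) := by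
  open Groth.L09.SimpAbHom in
  let g' : ∀ n, (Y.obj (Opposite.op (SimplexCategory.mk n)) : AddCommGrpCat.{u}) →
      (X.obj (Opposite.op (SimplexCategory.mk n)) : AddCommGrpCat.{u}) := fun n y => ap g n y - ap g n 0
  have hδ : ∀ (m : ℕ) (j : Fin (m + 2)) y, SimplicialObject.δ X j (g' (m + 1) y) = g' m (SimplicialObject.δ Y j y) :=
    fun m j y => by
    simp only [g', map_sub, ← setδ, map_zero]
  have hg0 : ∀ n, g' n 0 = 0 := fun n => sub_self _
  have addB : ∀ {Z : SimplicialObject AddCommGrpCat.{u}} {n : ℕ} {p q : (Z.obj (Opposite.op (SimplexCategory.mk n)) : AddCommGrpCat.{u})},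
      Bd n p → Bd n q → Bd n (p + q) := by
    rintro Z n p q ⟨v, hv, rfl⟩ ⟨w, hw, rfl⟩
    exact ⟨v + w, fun i => by rw [map_add, hv i, hw i, add_zero], map_add _ _ _⟩
  have negB : ∀ {Z : SimplicialObject AddCommGrpCat.{u}} {n : ℕ} {p : (Z.obj (Opposite.op (SimplexCategory.mk n)) : AddCommGrpCat.{u})},
      Bd n p → Bd n (-p) := by
    rintro Z n p ⟨v, hv, rfl⟩
    exact ⟨-v, fun i => by rw [map_neg, hv i, neg_zero], map_neg _ _⟩
  refine quasiIso_of_elements f (fun n x hx hb => ?_) (fun n y hy => ?_)
  · obtain ⟨w, hw, hw'⟩ := hb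
    have h1 : Bd n (g' n (f.app _ x)) :=
      ⟨g' (n + 1) w, fun i => by rw [hδ, hw i, hg0], by rw [hδ, hw']⟩
    have h2 : Bd n (x - g' n (f.app _ x)) := by
      rcases hX with ⟨⟨H⟩⟩ | ⟨⟨H⟩⟩
      · have h := homotopy_cycle H.toSimplicialObjectHomotopy n x hx
        convert h using 1
        show _ = (x - 0) - (ap g n (f.app _ x) - ap g n (f.app _ 0))
        simp [g']
      · have h := negB (homotopy_cycle H.toSimplicialObjectHomotopy n x hx)
        convert h using 1
        show _ = -((ap g n (f.app _ x) - ap g n (f.app _ 0)) - (x - 0))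
        simp [g']
    simpa using addB h2 h1
  · refine ⟨g' n y, ?_, ?_⟩
    · cases n with
      | zero => trivial
      | succ n => exact fun i => by rw [hδ, hy i, hg0]
    · rcases hY with ⟨⟨H⟩⟩ | ⟨⟨H⟩⟩
      · have h := negB (homotopy_cycle H.toSimplicialObjectHomotopy n y hy)
        convert h using 1
        show _ = -((y - 0) - (f.app _ (ap g n y) - f.app _ (ap g n 0)))
        simp [g']
      · have h := homotopy_cycle H.toSimplicialObjectHomotopy n y hy
        convert h using 1
        show _ = (f.app _ (ap g n y) - f.app _ (ap g n 0)) - (y - 0)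
        simp [g']

end Groth.Agent.S6817
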