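import Groth.Statements.S6825
import Groth.Agent.L14.Popescu.Solutions

set_option autoImplicit false
universe u
open Smoothing

namespace Groth.Agent.S6825

/-- Let R be a Noetherian local ring with maximal ideal m which is a G-ring, R^ its m-adic completion,
and F₁, …, F_m polynomials in n variables over R having a solution a = (a₁, …, a_n) in R^. Then for
every N there are an étale R-algebra R', an R-algebra map ψ : R' → R^, a maximal ideal m' of R'
lying over m with κ(m) = κ(m') and ψ(m') ⊆ mR^, and a solution b = (b₁, …, b_n) of the system in R'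
with a_i − ψ(b_i) ∈ m^N R^ for all i. (The source compares a and b inside R^ through the
identification of R^ with the completion of R' at m'; here that comparison map is the R-algebra map
ψ.) -/
theorem result {R : Type u} [CommRing R] [IsLocalRing R] (hG : CAlg.IsGRing R)
    {n m : ℕ} (F : Fin m → MvPolynomial (Fin n) R)
    (a : Fin n → AdicCompletion (IsLocalRing.maximalIdeal R) R) (ha : ∀ j, MvPolynomial.aeval a (F j) = 0)
    (N : ℕ) :
    ∃ (R' : Type u) (_ : CommRing R') (_ : Algebra R R'), Algebra.Etale R R' ∧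
      ∃ (ψ : R' →ₐ[R] AdicCompletion (IsLocalRing.maximalIdeal R) R) (m' : Ideal R'), m'.IsMaximal ∧
        m'.comap (algebraMap R R') = IsLocalRing.maximalIdeal R ∧
        (∀ x : R', ∃ r : R, x - algebraMap R R' r ∈ m') ∧
        (∀ x ∈ m', ψ x ∈ (IsLocalRing.maximalIdeal R).map
          (algebraMap R (AdicCompletion (IsLocalRing.maximalIdeal R) R))) ∧
        ∃ b : Fin n → R', (∀ j, MvPolynomial.aeval b (F j) = 0) ∧
          ∀ i, a i - ψ (b i) ∈ (IsLocalRing.maximalIdeal R ^ N).map
            (algebraMap R (AdicCompletion (IsLocalRing.maximalIdeal R) R)) := by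
  haveI : IsNoetherianRing R := hG.1
  haveI : IsLocalization (⊥ : Submonoid R) R := IsLocalization.self (fun x hx => by
    rw [Submonoid.mem_bot.mp hx]; exact isUnit_one)
  have hfg : (IsLocalRing.maximalIdeal R).FG := IsNoetherian.noetherian _
  obtain ⟨R', iR, iA, hE, ψ, b, hb, hab⟩ := Groth.L14.Popescu.exists_etale_solution (⊥ : Submonoid R)
    (IsLocalRing.maximalIdeal R) (Groth.Agent.S0600.result R hG _) F a ha N
  let θ : R' →ₐ[R] R ⧸ IsLocalRing.maximalIdeal R ^ 1 :=
    (AdicCompletion.evalₐ (IsLocalRing.maximalIdeal R) 1).comp ψ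
  haveI : (IsLocalRing.maximalIdeal R ^ 1).IsMaximal := by rw [pow_one]; infer_instance
  have hθ : Function.Surjective θ := fun z => by
    obtain ⟨r, rfl⟩ := Ideal.Quotient.mk_surjective z
    exact ⟨algebraMap R R' r, θ.commutes r⟩
  letI : Field (R ⧸ IsLocalRing.maximalIdeal R ^ 1) := Ideal.Quotient.field _
  have hker : ∀ x, x ∈ RingHom.ker θ.toRingHom ↔ θ x = 0 := fun x => Iff.rfl
  refine ⟨R', iR, iA, hE, ψ, RingHom.ker θ.toRingHom, RingHom.ker_isMaximal_of_surjective _ hθ, ?_, ?_, ?_,
    b, hb, hab⟩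
  · ext r
    rw [Ideal.mem_comap, hker, θ.commutes, Ideal.Quotient.algebraMap_eq, Ideal.Quotient.eq_zero_iff_mem, pow_one]
  · intro x
    obtain ⟨r, hr⟩ := Ideal.Quotient.mk_surjective (θ x)
    exact ⟨r, by rw [hker, map_sub, θ.commutes, Ideal.Quotient.algebraMap_eq, hr, sub_self]⟩
  · intro x hx
    have h := (Groth.L14.Popescu.evalₐ_eq_zero_iff hfg 1 (ψ x)).mp hx
    rwa [pow_one] at h

end Groth.Agent.S6825
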