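import Groth.Statements.S6828
import Groth.Agent.L14.SyntLift.Retract
import Groth.Agent.L07.SyntBase

set_option autoImplicit false
universe u
open Smoothing

namespace Groth.Agent.S6828

/-- Let R → A be a syntomic ring map. Then there are a smooth R-algebra map A → C with an R-algebra
retraction C → A, where C = R[x₁, …, x_n]/(f₁, …, f_c) is a relative global complete intersection
over R (all nonempty fibres of dimension n − c) and flat over R. -/
theorem result {R A : Type u} [CommRing R] [CommRing A] [Algebra R A]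
    (h : Synt.IsSyntomic R A) :
    ∃ (n c : ℕ) (F : Fin c → MvPolynomial (Fin n) R), Synt.IsRelGCI R n c F ∧
      Module.Flat R (Synt.RelGCIRing R n c F) ∧
      ∃ (_ : Algebra A (Synt.RelGCIRing R n c F)) (_ : IsScalarTower R A (Synt.RelGCIRing R n c F)),
        Algebra.Smooth A (Synt.RelGCIRing R n c F) ∧
        ∃ ρ : Synt.RelGCIRing R n c F →ₐ[R] A, ∀ a : A, ρ (algebraMap A (Synt.RelGCIRing R n c F) a) = a := by
  let e : R ≃+* (R ⧸ (⊥ : Ideal R)) := (RingEquiv.quotientBot R).symm
  letI : Algebra (R ⧸ (⊥ : Ideal R)) A := ((algebraMap R A).comp e.symm.toRingHom).toAlgebra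
  haveI : IsScalarTower R (R ⧸ (⊥ : Ideal R)) A := IsScalarTower.of_algebraMap_eq fun x => by
    show algebraMap R A x = algebraMap R A (e.symm (e x))
    rw [e.symm_apply_apply]
  have h' : Synt.IsSyntomic (R ⧸ (⊥ : Ideal R)) A :=
    Groth.L07.SyntBase.isSyntomic_ringEquiv e (RingEquiv.refl A) (fun r => by
      show algebraMap R A r = algebraMap R A (e.symm (e r))
      rw [e.symm_apply_apply]) h
  obtain ⟨N, c, F, hF, hAlg, hTow, hSm, ρ, hρ⟩ := Groth.L14.SyntLift.exists_relGCI_retract h'
  exact ⟨N, c, F, hF, Groth.L07.SyntRel.flat_of_isRelGCI hF, hAlg, hTow, hSm, ρ, hρ⟩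

end Groth.Agent.S6828
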