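import Groth.Statements.S6830
import Groth.Agent.L14.Smoothing.NeronDesing

set_option autoImplicit false
universe u
open Smoothing

namespace Groth.Agent.S6830

/-- Let R ⊆ Λ be an extension of discrete valuation rings (an injective local homomorphism) of
ramification index 1, i.e. m_R Λ = m_Λ, inducing separable (geometrically reduced) extensions of
residue fields and of fraction fields K ⊆ L. Then Λ is a filtered colimit of smooth R-algebras, in
the factorization form: every R-algebra map A → Λ with A finitely presented over R factors through a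
smooth R-algebra. -/
theorem result {R Λ K L : Type u} [CommRing R] [IsDomain R]
    [IsDiscreteValuationRing R] [CommRing Λ] [IsDomain Λ] [IsDiscreteValuationRing Λ] [Algebra R Λ]
    [NoZeroSMulDivisors R Λ] [IsLocalHom (algebraMap R Λ)]
    (he : (IsLocalRing.maximalIdeal R).map (algebraMap R Λ) = IsLocalRing.maximalIdeal Λ)
    [Algebra.IsGeometricallyReduced (IsLocalRing.ResidueField R) (IsLocalRing.ResidueField Λ)]
    [Field K] [Algebra R K] [IsFractionRing R K] [Field L] [Algebra Λ L] [IsFractionRing Λ L]
    [Algebra K L] [Algebra R L] [IsScalarTower R K L] [IsScalarTower R Λ L]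
    [Algebra.IsGeometricallyReduced K L] :
    Smoothing.IndSmooth R Λ := by
  intro A _ _ hA f
  classical
  obtain ⟨n, q, hq⟩ := Algebra.FiniteType.iff_quotient_mvPolynomial''.mp (inferInstance : Algebra.FiniteType R A)
  obtain ⟨π, hπ⟩ := IsDiscreteValuationRing.exists_irreducible R
  have hmR : IsLocalRing.maximalIdeal R = Ideal.span {π} := hπ.maximalIdeal_eq
  have H : Groth.L14.Smoothing.Neron.SepPoint R (Λ := Λ) π :=
    ⟨hmR, by rw [← he, hmR, Ideal.map_span, Set.image_singleton], inferInstance⟩
  let x : Fin n → Λ := fun i => f (q (MvPolynomial.X i))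
  have hx : f.comp q = MvPolynomial.aeval x := MvPolynomial.algHom_ext fun i => by simp [x]
  obtain ⟨B, iB, iA, hB, g, h, hgh⟩ := Groth.L14.Smoothing.Neron.exists_smooth_range (K := K) (L := L)
    (FaithfulSMul.algebraMap_injective R Λ) π H _ (Fin n) x rfl
  let fA : A →ₐ[R] (MvPolynomial.aeval x : MvPolynomial (Fin n) R →ₐ[R] Λ).range :=
    f.codRestrict _ fun a => by
      obtain ⟨p, rfl⟩ := hq a
      exact ⟨p, (AlgHom.congr_fun hx p).symm⟩
  exact ⟨B, iB, iA, hB, g.comp fA, h, AlgHom.ext fun a => hgh (fA a)⟩

end Groth.Agent.S6830
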