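import Groth.Statements.S6834
import Groth.Agent.L17.FSheaf.LocPres
import Mathlib.CategoryTheory.Sites.Limits
import Mathlib.CategoryTheory.Sites.LocallyBijective

set_option autoImplicit false
set_option linter.style.haveILetI false
set_option backward.isDefEq.respectTransparency false
set_option backward.isDefEq.respectTransparency.types false
universe u
open CategoryTheory CategoryTheory.Limits TopologicalSpace Opposite
open ModSite

noncomputable section

namespace Groth.Agent.S6834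

open Groth.L17.FSheaf

section Gen

theorem exists_fin_gen_aux {Y : TopCat.{u}} {R : Sheaf (Opens.grothendieckTopology Y) RingCat.{u}}
    (M : SheafOfModules.{u} R) {U : Opens Y} (σ : (M.over U).GeneratingSections) [Finite σ.I] :
    ∃ (n : ℕ) (g : Fin n → M.val.obj (op U)), ∀ ⦃W : Opens Y⦄ (hW : W ≤ U), ∀ y ∈ W,
      ∀ z : M.val.obj (op W), ∃ (V : Opens Y) (hV : V ≤ W), y ∈ V ∧ ∃ c : Fin n → R.obj.obj (op V),
        res M hV z = ∑ i, c i • res M (hV.trans hW) (g i) := by
  haveI : Fintype σ.I := Fintype.ofFinite _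
  refine ⟨_, fun i => gsec σ ((Fintype.equivFin σ.I).symm i), fun W hW y hy z => ?_⟩
  obtain ⟨V, hV, hyV, a, ha⟩ := gen_of_presentation (σ := σ) hW y hy z
  exact ⟨V, hV, hyV, fun i => a ((Fintype.equivFin σ.I).symm i),
    ha.trans ((Fintype.equivFin σ.I).symm.sum_comp _).symm⟩

theorem exists_fin_gen {Y : TopCat.{u}} {R : Sheaf (Opens.grothendieckTopology Y) RingCat.{u}}
    (M : SheafOfModules.{u} R) [SheafOfModules.IsFiniteType.{u} M] (x : Y) :
    ∃ U : Opens Y, x ∈ U ∧ ∃ (n : ℕ) (g : Fin n → M.val.obj (op U)), ∀ ⦃W : Opens Y⦄ (hW : W ≤ U), ∀ y ∈ W,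
      ∀ z : M.val.obj (op W), ∃ (V : Opens Y) (hV : V ≤ W), y ∈ V ∧ ∃ c : Fin n → R.obj.obj (op V),
        res M hV z = ∑ i, c i • res M (hV.trans hW) (g i) := by
  obtain ⟨q, hq⟩ := SheafOfModules.IsFiniteType.exists_localGeneratorsData.{u} M
  obtain ⟨i₀, hi₀⟩ := Opens.mem_iSup.1 (show x ∈ ⨆ i, q.X i from
    (show TopologicalSpace.IsOpenCover q.X from (Opens.coversTop_iff _ q.X).1 q.coversTop).symm ▸ Opens.mem_top x)
  exact ⟨q.X i₀, hi₀, @exists_fin_gen_aux _ R M (q.X i₀) (q.generators i₀) (hq.isFiniteType i₀).finite⟩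

end Gen

section Colim

variable {Λ : Type u} [SmallCategory Λ] [IsFiltered Λ] {X : TopCat.{u}}
  {D : Λ ⥤ Sheaf (Opens.grothendieckTopology X) AddCommGrpCat.{u}} {c : Cocone D} (hc : IsColimit c)

include hc in
/-- Locally, sections of a colimit come from a stage, and vanish at a stage if they vanish. -/
theorem locally_rep (U : Opens X) :
    (∀ x : c.pt.obj.obj (op U), ∀ p ∈ U, ∃ (V : Opens X) (hV : V ≤ U), p ∈ V ∧
      ∃ (j : Λ) (y : (D.obj j).obj.obj (op V)), (c.ι.app j).hom.app (op V) y = c.pt.obj.map (homOfLE hV).op x) ∧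
    (∀ (j : Λ) (y : (D.obj j).obj.obj (op U)), (c.ι.app j).hom.app (op U) y = 0 →
      ∀ p ∈ U, ∃ (V : Opens X) (hV : V ≤ U), p ∈ V ∧
        ∃ (k : Λ) (h : j ⟶ k), (D.map h).hom.app (op V) ((D.obj j).obj.map (homOfLE hV).op y) = 0) := by
  let J := Opens.grothendieckTopology X
  let P := colimit.cocone (D ⋙ sheafToPresheaf J AddCommGrpCat.{u})
  have hP : ∀ V : Opens X, IsColimit (((evaluation (Opens X)ᵒᵖ AddCommGrpCat.{u}).obj (op V)).mapCocone P) := fun V =>
    isColimitOfPreserves _ (colimit.isColimit _)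
  let e := hc.coconePointUniqueUpToIso (Sheaf.isColimitSheafifyCocone P (colimit.isColimit _))
  let θ : CategoryTheory.sheafify J P.pt ⟶ c.pt.obj := e.inv.hom
  haveI : IsIso θ := inferInstanceAs (IsIso ((sheafToPresheaf J _).map e.inv))
  let τ : P.pt ⟶ c.pt.obj := toSheafify J P.pt ≫ θ
  have hτ : ∀ j, P.ι.app j ≫ τ = (c.ι.app j).hom := fun j => by
    rw [← hc.comp_coconePointUniqueUpToIso_inv (Sheaf.isColimitSheafifyCocone P (colimit.isColimit _)) j]
    exact (Category.assoc _ _ _).symm.trans (congrArg (· ≫ θ) (Sheaf.sheafifyCocone_ι_app_val P j).symm)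
  haveI : Presheaf.IsLocallyInjective J θ := Presheaf.isLocallyInjective_of_injective J θ fun V =>
    (AddCommGrpCat.mono_iff_injective (θ.app V)).1 inferInstance
  haveI : Presheaf.IsLocallySurjective J θ := Presheaf.isLocallySurjective_of_surjective J θ fun V =>
    (AddCommGrpCat.epi_iff_surjective (θ.app V)).1 inferInstance
  haveI : Presheaf.IsLocallyInjective J τ := Presheaf.isLocallyInjective_comp J _ _
  haveI : Presheaf.IsLocallySurjective J τ := Presheaf.isLocallySurjective_comp J _ _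
  have hτ' : ∀ (j : Λ) (V : Opens X) (y : (D.obj j).obj.obj (op V)),
      τ.app (op V) ((P.ι.app j).app (op V) y) = (c.ι.app j).hom.app (op V) y := fun j V y =>
    congr($(hτ j).app (op V) y)
  constructor
  · intro x p hp
    obtain ⟨V, g, ⟨z, hz⟩, hpV⟩ := Presheaf.imageSieve_mem J τ x p hp
    obtain ⟨j, y, hy⟩ := Concrete.isColimit_exists_rep _ (hP V) z
    exact ⟨V, leOfHom g, hpV, j, y, (hτ' j V y).symm.trans ((congrArg (τ.app (op V)) hy).trans hz)⟩
  · intro j y hy p hp
    obtain ⟨V, g, hg, hpV⟩ := Presheaf.equalizerSieve_mem J τ ((P.ι.app j).app (op U) y) 0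
      ((hτ' j U y).trans (hy.trans (map_zero (τ.app (op U)).hom).symm)) p hp
    have h0 : (P.ι.app j).app (op V) ((D.obj j).obj.map g.op y) =
        (P.ι.app j).app (op V) (0 : (D.obj j).obj.obj (op V)) :=
      (NatTrans.naturality_apply (P.ι.app j) g.op y).trans
        (hg.trans ((map_zero (P.pt.map g.op).hom).trans (map_zero ((P.ι.app j).app (op V)).hom).symm))
    obtain ⟨k, f, f', hk⟩ := (Concrete.isColimit_rep_eq_iff_exists _ (hP V) _ _).1 h0
    exact ⟨V, leOfHom g, hpV, k, f, hk.trans (map_zero ((D.map f').hom.app (op V)).hom)⟩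

end Colim

section Mod

variable {X : TopCat.{u}} {R : Sheaf (Opens.grothendieckTopology X) RingCat.{u}}
  {I : Type u} [Preorder I] [Nonempty I] [IsDirected I (· ≤ ·)] (D : I ⥤ SheafOfModules.{u} R)
  {c : Cocone D} (hc : IsColimit c)

theorem res_app {M N : SheafOfModules.{u} R} (f : M ⟶ N) {U V : Opens X} (h : V ≤ U) (y : M.val.obj (op U)) :
    (f.val.app (op V)).hom (res M h y) = res N h ((f.val.app (op U)).hom y) :=
  PresheafOfModules.naturality_apply f.val (homOfLE h).op y

omit [Nonempty I] [IsDirected I (· ≤ ·)] in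
theorem ι_res (k : I) {U V : Opens X} (h : V ≤ U) (y : (D.obj k).val.obj (op U)) :
    ((c.ι.app k).val.app (op V)).hom (res (D.obj k) h y) = res c.pt h (((c.ι.app k).val.app (op U)).hom y) :=
  res_app _ h y

include hc in
theorem exists_rep_loc [CompactSpace X] [SheafOfModules.IsFiniteType.{u} c.pt] :
    ∃ k : I, ∀ (W : Opens X) (z : c.pt.val.obj (op W)), ∀ y ∈ W, ∃ (V : Opens X) (hV : V ≤ W), y ∈ V ∧
      ∃ a : (D.obj k).val.obj (op V), ((c.ι.app k).val.app (op V)).hom a = res c.pt hV z := by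
  classical
  haveI := Groth.L15.KFlatSite.preservesColimits_toSheaf R
  have hc' := isColimitOfPreserves (SheafOfModules.toSheaf.{u} R) hc
  have key : ∀ x : X, ∃ (V : Opens X), x ∈ V ∧ ∃ (k : I) (n : ℕ) (a : Fin n → (D.obj k).val.obj (op V)),
      ∀ ⦃W : Opens X⦄ (hW : W ≤ V), ∀ y ∈ W, ∀ z : c.pt.val.obj (op W), ∃ (T : Opens X) (hT : T ≤ W), y ∈ T ∧
        ∃ r : Fin n → R.obj.obj (op T), res c.pt hT z =
          ∑ i, r i • res c.pt (hT.trans hW) (((c.ι.app k).val.app (op V)).hom (a i)) := by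
    intro x
    obtain ⟨U, hxU, n, g, hg⟩ := exists_fin_gen c.pt x
    choose V hV hxV j y hy using fun i => (locally_rep hc' U).1 (g i) x hxU
    obtain ⟨k, hk⟩ := Finite.exists_le j
    let T : Opens X := U ⊓ Finset.univ.inf V
    have hT : ∀ i, T ≤ V i := fun i => inf_le_right.trans (Finset.inf_le (Finset.mem_univ i))
    refine ⟨T, ⟨hxU, Finset.inf_induction (p := fun O : Opens X => x ∈ O) (Set.mem_univ x)
      (fun _ h₁ _ h₂ => ⟨h₁, h₂⟩) fun i _ => hxV i⟩, k, n,
      fun i => res (D.obj k) (hT i) (((D.map (homOfLE (hk i))).val.app (op (V i))).hom (y i)), ?_⟩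
    intro W hW z' hz' z
    obtain ⟨S, hS, hzS, r, hr⟩ := hg (hW.trans inf_le_left) z' hz' z
    refine ⟨S, hS, hzS, r, hr.trans (Finset.sum_congr rfl fun i _ => congrArg (r i • ·) ?_)⟩
    have h1 : ((c.ι.app k).val.app (op (V i))).hom (((D.map (homOfLE (hk i))).val.app (op (V i))).hom (y i)) =
        res c.pt (hV i) (g i) :=
      Eq.trans (congr((($(c.w (homOfLE (hk i)))).val.app (op (V i))).hom (y i))) (hy i)
    have h2 := (ι_res D k (hT i) _).trans ((congrArg (res c.pt (hT i)) h1).trans (res_res c.pt _ _ _))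
    exact ((congrArg (res c.pt (hS.trans hW)) h2).trans (res_res c.pt _ _ _)).symm
  choose V hxV k n a ha using key
  obtain ⟨t, ht⟩ := isCompact_univ.elim_finite_subcover (fun x => (V x : Set X)) (fun x => (V x).2)
    fun x _ => Set.mem_iUnion.2 ⟨x, hxV x⟩
  obtain ⟨K, hK⟩ := Finset.exists_le (t.image k)
  refine ⟨K, fun W z y hy => ?_⟩
  obtain ⟨x, hxt, hyx⟩ := Set.mem_iUnion₂.1 (ht (Set.mem_univ y))
  obtain ⟨T, hT, hyT, r, hr⟩ := ha x (inf_le_right : W ⊓ V x ≤ V x) y ⟨hy, hyx⟩ (res c.pt inf_le_left z)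
  have hkK := hK _ (Finset.mem_image_of_mem k hxt)
  refine ⟨T, hT.trans inf_le_left, hyT,
    ∑ i, r i • res (D.obj K) (hT.trans inf_le_right) (((D.map (homOfLE hkK)).val.app (op (V x))).hom (a x i)), ?_⟩
  rw [res_res] at hr
  rw [hr, map_sum]
  refine Finset.sum_congr rfl fun i _ => ?_
  rw [map_smul, ι_res]
  exact congrArg (fun w => r i • res c.pt (hT.trans inf_le_right) w)
    (congr((($(c.w (homOfLE hkK))).val.app (op (V x))).hom (a x i)))

include hc in
theorem mono_ι (hmono : ∀ (i j : I) (f : i ⟶ j), Mono (D.map f)) (k : I) : Mono (c.ι.app k) := by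
  haveI := Groth.L15.KFlatSite.preservesColimits_toSheaf R
  have hc' := isColimitOfPreserves (SheafOfModules.toSheaf.{u} R) hc
  have inj : ∀ U : (Opens X)ᵒᵖ, Function.Injective ((c.ι.app k).val.app U).hom := fun U => by
    refine (injective_iff_map_eq_zero _).2 fun y hy => ?_
    obtain ⟨U⟩ := U
    refine eq_of_locally (D.obj k) y 0 fun p hp => ?_
    obtain ⟨V, hV, hpV, j, f, hj⟩ := (locally_rep hc' U).2 k y hy p hp
    haveI := hmono k j f
    haveI : Mono ((SheafOfModules.forget R ⋙ PresheafOfModules.evaluation _ (op V)).map (D.map f)) := inferInstance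
    refine ⟨V, hV, hpV, (ModuleCat.mono_iff_injective ((D.map f).val.app (op V))).1 this ?_⟩
    rw [res_zero, map_zero]
    exact hj
  refine (SheafOfModules.toSheaf.{u} R).mono_of_mono_map ?_
  refine (sheafToPresheaf _ _).mono_of_mono_map ?_
  haveI : ∀ U, Mono (((sheafToPresheaf _ _).map ((SheafOfModules.toSheaf.{u} R).map (c.ι.app k))).app U) := fun U =>
    (AddCommGrpCat.mono_iff_injective _).2 (inj U)
  exact NatTrans.mono_of_mono_app _

end Mod

/-- Let (X, O) be a ringed space with X quasi-compact, I a directed preordered set (nonempty, with upper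
bounds for pairs), (F_i) a system of O-modules over I and F = colim F_i. If F is of finite type then
F_i → F is surjective for some i; if moreover all transition maps are injective then F_i → F is an
isomorphism for some i. -/
theorem result {X : TopCat.{u}} (O : TopCat.Sheaf CommRingCat.{u} X)
    [CompactSpace X] {I : Type u} [Preorder I] [Nonempty I] [IsDirected I (· ≤ ·)] (D : I ⥤ ModSite.Mod O)
    (c : Cocone D) (hc : IsColimit c) [SheafOfModules.IsFiniteType (R := ModSite.ringSh O) c.pt] :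
    (∃ i : I, Epi (c.ι.app i)) ∧
      ((∀ (i j : I) (f : i ⟶ j), Mono (D.map f)) → ∃ i : I, IsIso (c.ι.app i)) := by
  obtain ⟨k, hk⟩ := exists_rep_loc (R := ModSite.ringSh O) D hc
  have hepi : Epi (c.ι.app k) := by
    refine (SheafOfModules.toSheaf.{u} (ModSite.ringSh O)).epi_of_epi_map ?_
    haveI : Sheaf.IsLocallySurjective ((SheafOfModules.toSheaf.{u} (ModSite.ringSh O)).map (c.ι.app k)) :=
      ⟨fun {U} z y hy => by
        obtain ⟨V, hV, hyV, a, ha⟩ := hk U z y hy
        exact ⟨V, homOfLE hV, ⟨a, ha⟩, hyV⟩⟩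
    exact (Sheaf.isLocallySurjective_iff_epi' _ _).1 inferInstance
  refine ⟨⟨k, hepi⟩, fun hmono => ⟨k, ?_⟩⟩
  haveI := mono_ι (R := ModSite.ringSh O) D hc hmono k
  haveI := hepi
  exact isIso_of_mono_of_epi _

end Groth.Agent.S6834
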