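import Groth.Statements.S6835
import Groth.Agent.L15.FlatCrit.Stalks
import Mathlib.Topology.Sheaves.Points
import Mathlib.Tactic.Ring
import Mathlib.Tactic.LinearCombination
import Mathlib.Tactic.FieldSimp
import Mathlib.Algebra.BigOperators.Ring.Finset

set_option autoImplicit false
universe u
open CategoryTheory CategoryTheory.Limits TopologicalSpace
open ModSite

namespace Groth.Agent.S6835

/-- On a ringed space (X, O), an O-module F is flat (the functor − ⊗_O F is exact) if and only if for
every point x the stalk F_x is a flat O_{X,x}-module (stalks are taken at the point of the site of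
opens of X given by x). -/
theorem result {X : TopCat.{u}} (O : TopCat.Sheaf CommRingCat.{u} X) (F : ModSite.Mod O) :
    ModSite.IsFlat F ↔ ∀ x : X, Module.Flat (ModSite.stalkRing (Opens.pointGrothendieckTopology x) O)
      (ModSite.stalkMod (Opens.pointGrothendieckTopology x) F) := by
  refine ⟨fun hF x => Groth.L15.FlatCrit.flat_stalk_of_hasTrivialRelations _ F
      (Groth.L15.FlatCrit.hasTrivialRelations_of_flat F hF), fun h => ?_⟩
  refine Groth.L15.FlatCrit.flat_of_hasTrivialRelations F
    (Groth.L15.FlatCrit.hasTrivialRelations_of_flat_stalks F (Opens.pointsGrothendieckTopology X)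
      (Opens.isConservativeFamilyOfPoints_pointsGrothendieckTopology X) fun q hq => ?_)
  obtain ⟨x⟩ := hq
  exact h x

end Groth.Agent.S6835
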