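import Groth.Statements.S6836
import Groth.Agent.L10.SecPres.AtPointSpace

set_option autoImplicit false
set_option backward.defeqAttrib.useBackward true
set_option backward.isDefEq.respectTransparency false
universe u
open CategoryTheory CategoryTheory.Limits TopologicalSpace
open ModSite

namespace Groth.Agent.S6836

/-- On a ringed space (X, O), let r ≥ 0 and let φ : F → G be a map of O-modules which are both finite
locally free of rank r (every point has an open neighbourhood U with F|_U ≅ O_U^r, the free
O_U-module on r generators, and likewise for G). Then φ is an isomorphism if and only if it is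
surjective. -/
theorem result {X : TopCat.{u}} (O : TopCat.Sheaf CommRingCat.{u} X) (r : ℕ)
    {F G : ModSite.Mod O}
    (hF : ∀ x : X, ∃ U : Opens X, x ∈ U ∧
      Nonempty ((ModSite.restr O U).obj F ≅ SheafOfModules.free (ULift.{u} (Fin r))))
    (hG : ∀ x : X, ∃ U : Opens X, x ∈ U ∧
      Nonempty ((ModSite.restr O U).obj G ≅ SheafOfModules.free (ULift.{u} (Fin r))))
    (φ : F ⟶ G) : IsIso φ ↔ Epi φ := by
  constructor
  · intro h
    infer_instance
  intro h
  haveI : Mono φ := Groth.L10.SecPres.AtPoint.mono_of_stalkMap_injective φ fun x => by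
    obtain ⟨U, hxU, ⟨eF⟩⟩ := hF x
    obtain ⟨V, hxV, ⟨eG⟩⟩ := hG x
    let PF := Groth.L10.SecPres.AtPoint.spresOfIso (F := F) eF
    let PG := Groth.L10.SecPres.AtPoint.spresOfIso (F := G) eG
    haveI : IsEmpty PF.R := inferInstanceAs (IsEmpty PEmpty)
    haveI : IsEmpty PG.R := inferInstanceAs (IsEmpty PEmpty)
    haveI : Finite PF.I := inferInstanceAs (Finite (ULift (Fin r)))
    exact Groth.L10.SecPres.AtPoint.stalkMap_injective_of_bases _ φ
      (Groth.L10.SecPres.AtPoint.basisAt (Groth.L10.SecPres.AtPoint.pt x) PF ⟨⟨hxU⟩⟩)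
      (Groth.L10.SecPres.AtPoint.basisAt (Groth.L10.SecPres.AtPoint.pt x) PG ⟨⟨hxV⟩⟩)
      (Groth.L10.SecPres.AtPoint.stalkMap_surjective_of_epi _ φ)
  exact isIso_of_mono_of_epi φ

end Groth.Agent.S6836
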