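import Groth.Statements.S6841
import Groth.Agent.L14.Smoothing.NeronSmooth

set_option autoImplicit false
universe u
open Smoothing

namespace Groth.Agent.S6841

open TensorProduct in
/-- Let R ⊆ Λ be an extension of discrete valuation rings of ramification index 1 (m_R Λ = m_Λ), A a
flat R-algebra of finite type with an R-algebra map A → Λ, 𝔮 its kernel and 𝔭 the inverse image of
the maximal ideal of Λ. Assume R → A is smooth at 𝔮. Provided the Λ-module Ω_{A/R} ⊗_A Λ is free,
the map R → A is also smooth at the prime 𝔭. (The published statement phrases the freeness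
hypothesis through a surjection B → A from an R-algebra smooth at the point, with kernel I, as
freeness of the cokernel of I/I² ⊗_A Λ → Ω_{B/R} ⊗_B Λ; that cokernel is Ω_{A/R} ⊗_A Λ, which is how
its proof begins, so the two forms are equivalent.) -/
theorem result {R Λ A : Type u} [CommRing R] [IsDomain R]
    [IsDiscreteValuationRing R] [CommRing Λ] [IsDomain Λ] [IsDiscreteValuationRing Λ] [Algebra R Λ]
    [NoZeroSMulDivisors R Λ] (he : (IsLocalRing.maximalIdeal R).map (algebraMap R Λ) = IsLocalRing.maximalIdeal Λ)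
    [CommRing A] [Algebra R A] [Module.Flat R A] [Algebra.FiniteType R A] [Algebra A Λ] [IsScalarTower R A Λ]
    [(RingHom.ker (algebraMap A Λ)).IsPrime]
    (hq : Algebra.IsSmoothAt R (RingHom.ker (algebraMap A Λ)))
    (hfree : Module.Free Λ (Λ ⊗[A] Ω[A⁄R])) :
    Algebra.IsSmoothAt R ((IsLocalRing.maximalIdeal Λ).comap (algebraMap A Λ)) := by
  classical
  obtain ⟨n, g, hg⟩ := Algebra.FiniteType.iff_quotient_mvPolynomial''.mp (inferInstance : Algebra.FiniteType R A)
  haveI : (RingHom.ker (algebraMap A Λ)).IsPrime := RingHom.ker_isPrime _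
  obtain ⟨ϖ, hϖ⟩ := IsDiscreteValuationRing.exists_irreducible Λ
  refine Groth.L14.Smoothing.Neron.isSmoothAt_of_saturated g hg (algebraMap A Λ) hq ϖ hϖ fun w hw => ?_
  set ψ := (algebraMap A Λ).comp g.toRingHom with hψ
  set M := Submodule.span Λ (Groth.L14.Smoothing.Neron.dAt ψ '' {a | g a = 0}) with hM
  have hwd : ∀ a b, g a = g b → Submodule.Quotient.mk (p := M) (Groth.L14.Smoothing.Neron.dAt ψ a) =
      Submodule.Quotient.mk (Groth.L14.Smoothing.Neron.dAt ψ b) := fun a b hab => by
    rw [Submodule.Quotient.eq]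
    have hd : Groth.L14.Smoothing.Neron.dAt ψ a - Groth.L14.Smoothing.Neron.dAt ψ b =
        Groth.L14.Smoothing.Neron.dAt ψ (a - b) := by
      funext i; simp [Groth.L14.Smoothing.Neron.dAt]
    rw [hd]
    exact Submodule.subset_span ⟨_, show g (a - b) = 0 by rw [map_sub, hab, sub_self], rfl⟩
  let σ := Function.surjInv hg
  have hσ : ∀ a, g (σ a) = a := Function.surjInv_eq hg
  let d : A → (Fin n → Λ) ⧸ M := fun a => Submodule.Quotient.mk (Groth.L14.Smoothing.Neron.dAt ψ (σ a))
  have hd : ∀ P, d (g P) = Submodule.Quotient.mk (Groth.L14.Smoothing.Neron.dAt ψ P) :=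
    fun P => hwd _ _ (hσ _)
  let L : A →ₗ[R] (Fin n → Λ) ⧸ M :=
    { toFun := d
      map_add' := fun a b => by
        obtain ⟨a, rfl⟩ := hg a
        obtain ⟨b, rfl⟩ := hg b
        rw [← map_add, hd, hd, hd, Groth.L14.Smoothing.Neron.dAt_add, Submodule.Quotient.mk_add]
      map_smul' := fun r a => by
        obtain ⟨a, rfl⟩ := hg a
        rw [← map_smul, hd, hd, RingHom.id_apply, ← Submodule.Quotient.mk_smul]
        congr 1
        funext i
        simp [Groth.L14.Smoothing.Neron.dAt, ψ, Algebra.smul_def,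
          ← IsScalarTower.algebraMap_apply] }
  let D : Derivation R A ((Fin n → Λ) ⧸ M) := Derivation.mk' L (fun a b => by
    obtain ⟨a, rfl⟩ := hg a
    obtain ⟨b, rfl⟩ := hg b
    show d (g a * g b) = g a • d (g b) + g b • d (g a)
    rw [← map_mul, hd, hd, hd, Groth.L14.Smoothing.Neron.dAt_mul, Submodule.Quotient.mk_add,
      ← algebraMap_smul Λ (g a), ← algebraMap_smul Λ (g b), ← Submodule.Quotient.mk_smul, ← Submodule.Quotient.mk_smul]
    rfl)
  let T : Λ ⊗[A] Ω[A⁄R] →ₗ[Λ] (Fin n → Λ) ⧸ M := D.liftKaehlerDifferential.liftBaseChange Λ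
  let e : Fin n → Λ ⊗[A] Ω[A⁄R] := fun i => 1 ⊗ₜ KaehlerDifferential.D R A (g (MvPolynomial.X i))
  let S : (Fin n → Λ) →ₗ[Λ] Λ ⊗[A] Ω[A⁄R] := Fintype.linearCombination Λ e
  have hTS : T.comp S = M.mkQ := by
    refine (Pi.basisFun Λ (Fin n)).ext fun i => ?_
    simp only [LinearMap.comp_apply, Pi.basisFun_apply, S, Fintype.linearCombination_apply_single, one_smul,
      e, T, LinearMap.liftBaseChange_tmul, Derivation.liftKaehlerDifferential_comp_D]
    show d (g (MvPolynomial.X i)) = Submodule.Quotient.mk _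
    rw [hd]
    congr 1
    funext j
    simp [Groth.L14.Smoothing.Neron.dAt, MvPolynomial.pderiv_X, Pi.single_apply, eq_comm, apply_ite]
  have hSM : ∀ v ∈ M, S v = 0 := by
    intro v hv
    induction hv using Submodule.span_induction with
    | mem x hx =>
      obtain ⟨a, ha, rfl⟩ := hx
      have hexp := Groth.L14.Smoothing.Neron.derivation_comp_algHom (KaehlerDifferential.D R A) g a
      rw [show g a = 0 from ha, map_zero] at hexp
      have h1 := congrArg (fun x => (1 : Λ) ⊗ₜ[A] x) hexp
      simp only [TensorProduct.tmul_zero, TensorProduct.tmul_sum] at h1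
      rw [show S (Groth.L14.Smoothing.Neron.dAt ψ a) = ∑ i, Groth.L14.Smoothing.Neron.dAt ψ a i • e i from
        Fintype.linearCombination_apply Λ e _]
      refine Eq.trans (Finset.sum_congr rfl fun i _ => ?_) h1.symm
      show algebraMap A Λ (g (MvPolynomial.pderiv i a)) • ((1 : Λ) ⊗ₜ[A] KaehlerDifferential.D R A (g (MvPolynomial.X i))) = _
      rw [algebraMap_smul, ← TensorProduct.tmul_smul]
    | zero => exact map_zero S
    | add x y _ _ hx hy => rw [map_add, hx, hy, add_zero]
    | smul r x _ hx => rw [map_smul, hx, smul_zero]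
  have h0 : S w = 0 := by
    have := hSM _ hw
    rw [map_smul] at this
    exact (smul_eq_zero.mp this).resolve_left hϖ.ne_zero
  have := LinearMap.congr_fun hTS w
  rw [LinearMap.comp_apply, h0, map_zero, Submodule.mkQ_apply] at this
  exact (Submodule.Quotient.mk_eq_zero M).mp this.symm

end Groth.Agent.S6841
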