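import Groth.Statements.S6842
import Groth.Agent.L10.ModCompact.Opens

set_option autoImplicit false
set_option backward.defeqAttrib.useBackward true
set_option backward.isDefEq.respectTransparency false
set_option backward.defeqAttrib.useBackward true
set_option backward.isDefEq.respectTransparency false
universe u
open CategoryTheory CategoryTheory.Limits TopologicalSpace
open ModSite

namespace Groth.Agent.S6842

/-- Let (X, O) be a ringed space, (F_i)_{i ∈ I} a family of O-modules and U ⊆ X a quasi-compact open.
Then the canonical map ⊕_i F_i(U) → (⊕_i F_i)(U) is bijective: every section of the direct sum over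
U is a finite sum of images of sections of the F_i over U (surjectivity), and such a finite sum
vanishes only if each term's section is zero (injectivity). -/
theorem result {X : TopCat.{u}} (O : TopCat.Sheaf CommRingCat.{u} X)
    {I : Type u} (F : I → ModSite.Mod O) [HasCoproduct F] (U : Opens X) (hU : IsCompact (U : Set X)) :
    (∀ s : ModSite.sect (∐ F) U, ∃ (S : Finset I) (t : ∀ i, ModSite.sect (F i) U),
        s = ∑ i ∈ S, ((Sigma.ι F i).val.app (Opposite.op U)).hom (t i)) ∧
      ∀ (S : Finset I) (t : ∀ i, ModSite.sect (F i) U),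
        ∑ i ∈ S, ((Sigma.ι F i).val.app (Opposite.op U)).hom (t i) = 0 → ∀ i ∈ S, t i = 0 := by
  classical
  refine ⟨fun s => ?_, fun S t h j hj => ?_⟩
  · obtain ⟨S, hS⟩ := Groth.L10.ModCompact.exists_support (Groth.L10.ModCompact.qcObj_of_isCompact U hU) F s
    refine ⟨S, fun i => Groth.L15.LocPres.ap (Groth.L10.ModCompact.proj F i) s, hS.trans (Finset.sum_congr rfl fun i _ => ?_)⟩
    exact Groth.L15.LocPres.ap_comp _ _ s
  · have h' : (∑ i ∈ S, Groth.L15.LocPres.ap (Sigma.ι F i) (t i)) = 0 := h
    have h2 := congrArg (Groth.L15.LocPres.ap (Groth.L10.ModCompact.proj F j)) h'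
    rw [map_sum, map_zero] at h2
    rw [Finset.sum_eq_single_of_mem j hj (fun i _ hij => by
      rw [← Groth.L15.LocPres.ap_comp, Groth.L10.ModCompact.ι_proj_ne F hij]; rfl),
      ← Groth.L15.LocPres.ap_comp, Groth.L10.ModCompact.ι_proj_self] at h2
    exact h2

end Groth.Agent.S6842
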