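import Groth.Statements.S6846
import Groth.Agent.L10.SecPres.Cover

set_option autoImplicit false
set_option backward.isDefEq.respectTransparency false
set_option backward.isDefEq.respectTransparency.types false
universe u
open CategoryTheory CategoryTheory.Limits TopologicalSpace
open ModSite

namespace Groth.Agent.S6846

section

open Opposite Groth.L10.SecPres Groth.L15.FlatCrit Groth.L15.LocPres Groth.L15.PullFlat

theorem locally_of_nhds {X : TopCat.{u}} {O : TopCat.Sheaf CommRingCat.{u} X} {F : ModSite.Mod O}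
    (h : ∀ x : X, ∃ W : Opens X, x ∈ W ∧ ∃ P : SGen F W, Finite P.I) :
    SheafOfModules.IsFiniteType (R := ModSite.ringSh O) F := by
  choose W hW P hP using h
  refine isFiniteType_iff.2 (locally_of_coversTop (X := W) ?_ fun x V v => ⟨(P x).res v, hP x⟩)
  rw [Opens.coversTop_iff]
  exact top_le_iff.1 fun x _ => Opens.mem_iSup.2 ⟨x, hW x⟩

theorem exists_nhd_of_isFiniteType {X : TopCat.{u}} {O : TopCat.Sheaf CommRingCat.{u} X}
    {F : ModSite.Mod O} (h : SheafOfModules.IsFiniteType (R := ModSite.ringSh O) F) (x : X) :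
    ∃ W : Opens X, x ∈ W ∧ ∃ P : SGen F W, Finite P.I := by
  obtain ⟨S, hS, hd⟩ := isFiniteType_iff.1 h ⊤
  obtain ⟨V, f, hf, hxV⟩ := hS x (Opens.mem_top x)
  exact ⟨V, hxV, hd f hf⟩

theorem isGen_of_nhds {X : TopCat.{u}} {O : TopCat.Sheaf CommRingCat.{u} X} {F : ModSite.Mod O}
    {W : Opens X} {I : Type u} {s : I → ModSite.sect F W}
    (h : ∀ ⦃U : Opens X⦄ (g : U ⟶ W) (e : ModSite.sect F U), ∀ x ∈ U, ∃ (V : Opens X) (k : V ⟶ U),
      x ∈ V ∧ rs F k e ∈ Submodule.span (O.obj.obj (op V)) (Set.range fun i => rs F (k ≫ g) (s i))) :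
    IsGen F W s := by
  intro U g e
  refine ⟨{ arrows := fun V k => rs F k e ∈ Submodule.span (O.obj.obj (op V))
              (Set.range fun i => rs F (k ≫ g) (s i))
            downward_closed := fun {V V' k} hk l => ?_ }, fun x hx => ?_, fun V k hk => hk⟩
  · show rs F (l ≫ k) e ∈ _
    rw [← rs_rs]
    refine mem_span_map (rsₗ F l) (fun y hy => ?_) hk
    obtain ⟨i, rfl⟩ := hy
    exact Submodule.subset_span ⟨i, (by rw [Category.assoc]; exact (rs_rs F _ l (s i)).symm)⟩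
  · obtain ⟨V, k, hxV, hk⟩ := h g e x hx
    exact ⟨V, k, hk, hxV⟩

theorem sect_empty {X : TopCat.{u}} {O : TopCat.Sheaf CommRingCat.{u} X} (F : ModSite.Mod O)
    {U : Opens X} (hU : ∀ x, x ∉ U) (e : ModSite.sect F U) : e = 0 :=
  Groth.L15.ExtSupp.sect_ext F (⊥ : Sieve U) (fun x hx => absurd hx (hU x)) _ _ (fun _ _ h => h.elim)

end

/-- Let i : (Z, O_Z) → (X, O_X) be a morphism of ringed spaces. Suppose the underlying continuous map
embeds Z homeomorphically as a closed subset of X, and that the comorphism i♯ : O_X → i_*O_Z is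
surjective as a map of sheaves (locally surjective). Then, given any O_Z-module F, finite type of F
is equivalent to finite type of the pushforward O_X-module i_*F. -/
theorem result {Z X : TopCat.{u}} (i : Z ⟶ X)
    (O_Z : TopCat.Sheaf CommRingCat.{u} Z) (O_X : TopCat.Sheaf CommRingCat.{u} X)
    (c : O_X ⟶ ((TopologicalSpace.Opens.map i).sheafPushforwardContinuous CommRingCat.{u}
      (Opens.grothendieckTopology X) (Opens.grothendieckTopology Z)).obj O_Z)
    (hi : Topology.IsClosedEmbedding i) (hc : Sheaf.IsLocallySurjective c) (F : ModSite.Mod O_Z) :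
    SheafOfModules.IsFiniteType (R := ModSite.ringSh O_X)
        ((ModSite.RMor.ofFlat (TopologicalSpace.Opens.map i) c).push.obj F) ↔
      SheafOfModules.IsFiniteType (R := ModSite.ringSh O_Z) F := by
  let iF := (ModSite.RMor.ofFlat (TopologicalSpace.Opens.map i) c).push.obj F
  constructor
  · intro h
    refine locally_of_nhds fun z => ?_
    obtain ⟨W, hzW, P, hP⟩ := exists_nhd_of_isFiniteType h (i z)
    refine ⟨(Opens.map i).obj W, hzW,
      { I := P.I, s := P.s, gen := isGen_of_nhds fun U g e z' hz' => ?_ }, hP⟩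
    obtain ⟨U₀, hU₀, hU⟩ := hi.isInducing.isOpen_iff.1 U.2
    let U₁ : Opens X := ⟨U₀, hU₀⟩ ⊓ W
    have hle : (Opens.map i).obj U₁ ≤ U := fun w hw => by
      have : w ∈ i ⁻¹' U₀ := hw.1
      rwa [hU] at this
    have hz₁ : i z' ∈ U₁ := ⟨by show z' ∈ i ⁻¹' U₀; rw [hU]; exact hz', leOfHom g hz'⟩
    obtain ⟨S, hS, hd⟩ := P.gen (homOfLE (inf_le_right : U₁ ≤ W))
      (Groth.L15.FlatCrit.rs F (homOfLE hle) e)
    obtain ⟨V₀, k, hk, hzV⟩ := hS (i z') hz₁
    refine ⟨(Opens.map i).obj V₀, homOfLE (le_trans (leOfHom ((Opens.map i).map k)) hle), hzV, ?_⟩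
    have := hd k hk
    let σ : O_X.obj.obj (Opposite.op V₀) →+* O_Z.obj.obj (Opposite.op ((Opens.map i).obj V₀)) :=
      (c.hom.app (Opposite.op V₀)).hom
    let φ : ModSite.sect iF V₀ →ₛₗ[σ] ModSite.sect F ((Opens.map i).obj V₀) :=
      { toFun := fun y => y, map_add' := fun _ _ => rfl, map_smul' := fun _ _ => rfl }
    refine (Groth.L15.FlatCrit.rs_rs F _ _ e) ▸ Groth.L10.SecPres.mem_span_map φ ?_ this
    rintro _ ⟨j, rfl⟩
    exact Submodule.subset_span ⟨j, rfl⟩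
  · intro h
    refine locally_of_nhds fun x => ?_
    have hout : ∀ {U : Opens X} (e : ModSite.sect iF U), (∀ w, i w ∉ U) → e = 0 :=
      fun {U} e hU => sect_empty F (U := (Opens.map i).obj U) (fun w hw => hU w hw) e
    by_cases hx : x ∈ Set.range i
    swap
    · refine ⟨⟨(Set.range i)ᶜ, hi.isClosed_range.isOpen_compl⟩, hx,
        { I := PEmpty.{u+1}, s := PEmpty.elim, gen := isGen_of_nhds fun U g e w hw =>
          ⟨U, 𝟙 U, hw, ?_⟩ }, (inferInstance : Finite PEmpty.{u+1})⟩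
      rw [show Groth.L15.FlatCrit.rs iF (𝟙 U) e = 0 from
        hout _ fun v hv => leOfHom g hv ⟨v, rfl⟩]
      exact zero_mem _
    obtain ⟨z, rfl⟩ := hx
    obtain ⟨V, hzV, P₀, hP₀⟩ := exists_nhd_of_isFiniteType h z
    obtain ⟨W₀, hW₀, hW⟩ := hi.isInducing.isOpen_iff.1 V.2
    let W : Opens X := ⟨W₀, hW₀⟩
    have hWV : (Opens.map i).obj W ≤ V := fun w hw => by
      have : w ∈ i ⁻¹' W₀ := hw
      rwa [hW] at this
    let P := P₀.res (homOfLE hWV)
    have hPfin : Finite P.I := hP₀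
    refine ⟨W, by show z ∈ i ⁻¹' W₀; rw [hW]; exact hzV,
      { I := P.I, s := P.s, gen := isGen_of_nhds fun U g e x' hx' => ?_ }, hPfin⟩
    by_cases hr : x' ∈ Set.range i
    swap
    · refine ⟨U ⊓ ⟨(Set.range i)ᶜ, hi.isClosed_range.isOpen_compl⟩, homOfLE inf_le_left, ⟨hx', hr⟩, ?_⟩
      rw [show Groth.L15.FlatCrit.rs iF (homOfLE inf_le_left : U ⊓ ⟨(Set.range i)ᶜ, hi.isClosed_range.isOpen_compl⟩ ⟶ U) e = 0 from
        hout _ fun v hv => hv.2 ⟨v, rfl⟩]
      exact zero_mem _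
    obtain ⟨z', rfl⟩ := hr
    obtain ⟨S, hS, hd⟩ := P.gen ((Opens.map i).map g) e
    obtain ⟨V', k, hk, hzV'⟩ := hS z' hx'
    obtain ⟨a, ha⟩ := (Groth.L10.SecPres.mem_span_iff_lcs _ _ _).1 (hd k hk)
    obtain ⟨U₀, hU₀, hU'⟩ := hi.isInducing.isOpen_iff.1 V'.2
    let U₁ : Opens X := ⟨U₀, hU₀⟩ ⊓ U
    have hle : (Opens.map i).obj U₁ ≤ V' := fun w hw => by
      have : w ∈ i ⁻¹' U₀ := hw.1
      rwa [hU'] at this
    have hz₁ : i z' ∈ U₁ := ⟨by show z' ∈ i ⁻¹' U₀; rw [hU']; exact hzV', hx'⟩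
    let a₁ := Groth.L10.SecPres.rR O_Z (homOfLE hle) a
    have hj : ∀ j : P.I, ∃ (Uj : Opens X) (l : Uj ⟶ U₁),
        Presheaf.imageSieve c.hom (U := U₁) (a₁ j) l ∧ i z' ∈ Uj :=
      fun j => Presheaf.imageSieve_mem (Opens.grothendieckTopology X) c.hom (a₁ j) (i z') hz₁
    choose Uj l hl hzj using hj
    have := Fintype.ofFinite P.I
    let U₂ : Opens X := U₁ ⊓ Finset.univ.inf Uj
    have hz₂ : i z' ∈ U₂ := ⟨hz₁,
      Finset.inf_induction (p := fun O : Opens X => i z' ∈ O) (Opens.mem_top _) (fun _ h₁ _ h₂ => ⟨h₁, h₂⟩)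
        fun j _ => hzj j⟩
    refine ⟨U₂, homOfLE (inf_le_left.trans inf_le_right), hz₂, ?_⟩
    have hb : ∀ j, ∃ b : O_X.obj.obj (Opposite.op U₂), c.hom.app (Opposite.op U₂) b =
        Groth.L15.FlatCrit.rr O_Z ((Opens.map i).map (homOfLE (inf_le_left : U₂ ≤ U₁))) (a₁ j) :=
      fun j => (Presheaf.imageSieve c.hom (U := U₁) (a₁ j)).downward_closed (hl j)
        (homOfLE (inf_le_right.trans (Finset.inf_le (Finset.mem_univ j))) : U₂ ⟶ Uj j)
    choose b hb using hb
    let k₂ : (Opens.map i).obj U₂ ⟶ V' :=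
      (Opens.map i).map (homOfLE (inf_le_left : U₂ ≤ U₁)) ≫ homOfLE hle
    have e₁ := congrArg (Groth.L15.FlatCrit.rs F k₂) ha
    rw [Groth.L10.SecPres.rs_lcs, Groth.L15.FlatCrit.rs_rs] at e₁
    refine (e₁ : _ = Groth.L15.FlatCrit.rs F _ e) ▸ ?_
    rw [Finsupp.linearCombination_apply, Finsupp.sum_fintype]
    swap
    · exact fun j => zero_smul _ _
    refine Submodule.sum_mem _ fun j _ => ?_
    rw [show Groth.L10.SecPres.rR O_Z k₂ a j = c.hom.app (Opposite.op U₂) (b j) by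
      rw [hb j]; simp only [a₁, Groth.L10.SecPres.rR_apply]; exact (Groth.L15.FlatCrit.rr_rr O_Z _ _ _).symm]
    exact Submodule.smul_mem _ (b j) (Submodule.subset_span ⟨j, rfl⟩)

end Groth.Agent.S6846
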