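import Groth.Statements.S6848
import Groth.Agent.L10.SecPres.AtPointSpace

set_option autoImplicit false
set_option backward.defeqAttrib.useBackward true
set_option backward.isDefEq.respectTransparency false
universe u
open CategoryTheory CategoryTheory.Limits TopologicalSpace
open ModSite

namespace Groth.Agent.S6848

/-- On a ringed space (X, O), let F be an O-module of finite presentation and x a point with F_x ≅
O_{X,x}^r as O_{X,x}-modules (stalks are taken at the point of the site of opens of X given by x).
Then there is an open neighbourhood U of x with F|_U ≅ O_U^r, the free O_U-module on r generators. -/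
theorem result {X : TopCat.{u}} (O : TopCat.Sheaf CommRingCat.{u} X)
    (F : ModSite.Mod O) [SheafOfModules.IsFinitePresentation (R := ModSite.ringSh O) F] (x : X) (r : ℕ)
    (hx : Nonempty (ModSite.stalkMod (Opens.pointGrothendieckTopology x) F
      ≃ₗ[ModSite.stalkRing (Opens.pointGrothendieckTopology x) O]
        (Fin r → ModSite.stalkRing (Opens.pointGrothendieckTopology x) O))) :
    ∃ U : Opens X, x ∈ U ∧ Nonempty ((ModSite.restr O U).obj F ≅ SheafOfModules.free (ULift.{u} (Fin r))) := by
  obtain ⟨e⟩ := hx
  obtain ⟨W, hxW, P, hI, hR⟩ := Groth.L10.SecPres.AtPoint.exists_near_point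
    (Groth.L10.SecPres.isFinitePresentation_iff.1 ‹SheafOfModules.IsFinitePresentation (R := ModSite.ringSh O) F›) x
  haveI := hI
  haveI := hR
  let b := ((Pi.basisFun (ModSite.stalkRing (Opens.pointGrothendieckTopology x) O) (Fin r)).map e.symm).reindex
    Equiv.ulift.{u}.symm
  obtain ⟨V, g, v, _, s, hs, hrel⟩ := Groth.L10.SecPres.AtPoint.exists_free_near (Groth.L10.SecPres.AtPoint.pt x)
    P ⟨⟨hxW⟩⟩ b
  let Q : Groth.L10.SecPres.SPres F V :=
    { I := ULift.{u} (Fin r), s := s, gen := hs, R := PEmpty.{u+1}, w := fun j => j.elim, isRel := hrel }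
  haveI : IsEmpty Q.R := inferInstanceAs (IsEmpty PEmpty)
  exact ⟨V, Groth.L10.SecPres.AtPoint.mem_of_fib v, Groth.L10.SecPres.AtPoint.nonempty_iso_free Q⟩

end Groth.Agent.S6848
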