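import Groth.Statements.S6849
import Groth.Agent.L10.SecPres.AtPointSpace

set_option autoImplicit false
set_option backward.defeqAttrib.useBackward true
set_option backward.isDefEq.respectTransparency false
universe u
open CategoryTheory CategoryTheory.Limits TopologicalSpace
open ModSite

namespace Groth.Agent.S6849

/-- Let (X, O) be a ringed space all of whose stalks O_{X,x} are local rings, H a finite locally free
O-module (every point has an open neighbourhood U with H|_U ≅ O_U^n, the free O_U-module on n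
generators, for some n) and F a direct summand of H (maps F → H → F composing to the identity). Then
F is finite locally free. -/
theorem result {X : TopCat.{u}}
    (O : TopCat.Sheaf CommRingCat.{u} X) (hO : ∀ x : X, IsLocalRing (O.presheaf.stalk x)) {F H : ModSite.Mod O}
    (hH : ∀ x : X, ∃ (U : Opens X) (n : ℕ), x ∈ U ∧
      Nonempty ((ModSite.restr O U).obj H ≅ SheafOfModules.free (ULift.{u} (Fin n))))
    (i : F ⟶ H) (p : H ⟶ F) (hip : i ≫ p = 𝟙 F) (x : X) :
    ∃ (U : Opens X) (n : ℕ), x ∈ U ∧
      Nonempty ((ModSite.restr O U).obj F ≅ SheafOfModules.free (ULift.{u} (Fin n))) := by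
  classical
  let P₀ := Groth.L10.SecPres.AtPoint.pt x
  have hHfp : SheafOfModules.IsFinitePresentation (R := ModSite.ringSh O) H := by
    refine Groth.L10.SecPres.isFinitePresentation_iff.2
      (Groth.L10.SecPres.AtPoint.locally_of_forall_point (fun g ⟨P, hI, hR⟩ => ⟨P.res g, hI, hR⟩) fun y => ?_)
    obtain ⟨U, n, hy, ⟨e⟩⟩ := hH y
    exact ⟨U, hy, Groth.L10.SecPres.AtPoint.spresOfIso (F := H) e, inferInstanceAs (Finite (ULift (Fin n))),
      inferInstanceAs (Finite PEmpty)⟩
  have hFfp : SheafOfModules.IsFinitePresentation (R := ModSite.ringSh O) F := by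
    let ε := 𝟙 H - p ≫ i
    let e : cokernel ε ≅ F :=
      { hom := cokernel.desc ε p (by simp [ε, hip])
        inv := i ≫ cokernel.π ε
        hom_inv_id := by
          rw [← cancel_epi (cokernel.π ε), cokernel.π_desc_assoc, Category.comp_id, ← sub_eq_zero,
            ← Category.assoc]
          conv_lhs => arg 2; rw [← Category.id_comp (cokernel.π ε)]
          rw [← Preadditive.sub_comp, ← neg_sub, Preadditive.neg_comp, cokernel.condition, neg_zero]
        inv_hom_id := by rw [Category.assoc, cokernel.π_desc, hip] }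
    exact Groth.L10.SecPres.AtPoint.isFinitePresentation_of_iso e
      (Groth.L10.SecPres.isFinitePresentation_cokernel
        (SheafOfModules.IsFiniteType.mk (R := ModSite.ringSh O) (M := H)
          (Groth.L10.SecPres.isFiniteType_iff.2 fun U => by
            obtain ⟨S, hS, hd⟩ := Groth.L10.SecPres.isFinitePresentation_iff.1 hHfp U
            exact ⟨S, hS, fun V g hg => (hd g hg).elim fun P hP => ⟨P.toSGen, hP.1⟩⟩).exists_localGeneratorsData)
        hHfp ε)
  haveI : IsLocalRing (ModSite.stalkRing P₀ O) := Groth.L10.SecPres.AtPoint.isLocalRing_stalkRing (hO x)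
  obtain ⟨U, n, hxU, ⟨eH⟩⟩ := hH x
  let PH := Groth.L10.SecPres.AtPoint.spresOfIso (F := H) eH
  haveI : IsEmpty PH.R := inferInstanceAs (IsEmpty PEmpty)
  haveI : Finite PH.I := inferInstanceAs (Finite (ULift (Fin n)))
  let bH := Groth.L10.SecPres.AtPoint.basisAt P₀ PH ⟨⟨hxU⟩⟩
  haveI := Module.Finite.of_basis bH
  haveI := Module.Free.of_basis bH
  have hr := Groth.L10.SecPres.AtPoint.stalkMap_retraction P₀ i p hip
  haveI : Module.Projective (ModSite.stalkRing P₀ O) (ModSite.stalkMod P₀ F) :=
    Module.Projective.of_split (ModSite.stalkMap P₀ i).hom (ModSite.stalkMap P₀ p).hom hr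
  haveI : Module.Finite (ModSite.stalkRing P₀ O) (ModSite.stalkMod P₀ F) :=
    Module.Finite.of_surjective (ModSite.stalkMap P₀ p).hom fun m => ⟨(ModSite.stalkMap P₀ i).hom m, congr($hr m)⟩
  haveI : Module.Free (ModSite.stalkRing P₀ O) (ModSite.stalkMod P₀ F) := Module.free_of_flat_of_isLocalRing
  let b₀ := Module.Free.chooseBasis (ModSite.stalkRing P₀ O) (ModSite.stalkMod P₀ F)
  let b := b₀.reindex ((Fintype.equivFin _).trans Equiv.ulift.{u}.symm)
  obtain ⟨W, hxW, P, hI, hR⟩ := Groth.L10.SecPres.AtPoint.exists_near_point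
    (Groth.L10.SecPres.isFinitePresentation_iff.1 hFfp) x
  haveI := hI
  haveI := hR
  obtain ⟨V, g, v, _, s, hs, hrel⟩ := Groth.L10.SecPres.AtPoint.exists_free_near P₀ P ⟨⟨hxW⟩⟩ b
  let Q : Groth.L10.SecPres.SPres F V := { I := _, s := s, gen := hs, R := PEmpty.{u+1}, w := fun j => j.elim, isRel := hrel }
  haveI : IsEmpty Q.R := inferInstanceAs (IsEmpty PEmpty)
  exact ⟨V, _, Groth.L10.SecPres.AtPoint.mem_of_fib v, Groth.L10.SecPres.AtPoint.nonempty_iso_free Q⟩

end Groth.Agent.S6849
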