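import Groth.Statements.S6851
import Groth.Agent.L15.PullFlat.TensorNat
import Groth.Agent.L15.LocPres.TensorHom
import Groth.Agent.L10.SecPres.AtPointSpace

set_option autoImplicit false
set_option backward.isDefEq.respectTransparency false
set_option backward.isDefEq.respectTransparency.types false
set_option linter.style.haveILetI false
universe u
open CategoryTheory CategoryTheory.Limits TopologicalSpace
open ModSite

namespace Groth.Agent.S6851

open Opposite Groth.L15.FlatCrit Groth.L15.LocPres
open Groth.L15.PullFlat (ten tmulS tmulS_add_left tmulS_smul_left tmulS_res)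
open Groth.L10.SecPres.AtPoint (pt mem_of_fib fib_eq)
open scoped TensorProduct

noncomputable section

variable {X : TopCat.{u}} {O : TopCat.Sheaf CommRingCat.{u} X} {L N : ModSite.Mod O}
  (e : ten L N ≅ ModSite.unit O)

/-- The pairing of sections given by a trivialisation of a tensor product. -/
def β (V : Opens X) (u : ModSite.sect L V) (v : ModSite.sect N V) : O.obj.obj (op V) :=
  e.hom.val.app (op V) (tmulS L N V u v)

lemma β_res {V W : Opens X} (g : W ⟶ V) (u : ModSite.sect L V) (v : ModSite.sect N V) :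
    rr O g (β e V u v) = β e W (rs L g u) (rs N g v) :=
  (Groth.L15.ExtSupp.res_natural e.hom g _).trans (congrArg (e.hom.val.app (op W)) (tmulS_res L N g u v))

lemma β_add (V : Opens X) (u u' : ModSite.sect L V) (v : ModSite.sect N V) :
    β e V (u + u') v = β e V u v + β e V u' v :=
  (congrArg (e.hom.val.app (op V)) (tmulS_add_left L N V u u' v)).trans (map_add (e.hom.val.app (op V)).hom _ _)

lemma β_smul (V : Opens X) (r : O.obj.obj (op V)) (u : ModSite.sect L V) (v : ModSite.sect N V) :
    β e V (r • u) v = r * β e V u v :=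
  (congrArg (e.hom.val.app (op V)) (tmulS_smul_left L N V r u v)).trans (map_smul (e.hom.val.app (op V)).hom r _)

lemma β_sub (V : Opens X) (u u' : ModSite.sect L V) (v : ModSite.sect N V) :
    β e V (u - u') v = β e V u v - β e V u' v := by
  rw [eq_sub_iff_add_eq, ← β_add, sub_add_cancel]

variable (hO : ∀ x : X, IsLocalRing (ModSite.stalkRing (pt x) O))

include e hO in
/-- Near every point some pair of sections pairs to one. -/
lemma exists_dual (x : X) : ∃ (W : Opens X) (_ : x ∈ W) (a : ModSite.sect L W) (b : ModSite.sect N W),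
    β e W a b = 1 := by
  haveI := hO x
  let one : ModSite.sect (ModSite.unit O) (⊤ : Opens X) := (1 : O.obj.obj (op ⊤))
  obtain ⟨S, hS, hd⟩ := exists_unitA_lifts L N (fun _ : Fin 1 => e.inv.val.app (op ⊤) one)
  obtain ⟨W, g, hg, w, -⟩ := (pt x).jointly_surjective S hS ⟨⟨trivial⟩⟩
  obtain ⟨z, hz⟩ := hd g hg
  have h1 : IsUnit (germRingHom (pt x) O W w (e.hom.val.app (op W) (unitA L N W (z 0)))) := by
    have h : e.hom.val.app (op W) (unitA L N W (z 0)) = rr O g 1 :=
      (congrArg (e.hom.val.app (op W)) (hz 0)).trans ((Groth.L15.ExtSupp.res_natural e.hom g _).symm.trans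
        (congrArg _ (Groth.L10.SecPres.AtPoint.val_app_comp_inv e (⊤ : Opens X) one)))
    refine Eq.mpr (congrArg (fun q => IsUnit (germRingHom (pt x) O W w q)) h) ?_
    rw [map_one, map_one]
    exact isUnit_one
  obtain ⟨a, b, hab⟩ : ∃ (a : ModSite.sect L W) (b : ModSite.sect N W),
      IsUnit (germRingHom (pt x) O W w (β e W a b)) := by
    revert h1
    generalize z 0 = t
    induction t using TensorProduct.induction_on with
    | zero =>
      intro h
      rw [map_zero, show e.hom.val.app (op W) 0 = 0 from map_zero (e.hom.val.app (op W)).hom, map_zero] at h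
      exact absurd h not_isUnit_zero
    | tmul a b => exact fun h => ⟨a, b, h⟩
    | add p q hp hq =>
      intro h
      rw [map_add, show e.hom.val.app (op W) (unitA L N W p + unitA L N W q) = _ from
        map_add (e.hom.val.app (op W)).hom _ _, map_add] at h
      exact (IsLocalRing.isUnit_or_isUnit_of_isUnit_add h).elim hp hq
  obtain ⟨c, hc⟩ := isUnit_iff_exists_inv.1 hab
  obtain ⟨W', g', w', f, hw', hf⟩ := exists_func_lift (pt x) (O := O) ![c] W w
  obtain ⟨Y, k, y, -, hk⟩ := exists_func_eq (pt x) W' w' (fun _ : Fin 1 => f 0 * rr O g' (β e W a b)) (fun _ => 1)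
    fun _ => by
      rw [map_mul, map_one, hf, germ_rr, hw', mul_comm]
      exact hc
  refine ⟨Y, mem_of_fib y, rs L k (f 0 • rs L g' a), rs N k (rs N g' b), ?_⟩
  rw [← β_res, β_smul, ← β_res]
  exact (hk 0).trans (map_one _)

include e in
lemma germ_eq_smul {x : X} {W : Opens X} (w : (pt x).fiber.obj W) (a : ModSite.sect L W) (b : ModSite.sect N W)
    (hab : β e W a b = 1) (u : ModSite.sect L W) :
    germHom (pt x) L W w u = germRingHom (pt x) O W w (β e W u b) • germHom (pt x) L W w a := by
  rw [← germ_smul', ← sub_eq_zero, ← map_sub]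
  set u' := u - β e W u b • a
  have h0 : β e W u' b = 0 := by rw [β_sub, β_smul, hab, mul_one, sub_self]
  have h1 : unitA L N W (u' ⊗ₜ[O.obj.obj (op W)] b) = 0 := by
    refine Groth.L15.ExtSupp.val_app_injective e.hom W ?_
    exact h0.trans (map_zero (e.hom.val.app (op W)).hom).symm
  obtain ⟨S, hS, hd⟩ := exists_unitA_zeros L N (fun _ : Fin 1 => u' ⊗ₜ[O.obj.obj (op W)] b) fun _ => h1
  obtain ⟨Y, g, hg, y, hy⟩ := (pt x).jointly_surjective S hS w
  have h2 := hd g hg 0
  rw [resT_tmul] at h2
  let β₁ : ModSite.sect N Y →ₗ[O.obj.obj (op Y)] O.obj.obj (op Y) :=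
    { toFun := fun v => β e Y (rs L g a) v
      map_add' := fun v v' => (congrArg (e.hom.val.app (op Y))
        (Groth.L15.PullFlat.tmulS_add_right L N Y _ v v')).trans (map_add (e.hom.val.app (op Y)).hom _ _)
      map_smul' := fun r v => (congrArg (e.hom.val.app (op Y))
        (Groth.L15.PullFlat.tmulS_smul_right L N Y r _ v)).trans (map_smul (e.hom.val.app (op Y)).hom r _) }
  have h3 := congrArg (TensorProduct.lift ((LinearMap.lsmul (O.obj.obj (op Y)) (ModSite.sect L Y)).comp β₁).flip) h2
  rw [map_zero, TensorProduct.lift.tmul] at h3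
  simp only [LinearMap.flip_apply, LinearMap.comp_apply, LinearMap.lsmul_apply] at h3
  rw [show β₁ (rs N g b) = β e Y (rs L g a) (rs N g b) from rfl, ← β_res, hab, map_one, one_smul] at h3
  rw [← hy, ← germ_rs, h3, map_zero]

include e in
/-- A frame of the stalk coming from a pairing to one. -/
lemma germ_bijective {x : X} {W : Opens X} (w : (pt x).fiber.obj W) (a : ModSite.sect L W) (b : ModSite.sect N W)
    (hab : β e W a b = 1) :
    Function.Bijective fun r : ModSite.stalkRing (pt x) O => r • germHom (pt x) L W w a := by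
  refine ⟨fun r r' h => ?_, fun m => ?_⟩
  · rw [← sub_eq_zero] at h ⊢
    rw [← sub_smul] at h
    obtain ⟨W', g, w', f, hw', hf⟩ := exists_func_lift (pt x) (O := O) ![r - r'] W w
    have hf0 : germRingHom (pt x) O W' w' (f 0) = r - r' := hf 0
    rw [← hf0] at h ⊢
    rw [← hw', ← germ_rs, ← germ_smul', ← map_zero (germHom (pt x) L W' w')] at h
    obtain ⟨Y, k, y, hy, hk⟩ := Groth.L10.SecPres.AtPoint.exists_eq_near (pt x) W' w'
      (fun _ : Unit => f 0 • rs L g a) (fun _ => 0) fun _ => h
    have h2 := congrArg (fun u => β e Y u (rs N k (rs N g b))) (hk ())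
    simp only [← β_res, β_smul, hab, map_one, mul_one, map_zero] at h2
    rw [show β e Y (0 : ModSite.sect L Y) (rs N k (rs N g b)) = 0 from by
      simpa using β_sub e Y (0 : ModSite.sect L Y) 0 (rs N k (rs N g b))] at h2
    rw [← hy, ← germ_rr, h2, map_zero]
  · obtain ⟨W', g, w', s, hw', hs⟩ := exists_sect_lift (pt x) L ![m] W w
    refine ⟨germRingHom (pt x) O W' w' (β e W' (s 0) (rs N g b)), ?_⟩
    show _ • _ = _
    rw [← hw', ← germ_rs, ← germ_eq_smul e w' (rs L g a) (rs N g b) (by rw [← β_res, hab, map_one])]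
    exact hs 0

include e hO in
/-- The germ of a section lies outside the maximal multiple exactly when its coefficient is a unit. -/
lemma not_mem_iff {x : X} {W : Opens X} (w : (pt x).fiber.obj W) (a : ModSite.sect L W) (b : ModSite.sect N W)
    (hab : β e W a b = 1) (u : ModSite.sect L W) :
    germHom (pt x) L W w u ∉ (@IsLocalRing.maximalIdeal (ModSite.stalkRing (pt x) O) _ (hO x)) •
        (⊤ : Submodule (ModSite.stalkRing (pt x) O) (ModSite.stalkAb (pt x) L)) ↔
      IsUnit (germRingHom (pt x) O W w (β e W u b)) := by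
  haveI := hO x
  have hbij := germ_bijective e w a b hab
  rw [germ_eq_smul e w a b hab u]
  constructor
  · intro h
    by_contra hu
    exact h (Submodule.smul_mem_smul hu Submodule.mem_top)
  · intro hu hmem
    have hc : ∃ μ ∈ IsLocalRing.maximalIdeal (ModSite.stalkRing (pt x) O),
        μ • germHom (pt x) L W w a = germRingHom (pt x) O W w (β e W u b) • germHom (pt x) L W w a := by
      refine Submodule.smul_induction_on hmem (fun r hr n _ => ?_) (fun p q hp hq => ?_)
      · obtain ⟨c, rfl⟩ := hbij.2 n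
        exact ⟨r * c, Ideal.mul_mem_right c _ hr, mul_smul r c _⟩
      · obtain ⟨μ, hμ, rfl⟩ := hp
        obtain ⟨ν, hν, rfl⟩ := hq
        exact ⟨μ + ν, add_mem hμ hν, add_smul μ ν _⟩
    obtain ⟨μ, hμ, hμe⟩ := hc
    exact hμ (hbij.1 hμe ▸ hu)

end

/-- Let (X, O) be a ringed space all of whose stalks O_{X,x} are local rings with maximal ideals m_x, L
an invertible O-module (F ↦ L ⊗_O F is an equivalence of Mod(O)) and s a section of L over an open
U. Then the set X_s of points x ∈ U whose germ s_x does not lie in m_x L_x is open, and for every x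
∈ X_s the map O_{X,x} → L_x, a ↦ a s_x, is bijective; that is, s : O_{X_s} → L|_{X_s} is an
isomorphism, isomorphy being checked on stalks. Stalks and germs are taken at the point of the site
of opens of X given by x. (The published statement also produces the section s' of the inverse of L
with s' s = 1; that consequence is not restated here.) -/
theorem result {X : TopCat.{u}} (O : TopCat.Sheaf CommRingCat.{u} X)
    (hO : ∀ x : X, IsLocalRing (ModSite.stalkRing (Opens.pointGrothendieckTopology x) O)) (L : ModSite.Mod O)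
    (hL : ((ModSite.tensorBi O).obj L).IsEquivalence) (U : Opens X) (s : ModSite.sect L U) :
    IsOpen {x : X | ∃ hx : x ∈ U, ModSite.germ (Opens.pointGrothendieckTopology x) L U ⟨⟨hx⟩⟩ s ∉
        (@IsLocalRing.maximalIdeal (ModSite.stalkRing (Opens.pointGrothendieckTopology x) O) _ (hO x)) •
          (⊤ : Submodule (ModSite.stalkRing (Opens.pointGrothendieckTopology x) O)
            (ModSite.stalkAb (Opens.pointGrothendieckTopology x) L))} ∧
      ∀ (x : X) (hx : x ∈ U), ModSite.germ (Opens.pointGrothendieckTopology x) L U ⟨⟨hx⟩⟩ s ∉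
          (@IsLocalRing.maximalIdeal (ModSite.stalkRing (Opens.pointGrothendieckTopology x) O) _ (hO x)) •
            (⊤ : Submodule (ModSite.stalkRing (Opens.pointGrothendieckTopology x) O)
              (ModSite.stalkAb (Opens.pointGrothendieckTopology x) L)) →
        Function.Bijective (fun a : ModSite.stalkRing (Opens.pointGrothendieckTopology x) O =>
          a • ModSite.germ (Opens.pointGrothendieckTopology x) L U ⟨⟨hx⟩⟩ s) := by
  haveI := hL
  obtain ⟨N, ⟨e⟩⟩ := Groth.L15.ModTensor.exists_inverse L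
  refine ⟨isOpen_iff_forall_mem_open.2 fun x hx => ?_, fun x hx hs => ?_⟩
  · obtain ⟨hxU, hs⟩ := hx
    obtain ⟨W, hxW, a, b, hab⟩ := exists_dual e hO x
    let iU : U ⊓ W ⟶ U := homOfLE inf_le_left
    let iW : U ⊓ W ⟶ W := homOfLE inf_le_right
    have hab' : β e (U ⊓ W) (rs L iW a) (rs N iW b) = 1 := by rw [← β_res, hab, map_one]
    let wx : (pt x).fiber.obj (U ⊓ W) := ⟨⟨⟨hxU, hxW⟩⟩⟩
    have hu := (not_mem_iff e hO (x := x) wx _ _ hab' (rs L iU s)).1
      (by rw [germ_rs]; exact hs)
    obtain ⟨c, hc⟩ := isUnit_iff_exists_inv.1 hu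
    obtain ⟨V, k, v, f, hv, hf⟩ := exists_func_lift (pt x) (O := O) ![c] (U ⊓ W) ⟨⟨⟨hxU, hxW⟩⟩⟩
    obtain ⟨Y, k', y₀, -, hk⟩ := exists_func_eq (pt x) V v
      (fun _ : Fin 1 => rr O k (β e (U ⊓ W) (rs L iU s) (rs N iW b)) * f 0) (fun _ => 1) fun _ => by
        rw [map_mul, map_one, germ_rr, hv, hf]
        exact hc
    refine ⟨(Y : Set X), fun y hy => ?_, Y.2, mem_of_fib y₀⟩
    have hyUW : y ∈ U ⊓ W := k.le (k'.le hy)
    refine ⟨hyUW.1, ?_⟩
    let wy : (pt y).fiber.obj (U ⊓ W) := ⟨⟨hyUW⟩⟩
    have h := (not_mem_iff e hO (x := y) wy _ _ hab' (rs L iU s)).2 (by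
      have h1 := congrArg (germRingHom (pt y) O Y ⟨⟨hy⟩⟩) (hk 0)
      rw [germ_rr, germ_rr, map_mul, map_one, germ_rr] at h1
      exact IsUnit.of_mul_eq_one _ h1)
    rw [germ_rs] at h
    exact h
  · obtain ⟨W, hxW, a, b, hab⟩ := exists_dual e hO x
    let iU : U ⊓ W ⟶ U := homOfLE inf_le_left
    let iW : U ⊓ W ⟶ W := homOfLE inf_le_right
    have hab' : β e (U ⊓ W) (rs L iW a) (rs N iW b) = 1 := by rw [← β_res, hab, map_one]
    let wx : (pt x).fiber.obj (U ⊓ W) := ⟨⟨⟨hx, hxW⟩⟩⟩
    have hbij := germ_bijective e (x := x) wx _ _ hab'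
    have heq := germ_eq_smul e (x := x) wx _ _ hab' (rs L iU s)
    have hu := (not_mem_iff e hO (x := x) wx _ _ hab' (rs L iU s)).1
      (by rw [germ_rs]; exact hs)
    rw [germ_rs] at heq
    have hcomp := hbij.comp ⟨hu.mul_left_injective, fun c => ⟨c * ↑hu.unit⁻¹,
      (mul_assoc _ _ _).trans ((congrArg (c * ·) hu.val_inv_mul).trans (mul_one c))⟩⟩
    refine Eq.subst (motive := Function.Bijective) (funext fun r => ?_) hcomp
    exact ((mul_smul r _ _).trans (congrArg (r • ·) heq.symm))

end Groth.Agent.S6851
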