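import Groth.Statements.S6855
import Mathlib.Algebra.Category.Ring.FilteredColimits
-- import your own Groth.Agent.* helpers here

set_option autoImplicit false
universe u
open CategoryTheory CategoryTheory.Limits TopologicalSpace
open ModSite

namespace Groth.Agent.S6855

/-- Let X be a topological space and O a sheaf of rings on X. Then the support of O, the set of points x
with nonzero stalk O_x, is closed in X. -/
theorem result {X : TopCat.{u}} (O : TopCat.Sheaf CommRingCat.{u} X) :
    IsClosed {x : X | Nontrivial (O.presheaf.stalk x)} := by
  rw [← isOpen_compl_iff, isOpen_iff_forall_mem_open]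
  intro x hx
  have h1 : (1 : O.presheaf.stalk x) = 0 := by
    haveI : Subsingleton (O.presheaf.stalk x) := not_nontrivial_iff_subsingleton.1 hx
    exact Subsingleton.elim _ _
  obtain ⟨W, hxW, iU, iV, hW⟩ := O.presheaf.germ_eq x (TopologicalSpace.Opens.mem_top x) (TopologicalSpace.Opens.mem_top x)
    (1 : O.obj.obj (Opposite.op (⊤ : TopologicalSpace.Opens X))) 0 (by rw [map_one, map_zero]; exact h1)
  rw [map_one, map_zero] at hW
  refine ⟨W, fun y hy hn => ?_, W.2, hxW⟩
  haveI : Nontrivial (O.presheaf.stalk y) := hn
  have := congrArg (O.presheaf.germ W y hy) hW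
  rw [map_one, map_zero] at this
  exact one_ne_zero this

end Groth.Agent.S6855
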