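import Groth.Statements.S6858
import Groth.Agent.L10.SecPres.AtPointSpace

set_option autoImplicit false
set_option backward.defeqAttrib.useBackward true
set_option backward.isDefEq.respectTransparency false
universe u
open CategoryTheory CategoryTheory.Limits TopologicalSpace
open ModSite

namespace Groth.Agent.S6858

/-- Let (X, O) be a ringed space all of whose stalks O_{X,x} are nonzero rings and F a locally free
O-module. Then there is a locally constant function rank_F : X → ℕ ∪ {∞} such that for every point
x, every open neighbourhood U of x and every index set I with F|_U ≅ ⊕_{i ∈ I} O_U, the cardinality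
of I (a natural number or ∞) is rank_F(x). -/
theorem result {X : TopCat.{u}} (O : TopCat.Sheaf CommRingCat.{u} X)
    (hO : ∀ x : X, Nontrivial (O.presheaf.stalk x)) (F : ModSite.Mod O)
    [SheafOfModules.IsLocallyFree (R := ModSite.ringSh O) F] :
    ∃ rk : X → ℕ∞, IsLocallyConstant rk ∧
      ∀ (x : X) (U : Opens X) (I : Type u), x ∈ U →
        Nonempty ((ModSite.restr O U).obj F ≅ SheafOfModules.free I) → ENat.card I = rk x := by
  classical
  have hloc := Groth.L10.SecPres.isLocallyFree_iff.1 ‹SheafOfModules.IsLocallyFree (R := ModSite.ringSh O) F›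
  choose W hW P hP using fun x : X => Groth.L10.SecPres.AtPoint.exists_near_point hloc x
  have key : ∀ (x : X) {V : Opens X} (Q : Groth.L10.SecPres.SPres F V) [IsEmpty Q.R], x ∈ V →
      ENat.card Q.I = ENat.card (P x).I := fun x {V} Q _ hx => by
    haveI := hP x
    haveI := Groth.L10.SecPres.AtPoint.nontrivial_stalkRing (hO x)
    let b := Groth.L10.SecPres.AtPoint.basisAt (Groth.L10.SecPres.AtPoint.pt x) Q ⟨⟨hx⟩⟩
    let b' := Groth.L10.SecPres.AtPoint.basisAt (Groth.L10.SecPres.AtPoint.pt x) (P x) ⟨⟨hW x⟩⟩
    obtain ⟨e⟩ := Cardinal.eq.1 (b.mk_eq_rank''.trans b'.mk_eq_rank''.symm)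
    exact ENat.card_congr e
  refine ⟨fun x => ENat.card (P x).I, IsLocallyConstant.iff_eventually_eq _ |>.2 fun x => ?_, fun x U I hx hI => ?_⟩
  · refine Filter.eventually_of_mem ((W x).isOpen.mem_nhds (hW x)) fun y hy => ?_
    haveI := hP x
    exact (key y (P x) hy).symm
  · obtain ⟨e⟩ := hI
    let Q := Groth.L10.SecPres.AtPoint.spresOfIso (F := F) e
    haveI : IsEmpty Q.R := inferInstanceAs (IsEmpty PEmpty)
    exact key x Q hx

end Groth.Agent.S6858
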