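import Groth.Statements.S6859
import Groth.Agent.L15.PullFlat.InvRing
import Groth.Agent.L15.FlatCrit.Stalks
import Mathlib.Topology.Sheaves.Points
import Mathlib.Tactic.Ring
import Mathlib.Tactic.LinearCombination
import Mathlib.Tactic.FieldSimp
import Mathlib.Algebra.BigOperators.Ring.Finset

set_option autoImplicit false
universe u
open CategoryTheory CategoryTheory.Limits TopologicalSpace
open ModSite

namespace Groth.Agent.S6859

/-- Let f : (X, O_X) → (Y, O_Y) be a morphism of ringed spaces and F an O_X-module flat over Y, i.e. for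
every x ∈ X the stalk F_x is a flat O_{Y, f(x)}-module through the ring map O_{Y, f(x)} → O_{X, x}.
Then the functor Mod(O_Y) → Mod(O_X), G ↦ f^*G ⊗_{O_X} F, is exact (preserves finite limits and
finite colimits). Here stalks are taken at the point of the site of opens of X given by x, and
flatness over O_{Y, f(x)} is written over the stalk at x of the pulled-back sheaf of rings f⁻¹O_Y,
which is O_{Y, f(x)}, through the stalk at x of the ring map f⁻¹O_Y → O_X adjoint to O_Y → f_*O_X,
which is the stalk map O_{Y, f(x)} → O_{X, x}. -/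
theorem result {X Y : TopCat.{u}} (f : X ⟶ Y) (O_X : TopCat.Sheaf CommRingCat.{u} X)
    (O_Y : TopCat.Sheaf CommRingCat.{u} Y)
    (c : O_Y ⟶ ((TopologicalSpace.Opens.map f).sheafPushforwardContinuous CommRingCat.{u}
      (Opens.grothendieckTopology Y) (Opens.grothendieckTopology X)).obj O_X)
    (F : ModSite.Mod O_X)
    (hF : ∀ x : X, @Module.Flat
      (ModSite.stalkRing (Opens.pointGrothendieckTopology x)
        (ModSite.RMor.ofFlat (TopologicalSpace.Opens.map f) c).invRing)
      (ModSite.stalkAb (Opens.pointGrothendieckTopology x) F) _ _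
      (Module.compHom (ModSite.stalkAb (Opens.pointGrothendieckTopology x) F)
        (((Opens.pointGrothendieckTopology x).sheafFiber (A := CommRingCat.{u})).map
          (ModSite.RMor.ofFlat (TopologicalSpace.Opens.map f) c).invSharp).hom)) :
    PreservesFiniteLimits ((ModSite.RMor.ofFlat (TopologicalSpace.Opens.map f) c).pull ⋙
        (ModSite.tensorBi O_X).flip.obj F) ∧
      PreservesFiniteColimits ((ModSite.RMor.ofFlat (TopologicalSpace.Opens.map f) c).pull ⋙
        (ModSite.tensorBi O_X).flip.obj F) := by
  let R := ModSite.RMor.ofFlat (TopologicalSpace.Opens.map f) c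
  let G := (SheafOfModules.restrictScalars
    ((sheafCompose _ (forget₂ CommRingCat.{u} RingCat.{u})).map R.invSharp)).obj F
  refine Groth.L15.PullFlat.preservesFinite_of_relFlat (Groth.L15.PullFlat.relFlat_of_invRing R F ?_)
  refine Groth.L15.FlatCrit.hasTrivialRelations_of_flat_stalks G (Opens.pointsGrothendieckTopology X)
    (Opens.isConservativeFamilyOfPoints_pointsGrothendieckTopology X) fun q hq => ?_
  obtain ⟨x⟩ := hq
  let p := Opens.pointGrothendieckTopology x
  let inst : Module (ModSite.stalkRing p R.invRing) (ModSite.stalkAb p F) :=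
    Module.compHom _ (((p.sheafFiber (A := CommRingCat.{u})).map R.invSharp).hom)
  let asF : ModSite.stalkAb p G → ModSite.stalkAb p F := fun s => s
  have key : ∀ (r : ModSite.stalkRing p R.invRing) (s : ModSite.stalkAb p G),
      asF (r • s) = ((p.sheafFiber (A := CommRingCat.{u})).map R.invSharp).hom r • asF s := by
    intro r s
    obtain ⟨U₁, u₁, r₁, rfl⟩ := p.toPresheafFiber_jointly_surjective (P := R.invRing.obj) r
    obtain ⟨U₂, u₂, s₂, rfl⟩ := p.toPresheafFiber_jointly_surjective (P := (ModSite.toAb G).obj) s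
    obtain ⟨W, w, a, b, ha, hb⟩ := Groth.L15.FlatCrit.exists_nbhd₂ p U₁ U₂ u₁ u₂
    have h1 := Groth.L15.FlatCrit.germ_rr p (O := R.invRing) a w r₁
    have h2 := Groth.L15.FlatCrit.germ_rs p G b w s₂
    rw [ha] at h1
    rw [hb] at h2
    show asF (Groth.L15.FlatCrit.germRingHom p R.invRing U₁ u₁ r₁ • Groth.L15.FlatCrit.germHom p G U₂ u₂ s₂) =
      ((p.sheafFiber (A := CommRingCat.{u})).map R.invSharp).hom (Groth.L15.FlatCrit.germRingHom p R.invRing U₁ u₁ r₁) •
        asF (Groth.L15.FlatCrit.germHom p G U₂ u₂ s₂)
    rw [← h1, ← h2, ← Groth.L15.FlatCrit.germ_smul']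
    have e : ((p.sheafFiber (A := CommRingCat.{u})).map R.invSharp).hom
        (Groth.L15.FlatCrit.germRingHom p R.invRing W w (Groth.L15.FlatCrit.rr R.invRing a r₁)) =
        Groth.L15.FlatCrit.germRingHom p O_X W w (R.invSharp.hom.app (Opposite.op W) (Groth.L15.FlatCrit.rr R.invRing a r₁)) :=
      p.toPresheafFiber_naturality_apply R.invSharp.hom W w (Groth.L15.FlatCrit.rr R.invRing a r₁)
    rw [e]
    exact Groth.L15.FlatCrit.germ_smul' p F W w _ _
  have e : inst = ModSite.moduleStalk p G := by
    refine Module.ext ?_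
    funext r s
    exact (key r s).symm
  have hFx := hF x
  show @Module.Flat (ModSite.stalkRing p R.invRing) (ModSite.stalkAb p G) _ _ (ModSite.moduleStalk p G)
  rw [← e]
  exact hFx

end Groth.Agent.S6859
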