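import Groth.Statements.S6860
import Mathlib.RingTheory.Extension.Presentation.Submersive

set_option autoImplicit false
set_option linter.style.haveILetI false
universe u
open Smoothing

namespace Groth.Agent.S6860

/-- Let R → A be standard smooth and E ⊆ A a finite subset. Then A admits a standard smooth presentation
A = R[x₁, …, x_N]/(f₁, …, f_c) (a submersive presentation: finitely many generators and relations,
an injection from the relations to the variables picking the distinguished variables, and the
Jacobian of the relations with respect to the distinguished variables invertible in A) in which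
every element of E is the class of a distinguished variable. (The published statement arranges E to
be exactly the classes of the first n = |E| variables, all of them distinguished, with c ≥ n; this
row states that E is contained in the set of classes of the distinguished variables, which is what
that arrangement gives.) -/
theorem result {R A : Type u} [CommRing R] [CommRing A] [Algebra R A]
    [Algebra.IsStandardSmooth R A] (E : Finset A) :
    ∃ (ι σ : Type) (_ : Finite ι) (_ : Finite σ) (P : Algebra.SubmersivePresentation R A ι σ),
      (↑E : Set A) ⊆ Set.range (P.val ∘ P.map) := by
  classical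
  obtain ⟨ι₀, σ₀, hσ₀, hι₀, ⟨P⟩⟩ := Algebra.IsStandardSmooth.out (R := R) (S := A)
  let κ := Fin E.card
  let e : κ → A := fun i => (E.equivFin.symm i).1
  have hsurj : Function.Surjective (MvPolynomial.aeval (R := A) e) := fun a => ⟨MvPolynomial.C a, by simp⟩
  have hker : Ideal.span (Set.range fun i => MvPolynomial.X i - MvPolynomial.C (e i)) =
      RingHom.ker (MvPolynomial.aeval (R := A) e) := by
    refine le_antisymm (Ideal.span_le.2 ?_) fun p hp => ?_
    · rintro _ ⟨i, rfl⟩
      simp
    · have key : ∀ q : MvPolynomial κ A, q - MvPolynomial.C (MvPolynomial.aeval e q) ∈
          Ideal.span (Set.range fun i => MvPolynomial.X i - MvPolynomial.C (e i)) := by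
        intro q
        induction q using MvPolynomial.induction_on with
        | C a => simp
        | add p q hp hq =>
          rw [map_add, map_add, add_sub_add_comm]
          exact add_mem hp hq
        | mul_X p i hp =>
          have h : p * MvPolynomial.X i - MvPolynomial.C (MvPolynomial.aeval e (p * MvPolynomial.X i)) =
              (p - MvPolynomial.C (MvPolynomial.aeval e p)) * MvPolynomial.X i +
                MvPolynomial.C (MvPolynomial.aeval e p) * (MvPolynomial.X i - MvPolynomial.C (e i)) := by
            simp only [map_mul, MvPolynomial.aeval_X]; ring
          rw [h]
          exact add_mem (Ideal.mul_mem_right _ _ hp) (Ideal.mul_mem_left _ _ (Ideal.subset_span ⟨i, rfl⟩))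
      have h := key p
      rwa [(RingHom.mem_ker).1 hp, map_zero, sub_zero] at h
  let Q₀ : Algebra.PreSubmersivePresentation A A κ κ :=
    { toGenerators := Algebra.Generators.ofSurjective e hsurj
      relation := fun i => MvPolynomial.X i - MvPolynomial.C (e i)
      span_range_relation_eq_ker := by
        rw [Algebra.Generators.ker_eq_ker_aeval_val]
        exact hker
      map := id
      map_inj := Function.injective_id }
  let Q : Algebra.SubmersivePresentation A A κ κ :=
    { Q₀ with
      jacobian_isUnit := by
        have h : Q₀.jacobiMatrix = 1 := by
          ext i j : 1
          rw [Algebra.PreSubmersivePresentation.jacobiMatrix_apply, Matrix.one_apply]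
          show MvPolynomial.pderiv i (MvPolynomial.X j - MvPolynomial.C (e j)) = _
          rw [map_sub, MvPolynomial.pderiv_C, sub_zero, MvPolynomial.pderiv_X, Pi.single_apply]
          exact if_congr (eq_comm) rfl rfl
        rw [Algebra.PreSubmersivePresentation.jacobian_eq_jacobiMatrix_det, h, Matrix.det_one, map_one]
        exact isUnit_one }
  refine ⟨κ ⊕ ι₀, κ ⊕ σ₀, inferInstance, inferInstance, Q.comp P, fun x hx => ⟨.inl (E.equivFin ⟨x, hx⟩), ?_⟩⟩
  show Sum.elim e (algebraMap A A ∘ P.val) (Sum.inl (E.equivFin ⟨x, hx⟩)) = x
  simp [e]

end Groth.Agent.S6860
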