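import Groth.Statements.S6862
import Mathlib.RingTheory.Finiteness.Prod
import Mathlib.Algebra.Exact.Basic

set_option autoImplicit false
universe u
open CAlg

namespace Groth.Agent.S6862

/-- Let `R` be a commutative ring and `P'`, `P`, `P''` finitely generated projective `R`-modules in an
exact sequence `0 → P' → P → P'' → 0`. Whenever two of the three are stably free, the remaining one
is stably free too (all three cases are stated). -/
theorem result {R : Type u} [CommRing R] {P' P P'' : Type u}
    [AddCommGroup P'] [Module R P'] [Module.Finite R P'] [Module.Projective R P']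
    [AddCommGroup P] [Module R P] [Module.Finite R P] [Module.Projective R P]
    [AddCommGroup P''] [Module R P''] [Module.Finite R P''] [Module.Projective R P'']
    (f : P' →ₗ[R] P) (g : P →ₗ[R] P'') (hf : Function.Injective f) (hg : Function.Surjective g)
    (hfg : Function.Exact f g) :
    (Module.IsStablyFree R P' → Module.IsStablyFree R P → Module.IsStablyFree R P'') ∧
    (Module.IsStablyFree R P' → Module.IsStablyFree R P'' → Module.IsStablyFree R P) ∧
    (Module.IsStablyFree R P → Module.IsStablyFree R P'' → Module.IsStablyFree R P') := by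
  have hsum : ∀ (A B : Type u) [AddCommGroup A] [Module R A] [AddCommGroup B] [Module R B],
      Module.IsStablyFree R A → Module.IsStablyFree R B → Module.IsStablyFree R (A × B) := by
    intro A B _ _ _ _ hA hB
    obtain ⟨F, _, _, _, _, _⟩ := Module.IsStablyFree.exist_free_prod R A
    obtain ⟨G, _, _, _, _, _⟩ := Module.IsStablyFree.exist_free_prod R B
    haveI : Module.Free R ((A × B) × (F × G)) :=
      Module.Free.of_equiv (LinearEquiv.prodProdProdComm R A F B G)
    exact Module.IsStablyFree.of_free_prod R (A × B) (F × G)
  have hcancel : ∀ (A B : Type u) [AddCommGroup A] [Module R A] [Module.Finite R A] [AddCommGroup B]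
      [Module R B], Module.IsStablyFree R A → Module.IsStablyFree R (A × B) →
        Module.IsStablyFree R B := by
    intro A B _ _ _ _ _ hA hAB
    obtain ⟨F, _, _, _, _, _⟩ := Module.IsStablyFree.exist_free_prod R A
    obtain ⟨G, _, _, _, _, _⟩ := Module.IsStablyFree.exist_free_prod R (A × B)
    haveI : Module.Free R (B × ((A × F) × G)) :=
      Module.Free.of_equiv
        (({ toFun := fun x => (x.1.1.2, ((x.1.1.1, x.2), x.1.2))
            invFun := fun x => (((x.2.1.1, x.1), x.2.2), x.2.1.2)
            map_add' := fun _ _ => rfl
            map_smul' := fun _ _ => rfl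
            left_inv := fun _ => rfl
            right_inv := fun _ => rfl } : (((A × B) × G) × F) ≃ₗ[R] B × ((A × F) × G)))
    exact Module.IsStablyFree.of_free_prod R B ((A × F) × G)
  obtain ⟨s, hs⟩ := Module.projective_lifting_property g LinearMap.id hg
  obtain ⟨e, -, -⟩ := hfg.splitSurjectiveEquiv hf ⟨s, hs⟩
  refine ⟨fun h1 h2 => hcancel P' P'' h1 (h2.equiv e), fun h1 h2 => (hsum P' P'' h1 h2).equiv e.symm,
    fun h1 h2 => hcancel P'' P' h2 ((h1.equiv e).equiv (LinearEquiv.prodComm R P' P''))⟩

end Groth.Agent.S6862
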