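import Groth.Statements.S6863
import Groth.Agent.L03.ModJac
import Mathlib.LinearAlgebra.StdBasis
import Mathlib.Algebra.Exact.Basic
import Mathlib.RingTheory.TensorProduct.Finite
import Mathlib.LinearAlgebra.FreeModule.Finite.Basic
import Mathlib.RingTheory.Finiteness.Prod

set_option autoImplicit false
universe u
open TensorProduct
open CAlg

namespace Groth.Agent.S6863

/-- Let `I` be an ideal of a commutative ring `R` contained in the Jacobson radical (equivalently, `1 +
i` is a unit for each `i ∈ I`). Then each finitely generated stably free module `E` over `R/I`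
lifts: there is a finite stably free `R`-module `M` with `M/IM ≅ E` (existence of an isomorphism
only; the published statement names no map). -/
theorem result {R : Type u} [CommRing R] (I : Ideal R)
    (hI : I ≤ Ideal.jacobson (⊥ : Ideal R)) (E : Type u) [AddCommGroup E] [Module (R ⧸ I) E]
    [Module.Finite (R ⧸ I) E] [Module.IsStablyFree (R ⧸ I) E] :
    ∃ (M : Type u) (_ : AddCommGroup M) (_ : Module R M), Module.Finite R M ∧ Module.IsStablyFree R M ∧
      Nonempty ((R ⧸ I) ⊗[R] M ≃ₗ[R ⧸ I] E) := by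
  classical
  obtain ⟨N, _, _, _, _, _⟩ := Module.IsStablyFree.exist_free_prod (R ⧸ I) E
  obtain ⟨n, ⟨eN⟩⟩ : ∃ n, Nonempty (N ≃ₗ[R ⧸ I] (Fin n → R ⧸ I)) :=
    ⟨_, ⟨((Module.Free.chooseBasis (R ⧸ I) N).reindex (Fintype.equivFin _)).equivFun⟩⟩
  obtain ⟨m, ⟨eM⟩⟩ : ∃ m, Nonempty ((E × N) ≃ₗ[R ⧸ I] (Fin m → R ⧸ I)) :=
    ⟨_, ⟨((Module.Free.chooseBasis (R ⧸ I) (E × N)).reindex (Fintype.equivFin _)).equivFun⟩⟩
  let q : (Fin m → R ⧸ I) →ₗ[R ⧸ I] (Fin n → R ⧸ I) :=
    eN.toLinearMap ∘ₗ LinearMap.snd (R ⧸ I) E N ∘ₗ eM.symm.toLinearMap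
  have hq : Function.Surjective q := fun y => ⟨eM (0, eN.symm y), by simp [q]⟩
  have hE : Nonempty (E ≃ₗ[R ⧸ I] LinearMap.ker q) := by
    refine ⟨LinearEquiv.ofBijective
      ((eM.toLinearMap ∘ₗ LinearMap.inl (R ⧸ I) E N).codRestrict _ fun x => by simp [q]) ⟨?_, ?_⟩⟩
    · intro a b hab
      have := eM.injective (Subtype.ext_iff.1 hab)
      exact congrArg Prod.fst this
    · rintro ⟨y, hy⟩
      refine ⟨(eM.symm y).1, Subtype.ext ?_⟩
      have h2 : (eM.symm y).2 = 0 := eN.injective (by simpa [q] using hy)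
      change eM ((eM.symm y).1, 0) = y
      rw [show ((eM.symm y).1, (0 : N)) = eM.symm y from Prod.ext rfl h2.symm]
      exact eM.apply_symm_apply y
  obtain ⟨eE⟩ := hE
  let red : ∀ k : ℕ, (Fin k → R) →ₗ[R] (Fin k → R ⧸ I) := fun k =>
    LinearMap.pi fun i => (Algebra.linearMap R (R ⧸ I)) ∘ₗ LinearMap.proj i
  have hred : ∀ k, Function.Surjective (red k) := fun k y => by
    choose x hx using fun i => Ideal.Quotient.mk_surjective (y i)
    exact ⟨x, funext hx⟩
  have hred0 : ∀ k (x : Fin k → R), red k x = 0 → x ∈ I • (⊤ : Submodule R (Fin k → R)) := by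
    intro k x hx
    rw [← Pi.basisFun R (Fin k) |>.sum_repr x]
    refine Submodule.sum_mem _ fun i _ => Submodule.smul_mem_smul ?_ trivial
    rw [Pi.basisFun_repr]
    exact Ideal.Quotient.eq_zero_iff_mem.1 (congrFun hx i)
  obtain ⟨Q, hQ⟩ := Module.projective_lifting_property (red n)
    ((q.restrictScalars R) ∘ₗ red m) (hred n)
  have hQ' : ∀ x, red n (Q x) = q (red m x) := LinearMap.congr_fun hQ
  have hQs : Function.Surjective Q := by
    refine LinearMap.surjective_of_surjective_comp_mkQ Q I hI fun z => ?_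
    obtain ⟨y, rfl⟩ := Submodule.mkQ_surjective _ z
    obtain ⟨w, hw⟩ := hq (red n y)
    obtain ⟨x, rfl⟩ := hred m w
    refine ⟨x, ?_⟩
    rw [LinearMap.comp_apply, Submodule.mkQ_apply, Submodule.mkQ_apply, Submodule.Quotient.eq]
    exact hred0 _ _ (by rw [map_sub, hQ', hw, sub_self])
  obtain ⟨t, ht⟩ := Module.projective_lifting_property Q LinearMap.id hQs
  have ht' : ∀ y, Q (t y) = y := LinearMap.congr_fun ht
  let p : (Fin m → R) →ₗ[R] LinearMap.ker Q :=
    (LinearMap.id - t ∘ₗ Q).codRestrict _ fun x => by simp [ht']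
  have hp : ∀ x : LinearMap.ker Q, p x.1 = x := fun x => Subtype.ext (by simp [p, LinearMap.mem_ker.1 x.2])
  haveI : Module.Finite R (LinearMap.ker Q) := Module.Finite.of_surjective p fun x => ⟨x.1, hp x⟩
  have hex : Function.Exact (LinearMap.ker Q).subtype Q := LinearMap.exact_subtype_ker_map Q
  obtain ⟨esplit, -, -⟩ := hex.splitSurjectiveEquiv Subtype.val_injective ⟨t, ht⟩
  haveI : Module.Free R (LinearMap.ker Q × (Fin n → R)) := Module.Free.of_equiv esplit
  let toK : LinearMap.ker Q →ₗ[R] LinearMap.ker q :=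
    (red m ∘ₗ (LinearMap.ker Q).subtype).codRestrict ((LinearMap.ker q).restrictScalars R) fun x => by
      simp only [Submodule.restrictScalars_mem, LinearMap.mem_ker, LinearMap.comp_apply,
        Submodule.subtype_apply]
      rw [← hQ', LinearMap.mem_ker.1 x.2, map_zero]
  refine ⟨LinearMap.ker Q, inferInstance, inferInstance, inferInstance,
    Module.IsStablyFree.of_free_prod R _ (Fin n → R),
    ⟨(LinearEquiv.ofBijective (toK.liftBaseChange (R ⧸ I)) ⟨?_, ?_⟩).trans eE.symm⟩⟩
  · rw [← LinearMap.ker_eq_bot, LinearMap.ker_eq_bot']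
    intro z hz
    obtain ⟨x, rfl⟩ := Groth.L03.ModJac.exists_one_tmul z
    rw [LinearMap.liftBaseChange_tmul, one_smul] at hz
    rw [Groth.L03.ModJac.one_tmul_eq_zero_iff]
    have := Groth.L03.ModJac.mem_smul_range p (hred0 m x.1 (congrArg Subtype.val hz))
    rw [hp] at this
    exact Submodule.smul_mono le_rfl le_top this
  · rintro ⟨v, hv⟩
    obtain ⟨w, rfl⟩ := hred m v
    refine ⟨1 ⊗ₜ p w, Subtype.ext ?_⟩
    rw [LinearMap.liftBaseChange_tmul, one_smul]
    change red m (w - t (Q w)) = red m w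
    rw [map_sub, sub_eq_self]
    have : t (Q w) ∈ I • (⊤ : Submodule R (Fin m → R)) :=
      Submodule.smul_mono le_rfl le_top (Groth.L03.ModJac.mem_smul_range t
        (hred0 n (Q w) (by rw [hQ']; exact LinearMap.mem_ker.1 hv)))
    funext i
    refine Ideal.Quotient.eq_zero_iff_mem.2 ?_
    refine Submodule.smul_induction_on this (fun r hr y _ => I.mul_mem_right _ hr)
      (fun a b ha hb => I.add_mem ha hb)

end Groth.Agent.S6863
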