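import Groth.Statements.S6866
import Groth.Agent.L03.Lattice
import Mathlib.LinearAlgebra.TensorProduct.Pi
import Mathlib.RingTheory.Flat.Basic
import Mathlib.Algebra.Module.Torsion.Free

set_option autoImplicit false
universe u
open TensorProduct
open CAlg

namespace Groth.Agent.S6866

/-- If `M` is a torsion free module over a domain `R` and `R → R'` is a flat ring map to another domain,
then `R' ⊗_R M` is torsion free over `R'`. -/
theorem result (R R' : Type u) [CommRing R] [IsDomain R] [CommRing R']
    [IsDomain R'] [Algebra R R'] [Module.Flat R R'] (M : Type u) [AddCommGroup M] [Module R M]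
    [Module.IsTorsionFree R M] : Module.IsTorsionFree R' (R' ⊗[R] M) := by
  classical
  rw [Module.isTorsionFree_iff_smul_eq_zero]
  intro r z hrz
  obtain ⟨M₀, hfg, hz⟩ : ∃ M₀ : Submodule R M, M₀.FG ∧ z ∈ LinearMap.range (M₀.subtype.baseChange R') := by
    clear hrz
    induction z with
    | zero => exact ⟨⊥, Submodule.fg_bot, zero_mem _⟩
    | tmul a m => exact ⟨R ∙ m, Submodule.fg_span_singleton m,
        a ⊗ₜ ⟨m, Submodule.mem_span_singleton_self m⟩, by simp⟩
    | add x y hx hy =>
      obtain ⟨P, hP, u, rfl⟩ := hx
      obtain ⟨Q, hQ, v, rfl⟩ := hy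
      refine ⟨P ⊔ Q, hP.sup hQ,
        (Submodule.inclusion (le_sup_left (b := Q))).baseChange R' u +
          (Submodule.inclusion (le_sup_right (a := P))).baseChange R' v, ?_⟩
      rw [map_add, ← LinearMap.comp_apply, ← LinearMap.baseChange_comp, ← LinearMap.comp_apply,
        ← LinearMap.baseChange_comp, Submodule.subtype_comp_inclusion, Submodule.subtype_comp_inclusion]
  haveI : Module.Finite R M₀ := Module.Finite.iff_fg.2 hfg
  haveI : Module.IsTorsionFree R M₀ := Function.Injective.moduleIsTorsionFree M₀.subtype Subtype.val_injective (map_smul _)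
  obtain ⟨n, f, g, c, hc, hgf, -⟩ := Groth.L03.Lattice.exists_free_comp (R := R) M₀
  have hf := Groth.L03.Lattice.injective_of_comp f g hc hgf
  obtain ⟨w, rfl⟩ := hz
  by_cases hr : r = 0
  · exact Or.inl hr
  right
  have hinj : Function.Injective (M₀.subtype.baseChange R') :=
    Module.Flat.lTensor_preserves_injective_linearMap M₀.subtype Subtype.val_injective
  have hinj2 : Function.Injective (f.baseChange R') :=
    Module.Flat.lTensor_preserves_injective_linearMap f hf
  have h0 : r • f.baseChange R' w = 0 := by
    rw [← map_smul]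
    rw [← map_smul] at hrz
    rw [hinj (hrz.trans (map_zero _).symm), map_zero]
  let e := TensorProduct.piScalarRight R R' R' (Fin n)
  have : f.baseChange R' w = 0 := e.injective (by
    funext i
    have h1 := congrFun (congrArg e h0) i
    rw [map_smul, map_zero, Pi.smul_apply, Pi.zero_apply, smul_eq_mul] at h1
    rw [map_zero, Pi.zero_apply]
    exact (mul_eq_zero.1 h1).resolve_left hr)
  rw [hinj2 (this.trans (map_zero _).symm), map_zero]

end Groth.Agent.S6866
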