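import Groth.Statements.S6868
import Groth.Agent.L01.DepthBasic
import Mathlib.RingTheory.Ideal.AssociatedPrime.Localization
import Mathlib.RingTheory.Ideal.Height
-- import your own Groth.Agent.* helpers here

set_option autoImplicit false
universe u
open CAlg

namespace Groth.Agent.S6868

/-- (1) ⇔ (3) ⇔ (4): for a Noetherian domain `R` and a nonzero finite `R`-module `M`, torsion-freeness
of `M` is equivalent to `(0)` being the unique associated prime of `M`, and also to the conjunction:
`(0)` belongs to the support of `M` and `M` satisfies Serre's condition `(S_1)`. (The published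
statement also lists embedding into a finite free module and the absence of embedded associated
primes; this row states the other three conditions.) -/
theorem result (R : Type u) [CommRing R]
    [IsDomain R] [IsNoetherianRing R] (M : Type u) [AddCommGroup M] [Module R M] [Module.Finite R M] [Nontrivial M] :
    (Module.IsTorsionFree R M ↔ associatedPrimes R M = {⊥}) ∧
    (Module.IsTorsionFree R M ↔
      (⟨⊥, Ideal.isPrime_bot⟩ : PrimeSpectrum R) ∈ Module.support R M ∧ LocCoh.HasSk 1 R M) := by
  classical
  have h1 : Module.IsTorsionFree R M → associatedPrimes R M = {⊥} := by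
    intro h
    have key : ∀ p ∈ associatedPrimes R M, p = ⊥ := by
      intro p hp
      obtain ⟨hp', x, hx⟩ := isAssociatedPrime_iff.1 hp
      refine (Submodule.eq_bot_iff _).2 fun a ha => ?_
      rw [hx] at ha
      rcases Module.isTorsionFree_iff_smul_eq_zero.1 h a x
        ((Submodule.mem_bot R).1 (Submodule.mem_colon_singleton.1 ha)) with h0 | h0
      · exact h0
      · exfalso
        refine hp'.ne_top ((Ideal.eq_top_iff_one _).2 ?_)
        rw [hx, Submodule.mem_colon_singleton]
        simp [h0]
    obtain ⟨p, hp⟩ := associatedPrimes.nonempty R M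
    exact Set.eq_singleton_iff_unique_mem.2 ⟨key p hp ▸ hp, key⟩
  have h2 : associatedPrimes R M = {⊥} → Module.IsTorsionFree R M := by
    intro h
    refine Module.isTorsionFree_iff_smul_eq_zero.2 fun r v hrv => ?_
    by_contra! hne
    obtain ⟨p, hp, hle⟩ := exists_le_isAssociatedPrime_of_isNoetherianRing R v hne.2
    have hp0 : p ∈ associatedPrimes R M := hp
    rw [h, Set.mem_singleton_iff] at hp0
    have hr : r ∈ p := hle (Submodule.mem_colon_singleton.2 hrv)
    rw [hp0] at hr
    exact hne.1 hr
  refine ⟨⟨h1, h2⟩, ⟨fun h => ⟨?_, fun p _ => ?_⟩, fun ⟨hs, hS⟩ => h2 ?_⟩⟩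
  · obtain ⟨v, hv⟩ := exists_ne (0 : M)
    refine Module.mem_support_iff'.2 ⟨v, fun r hr e => ?_⟩
    rcases Module.isTorsionFree_iff_smul_eq_zero.1 h r v e with h0 | h0
    · exact hr h0
    · exact hv h0
  · by_cases hp : p = ⊥
    · refine le_trans ((min_le_right _ _).trans (Module.supportDim_le_ringKrullDim _ _)) ?_
      rw [IsLocalization.AtPrime.ringKrullDim_eq_height p,
        show p.height = 0 from (congrArg Ideal.height hp).trans Ideal.height_bot]
      exact Groth.L01.coe_zero_le_depth
    · obtain ⟨a, ha, ha0⟩ := Submodule.exists_mem_ne_zero_of_ne_bot hp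
      refine le_trans (min_le_left _ _) ?_
      have hreg : IsSMulRegular (LocalizedModule p.primeCompl M) (algebraMap R (Localization.AtPrime p) a) := by
        refine IsSMulRegular.of_right_eq_zero_of_smul fun z hz => ?_
        rw [algebraMap_smul] at hz
        induction z using LocalizedModule.induction_on with
        | h m s =>
          rw [LocalizedModule.smul'_mk] at hz
          obtain ⟨c, hc⟩ := LocalizedModule.mk_eq.1 (hz.trans (LocalizedModule.zero_mk s).symm)
          simp only [Submonoid.smul_def, smul_zero] at hc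
          have hne : ∀ u : p.primeCompl, (u : R) ≠ 0 := fun u e => u.2 (e ▸ p.zero_mem)
          have hm : m = 0 := (Module.isTorsionFree_iff_smul_eq_zero.1 h a m
            ((Module.isTorsionFree_iff_smul_eq_zero.1 h _ _
              ((Module.isTorsionFree_iff_smul_eq_zero.1 h _ _ hc).resolve_left (hne c))).resolve_left (hne s))).resolve_left ha0
          rw [hm, LocalizedModule.zero_mk]
      exact_mod_cast Groth.L01.one_le_depth ((IsLocalization.AtPrime.to_map_mem_maximal_iff _ p a).2 ha) hreg
  · have key : ∀ p ∈ associatedPrimes R M, p = ⊥ := by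
      intro p hp
      by_contra hp0
      obtain ⟨hp', x, hx⟩ := isAssociatedPrime_iff.1 hp
      haveI := hp'
      obtain ⟨v, hv⟩ := Module.mem_support_iff'.1 hs
      let Rp := Localization.AtPrime p
      let Mp := LocalizedModule p.primeCompl M
      let ι := LocalizedModule.mkLinearMap p.primeCompl M
      have hx0 : ι x ≠ 0 := by
        intro e
        obtain ⟨⟨s, hs'⟩, e⟩ := (IsLocalizedModule.eq_zero_iff p.primeCompl _).1 e
        exact hs' (show s ∈ p from hx ▸ Submodule.mem_colon_singleton.2 ((Submodule.mem_bot R).2 e))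
      have hd : LocCoh.depth Rp Mp = 0 := by
        refine Groth.L01.depth_eq_zero_of_smul_eq_zero hx0 fun y hy => ?_
        obtain ⟨a, s, rfl⟩ := IsLocalization.exists_mk'_eq p.primeCompl y
        have ha : a ∈ p := (IsLocalization.AtPrime.mk'_mem_maximal_iff _ p a s).1 hy
        rw [IsLocalization.mk'_eq_mul_mk'_one, mul_comm, mul_smul, algebraMap_smul, ← map_smul,
          (Submodule.mem_bot R).1 (Submodule.mem_colon_singleton.1 (hx ▸ ha)), map_zero, smul_zero]
      have hbot : (⟨⊥, Ideal.isPrime_bot⟩ : PrimeSpectrum Rp) ∈ Module.support Rp Mp := by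
        refine Module.mem_support_iff'.2 ⟨ι v, fun y hy e => hy ?_⟩
        obtain ⟨a, s, rfl⟩ := IsLocalization.exists_mk'_eq p.primeCompl y
        have hu : IsUnit (IsLocalization.mk' Rp (1 : R) s) :=
          IsUnit.of_mul_eq_one (algebraMap R _ (s : R)) (IsLocalization.mk'_spec _ _ _ |>.trans (map_one _))
        rw [IsLocalization.mk'_eq_mul_mk'_one, mul_comm, mul_smul, algebraMap_smul, ← map_smul,
          hu.smul_eq_zero] at e
        obtain ⟨c, hc⟩ := (IsLocalizedModule.eq_zero_iff p.primeCompl _).1 e
        rw [Submonoid.smul_def, smul_smul] at hc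
        have : (c : R) * a = 0 := by_contra fun h => hv _ h hc
        rcases mul_eq_zero.1 this with h | h
        · exact absurd (h ▸ p.zero_mem : (c : R) ∈ p) c.2
        · show IsLocalization.mk' Rp a s ∈ (⊥ : Ideal Rp)
          rw [h, IsLocalization.mk'_zero]; exact Submodule.zero_mem _
      haveI : Nontrivial Mp := ⟨_, _, hx0⟩
      have hdim : (1 : WithBot ℕ∞) ≤ Module.supportDim Rp Mp := by
        refine Order.one_le_krullDim_iff.2 ⟨⟨_, hbot⟩, ⟨IsLocalRing.closedPoint Rp, IsLocalRing.closedPoint_mem_support Rp Mp⟩, ?_⟩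
        refine lt_of_le_of_ne (show (⊥ : Ideal Rp) ≤ IsLocalRing.maximalIdeal Rp from bot_le) fun e => hp0 ?_
        have h' : IsLocalRing.maximalIdeal Rp = ⊥ := (congr_arg (fun q => q.1.asIdeal) e).symm
        rw [← IsLocalization.AtPrime.under_maximalIdeal Rp p]
        show (IsLocalRing.maximalIdeal Rp).comap (algebraMap R Rp) = ⊥
        rw [h']
        exact (RingHom.injective_iff_ker_eq_bot _).1 (IsLocalization.injective Rp p.primeCompl_le_nonZeroDivisors)
      have h3 := hS p
      rw [hd] at h3
      have : (1 : WithBot ℕ∞) ≤ 0 := (le_min le_rfl hdim).trans (by exact_mod_cast h3)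
      exact absurd this (by decide)
    obtain ⟨p, hp⟩ := associatedPrimes.nonempty R M
    exact Set.eq_singleton_iff_unique_mem.2 ⟨key p hp ▸ hp, key⟩

end Groth.Agent.S6868
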