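import Groth.Statements.S6869
import Groth.Agent.L03.Lattice

set_option autoImplicit false
universe u
open CAlg

namespace Groth.Agent.S6869

/-- For a domain `R` and a finite `R`-module `M`, the evaluation map `M → M**` into the double dual is
injective exactly when `M` is torsion free. -/
theorem result (R : Type u) [CommRing R] [IsDomain R] (M : Type u)
    [AddCommGroup M] [Module R M] [Module.Finite R M] :
    Function.Injective (Module.Dual.eval R M) ↔ Module.IsTorsionFree R M := by
  constructor
  · intro h
    exact h.moduleIsTorsionFree _ (map_smul _)
  · intro _
    obtain ⟨n, f, g, c, hc, hgf, -⟩ := Groth.L03.Lattice.exists_free_comp (R := R) M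
    rw [← LinearMap.ker_eq_bot, LinearMap.ker_eq_bot']
    intro x hx
    apply Groth.L03.Lattice.injective_of_comp f g hc hgf
    rw [map_zero]
    funext i
    have := LinearMap.congr_fun hx (LinearMap.proj i ∘ₗ f)
    simpa using this

end Groth.Agent.S6869
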