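import Groth.Statements.S6870
import Groth.Agent.L03.Lattice
import Mathlib.LinearAlgebra.Dual.Lemmas

set_option autoImplicit false
universe u
open CAlg

namespace Groth.Agent.S6870

/-- Let `R` be a domain, `M` a finite `R`-module and `j : M → M**` the evaluation map into the double
dual. Then one nonzero `c ∈ R` kills the kernel of `j` and multiplies `M**` into the image of `j`.
(The published statement says only that the kernel and cokernel of `j` are torsion; this row gives
one such `c` for both.) -/
theorem result (R : Type u) [CommRing R] [IsDomain R] (M : Type u)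
    [AddCommGroup M] [Module R M] [Module.Finite R M] :
    ∃ c : R, c ≠ 0 ∧ (∀ x : M, Module.Dual.eval R M x = 0 → c • x = 0) ∧
      ∀ y : Module.Dual R (Module.Dual R M), c • y ∈ LinearMap.range (Module.Dual.eval R M) := by
  obtain ⟨n, f, g, c, hc, hgf, hfg⟩ := Groth.L03.Lattice.exists_free_comp (R := R) M
  refine ⟨c, hc, fun x hx => ?_, fun y => ?_⟩
  · have : f x = 0 := by
      funext i
      have := LinearMap.congr_fun hx (LinearMap.proj i ∘ₗ f)
      simpa using this
    rw [← hgf, this, map_zero]
  · obtain ⟨z, hz⟩ := (Module.evalEquiv R (Fin n → R)).surjective (f.dualMap.dualMap y)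
    refine ⟨g z, LinearMap.ext fun φ => ?_⟩
    have h1 : φ (g z) = y ((φ ∘ₗ g) ∘ₗ f) := by
      have := LinearMap.congr_fun hz (φ ∘ₗ g)
      simpa [LinearMap.dualMap_apply'] using this
    have h2 : (φ ∘ₗ g) ∘ₗ f = c • φ := by
      ext x
      simp [hgf]
    rw [Module.Dual.eval_apply, h1, h2, map_smul]
    rfl

end Groth.Agent.S6870
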