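import Groth.Statements.S6878
import Mathlib.RingTheory.Ideal.AssociatedPrime.Basic

set_option autoImplicit false
universe u
open CAlg

namespace Groth.Agent.S6878

/-- Let `R` be a Noetherian ring and `φ : M → N` a map of `R`-modules. Suppose that for every prime `𝔭`
of `R` either `M_𝔭 → N_𝔭` is injective or `𝔭` is not an associated prime of `M`. Then `φ` is
injective. -/
theorem result (R : Type u) [CommRing R]
    [IsNoetherianRing R] {M N : Type u} [AddCommGroup M] [Module R M] [AddCommGroup N] [Module R N] (φ : M →ₗ[R] N)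
    (h : ∀ (p : Ideal R) [p.IsPrime],
      Function.Injective (LocalizedModule.map p.primeCompl φ) ∨ p ∉ associatedPrimes R M) :
    Function.Injective φ := by
  rw [← LinearMap.ker_eq_bot]
  by_contra hne
  obtain ⟨x, hx, hx0⟩ := Submodule.exists_mem_ne_zero_of_ne_bot hne
  obtain ⟨p, hp, -⟩ := exists_le_isAssociatedPrime_of_isNoetherianRing R (⟨x, hx⟩ : LinearMap.ker φ)
    (by simpa [Subtype.ext_iff] using hx0)
  haveI := hp.isPrime
  obtain ⟨-, ⟨y, hy⟩, hann⟩ := isAssociatedPrime_iff.1 hp
  rcases h p with h' | h'
  · have h0 : LocalizedModule.mk y (1 : p.primeCompl) = 0 := by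
      apply h'
      rw [map_zero, LocalizedModule.map_mk, LinearMap.mem_ker.1 hy, LocalizedModule.zero_mk]
    rw [← LocalizedModule.zero_mk (1 : p.primeCompl), LocalizedModule.mk_eq] at h0
    obtain ⟨u, hu⟩ := h0
    simp only [one_smul, smul_zero, Submonoid.smul_def] at hu
    have hmem : (u : R) ∈ Submodule.colon (⊥ : Submodule R (LinearMap.ker φ)) {⟨y, hy⟩} := by
      rw [Submodule.mem_colon_singleton, Submodule.mem_bot]
      exact Subtype.ext hu
    rw [← hann] at hmem
    exact u.2 hmem
  · exact h' (hp.map_of_injective (LinearMap.ker φ).subtype Subtype.val_injective)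

end Groth.Agent.S6878
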