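import Groth.Statements.S6881
import Groth.Agent.L03.Reflexive
import Mathlib.RingTheory.Polynomial.ScaleRoots
import Mathlib.LinearAlgebra.Matrix.Charpoly.LinearMap
-- import your own Groth.Agent.* helpers here

set_option autoImplicit false
universe u
open CAlg

namespace Groth.Agent.S6881

/-- For `A` a Noetherian integrally closed domain with fraction field `K` and `L/K` a finite field
extension, if the integral closure of `A` in `L` is a finitely generated `A`-module then it is a
reflexive `A`-module. -/
theorem result (A K L : Type u) [CommRing A] [IsDomain A] [IsNoetherianRing A]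
    [IsIntegrallyClosed A] [Field K] [Algebra A K] [IsFractionRing A K] [Field L] [Algebra K L] [FiniteDimensional K L]
    [Algebra A L] [IsScalarTower A K L] [Module.Finite A ↥(integralClosure A L)] :
    Module.IsReflexive A ↥(integralClosure A L) := by
  classical
  let B := ↥(integralClosure A L)
  have hAL : Function.Injective (algebraMap A L) := by
    rw [IsScalarTower.algebraMap_eq A K L]
    exact (algebraMap K L).injective.comp (IsFractionRing.injective A K)
  haveI : FaithfulSMul A L := (faithfulSMul_iff_algebraMap_injective A L).2 hAL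
  haveI : Module.IsTorsionFree A B := by
    refine Module.isTorsionFree_iff_smul_eq_zero.2 fun r v hrv => ?_
    have h : algebraMap A L r * (v : L) = 0 := by
      rw [← Algebra.smul_def]; exact congr_arg Subtype.val hrv
    rcases mul_eq_zero.1 h with h | h
    · exact Or.inl (hAL (h.trans (map_zero _).symm))
    · exact Or.inr (Subtype.ext h)
  refine ⟨⟨Groth.L03.Reflexive.eval_injective B, fun φ => ?_⟩⟩
  obtain ⟨n, f, g, c, hc, hgf, -⟩ := Groth.L03.Lattice.exists_free_comp (R := A) B
  obtain ⟨z, hz⟩ := (Module.evalEquiv A (Fin n → A)).surjective (f.dualMap.dualMap φ)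
  let b : B := g z
  have hb : ∀ l : Module.Dual A B, l b = c * φ l := fun l => by
    have h1 : l (g z) = φ ((l ∘ₗ g) ∘ₗ f) := by
      have := LinearMap.congr_fun hz (l ∘ₗ g)
      simpa [LinearMap.dualMap_apply'] using this
    have h2 : (l ∘ₗ g) ∘ₗ f = c • l := by ext x; simp [hgf]
    rw [h1, h2, map_smul, smul_eq_mul]
  let D : B →ₐ[A] Module.End A (Module.Dual A B) := AlgHom.ofLinearMap
    (Module.Dual.transpose.comp (LinearMap.mul A B))
    (by ext l x; simp [Module.Dual.transpose_apply])
    (fun x y => by ext l w; simp [Module.Dual.transpose_apply, mul_assoc, mul_comm, mul_left_comm])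
  let η : Module.End A (Module.Dual A B) := LinearMap.mk₂ A (fun l x => φ (D x l))
    (fun l l' x => by simp) (fun a l x => by simp) (fun l x x' => by simp) (fun a l x => by simp)
  have hη : algebraMap A (Module.End A (Module.Dual A B)) c * η = D b := by
    ext l x
    show c * φ (D x l) = l (b * x)
    rw [← hb]
    show l (x * b) = _
    rw [mul_comm]
  haveI : Module.Finite A (Module.Dual A B) := inferInstance
  obtain ⟨p, hp, hpη⟩ := LinearMap.exists_monic_and_aeval_eq_zero (R := A) η
  have hq := Polynomial.scaleRoots_aeval_eq_zero (r := c) hpη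
  rw [hη, Polynomial.aeval_algHom_apply] at hq
  have hqb : Polynomial.aeval b (p.scaleRoots c) = 0 := by
    refine Groth.L03.Reflexive.eval_injective (R := A) B (LinearMap.ext fun l => ?_)
    rw [map_zero]
    have h1 : l (Polynomial.aeval b (p.scaleRoots c) * 1) = 0 :=
      LinearMap.congr_fun (LinearMap.congr_fun hq l) 1
    rw [mul_one] at h1
    exact h1
  have hcL : algebraMap A L c ≠ 0 := fun h => hc (hAL (h.trans (map_zero _).symm))
  have hint : ((b : L) / algebraMap A L c) ∈ integralClosure A L := by
    refine ⟨p, hp, ?_⟩
    have h2 : Polynomial.aeval (b : L) (p.scaleRoots c) = 0 := by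
      have := congr_arg (integralClosure A L).val hqb
      rwa [← Polynomial.aeval_algHom_apply, map_zero] at this
    have h3 := Polynomial.scaleRoots_eval₂_mul (p := p) (algebraMap A L) ((b : L) / algebraMap A L c) c
    rw [mul_div_cancel₀ _ hcL, ← Polynomial.aeval_def, h2] at h3
    exact (mul_eq_zero.1 h3.symm).resolve_left (pow_ne_zero _ hcL)
  refine ⟨⟨_, hint⟩, LinearMap.ext fun l => mul_left_cancel₀ hc ?_⟩
  rw [← hb, Module.Dual.eval_apply, ← smul_eq_mul, ← map_smul]
  refine congr_arg l (Subtype.ext ?_)
  simp only [SetLike.val_smul, Algebra.smul_def]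
  exact mul_div_cancel₀ _ hcL

end Groth.Agent.S6881
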