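import Groth.Statements.S6882
import Mathlib.LinearAlgebra.FreeModule.PID
import Mathlib.Algebra.Module.Torsion.Basic
import Mathlib.Algebra.Module.PID
import Mathlib.Algebra.Module.Torsion.Free
import Mathlib.LinearAlgebra.Dual.Lemmas

set_option autoImplicit false
universe u
open CAlg

namespace Groth.Agent.S6882

/-- For a finite module `M` over a discrete valuation ring `R`, the evaluation map from `M` to its
double dual `M**` is surjective. -/
theorem result (R : Type u) [CommRing R] [IsDomain R]
    [IsDiscreteValuationRing R] (M : Type u) [AddCommGroup M] [Module R M] [Module.Finite R M] :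
    Function.Surjective (Module.Dual.eval R M) := by
  haveI : Module.Free R (M ⧸ Submodule.torsion R M) := inferInstance
  intro y
  obtain ⟨z, hz⟩ := (Module.evalEquiv R (M ⧸ Submodule.torsion R M)).surjective
    ((Submodule.torsion R M).mkQ.dualMap.dualMap y)
  obtain ⟨x, rfl⟩ := Submodule.mkQ_surjective _ z
  refine ⟨x, LinearMap.ext fun φ => ?_⟩
  have hle : Submodule.torsion R M ≤ LinearMap.ker φ := by
    intro a ha
    obtain ⟨⟨c, hc⟩, hca⟩ := (Submodule.mem_torsion_iff a).1 ha
    rw [LinearMap.mem_ker]
    have : c * φ a = 0 := by
      rw [← smul_eq_mul, ← map_smul]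
      simp only [Submonoid.smul_def] at hca
      rw [hca, map_zero]
    exact (mul_eq_zero.1 this).resolve_left (nonZeroDivisors.ne_zero hc)
  have := LinearMap.congr_fun hz ((Submodule.torsion R M).liftQ φ hle)
  simpa [LinearMap.dualMap_apply', Submodule.liftQ_mkQ] using this

end Groth.Agent.S6882
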