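import Groth.Statements.S6886
import Mathlib.RingTheory.AdjoinRoot
import Mathlib.RingTheory.IntegralClosure.IsIntegralClosure.Basic
import Mathlib.RingTheory.TensorProduct.Maps

set_option autoImplicit false
universe u
open TensorProduct
open CAlg

namespace Groth.Agent.S6886

/-- Let `R → S` be a finite ring map. One can find an extension `R ⊆ R'` of rings, with `R'` finite and
free as an `R`-module, for which the ring `S ⊗_R R'` arises as a quotient of `R'[T_1, …,
T_n]/(P_1(T_1), …, P_n(T_n))` with each `P_i(T) = ∏_j (T - α_{ij})` a product of linear factors over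
`R'`. -/
theorem result (R S : Type u) [CommRing R] [CommRing S] [Algebra R S]
    [Module.Finite R S] :
    ∃ (R' : Type u) (_ : CommRing R') (_ : Algebra R R'), Module.Finite R R' ∧ Module.Free R R' ∧
      Function.Injective (algebraMap R R') ∧
      ∃ (n : ℕ) (d : Fin n → ℕ) (α : (i : Fin n) → Fin (d i) → R')
        (φ : MvPolynomial (Fin n) R' →ₐ[R'] R' ⊗[R] S), Function.Surjective φ ∧
          ∀ i, φ (∏ j, (MvPolynomial.X i - MvPolynomial.C (α i j))) = 0 := by
  classical
  obtain ⟨n, x, hx⟩ := Module.Finite.exists_fin (R := R) (M := S)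
  rcases subsingleton_or_nontrivial R with hR | hR
  · haveI : Subsingleton (R ⊗[R] S) := Module.subsingleton R _
    exact ⟨R, inferInstance, inferInstance, inferInstance, inferInstance, Function.injective_id, 0, Fin.elim0, fun i => i.elim0,
      MvPolynomial.aeval Fin.elim0, fun z => ⟨0, Subsingleton.elim _ _⟩, fun i => i.elim0⟩
  choose p hpm hp0 using fun i => Algebra.IsIntegral.isIntegral (R := R) (x i)
  have hPm : (∏ i, p i).Monic := Polynomial.monic_prod_of_monic _ _ fun i _ => hpm i
  obtain ⟨R', _, _, hfin, hfree, _, hsplit⟩ := hPm.exists_splits_map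
  obtain ⟨m, hm⟩ := Polynomial.splits_iff_exists_multiset.mp hsplit
  rw [(hPm.map _).leadingCoeff, map_one, one_mul] at hm
  let y : Fin n → R' ⊗[R] S := fun i => Algebra.TensorProduct.includeRight (x i)
  refine ⟨R', inferInstance, inferInstance, hfin, hfree, ?_, n, fun _ => m.toList.length, fun _ j => m.toList.get j,
    MvPolynomial.aeval y, ?_, fun i => ?_⟩
  · rw [injective_iff_map_eq_zero]
    intro r hr
    let b := Module.Free.chooseBasis R R'
    have ⟨j⟩ : Nonempty (Module.Free.ChooseBasisIndex R R') := b.index_nonempty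
    have h : r • b j = 0 := by rw [Algebra.smul_def, hr, zero_mul]
    simpa using congrArg (fun v => b.repr v j) h
  · intro z
    induction z using TensorProduct.induction_on with
    | zero => exact ⟨0, map_zero _⟩
    | add a b ha hb =>
      obtain ⟨u, rfl⟩ := ha
      obtain ⟨v, rfl⟩ := hb
      exact ⟨u + v, map_add _ _ _⟩
    | tmul a s =>
      obtain ⟨c, hc⟩ := Submodule.mem_span_range_iff_exists_fun R |>.mp (show s ∈ Submodule.span R (Set.range x) from hx ▸ Submodule.mem_top)
      refine ⟨∑ j, MvPolynomial.C (a * algebraMap R R' (c j)) * MvPolynomial.X j, ?_⟩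
      rw [map_sum, ← hc, TensorProduct.tmul_sum]
      refine Finset.sum_congr rfl fun j _ => ?_
      rw [map_mul, MvPolynomial.aeval_C, MvPolynomial.aeval_X, Algebra.TensorProduct.algebraMap_apply, Algebra.algebraMap_self, RingHom.id_apply]
      show (a * algebraMap R R' (c j)) ⊗ₜ[R] (1 : S) * (1 : R') ⊗ₜ[R] x j = _
      rw [Algebra.TensorProduct.tmul_mul_tmul, mul_one, one_mul, TensorProduct.tmul_smul, TensorProduct.smul_tmul',
        Algebra.smul_def, mul_comm]
  · have h1 : Polynomial.aeval (y i) ((∏ i, p i).map (algebraMap R R')) = 0 := by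
      rw [Polynomial.aeval_map_algebraMap]
      show Polynomial.aeval (Algebra.TensorProduct.includeRight (x i)) _ = 0
      rw [Polynomial.aeval_algHom_apply, map_prod,
        Finset.prod_eq_zero (Finset.mem_univ i) (show Polynomial.aeval (x i) (p i) = 0 from hp0 i), map_zero]
    rw [hm, map_multiset_prod, Multiset.map_map] at h1
    rw [map_prod]
    refine Eq.trans ?_ h1
    conv_rhs => rw [← m.coe_toList, Multiset.map_coe, Multiset.prod_coe, ← List.ofFn_get (l := m.toList), List.map_ofFn, List.prod_ofFn]
    refine Finset.prod_congr rfl fun j _ => ?_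
    simp [y]

end Groth.Agent.S6886
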