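import Groth.Statements.S6887
import Mathlib.RingTheory.Nakayama
import Mathlib.LinearAlgebra.Matrix.Charpoly.Coeff
import Mathlib.RingTheory.Finiteness.Basic

set_option autoImplicit false
universe u
open Polynomial
open CAlg

namespace Groth.Agent.S6887

/-- Let `(A, I)` be a Zariski pair (`I` inside the Jacobson radical) and `A → B` a finite ring map.
Suppose `B/IB ≅ B₁ × B₂` as `A`-algebras with `A → B₁` surjective, and `b ∈ B` maps to `(1, 0)`.
Then there is a monic `f ∈ A[x]` with `f(b) = 0` whose reduction modulo `I` is `(x - 1) x^d` for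
some `d ≥ 1`. -/
theorem result (A B : Type u) [CommRing A] [CommRing B]
    [Algebra A B] [Module.Finite A B] (I : Ideal A) (hI : I ≤ Ideal.jacobson (⊥ : Ideal A))
    (B₁ B₂ : Type u) [CommRing B₁] [CommRing B₂] [Algebra A B₁] [Algebra A B₂]
    (e : (B ⧸ I.map (algebraMap A B)) ≃ₐ[A] B₁ × B₂) (h₁ : Function.Surjective (algebraMap A B₁)) (b : B)
    (hb : e (Ideal.Quotient.mk (I.map (algebraMap A B)) b) = (1, 0)) :
    ∃ (f : A[X]) (d : ℕ), f.Monic ∧ Polynomial.aeval b f = 0 ∧ 1 ≤ d ∧
      f.map (Ideal.Quotient.mk I) = (X - 1) * X ^ d := by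
  classical
  obtain ⟨m, w, hw⟩ := Module.Finite.exists_fin (R := A) (M := B)
  have hmem : ∀ x : B, Ideal.Quotient.mk (I.map (algebraMap A B)) x = 0 → x ∈ I • (⊤ : Submodule A B) := by
    intro x hx
    rw [Ideal.smul_top_eq_map]
    exact Ideal.Quotient.eq_zero_iff_mem.mp hx
  have hbb : b * b - b ∈ I • (⊤ : Submodule A B) := by
    apply hmem
    apply e.injective
    rw [map_sub, map_mul, map_sub, map_mul, hb, map_zero]
    simp
  let v : Fin (m + 2) → B := Fin.cons b (Fin.cons 0 (fun j => w j - b * w j))
  have hv : ∀ y : B, y - b * y ∈ Submodule.span A (Set.range v) := by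
    intro y
    have hy : y ∈ Submodule.span A (Set.range w) := hw ▸ Submodule.mem_top
    induction hy using Submodule.span_induction with
    | mem z hz =>
      obtain ⟨j, rfl⟩ := hz
      exact Submodule.subset_span ⟨j.succ.succ, by simp [v]⟩
    | zero => simp
    | add z z' _ _ hz hz' =>
      have : z + z' - b * (z + z') = (z - b * z) + (z' - b * z') := by ring
      rw [this]; exact add_mem hz hz'
    | smul c z _ hz =>
      have : c • z - b * (c • z) = c • (z - b * z) := by rw [smul_sub, mul_smul_comm]
      rw [this]; exact Submodule.smul_mem _ _ hz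
  have hspan : Submodule.span A (Set.range v) = ⊤ := by
    refine top_le_iff.mp (Submodule.le_of_le_smul_of_le_jacobson_bot Module.Finite.fg_top hI ?_)
    intro x _
    obtain ⟨a, ha⟩ := h₁ (e (Ideal.Quotient.mk _ x)).1
    have hby : b * (x - a • b) ∈ I • (⊤ : Submodule A B) := by
      apply hmem
      apply e.injective
      rw [map_mul, map_mul, hb, map_zero, map_sub, map_sub]
      have : Ideal.Quotient.mk (I.map (algebraMap A B)) (a • b) = a • Ideal.Quotient.mk (I.map (algebraMap A B)) b := rfl
      rw [this, map_smul, hb]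
      apply Prod.ext <;> simp [← ha, Algebra.smul_def]
    have hx : x = a • b + ((x - a • b) - b * (x - a • b)) + b * (x - a • b) := by ring
    rw [hx]
    exact Submodule.add_mem_sup (add_mem (Submodule.smul_mem _ _ (Submodule.subset_span ⟨0, by simp [v]⟩)) (hv _)) hby
  let δ : Fin (m + 2) → A := fun i => if i = 0 then 1 else 0
  have hcoef : ∀ i, ∃ (a : Fin (m + 2) →₀ A) (_ : ∀ k, a k ∈ I), (a.sum fun k c => c • v k) = b * v i - δ i • v i := by
    intro i
    rw [← Submodule.mem_ideal_smul_span_iff_exists_sum, hspan]
    refine Fin.cases ?_ (fun i => ?_) i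
    · simpa [v, δ] using hbb
    · refine Fin.cases ?_ (fun j => ?_) i
      · simp [v, δ]
      · have h0 : δ j.succ.succ = 0 := if_neg (Fin.succ_ne_zero _)
        rw [h0, zero_smul, sub_zero]
        apply hmem
        apply e.injective
        simp only [v, Fin.cons_succ]
        rw [map_mul, map_mul, map_sub, map_sub, map_mul, map_mul, hb, map_zero]
        apply Prod.ext <;> simp
  choose a ha hsum using hcoef
  let N : Matrix (Fin (m + 2)) (Fin (m + 2)) A := Matrix.of fun k i => a i k + if k = i then δ i else 0
  let π : (Fin (m + 2) → A) → B := fun c => ∑ k, c k • v k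
  have hN : ∀ c, π (N.mulVec c) = b * π c := by
    intro c
    have hcol : ∀ i, ∑ k, N k i • v k = b * v i := by
      intro i
      have := hsum i
      rw [Finsupp.sum_fintype _ _ (by simp)] at this
      simp [N, add_smul, Finset.sum_add_distrib, this, ite_smul]
    simp only [π, Matrix.mulVec, dotProduct, Finset.sum_smul, Finset.mul_sum, mul_smul_comm, ← hcol, Finset.smul_sum, smul_smul]
    rw [Finset.sum_comm]
    exact Finset.sum_congr rfl fun i _ => Finset.sum_congr rfl fun k _ => by rw [mul_comm]
  have hp : ∀ (p : A[X]) c, π ((aeval N p).mulVec c) = aeval b p * π c := by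
    intro p
    induction p using Polynomial.induction_on with
    | C r =>
      intro c
      rw [aeval_C, aeval_C, ← Algebra.smul_def, Algebra.algebraMap_eq_smul_one, Matrix.smul_mulVec, Matrix.one_mulVec]
      simp only [π, Finset.smul_sum, smul_smul, Pi.smul_apply, smul_eq_mul]
    | add p q hp hq =>
      intro c
      rw [map_add, map_add, Matrix.add_mulVec, add_mul, ← hp, ← hq]
      simp only [π, Pi.add_apply, add_smul, Finset.sum_add_distrib]
    | monomial n r ih =>
      intro c
      rw [pow_succ, ← mul_assoc, map_mul (aeval N) _ X, map_mul (aeval b) _ X, aeval_X, aeval_X, ← Matrix.mulVec_mulVec, ih, hN, mul_assoc]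
  refine ⟨N.charpoly, m + 1, N.charpoly_monic, ?_, by omega, ?_⟩
  · have h0 : ∀ i, aeval b N.charpoly * v i = 0 := by
      intro i
      have h := hp N.charpoly (Pi.single i 1)
      rw [Matrix.aeval_self_charpoly, Matrix.zero_mulVec] at h
      simpa [π, Pi.single_apply, ite_smul] using h.symm
    have h1 : (1 : B) ∈ Submodule.span A (Set.range v) := hspan ▸ Submodule.mem_top
    have : ∀ y ∈ Submodule.span A (Set.range v), aeval b N.charpoly * y = 0 := by
      intro y hy
      induction hy using Submodule.span_induction with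
      | mem z hz => obtain ⟨i, rfl⟩ := hz; exact h0 i
      | zero => simp
      | add z z' _ _ hz hz' => rw [mul_add, hz, hz', add_zero]
      | smul c z _ hz => rw [mul_smul_comm, hz, smul_zero]
    simpa using this 1 h1
  · rw [← Matrix.charpoly_map]
    have hd : N.map (Ideal.Quotient.mk I) = Matrix.diagonal (fun i => Ideal.Quotient.mk I (δ i)) := by
      ext k i
      have h0 : Ideal.Quotient.mk I (a i k) = 0 := Ideal.Quotient.eq_zero_iff_mem.mpr (ha i k)
      by_cases hki : k = i
      · subst hki; simp [N, h0]
      · simp [N, h0, hki]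
    rw [hd, Matrix.charpoly_diagonal, Fin.prod_univ_succ]
    simp [δ, Fin.succ_ne_zero]

end Groth.Agent.S6887
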