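import Groth.Statements.S6888
import Mathlib.RingTheory.Henselian
import Mathlib.Algebra.Polynomial.Derivative
import Mathlib.RingTheory.Jacobson.Ideal
import Mathlib.Algebra.Ring.Idempotent

set_option autoImplicit false
universe u
open Polynomial
open CAlg

namespace Groth.Agent.S6888

/-- Let `A` be absolutely integrally closed (every monic polynomial over `A` is a product of linear
factors) and `I ⊆ A` an ideal contained in the Jacobson radical such that `A → A/I` is surjective
(hence bijective) on idempotents. Then `(A, I)` is a henselian pair. (The published statement also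
records the converse, which holds for every henselian pair; this row states the sufficiency only.) -/
theorem result (A : Type u) [CommRing A]
    (hA : ∀ f : A[X], f.Monic → ∃ s : Multiset A, f = (s.map fun a => X - C a).prod) (I : Ideal A)
    (hI : I ≤ Ideal.jacobson (⊥ : Ideal A))
    (hidem : ∀ e : A ⧸ I, IsIdempotentElem e → ∃ e' : A, IsIdempotentElem e' ∧ Ideal.Quotient.mk I e' = e) :
    HenselianRing A I := by
  classical
  refine ⟨hI, fun f hf a₀ h0 hu => ?_⟩
  obtain ⟨s, hs⟩ := hA f hf
  let L := s.toList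
  let r : Fin L.length → A := fun i => L.get i
  have hfr : f = ∏ i, (X - C (r i)) := by
    rw [hs, ← List.prod_ofFn]
    have h1 : List.ofFn (fun i => X - C (r i)) = L.map (fun a => X - C a) := by
      conv_rhs => rw [← List.ofFn_get L, List.map_ofFn]
      rfl
    rw [h1, ← Multiset.prod_coe, ← Multiset.map_coe, Multiset.coe_toList]
  let π := Ideal.Quotient.mk I
  let w : Fin L.length → A ⧸ I := fun i => ∏ j ∈ Finset.univ.erase i, π (a₀ - r j)
  have hprod : ∏ j, π (a₀ - r j) = 0 := by
    rw [← map_prod, Ideal.Quotient.eq_zero_iff_mem]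
    rw [hfr, eval_prod] at h0
    simpa using h0
  have hu' : IsUnit (∑ i, w i) := by
    rw [hfr, derivative_prod_finset, eval_finsetSum, map_sum] at hu
    simpa [w, eval_prod, map_prod] using hu
  obtain ⟨D, hD⟩ := hu'
  let e : Fin L.length → A ⧸ I := fun i => w i * ↑D⁻¹
  have hue : ∀ i, π (a₀ - r i) * e i = 0 := fun i => by
    change π (a₀ - r i) * ((∏ j ∈ Finset.univ.erase i, π (a₀ - r j)) * ↑D⁻¹) = 0
    rw [← mul_assoc, Finset.mul_prod_erase _ (fun j => π (a₀ - r j)) (Finset.mem_univ i), hprod, zero_mul]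
  have horth : ∀ i j, i ≠ j → e i * e j = 0 := by
    intro i j hij
    have h1 : π (a₀ - r j) ∣ w i :=
      Finset.dvd_prod_of_mem _ (Finset.mem_erase.2 ⟨Ne.symm hij, Finset.mem_univ j⟩)
    obtain ⟨t, ht⟩ := h1
    simp only [e] at hue ⊢
    rw [ht, show π (a₀ - r j) * t * ↑D⁻¹ * (w j * ↑D⁻¹) = t * ↑D⁻¹ * (π (a₀ - r j) * (w j * ↑D⁻¹)) by ring,
      hue j, mul_zero]
  have hsum : ∑ i, e i = 1 := by rw [← Finset.sum_mul, ← hD, Units.mul_inv]
  have hide : ∀ i, IsIdempotentElem (e i) := fun i => by
    unfold IsIdempotentElem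
    conv_rhs => rw [← mul_one (e i), ← hsum, Finset.mul_sum]
    rw [Finset.sum_eq_single i (fun j _ hj => horth i j (Ne.symm hj)) (fun h => absurd (Finset.mem_univ i) h)]
  choose E hE hEe using fun i => hidem (e i) (hide i)
  have hzero : ∀ x : A, IsIdempotentElem x → π x = 0 → x = 0 := by
    intro x hx hx0
    have hxI : x ∈ Ideal.jacobson (⊥ : Ideal A) := hI (Ideal.Quotient.eq_zero_iff_mem.1 hx0)
    have hu : IsUnit (1 - x) := by
      have := Ideal.mem_jacobson_bot.1 hxI (-1)
      rwa [mul_neg_one, neg_add_eq_sub] at this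
    refine (hu.mul_left_eq_zero).1 ?_
    rw [mul_sub, mul_one, show x * x = x from hx, sub_self]
  have hEorth : ∀ i j, i ≠ j → E i * E j = 0 := fun i j hij =>
    hzero _ ((hE i).mul (hE j)) (by rw [map_mul, hEe, hEe, horth i j hij])
  have hSid : IsIdempotentElem (∑ i, E i) := by
    rw [IsIdempotentElem, Finset.sum_mul]
    refine Finset.sum_congr rfl fun i _ => ?_
    rw [Finset.mul_sum, Finset.sum_eq_single i (fun j _ hj => hEorth i j (Ne.symm hj))
      (fun h => absurd (Finset.mem_univ i) h)]
    exact hE i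
  have hEsum : ∑ i, E i = 1 := by
    have := hzero (1 - ∑ i, E i) hSid.one_sub (by
      rw [map_sub, map_one, map_sum]; simp only [π, hEe, hsum, sub_self])
    exact (sub_eq_zero.1 this).symm
  let a := ∑ i, E i * r i
  refine ⟨a, ?_, ?_⟩
  · have hEa : ∀ i, E i * a = E i * r i := fun i => by
      rw [Finset.mul_sum, Finset.sum_eq_single i (fun j _ hj => by rw [← mul_assoc, hEorth i j (Ne.symm hj), zero_mul])
        (fun h => absurd (Finset.mem_univ i) h), ← mul_assoc, hE i]
    have hEf : ∀ i, E i * f.eval a = 0 := fun i => by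
      rw [hfr, eval_prod, ← Finset.mul_prod_erase _ _ (Finset.mem_univ i), ← mul_assoc]
      simp [mul_sub, hEa]
    rw [IsRoot, ← one_mul (f.eval a), ← hEsum, Finset.sum_mul]
    exact Finset.sum_eq_zero fun i _ => hEf i
  · have h1 : a - a₀ = ∑ i, E i * (r i - a₀) := by
      simp only [mul_sub, Finset.sum_sub_distrib, ← Finset.sum_mul, hEsum, one_mul, a]
    rw [h1, ← Ideal.Quotient.eq_zero_iff_mem, map_sum]
    refine Finset.sum_eq_zero fun i _ => ?_
    rw [map_mul, hEe, ← neg_sub a₀, map_neg, mul_neg, mul_comm, hue, neg_zero]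

end Groth.Agent.S6888
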