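import Groth.Statements.S6893
import Groth.Agent.L03.FlatLemmas

set_option autoImplicit false
universe u
open TensorProduct
open CAlg

namespace Groth.Agent.S6893

/-- Let `M` be a module over a ring `R` and `I₁, I₂ ⊆ R` ideals. Suppose flatness of `M/I₁M` as an
`R/I₁`-module holds, and likewise `M/I₂M` is a flat `R/I₂`-module; then the quotient `M/(I₁ ∩ I₂)M`
is also flat as a module over `R/(I₁ ∩ I₂)`. -/
theorem result {R : Type u} [CommRing R] (M : Type u) [AddCommGroup M] [Module R M]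
    (I₁ I₂ : Ideal R) [Module.Flat (R ⧸ I₁) ((R ⧸ I₁) ⊗[R] M)] [Module.Flat (R ⧸ I₂) ((R ⧸ I₂) ⊗[R] M)] :
    Module.Flat (R ⧸ (I₁ ⊓ I₂)) ((R ⧸ (I₁ ⊓ I₂)) ⊗[R] M) := by
  let f₁ : R ⧸ (I₁ ⊓ I₂) →+* R ⧸ I₁ := Ideal.Quotient.factor inf_le_left
  let f₂ : R ⧸ (I₁ ⊓ I₂) →+* R ⧸ I₂ := Ideal.Quotient.factor inf_le_right
  letI := f₁.toAlgebra
  letI := f₂.toAlgebra
  haveI : IsScalarTower R (R ⧸ (I₁ ⊓ I₂)) (R ⧸ I₁) := IsScalarTower.of_algebraMap_eq fun _ => rfl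
  haveI : IsScalarTower R (R ⧸ (I₁ ⊓ I₂)) (R ⧸ I₂) := IsScalarTower.of_algebraMap_eq fun _ => rfl
  haveI : Module.Flat (R ⧸ I₁) ((R ⧸ I₁) ⊗[R ⧸ (I₁ ⊓ I₂)] ((R ⧸ (I₁ ⊓ I₂)) ⊗[R] M)) :=
    Module.Flat.of_linearEquiv (TensorProduct.AlgebraTensorModule.cancelBaseChange R _ (R ⧸ I₁) (R ⧸ I₁) M)
  haveI : Module.Flat (R ⧸ I₂) ((R ⧸ I₂) ⊗[R ⧸ (I₁ ⊓ I₂)] ((R ⧸ (I₁ ⊓ I₂)) ⊗[R] M)) :=
    Module.Flat.of_linearEquiv (TensorProduct.AlgebraTensorModule.cancelBaseChange R _ (R ⧸ I₂) (R ⧸ I₂) M)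
  refine Groth.L03.FlatLemmas.flat_of_two (B := R ⧸ I₁) (C := R ⧸ I₂) ?_ ?_ ?_ _
  · exact Ideal.Quotient.factor_surjective inf_le_left
  · exact Ideal.Quotient.factor_surjective inf_le_right
  · intro a ha hb
    obtain ⟨a, rfl⟩ := Ideal.Quotient.mk_surjective a
    exact Ideal.Quotient.eq_zero_iff_mem.2
      ⟨Ideal.Quotient.eq_zero_iff_mem.1 ha, Ideal.Quotient.eq_zero_iff_mem.1 hb⟩

end Groth.Agent.S6893
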