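import Groth.Statements.S6898
import Groth.Agent.L03.FlatLemmas
import Mathlib.RingTheory.Nakayama
import Mathlib.RingTheory.Finiteness.Basic
import Mathlib.LinearAlgebra.Finsupp.LinearCombination

set_option autoImplicit false
universe u
open TensorProduct
open CAlg

namespace Groth.Agent.S6898

/-- Let `(A, 𝔪)` be a local ring and `u : M → N` a linear map between flat `A`-modules whose reduction
`M/𝔪M → N/𝔪N` is injective. If `I` is the content ideal of some `x ∈ M` (the least ideal `I` with `x
∈ IM`), then `I` is also the least ideal `J` with `u(x) ∈ J·N`. -/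
theorem result {A : Type u} [CommRing A] [IsLocalRing A] {M N : Type u}
    [AddCommGroup M] [Module A M] [Module.Flat A M] [AddCommGroup N] [Module A N] [Module.Flat A N] (u : M →ₗ[A] N)
    (hu : Function.Injective (u.baseChange (IsLocalRing.ResidueField A))) (x : M) (I : Ideal A)
    (hx : IsLeast {J : Ideal A | x ∈ J • (⊤ : Submodule A M)} I) :
    IsLeast {J : Ideal A | u x ∈ J • (⊤ : Submodule A N)} I := by
  classical
  refine ⟨?_, fun J hJ => ?_⟩
  · have := Submodule.mem_map_of_mem (f := u) (show x ∈ I • (⊤ : Submodule A M) from hx.1)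
    rw [Submodule.map_smul''] at this
    exact Submodule.smul_mono le_rfl le_top this
  have hxI : x ∈ I • Submodule.span A (Set.univ : Set M) := by
    rw [Submodule.span_univ]; exact hx.1
  rw [← Set.range_id] at hxI
  obtain ⟨l, hl, hlx⟩ := (Submodule.mem_ideal_smul_span_iff_exists_sum I id x).1 hxI
  set S : Finset A := l.support.image fun m => l m with hS
  have hfg : I = Ideal.span (S : Set A) := by
    refine le_antisymm (hx.2 ?_) (Ideal.span_le.2 fun a ha => ?_)
    · rw [Set.mem_setOf_eq, ← hlx]
      refine Submodule.sum_mem _ fun m hm => Submodule.smul_mem_smul (Ideal.subset_span ?_) trivial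
      exact Finset.mem_image_of_mem _ hm
    · obtain ⟨m, -, rfl⟩ := Finset.mem_image.1 ha
      exact hl m
  by_contra hnle
  have hJ0 : ¬ I ≤ J ⊔ IsLocalRing.maximalIdeal A • I := fun h =>
    hnle (Submodule.le_of_le_smul_of_le_jacobson_bot (by rw [hfg]; exact ⟨S, rfl⟩)
      (IsLocalRing.maximalIdeal_le_jacobson _) h)
  set J0 := J ⊔ IsLocalRing.maximalIdeal A • I
  obtain ⟨T, hT, hTmax⟩ := (S.powerset.filter fun T : Finset A => ¬ I ≤ J0 ⊔ Ideal.span (T : Set A)).exists_max_image
    Finset.card ⟨∅, Finset.mem_filter.2 ⟨Finset.empty_mem_powerset _, by simpa using hJ0⟩⟩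
  rw [Finset.mem_filter, Finset.mem_powerset] at hT
  set J1 := J0 ⊔ Ideal.span (T : Set A)
  obtain ⟨a, haS, haJ⟩ : ∃ a ∈ S, a ∉ J1 := by
    by_contra hcon
    push Not at hcon
    exact hT.2 (hfg.le.trans (Ideal.span_le.2 hcon))
  have hle : I ≤ J1 ⊔ Ideal.span {a} := by
    by_contra hcon
    have haT : a ∉ T := fun h => haJ (Ideal.mem_sup_right (Ideal.subset_span h))
    have := hTmax (insert a T) (Finset.mem_filter.2 ⟨Finset.mem_powerset.2 (Finset.insert_subset haS hT.1), ?_⟩)
    · rw [Finset.card_insert_of_notMem haT] at this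
      omega
    · rw [Finset.coe_insert, Ideal.span_insert, sup_comm (Ideal.span {a}), ← sup_assoc]
      exact hcon
  have hxJ : x ∈ (J1 ⊔ Ideal.span {a}) • (⊤ : Submodule A M) := Submodule.smul_mono_left hle hx.1
  rw [Submodule.sup_smul, Submodule.mem_sup] at hxJ
  obtain ⟨y, hy, z, hz, rfl⟩ := hxJ
  rw [Submodule.ideal_span_singleton_smul, Submodule.mem_smul_pointwise_iff_exists] at hz
  obtain ⟨m, -, rfl⟩ := hz
  have huy : u y ∈ J1 • (⊤ : Submodule A N) := by
    have := Submodule.mem_map_of_mem (f := u) hy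
    rw [Submodule.map_smul''] at this
    exact Submodule.smul_mono le_rfl le_top this
  have huam : a • u m ∈ J1 • (⊤ : Submodule A N) := by
    have h1 : u (y + a • m) ∈ J1 • (⊤ : Submodule A N) :=
      Submodule.smul_mono_left (le_sup_left.trans le_sup_left : J ≤ J1) hJ
    rw [map_add, map_smul] at h1
    simpa using Submodule.sub_mem _ h1 huy
  have hum := Groth.L03.FlatLemmas.mem_colon_smul_top J1 a (u m) huam
  have hcolon : J1.colon {a} ≤ IsLocalRing.maximalIdeal A := IsLocalRing.le_maximalIdeal fun htop => haJ (by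
    have : (1 : A) ∈ J1.colon {a} := htop ▸ trivial
    simpa using Submodule.mem_colon_singleton.1 this)
  have humm : u m ∈ IsLocalRing.maximalIdeal A • (⊤ : Submodule A N) := Submodule.smul_mono_left hcolon hum
  have hm : m ∈ IsLocalRing.maximalIdeal A • (⊤ : Submodule A M) := by
    have h0 : (1 : IsLocalRing.ResidueField A) ⊗ₜ[A] m = 0 := by
      apply hu
      rw [map_zero, LinearMap.baseChange_tmul]
      refine (TensorProduct.quotTensorEquivQuotSMul N (IsLocalRing.maximalIdeal A)).map_eq_zero_iff.1 ?_
      exact (TensorProduct.quotTensorEquivQuotSMul_mk_one_tmul (IsLocalRing.maximalIdeal A) (u m)).trans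
        ((Submodule.Quotient.mk_eq_zero _).2 humm)
    have h1 := (TensorProduct.quotTensorEquivQuotSMul M (IsLocalRing.maximalIdeal A)).map_eq_zero_iff.2 h0
    exact (Submodule.Quotient.mk_eq_zero _).1
      ((TensorProduct.quotTensorEquivQuotSMul_mk_one_tmul (IsLocalRing.maximalIdeal A) m).symm.trans h1)
  have ha : a ∈ I := by rw [hfg]; exact Ideal.subset_span haS
  have ham : a • m ∈ J1 • (⊤ : Submodule A M) := by
    refine Submodule.smul_induction_on hm (fun r hr n _ => ?_) (fun p q hp hq => by rw [smul_add]; exact add_mem hp hq)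
    rw [smul_smul, mul_comm]
    refine Submodule.smul_mem_smul (le_sup_left (a := J0) (b := Ideal.span (T : Set A)) ?_) trivial
    exact Ideal.mem_sup_right (Submodule.smul_mem_smul hr ha)
  have : I ≤ J1 := hx.2 (Submodule.add_mem _ hy ham)
  exact hT.2 this

end Groth.Agent.S6898
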