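import Groth.Statements.S6909
import Mathlib.RingTheory.AdicCompletion.Noetherian
import Mathlib.Algebra.Exact.Basic

set_option autoImplicit false
universe u
open CAlg

namespace Groth.Agent.S6909

/-- Let `A` be a Noetherian ring, `I ⊆ A` an ideal inside the Jacobson radical, and `L → M → N` two
complexes `(f, g)` and `(f', g')` of finite `A`-modules with `f' ≡ f` modulo `I^{c+1}M` and `g' ≡ g`
modulo `I^{c+1}N`. If `c` works in the Artin–Rees lemma for `f` and for `g` (that is `f(L) ∩ IⁿM ⊆
f(I^{n-c}L)` for `n ≥ c`, and likewise for `g`) and `(f, g)` is exact, then `c` works for `g'` and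
`(f', g')` is exact. -/
theorem result {A : Type u} [CommRing A] [IsNoetherianRing A] (I : Ideal A)
    (hI : I ≤ Ideal.jacobson (⊥ : Ideal A)) {L M N : Type u} [AddCommGroup L] [Module A L] [Module.Finite A L]
    [AddCommGroup M] [Module A M] [Module.Finite A M] [AddCommGroup N] [Module A N] [Module.Finite A N]
    (f f' : L →ₗ[A] M) (g g' : M →ₗ[A] N) (c : ℕ) (hgf : g.comp f = 0) (hgf' : g'.comp f' = 0)
    (hf : (∀ n : ℕ, c ≤ n → LinearMap.range f ⊓ (I ^ n • (⊤ : Submodule A M)) ≤ Submodule.map f (I ^ (n - c) • (⊤ : Submodule A L))))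
    (hg : (∀ n : ℕ, c ≤ n → LinearMap.range g ⊓ (I ^ n • (⊤ : Submodule A N)) ≤ Submodule.map g (I ^ (n - c) • (⊤ : Submodule A M))))
    (hex : Function.Exact f g)
    (hff' : ∀ x : L, f x - f' x ∈ I ^ (c + 1) • (⊤ : Submodule A M))
    (hgg' : ∀ y : M, g y - g' y ∈ I ^ (c + 1) • (⊤ : Submodule A N)) :
    (∀ n : ℕ, c ≤ n → LinearMap.range g' ⊓ (I ^ n • (⊤ : Submodule A N)) ≤ Submodule.map g' (I ^ (n - c) • (⊤ : Submodule A M))) ∧
    Function.Exact f' g' := by
  have hexact : ∀ y, g y = 0 → ∃ l, f l = y := fun y hy => (hex y).1 hy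
  have key : ∀ (m : ℕ) (y : M), g' y ∈ I ^ (m + c) • (⊤ : Submodule A N) →
      ∃ l, y - f' l ∈ I ^ m • (⊤ : Submodule A M) := by
    intro m
    induction m with
    | zero => intro y _; exact ⟨0, by simp⟩
    | succ j ih =>
      intro y hy
      obtain ⟨l, hl⟩ := ih y (Submodule.smul_mono_left (Ideal.pow_le_pow_right (by omega)) hy)
      set z := y - f' l
      have hgz' : g' z = g' y := by
        have h0 : g' (f' l) = 0 := LinearMap.congr_fun hgf' l
        rw [map_sub, h0, sub_zero]
      have hgz : g z ∈ I ^ (j + 1 + c) • (⊤ : Submodule A N) := by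
        have h1 : g z - g' z ∈ I ^ (j + (c + 1)) • (⊤ : Submodule A N) := by
          rw [pow_add, Submodule.mul_smul]
          refine Submodule.smul_induction_on hl (fun a ha x _ => ?_) (fun a b ha hb => ?_)
          · rw [map_smul, map_smul, ← smul_sub]
            exact Submodule.smul_mem_smul ha (hgg' x)
          · rw [map_add, map_add, add_sub_add_comm]; exact add_mem ha hb
        rw [show j + (c + 1) = j + 1 + c by omega] at h1
        simpa using add_mem h1 (hgz'.symm ▸ hy : g' z ∈ _)
      obtain ⟨w, hw, hgw⟩ := hg (j + 1 + c) (by omega) ⟨⟨z, rfl⟩, hgz⟩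
      rw [Nat.add_sub_cancel] at hw
      obtain ⟨l', hl'⟩ := hexact (z - w) (by rw [map_sub, hgw, sub_self])
      have hzw : z - w ∈ I ^ j • (⊤ : Submodule A M) :=
        sub_mem hl (Submodule.smul_mono_left (Ideal.pow_le_pow_right (Nat.le_succ j)) hw)
      have hd : ∃ l'', f l'' = z - w ∧ f l'' - f' l'' ∈ I ^ (j + 1) • (⊤ : Submodule A M) := by
        rcases lt_or_ge j c with hjc | hjc
        · exact ⟨l', hl', Submodule.smul_mono_left (Ideal.pow_le_pow_right (by omega)) (hff' l')⟩
        · obtain ⟨l'', hl'', he⟩ := hf j hjc ⟨⟨l', hl'⟩, hzw⟩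
          refine ⟨l'', he, ?_⟩
          have h1 : f l'' - f' l'' ∈ I ^ (j - c + (c + 1)) • (⊤ : Submodule A M) := by
            rw [pow_add, Submodule.mul_smul]
            refine Submodule.smul_induction_on hl'' (fun a ha x _ => ?_) (fun a b ha hb => ?_)
            · rw [map_smul, map_smul, ← smul_sub]
              exact Submodule.smul_mem_smul ha (hff' x)
            · rw [map_add, map_add, add_sub_add_comm]; exact add_mem ha hb
          rwa [show j - c + (c + 1) = j + 1 by omega] at h1
      obtain ⟨l'', he, hd⟩ := hd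
      refine ⟨l + l'', ?_⟩
      have : y - f' (l + l'') = w + (f l'' - f' l'') := by rw [map_add, he]; simp only [z]; abel
      rw [this]
      exact add_mem hw hd
  refine ⟨fun n hn => ?_, fun y => ⟨fun hy => ?_, ?_⟩⟩
  · rintro x ⟨⟨y, rfl⟩, hy⟩
    obtain ⟨l, hl⟩ := key (n - c) y (by rwa [Nat.sub_add_cancel hn])
    refine ⟨y - f' l, hl, ?_⟩
    have h0 : g' (f' l) = 0 := LinearMap.congr_fun hgf' l
    rw [map_sub, h0, sub_zero]
  · haveI := IsHausdorff.of_le_jacobson I (M ⧸ LinearMap.range f') hI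
    have h0 : (LinearMap.range f').mkQ y = 0 := by
      refine IsHausdorff.haus' (I := I) _ fun m => ?_
      obtain ⟨l, hl⟩ := key m y (by rw [hy]; exact zero_mem _)
      rw [SModEq.zero]
      have h1 : (LinearMap.range f').mkQ (y - f' l) ∈ (I ^ m • (⊤ : Submodule A M)).map (LinearMap.range f').mkQ :=
        Submodule.mem_map_of_mem hl
      rw [Submodule.map_smul'', Submodule.map_top, Submodule.range_mkQ, map_sub,
        show (LinearMap.range f').mkQ (f' l) = 0 from (Submodule.Quotient.mk_eq_zero _).2 ⟨l, rfl⟩, sub_zero] at h1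
      exact h1
    exact (Submodule.Quotient.mk_eq_zero _).1 h0
  · rintro ⟨l, rfl⟩
    exact LinearMap.congr_fun hgf' l

end Groth.Agent.S6909
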