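import Groth.Statements.S6910
import Groth.Agent.S6909
import Mathlib.RingTheory.Ideal.Operations

set_option autoImplicit false
universe u
open CAlg

namespace Groth.Agent.S6910

/-- Let `A` be a Noetherian ring, `I ⊆ A` an ideal inside the Jacobson radical, and `L → M → N` two
complexes `(f, g)` and `(f', g')` of finite `A`-modules with `f' ≡ f` modulo `I^{c+1}M` and `g' ≡ g`
modulo `I^{c+1}N`, such that the Artin–Rees bound holds with constant `c` for both `f` and `g`, and
`(f, g)` is exact. Then for every `n` the submodules `I^{n+1}N + g(M) ∩ IⁿN` and `I^{n+1}N + g'(M) ∩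
IⁿN` of `N` are equal; consequently the associated graded modules of `Coker g` and `Coker g'` with
respect to `I` coincide degreewise as subquotients of `N`. -/
theorem result {A : Type u} [CommRing A] [IsNoetherianRing A] (I : Ideal A)
    (hI : I ≤ Ideal.jacobson (⊥ : Ideal A)) {L M N : Type u} [AddCommGroup L] [Module A L] [Module.Finite A L]
    [AddCommGroup M] [Module A M] [Module.Finite A M] [AddCommGroup N] [Module A N] [Module.Finite A N]
    (f f' : L →ₗ[A] M) (g g' : M →ₗ[A] N) (c : ℕ) (hgf : g.comp f = 0) (hgf' : g'.comp f' = 0)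
    (hf : (∀ n : ℕ, c ≤ n → LinearMap.range f ⊓ (I ^ n • (⊤ : Submodule A M)) ≤ Submodule.map f (I ^ (n - c) • (⊤ : Submodule A L))))
    (hg : (∀ n : ℕ, c ≤ n → LinearMap.range g ⊓ (I ^ n • (⊤ : Submodule A N)) ≤ Submodule.map g (I ^ (n - c) • (⊤ : Submodule A M))))
    (hex : Function.Exact f g)
    (hff' : ∀ x : L, f x - f' x ∈ I ^ (c + 1) • (⊤ : Submodule A M))
    (hgg' : ∀ y : M, g y - g' y ∈ I ^ (c + 1) • (⊤ : Submodule A N)) (n : ℕ) :
    I ^ (n + 1) • (⊤ : Submodule A N) ⊔ (LinearMap.range g ⊓ I ^ n • (⊤ : Submodule A N)) =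
      I ^ (n + 1) • (⊤ : Submodule A N) ⊔ (LinearMap.range g' ⊓ I ^ n • (⊤ : Submodule A N)) := by
  obtain ⟨hg', -⟩ := Groth.Agent.S6909.result I hI f f' g g' c hgf hgf' hf hg hex hff' hgg'
  have half : ∀ (u u' : M →ₗ[A] N),
      (∀ n : ℕ, c ≤ n → LinearMap.range u ⊓ (I ^ n • (⊤ : Submodule A N)) ≤ Submodule.map u (I ^ (n - c) • (⊤ : Submodule A M))) →
      (∀ y : M, u y - u' y ∈ I ^ (c + 1) • (⊤ : Submodule A N)) →
      I ^ (n + 1) • (⊤ : Submodule A N) ⊔ (LinearMap.range u ⊓ I ^ n • (⊤ : Submodule A N)) ≤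
        I ^ (n + 1) • (⊤ : Submodule A N) ⊔ (LinearMap.range u' ⊓ I ^ n • (⊤ : Submodule A N)) := by
    intro u u' hu huu'
    refine sup_le le_sup_left ?_
    rintro x ⟨⟨y, rfl⟩, hx⟩
    obtain ⟨y', hy', hd⟩ : ∃ y', u y' = u y ∧ u y' - u' y' ∈ I ^ (n + 1) • (⊤ : Submodule A N) := by
      rcases lt_or_ge n c with hnc | hnc
      · exact ⟨y, rfl, Submodule.smul_mono_left (Ideal.pow_le_pow_right (by omega)) (huu' y)⟩
      · obtain ⟨y', hy'', he⟩ := hu n hnc ⟨⟨y, rfl⟩, hx⟩
        refine ⟨y', he, ?_⟩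
        have h1 : u y' - u' y' ∈ I ^ (n - c + (c + 1)) • (⊤ : Submodule A N) := by
          rw [pow_add, Submodule.mul_smul]
          refine Submodule.smul_induction_on hy'' (fun a ha z _ => ?_) (fun a b ha hb => ?_)
          · rw [map_smul, map_smul, ← smul_sub]
            exact Submodule.smul_mem_smul ha (huu' z)
          · rw [map_add, map_add, add_sub_add_comm]; exact add_mem ha hb
        rwa [show n - c + (c + 1) = n + 1 by omega] at h1
    rw [← hy', ← sub_add_cancel (u y') (u' y')]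
    refine Submodule.add_mem_sup hd ⟨⟨y', rfl⟩, ?_⟩
    have := sub_mem hx (Submodule.smul_mono_left (Ideal.pow_le_pow_right (Nat.le_succ n)) hd)
    rw [← hy', sub_sub_cancel] at this
    exact this
  refine le_antisymm (half g g' hg hgg') (half g' g hg' fun y => ?_)
  rw [← neg_sub]
  exact neg_mem (hgg' y)

end Groth.Agent.S6910
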