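import Groth.Statements.S6911
import Mathlib.RingTheory.Flat.Basic
import Mathlib.RingTheory.TensorProduct.Maps
-- import your own Groth.Agent.* helpers here

set_option autoImplicit false
universe u
open TensorProduct
open CAlg

namespace Groth.Agent.S6911

/-- Let `A → B` be a flat map of Noetherian rings, `I ⊆ A` an ideal and `f : M → N` a map of finite
`A`-modules such that `c` works for `f` in the Artin–Rees lemma (`f(M) ∩ IⁿN ⊆ f(I^{n-c}M)` for `n ≥
c`). Then `c` works for `f ⊗ 1 : M ⊗_A B → N ⊗_A B` and the ideal `IB`. -/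
theorem result {A B : Type u} [CommRing A] [IsNoetherianRing A] [CommRing B]
    [IsNoetherianRing B] [Algebra A B] [Module.Flat A B] (I : Ideal A) {M N : Type u} [AddCommGroup M] [Module A M]
    [Module.Finite A M] [AddCommGroup N] [Module A N] [Module.Finite A N] (f : M →ₗ[A] N) (c : ℕ)
    (hf : (∀ n : ℕ, c ≤ n → LinearMap.range f ⊓ (I ^ n • (⊤ : Submodule A N)) ≤ Submodule.map f (I ^ (n - c) • (⊤ : Submodule A M)))) :
    ∀ n : ℕ, c ≤ n →
      LinearMap.range (f.baseChange B) ⊓ ((I.map (algebraMap A B)) ^ n • (⊤ : Submodule B (B ⊗[A] N))) ≤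
        Submodule.map (f.baseChange B) ((I.map (algebraMap A B)) ^ (n - c) • (⊤ : Submodule B (B ⊗[A] M))) := by
  intro n hn y hy
  obtain ⟨⟨x, rfl⟩, hy2⟩ := hy
  let P : Submodule A N := I ^ n • ⊤
  let K : Submodule A M := P.comap f
  let q : M →ₗ[A] N ⧸ P := P.mkQ ∘ₗ f
  have hex : Function.Exact K.subtype q := by
    intro m
    simp only [q, LinearMap.comp_apply, Submodule.mkQ_apply, Submodule.Quotient.mk_eq_zero, Set.mem_range,
      Submodule.subtype_apply, Subtype.exists, exists_prop, exists_eq_right]
    rfl
  have hx0 : q.lTensor B x = 0 := by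
    have hP : ∀ z ∈ (I.map (algebraMap A B)) ^ n • (⊤ : Submodule B (B ⊗[A] N)), P.mkQ.lTensor B z = 0 := by
      intro z hz
      refine Submodule.smul_induction_on hz (fun r hr w hw => ?_) (fun a b ha hb => by rw [map_add, ha, hb, add_zero])
      clear hw
      rw [← Ideal.map_pow, Ideal.map] at hr
      induction hr using Submodule.span_induction generalizing w with
      | mem s hs =>
        obtain ⟨a, ha, rfl⟩ := hs
        rw [algebraMap_smul, map_smul]
        induction w using TensorProduct.induction_on with
        | zero => simp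
        | tmul b v =>
          rw [LinearMap.lTensor_tmul, ← TensorProduct.tmul_smul, ← map_smul, Submodule.mkQ_apply,
            (Submodule.Quotient.mk_eq_zero P).2 (Submodule.smul_mem_smul ha Submodule.mem_top),
            TensorProduct.tmul_zero]
        | add a b ha hb => rw [map_add, smul_add, ha, hb, add_zero]
      | zero => simp
      | add r s _ _ hr hs => rw [add_smul, map_add, hr, hs, add_zero]
      | smul r s _ hs => rw [smul_eq_mul, mul_comm, mul_smul]; exact hs _
    rw [LinearMap.lTensor_comp, LinearMap.comp_apply]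
    exact hP _ hy2
  obtain ⟨z, hz⟩ := ((Module.Flat.lTensor_exact B hex) x).1 hx0
  rw [← hz]
  clear hz hx0 hy2
  induction z using TensorProduct.induction_on with
  | zero => simp
  | add a b ha hb => rw [map_add, map_add]; exact add_mem ha hb
  | tmul b k =>
    obtain ⟨m', hm', he⟩ := hf n hn ⟨LinearMap.mem_range_self f (k : M), k.2⟩
    refine ⟨b ⊗ₜ m', ?_, ?_⟩
    · have h1 : ∀ v ∈ (I ^ (n - c) • ⊤ : Submodule A M),
          b ⊗ₜ[A] v ∈ (I.map (algebraMap A B)) ^ (n - c) • (⊤ : Submodule B (B ⊗[A] M)) := by
        intro v hv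
        refine Submodule.smul_induction_on hv (fun a ha w _ => ?_)
          (fun a b ha hb => by rw [TensorProduct.tmul_add]; exact add_mem ha hb)
        rw [← Ideal.map_pow, TensorProduct.tmul_smul, ← algebraMap_smul B a]
        exact Submodule.smul_mem_smul (Ideal.mem_map_of_mem _ ha) Submodule.mem_top
      exact h1 m' hm'
    · rw [LinearMap.lTensor_tmul, LinearMap.baseChange_tmul, LinearMap.baseChange_tmul, he]
      rfl

end Groth.Agent.S6911
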