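import Groth.Statements.S6912
import Mathlib.LinearAlgebra.Dimension.Localization
import Mathlib.RingTheory.Localization.BaseChange
import Mathlib.LinearAlgebra.FreeModule.Finite.Matrix
import Mathlib.Algebra.Module.FinitePresentation
import Mathlib.RingTheory.TensorProduct.Finite
-- import your own Groth.Agent.* helpers here

set_option autoImplicit false
universe u
open TensorProduct
open CAlg

namespace Groth.Agent.S6912

set_option backward.isDefEq.respectTransparency false in
/-- Let `R` be a domain and `M`, `N` two `R`-modules; rank means dimension over the fraction field after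
base change. Then `rank (M ⊗_R N) = rank M · rank N`, and when `M` is finitely presented also `rank
Hom_R(M, N) = rank M · rank N`. -/
theorem result (R : Type u) [CommRing R] [IsDomain R] (M N : Type u)
    [AddCommGroup M] [Module R M] [AddCommGroup N] [Module R N] :
    Module.rank R (M ⊗[R] N) = Module.rank R M * Module.rank R N ∧
    (Module.FinitePresentation R M → Module.rank R (M →ₗ[R] N) = Module.rank R M * Module.rank R N) := by
  let K := FractionRing R
  have hr : ∀ (X : Type u) [AddCommGroup X] [Module R X],
      Module.rank R X = Module.rank K (K ⊗[R] X) := fun X _ _ => by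
    rw [← IsLocalizedModule.rank_eq (nonZeroDivisors R) le_rfl (TensorProduct.mk R K X 1),
      IsLocalization.rank_eq (N := K ⊗[R] X) K (nonZeroDivisors R) le_rfl]
  refine ⟨?_, fun hfp => ?_⟩
  · rw [hr, hr M, hr N, (TensorProduct.AlgebraTensorModule.distribBaseChange R K M N).rank_eq,
      rank_tensorProduct']
  · haveI := hfp
    haveI : Module.Finite K (K ⊗[R] M) := Module.Finite.base_change R K M
    rw [hr M, hr N]
    let φ := IsLocalizedModule.mapExtendScalars (nonZeroDivisors R) (TensorProduct.mk R K M 1)
      (TensorProduct.mk R K N 1) K
    rw [← IsLocalizedModule.rank_eq (N := (K ⊗[R] M) →ₗ[K] (K ⊗[R] N)) (nonZeroDivisors R) le_rfl φ,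
      ← IsLocalization.rank_eq (N := (K ⊗[R] M) →ₗ[K] (K ⊗[R] N)) K (nonZeroDivisors R) le_rfl,
      Module.rank_linearMap, Cardinal.lift_id, Cardinal.lift_id]

end Groth.Agent.S6912
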