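import Groth.Statements.S6913
import Groth.Agent.L03.Lattice
import Mathlib.RingTheory.Localization.BaseChange
import Mathlib.LinearAlgebra.Dimension.Constructions
import Mathlib.LinearAlgebra.Dimension.Finite
import Mathlib.RingTheory.Localization.Free
-- import your own Groth.Agent.* helpers here

set_option autoImplicit false
universe u
open CAlg

namespace Groth.Agent.S6913

/-- Let `R` be a domain and `M` a finite `R`-module, of (finite) rank `r`. Then: some linear map `M →
R^r` has torsion kernel and torsion cokernel; some nonzero `f ∈ R` makes `M_f` free of rank `r` over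
`R_f`; and some injective linear map `R^r → M` has torsion cokernel. -/
theorem result (R : Type u) [CommRing R] [IsDomain R] (M : Type u) [AddCommGroup M]
    [Module R M] [Module.Finite R M] :
    (∃ h : M →ₗ[R] (Fin (Module.finrank R M) → R),
      (∀ x : M, h x = 0 → ∃ c : R, c ≠ 0 ∧ c • x = 0) ∧
      (∀ y : Fin (Module.finrank R M) → R, ∃ c : R, c ≠ 0 ∧ c • y ∈ LinearMap.range h)) ∧
    (∃ f : R, f ≠ 0 ∧ Module.Free (Localization.Away f) (LocalizedModule (Submonoid.powers f) M) ∧
      Module.finrank (Localization.Away f) (LocalizedModule (Submonoid.powers f) M) = Module.finrank R M) ∧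
    (∃ g : (Fin (Module.finrank R M) → R) →ₗ[R] M, Function.Injective g ∧
      ∀ x : M, ∃ c : R, c ≠ 0 ∧ c • x ∈ LinearMap.range g) := by
  classical
  obtain ⟨n, f, g, c, hc, hgf, hfg⟩ := Groth.L03.Lattice.exists_free_comp (R := R) M
  have hg : Function.Injective g := by
    refine (injective_iff_map_eq_zero g).2 fun y hy => ?_
    have := hfg y
    rw [hy, map_zero, eq_comm, smul_eq_zero] at this
    exact this.resolve_left hc
  have hle : Module.rank R M ≤ (n : Cardinal) := by
    refine rank_le (fun s hs => ?_)
    have h1 : LinearIndependent R (fun x : s => f (x : M)) := by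
      rw [Fintype.linearIndependent_iff] at hs ⊢
      intro a ha i
      have h2 : ∑ x : s, (c * a x) • (x : M) = 0 := by
        have h3 := congr_arg g ha
        simp only [map_sum, map_smul, map_zero, hgf, smul_smul] at h3
        simp only [mul_comm c]
        exact h3
      exact (mul_eq_zero.1 (hs _ h2 i)).resolve_left hc
    have := h1.fintype_card_le_finrank
    simpa using this
  have hge : (n : Cardinal) ≤ Module.rank R M := by
    have h1 := LinearMap.rank_le_of_injective g hg
    rwa [rank_fin_fun] at h1
  have hn : Module.finrank R M = n := Module.finrank_eq_of_rank_eq (le_antisymm hle hge)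
  rw [hn]
  refine ⟨⟨f, fun x hx => ⟨c, hc, by rw [← hgf, hx, map_zero]⟩, fun y => ⟨c, hc, g y, hfg y⟩⟩,
    ⟨c, hc, ?_⟩, g, hg, fun x => ⟨c, hc, f x, hgf x⟩⟩
  let S := Submonoid.powers c
  let Rc := Localization.Away c
  let G := LocalizedModule.map S g
  have hG : Function.Bijective G := by
    refine ⟨LocalizedModule.map_injective S g hg, fun z => ?_⟩
    induction z using LocalizedModule.induction_on with
    | h m s =>
      refine ⟨LocalizedModule.mk (f m) (⟨c, Submonoid.mem_powers c⟩ * s), ?_⟩
      simp only [G, LocalizedModule.map_mk, hgf]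
      rw [LocalizedModule.mk_eq]
      exact ⟨1, by simp [Submonoid.smul_def, smul_smul, mul_comm]⟩
  haveI : IsDomain (Localization S) := IsLocalization.isDomain_localization
    (powers_le_nonZeroDivisors_of_noZeroDivisors hc)
  let e : LocalizedModule S (Fin n → R) ≃ₗ[Localization S] LocalizedModule S M := LinearEquiv.ofBijective G hG
  haveI : Module.Free Rc (LocalizedModule S (Fin n → R)) :=
    Module.Free.of_equiv (LocalizedModule.equivTensorProduct S (Fin n → R)).symm
  refine ⟨Module.Free.of_equiv e, ?_⟩
  rw [← e.finrank_eq, (LocalizedModule.equivTensorProduct S (Fin n → R)).finrank_eq,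
    Module.finrank_baseChange, Module.finrank_fin_fun]

end Groth.Agent.S6913
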