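import Groth.Statements.S6919
import Groth.Agent.L20.FlatAtBaseChange

set_option autoImplicit false
universe u
open FlatMor

namespace Groth.Agent.S6919

/-- Let `R → S` be a ring map, `J ⊆ S` an ideal, `M` an `S`-module and `I ⊆ R` an ideal; let `R → R'` be
a ring map and `I' ⊆ R'` an ideal containing `IR'`, and put `S' = S ⊗_R R'`, `M' = M ⊗_R R'`. Assume
that every prime of `R` containing `I` is the contraction of a prime of `R'` containing `I'`, and
that `R'_{𝔭'}` is flat over `R` for every prime `𝔭' ⊇ I'`. If `M'_{𝔮'}` is flat over `R'` for every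
prime `𝔮' ⊇ I'S' + JS'` of `S'`, then `M_𝔮` is flat over `R` for every prime `𝔮 ⊇ IS + J` of `S`.
(The published statement descends from a pair `(R'', I'')` to an arbitrary pair `(R', I')` over `R`;
this row takes `(R', I') = (R, I)`.) -/
theorem result {R S R' S' : Type u} [CommRing R] [CommRing S] [CommRing R'] [CommRing S']
    [Algebra R S] [Algebra R R'] [Algebra S S'] [Algebra R' S'] [Algebra R S'] [IsScalarTower R S S']
    [IsScalarTower R R' S'] [Algebra.IsPushout R S R' S']
    (I : Ideal R) (I' : Ideal R') (hII' : I.map (algebraMap R R') ≤ I')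
    {M M' : Type u} [AddCommGroup M] [Module S M] [Module R M] [IsScalarTower R S M]
    [AddCommGroup M'] [Module S' M'] [Module R' M'] [IsScalarTower R' S' M'] [Module S M'] [IsScalarTower S S' M']
    (f : M →ₗ[S] M') (hf : IsBaseChange S' f) (J : Ideal S)
    (hsurj : ∀ (p : Ideal R) [p.IsPrime], I ≤ p → ∃ (p' : Ideal R') (_ : p'.IsPrime), I' ≤ p' ∧ p'.comap (algebraMap R R') = p)
    (hflat : ∀ (p' : Ideal R') [p'.IsPrime], I' ≤ p' → Module.Flat R (Localization.AtPrime p'))
    (h : (∀ (q : Ideal S') [q.IsPrime], I'.map (algebraMap R' S') ⊔ J.map (algebraMap S S') ≤ q → FlatCA.FlatAt R' q M')) :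
    (∀ (q : Ideal S) [q.IsPrime], I.map (algebraMap R S) ⊔ J ≤ q → FlatCA.FlatAt R q M) := by
  intro q _ hq
  let p : Ideal R := q.comap (algebraMap R S)
  have hIp : I ≤ p := Ideal.map_le_iff_le_comap.mp (le_sup_left.trans hq)
  obtain ⟨p', hp', hI'p', hp'p⟩ := hsurj p hIp
  obtain ⟨q', hq', hq'q, hq'p'⟩ := Groth.L20.exists_prime_isPushout (R := R) (S := S) (S' := S') q p' hp'p.symm
  subst hq'q
  subst hq'p'
  have hI : I'.map (algebraMap R' S') ⊔ J.map (algebraMap S S') ≤ q' :=
    sup_le (Ideal.map_le_iff_le_comap.mpr hI'p') (Ideal.map_le_iff_le_comap.mpr (le_sup_right.trans hq))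
  have hL : Module.Flat R' (LocalizedModule q'.primeCompl M') := h q' hI
  have := hflat _ hI'p'
  have := Groth.L20.flat_localization_of_isPushout (R := R) (S := S) (R' := R') q'
  let _ : Module R M' := Module.compHom M' (algebraMap R R')
  have : IsScalarTower R R' M' := ⟨fun r r' m => by
    change (r • r') • m = algebraMap R R' r • (r' • m)
    rw [Algebra.smul_def, mul_smul]⟩
  have : IsScalarTower R S M' := ⟨fun r s m => by
    change (r • s) • m = algebraMap R R' r • (s • m)
    rw [← algebraMap_smul S' (algebraMap R R' r) (s • m),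
      ← algebraMap_smul S' s m, ← algebraMap_smul S' (r • s) m,
      ← mul_smul, Algebra.smul_def, map_mul, ← IsScalarTower.algebraMap_apply R S S',
      ← IsScalarTower.algebraMap_apply R R' S']⟩
  have : IsScalarTower R S' M' := IsScalarTower.to₁₃₄ R R' S' M'
  let p' := q'.comap (algebraMap R' S')
  algebraize [Localization.localRingHom p' q' (algebraMap R' S') rfl]
  have : IsScalarTower R' (Localization.AtPrime p') (Localization.AtPrime q') :=
    IsScalarTower.of_algebraMap_eq fun x => by
      rw [RingHom.algebraMap_toAlgebra, Localization.localRingHom_to_map, ← IsScalarTower.algebraMap_apply]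
  let _ : Module (Localization.AtPrime p') (LocalizedModule q'.primeCompl M') :=
    Module.compHom _ (algebraMap (Localization.AtPrime p') (Localization.AtPrime q'))
  have : IsScalarTower (Localization.AtPrime p') (Localization.AtPrime q') (LocalizedModule q'.primeCompl M') :=
    IsScalarTower.of_algebraMap_smul fun _ _ => rfl
  have : IsScalarTower R' (Localization.AtPrime p') (LocalizedModule q'.primeCompl M') :=
    IsScalarTower.to₁₂₄ R' (Localization.AtPrime p') (Localization.AtPrime q') (LocalizedModule q'.primeCompl M')
  have : Module.Flat (Localization.AtPrime p') (LocalizedModule q'.primeCompl M') :=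
    (Module.flat_iff_of_isLocalization (Localization.AtPrime p') p'.primeCompl _).mpr hL
  have : IsScalarTower R (Localization.AtPrime p') (LocalizedModule q'.primeCompl M') :=
    IsScalarTower.to₁₃₄ R R' (Localization.AtPrime p') (LocalizedModule q'.primeCompl M')
  have : Module.Flat R (LocalizedModule q'.primeCompl M') :=
    Module.Flat.trans R (Localization.AtPrime p') _
  refine Groth.L20.flat_localizedModule_of_descent (T := Localization.AtPrime q')
    (((LocalizedModule.mkLinearMap q'.primeCompl M').restrictScalars S).comp f)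
    (hf.comp (IsLocalizedModule.isBaseChange q'.primeCompl (Localization.AtPrime q') _)) _ ?_
  intro htop
  have h2 : (q'.map (algebraMap S' (Localization.AtPrime q'))) = ⊤ := by
    rw [eq_top_iff, ← htop, IsScalarTower.algebraMap_eq S S' (Localization.AtPrime q'), ← Ideal.map_map]
    exact Ideal.map_mono Ideal.map_comap_le
  rw [Localization.AtPrime.map_eq_maximalIdeal] at h2
  exact (IsLocalRing.maximalIdeal.isMaximal _).ne_top h2

end Groth.Agent.S6919
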