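import Groth.Statements.S6920
import Mathlib.Algebra.Category.Ring.Epi
import Mathlib.Algebra.Category.ModuleCat.ChangeOfRings


set_option autoImplicit false
set_option backward.defeqAttrib.useBackward true
set_option backward.isDefEq.respectTransparency false
universe u
open CategoryTheory CategoryTheory.Limits MonoidalCategory
open DRing CategoryTheory
open scoped TensorProduct

namespace Groth.Agent.S6920

/-- For an epimorphism of rings `φ : R → S` and a complex `I•` of `S`-modules, if the underlying complex
of `R`-modules of `I•` is K-injective, then `I•` itself is K-injective over `S`. -/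
theorem result (R S : Type u) [CommRing R] [CommRing S] (φ : R →+* S)
    (hφ : Epi (CommRingCat.ofHom φ)) (I : DRing.Cx S)
    [CochainComplex.IsKInjective ((DRing.restrictCx φ).obj I)] : CochainComplex.IsKInjective I := by
  let : Algebra R S := φ.toAlgebra
  have : Algebra.IsEpi R S := CommRingCat.epi_iff_epi.mp hφ
  have hfull : (ModuleCat.restrictScalars.{u} φ).Full := ⟨fun {M N} h => ?_⟩
  · refine ⟨fun {K} f hK => ?_⟩
    have hK' : ((DRing.restrictCx φ).obj K).Acyclic := fun n => by
      rw [HomologicalComplex.exactAt_iff]
      exact (HomologicalComplex.exactAt_iff _ _).1 (hK n) |>.map (ModuleCat.restrictScalars.{u} φ)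
    obtain ⟨h⟩ := CochainComplex.IsKInjective.nonempty_homotopy_zero ((DRing.restrictCx φ).map f) hK'
    refine ⟨{ hom := fun i j => (ModuleCat.restrictScalars.{u} φ).preimage (h.hom i j)
              zero := fun i j hij => ?_
              comm := fun i => ?_ }⟩
    · apply (ModuleCat.restrictScalars.{u} φ).map_injective
      rw [Functor.map_preimage, Functor.map_zero]
      exact h.zero i j hij
    · apply (ModuleCat.restrictScalars.{u} φ).map_injective
      rw [HomologicalComplex.zero_f, add_zero, dNext_eq _ (show (ComplexShape.up ℤ).Rel i (i + 1) from rfl),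
        prevD_eq _ (show (ComplexShape.up ℤ).Rel (i - 1) i from sub_add_cancel i 1)]
      have h' := h.comm i
      rw [HomologicalComplex.zero_f, add_zero, dNext_eq _ (show (ComplexShape.up ℤ).Rel i (i + 1) from rfl),
        prevD_eq _ (show (ComplexShape.up ℤ).Rel (i - 1) i from sub_add_cancel i 1)] at h'
      simp only [Functor.map_add, Functor.map_comp, Functor.map_preimage]
      exact h'
  · let : Module R M := Module.compHom M φ
    let : Module R N := Module.compHom N φ
    have : IsScalarTower R S M := ⟨fun r s m => mul_smul (φ r) s m⟩
    have : IsScalarTower R S N := ⟨fun r s m => mul_smul (φ r) s m⟩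
    let h0 : M →ₗ[R] N :=
      { toFun := fun m => h.hom m
        map_add' := fun x y => map_add h.hom x y
        map_smul' := fun r x => h.hom.map_smul r x }
    have key : ∀ (s : S) (m : M), h0 (s • m) = s • h0 m := fun s m => by
      have hinj := Algebra.injective_lift_lsmul R S M
      have he : (1 : S) ⊗ₜ[R] (s • m) = s ⊗ₜ[R] m := hinj (by simp)
      have := congrArg (TensorProduct.lift ((LinearMap.restrictScalars₁₂ R R (LinearMap.lsmul S N)).compl₂ h0)) he
      simpa using this
    exact ⟨ModuleCat.ofHom { toFun := fun m => h.hom m, map_add' := fun x y => map_add h.hom x y, map_smul' := key }, rfl⟩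

end Groth.Agent.S6920
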