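import Groth.Statements.S6926
import Groth.Agent.L20.Stage.CompleteIdeal

set_option autoImplicit false
universe u
open TensorProduct
open FlatMor

set_option backward.isDefEq.respectTransparency.types false
set_option backward.isDefEq.respectTransparency.types false
set_option linter.style.haveILetI false
namespace Groth.Agent.S6926

/-- Let `(R, 𝔪)` be a complete Noetherian local ring, `R → S` with `S` Noetherian, `M` a finite
`S`-module, and `I ⊆ 𝔪` the least ideal with the property that, at each prime `𝔮` of `S` lying above
`𝔪`, the localization `(M/IM)_𝔮` is an `R/I`-flat module. Let `φ : R → R'` be a local homomorphism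
to a Noetherian local ring `(R', 𝔪')`, `S' = S ⊗_R R'`, `M' = M ⊗_R R'`. Then `M'_{𝔮'}` is flat over
`R'` for every prime `𝔮'` of `S'` lying over `𝔪'` if and only if `φ(I) = 0`. -/
theorem result {R S R' S' : Type u} [CommRing R] [IsLocalRing R]
    [IsNoetherianRing R] [IsAdicComplete (IsLocalRing.maximalIdeal R) R] [CommRing S] [IsNoetherianRing S]
    [CommRing R'] [IsLocalRing R'] [IsNoetherianRing R'] [CommRing S']
    [Algebra R S] [Algebra R R'] [IsLocalHom (algebraMap R R')] [Algebra S S'] [Algebra R' S'] [Algebra R S']
    [IsScalarTower R S S'] [IsScalarTower R R' S'] [Algebra.IsPushout R S R' S']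
    {M M' : Type u} [AddCommGroup M] [Module S M] [Module R M] [IsScalarTower R S M] [Module.Finite S M]
    [AddCommGroup M'] [Module S' M'] [Module R' M'] [IsScalarTower R' S' M'] [Module S M'] [IsScalarTower S S' M']
    (f : M →ₗ[S] M') (hf : IsBaseChange S' f) (I : Ideal R) (hIm : I ≤ IsLocalRing.maximalIdeal R)
    (hI : (∀ (q : Ideal S) [q.IsPrime], q.comap (algebraMap R S) = IsLocalRing.maximalIdeal R →
        Module.Flat (R ⧸ I) ((R ⧸ I) ⊗[R] LocalizedModule q.primeCompl M)))
    (hmin : ∀ J : Ideal R, (∀ (q : Ideal S) [q.IsPrime], q.comap (algebraMap R S) = IsLocalRing.maximalIdeal R →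
        Module.Flat (R ⧸ J) ((R ⧸ J) ⊗[R] LocalizedModule q.primeCompl M)) → I ≤ J) :
    (∀ (q' : Ideal S') [q'.IsPrime], q'.comap (algebraMap R' S') = IsLocalRing.maximalIdeal R' → FlatCA.FlatAt R' q' M') ↔
      I ≤ RingHom.ker (algebraMap R R') := by
  classical
  haveI : Algebra.IsPushout R R' S S' := Algebra.IsPushout.symm inferInstance
  constructor
  · intro h
    haveI : IsLocalHom (algebraMap R R') := inferInstance
    have hmm : (IsLocalRing.maximalIdeal R).map (algebraMap R R') ≤ IsLocalRing.maximalIdeal R' :=
      ((IsLocalRing.local_hom_TFAE (algebraMap R R')).out 0 2 rfl rfl).mp inferInstance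
    have key : ∀ n : ℕ, I ≤ (IsLocalRing.maximalIdeal R' ^ (n + 1)).comap (algebraMap R R') := fun n => by
      let A' := R' ⧸ IsLocalRing.maximalIdeal R' ^ (n + 1)
      have hK : IsLocalRing.maximalIdeal R ^ (n + 1) ≤ RingHom.ker (algebraMap R A') := fun x hx => by
        refine Ideal.Quotient.eq_zero_iff_mem.mpr ?_
        exact Ideal.pow_right_mono hmm (n + 1) (Ideal.map_pow (algebraMap R R') _ _ ▸ Ideal.mem_map_of_mem _ hx)
      obtain ⟨In, hKIn, hIn⟩ := Groth.L20.Stage.exists_ideal_level R S M n
      have hA' : Groth.L20.Stage.FlatStalks R S M A' := fun q _ _ => by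
        obtain ⟨D, W, _, _, _, _, _, _, hpush, _, _, _, _, _, _, g, hg⟩ := Groth.L20.RG.exists_baseChange_model R S M A'
        rw [Groth.L20.Stage.flat_baseChange_loc_iff q A' g hg]
        intro Q _ _
        letI : Algebra R' D := ((algebraMap A' D).comp (algebraMap R' A')).toAlgebra
        haveI : IsScalarTower R' A' D := IsScalarTower.of_algebraMap_eq' rfl
        haveI : IsScalarTower R R' D := IsScalarTower.of_algebraMap_eq fun r => by
          rw [IsScalarTower.algebraMap_apply R' A' D, ← IsScalarTower.algebraMap_apply R R' A',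
            ← IsScalarTower.algebraMap_apply R A' D]
        let ψ : S' →ₐ[R] D :=
          Algebra.pushoutDesc S' (IsScalarTower.toAlgHom R R' D) (IsScalarTower.toAlgHom R S D) fun _ _ => Commute.all _ _
        letI : Algebra S' D := ψ.toRingHom.toAlgebra
        haveI : IsScalarTower R' S' D := IsScalarTower.of_algebraMap_eq fun x =>
          (Algebra.pushoutDesc_left S' (IsScalarTower.toAlgHom R R' D) (IsScalarTower.toAlgHom R S D) (fun _ _ => Commute.all _ _) x).symm
        haveI : IsScalarTower S S' D := IsScalarTower.of_algebraMap_eq fun x =>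
          (Algebra.pushoutDesc_right S' (IsScalarTower.toAlgHom R R' D) (IsScalarTower.toAlgHom R S D) (fun _ _ => Commute.all _ _) x).symm
        haveI : IsScalarTower R S' D := IsScalarTower.of_algebraMap_eq fun x => (ψ.commutes x).symm
        haveI hp1 : Algebra.IsPushout R' A' S' D := (Algebra.IsPushout.comp_iff R R' S S' (T := A') (T' := D)).mp hpush
        haveI : Algebra.IsPushout R' S' A' D := Algebra.IsPushout.symm hp1
        letI : Module S' W := Module.compHom W (algebraMap S' D)
        haveI : IsScalarTower S' D W := IsScalarTower.of_algebraMap_smul fun _ _ => rfl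
        haveI : IsScalarTower S S' W := IsScalarTower.of_algebraMap_smul fun s m => by
          show algebraMap S' D (algebraMap S S' s) • m = s • m
          rw [← IsScalarTower.algebraMap_apply, algebraMap_smul]
        letI : Module R' W := Module.compHom W (algebraMap R' A')
        haveI : IsScalarTower R' A' W := IsScalarTower.of_algebraMap_smul fun _ _ => rfl
        haveI : IsScalarTower R' S' W := IsScalarTower.of_algebraMap_smul fun r x => by
          show algebraMap S' D (algebraMap R' S' r) • x = algebraMap R' A' r • x
          rw [← IsScalarTower.algebraMap_apply, IsScalarTower.algebraMap_apply R' A' D, algebraMap_smul]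
        let G : M' →ₗ[S'] W := hf.lift g
        have hG : IsBaseChange D G := IsBaseChange.of_comp hf (by rw [hf.lift_comp]; exact hg)
        have hG' : IsBaseChange A' (G.restrictScalars R') := Groth.L20.isBaseChange_restrictScalars hG
        let q' := Q.comap (algebraMap S' D)
        have hq' : q'.comap (algebraMap R' S') = IsLocalRing.maximalIdeal R' := by
          refine ((IsLocalRing.maximalIdeal.isMaximal R').eq_of_le (Ideal.IsPrime.comap _).ne_top fun x hx => ?_).symm
          rw [Ideal.mem_comap, Ideal.mem_comap, ← IsScalarTower.algebraMap_apply, IsScalarTower.algebraMap_apply R' A' D]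
          refine Ideal.IsPrime.mem_of_pow_mem (inferInstance : Q.IsPrime) (n + 1) ?_
          rw [← map_pow, ← map_pow, show algebraMap R' A' (x ^ (n + 1)) = 0 from
            Ideal.Quotient.eq_zero_iff_mem.mpr (Ideal.pow_mem_pow hx _), map_zero]
          exact zero_mem _
        haveI : Module.Flat R' (LocalizedModule q'.primeCompl M') := h q' hq'
        exact Groth.L20.flat_localizedModule_of_isBaseChange G hG' q'.primeCompl Q.primeCompl fun t ht => ht
      have h1 : I ≤ In := hmin In fun q _ hq => ((hIn (R ⧸ In) (hKIn.trans Ideal.mk_ker.ge)).mpr Ideal.mk_ker.ge) q hq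
      exact fun x hx => Ideal.mem_comap.mpr <| Ideal.Quotient.eq_zero_iff_mem.mp
        (show Ideal.Quotient.mk (IsLocalRing.maximalIdeal R' ^ (n + 1)) (algebraMap R R' x) = 0 from (hIn A' hK).mp hA' (h1 hx))
    intro x hx
    have : algebraMap R R' x ∈ ⨅ n : ℕ, IsLocalRing.maximalIdeal R' ^ n := by
      rw [Submodule.mem_iInf]
      exact fun n => Ideal.pow_le_pow_right n.le_succ (key n hx)
    rwa [Ideal.iInf_pow_eq_bot_of_isLocalRing _ (IsLocalRing.maximalIdeal.isMaximal _).ne_top] at this
  · intro hker q' _ hq'
    letI : Algebra (R ⧸ I) R' := (Ideal.Quotient.lift I (algebraMap R R') fun a ha => hker ha).toAlgebra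
    haveI : IsScalarTower R (R ⧸ I) R' := IsScalarTower.of_algebraMap_eq fun r => rfl
    let q := q'.comap (algebraMap S S')
    have hq : q.comap (algebraMap R S) = IsLocalRing.maximalIdeal R := by
      rw [Ideal.comap_comap, ← IsScalarTower.algebraMap_eq, IsScalarTower.algebraMap_eq R R' S', ← Ideal.comap_comap, hq']
      exact ((IsLocalRing.local_hom_TFAE (algebraMap R R')).out 0 4 rfl rfl).mp inferInstance
    exact (Groth.L20.Stage.flat_baseChange_loc_iff q R' f hf).mp
      (Groth.L20.Stage.flat_tensor_mono (hI q hq)) q' le_rfl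


end Groth.Agent.S6926
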