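import Groth.Statements.S6927
import Groth.Agent.L20.Stage.CompleteIdeal
import Groth.Agent.L20.RG.FlatPtsHensel

set_option autoImplicit false
universe u
open TensorProduct
open FlatMor

set_option backward.isDefEq.respectTransparency.types false
set_option backward.isDefEq.respectTransparency.types false
set_option linter.style.haveILetI false
namespace Groth.Agent.S6927

/-- Let `(R, 𝔪)` be a complete Noetherian local ring, `R → S` of finite type, `M` a finite `S`-module,
and `I ⊆ 𝔪` the least ideal for which, at every prime `𝔮` of `S` lying over `𝔪`, the localization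
`(M/IM)_𝔮` is an `R/I`-flat module. Then for every local homomorphism `φ : R → R'` of local rings
(`R'` arbitrary), with `S' = S ⊗_R R'` and `M' = M ⊗_R R'`: `M'_{𝔮'}` is flat over `R'` for every
prime `𝔮'` of `S'` over `𝔪'` if and only if `φ(I) = 0`. -/
theorem result {R S R' S' : Type u} [CommRing R] [IsLocalRing R]
    [IsNoetherianRing R] [IsAdicComplete (IsLocalRing.maximalIdeal R) R] [CommRing S]
    [CommRing R'] [IsLocalRing R'] [CommRing S']
    [Algebra R S] [Algebra.FiniteType R S] [Algebra R R'] [IsLocalHom (algebraMap R R')] [Algebra S S'] [Algebra R' S']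
    [Algebra R S'] [IsScalarTower R S S'] [IsScalarTower R R' S'] [Algebra.IsPushout R S R' S']
    {M M' : Type u} [AddCommGroup M] [Module S M] [Module R M] [IsScalarTower R S M] [Module.Finite S M]
    [AddCommGroup M'] [Module S' M'] [Module R' M'] [IsScalarTower R' S' M'] [Module S M'] [IsScalarTower S S' M']
    (f : M →ₗ[S] M') (hf : IsBaseChange S' f) (I : Ideal R) (hIm : I ≤ IsLocalRing.maximalIdeal R)
    (hI : (∀ (q : Ideal S) [q.IsPrime], q.comap (algebraMap R S) = IsLocalRing.maximalIdeal R →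
        Module.Flat (R ⧸ I) ((R ⧸ I) ⊗[R] LocalizedModule q.primeCompl M)))
    (hmin : ∀ J : Ideal R, (∀ (q : Ideal S) [q.IsPrime], q.comap (algebraMap R S) = IsLocalRing.maximalIdeal R →
        Module.Flat (R ⧸ J) ((R ⧸ J) ⊗[R] LocalizedModule q.primeCompl M)) → I ≤ J) :
    (∀ (q' : Ideal S') [q'.IsPrime], q'.comap (algebraMap R' S') = IsLocalRing.maximalIdeal R' → FlatCA.FlatAt R' q' M') ↔
      I ≤ RingHom.ker (algebraMap R R') := by
  classical
  haveI : Algebra.IsPushout R R' S S' := Algebra.IsPushout.symm inferInstance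
  haveI : HenselianLocalRing R :=
    { is_henselian := fun f hf a h₁ h₂ => by
        refine HenselianRing.is_henselian (I := IsLocalRing.maximalIdeal R) f hf a h₁ ?_
        exact h₂.map (Ideal.Quotient.mk _) }
  let ι := {q : PrimeSpectrum S // q.asIdeal.comap (algebraMap R S) = IsLocalRing.maximalIdeal R}
  have hex : ∀ q : ι, ∃ J : Ideal R, ∀ (A : Type u) [CommRing A] [IsLocalRing A] [Algebra R A]
      [IsLocalHom (algebraMap R A)], Groth.L20.RG.FlatPts R S M q.1.asIdeal A ↔ J ≤ RingHom.ker (algebraMap R A) := fun q => by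
    haveI : q.1.asIdeal.LiesOver (IsLocalRing.maximalIdeal R) := ⟨q.2.symm⟩
    exact Groth.L20.RG.exists_ideal_of_henselian q.1.asIdeal M
  choose J hJ using hex
  have hJm : ∀ q, J q ≤ IsLocalRing.maximalIdeal R := fun q => by
    haveI : IsLocalHom (algebraMap R (IsLocalRing.ResidueField R)) := inferInstanceAs (IsLocalHom (IsLocalRing.residue R))
    have := (hJ q (IsLocalRing.ResidueField R)).mp fun D' N' _ _ _ _ _ _ _ _ _ _ _ _ _ g hg Q _ _ _ => inferInstance
    exact this.trans (IsLocalRing.ker_residue (R := R)).le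
  have hquot : ∀ K : Ideal R, K ≤ IsLocalRing.maximalIdeal R → ∀ q : ι,
      (J q ≤ K ↔ Module.Flat (R ⧸ K) ((R ⧸ K) ⊗[R] LocalizedModule q.1.asIdeal.primeCompl M)) := fun K hK q => by
    haveI : Nontrivial (R ⧸ K) := Ideal.Quotient.nontrivial_iff.mpr fun h =>
      (IsLocalRing.maximalIdeal.isMaximal R).ne_top (top_le_iff.mp (h ▸ hK))
    haveI : IsLocalRing (R ⧸ K) := IsLocalRing.of_surjective' (Ideal.Quotient.mk K) Ideal.Quotient.mk_surjective
    have hc : (IsLocalRing.maximalIdeal (R ⧸ K)).comap (algebraMap R (R ⧸ K)) = IsLocalRing.maximalIdeal R :=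
      IsLocalRing.eq_maximalIdeal (Ideal.comap_isMaximal_of_surjective _ Ideal.Quotient.mk_surjective)
    haveI : IsLocalHom (algebraMap R (R ⧸ K)) := ((IsLocalRing.local_hom_TFAE (algebraMap R (R ⧸ K))).out 0 4 rfl rfl).mpr hc
    rw [← Ideal.mk_ker (I := K)]
    rw [show RingHom.ker (Ideal.Quotient.mk K) = RingHom.ker (algebraMap R (R ⧸ K)) from rfl, ← hJ q (R ⧸ K)]
    rw [show RingHom.ker (algebraMap R (R ⧸ K)) = K from Ideal.mk_ker]
    constructor
    · intro h
      obtain ⟨D, W, _, _, _, _, _, _, hpush, _, _, _, _, _, _, g, hg⟩ := Groth.L20.RG.exists_baseChange_model R S M (R ⧸ K)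
      rw [Groth.L20.Stage.flat_baseChange_loc_iff q.1.asIdeal (R ⧸ K) g hg]
      intro Q _ hQ
      -- the unique prime over `q`
      obtain ⟨P, hP, hPm, hPq⟩ := Groth.L20.RG.exists_prime_of_isPushout (R := R) (R' := R ⧸ K) (D := S) (D' := D)
        (IsLocalRing.maximalIdeal (R ⧸ K)) q.1.asIdeal (by rw [hc, q.2])
      haveI := hP
      have hQP : Q ≤ P := by
        intro y hy
        obtain ⟨s, rfl⟩ := Groth.L20.RG.surjective_of_isPushout (R := R) (R' := R ⧸ K) (D := S) (D' := D)
          Ideal.Quotient.mk_surjective y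
        have h2 : s ∈ Q.comap (algebraMap S D) := hy
        have h3 := hQ h2
        rw [← hPq] at h3
        exact h3
      haveI := h D W g hg P hPm hPq
      exact Groth.L20.flat_localizedModule_of_le (T := P.primeCompl) (T' := Q.primeCompl)
        (fun x hx hxQ => hx (hQP hxQ)) inferInstance
    · intro h D W _ _ _ _ _ _ _ _ _ _ _ _ _ g hg Q _ _ hQq
      exact (Groth.L20.Stage.flat_baseChange_loc_iff q.1.asIdeal (R ⧸ K) g hg).mp h Q hQq.le
  have hIeq : I = ⨆ q, J q := by
    refine le_antisymm (hmin _ fun q _ hq => ?_) (iSup_le fun q => (hquot I hIm q).mpr (hI q.1.asIdeal q.2))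
    exact (hquot _ (iSup_le hJm) ⟨⟨q, inferInstance⟩, hq⟩).mp (le_iSup J _)
  rw [hIeq, iSup_le_iff]
  constructor
  · intro h q
    refine (hJ q R').mp (Groth.L20.RG.flatPts_of_model f hf fun Q _ hQm _ => ?_)
    exact h Q hQm
  · intro h q' _ hq'
    have hq : (q'.comap (algebraMap S S')).comap (algebraMap R S) = IsLocalRing.maximalIdeal R := by
      rw [Ideal.comap_comap, ← IsScalarTower.algebraMap_eq, IsScalarTower.algebraMap_eq R R' S', ← Ideal.comap_comap, hq']
      exact ((IsLocalRing.local_hom_TFAE (algebraMap R R')).out 0 4 rfl rfl).mp inferInstance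
    exact (hJ ⟨⟨q'.comap (algebraMap S S'), Ideal.IsPrime.comap _⟩, hq⟩ R').mpr (h _) S' M' f hf q' hq' rfl


end Groth.Agent.S6927
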