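import Groth.Statements.S6928
import Groth.Agent.L20.Stage.Tensor
import Groth.Agent.L20.RG.UnivInjModel

set_option autoImplicit false
universe u
open FlatMor

set_option backward.isDefEq.respectTransparency.types false
open TensorProduct
attribute [local instance] Algebra.TensorProduct.rightAlgebra
set_option backward.isDefEq.respectTransparency.types false
set_option linter.style.haveILetI false
set_option maxHeartbeats 1000000
namespace Groth.Agent.S6928

/-- Let `R → S` be a ring map that is essentially of finite presentation, `J ⊆ S` an ideal and `M` a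
finitely presented `S`-module. Let `(R_λ)` be a directed system of `R`-algebras with colimit `R'`,
and `I_λ ⊆ R_λ` ideals with `I_λ R_μ ⊆ I_μ`, `I' = colim I_λ`, `S' = S ⊗_R R'`, `M' = M ⊗_R R'`. If
`M'_{𝔮'}` is flat over `R'` for every prime `𝔮' ⊇ I'S' + JS'`, then there is `λ` such that, with
`S_λ = S ⊗_R R_λ` and `M_λ = M ⊗_R R_λ`, `(M_λ)_𝔮` is flat over `R_λ` for every prime `𝔮 ⊇ I_λ S_λ +
J S_λ`. -/
theorem result {R S : Type u} [CommRing R] [CommRing S] [Algebra R S] (hS : FlatCA.EssFinitePresentation R S)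
    {M : Type u} [AddCommGroup M] [Module S M] [Module R M] [IsScalarTower R S M] [Module.FinitePresentation S M]
    {ι : Type u} [Preorder ι] (G : ι → Type u) [∀ i, CommRing (G i)] [∀ i, Algebra R (G i)]
    (g : ∀ i j, i ≤ j → G i →+* G j) (hgR : ∀ i j (h : i ≤ j), (g i j h).comp (algebraMap R (G i)) = algebraMap R (G j))
    (R' : Type u) [CommRing R'] [Algebra R R'] [∀ i, Algebra (G i) R'] [∀ i, IsScalarTower R (G i) R']
    (hcolim : FlatCA.IsDirectedColimitRing G g R')
    (Il : ∀ i, Ideal (G i)) (hIl : ∀ i j (h : i ≤ j), (Il i).map (g i j h) ≤ Il j)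
    {S' : Type u} [CommRing S'] [Algebra S S'] [Algebra R' S'] [Algebra R S'] [IsScalarTower R S S']
    [IsScalarTower R R' S'] [Algebra.IsPushout R S R' S']
    {M' : Type u} [AddCommGroup M'] [Module S' M'] [Module R' M'] [IsScalarTower R' S' M'] [Module S M']
    [IsScalarTower S S' M'] (f : M →ₗ[S] M') (hf : IsBaseChange S' f)
    (J : Ideal S)
    (h : ∀ (q' : Ideal S') [q'.IsPrime],
      (⨆ i, (Il i).map (algebraMap (G i) R')).map (algebraMap R' S') ⊔ J.map (algebraMap S S') ≤ q' →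
        FlatCA.FlatAt R' q' M') :
    ∃ i : ι, ∀ (Si Mi : Type u) [CommRing Si] [Algebra S Si] [Algebra (G i) Si] [Algebra R Si] [IsScalarTower R S Si]
      [IsScalarTower R (G i) Si] [Algebra.IsPushout R S (G i) Si] [AddCommGroup Mi] [Module Si Mi] [Module (G i) Mi]
      [IsScalarTower (G i) Si Mi] [Module S Mi] [IsScalarTower S Si Mi] (fi : M →ₗ[S] Mi), IsBaseChange Si fi →
      ∀ (q : Ideal Si) [q.IsPrime], (Il i).map (algebraMap (G i) Si) ⊔ J.map (algebraMap S Si) ≤ q → FlatCA.FlatAt (G i) q Mi := by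
  classical
  obtain ⟨S₀, _, _, _, _, T, hfp, hloc⟩ := hS
  haveI := hfp
  haveI := hloc
  let e : Localization T ≃ₐ[S₀] S := IsLocalization.algEquiv T (Localization T) S
  letI : Module S₀ M := Module.compHom M (algebraMap S₀ S)
  haveI : IsScalarTower S₀ S M := IsScalarTower.of_algebraMap_smul fun _ _ => rfl
  obtain ⟨M₀, _, _, hM₀, l, hl⟩ : ∃ (M₀ : Type u) (_ : AddCommGroup M₀) (_ : Module S₀ M₀)
      (_ : Module.FinitePresentation S₀ M₀) (l : M₀ →ₗ[S₀] M), IsLocalizedModule T l := by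
    letI : Module (Localization T) M := Module.compHom M e.toAlgHom.toRingHom
    haveI : IsScalarTower S₀ (Localization T) M := IsScalarTower.of_algebraMap_smul fun s m => by
      show e (algebraMap S₀ (Localization T) s) • m = s • m
      rw [e.commutes, algebraMap_smul]
    haveI : Module.FinitePresentation (Localization T) M := by
      letI : Algebra S (Localization T) := e.symm.toAlgHom.toRingHom.toAlgebra
      haveI : IsScalarTower S (Localization T) M := IsScalarTower.of_algebraMap_smul fun b m => by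
        show e (e.symm b) • m = b • m
        rw [e.apply_symm_apply]
      obtain ⟨eM⟩ := Groth.L20.RG.exists_equiv_of_bijective (A := S) (A₁ := Localization T) (M := M) e.symm.bijective
      exact Module.FinitePresentation.of_equiv eM
    exact Groth.L20.RG.exists_fp_localization_model T M
  haveI := hM₀
  haveI := hl
  have hlb : IsBaseChange S l := IsLocalizedModule.isBaseChange T S l
  -- the limit model
  let D' := S₀ ⊗[R] R'
  let e' : S ⊗[R] R' ≃ₐ[S] S' := Algebra.IsPushout.equiv R S R' S'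
  let ι₀ : D' →ₐ[R] S ⊗[R] R' := Algebra.TensorProduct.map (IsScalarTower.toAlgHom R S₀ S) (AlgHom.id R R')
  letI aD : Algebra D' S' := (e'.toAlgHom.toRingHom.comp ι₀.toRingHom).toAlgebra
  letI : Algebra S₀ S' := ((algebraMap S S').comp (algebraMap S₀ S)).toAlgebra
  haveI : IsScalarTower S₀ S S' := IsScalarTower.of_algebraMap_eq' rfl
  haveI : IsScalarTower R' D' S' := IsScalarTower.of_algebraMap_eq fun r => by
    show algebraMap R' S' r = e' (ι₀ ((1 : S₀) ⊗ₜ[R] r))
    rw [Algebra.TensorProduct.map_tmul, Algebra.IsPushout.equiv_tmul, map_one, map_one, one_mul]; rfl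
  haveI : IsScalarTower S₀ D' S' := IsScalarTower.of_algebraMap_eq fun r => by
    show algebraMap S S' (algebraMap S₀ S r) = e' (ι₀ (r ⊗ₜ[R] (1 : R')))
    rw [Algebra.TensorProduct.map_tmul, Algebra.IsPushout.equiv_tmul, map_one, map_one, mul_one]; rfl
  haveI : IsScalarTower R D' S' := IsScalarTower.of_algebraMap_eq fun r => by
    rw [IsScalarTower.algebraMap_apply R R' S', IsScalarTower.algebraMap_apply R' D' S',
      ← IsScalarTower.algebraMap_apply R R' D']
  haveI : IsScalarTower R S₀ S' := IsScalarTower.of_algebraMap_eq fun r => by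
    rw [IsScalarTower.algebraMap_apply S₀ S S', ← IsScalarTower.algebraMap_apply R S₀ S,
      ← IsScalarTower.algebraMap_apply R S S']
  haveI : Module.Flat D' S' := by
    haveI : Algebra.IsPushout R S₀ R' D' := inferInstance
    haveI h' : Algebra.IsPushout R S R' S' := inferInstance
    haveI hp : Algebra.IsPushout S₀ S D' S' := (Algebra.IsPushout.comp_iff R S₀ R' D' (T := S) (T' := S')).mp h'
    haveI : Module.Flat S₀ S := IsLocalization.flat S T
    exact Module.Flat.isBaseChange S₀ D' S S' (Algebra.IsPushout.symm hp).out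
  let W := D' ⊗[S₀] M₀
  haveI : IsScalarTower R' D' W := TensorProduct.isScalarTower_left
  letI : Module D' M' := Module.compHom M' (algebraMap D' S')
  haveI : IsScalarTower D' S' M' := IsScalarTower.of_algebraMap_smul fun _ _ => rfl
  letI : Module S₀ M' := Module.compHom M' (algebraMap S₀ S)
  haveI : IsScalarTower S₀ S M' := IsScalarTower.of_algebraMap_smul fun _ _ => rfl
  haveI : IsScalarTower S₀ S' M' := IsScalarTower.of_algebraMap_smul fun r m => by
    rw [IsScalarTower.algebraMap_apply S₀ S S', algebraMap_smul, algebraMap_smul]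
  haveI : IsScalarTower S₀ D' M' := IsScalarTower.of_algebraMap_smul fun r m => by
    show algebraMap D' S' (algebraMap S₀ D' r) • m = r • m
    rw [← IsScalarTower.algebraMap_apply, algebraMap_smul]
  have h0 : IsBaseChange D' (TensorProduct.mk S₀ D' M₀ 1) := TensorProduct.isBaseChange S₀ M₀ D'
  let G' : W →ₗ[D'] M' := h0.lift ((f.restrictScalars S₀) ∘ₗ l)
  have hG : IsBaseChange S' G' := IsBaseChange.of_comp h0 (by rw [h0.lift_comp]; exact hlb.comp hf)
  let J' : Ideal S' := (⨆ i, (Il i).map (algebraMap (G i) R')).map (algebraMap R' S') ⊔ J.map (algebraMap S S')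
  have hg : ∀ q : {q : PrimeSpectrum S' // J' ≤ q.asIdeal}, ∃ z : D', algebraMap D' S' z ∉ q.1.asIdeal ∧
      ∀ (Q : Ideal D') [Q.IsPrime], z ∉ Q → Module.Flat R' (LocalizedModule Q.primeCompl W) := fun q => by
    haveI := h q.1.asIdeal q.2
    haveI : Module.Flat R' (LocalizedModule q.1.asIdeal.primeCompl M') := h q.1.asIdeal q.2
    haveI := Groth.L20.AboveClosed.flat_of_flat_above (A' := R') G' hG q.1.asIdeal
      (q.1.asIdeal.comap (algebraMap D' S')) rfl
    haveI : Algebra.IsPushout R R' S₀ D' := Algebra.IsPushout.symm inferInstance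
    haveI : Algebra.FinitePresentation R' D' :=
      Algebra.FinitePresentation.equiv (Algebra.IsPushout.equiv R R' S₀ D')
    obtain ⟨z, hz, hflat⟩ := Groth.L20.exists_flat_away (R := R') (M := W)
      (q.1.asIdeal.comap (algebraMap D' S')).primeCompl
    exact ⟨z, hz, (Groth.L20.RG.flat_away_iff _).mp hflat⟩
  choose z hz hflat using hg
  have htop : J' ⊔ Ideal.span (Set.range fun q => algebraMap D' S' (z q)) = ⊤ := by
    by_contra hne
    obtain ⟨m, hm, hle⟩ := Ideal.exists_le_maximal _ hne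
    haveI := hm.isPrime
    exact hz ⟨⟨m, inferInstance⟩, le_sup_left.trans hle⟩ (hle (Ideal.mem_sup_right (Ideal.subset_span ⟨_, rfl⟩)))
  obtain ⟨a, ha, b, hb, hab⟩ := Submodule.mem_sup.mp ((Ideal.eq_top_iff_one _).mp htop)
  obtain ⟨t, htsub, hbt⟩ := Submodule.mem_span_finite_of_mem_span hb
  choose q hq using fun x : t => htsub x.2
  -- stage of the elements
  obtain ⟨n, ⟨en⟩⟩ := Finite.exists_equiv_fin t
  obtain ⟨i₀, hi₀⟩ := Groth.L20.Stage.exists_tensor_lift g hgR hcolim S₀ (fun k : Fin n => z (q (en.symm k)))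
  choose z₀ hz₀ using hi₀
  have hdir := hcolim.1
  obtain ⟨-, -, hid, hcomp, hA, -, -⟩ := id hcolim
  let tr := Groth.L20.Stage.trans (R := R) g hgR
  let lim := fun i => Groth.L20.Stage.toLim (R := R) (R' := R') (G := G) i
  let ψ : ∀ i, S ⊗[R] G i →ₐ[S] S' := fun i =>
    e'.toAlgHom.comp (Groth.L20.Stage.tmap S (lim i))
  have hψtr : ∀ i j (hij : i ≤ j) x, ψ j (Groth.L20.Stage.tmap S (tr i j hij) x) = ψ i x := fun i j hij x => by
    show e' _ = e' _
    refine congrArg e' ?_
    induction x using TensorProduct.induction_on with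
    | zero => simp only [map_zero]
    | tmul s c =>
      exact congrArg (s ⊗ₜ[R] ·) (RingHom.congr_fun (hA i j hij) c)
    | add x y hx hy => simp only [map_add, hx, hy]
  let σ : ∀ i, S₀ ⊗[R] G i →ₐ[R] S ⊗[R] G i := fun i =>
    Algebra.TensorProduct.map (IsScalarTower.toAlgHom R S₀ S) (AlgHom.id R (G i))
  let zi : ∀ i, i₀ ≤ i → Fin n → S ⊗[R] G i := fun i hi k =>
    σ i (Groth.L20.Stage.tmap S₀ (tr i₀ i hi) (z₀ k))
  let K : ∀ i, i₀ ≤ i → Ideal (S ⊗[R] G i) := fun i hi =>
    (Il i).map (algebraMap (G i) (S ⊗[R] G i)) ⊔ J.map (algebraMap S (S ⊗[R] G i)) ⊔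
      Ideal.span (Set.range (zi i hi))
  have hzi : ∀ i j (hi : i₀ ≤ i) (hij : i ≤ j) k,
      Groth.L20.Stage.tmap S (tr i j hij) (zi i hi k) = zi j (hi.trans hij) k := fun i j hi hij k => by
    have key : ∀ w : S₀ ⊗[R] G i₀, Groth.L20.Stage.tmap S (tr i j hij) (σ i (Groth.L20.Stage.tmap S₀ (tr i₀ i hi) w)) =
        σ j (Groth.L20.Stage.tmap S₀ (tr i₀ j (hi.trans hij)) w) := fun w => by
      induction w using TensorProduct.induction_on with
      | zero => simp only [map_zero]
      | tmul s c =>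
        simp only [σ, Groth.L20.Stage.tmap, Algebra.TensorProduct.map_tmul, AlgHom.id_apply]
        congr 1
        exact RingHom.congr_fun (hcomp i₀ i j hi hij) c
      | add x y hx hy => simp only [map_add, hx, hy]
    exact key _
  have hKmono : ∀ i j (hi : i₀ ≤ i) (hij : i ≤ j),
      (K i hi).map (Groth.L20.Stage.tmap S (tr i j hij)) ≤ K j (hi.trans hij) := fun i j hi hij => by
    refine Ideal.map_le_iff_le_comap.mpr (sup_le (sup_le ?_ ?_) ?_)
    · rw [Ideal.map_le_iff_le_comap]
      intro x hx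
      refine Ideal.mem_sup_left (Ideal.mem_sup_left ?_)
      have : Groth.L20.Stage.tmap S (tr i j hij) (algebraMap (G i) (S ⊗[R] G i) x) =
          algebraMap (G j) (S ⊗[R] G j) (g i j hij x) := Algebra.TensorProduct.map_tmul _ _ _ _
      show Groth.L20.Stage.tmap S (tr i j hij) (algebraMap (G i) (S ⊗[R] G i) x) ∈ _
      rw [this]
      exact Ideal.mem_map_of_mem _ (hIl i j hij (Ideal.mem_map_of_mem _ hx))
    · rw [Ideal.map_le_iff_le_comap]
      intro x hx
      refine Ideal.mem_sup_left (Ideal.mem_sup_right ?_)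
      show Groth.L20.Stage.tmap S (tr i j hij) (algebraMap S (S ⊗[R] G i) x) ∈ _
      rw [AlgHom.commutes]
      exact Ideal.mem_map_of_mem _ hx
    · rw [Ideal.span_le]
      rintro _ ⟨k, rfl⟩
      exact Ideal.mem_sup_right (Ideal.subset_span ⟨k, (hzi i j hi hij k).symm⟩)
  haveI := hdir
  have hup : ∀ i j : ι, ∃ l, i ≤ l ∧ j ≤ l := hdir.directed
  have hliftS : ∀ c : S', ∃ i, ∃ _ : i₀ ≤ i, ∃ w : S ⊗[R] G i, ψ i w = c := fun c => by
    obtain ⟨i, hi⟩ := Groth.L20.Stage.exists_tensor_lift g hgR hcolim S (fun _ : Fin 1 => e'.symm c)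
    obtain ⟨w, hw⟩ := hi 0
    obtain ⟨l, hil, h0l⟩ := hup i i₀
    refine ⟨l, h0l, Groth.L20.Stage.tmap S (tr i l hil) w, ?_⟩
    rw [hψtr]
    show e' ((lim i).toLinearMap.lTensor S w) = c
    rw [hw, AlgEquiv.apply_symm_apply]
  let U : Ideal S' :=
    { carrier := {c | ∃ i, ∃ hi : i₀ ≤ i, ∃ w ∈ K i hi, ψ i w = c}
      zero_mem' := ⟨i₀, le_rfl, 0, zero_mem _, map_zero _⟩
      add_mem' := by
        rintro _ _ ⟨i, hi, w, hw, rfl⟩ ⟨j, hj, w', hw', rfl⟩
        obtain ⟨l, hil, hjl⟩ := hup i j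
        refine ⟨l, hi.trans hil, Groth.L20.Stage.tmap S (tr i l hil) w + Groth.L20.Stage.tmap S (tr j l hjl) w',
          add_mem (hKmono i l hi hil (Ideal.mem_map_of_mem _ hw)) (hKmono j l hj hjl (Ideal.mem_map_of_mem _ hw')), ?_⟩
        rw [map_add, hψtr, hψtr]
      smul_mem' := by
        rintro c _ ⟨i, hi, w, hw, rfl⟩
        obtain ⟨j, hj, v, rfl⟩ := hliftS c
        obtain ⟨l, hil, hjl⟩ := hup i j
        refine ⟨l, hi.trans hil, Groth.L20.Stage.tmap S (tr j l hjl) v * Groth.L20.Stage.tmap S (tr i l hil) w,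
          Ideal.mul_mem_left _ _ (hKmono i l hi hil (Ideal.mem_map_of_mem _ hw)), ?_⟩
        rw [map_mul, hψtr, hψtr, smul_eq_mul] }
  have hσψ : ∀ i (w : S₀ ⊗[R] G i), ψ i (σ i w) = algebraMap D' S' (Groth.L20.Stage.tmap S₀ (lim i) w) := fun i w => by
    show e' _ = e' (ι₀ _)
    refine congrArg e' ?_
    induction w using TensorProduct.induction_on with
    | zero => simp only [map_zero]
    | tmul s c =>
      rfl
    | add x y hx hy => simp only [map_add, hx, hy]
  have hlim : ∀ k, Groth.L20.Stage.tmap S₀ (lim i₀) (z₀ k) = z (q (en.symm k)) := fun k => hz₀ k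
  have hψz : ∀ i (hi : i₀ ≤ i) k, ψ i (zi i hi k) = algebraMap D' S' (z (q (en.symm k))) := fun i hi k => by
    rw [← hlim k, ← hσψ i₀ (z₀ k)]
    have h1 := hψtr i₀ i hi (zi i₀ le_rfl k)
    rw [hzi i₀ i le_rfl hi k] at h1
    rw [h1]
    show ψ i₀ (σ i₀ (Groth.L20.Stage.tmap S₀ (tr i₀ i₀ le_rfl) (z₀ k))) = _
    congr 2
    induction z₀ k using TensorProduct.induction_on with
    | zero => simp only [map_zero]
    | tmul s c =>
      simp only [Groth.L20.Stage.tmap, Algebra.TensorProduct.map_tmul, AlgHom.id_apply]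
      congr 1
      exact RingHom.congr_fun (hid i₀) c
    | add x y hx hy => simp only [map_add, hx, hy]
  have h1U : (1 : S') ∈ U := by
    rw [← hab]
    refine U.add_mem ((?_ : J' ≤ U) ha) ((Ideal.span_le.mpr ?_ : Ideal.span (t : Set S') ≤ U) hbt)
    · refine sup_le ?_ (Ideal.map_le_iff_le_comap.mpr fun x hx => ?_)
      · rw [Ideal.map_iSup]
        refine iSup_le fun i => ?_
        rw [Ideal.map_map, Ideal.map_le_iff_le_comap]
        intro x hx
        obtain ⟨l, hil, h0l⟩ := hup i i₀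
        refine ⟨l, h0l, algebraMap (G l) (S ⊗[R] G l) (g i l hil x),
          Ideal.mem_sup_left (Ideal.mem_sup_left (Ideal.mem_map_of_mem _ (hIl i l hil (Ideal.mem_map_of_mem _ hx)))), ?_⟩
        show e' ((1 : S) ⊗ₜ[R] algebraMap (G l) R' (g i l hil x)) = algebraMap R' S' (algebraMap (G i) R' x)
        rw [Algebra.IsPushout.equiv_tmul, map_one, one_mul, ← RingHom.comp_apply (algebraMap (G l) R'), hA]
      · exact ⟨i₀, le_rfl, algebraMap S _ x,
          Ideal.mem_sup_left (Ideal.mem_sup_right (Ideal.mem_map_of_mem _ hx)), AlgHom.commutes _ _⟩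
    · intro x hx
      refine ⟨i₀, le_rfl, zi i₀ le_rfl (en ⟨x, hx⟩), Ideal.mem_sup_right (Ideal.subset_span ⟨_, rfl⟩), ?_⟩
      rw [hψz, Equiv.symm_apply_apply]
      exact hq ⟨x, hx⟩
  obtain ⟨i₁, hi₁, w, hw, hw1⟩ := h1U
  obtain ⟨i₂, hi₂, hkill⟩ := Groth.L20.Stage.exists_tensor_kill g hgR hcolim S i₁ (w - 1) (by
    show Groth.L20.Stage.tmap S (lim i₁) (w - 1) = 0
    apply e'.injective
    rw [map_zero]
    show ψ i₁ (w - 1) = 0
    rw [map_sub, map_one, hw1, sub_self])
  have hK2 : (1 : S ⊗[R] G i₂) ∈ K i₂ (hi₁.trans hi₂) := by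
    have h2 := hKmono i₁ i₂ hi₁ hi₂ (Ideal.mem_map_of_mem _ hw)
    have h3 : Groth.L20.Stage.tmap S (tr i₁ i₂ hi₂) (w - 1) = 0 := hkill
    rw [map_sub, map_one, sub_eq_zero] at h3
    rwa [h3] at h2
  have hst : ∀ k : Fin n, ∃ j, ∃ hj : i₀ ≤ j, ∀ l (hl : j ≤ l) (Q : Ideal (S₀ ⊗[R] G l)) [Q.IsPrime],
      Groth.L20.Stage.tmap S₀ (tr i₀ l (hj.trans hl)) (z₀ k) ∉ Q →
      Module.Flat (G l) (LocalizedModule Q.primeCompl ((S₀ ⊗[R] G l) ⊗[S₀] M₀)) := fun k =>
    Groth.L20.Stage.exists_flat_stage_tensor g hgR hcolim S₀ M₀ i₀ (z₀ k) fun Q _ hQ =>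
      hflat (q (en.symm k)) Q (by rw [← hlim k]; exact hQ)
  choose jf hjf hflatk using hst
  haveI := hcolim.2.1
  obtain ⟨m, hm⟩ := Finset.exists_le (insert i₂ (Finset.univ.image jf))
  have him : i₂ ≤ m := hm _ (Finset.mem_insert_self _ _)
  have h0m : i₀ ≤ m := hi₁.trans (hi₂.trans him)
  refine ⟨m, fun Si Mi => ?_⟩
  intro _ _ _ _ _ _ _ _ _ _ _ _ _ fi hfi Q _ hQ
  let D := S₀ ⊗[R] G m
  let em : S ⊗[R] G m ≃ₐ[S] Si := Algebra.IsPushout.equiv R S (G m) Si
  letI aDi : Algebra D Si := (em.toAlgHom.toRingHom.comp (σ m).toRingHom).toAlgebra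
  letI : Algebra S₀ Si := ((algebraMap S Si).comp (algebraMap S₀ S)).toAlgebra
  haveI : IsScalarTower S₀ S Si := IsScalarTower.of_algebraMap_eq' rfl
  haveI : IsScalarTower (G m) D Si := IsScalarTower.of_algebraMap_eq fun r => by
    show algebraMap (G m) Si r = em (σ m ((1 : S₀) ⊗ₜ[R] r))
    rw [Algebra.TensorProduct.map_tmul, Algebra.IsPushout.equiv_tmul, map_one, map_one, one_mul]; rfl
  haveI : IsScalarTower S₀ D Si := IsScalarTower.of_algebraMap_eq fun r => by
    show algebraMap S Si (algebraMap S₀ S r) = em (σ m (r ⊗ₜ[R] (1 : G m)))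
    rw [Algebra.TensorProduct.map_tmul, Algebra.IsPushout.equiv_tmul, map_one, map_one, mul_one]; rfl
  haveI : IsScalarTower R D Si := IsScalarTower.of_algebraMap_eq fun r => by
    rw [IsScalarTower.algebraMap_apply R (G m) Si, IsScalarTower.algebraMap_apply (G m) D Si,
      ← IsScalarTower.algebraMap_apply R (G m) D]
  haveI : IsScalarTower R S₀ Si := IsScalarTower.of_algebraMap_eq fun r => by
    rw [IsScalarTower.algebraMap_apply S₀ S Si, ← IsScalarTower.algebraMap_apply R S₀ S,
      ← IsScalarTower.algebraMap_apply R S Si]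
  haveI : Module.Flat D Si := by
    haveI : Algebra.IsPushout R S₀ (G m) D := inferInstance
    haveI h' : Algebra.IsPushout R S (G m) Si := inferInstance
    haveI hp : Algebra.IsPushout S₀ S D Si := (Algebra.IsPushout.comp_iff R S₀ (G m) D (T := S) (T' := Si)).mp h'
    haveI : Module.Flat S₀ S := IsLocalization.flat S T
    exact Module.Flat.isBaseChange S₀ D S Si (Algebra.IsPushout.symm hp).out
  haveI : IsScalarTower (G m) D (D ⊗[S₀] M₀) := TensorProduct.isScalarTower_left
  letI : Module D Mi := Module.compHom Mi (algebraMap D Si)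
  haveI : IsScalarTower D Si Mi := IsScalarTower.of_algebraMap_smul fun _ _ => rfl
  letI : Module S₀ Mi := Module.compHom Mi (algebraMap S₀ S)
  haveI : IsScalarTower S₀ S Mi := IsScalarTower.of_algebraMap_smul fun _ _ => rfl
  haveI : IsScalarTower S₀ Si Mi := IsScalarTower.of_algebraMap_smul fun r x => by
    rw [IsScalarTower.algebraMap_apply S₀ S Si, algebraMap_smul, algebraMap_smul]
  haveI : IsScalarTower S₀ D Mi := IsScalarTower.of_algebraMap_smul fun r x => by
    show algebraMap D Si (algebraMap S₀ D r) • x = r • x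
    rw [← IsScalarTower.algebraMap_apply, algebraMap_smul]
  have h0i : IsBaseChange D (TensorProduct.mk S₀ D M₀ 1) := TensorProduct.isBaseChange S₀ M₀ D
  let Gi : (D ⊗[S₀] M₀) →ₗ[D] Mi := h0i.lift ((fi.restrictScalars S₀) ∘ₗ l)
  have hGi : IsBaseChange Si Gi := IsBaseChange.of_comp h0i (by rw [h0i.lift_comp]; exact hlb.comp hfi)
  obtain ⟨k, hk⟩ : ∃ k, em (zi m h0m k) ∉ Q := by
    by_contra hcon
    push Not at hcon
    have hle : K m h0m ≤ Q.comap em.toAlgHom := by
      refine sup_le (sup_le ?_ ?_) ?_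
      · rw [Ideal.map_le_iff_le_comap]
        intro x hx
        show em ((1 : S) ⊗ₜ[R] x) ∈ Q
        rw [Algebra.IsPushout.equiv_tmul, map_one, one_mul]
        exact hQ (Ideal.mem_sup_left (Ideal.mem_map_of_mem _ hx))
      · rw [Ideal.map_le_iff_le_comap]
        intro x hx
        show em (algebraMap S _ x) ∈ Q
        rw [AlgEquiv.commutes]
        exact hQ (Ideal.mem_sup_right (Ideal.mem_map_of_mem _ hx))
      · rw [Ideal.span_le]
        rintro _ ⟨k, rfl⟩
        exact hcon k
    have h2 := hle (hKmono i₂ m (hi₁.trans hi₂) him (Ideal.mem_map_of_mem _ hK2))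
    rw [map_one, Ideal.mem_comap, map_one] at h2
    exact (inferInstance : Q.IsPrime).ne_top ((Ideal.eq_top_iff_one _).mpr h2)
  have hjm : jf k ≤ m := hm _ (Finset.mem_insert_of_mem (Finset.mem_image_of_mem _ (Finset.mem_univ _)))
  haveI := hflatk k m hjm (Q.comap (algebraMap D Si)) hk
  exact Groth.L20.AboveClosed.flat_of_flat_below (A' := G m) Gi hGi Q


end Groth.Agent.S6928
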