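import Groth.Statements.S6929
import Groth.Agent.L05.Gluing.ArtinTate
import Mathlib.RingTheory.FiniteType
import Mathlib.Algebra.BigOperators.Pi

set_option autoImplicit false
universe u
open EtAlg

namespace Groth.Agent.S6929

/-- Let `R` be a Noetherian ring, `ι` a finite index type, and `φ_i : A_i → B_i`, `ψ_i : Q → B_i`
surjective `R`-algebra maps, where `Q` and all `A_i`, `B_i` are `R`-algebras of finite type. Then
the fibre product ring `P = Q ×_{∏ B_i} ∏ A_i` (pairs `(q, a)` with `ψ_i(q) = φ_i(a_i)` for all `i`)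
is an `R`-algebra of finite type. -/
theorem result (R : Type u) [CommRing R] [IsNoetherianRing R] {ι : Type u} [Fintype ι]
    (Q : Type u) [CommRing Q] [Algebra R Q] [Algebra.FiniteType R Q] (A B : ι → Type u) [∀ i, CommRing (A i)]
    [∀ i, CommRing (B i)] [∀ i, Algebra R (A i)] [∀ i, Algebra R (B i)] (hA : ∀ i, Algebra.FiniteType R (A i))
    (hB : ∀ i, Algebra.FiniteType R (B i)) (φ : ∀ i, A i →ₐ[R] B i) (ψ : ∀ i, Q →ₐ[R] B i)
    (hφ : ∀ i, Function.Surjective (φ i)) (hψ : ∀ i, Function.Surjective (ψ i)) :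
    Algebra.FiniteType R ↥(AlgHom.equalizer ((AlgHom.pi ψ).comp (AlgHom.fst R Q (∀ i, A i)))
      ((AlgHom.pi fun i => (φ i).comp (Pi.evalAlgHom R A i)).comp (AlgHom.snd R Q (∀ i, A i)))) := by
  classical
  choose a ha using hφ
  choose b hb using hψ
  set E := AlgHom.equalizer ((AlgHom.pi ψ).comp (AlgHom.fst R Q (∀ i, A i)))
    ((AlgHom.pi fun i => (φ i).comp (Pi.evalAlgHom R A i)).comp (AlgHom.snd R Q (∀ i, A i))) with hE
  haveI := hA
  haveI : Algebra.FiniteType R (∀ i, A i) := Groth.L05.Gluing.finiteType_pi A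
  let s : Set (Q × ∀ i, A i) := insert ((1 : Q), (0 : ∀ i, A i)) (Set.range fun i => ((0 : Q), (Pi.single i 1 : ∀ i, A i)))
  refine Groth.L05.Gluing.finiteType_subalgebra_of_span inferInstance E s ((Set.finite_range _).insert _) (eq_top_iff.2 ?_)
  rintro ⟨q, v⟩ -
  have hlift : ∀ (q : Q) (i : ι) (x : A i), φ i x = ψ i q → ∃ e : E, e.1.1 = q ∧ e.1.2 i = x := by
    intro q i x hx
    refine ⟨⟨(q, Function.update (fun j => a j (ψ j q)) i x), funext fun j => ?_⟩, rfl, by simp⟩
    show ψ j q = φ j (Function.update (fun j => a j (ψ j q)) i x j)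
    rcases eq_or_ne j i with rfl | hj
    · rw [Function.update_self, hx]
    · rw [Function.update_of_ne hj, ha]
  have h0 : (q, (0 : ∀ i, A i)) ∈ Submodule.span E s := by
    let e : E := ⟨(q, fun j => a j (ψ j q)), funext fun j => (ha j (ψ j q)).symm⟩
    have : (q, (0 : ∀ i, A i)) = e • ((1 : Q), (0 : ∀ i, A i)) := by
      rw [Subalgebra.smul_def]
      simp [e]
    rw [this]
    exact Submodule.smul_mem _ _ (Submodule.subset_span (Set.mem_insert _ _))
  have h1 : ∀ i, ((0 : Q), (Pi.single i (v i) : ∀ i, A i)) ∈ Submodule.span E s := by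
    intro i
    obtain ⟨e, -, he⟩ := hlift (b i (φ i (v i))) i (v i) (hb i _).symm
    have : ((0 : Q), (Pi.single i (v i) : ∀ i, A i)) = e • ((0 : Q), (Pi.single i 1 : ∀ i, A i)) := by
      rw [Subalgebra.smul_def]
      refine Prod.ext (by simp) (funext fun j => ?_)
      rcases eq_or_ne j i with rfl | hj
      · simp [he]
      · simp [hj]
    rw [this]
    exact Submodule.smul_mem _ _ (Submodule.subset_span (Set.mem_insert_of_mem _ ⟨i, rfl⟩))
  have : (q, v) = (q, (0 : ∀ i, A i)) + ∑ i, ((0 : Q), (Pi.single i (v i) : ∀ i, A i)) := by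
    refine Prod.ext (by simp [Prod.fst_sum]) (by simp [Prod.snd_sum, Finset.univ_sum_single])
  rw [this]
  exact Submodule.add_mem _ h0 (Submodule.sum_mem _ fun i _ => h1 i)

end Groth.Agent.S6929
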