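import Groth.Statements.S6933
import Mathlib.Algebra.Category.Grp.EpiMono

set_option autoImplicit false
universe u
open CategoryTheory
open InjHull

namespace Groth.Agent.S6933

/-- An abelian group `J` that is injective as an object of the category of abelian groups is divisible:
`n J = J` for every nonzero integer `n`. (The published statement is an equivalence; this row states
the implication from injective to divisible.) -/
theorem result (J : Type u) [AddCommGroup J] (hJ : Injective (AddCommGrpCat.of J))
    (n : ℤ) (hn : n ≠ 0) (x : J) : ∃ y : J, n • y = x := by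
  haveI : Injective (AddCommGrpCat.of J) := hJ
  let m : AddCommGrpCat.of (ULift.{u} ℤ) ⟶ AddCommGrpCat.of (ULift.{u} ℤ) :=
    AddCommGrpCat.ofHom (n • AddMonoidHom.id _)
  haveI : Mono m := by
    rw [AddCommGrpCat.mono_iff_injective]
    rintro ⟨a⟩ ⟨b⟩ hab
    simpa [m, ULift.ext_iff, hn] using hab
  let g : AddCommGrpCat.of (ULift.{u} ℤ) ⟶ AddCommGrpCat.of J :=
    AddCommGrpCat.ofHom ((zmultiplesHom J x).comp AddEquiv.ulift.toAddMonoidHom)
  refine ⟨(Injective.factorThru g m).hom ⟨1⟩, ?_⟩
  have h : (m ≫ Injective.factorThru g m).hom ⟨1⟩ = g.hom ⟨1⟩ := by rw [Injective.comp_factorThru]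
  rw [← map_zsmul]
  refine Eq.trans (show _ = (m ≫ Injective.factorThru g m).hom ⟨1⟩ from rfl) (h.trans ?_)
  simp [g]
  exact one_zsmul x

end Groth.Agent.S6933
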