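import Groth.Statements.S6934
import Mathlib.RingTheory.Localization.Away.Basic
import Mathlib.Tactic.LinearCombination
import Mathlib.Tactic.Ring

set_option autoImplicit false
universe u
open EtAlg

namespace Groth.Agent.S6934

/-- Let `s : B → R`, `t : R' → R` be ring maps and `B' = B ×_R R'` the fibre product ring, i.e. a ring
`B'` with maps `p : B' → B`, `q : B' → R'`, `s ∘ p = t ∘ q`, such that `(p, q)` is injective with
image the pairs `(b, r')` with `s(b) = t(r')`. Let `h ∈ B'` with images `g = p(h)`, `f = q(h)`. Then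
the square of localizations `B'_h → B_g`, `B'_h → R'_f`, `B_g → R_{s(g)}`, `R'_f → R_{t(f)} =
R_{s(g)}` (the induced maps) is cartesian as well: `B'_h = B_g ×_{R_{s(g)}} R'_f`. -/
theorem result {B R R' B' : Type u} [CommRing B] [CommRing R] [CommRing R'] [CommRing B']
    (s : B →+* R) (t : R' →+* R) (p : B' →+* B) (q : B' →+* R') (hc : s.comp p = t.comp q)
    (hinj : ∀ x y : B', p x = p y → q x = q y → x = y) (hsurj : ∀ (b : B) (r' : R'), s b = t r' → ∃ x : B', p x = b ∧ q x = r')
    (h : B') (Bh Bg Rf Rsg : Type u) [CommRing Bh] [CommRing Bg] [CommRing Rf] [CommRing Rsg]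
    [Algebra B' Bh] [IsLocalization.Away h Bh] [Algebra B Bg] [IsLocalization.Away (p h) Bg]
    [Algebra R' Rf] [IsLocalization.Away (q h) Rf] [Algebra R Rsg] [IsLocalization.Away (s (p h)) Rsg]
    (pL : Bh →+* Bg) (qL : Bh →+* Rf) (sL : Bg →+* Rsg) (tL : Rf →+* Rsg)
    (hp : pL.comp (algebraMap B' Bh) = (algebraMap B Bg).comp p) (hq : qL.comp (algebraMap B' Bh) = (algebraMap R' Rf).comp q)
    (hs : sL.comp (algebraMap B Bg) = (algebraMap R Rsg).comp s) (ht : tL.comp (algebraMap R' Rf) = (algebraMap R Rsg).comp t) :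
    (∀ x y : Bh, pL x = pL y → qL x = qL y → x = y) ∧
    (∀ (b : Bg) (r : Rf), sL b = tL r → ∃ x : Bh, pL x = b ∧ qL x = r) := by
  constructor
  · intro x y hp' hq'
    obtain ⟨⟨a, ⟨_, i, rfl⟩⟩, hax⟩ := IsLocalization.surj (Submonoid.powers h) (x - y)
    have hu : IsUnit (algebraMap B' Bh (h ^ i)) := IsLocalization.map_units Bh (⟨h ^ i, i, rfl⟩ : Submonoid.powers h)
    have e1 : algebraMap B Bg (p a) = 0 := by
      rw [← RingHom.comp_apply, ← hp, RingHom.comp_apply, ← hax, map_mul, map_sub, hp', sub_self, zero_mul]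
    have e2 : algebraMap R' Rf (q a) = 0 := by
      rw [← RingHom.comp_apply, ← hq, RingHom.comp_apply, ← hax, map_mul, map_sub, hq', sub_self, zero_mul]
    obtain ⟨⟨_, j, rfl⟩, hj⟩ := (IsLocalization.map_eq_zero_iff (Submonoid.powers (p h)) Bg _).1 e1
    obtain ⟨⟨_, k, rfl⟩, hk⟩ := (IsLocalization.map_eq_zero_iff (Submonoid.powers (q h)) Rf _).1 e2
    have : h ^ (j + k) * a = 0 := hinj _ _ (by
        rw [map_mul, map_pow, map_zero, pow_add, mul_comm ((p h) ^ j), mul_assoc, show (p h) ^ j * p a = 0 from hj, mul_zero]) (by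
        rw [map_mul, map_pow, map_zero, pow_add, mul_assoc, show (q h) ^ k * q a = 0 from hk, mul_zero])
    have ha : algebraMap B' Bh a = 0 :=
      (IsLocalization.map_eq_zero_iff (Submonoid.powers h) Bh _).2 ⟨⟨h ^ (j + k), _, rfl⟩, this⟩
    rw [ha, hu.mul_left_eq_zero, sub_eq_zero] at hax
    exact hax
  · intro b r hbr
    obtain ⟨⟨b0, ⟨_, i, rfl⟩⟩, hb⟩ := IsLocalization.surj (Submonoid.powers (p h)) b
    obtain ⟨⟨r0, ⟨_, j, rfl⟩⟩, hr⟩ := IsLocalization.surj (Submonoid.powers (q h)) r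
    have hsq : s (p h) = t (q h) := RingHom.congr_fun hc h
    simp only at hb hr
    have e : algebraMap R Rsg (s (b0 * (p h) ^ j)) = algebraMap R Rsg (t (r0 * (q h) ^ i)) := by
      rw [← RingHom.comp_apply, ← hs, ← RingHom.comp_apply (algebraMap R Rsg), ← ht, RingHom.comp_apply, RingHom.comp_apply]
      rw [map_mul (algebraMap B Bg), map_mul (algebraMap R' Rf), ← hb, ← hr]
      simp only [map_mul, hbr]
      have e3 : ∀ k, sL (algebraMap B Bg (p h ^ k)) = tL (algebraMap R' Rf (q h ^ k)) := fun k => by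
        rw [← RingHom.comp_apply, hs, ← RingHom.comp_apply tL, ht, RingHom.comp_apply, RingHom.comp_apply, map_pow, map_pow, map_pow, map_pow, hsq]
      rw [e3, e3]
      ring
    obtain ⟨⟨_, k, rfl⟩, hk⟩ := (IsLocalization.eq_iff_exists (Submonoid.powers (s (p h))) Rsg).1 e
    obtain ⟨x0, hx1, hx2⟩ := hsurj (b0 * p h ^ (j + k)) (r0 * q h ^ (i + k)) (by
      simp only [map_mul, map_pow, ← hsq] at hk ⊢
      simp only [pow_add]
      linear_combination hk)
    refine ⟨IsLocalization.mk' Bh x0 (⟨h ^ (i + j + k), _, rfl⟩ : Submonoid.powers h), ?_, ?_⟩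
    · have hu : IsUnit (algebraMap B Bg (p h ^ (i + j + k))) := IsLocalization.map_units Bg (⟨_, i + j + k, rfl⟩ : Submonoid.powers (p h))
      refine hu.mul_left_injective.eq_iff.1 ?_
      rw [show algebraMap B Bg (p h ^ (i + j + k)) = pL (algebraMap B' Bh (h ^ (i + j + k))) by
        rw [← RingHom.comp_apply pL, hp, RingHom.comp_apply, map_pow p], ← map_mul,
        IsLocalization.mk'_spec Bh x0 (⟨h ^ (i + j + k), _, rfl⟩ : Submonoid.powers h),
        ← RingHom.comp_apply pL, hp, RingHom.comp_apply, hx1, ← RingHom.comp_apply pL, hp, RingHom.comp_apply, map_mul,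
        ← hb, mul_assoc, ← map_mul, map_pow p]
      congr 2
      ring
    · have hu : IsUnit (algebraMap R' Rf (q h ^ (i + j + k))) := IsLocalization.map_units Rf (⟨_, i + j + k, rfl⟩ : Submonoid.powers (q h))
      refine hu.mul_left_injective.eq_iff.1 ?_
      rw [show algebraMap R' Rf (q h ^ (i + j + k)) = qL (algebraMap B' Bh (h ^ (i + j + k))) by
        rw [← RingHom.comp_apply qL, hq, RingHom.comp_apply, map_pow q], ← map_mul,
        IsLocalization.mk'_spec Bh x0 (⟨h ^ (i + j + k), _, rfl⟩ : Submonoid.powers h),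
        ← RingHom.comp_apply qL, hq, RingHom.comp_apply, hx2, ← RingHom.comp_apply qL, hq, RingHom.comp_apply, map_mul,
        ← hr, mul_assoc, ← map_mul, map_pow q]
      congr 2
      ring

end Groth.Agent.S6934
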