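import Groth.Statements.S6935
import Groth.Agent.L10.DRing.Modules
-- import your own Groth.Agent.* helpers here

set_option autoImplicit false
universe u
open CategoryTheory CategoryTheory.Limits
attribute [local instance] HasDerivedCategory.standard
open DRing

namespace Groth.Agent.S6935

/-- Let R be a commutative ring and M an R-module, viewed as the complex M[0] in D(R). Then M[0] is
0-pseudo-coherent exactly when M is finitely generated over R, and M[0] is (-1)-pseudo-coherent
exactly when M admits a finite presentation over R. -/
theorem result (R : Type u) [CommRing R]
    (M : Type u) [AddCommGroup M] [Module R M] :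
    (DRing.IsPseudoCoherentModule R 0 M ↔ Module.Finite R M) ∧
      (DRing.IsPseudoCoherentModule R (-1) M ↔ Module.FinitePresentation R M) := by
  exact ⟨⟨Groth.L10.DR.finite_of_pcModule_zero, fun h => Groth.L10.DR.pcModule_zero M⟩,
    ⟨Groth.L10.DR.finitePresentation_of_pcModule, fun h => Groth.L10.DR.pcModule_negOne M⟩⟩

end Groth.Agent.S6935
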