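import Groth.Statements.S6936
import Groth.Agent.L10.DRing.Modules
-- import your own Groth.Agent.* helpers here

set_option autoImplicit false
universe u
open CategoryTheory CategoryTheory.Limits
attribute [local instance] HasDerivedCategory.standard
open DRing

namespace Groth.Agent.S6936

/-- Let R be a commutative ring, m an integer and K an object of D(R). If H^i(K) = 0 for every i > m +
1, H^(m+1)(K) is a finitely presented R-module and H^m(K) is a finitely generated R-module, then K
is m-pseudo-coherent. -/
theorem result (R : Type u) [CommRing R]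
    (m : ℤ) (K : Dual.D R) (hvan : ∀ i : ℤ, m + 1 < i → Subsingleton (Dual.HD R K i))
    (hfp : Module.FinitePresentation R (Dual.HD R K (m + 1))) (hfin : Module.Finite R (Dual.HD R K m)) :
    DRing.IsPseudoCoherent R m K := by
  have hl : Groth.L02.PC.LEH K (m + 1) := fun i hi => haveI := hvan i hi; ModuleCat.isZero_of_subsingleton _
  refine Groth.L10.DR.pc_of_homology m K (m + 1) hl fun i hi => ?_
  by_cases h1 : i = m
  · subst h1
    haveI := hfin
    exact Groth.L10.DR.pc_single i i (by rw [sub_self]; exact Groth.L10.DR.pcModule_zero _)
  by_cases h2 : i = m + 1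
  · subst h2
    haveI := hfp
    exact Groth.L10.DR.pc_single (m + 1) m (by
      rw [show m - (m + 1) = -1 by omega]; exact Groth.L10.DR.pcModule_negOne _)
  · exact Groth.L02.PC.pc_mono (show m - 1 + 1 ≤ m by omega) (Groth.L02.PC.pc_of_LEH fun j _ =>
      (Groth.L02.PC.HH j).map_isZero ((DerivedCategory.singleFunctor (ModuleCat R) i).map_isZero (hl i (by omega))))

end Groth.Agent.S6936
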