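import Groth.Statements.S6943
import Groth.Agent.L10.DRing.Coherent
-- import your own Groth.Agent.* helpers here

set_option autoImplicit false
universe u
open CategoryTheory CategoryTheory.Limits
attribute [local instance] HasDerivedCategory.standard
open DRing

namespace Groth.Agent.S6943

/-- Let R be a coherent commutative ring, i.e. every finitely generated ideal of R is finitely presented
as an R-module. Let K be an object of D(R) whose cohomology vanishes in large degrees and m an
integer. Then K is m-pseudo-coherent if and only if H^m(K) is finitely generated and H^i(K) is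
finitely presented for every i > m. Consequently K is pseudo-coherent if and only if every H^i(K) is
finitely presented. -/
theorem result (R : Type u) [CommRing R]
    (hR : ∀ I : Ideal R, I.FG → Module.FinitePresentation R I) (K : Dual.D R)
    (hb : ∃ b : ℤ, ∀ i : ℤ, b < i → Subsingleton (Dual.HD R K i)) (m : ℤ) :
    (DRing.IsPseudoCoherent R m K ↔
      Module.Finite R (Dual.HD R K m) ∧ ∀ i : ℤ, m < i → Module.FinitePresentation R (Dual.HD R K i)) ∧
      (DRing.IsPseudoCoherent' R K ↔ ∀ i : ℤ, Module.FinitePresentation R (Dual.HD R K i)) := by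
  obtain ⟨b, hb⟩ := hb
  have hl : Groth.L02.PC.LEH K b := fun i hi => haveI := hb i hi; ModuleCat.isZero_of_subsingleton _
  have key : ∀ p : ℤ, Module.Finite R (Dual.HD R K p) →
      (∀ i, p < i → Module.FinitePresentation R (Dual.HD R K i)) → DRing.IsPseudoCoherent R p K := fun p h0 h1 =>
    Groth.L10.DR.pc_of_homology p K b hl fun i hi => by
      refine Groth.L10.DR.pc_single i p ?_
      rcases eq_or_lt_of_le hi with rfl | hi'
      · rw [sub_self]; haveI := h0; exact Groth.L10.DR.pcModule_zero _
      · haveI := h1 i hi'; exact Groth.L10.DR.pcModule'_coherent hR _ _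
  refine ⟨⟨Groth.L10.DR.finite_and_fp_of_pc hR, fun h => key m h.1 h.2⟩, ⟨fun h i => ?_, fun h => ?_⟩⟩
  · exact (Groth.L10.DR.finite_and_fp_of_pc hR (Groth.L02.PC.pc_of_pc' h (i - 1))).2 i (by omega)
  · exact Groth.L02.PC.pc'_of_forall fun p => key p (haveI := h p; inferInstance) fun i _ => h i

end Groth.Agent.S6943
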