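import Groth.Statements.S6951
import Groth.Agent.L10.DRing.LocalAmp

set_option autoImplicit false
set_option backward.defeqAttrib.useBackward true
set_option backward.isDefEq.respectTransparency false
universe u
open CategoryTheory CategoryTheory.Limits
attribute [local instance] HasDerivedCategory.standard
open DRing MonoidalCategory

namespace Groth.Agent.S6951

/-- Let R → A → B be homomorphisms of commutative rings with A → B faithfully flat, such that the
derived base change D(A) → D(B) exists, and let K be an object of D(A). Then for all integers a, b,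
the following are equivalent: the restriction of K to D(R) is of tor amplitude within [a, b]; the
restriction of K ⊗^L_A B to D(R) is of tor amplitude within [a, b]. -/
theorem result {R A B : Type u}
    [CommRing R] [CommRing A] [CommRing B] [Algebra R A] [Algebra A B] [Algebra R B] [IsScalarTower R A B]
    [Module.FaithfullyFlat A B] [DRing.HasLBaseChange (algebraMap A B)] (K : Dual.D A) (a b : ℤ) :
    DRing.HasTorAmplitudeIn R a b ((DRing.restrictD (algebraMap R A)).obj K) ↔
      DRing.HasTorAmplitudeIn R a b ((DRing.restrictD (algebraMap R B)).obj ((DRing.LBaseChange (algebraMap A B)).obj K)) := by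
  obtain ⟨Kf, hKf, -, ⟨eK⟩⟩ := Groth.L10.KFlatLBC.exists_rep_flat K
  let eR : (DRing.restrictD (algebraMap R A)).obj K ≅ DRing.toD ((DRing.restrictCx (algebraMap R A)).obj Kf) :=
    (DRing.restrictD (algebraMap R A)).mapIso eK.symm ≪≫ Groth.L20.TorAmp.resIso (A := R) Kf
  let eB : (DRing.restrictD (algebraMap R B)).obj ((DRing.LBaseChange (algebraMap A B)).obj K) ≅
      DRing.toD ((DRing.restrictCx (algebraMap R B)).obj ((_root_.DTen.extCx (algebraMap A B)).obj Kf)) :=
    (DRing.restrictD (algebraMap R B)).mapIso
      ((DRing.LBaseChange (algebraMap A B)).mapIso eK.symm ≪≫ Groth.L10.KFlatLBC.lbcKF (algebraMap A B) Kf hKf) ≪≫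
      Groth.L20.TorAmp.resIso (A := R) _
  haveI := Groth.L10.LocalAmp.ff_resOne (algebraMap A B) rfl
  have key := fun (P : DRing.Cx R) (i : ℤ) => (Groth.L10.LocalAmp.test_ext (algebraMap A B)
    (IsScalarTower.algebraMap_eq R A B) P Kf i).trans
    (Groth.L10.LocalAmp.isZero_tensor_ff_iff ((_root_.DTen.extCx (algebraMap R A)).obj P ⊗ Kf)
      (Groth.L10.LocalAmp.resOne (algebraMap A B)) i)
  constructor
  · intro h
    have h' := (Groth.L10.LocalAmp.amp_restrict_iff Kf a b).1 (Groth.L10.DR.amp_of_iso eR h)
    exact Groth.L10.DR.amp_of_iso eB.symm ((Groth.L10.AmpTest.amp_iff_test _ a b).2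
      fun N P hP eP i hi => (key P i).2 (h' N P hP eP i hi))
  · intro h
    have h' := (Groth.L10.AmpTest.amp_iff_test _ a b).1 (Groth.L10.DR.amp_of_iso eB h)
    exact Groth.L10.DR.amp_of_iso eR.symm ((Groth.L10.LocalAmp.amp_restrict_iff Kf a b).2
      fun N P hP eP i hi => (key P i).1 (h' N P hP eP i hi))

end Groth.Agent.S6951
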