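import Groth.Statements.S6953
import Groth.Agent.L10.DRing.AmpTest
import Groth.Agent.L20.TorAmpWeaklyEtale
import Groth.Agent.L10.DRing.Amp

set_option autoImplicit false
set_option backward.defeqAttrib.useBackward true
set_option backward.isDefEq.respectTransparency false
universe u
open CategoryTheory CategoryTheory.Limits
attribute [local instance] HasDerivedCategory.standard
open DRing MonoidalCategory

namespace Groth.Agent.S6953

/-- Let A → B be a homomorphism of commutative rings, K an object of D(B) with tor amplitude in [a, b]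
over B, and L a cochain complex of B-modules whose restriction of scalars to A lies in D(A) with tor
amplitude contained in [c, d]. Assume the derived tensor product - ⊗^L_B L exists on D(B). Then K
⊗^L_B L, with scalars restricted to A, has tor amplitude in [a + c, b + d] over A. -/
theorem result {A B : Type u} [CommRing A] [CommRing B] [Algebra A B]
    (K : Dual.D B) (a b c d : ℤ) (hK : DRing.HasTorAmplitudeIn B a b K) (L : DRing.Cx B)
    (hL : DRing.HasTorAmplitudeIn A c d (DRing.toD ((DRing.restrictCx (algebraMap A B)).obj L)))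
    [DRing.HasLTensorCx B L] :
    DRing.HasTorAmplitudeIn A (a + c) (b + d)
      ((DRing.restrictD (algebraMap A B)).obj ((DRing.LTensorCx B L).obj K)) := by
  obtain ⟨E, hEv, hEf, ⟨eE⟩⟩ := hK
  obtain ⟨e1⟩ := Groth.L10.AmpTest.compute L
    (Groth.L10.KFlat.of_bounded E b (fun j hj => hEv j (Or.inr hj)) hEf) eE
  refine Groth.L10.DR.amp_of_iso
    (((DRing.restrictD (algebraMap A B)).mapIso e1 ≪≫ Groth.L20.TorAmp.resIso (A := A) (E ⊗ L)).symm) ?_
  refine (Groth.L10.AmpTest.amp_iff_test _ _ _).2 fun N P hP eP i hi => ?_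
  have h := (Groth.L10.AmpTest.amp_iff_test _ c d).1 hL N P hP eP
  let φ : A →+* B := algebraMap A B
  let extP := (_root_.DTen.extCx φ).obj P
  have hZ : ∀ j, j < c ∨ d < j → IsZero ((extP ⊗ L).homology j) := fun j hj =>
    (Groth.L00.KFlatAlg.acyclic_restrictScalars φ _ j).1
      ((Groth.L10.AmpTest.iso_homology (Groth.L00.BaseChangeTensor.tensorIso φ P L) j).1
        ((Groth.L10.AmpTest.braid_homology _ P j).1 (h j hj)))
  refine (Groth.L10.AmpTest.braid_homology _ P i).2
    ((Groth.L10.AmpTest.iso_homology (Groth.L00.BaseChangeTensor.tensorIso φ P (E ⊗ L)) i).2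
      ((Groth.L00.KFlatAlg.acyclic_restrictScalars φ _ i).2 ?_))
  exact (Groth.L10.AmpTest.iso_homology ((α_ extP L E) ≪≫ whiskerLeftIso extP (_root_.DTen.braidCx L E)) i).1
    (Groth.L10.AmpTest.isZero_tensor_bounded hEv hEf hZ i hi)

end Groth.Agent.S6953
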