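import Groth.Statements.S6958
import Groth.Agent.L10.DRing.Modules
-- import your own Groth.Agent.* helpers here

set_option autoImplicit false
universe u
open CategoryTheory CategoryTheory.Limits
attribute [local instance] HasDerivedCategory.standard
open DRing

namespace Groth.Agent.S6958

/-- Let A → B be a flat homomorphism of commutative rings and M a perfect A-module. Then B ⊗_A M is a
perfect B-module. -/
theorem result {A B : Type u} [CommRing A] [CommRing B] [Algebra A B]
    [Module.Flat A B] (M : Type u) [AddCommGroup M] [Module A M] (hM : DRing.IsPerfectModule A M) :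
    DRing.IsPerfectModule B (TensorProduct A B M) := by
  obtain ⟨E, a, b, hv, hp, ⟨e⟩⟩ := hM
  let F := ModuleCat.extendScalars.{u, u, u} (algebraMap A B)
  haveI : PreservesFiniteLimits F :=
    ModuleCat.preservesFiniteLimits_extendScalars_of_flat (RingHom.flat_algebraMap_iff.mpr inferInstance)
  haveI : PreservesFiniteColimits F := inferInstance
  obtain ⟨e'⟩ := Groth.L02.PC.extendScalars_equiv (S := B) (ModuleCat.of A M)
  refine ⟨(F.mapHomologicalComplex (ComplexShape.up ℤ)).obj E, a, b, fun i hi => F.map_isZero (hv i hi),
    fun i => ?_, ⟨(F.mapDerivedCategoryFactors.app E).symm ≪≫ F.mapDerivedCategory.mapIso e ≪≫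
      (F.mapDerivedCategorySingleFunctor 0).app (ModuleCat.of A M) ≪≫
      (DerivedCategory.singleFunctor (ModuleCat.{u} B) 0).mapIso e'.toModuleIso⟩⟩
  obtain ⟨f⟩ := Groth.L02.PC.extendScalars_equiv (S := B) (E.X i)
  haveI := (hp i).1
  haveI := (hp i).2
  exact ⟨Module.Finite.equiv f.symm, Module.Projective.of_equiv f.symm⟩

end Groth.Agent.S6958
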