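import Groth.Statements.S6963
import Groth.Agent.L10.DRing.DualCx

set_option autoImplicit false
set_option backward.defeqAttrib.useBackward true
set_option backward.isDefEq.respectTransparency false
universe u
open CategoryTheory CategoryTheory.Limits
attribute [local instance] HasDerivedCategory.standard
open DRing

namespace Groth.Agent.S6963

/-- Let A be a commutative ring and K a perfect object of D(A), represented by a cochain complex E for
which RHom_A(E, -) exists; write K^∨ = RHom_A(E, A). Then K^∨ is a perfect object of D(A), and for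
every cochain complex E' representing K^∨ for which RHom_A(E', -) exists, RHom_A(E', A) is
isomorphic to K in D(A) (existence of an isomorphism only; the canonical one is the double-duality
map). -/
theorem result (A : Type u) [CommRing A] (K : Dual.D A) (hK : DRing.IsPerfect A K)
    (E : DRing.Cx A) (eK : DRing.toD E ≅ K) [DRing.HasRHomCx E] :
    DRing.IsPerfect A ((DRing.RHomCx E).obj (Dual.inD A A)) ∧
      ∀ (E' : DRing.Cx A) (eK' : DRing.toD E' ≅ (DRing.RHomCx E).obj (Dual.inD A A)) [DRing.HasRHomCx E'],
        Nonempty ((DRing.RHomCx E').obj (Dual.inD A A) ≅ K) := by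
  obtain ⟨P, a, b, hv, hP, ⟨eP⟩⟩ := hK
  haveI := Groth.L10.DualCx.isKProjective hv hP
  obtain ⟨g, hg⟩ := Groth.L10.DualCx.exists_qis (eP ≪≫ eK.symm)
  have eD := Groth.L10.DualCx.rhomUnit g
  refine ⟨⟨Groth.L10.DualCx.dual P, -b, -a, Groth.L10.DualCx.vanishesOutside_dual hv,
    Groth.L10.DualCx.finProj_dual hP, ⟨eD.symm⟩⟩, fun E' eK' _ => ?_⟩
  haveI := Groth.L10.DualCx.isKProjective (Groth.L10.DualCx.vanishesOutside_dual hv) (Groth.L10.DualCx.finProj_dual hP)
  obtain ⟨g', hg'⟩ := Groth.L10.DualCx.exists_qis (eD.symm ≪≫ eK'.symm)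
  haveI : ∀ i, Module.IsReflexive A (P.X i) := Groth.L10.DualCx.isReflexive_of_finProj hP
  exact ⟨Groth.L10.DualCx.rhomUnit g' ≪≫ DerivedCategory.Q.mapIso (Groth.L10.DualCx.bidual P).symm ≪≫ eP⟩

end Groth.Agent.S6963
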