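import Groth.Statements.S6966
import Mathlib.Algebra.Homology.DerivedCategory.SingleTriangle
import Mathlib.Algebra.Homology.DerivedCategory.Ext.EnoughProjectives
import Mathlib.Algebra.Homology.DerivedCategory.Linear
import Mathlib.Algebra.Category.ModuleCat.Projective
import Mathlib.Algebra.Category.ModuleCat.EpiMono
import Mathlib.LinearAlgebra.Finsupp.LinearCombination
import Mathlib.Algebra.Homology.ShortComplex.ModuleCat
-- import your own Groth.Agent.* helpers here

set_option autoImplicit false
universe u
open CategoryTheory CategoryTheory.Limits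
attribute [local instance] HasDerivedCategory.standard
open CAlg

namespace Groth.Agent.S6966

set_option backward.isDefEq.respectTransparency false in
/-- Let R be a commutative ring, I an ideal of R and M an R-module. Then the following two conditions
coincide: for each a ∈ I, the endomorphism of M given by multiplication by a can be written as a
composite M → P → M with P some projective R-module; and for every R-module N and every a ∈ I, a
annihilates Ext^1_R(M, N) = Hom(M[0], N[1]) in D(R). -/
theorem result (R : Type u) [CommRing R] (I : Ideal R) (M : Type u)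
    [AddCommGroup M] [Module R M] :
    (∀ a ∈ I, ∃ (P : Type u) (_ : AddCommGroup P) (_ : Module R P) (_ : Module.Projective R P)
        (f : M →ₗ[R] P) (g : P →ₗ[R] M), g ∘ₗ f = a • LinearMap.id) ↔
      ∀ (N : Type u) [AddCommGroup N] [Module R N], ∀ a ∈ I,
        ∀ x : DRing.ExtD R (Dual.inD R M) (Dual.inD R N) 1, a • x = 0 := by
  let F := DerivedCategory.singleFunctor (ModuleCat.{u} R) 0
  have hF : ∀ a : R, F.map (a • 𝟙 (ModuleCat.of R M)) = a • 𝟙 (Dual.inD R M) := fun a => by
    rw [F.map_smul, F.map_id]
  constructor
  · intro h N _ _ a ha x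
    obtain ⟨P, _, _, _, f, g, hfg⟩ := h a ha
    haveI : Projective (ModuleCat.of R P) := (IsProjective.iff_projective (R := R) P).1 inferInstance
    have h0 : F.map (ModuleCat.ofHom g) ≫ x = 0 := by
      let E := Abelian.Ext.homEquiv (C := ModuleCat.{u} R) (X := ModuleCat.of R P) (Y := ModuleCat.of R N) (n := 1)
      have : ∀ y : ShiftedHom (F.obj (ModuleCat.of R P)) (F.obj (ModuleCat.of R N)) ((1 : ℕ) : ℤ), y = 0 := fun y => by
        rw [← E.apply_symm_apply y, Abelian.Ext.eq_zero_of_projective (E.symm y),
          ← Abelian.Ext.eq_zero_of_projective (E.symm 0), E.apply_symm_apply]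
      exact this _
    have hc : ModuleCat.ofHom f ≫ ModuleCat.ofHom g = a • 𝟙 (ModuleCat.of R M) := ModuleCat.hom_ext hfg
    calc a • x = (a • 𝟙 (Dual.inD R M)) ≫ x := by rw [Linear.smul_comp, Category.id_comp]
      _ = 0 := by rw [← hF, ← hc, CategoryTheory.Functor.map_comp, Category.assoc, h0, comp_zero]
  · intro h a ha
    let p : (M →₀ R) →ₗ[R] M := Finsupp.linearCombination R id
    have hp : Function.Surjective p := fun m => ⟨Finsupp.single m 1, by simp [p]⟩
    let S : ShortComplex (ModuleCat.{u} R) := ShortComplex.mk (X₁ := ModuleCat.of R (LinearMap.ker p))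
      (X₂ := ModuleCat.of R (M →₀ R)) (X₃ := ModuleCat.of R M) (ModuleCat.ofHom (LinearMap.ker p).subtype)
      (ModuleCat.ofHom p) (ModuleCat.hom_ext (LinearMap.ext fun z => z.2))
    have hS : S.ShortExact :=
      { exact := (ShortComplex.moduleCat_exact_iff _).2 fun x hx => ⟨⟨x, hx⟩, rfl⟩
        mono_f := (ModuleCat.mono_iff_injective _).2 Subtype.val_injective
        epi_g := (ModuleCat.epi_iff_surjective _).2 hp }
    let δ := hS.singleδ
    have hδ : (a • 𝟙 (Dual.inD R M)) ≫ δ = 0 := by
      rw [Linear.smul_comp, Category.id_comp]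
      exact h (LinearMap.ker p) a ha δ
    obtain ⟨k, hk⟩ := Pretriangulated.Triangle.coyoneda_exact₃ _ hS.singleTriangle_distinguished
      (a • 𝟙 (Dual.inD R M)) hδ
    obtain ⟨f, hf⟩ := F.map_surjective (X := ModuleCat.of R M) (Y := ModuleCat.of R (M →₀ R)) k
    refine ⟨M →₀ R, inferInstance, inferInstance, inferInstance, f.hom, p, ?_⟩
    have : f ≫ ModuleCat.ofHom p = a • 𝟙 (ModuleCat.of R M) := F.map_injective (by
      rw [CategoryTheory.Functor.map_comp, hf, hF]; exact hk.symm)
    exact congrArg ModuleCat.Hom.hom this

end Groth.Agent.S6966
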