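import Groth.Statements.S6969
import Mathlib.RingTheory.Finiteness.Finsupp
-- import your own Groth.Agent.* helpers here

set_option autoImplicit false
universe u
open CAlg

namespace Groth.Agent.S6969

/-- Let R be a commutative ring and φ : M → N an R-linear map which factors through a projective
R-module. If M is finitely generated, then φ factors through a finitely generated projective
R-module. -/
theorem result (R : Type u) [CommRing R] {M N : Type u} [AddCommGroup M]
    [Module R M] [Module.Finite R M] [AddCommGroup N] [Module R N] (φ : M →ₗ[R] N)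
    (h : ∃ (P : Type u) (_ : AddCommGroup P) (_ : Module R P) (_ : Module.Projective R P) (f : M →ₗ[R] P)
      (g : P →ₗ[R] N), g ∘ₗ f = φ) :
    ∃ (P : Type u) (_ : AddCommGroup P) (_ : Module R P) (_ : Module.Projective R P) (_ : Module.Finite R P)
      (f : M →ₗ[R] P) (g : P →ₗ[R] N), g ∘ₗ f = φ := by
  classical
  obtain ⟨P, _, _, _, f, g, rfl⟩ := h
  obtain ⟨s, hs⟩ := (Module.projective_def' (R := R) (P := P)).1 inferInstance
  let f' : M →ₗ[R] (P →₀ R) := s ∘ₗ f
  obtain ⟨S, hS⟩ := Module.Finite.fg_top (R := R) (M := M)
  let T : Finset P := S.biUnion fun m => (f' m).support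
  have hT : ∀ m, f' m ∈ Finsupp.supported R R (T : Set P) := by
    intro m
    have hm : m ∈ Submodule.span R (S : Set M) := by rw [hS]; trivial
    refine (Submodule.span_le (p := (Finsupp.supported R R (T : Set P)).comap f')).2 ?_ hm
    intro x hx
    simp only [SetLike.mem_coe, Submodule.mem_comap, Finsupp.mem_supported]
    intro p hp
    exact Finset.mem_coe.2 (Finset.mem_biUnion.2 ⟨x, hx, hp⟩)
  let e := Finsupp.supportedEquivFinsupp (M := R) (R := R) (T : Set P)
  haveI : Finite (T : Set P) := T.finite_toSet.to_subtype
  refine ⟨((T : Set P) →₀ R), inferInstance, inferInstance, inferInstance, Module.Finite.finsupp,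
    e.toLinearMap ∘ₗ f'.codRestrict _ hT,
    g ∘ₗ Finsupp.linearCombination R id ∘ₗ (Finsupp.supported R R (T : Set P)).subtype ∘ₗ
      e.symm.toLinearMap, ?_⟩
  ext m
  simp only [LinearMap.comp_apply, LinearEquiv.coe_coe, LinearEquiv.symm_apply_apply,
    Submodule.subtype_apply, LinearMap.codRestrict_apply]
  exact congrArg g (congr($hs (f m)))

end Groth.Agent.S6969
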