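import Groth.Statements.S6970
import Groth.Agent.L10.DRing.LiftCx.Derived
import Groth.Agent.L10.DRing.LiftCx.Classes
import Groth.Agent.L10.DRing.Nilpotent

set_option autoImplicit false
set_option backward.defeqAttrib.useBackward true
set_option backward.isDefEq.respectTransparency false
universe u
open CategoryTheory CategoryTheory.Limits
attribute [local instance] HasDerivedCategory.standard
open DRing

namespace Groth.Agent.S6970

/-- Let R be a commutative ring and I a nilpotent ideal of R such that the derived base change D(R) →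
D(R/I) exists. Let K be an object of D(R) and E a bounded above cochain complex of projective
R/I-modules which is isomorphic in D(R/I) to K ⊗^L_R R/I. Then there is a bounded above cochain
complex P of projective R-modules which is isomorphic to K in D(R) and whose termwise reduction P
⊗_R R/I is isomorphic to E as a complex of R/I-modules. -/
theorem result (R : Type u) [CommRing R] (I : Ideal R)
    (hI : IsNilpotent I) [DRing.HasLBaseChange (Ideal.Quotient.mk I)] (K : Dual.D R)
    (E : DRing.Cx (R ⧸ I)) (b : ℤ) (hEb : DRing.VanishesAbove E b)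
    (hEp : ∀ i : ℤ, Module.Projective (R ⧸ I) (E.X i))
    (hE : Nonempty (DRing.toD E ≅ (DRing.LBaseChange (Ideal.Quotient.mk I)).obj K)) :
    ∃ (P : DRing.Cx R) (b' : ℤ), DRing.VanishesAbove P b' ∧ (∀ i : ℤ, Module.Projective R (P.X i)) ∧
      Nonempty (DRing.toD P ≅ K) ∧ Nonempty ((((ModuleCat.extendScalars (Ideal.Quotient.mk I)).mapHomologicalComplex (ComplexShape.up ℤ)).obj P) ≅ E) := by
  obtain ⟨eE⟩ := hE
  have hb : Groth.L02.PC.LEH K b := Groth.L10.NilpotentThick.leh_of_family
    (fun _ : PUnit.{1} => Ideal.Quotient.mk I) (fun _ => Ideal.Quotient.mk_surjective)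
    (Groth.L10.NilpotentThick.exists_prod Ideal.Quotient.mk_surjective (by rw [Ideal.mk_ker]; exact hI)) K b
    fun _ i hi => (Groth.L10.DR.HH_iso_zero eE i).2
      ((HomologicalComplex.exactAt_iff_isZero_homology _ i).1 (HomologicalComplex.ExactAt.of_isZero (hEb i hi)))
  obtain ⟨Q, hQb, hQf, -, ⟨eQ⟩⟩ := Groth.L02.PC.exists_free_rep hb
  let Pc : ObjectProperty (ModuleCat.{u} R) := fun Y => Module.Projective R Y
  haveI : Pc.IsClosedUnderIsomorphisms := ⟨fun e h => by
    haveI : Module.Projective R _ := h
    exact Module.Projective.of_equiv e.toLinearEquiv⟩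
  have hX : ∀ i, ∃ X : ModuleCat.{u} R, Pc X ∧ Nonempty (TensorProduct R (R ⧸ I) X ≃ₗ[R ⧸ I] E.X i) := fun i => by
    haveI := hEp i
    obtain ⟨P, _, _, hP, e⟩ := Groth.L19.ProjNil.exists_lift I hI (E.X i)
    exact ⟨ModuleCat.of R P, hP, e⟩
  choose X hX hXe using hX
  have hQp : ∀ i, Module.Projective R (Q.X i) := fun i =>
    haveI := hQf i
    Module.Projective.of_free
  obtain ⟨P, hPb, hPX, hPK, hPE⟩ := Groth.L10.LiftCx.exists_rep_lift K Q b hQb eQ Pc (fun _ h => h) hQp
    (fun Y Z _ h => by
      haveI : Module.Projective R (↑Y × ↑Z) := h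
      exact Groth.L10.LiftCx.projective_snd Y Z)
    (fun Y Z f _ _ h => Groth.L10.LiftCx.surjective_of_nilpotent I hI f.hom h)
    (fun Y i hY => by
      haveI : Module.Projective R Y := hY
      haveI := hQp i
      show Module.Projective R (↑Y × ↑(Q.X i))
      infer_instance)
    E b hEb ⟨eE⟩ X hX fun i => Groth.L10.LiftCx.tensorIso (X i) (E.X i) (hXe i).some
  exact ⟨P, b, hPb, fun i => by rw [hPX i]; exact hX i, hPK, hPE⟩

end Groth.Agent.S6970
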