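import Groth.Statements.S6973
import Groth.Agent.L10.DRing.LiftCx.Derived
import Groth.Agent.L10.DRing.LiftCx.Classes
import Groth.Agent.L05.Hensel.Projective

set_option autoImplicit false
set_option backward.defeqAttrib.useBackward true
set_option backward.isDefEq.respectTransparency false
universe u
open CategoryTheory CategoryTheory.Limits
attribute [local instance] HasDerivedCategory.standard
open DRing

namespace Groth.Agent.S6973

/-- Let (R, I) be a henselian pair such that the derived base change D(R) → D(R/I) exists, K a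
pseudo-coherent object of D(R), and E a bounded above cochain complex of finite projective
R/I-modules which is isomorphic in D(R/I) to K ⊗^L_R R/I. Then there is a bounded above cochain
complex P of finite projective R-modules, isomorphic to K in D(R), whose termwise reduction P ⊗_R
R/I is isomorphic to E as a complex, and such that P^i is free for every i for which E^i is free. -/
theorem result (R : Type u) [CommRing R]
    (I : Ideal R) [HenselianRing R I] [DRing.HasLBaseChange (Ideal.Quotient.mk I)] (K : Dual.D R)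
    (hK : DRing.IsPseudoCoherent' R K) (E : DRing.Cx (R ⧸ I)) (b : ℤ) (hEb : DRing.VanishesAbove E b)
    (hEp : DRing.TermwiseFiniteProjective E)
    (hE : Nonempty (DRing.toD E ≅ (DRing.LBaseChange (Ideal.Quotient.mk I)).obj K)) :
    ∃ (P : DRing.Cx R) (b' : ℤ), DRing.VanishesAbove P b' ∧ DRing.TermwiseFiniteProjective P ∧
      Nonempty (DRing.toD P ≅ K) ∧ Nonempty ((((ModuleCat.extendScalars (Ideal.Quotient.mk I)).mapHomologicalComplex (ComplexShape.up ℤ)).obj P) ≅ E) ∧
      ∀ i : ℤ, Module.Free (R ⧸ I) (E.X i) → Module.Free R (P.X i) := by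
  classical
  obtain ⟨Q, c, hQb, hQf, ⟨eQ⟩⟩ := hK
  have hI : I ≤ Ideal.jacobson (⊥ : Ideal R) := HenselianRing.jac
  let Pc : ObjectProperty (ModuleCat.{u} R) := fun Y => Module.Finite R Y ∧ Module.Projective R Y
  haveI : Pc.IsClosedUnderIsomorphisms := ⟨fun {Y Y'} e h => by
    obtain ⟨_, _⟩ := h
    exact ⟨Module.Finite.equiv e.toLinearEquiv, Module.Projective.of_equiv e.toLinearEquiv⟩⟩
  have hX : ∀ i, ∃ X : ModuleCat.{u} R, (Pc X ∧ Nonempty (TensorProduct R (R ⧸ I) X ≃ₗ[R ⧸ I] E.X i)) ∧
      (Module.Free (R ⧸ I) (E.X i) → Module.Free R X) := fun i => by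
    obtain ⟨_, _⟩ := hEp i
    by_cases hfree : Module.Free (R ⧸ I) (E.X i)
    · obtain ⟨n, e⟩ := Groth.L10.LiftCx.exists_free_lift I (E.X i)
      exact ⟨ModuleCat.of R (Fin n → R), ⟨⟨inferInstanceAs (Module.Finite R (Fin n → R)),
        inferInstanceAs (Module.Projective R (Fin n → R))⟩, e⟩, fun _ => inferInstanceAs (Module.Free R (Fin n → R))⟩
    · obtain ⟨Z, _, _, h1, h2, e⟩ := Groth.L05.exists_projective_lift I (E.X i)
      exact ⟨ModuleCat.of R Z, ⟨⟨h1, h2⟩, e⟩, fun h => absurd h hfree⟩
  choose X hX hfree using hX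
  obtain ⟨P, hPb, hPX, hPK, hPE⟩ := Groth.L10.LiftCx.exists_rep_lift K Q c hQb eQ Pc (fun _ h => h.2)
    (fun i => haveI := (hQf i).2; Module.Projective.of_free)
    (fun Y Z hY h => by
      haveI : Module.Finite R (↑Y × ↑Z) := h.1
      haveI : Module.Projective R (↑Y × ↑Z) := h.2
      exact ⟨Groth.L10.LiftCx.finite_snd Y Z, Groth.L10.LiftCx.projective_snd Y Z⟩)
    (fun Y Z f _ hZ h => haveI := hZ.1; Groth.L10.LiftCx.surjective_of_finite I hI f.hom h)
    (fun Y i hY => by
      obtain ⟨_, _⟩ := hY
      obtain ⟨_, _⟩ := hQf i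
      haveI : Module.Projective R ↑(Q.X i) := Module.Projective.of_free
      exact ⟨inferInstanceAs (Module.Finite R (↑Y × ↑(Q.X i))), inferInstanceAs (Module.Projective R (↑Y × ↑(Q.X i)))⟩)
    E b hEb hE X (fun i => (hX i).1) fun i => Groth.L10.LiftCx.tensorIso (X i) (E.X i) (hX i).2.some
  exact ⟨P, b, hPb, fun i => by rw [hPX i]; exact (hX i).1, hPK, hPE, fun i h => by rw [hPX i]; exact hfree i h⟩

end Groth.Agent.S6973
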