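import Groth.Statements.S6977
import Groth.Agent.L10.DRing.FlatFibre
import Groth.Agent.S0563

set_option autoImplicit false
set_option backward.defeqAttrib.useBackward true
set_option backward.isDefEq.respectTransparency false
universe u
open CategoryTheory CategoryTheory.Limits
attribute [local instance] HasDerivedCategory.standard
open DRing

namespace Groth.Agent.S6977

/-- Let A → B be a flat local homomorphism of local commutative rings such that B/m_A B is a regular
local ring of dimension d, and assume the derived base change D(A) → D(κ_A) to the residue field of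
A exists. Let a, b be integers and K a pseudo-coherent object of D(B) such that H^i((K regarded in
D(A)) ⊗^L_A κ_A) = 0 for every i outside [a, b]. Then K is perfect as an object of D(B) and has tor
amplitude in [a - d, b] over B. -/
theorem result {A B : Type u} [CommRing A] [CommRing B] [IsLocalRing A]
    [IsLocalRing B] [Algebra A B] [IsLocalHom (algebraMap A B)] [Module.Flat A B] (d : ℕ)
    [IsRegularLocalRing (B ⧸ (IsLocalRing.maximalIdeal A).map (algebraMap A B))]
    (hd : ringKrullDim (B ⧸ (IsLocalRing.maximalIdeal A).map (algebraMap A B)) = d)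
    [DRing.HasLBaseChange (IsLocalRing.residue A)] (a b : ℤ) (K : Dual.D B) (hK : DRing.IsPseudoCoherent' B K)
    (h : ∀ i : ℤ, (i < a ∨ b < i) → Subsingleton (Dual.HD (IsLocalRing.ResidueField A)
      ((DRing.LBaseChange (IsLocalRing.residue A)).obj ((DRing.restrictD (algebraMap A B)).obj K)) i)) :
    DRing.IsPerfect B K ∧ DRing.HasTorAmplitudeIn B (a - d) b K := by
  obtain ⟨P, N, hPb, hP, ⟨e⟩⟩ := hK
  have hPf : ∀ i, Module.Free B (P.X i) := fun i => (hP i).2
  let I := (IsLocalRing.maximalIdeal A).map (algebraMap A B)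
  refine Groth.L10.DR.perfect_and_amp_of_fibres d e hPb hP a b fun n hn => ?_
  have hIn : I ≤ n := by
    rw [IsLocalRing.eq_maximalIdeal hn]
    exact ((IsLocalRing.local_hom_TFAE (algebraMap A B)).out 0 2).1 ‹_›
  refine ⟨CommRingCat.of (B ⧸ I), Ideal.Quotient.mk I, Ideal.Quotient.factor hIn,
    Ideal.Quotient.factor_comp_mk hIn, fun M => Groth.Agent.S0563.result (B ⧸ I) d hd M, fun i hi => ?_⟩
  haveI := h i hi
  have h1 := (Groth.L10.DR.HH_iso_zero ((Groth.L10.KFlatLBC.lbcKF (IsLocalRing.residue A) _
    (Groth.L10.DR.isKFlat_res (A := A) hPb hPf)).symm ≪≫ (DRing.LBaseChange (IsLocalRing.residue A)).mapIso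
      ((Groth.L20.TorAmp.resIso (A := A) P).symm ≪≫ (DRing.restrictD (algebraMap A B)).mapIso e)) i).1
    (ModuleCat.isZero_of_subsingleton _)
  exact Groth.L10.DR.isZero_bcCx_of_fibre (Ideal.Quotient.mk I)
    (ModuleCat.of A (A ⧸ IsLocalRing.maximalIdeal A))
    (Algebra.TensorProduct.quotIdealMapEquivTensorQuot B (IsLocalRing.maximalIdeal A)).toLinearEquiv P i
    (Groth.L10.DR.isZero_tensorCx_of_bcCx (IsLocalRing.residue A) _ i h1)

end Groth.Agent.S6977
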