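import Groth.Statements.S6978
import Groth.Agent.L29.K.SmallPerfect
import Groth.Prelude.Def_CohDer

set_option autoImplicit false
set_option backward.isDefEq.respectTransparency false
universe u
open CategoryTheory CategoryTheory.Limits
attribute [local instance] HasDerivedCategory.standard
open DRing

namespace Groth.Agent.S6978

/-- Let R be a commutative ring and K an object of D(R). Then K is perfect if and only if K is a compact
object of D(R): for every family (E_i) of objects of D(R) indexed by a small type, the canonical map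
from the direct sum of the Hom(K, E_i) to Hom(K, ⊕ E_i) is bijective. -/
theorem result (R : Type u) [CommRing R] (K : Dual.D R) :
    DRing.IsPerfect R K ↔
      ∀ (I : Type u) (E : I → Dual.D R) [HasCoproduct fun i : ULift.{u + 1} I => E i.down],
        Function.Bijective (CohDer.homSumToHomCoprod K (fun i : ULift.{u + 1} I => E i.down)) := by
  classical
  constructor
  · intro hK I E _
    have hs := Groth.L10.DTen.small_of_perfect hK
    let E' := fun i : ULift.{u + 1} I => E i.down
    haveI := Groth.L10.DTen.hasCoproducts (B := R) I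
    let Φ := CohDer.homSumToHomCoprod K E'
    have hof : ∀ i (g : K ⟶ E' i), Φ (DirectSum.of _ i g) = g ≫ Sigma.ι E' i := fun i g => by
      change (DirectSum.toAddMonoid fun i => Preadditive.rightComp K (Sigma.ι E' i)) (DirectSum.of _ i g) = _
      exact DirectSum.toAddMonoid_of _ _ _
    refine ⟨(injective_iff_map_eq_zero Φ).2 fun x hx => ?_, fun φ => ?_⟩
    · refine DFinsupp.ext fun j => ?_
      let p : ∐ E' ⟶ E' j := Sigma.desc fun i => if h : i = j then eqToHom (congrArg E' h) else 0
      have hp : ∀ y, Φ y ≫ p = y j := fun y => by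
        induction y using DirectSum.induction_on with
        | zero => simp
        | of i g =>
          rw [hof, Category.assoc, Sigma.ι_desc]
          by_cases hij : i = j
          · subst hij
            simp
          · simp [hij, DirectSum.of_eq_of_ne _ _ _ (Ne.symm hij)]
        | add y z hy hz => simp [hy, hz]
      simpa [hx] using (hp x).symm
    · let θ : ∐ E' ⟶ ∐ E := Sigma.desc fun i => Sigma.ι E i.down
      let θ' : ∐ E ⟶ ∐ E' := Sigma.desc fun i => Sigma.ι E' ⟨i⟩
      have hid : θ ≫ θ' = 𝟙 _ := Sigma.hom_ext _ _ fun i => by simp [θ, θ']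
      obtain ⟨s, hs⟩ := hs _ E (φ ≫ θ)
      refine ⟨∑ i ∈ s, DirectSum.of (fun i => K ⟶ E' i) ⟨i⟩ ((φ ≫ θ) ≫ Groth.L10.DTen.pr E i), ?_⟩
      refine (map_sum Φ _ _).trans (Eq.symm ?_)
      calc φ = (φ ≫ θ) ≫ θ' := by rw [Category.assoc, hid, Category.comp_id]
        _ = ((φ ≫ θ) ≫ Groth.L10.DTen.prj E s) ≫ θ' := by rw [hs s (Finset.Subset.refl s)]
        _ = _ := by
          rw [Groth.L10.DTen.prj, Preadditive.comp_sum, Preadditive.sum_comp]
          refine Finset.sum_congr rfl fun i _ => ?_
          refine Eq.trans ?_ (hof _ _).symm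
          simp [θ']
  · intro h
    refine Groth.L29.SmallPerfect.isPerfect_of_small fun ι _ X _ f => ?_
    let X' := fun i : ULift.{u + 1} ι => X i.down
    let c : Cofan X' := Cofan.mk (∐ X) fun i => Sigma.ι X i.down
    let hc : IsColimit c := mkCofanColimit _ (fun s => Sigma.desc fun i => s.inj ⟨i⟩) (fun s i => Sigma.ι_desc _ i.down)
      fun s m hm => Sigma.hom_ext _ _ fun i => (hm ⟨i⟩).trans (Sigma.ι_desc (fun i => s.inj ⟨i⟩) i).symm
    haveI : HasCoproduct X' := ⟨⟨⟨c, hc⟩⟩⟩
    let θ : ∐ X ⟶ ∐ X' := Sigma.desc fun i => Sigma.ι X' ⟨i⟩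
    let θ' : ∐ X' ⟶ ∐ X := Sigma.desc fun i => Sigma.ι X i.down
    have hid : θ ≫ θ' = 𝟙 _ := Sigma.hom_ext _ _ fun i => by simp [θ, θ']
    obtain ⟨x, hx⟩ := (h ι X).surjective (f ≫ θ)
    refine ⟨(DFinsupp.support x).image ULift.down, fun t ht => ?_⟩
    have hf : f = ∑ i ∈ DFinsupp.support x, x i ≫ Sigma.ι X i.down := by
      rw [← Category.comp_id f, ← hid, ← Category.assoc, ← hx]
      conv_lhs => rw [← DirectSum.sum_support_of x, map_sum, Preadditive.sum_comp]
      refine Finset.sum_congr rfl fun i _ => ?_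
      change (DirectSum.toAddMonoid fun i => Preadditive.rightComp K (Sigma.ι X' i)) (DirectSum.of _ i (x i)) ≫ θ' = _
      rw [DirectSum.toAddMonoid_of]
      exact (Category.assoc _ _ _).trans (congrArg (x i ≫ ·) (by simp [θ', X']))
    rw [hf, Preadditive.sum_comp]
    refine Finset.sum_congr rfl fun i hi => ?_
    rw [Category.assoc, Groth.L10.DTen.ι_prj, if_pos (ht (Finset.mem_image_of_mem _ hi))]

end Groth.Agent.S6978
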