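import Groth.Statements.S6982
import Groth.Agent.L10.DRing.SectionBC

set_option autoImplicit false
set_option backward.defeqAttrib.useBackward true
set_option backward.isDefEq.respectTransparency false
universe u
open CategoryTheory CategoryTheory.Limits
attribute [local instance] HasDerivedCategory.standard
open DRing

namespace Groth.Agent.S6982

/-- Let R be a commutative ring, K an object of D(R) and φ : R[x] → R the R-algebra homomorphism sending
x to 0; assume the derived base change D(R[x]) → D(R) along φ exists. Then the derived base change
along φ of K (regarded as an object of D(R[x]) via φ) is isomorphic in D(R) to K ⊕ K[1]. -/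
theorem result (R : Type u) [CommRing R]
    [DRing.HasLBaseChange (Polynomial.evalRingHom (0 : R))] (K : Dual.D R)
    [HasBinaryBiproduct K ((shiftFunctor (Dual.D R) (1 : ℤ)).obj K)] :
    Nonempty ((DRing.LBaseChange (Polynomial.evalRingHom (0 : R))).obj
        ((DRing.restrictD (Polynomial.evalRingHom (0 : R))).obj K) ≅
      K ⊞ (shiftFunctor (Dual.D R) (1 : ℤ)).obj K) := by
  exact Groth.L10.SectionBC.nonempty_iso (Polynomial.C : R →+* Polynomial R) _
    (RingHom.ext fun r => Polynomial.eval_C) Polynomial.X (Polynomial.eval_X)
    Polynomial.divX_hom
    (fun p => Polynomial.ext fun n => by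
      rw [Polynomial.divX_hom_toFun, Polynomial.coeff_divX, Polynomial.coeff_X_mul])
    (fun r p => by rw [Polynomial.divX_hom_toFun, Polynomial.divX_hom_toFun, Polynomial.divX_C_mul])
    (fun p hp => Polynomial.X_dvd_iff.2 (by rw [Polynomial.coeff_zero_eq_eval_zero]; exact hp)) K

end Groth.Agent.S6982
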