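import Groth.Statements.S6999
import Groth.Agent.L10.DRing.ExtColim

set_option autoImplicit false
set_option backward.defeqAttrib.useBackward true
set_option backward.isDefEq.respectTransparency false
universe u
open CategoryTheory CategoryTheory.Limits
attribute [local instance] HasDerivedCategory.standard
open DRing

namespace Groth.Agent.S6999

/-- Let R be a commutative ring, m an integer, K an m-pseudo-coherent object of D(R), and (M_j) a
diagram of R-modules over a small filtered category with colimit cocone M. Then the canonical map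
colim_j Hom(K, M_j[n]) → Hom(K, M[n]) in D(R) is bijective for n < -m and injective for n = -m.
Unfolded: for n < -m every morphism K → M[n] factors through M_j[n] → M[n] for some j; and for n ≤
-m, a morphism K → M_j[n] whose composite with M_j[n] → M[n] is zero already has zero composite with
M_j[n] → M_(j')[n] for some j → j'. -/
theorem result (R : Type u) [CommRing R] (m : ℤ) (K : Dual.D R)
    (hK : DRing.IsPseudoCoherent R m K) {J : Type u} [SmallCategory J] [IsFiltered J]
    (F : J ⥤ ModuleCat.{u} R) (c : Cocone F) (hc : IsColimit c) :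
    (∀ n : ℤ, n < -m → ∀ x : K ⟶ (shiftFunctor (Dual.D R) n).obj (Dual.inD R c.pt),
      ∃ (j : J) (y : K ⟶ (shiftFunctor (Dual.D R) n).obj (Dual.inD R (F.obj j))),
        y ≫ (shiftFunctor (Dual.D R) n).map
          ((DerivedCategory.singleFunctor (ModuleCat.{u} R) 0).map (c.ι.app j)) = x) ∧
    (∀ n : ℤ, n ≤ -m → ∀ (j : J) (y : K ⟶ (shiftFunctor (Dual.D R) n).obj (Dual.inD R (F.obj j))),
      y ≫ (shiftFunctor (Dual.D R) n).map
          ((DerivedCategory.singleFunctor (ModuleCat.{u} R) 0).map (c.ι.app j)) = 0 →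
      ∃ (j' : J) (f : j ⟶ j'), y ≫ (shiftFunctor (Dual.D R) n).map
          ((DerivedCategory.singleFunctor (ModuleCat.{u} R) 0).map (F.map f)) = 0) := by
  obtain ⟨E, a, b, α, hEv, hEf, hiso, hepi⟩ := hK
  have hα : Groth.L02.PC.IsApprox α m := ⟨hiso, hepi⟩
  haveI : E.IsKProjective := Groth.L02.PC.isKProjective_of_vanishesAbove (b := b) (fun i hi => hEv i (Or.inr hi))
    fun i => haveI := (hEf i).2; inferInstance
  constructor
  · intro n hn x
    let e := Groth.L10.ExtColim.shiftIso (A := R) n
    let x₁ : K ⟶ DRing.toD ((Groth.L10.ExtColim.S (-n)).obj c.pt) := x ≫ e.hom.app c.pt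
    obtain ⟨j, y, hy⟩ := Groth.L10.ExtColim.complex_lift F hc hEf (-n) (α ≫ x₁)
    obtain ⟨x', hx'⟩ := (Groth.L10.ExtColim.precomp hα n (F.obj j)).2 hn y
    let q : DRing.toD ((Groth.L10.ExtColim.S (-n)).obj (F.obj j)) ⟶ DRing.toD ((Groth.L10.ExtColim.S (-n)).obj c.pt) :=
      DerivedCategory.Q.map ((Groth.L10.ExtColim.S (-n)).map (c.ι.app j))
    refine ⟨j, x' ≫ e.inv.app (F.obj j), ?_⟩
    have h0 := (Groth.L10.ExtColim.precomp hα n c.pt).1 hn.le (x' ≫ q - x₁)
      (by rw [Preadditive.comp_sub, reassoc_of% hx']; exact sub_eq_zero.2 hy)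
    have hn' := e.inv.naturality (c.ι.app j)
    dsimp at hn'
    calc _ = (x' ≫ q) ≫ e.inv.app c.pt := by
            rw [Category.assoc, Category.assoc]; exact congrArg (x' ≫ ·) hn'.symm
      _ = x₁ ≫ e.inv.app c.pt := by rw [sub_eq_zero.1 h0]
      _ = x := by
            simp only [x₁]
            exact (Category.assoc _ _ _).trans ((congrArg (x ≫ ·) (e.hom_inv_id_app c.pt)).trans (Category.comp_id x))
  · intro n hn j y hy
    let e := Groth.L10.ExtColim.shiftIso (A := R) n
    have hn' := e.hom.naturality (c.ι.app j)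
    dsimp at hn'
    obtain ⟨j', f, hf⟩ := Groth.L10.ExtColim.complex_kill F hc hEf (-n) j (α ≫ y ≫ e.hom.app (F.obj j)) (by
      simp only [Category.assoc]
      rw [← hn', ← Category.assoc y, hy, zero_comp, comp_zero])
    refine ⟨j', f, ?_⟩
    have h0 := (Groth.L10.ExtColim.precomp hα n (F.obj j')).1 hn
      (y ≫ e.hom.app (F.obj j) ≫ DerivedCategory.Q.map ((Groth.L10.ExtColim.S (-n)).map (F.map f)))
      (by simpa only [Category.assoc] using hf)
    have hn'' := e.hom.naturality (F.map f)
    dsimp at hn''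
    rw [← cancel_mono (e.hom.app (F.obj j')), Category.assoc, hn'', zero_comp]
    exact h0

end Groth.Agent.S6999
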