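import Groth.Statements.S7000
import Groth.Agent.L10.DRing.FlatDescent

set_option autoImplicit false
universe u
open CategoryTheory CategoryTheory.Limits
attribute [local instance] HasDerivedCategory.standard
open DRing

namespace Groth.Agent.S7000

/-- Let A → B be a flat homomorphism of commutative rings, m an integer and M an A-module. If M is
m-pseudo-coherent then the B-module B ⊗_A M is m-pseudo-coherent; if M is pseudo-coherent then B ⊗_A
M is pseudo-coherent. -/
theorem result {A B : Type u} [CommRing A] [CommRing B] [Algebra A B]
    [Module.Flat A B] (m : ℤ) (M : Type u) [AddCommGroup M] [Module A M] :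
    (DRing.IsPseudoCoherentModule A m M → DRing.IsPseudoCoherentModule B m (TensorProduct A B M)) ∧
      (DRing.IsPseudoCoherentModule' A M → DRing.IsPseudoCoherentModule' B (TensorProduct A B M)) := by
  have hf : (algebraMap A B).Flat := RingHom.flat_algebraMap_iff.mpr inferInstance
  obtain ⟨e⟩ := Groth.L10.FlatDescent.exists_single_iso (S := B) M (R := A)
  let e0 := (DerivedCategory.singleFunctorIsoCompQ (ModuleCat.{u} A) 0).app (ModuleCat.of A M)
  have h : ∀ m, DRing.IsPseudoCoherentModule A m M → DRing.IsPseudoCoherentModule B m (TensorProduct A B M) := fun m hm =>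
    Groth.L02.PC.pc_of_iso e (Groth.L10.FlatDescent.pc_bcCx (algebraMap A B) hf (Groth.L02.PC.pc_of_iso e0 hm))
  exact ⟨h m, fun hm => Groth.L02.PC.pc'_of_forall fun k => h k (Groth.L02.PC.pc_of_pc' hm k)⟩

end Groth.Agent.S7000
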