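import Groth.Statements.S7010
import Groth.Agent.L10.DRing.Modules
-- import your own Groth.Agent.* helpers here

set_option autoImplicit false
universe u
open CategoryTheory CategoryTheory.Limits
attribute [local instance] HasDerivedCategory.standard
open DRing

namespace Groth.Agent.S7010

open CategoryTheory.Pretriangulated in
/-- The inclusion of the perfect objects in the subcategory generated by R: let R be a commutative ring
and P a property of objects of D(R) which is closed under isomorphisms, holds for R[0], is stable
under all shifts, is closed under extensions (if it holds for the outer terms of a distinguished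
triangle it holds for the middle term) and is closed under taking direct summands. Then P holds for
every perfect object of D(R). -/
theorem result (R : Type u) [CommRing R]
    (P : ObjectProperty (Dual.D R)) [P.IsClosedUnderIsomorphisms] (hR : P (Dual.inD R R))
    (hshift : ∀ (K : Dual.D R) (n : ℤ), P K → P ((shiftFunctor (Dual.D R) n).obj K))
    (hext : ∀ T : Triangle (Dual.D R), T ∈ distinguishedTriangles → P T.obj₁ → P T.obj₃ → P T.obj₂)
    (hsum : ∀ (X Y : Dual.D R) [HasBinaryBiproduct X Y], P (X ⊞ Y) → P X)
    (K : Dual.D R) (hK : DRing.IsPerfect R K) : P K := by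
  have hzero : ∀ Z : Dual.D R, IsZero Z → P Z := by
    intro Z hZ
    haveI : HasBinaryBiproduct Z (Dual.inD R R) := inferInstance
    refine hsum Z (Dual.inD R R) (P.prop_of_iso ?_ hR)
    exact
      { hom := biprod.inr
        inv := biprod.snd
        hom_inv_id := biprod.inr_snd
        inv_hom_id := by
          refine biprod.hom_ext' _ _ (hZ.eq_of_src _ _) ?_
          simp }
  obtain ⟨E, a, b, h1, h2, ⟨e⟩⟩ := hK
  refine P.prop_of_iso e (Groth.L10.DR.of_termwise P hzero hext E a b h1 fun i _ _ => ?_)
  haveI := (h2 i).1
  haveI := (h2 i).2
  obtain ⟨Q, _, hF⟩ := Groth.L29.PerfPC.exists_complement (E.X i)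
  obtain ⟨_, hfree⟩ := hF
  let n := Module.finrank R ↑(E.X i ⊞ Q)
  refine P.prop_of_iso (Groth.L10.DR.singleShift i (E.X i)) (hshift _ (-i) ?_)
  rcases subsingleton_or_nontrivial R with hR0 | hR1
  · haveI := Module.subsingleton R (E.X i)
    exact hzero _ ((DerivedCategory.singleFunctor (ModuleCat R) 0).map_isZero (ModuleCat.isZero_of_subsingleton _))
  · let b' := (Module.Free.chooseBasis R ↑(E.X i ⊞ Q)).reindex (Fintype.equivFin _)
    haveI := preservesBinaryBiproducts_of_preservesBiproducts (DerivedCategory.singleFunctor (ModuleCat R) 0)
    refine hsum _ ((DerivedCategory.singleFunctor (ModuleCat R) 0).obj Q) (P.prop_of_iso ?_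
      (Groth.L10.DR.finiteFree_property P hR hext hzero (Fintype.card (Module.Free.ChooseBasisIndex R ↑(E.X i ⊞ Q)))))
    exact (DerivedCategory.singleFunctor (ModuleCat R) 0).mapIso b'.equivFun.symm.toModuleIso ≪≫
      (DerivedCategory.singleFunctor (ModuleCat R) 0).mapBiprod (E.X i) Q

end Groth.Agent.S7010
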