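import Groth.Statements.S7014
import Groth.Agent.L10.SeqCompact
import Groth.Agent.L10.DTen.Small
import Groth.Agent.S0985

set_option autoImplicit false
set_option backward.defeqAttrib.useBackward true
set_option backward.isDefEq.respectTransparency false
universe u
open CategoryTheory CategoryTheory.Limits
attribute [local instance] HasDerivedCategory.standard
open DRing

namespace Groth.Agent.S7014

/-- Let R be a commutative ring and K an object of D(R) such that for every sequence (E_n) of objects of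
D(R) the canonical map from the direct sum of the Hom(K, E_n) to Hom(K, ⊕_n E_n) is bijective. Let
L_0 → L_1 → L_2 → ... be a sequence of cochain complexes of R-modules with colimit L (computed
termwise). Then every morphism K → L in D(R) factors through L_n → L for some n, and a morphism K →
L_n in D(R) whose composite with L_n → L vanishes already has vanishing composite with L_n → L_m for
some m ≥ n. -/
theorem result (R : Type u) [CommRing R] (K : Dual.D R)
    (hK : ∀ (E : ℕ → Dual.D R) [HasCoproduct fun i : ULift.{u + 1} ℕ => E i.down],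
      Function.Bijective (CohDer.homSumToHomCoprod K (fun i : ULift.{u + 1} ℕ => E i.down)))
    (L : ℕ ⥤ DRing.Cx R) (c : Cocone L) (hc : IsColimit c) :
    (∀ x : K ⟶ DRing.toD c.pt, ∃ (n : ℕ) (y : K ⟶ DRing.toD (L.obj n)),
        y ≫ DerivedCategory.Q.map (c.ι.app n) = x) ∧
      (∀ (n : ℕ) (y : K ⟶ DRing.toD (L.obj n)), y ≫ DerivedCategory.Q.map (c.ι.app n) = 0 →
        ∃ (m : ℕ) (h : n ≤ m), y ≫ DerivedCategory.Q.map (L.map (homOfLE h)) = 0) := by
  classical
  haveI := Groth.L10.DTen.hasCoproducts (B := R) (ULift.{u} ℕ)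
  haveI := Groth.L10.DTen.preservesCoproducts_Q (B := R) (ULift.{u} ℕ)
  haveI : HasColimitsOfShape (Discrete ℕ) (Dual.D R) :=
    hasColimitsOfShape_of_equivalence (Discrete.equivalence Equiv.ulift.{u})
  haveI : HasColimitsOfShape (Discrete (ULift.{u + 1} ℕ)) (Dual.D R) :=
    hasColimitsOfShape_of_equivalence (Discrete.equivalence Equiv.ulift.{u + 1}.symm)
  haveI : PreservesColimitsOfShape (Discrete ℕ) (DerivedCategory.Q : DRing.Cx R ⥤ Dual.D R) :=
    preservesColimitsOfShape_of_equiv (Discrete.equivalence Equiv.ulift.{u}) _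
  have hsum : ∀ E : ℕ → Dual.D R, Groth.L10.SeqCompact.SumSurj E K := fun E φ => by
    let E' : ULift.{u + 1} ℕ → Dual.D R := fun n => E n.down
    let e : (∐ E) ≅ ∐ E' :=
      { hom := Sigma.desc fun n => Sigma.ι E' ⟨n⟩
        inv := Sigma.desc fun n => Sigma.ι E n.down }
    obtain ⟨x, hx⟩ := (hK E).2 (φ ≫ e.hom)
    have h : ∀ y, ∃ z, Groth.L10.SeqCompact.homSum E K z = CohDer.homSumToHomCoprod K E' y ≫ e.inv := fun y => by
      induction y using DirectSum.induction_on with
      | zero => exact ⟨0, by simp⟩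
      | of k g => exact ⟨DirectSum.of _ k.down g, by
          rw [Groth.L10.SeqCompact.homSum_of, CohDer.homSumToHomCoprod]
          erw [DirectSum.toAddMonoid_of]
          show g ≫ Sigma.ι E k.down = (g ≫ Sigma.ι E' k) ≫ Sigma.desc fun n => Sigma.ι E n.down
          simp [E']⟩
      | add a b ha hb =>
        obtain ⟨za, ha⟩ := ha
        obtain ⟨zb, hb⟩ := hb
        exact ⟨za + zb, by simp [ha, hb]⟩
    obtain ⟨z, hz⟩ := h x
    exact ⟨z, by rw [hz, hx, Category.assoc, e.hom_inv_id, Category.comp_id]⟩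
  obtain ⟨δ, hδ⟩ := Groth.Agent.S0985.result L
  let F : ℕ ⥤ Dual.D R := L ⋙ DerivedCategory.Q
  let i : ∀ n, F.obj n ⟶ DRing.toD c.pt := fun n => DerivedCategory.Q.map (c.ι.app n)
  let eX : DerivedCategory.Q.obj (colimit L) ≅ DRing.toD c.pt :=
    DerivedCategory.Q.mapIso ((colimit.isColimit L).coconePointUniqueUpToIso hc)
  have heX : ∀ n, DerivedCategory.Q.map (colimit.ι L n) ≫ eX.hom = i n := fun n => by
    show _ ≫ DerivedCategory.Q.map _ = DerivedCategory.Q.map _
    rw [← Functor.map_comp]
    exact congrArg _ ((colimit.isColimit L).comp_coconePointUniqueUpToIso_hom hc n)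
  refine Groth.L10.SeqCompact.hom_hocolim F i (fun n m h => ?_) (eX.inv ≫ δ) ?_ (hsum _) (fun ψ hψ => ?_)
  · show DerivedCategory.Q.map _ ≫ DerivedCategory.Q.map _ = DerivedCategory.Q.map _
    rw [← Functor.map_comp, Cocone.w]
  · refine Pretriangulated.isomorphic_distinguished _ hδ _
      (Pretriangulated.Triangle.isoMk _ _ (Iso.refl _) (Iso.refl _) eX.symm ?_ ?_ ?_)
    · dsimp [F]; simp; rfl
    · refine Sigma.hom_ext _ _ fun n => ?_
      dsimp
      simp only [colimit.ι_desc_assoc, Cofan.mk_ι_app, Category.id_comp, colimit.ι_desc]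
      rw [← heX, Category.assoc, eX.hom_inv_id, Category.comp_id]
      exact (colimit.ι_desc (Cofan.mk _ fun n => DerivedCategory.Q.map (colimit.ι L n)) ⟨n⟩).symm
    · dsimp; simp
  · let E : ℕ → Dual.D R := fun n => (F.obj n)⟦(1 : ℤ)⟧
    let f : ∀ n, E n ⟶ E (n + 1) := fun n => (F.map (homOfLE (Nat.le_succ n)))⟦(1 : ℤ)⟧'
    let e := PreservesCoproduct.iso (shiftFunctor (Dual.D R) (1 : ℤ)) F.obj
    have he : e.inv ≫ (𝟙 (∐ F.obj) - DerLim.shiftMap F.obj (fun n => F.map (homOfLE (Nat.le_succ n))))⟦(1 : ℤ)⟧' =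
        (𝟙 (∐ E) - DerLim.shiftMap E f) ≫ e.inv := Sigma.hom_ext _ _ fun n => by
      dsimp [e, E, f]
      simp [DerLim.shiftMap, Functor.map_sub, ← Functor.map_comp]
    have h0 := Groth.L10.SeqCompact.sub_shift_injective E (hsum _) f (ψ ≫ e.hom) (by
      rw [← cancel_mono e.inv, Category.assoc, Category.assoc, ← he, Iso.hom_inv_id_assoc, hψ, zero_comp])
    rw [← cancel_mono e.hom, h0, zero_comp]

end Groth.Agent.S7014
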