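import Groth.Statements.S7015
import Mathlib.Algebra.Category.ModuleCat.Monoidal.Basic
import Mathlib.CategoryTheory.Monoidal.Rigid.Basic
import Mathlib.Algebra.Module.Projective
import Mathlib.LinearAlgebra.StdBasis
import Mathlib.LinearAlgebra.TensorProduct.Finiteness

set_option autoImplicit false
universe u
open CategoryTheory MonoidalCategory
open DRing

namespace Groth.Agent.S7015

open scoped MonoidalCategory TensorProduct in
theorem finite_projective_right {R : Type u} [CommRing R] (X Y : ModuleCat.{u} R) [ExactPairing X Y] :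
    Module.Finite R Y ∧ Module.Projective R Y := by
  classical
  let t : X ⊗[R] Y := (η_ X Y).hom (1 : R)
  obtain ⟨S, hS⟩ := TensorProduct.exists_finset t
  let e : Y ⊗[R] X →ₗ[R] R := (ε_ X Y).hom
  have key : ∀ y : Y, ∑ p ∈ S, e (y ⊗ₜ[R] p.1) • p.2 = y := by
    intro y
    have h := congrArg (fun f : Y ⊗ 𝟙_ (ModuleCat.{u} R) ⟶ 𝟙_ (ModuleCat.{u} R) ⊗ Y =>
      ((λ_ Y).hom.hom (f.hom (y ⊗ₜ[R] (1 : R))) : Y)) (ExactPairing.coevaluation_evaluation X Y)
    change ((λ_ Y).hom.hom ((ε_ X Y ▷ Y).hom ((α_ Y X Y).inv.hom (y ⊗ₜ[R] t)))) =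
      ((ρ_ Y).hom ≫ (λ_ Y).inv ≫ (λ_ Y).hom).hom (y ⊗ₜ[R] (1 : R)) at h
    rw [Iso.inv_hom_id, Category.comp_id, hS, TensorProduct.tmul_sum, map_sum, map_sum, map_sum] at h
    refine (Finset.sum_congr rfl fun p _ => ?_).trans (h.trans ?_)
    · exact (TensorProduct.lid_tmul p.2 (e (y ⊗ₜ[R] p.1))).symm
    · exact (TensorProduct.rid_tmul y (1 : R)).trans (one_smul R y)
  let g : (S → R) →ₗ[R] Y := Fintype.linearCombination R (fun p : S => p.1.2)
  let s : Y →ₗ[R] (S → R) := LinearMap.pi fun p : S => e ∘ₗ (TensorProduct.mk R Y X).flip p.1.1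
  have hgs : g ∘ₗ s = LinearMap.id := by
    refine LinearMap.ext fun y => ?_
    show ∑ p : S, e (y ⊗ₜ[R] p.1.1) • p.1.2 = y
    exact (Finset.sum_coe_sort S (fun p => e (y ⊗ₜ[R] p.1) • p.2)).trans (key y)
  exact ⟨Module.Finite.of_surjective g fun y => ⟨s y, LinearMap.congr_fun hgs y⟩,
    haveI : Module.Projective R (S → R) := Module.Projective.of_free
    Module.Projective.of_split s g hgs⟩

open scoped MonoidalCategory TensorProduct in
theorem finite_projective_left {R : Type u} [CommRing R] (X Y : ModuleCat.{u} R) [ExactPairing X Y] :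
    Module.Finite R X ∧ Module.Projective R X := by
  classical
  let t : X ⊗[R] Y := (η_ X Y).hom (1 : R)
  obtain ⟨S, hS⟩ := TensorProduct.exists_finset t
  let e : Y ⊗[R] X →ₗ[R] R := (ε_ X Y).hom
  have key : ∀ x : X, ∑ p ∈ S, e (p.2 ⊗ₜ[R] x) • p.1 = x := by
    intro x
    have h := congrArg (fun f : 𝟙_ (ModuleCat.{u} R) ⊗ X ⟶ X ⊗ 𝟙_ (ModuleCat.{u} R) =>
      ((ρ_ X).hom.hom (f.hom ((1 : R) ⊗ₜ[R] x)) : X)) (ExactPairing.evaluation_coevaluation X Y)
    change ((ρ_ X).hom.hom ((X ◁ ε_ X Y).hom ((α_ X Y X).hom.hom (t ⊗ₜ[R] x)))) =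
      ((λ_ X).hom ≫ (ρ_ X).inv ≫ (ρ_ X).hom).hom ((1 : R) ⊗ₜ[R] x) at h
    rw [Iso.inv_hom_id, Category.comp_id, hS, TensorProduct.sum_tmul, map_sum, map_sum, map_sum] at h
    refine (Finset.sum_congr rfl fun p _ => ?_).trans (h.trans ?_)
    · exact (TensorProduct.rid_tmul p.1 (e (p.2 ⊗ₜ[R] x))).symm
    · exact (TensorProduct.lid_tmul x (1 : R)).trans (one_smul R x)
  let g : (S → R) →ₗ[R] X := Fintype.linearCombination R (fun p : S => p.1.1)
  let s : X →ₗ[R] (S → R) := LinearMap.pi fun p : S => e ∘ₗ TensorProduct.mk R Y X p.1.2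
  have hgs : g ∘ₗ s = LinearMap.id := by
    refine LinearMap.ext fun x => ?_
    show ∑ p : S, e (p.1.2 ⊗ₜ[R] x) • p.1.1 = x
    exact (Finset.sum_coe_sort S (fun p => e (p.2 ⊗ₜ[R] x) • p.1)).trans (key x)
  exact ⟨Module.Finite.of_surjective g fun x => ⟨s x, LinearMap.congr_fun hgs x⟩,
    haveI : Module.Projective R (S → R) := Module.Projective.of_free
    Module.Projective.of_split s g hgs⟩

/-- Let R be a commutative ring and M, N R-modules such that N is a left dual of M for the tensor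
product of R-modules, i.e. there are a coevaluation R → M ⊗ N and an evaluation N ⊗ M → R satisfying
the triangle identities (an exact pairing). Then M and N are finitely generated projective
R-modules. -/
theorem result (R : Type u) [CommRing R] (M N : Type u) [AddCommGroup M]
    [Module R M] [AddCommGroup N] [Module R N] [ExactPairing (ModuleCat.of R M) (ModuleCat.of R N)] :
    Module.Finite R M ∧ Module.Projective R M ∧ Module.Finite R N ∧ Module.Projective R N := by
  obtain ⟨h1, h2⟩ := finite_projective_left (ModuleCat.of R M) (ModuleCat.of R N)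
  obtain ⟨h3, h4⟩ := finite_projective_right (ModuleCat.of R M) (ModuleCat.of R N)
  exact ⟨h1, h2, h3, h4⟩

end Groth.Agent.S7015
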