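import Groth.Statements.S7029
import Groth.Agent.L10.DRing.Perfect
-- import your own Groth.Agent.* helpers here

set_option autoImplicit false
universe u
open CategoryTheory CategoryTheory.Limits
attribute [local instance] HasDerivedCategory.standard
open DRing

namespace Groth.Agent.S7029

/-- Let R be a commutative ring such that the derived tensor product - ⊗^L_R M exists on D(R) for every
R-module M, and let K be a bounded cochain complex of R-modules each term of which is a perfect
R-module. Then K is a perfect object of D(R). -/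
theorem result (R : Type u) [CommRing R] [∀ M : ModuleCat.{u} R, DRing.HasLTensor R M] (K : DRing.Cx R)
    (a b : ℤ) (hab : DRing.VanishesOutside K a b) (hK : ∀ i : ℤ, DRing.IsPerfectModule R (K.X i)) :
    DRing.IsPerfect R (DRing.toD K) := by
  let P : ObjectProperty (Dual.D R) := fun X => DRing.IsPerfect R X
  haveI : P.IsClosedUnderIsomorphisms := ⟨fun e h => Groth.L29.Perfect.of_iso e h⟩
  refine Groth.L10.DR.of_termwise P (fun Z hZ => ?_)
    (fun T hT h1 h3 => Groth.L29.Perfect.second T hT h1 h3) K a b hab fun i _ _ =>
      Groth.L29.Perfect.of_iso (Groth.L10.DR.singleShift i (K.X i)) (Groth.L29.Perfect.shift (hK i) (-i))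
  exact Groth.L29.Perfect.of_iso ((((shiftFunctor (Dual.D R) (0 : ℤ)).map_isZero hZ)).iso hZ)
    (Groth.L10.DR.perfect_of_pc'_amp
      (Groth.L02.PC.pc'_of_forall fun m => Groth.L02.PC.pc_mono (show (m - 1) + 1 ≤ m by omega)
        (Groth.L02.PC.pc_of_LEH fun j hj => (Groth.L02.PC.HH j).map_isZero ((shiftFunctor (Dual.D R) (0 : ℤ)).map_isZero hZ)))
      (Groth.L10.DR.amp_of_isZero ((shiftFunctor (Dual.D R) (0 : ℤ)).map_isZero hZ) 0 0))

end Groth.Agent.S7029
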