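import Groth.Statements.S7031
import Groth.Agent.L10.DRing.PD
import Groth.Agent.L10.DRing.Coherent
-- import your own Groth.Agent.* helpers here

set_option autoImplicit false
universe u
open CategoryTheory CategoryTheory.Limits
attribute [local instance] HasDerivedCategory.standard
open DRing

namespace Groth.Agent.S7031

/-- Let R be a regular commutative ring (Noetherian, with regular local rings at all primes) such that
the derived tensor product - ⊗^L_R M exists on D(R) for every R-module M, and let K be an object of
D(R). Then K is perfect if and only if H^i(K) = 0 outside a bounded range of degrees and every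
H^i(K) is a finitely generated R-module. -/
theorem result (R : Type u) [CommRing R] [IsNoetherianRing R]
    (hreg : ∀ p : PrimeSpectrum R, IsRegularLocalRing (Localization.AtPrime p.asIdeal)) [∀ M : ModuleCat.{u} R, DRing.HasLTensor R M] (K : Dual.D R) :
    DRing.IsPerfect R K ↔
      (∃ a b : ℤ, ∀ i : ℤ, (i < a ∨ b < i) → Subsingleton (Dual.HD R K i)) ∧ ∀ i : ℤ, Module.Finite R (Dual.HD R K i) := by
  haveI : IsRegularRing R := { isRegularLocalRing_localization := fun p hp => hreg ⟨p, hp⟩ }
  constructor
  · intro h
    refine ⟨?_, fun i => ?_⟩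
    · obtain ⟨E, a, b, hv, -, ⟨e⟩⟩ := h
      exact ⟨a, b, fun i hi => ModuleCat.subsingleton_of_isZero ((Groth.L10.DR.HH_iso_zero e i).2
        ((E.exactAt_iff_isZero_homology i).1 (HomologicalComplex.ExactAt.of_isZero (hv i hi))))⟩
    · exact (Groth.L10.DR.finite_and_fp_of_pc (fun I hI => by
        haveI := Module.Finite.iff_fg.2 hI; exact Module.finitePresentation_of_finite R I)
        (Groth.L02.PC.pc_of_pc' (Groth.L29.PerfPC.isPseudoCoherent'_of_isPerfect h) i)).1
  · rintro ⟨⟨c, d, hcd⟩, hf⟩
    let P : ObjectProperty (Dual.D R) := fun X => DRing.IsPerfect R X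
    haveI : P.IsClosedUnderIsomorphisms := ⟨fun e h => Groth.L29.Perfect.of_iso e h⟩
    have hz : ∀ i, (i < c ∨ d < i) → IsZero ((Groth.L02.PC.HH i).obj K) := fun i hi =>
      haveI := hcd i hi; ModuleCat.isZero_of_subsingleton _
    exact Groth.L10.DR.of_homology P (fun Z hZ => Groth.L10.DR.perfect_of_isZero hZ)
      (fun T hT h1 h3 => Groth.L29.Perfect.second T hT h1 h3) K c d
      ((DerivedCategory.isGE_iff K c).2 fun i hi => hz i (Or.inl hi))
      ((DerivedCategory.isLE_iff K d).2 fun i hi => hz i (Or.inr hi)) fun i _ _ =>
        haveI := hf i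
        Groth.L29.Perfect.of_iso (Groth.L10.DR.singleShift i _)
          (Groth.L29.Perfect.shift (Groth.L10.DR.perfectModule_of_regular (Dual.HD R K i)) (-i))

end Groth.Agent.S7031
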