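import Groth.Statements.S7033
import Groth.Agent.L10.DRing.Perfect
-- import your own Groth.Agent.* helpers here

set_option autoImplicit false
universe u
open CategoryTheory CategoryTheory.Limits
attribute [local instance] HasDerivedCategory.standard
open DRing

namespace Groth.Agent.S7033

/-- Let R be a commutative ring such that the derived tensor product - ⊗^L_R M exists on D(R) for every
R-module M, let a, b be integers and K an object of D(R) whose cohomology vanishes outside a bounded
range, such that for every i the module H^i(K) (placed in degree 0) has tor amplitude in [a - i, b -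
i]. Then K has tor amplitude in [a, b]. -/
theorem result (R : Type u) [CommRing R] [∀ M : ModuleCat.{u} R, DRing.HasLTensor R M] (a b : ℤ) (K : Dual.D R)
    (hb : ∃ c d : ℤ, ∀ i : ℤ, (i < c ∨ d < i) → Subsingleton (Dual.HD R K i))
    (hK : ∀ i : ℤ, DRing.HasTorAmplitudeIn R (a - i) (b - i) (Dual.inD R (Dual.HD R K i))) :
    DRing.HasTorAmplitudeIn R a b K := by
  let P : ObjectProperty (Dual.D R) := fun X => DRing.HasTorAmplitudeIn R a b X
  haveI : P.IsClosedUnderIsomorphisms := ⟨fun e h => Groth.L10.DR.amp_of_iso e h⟩
  obtain ⟨c, d, hcd⟩ := hb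
  have hz : ∀ i, (i < c ∨ d < i) → IsZero ((Groth.L02.PC.HH i).obj K) := fun i hi =>
    haveI := hcd i hi; ModuleCat.isZero_of_subsingleton _
  refine Groth.L10.DR.of_homology P (fun Z hZ => Groth.L10.DR.amp_of_isZero hZ a b)
    (fun T hT h1 h3 => Groth.L10.DR.amp_second T hT h1 h3) K c d
    ((DerivedCategory.isGE_iff K c).2 fun i hi => hz i (Or.inl hi))
    ((DerivedCategory.isLE_iff K d).2 fun i hi => hz i (Or.inr hi)) fun i _ _ => ?_
  have := Groth.L10.DR.amp_shift (hK i) (-i)
  rw [sub_neg_eq_add, sub_neg_eq_add, sub_add_cancel, sub_add_cancel] at this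
  exact Groth.L10.DR.amp_of_iso (Groth.L10.DR.singleShift i _) this

end Groth.Agent.S7033
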