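import Groth.Statements.S7035
import Groth.Agent.L10.DRing.FlatFibre

set_option autoImplicit false
set_option backward.defeqAttrib.useBackward true
set_option backward.isDefEq.respectTransparency false
universe u
open CategoryTheory CategoryTheory.Limits
attribute [local instance] HasDerivedCategory.standard
open DRing

namespace Groth.Agent.S7035

/-- Let A → B be a flat homomorphism of commutative rings and d a natural number such that for every
prime p of A, with residue field κ(p), every module over κ(p) ⊗_A B has projective dimension at most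
d; assume the derived tensor products - ⊗^L M exist on D(κ(p) ⊗_A B) for all p and the derived base
changes D(B) → D(B/m) exist for all ideals m of B. Let a, b be integers and K an object of D(B)
which is pseudo-coherent over B and, with scalars restricted to A, has tor amplitude in [a, b]. Then
K is perfect over B and has tor amplitude in [a - d, b] over B. -/
theorem result {A B : Type u} [CommRing A] [CommRing B] [Algebra A B]
    [Module.Flat A B] (d : ℕ)
    (hgl : ∀ (p : PrimeSpectrum A) (M : Type u) [AddCommGroup M]
      [Module (TensorProduct A p.asIdeal.ResidueField B) M],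
      HasProjectiveDimensionLT (ModuleCat.of (TensorProduct A p.asIdeal.ResidueField B) M) (d + 1))
    [∀ (p : PrimeSpectrum A) (M : ModuleCat.{u} (TensorProduct A p.asIdeal.ResidueField B)),
      DRing.HasLTensor (TensorProduct A p.asIdeal.ResidueField B) M]
    [∀ m : Ideal B, DRing.HasLBaseChange (Ideal.Quotient.mk m)] (a b : ℤ) (K : Dual.D B)
    (hK : DRing.IsPseudoCoherent' B K)
    (hKa : DRing.HasTorAmplitudeIn A a b ((DRing.restrictD (algebraMap A B)).obj K)) :
    DRing.IsPerfect B K ∧ DRing.HasTorAmplitudeIn B (a - d) b K := by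
  obtain ⟨P, N, hPb, hP, ⟨e⟩⟩ := hK
  have hPf : ∀ i, Module.Free B (P.X i) := fun i => (hP i).2
  obtain ⟨E, hEv, hEf, ⟨eE⟩⟩ := hKa
  let eR : DRing.toD (Groth.L20.TorAmp.res (A := A) P) ≅ DRing.toD E :=
    (Groth.L20.TorAmp.resIso (A := A) P).symm ≪≫ (DRing.restrictD (algebraMap A B)).mapIso e ≪≫ eE.symm
  have hresb : DRing.VanishesAbove (Groth.L20.TorAmp.res (A := A) P) N := fun i hi =>
    Functor.map_isZero (ModuleCat.restrictScalars.{u} (algebraMap A B)) (hPb i hi)
  have hresf : DRing.TermwiseFlat (Groth.L20.TorAmp.res (A := A) P) := fun i =>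
    haveI := hPf i; Groth.L20.TorAmp.flat_restrict (P.X i)
  refine Groth.L10.DR.perfect_and_amp_of_fibres d e hPb hP a b fun n hn => ?_
  let p : PrimeSpectrum A := ⟨n.comap (algebraMap A B), inferInstance⟩
  letI : Field (B ⧸ n) := Ideal.Quotient.field n
  let f : A →ₐ[A] B ⧸ n := (Ideal.Quotient.mkₐ A n).comp (Algebra.ofId A B)
  let σ : p.asIdeal.ResidueField →ₐ[A] B ⧸ n := Ideal.ResidueField.liftₐ p.asIdeal f
    (fun x hx => Ideal.Quotient.eq_zero_iff_mem.2 hx)
    (fun x hx => isUnit_iff_ne_zero.2 fun h0 => hx (Ideal.Quotient.eq_zero_iff_mem.1 h0 : algebraMap A B x ∈ n))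
  let φ : B →+* TensorProduct A p.asIdeal.ResidueField B :=
    (Algebra.TensorProduct.includeRight (R := A) (A := p.asIdeal.ResidueField) (B := B)).toRingHom
  let ψ : TensorProduct A p.asIdeal.ResidueField B →+* B ⧸ n :=
    (Algebra.TensorProduct.lift σ (Ideal.Quotient.mkₐ A n) fun _ _ => Commute.all _ _).toRingHom
  refine ⟨CommRingCat.of (TensorProduct A p.asIdeal.ResidueField B), φ, ψ, RingHom.ext fun x => by simp [φ, ψ],
    fun M => hgl p M, fun i hi => ?_⟩
  have htE : Groth.L10.DR.TZ E i := fun Z => (HomologicalComplex.exactAt_iff_isZero_homology _ i).1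
    (HomologicalComplex.ExactAt.of_isZero ((MonoidalCategory.tensorRight Z).map_isZero (hEv i hi)))
  have ht := (Groth.L10.DR.tz_iff_of_iso eR hresb hresf (c := b) (fun j hj => hEv j (Or.inr hj)) hEf i).2 htE
  letI := φ.toAlgebra
  refine Groth.L10.DR.isZero_bcCx_of_fibre φ (ModuleCat.of A p.asIdeal.ResidueField) ?_ P i (ht _)
  refine (TensorProduct.comm A p.asIdeal.ResidueField B).toAddEquiv.toLinearEquiv fun c x => ?_
  show TensorProduct.comm A _ _ (φ c * x) = c • TensorProduct.comm A _ _ x
  induction x using TensorProduct.induction_on with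
  | zero => simp
  | add u v hu hv => simp_all [mul_add]
  | tmul y z => simp [φ, Algebra.TensorProduct.tmul_mul_tmul, TensorProduct.smul_tmul']

end Groth.Agent.S7035
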