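import Groth.Statements.S7036
import Groth.Agent.L10.DRing.InjAmp
-- import your own Groth.Agent.* helpers here

set_option autoImplicit false
universe u
open CategoryTheory CategoryTheory.Limits
attribute [local instance] HasDerivedCategory.standard
open DRing

namespace Groth.Agent.S7036

/-- Let R be a commutative ring. (1) If K is an object of D(R) whose cohomology vanishes outside a
bounded range and every cohomology module H^i(K), placed in degree 0, has finite injective
dimension, then K has finite injective dimension. (2) If K is a bounded cochain complex of R-modules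
and every term K^i, placed in degree 0, has finite injective dimension, then K has finite injective
dimension. -/
theorem result (R : Type u) [CommRing R] :
    (∀ (K : Dual.D R), (∃ a b : ℤ, ∀ i : ℤ, (i < a ∨ b < i) → Subsingleton (Dual.HD R K i)) →
        (∀ i : ℤ, DRing.HasFiniteInjDim R (Dual.inD R (Dual.HD R K i))) → DRing.HasFiniteInjDim R K) ∧
      (∀ (K : DRing.Cx R) (a b : ℤ), DRing.VanishesOutside K a b →
        (∀ i : ℤ, DRing.HasFiniteInjDim R (Dual.inD R (K.X i))) → DRing.HasFiniteInjDim R (DRing.toD K)) := by
  let P : ObjectProperty (Dual.D R) := fun X => DRing.HasFiniteInjDim R X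
  haveI : P.IsClosedUnderIsomorphisms := ⟨fun e h => Groth.L10.DR.injDim_of_iso e h⟩
  refine ⟨fun K hb hK => ?_, fun K a b hab hK => ?_⟩
  · obtain ⟨c, d, hcd⟩ := hb
    have hz : ∀ i, (i < c ∨ d < i) → IsZero ((Groth.L02.PC.HH i).obj K) := fun i hi =>
      haveI := hcd i hi; ModuleCat.isZero_of_subsingleton _
    exact Groth.L10.DR.of_homology P (fun Z hZ => Groth.L10.DR.injDim_of_isZero hZ)
      (fun T hT h1 h3 => Groth.L10.DR.injDim_second T hT h1 h3) K c d
      ((DerivedCategory.isGE_iff K c).2 fun i hi => hz i (Or.inl hi))
      ((DerivedCategory.isLE_iff K d).2 fun i hi => hz i (Or.inr hi)) fun i _ _ =>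
        Groth.L10.DR.injDim_of_iso (Groth.L10.DR.singleShift i _) (Groth.L10.DR.injDim_of_shift (hK i) (-i))
  · exact Groth.L10.DR.of_termwise P (fun Z hZ => Groth.L10.DR.injDim_of_isZero hZ)
      (fun T hT h1 h3 => Groth.L10.DR.injDim_second T hT h1 h3) K a b hab fun i _ _ =>
        Groth.L10.DR.injDim_of_iso (Groth.L10.DR.singleShift i _) (Groth.L10.DR.injDim_of_shift (hK i) (-i))

end Groth.Agent.S7036
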