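import Groth.Statements.S7038
import Mathlib.RingTheory.Support
import Mathlib.RingTheory.Noetherian.Basic
import Mathlib.RingTheory.Spectrum.Prime.RingHom
import Mathlib.RingTheory.Spectrum.Prime.Basic

set_option autoImplicit false
universe u
open LocCoh

namespace Groth.Agent.S7038

/-- For an ideal I of a commutative ring R and an R-module M, if every element of M is killed by a power
of I then the support of M is contained in the closed set V(I); conversely, when I is finitely
generated and the support of M is contained in V(I), every element of M is killed by a power of I.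
(Finite generation is used only for the converse.) -/
theorem result {R : Type u} [CommRing R] (I : Ideal R)
    (M : Type u) [AddCommGroup M] [Module R M] :
    (LocCoh.IsPowerTorsion I M → Module.support R M ⊆ PrimeSpectrum.zeroLocus (I : Set R)) ∧
    (I.FG → Module.support R M ⊆ PrimeSpectrum.zeroLocus (I : Set R) → LocCoh.IsPowerTorsion I M) := by
  refine ⟨fun h p hp => ?_, fun hfg h m => ?_⟩
  · obtain ⟨m, hm⟩ := Module.mem_support_iff_exists_annihilator.mp hp
    obtain ⟨n, hn⟩ := h m
    refine (PrimeSpectrum.mem_zeroLocus _ _).mpr ?_
    intro a ha
    refine p.isPrime.mem_of_pow_mem n (hm ?_)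
    rw [Submodule.mem_annihilator_span_singleton]
    exact hn _ (Ideal.pow_mem_pow ha n)
  · have hle : I ≤ (Submodule.annihilator (Submodule.span R {m})).radical := by
      rw [Ideal.radical_eq_sInf, le_sInf_iff]
      rintro J ⟨hJ, hJp⟩
      exact h ((Module.mem_support_iff_exists_annihilator (p := (⟨J, hJp⟩ : PrimeSpectrum R))).mpr ⟨m, hJ⟩)
    obtain ⟨n, hn⟩ := Ideal.exists_pow_le_of_le_radical_of_fg hle hfg
    exact ⟨n, fun a ha => (Submodule.mem_annihilator_span_singleton _ _).mp (hn ha)⟩


end Groth.Agent.S7038
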