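import Groth.Statements.S7042
import Groth.Agent.L04.RGamma.CompleteSeparated

set_option autoImplicit false
universe u
attribute [local instance] HasDerivedCategory.standard
open DRing

namespace Groth.Agent.S7042

/-- Let I be a finitely generated ideal of a commutative ring A and let M be an A-module which, placed
in degree 0, is derived complete with respect to I, and in which every element is killed by a power
of I. Then a single power of I kills M. -/
theorem result {A : Type u} [CommRing A]
    (I : Ideal A) (hI : I.FG) (M : Type u) [AddCommGroup M] [Module A M]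
    (hc : DRing.IsDerivedComplete I (Dual.inD A M)) (ht : LocCoh.IsPowerTorsion I M) :
    ∃ n : ℕ, I ^ n • (⊤ : Submodule A M) = ⊥ := by

    rw [Groth.L04.RGamma.isDerivedComplete_inD_iff] at hc
    obtain ⟨n, hn⟩ := Ideal.exists_pow_le_of_le_radical_of_fg (I := I) (J := Module.annihilator A M) (fun f hf => by
      obtain ⟨n, hn⟩ := Groth.L04.RGamma.exists_pow_smul_eq_zero (hc f hf)
        (fun x => (ht x).imp fun n hn => hn _ (Ideal.pow_mem_pow hf n))
      exact ⟨n, Module.mem_annihilator.2 hn⟩) hI
    exact ⟨n, le_bot_iff.1 (Submodule.smul_le.2 fun a ha x _ =>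
      (Submodule.mem_bot A).2 (Module.mem_annihilator.1 (hn ha) x))⟩

end Groth.Agent.S7042
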