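import Groth.Statements.S7044
import Groth.Agent.L04.RGamma.CompleteSeriesAction
import Mathlib.RingTheory.Henselian
import Mathlib.Algebra.Polynomial.Derivative
import Mathlib.Algebra.Polynomial.Monic

set_option autoImplicit false
universe u
attribute [local instance] HasDerivedCategory.standard
open DRing

namespace Groth.Agent.S7044

/-- Let A be a commutative ring and I an ideal of A; if A, regarded as an object of D(A) sitting in
degree 0, is I-adically derived complete, then the pair (A, I) is henselian: I lies in the Jacobson
radical and simple roots modulo I of monic polynomials lift to roots in A. -/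
theorem result {A : Type u} [CommRing A] (I : Ideal A)
    (hc : DRing.IsDerivedComplete I (Dual.inD A A)) : HenselianRing A I := by

    rw [Groth.L04.RGamma.isDerivedComplete_inD_iff] at hc
    have hjac : I ≤ Ideal.jacobson ⊥ := fun q hq => Ideal.mem_jacobson_bot.2 fun y => by
      obtain ⟨z, hz⟩ := (hc _ (Ideal.mul_mem_right (-y) I hq)).bijective_one_sub.2 1
      refine IsUnit.of_mul_eq_one z ?_
      calc (q * y + 1) * z = z - (q * -y) * z := by ring
        _ = 1 := hz
    refine ⟨hjac, fun f hf a₀ hg hd => ?_⟩
    rcases Nat.eq_zero_or_pos f.natDegree with h0 | h0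
    · rw [hf.natDegree_eq_zero.1 h0, Polynomial.eval_one] at hg
      have h1 := Ideal.mem_jacobson_bot.1 (hjac hg) (-1)
      rw [one_mul, neg_add_cancel, isUnit_zero_iff] at h1
      haveI := subsingleton_of_zero_eq_one h1
      exact ⟨a₀, Subsingleton.elim _ _, by simp⟩
    let h := hc _ hg
    have hlin : ∀ (φ : Module.End A A) (x : A), φ x = x * φ 1 := fun φ x => by
      rw [← smul_eq_mul, ← map_smul, smul_eq_mul, mul_one]
    let π : PowerSeries A →+* A :=
      { toFun := fun p => h.seriesHom p 1
        map_one' := by simp
        map_mul' := fun p q => by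
          show h.seriesHom (p * q) 1 = h.seriesHom p 1 * h.seriesHom q 1
          rw [map_mul h.seriesHom, Module.End.mul_apply, hlin, mul_comm]
        map_zero' := by simp
        map_add' := fun p q => by simp }
    have hC : ∀ a, π (PowerSeries.C a) = a := fun a => (h.seriesHom_C a 1).trans (mul_one a)
    have hX : π PowerSeries.X = f.eval a₀ := (h.seriesHom_X 1).trans (mul_one _)
    let F : Polynomial (PowerSeries A) :=
      f.map PowerSeries.C + Polynomial.C (PowerSeries.X - PowerSeries.C (f.eval a₀))
    have hFm : F.Monic := (hf.map _).add_of_left (lt_of_le_of_lt Polynomial.degree_C_le (by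
      have : Nontrivial A := ⟨⟨0, 1, fun e => by
        have := subsingleton_of_zero_eq_one e
        rw [Subsingleton.elim f 0, Polynomial.natDegree_zero] at h0
        exact Nat.lt_irrefl 0 h0⟩⟩
      rw [hf.degree_map, Polynomial.degree_eq_natDegree hf.ne_zero]
      exact_mod_cast h0))
    have hu : IsUnit (f.derivative.eval a₀) := by
      obtain ⟨b, hb⟩ := hd.exists_right_inv
      obtain ⟨b, rfl⟩ := Ideal.Quotient.mk_surjective b
      rw [← map_mul, ← map_one (Ideal.Quotient.mk I), Ideal.Quotient.eq] at hb
      have := Ideal.mem_jacobson_bot.1 (hjac hb) 1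
      rw [mul_one, sub_add_cancel] at this
      exact isUnit_of_mul_isUnit_left this
    obtain ⟨r, hr, hr'⟩ := (inferInstance : HenselianRing (PowerSeries A) (Ideal.span {PowerSeries.X})).is_henselian
      F hFm (PowerSeries.C a₀) (by
        simp [F, Polynomial.eval_map, Polynomial.eval₂_at_apply]) (by
        simpa [F, Polynomial.derivative_map, Polynomial.eval_map, Polynomial.eval₂_at_apply] using
          (hu.map PowerSeries.C).map (Ideal.Quotient.mk (Ideal.span {PowerSeries.X})))
    have hπ : π.comp PowerSeries.C = RingHom.id A := RingHom.ext hC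
    refine ⟨π r, ?_, ?_⟩
    · have := congrArg π hr
      rw [← Polynomial.eval₂_at_apply, map_zero, Polynomial.eval₂_add, Polynomial.eval₂_map, hπ,
        Polynomial.eval₂_C, map_sub, hX, hC, sub_self, add_zero] at this
      exact this
    · obtain ⟨c, hc'⟩ := Ideal.mem_span_singleton'.1 hr'
      have := congrArg π hc'
      rw [map_mul, map_sub, hX, hC] at this
      rw [← this]
      exact I.mul_mem_left _ hg

end Groth.Agent.S7044
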