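import Groth.Statements.S7046
import Groth.Agent.L04.RGamma.CompleteSeparated

set_option autoImplicit false
universe u
attribute [local instance] HasDerivedCategory.standard
open DRing

namespace Groth.Agent.S7046

/-- A reduced commutative ring A which, placed in degree 0 of D(A), is derived complete with respect to
a finitely generated ideal I is I-adically complete, i.e. separated and complete for the I-adic
topology. -/
theorem result {A : Type u} [CommRing A] [IsReduced A]
    (I : Ideal A) (hI : I.FG) (hc : DRing.IsDerivedComplete I (Dual.inD A A)) :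
    IsAdicComplete I A := by

    obtain ⟨s, rfl⟩ := hI
    rw [Groth.L04.RGamma.isDerivedComplete_inD_iff] at hc
    refine { toIsHausdorff := ⟨fun x hx => ?_⟩, toIsPrecomplete :=
      Groth.L04.RGamma.isPrecomplete_of_tzMod s fun f hf => hc f (Ideal.subset_span hf) }
    refine IsReduced.eq_zero x ⟨2 ^ s.card, (Submodule.mem_bot A).1
      (Groth.L04.RGamma.iInf_pow_sup_pow_le s ⊥ (fun f hf => ?_) (Ideal.pow_mem_pow ?_ _))⟩
    · exact (Groth.L04.RGamma.TzMod.congr (Submodule.quotEquivOfEqBot (⊥ : Submodule A A) rfl)).2
        (hc f (Ideal.subset_span hf))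
    · refine (Submodule.mem_iInf _).2 fun n => Submodule.mem_sup_left ?_
      simpa [SModEq.zero] using hx n

end Groth.Agent.S7046
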