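import Groth.Statements.S7047
import Groth.Agent.L04.RGamma.CompleteModule

set_option autoImplicit false
set_option backward.defeqAttrib.useBackward true
set_option backward.isDefEq.respectTransparency false
universe u
attribute [local instance] HasDerivedCategory.standard
open DRing

namespace Groth.Agent.S7047

/-- For a commutative ring A and an object K of D(A), the set of elements f of A such that every
morphism from A_f (placed in degree 0) to any shift K[n] vanishes is a radical ideal of A. -/
theorem result {A : Type u} [CommRing A] (K : Dual.D A) :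
    ∃ J : Ideal A, J.IsRadical ∧
      (J : Set A) = {f : A | ∀ n : ℤ, Subsingleton (Dual.inD A (Localization.Away f) ⟶ K⟦n⟧)} := by
  let J : Ideal A := ⨅ i : ℤ, Groth.L04.RGamma.tzIdeal A (Dual.HD A K i)
  have hJ : ∀ f : A, f ∈ J ↔ ∀ n : ℤ, Subsingleton (Dual.inD A (Localization.Away f) ⟶ K⟦n⟧) := fun f =>
    (Submodule.mem_iInf (fun i : ℤ => Groth.L04.RGamma.tzIdeal A (Dual.HD A K i)) (x := f)).trans
      (Groth.L04.RGamma.subsingleton_away_iff_tzMod f K).symm
  refine ⟨J, fun f hf => ?_, Set.ext fun f => hJ f⟩
  obtain ⟨m, hm⟩ := hf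
  rw [hJ]
  intro n
  have hu : IsUnit (algebraMap A (Localization.Away (f ^ (m + 1))) f) := by
    refine isUnit_of_mul_isUnit_left (y := algebraMap A _ (f ^ m)) ?_
    rw [← map_mul, ← pow_succ']
    exact IsLocalization.Away.algebraMap_isUnit (f ^ (m + 1))
  have hu' : IsUnit (algebraMap A (Localization.Away f) (f ^ (m + 1))) := by
    rw [map_pow]; exact (IsLocalization.Away.algebraMap_isUnit f).pow _
  let a : Localization.Away f →ₐ[A] Localization.Away (f ^ (m + 1)) :=
    { IsLocalization.Away.lift f hu with commutes' := fun r => IsLocalization.Away.lift_eq f hu r }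
  let b : Localization.Away (f ^ (m + 1)) →ₐ[A] Localization.Away f :=
    { IsLocalization.Away.lift (f ^ (m + 1)) hu' with
      commutes' := fun r => IsLocalization.Away.lift_eq (f ^ (m + 1)) hu' r }
  let e : Localization.Away f ≃ₐ[A] Localization.Away (f ^ (m + 1)) := AlgEquiv.ofAlgHom a b
    (AlgHom.coe_ringHom_injective (IsLocalization.ringHom_ext (Submonoid.powers (f ^ (m + 1)))
      (RingHom.ext fun r => by simp)))
    (AlgHom.coe_ringHom_injective (IsLocalization.ringHom_ext (Submonoid.powers f)
      (RingHom.ext fun r => by simp)))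
  have := (hJ (f ^ (m + 1))).1 (by rw [pow_succ']; exact J.mul_mem_left f hm) n
  exact (((DerivedCategory.singleFunctor (ModuleCat.{u} A) 0).mapIso e.toLinearEquiv.toModuleIso).homFromEquiv).subsingleton

end Groth.Agent.S7047
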