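import Groth.Statements.S7053
import Groth.Agent.L04.RGamma.CompleteSeparated

set_option autoImplicit false
universe u
attribute [local instance] HasDerivedCategory.standard
open DRing

namespace Groth.Agent.S7053

/-- For a commutative ring A, a finitely generated ideal I and an A-module M which, placed in degree 0
of D(A), is derived complete with respect to I, if IM = M then M = 0. -/
theorem result {A : Type u} [CommRing A] (I : Ideal A) (hI : I.FG)
    (M : Type u) [AddCommGroup M] [Module A M] (hc : DRing.IsDerivedComplete I (Dual.inD A M))
    (h : I • (⊤ : Submodule A M) = ⊤) : Subsingleton M := by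

    rw [Groth.L04.RGamma.isDerivedComplete_inD_iff] at hc
    obtain ⟨s, rfl⟩ := hI
    exact Groth.L04.RGamma.subsingleton_of_span_smul_top_eq_top s M
      (fun f hf => hc f (Ideal.subset_span hf)) h

end Groth.Agent.S7053
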