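import Groth.Statements.S7054
import Groth.Agent.L10.DRing.CompletePC

set_option autoImplicit false
set_option backward.defeqAttrib.useBackward true
set_option backward.isDefEq.respectTransparency false
universe u
attribute [local instance] HasDerivedCategory.standard
open DRing

namespace Groth.Agent.S7054

/-- For a commutative ring A and an ideal I such that A, placed in degree 0, is derived complete with
respect to I, every object of D(A) isomorphic to a bounded above complex of finite free A-modules is
derived complete with respect to I. -/
theorem result {A : Type u} [CommRing A] (I : Ideal A)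
    (hA : DRing.IsDerivedComplete I (Dual.inD A A)) (K : Dual.D A) (hK : DRing.IsPseudoCoherent' A K) :
    DRing.IsDerivedComplete I K := by
  obtain ⟨P, b, -, hP, ⟨e⟩⟩ := hK
  rw [Groth.L04.RGamma.isDerivedComplete_iff]
  intro f hf i
  have hA' := (Groth.L04.RGamma.isDerivedComplete_inD_iff I A).1 hA f hf
  have hH := Groth.L10.CompletePC.tzMod_homology P
    (fun j => haveI := (hP j).1; haveI := (hP j).2; Groth.L10.CompletePC.tzMod_finiteFree hA' (P.X j)) i
  let e' : (DerivedCategory.homologyFunctor (ModuleCat.{u} A) i).obj K ≅ P.homology i := (DerivedCategory.homologyFunctor _ i).mapIso e.symm ≪≫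
    (DerivedCategory.homologyFunctorFactors _ i).app P
  exact (Groth.L04.RGamma.TzMod.congr e'.toLinearEquiv).2 hH

end Groth.Agent.S7054
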