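import Groth.Statements.S7055
import Groth.Agent.L04.RGamma.TensorQuotient

set_option autoImplicit false
universe u
attribute [local instance] HasDerivedCategory.standard
open CategoryTheory
open DRing

namespace Groth.Agent.S7055

/-- For a commutative ring A, a finitely generated ideal I and an object K of D(A) which is derived
complete with respect to I, if K ⊗^L_A A/I vanishes then K vanishes. The derived tensor product with
the module A/I is the total left derived functor, assumed to exist. -/
theorem result {A : Type u} [CommRing A] (I : Ideal A) (hI : I.FG)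
    [DRing.HasLTensor A (ModuleCat.of A (A ⧸ I))]
    (K : Dual.D A) (hc : DRing.IsDerivedComplete I K)
    (h0 : Limits.IsZero ((DRing.LTensor A (ModuleCat.of A (A ⧸ I))).obj K)) : Limits.IsZero K := by

    classical
    obtain ⟨s, rfl⟩ := hI
    haveI := Localization.essSurj (DerivedCategory.Q : DRing.Cx A ⥤ Dual.D A)
      (HomologicalComplex.quasiIso (ModuleCat.{u} A) (ComplexShape.up ℤ))
    obtain ⟨X, q, hX, hXf, hq, -⟩ := Groth.L10.KFlat.exists_resolution
      ((DerivedCategory.Q : DRing.Cx A ⥤ Dual.D A).objPreimage K)
    haveI := Groth.L10.KFlat.isIso_Q_map q hq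
    let e : DerivedCategory.Q.obj X ≅ K := asIso (DerivedCategory.Q.map q) ≪≫ DerivedCategory.Q.objObjPreimageIso K
    refine Limits.IsZero.of_iso (Groth.L04.RGamma.acyclic_of_complete s X hXf (fun f hf n => ?_) (fun N hN i => ?_)) e.symm
    · haveI := hc f hf n
      exact ((Iso.homCongr (Iso.refl _) ((CategoryTheory.shiftFunctor _ n).mapIso e)).injective).subsingleton
    · refine Groth.L04.RGamma.acyclic_lT_of_killed _ hX (h0.of_iso ((DRing.LTensor A _).mapIso
        ((DerivedCategory.quotientCompQhIso _).app X ≪≫ e))) N (fun a ha m => ?_) i
      have hle : Ideal.span (s : Set A) ≤ Module.annihilator A N :=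
        Ideal.span_le.2 fun g hg => Module.mem_annihilator.2 (hN g hg)
      exact Module.mem_annihilator.1 (hle ha) m

end Groth.Agent.S7055
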