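import Groth.Statements.S7057
import Groth.Agent.L04.RGamma.CompleteRestrict

set_option autoImplicit false
universe u
attribute [local instance] HasDerivedCategory.standard
open DRing

namespace Groth.Agent.S7057

/-- For a homomorphism of commutative rings A → B, an ideal I of A and an object L of D(B), L is derived
complete with respect to the extended ideal IB if and only if L viewed in D(A) by restriction of
scalars is derived complete with respect to I. -/
theorem result {A B : Type u} [CommRing A] [CommRing B] (φ : A →+* B)
    (I : Ideal A) (L : Dual.D B) :
    DRing.IsDerivedComplete (I.map φ) L ↔ DRing.IsDerivedComplete I ((DRing.restrictD φ).obj L) := by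

    open Groth.L04.RGamma in
    rw [isDerivedComplete_iff, isDerivedComplete_iff]
    refine ⟨fun h f hf i => (tzMod_restrictD_iff φ f L i).2 (h (φ f) (Ideal.mem_map_of_mem φ hf) i),
      fun h b hb i => ?_⟩
    have : I.map φ ≤ tzIdeal B (Dual.HD B L i) :=
      Ideal.map_le_iff_le_comap.2 fun f hf => (tzMod_restrictD_iff φ f L i).1 (h f hf i)
    exact this hb

end Groth.Agent.S7057
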