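import Groth.Statements.S7058
import Groth.Agent.L04.RGamma.CompleteRestrict

set_option autoImplicit false
universe u
attribute [local instance] HasDerivedCategory.standard
open CategoryTheory
open DRing

namespace Groth.Agent.S7058

/-- Let A be a commutative ring, I a finitely generated ideal, and assume the derived completion functor
(left adjoint to the inclusion of derived complete objects of D(A)) exists. If K is a cochain
complex of A-modules and some f in I acts bijectively on every term of K, then the derived
completion of K is zero. -/
theorem result {A : Type u} [CommRing A] (I : Ideal A) (hI : I.FG)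
    [DRing.HasDerivedCompletion I] (K : DRing.Cx A) (f : A) (hf : f ∈ I)
    (hK : ∀ i : ℤ, Function.Bijective (fun x : K.X i => f • x)) :
    Limits.IsZero ((DRing.derivedCompletion I).obj (DRing.toD K)).obj := by

    open Groth.L04.RGamma CategoryTheory CategoryTheory.Limits in
    let P := (DRing.derivedCompletion I).obj (DRing.toD K)
    have hbij : ∀ i : ℤ, Function.Bijective fun x : Dual.HD A (DRing.toD K) i => f • x := fun i => by
      have h1 : Function.Bijective fun x : K.homology i => f • x := by
        let φ : K ⟶ K := f • 𝟙 K
        haveI : ∀ n, IsIso (φ.f n) := fun n => (ConcreteCategory.isIso_iff_bijective _).2 (hK n)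
        haveI := HomologicalComplex.Hom.isIso_of_components φ
        have hb := Groth.L28.HomElt.bijective_homologyMap_of_quasiIso φ i
        have hφ : ∀ x, HomologicalComplex.homologyMap φ i x = f • x := fun x => by
          obtain ⟨z, rfl⟩ := Groth.L28.HomElt.homologyπ_surjective _ _ x
          rw [Groth.L28.HomElt.homologyMap_π, ← map_smul]
          refine congrArg _ (Groth.L28.HomElt.iCycles_injective _ _ ?_)
          rw [Groth.L28.HomElt.iCycles_cyclesMap, map_smul]
          rfl
        rwa [show ⇑(ConcreteCategory.hom (HomologicalComplex.homologyMap φ i)) = fun x => f • x from funext hφ] at hb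
      let e := ((DerivedCategory.homologyFunctorFactors (ModuleCat.{u} A) i).app K).toLinearEquiv
      have h2 : (fun x : Dual.HD A (DRing.toD K) i => f • x) = e.symm ∘ (fun x => f • x) ∘ e :=
        funext fun x => ((LinearEquiv.symm_apply_eq e).2 (e.map_smul f x).symm).symm
      rw [h2]
      exact e.symm.bijective.comp (h1.comp e.bijective)
    have h0 : DRing.toDerivedCompletion I (DRing.toD K) = 0 :=
      eq_zero_of_bijective_smul (fun n => P.property f hf n) hbij _
    refine (IsZero.iff_id_eq_zero _).2 ?_
    have h1 : (𝟙 P : P ⟶ P) = ObjectProperty.homMk 0 := by
      apply ((DRing.derivedCompletionAdj I).homEquiv _ P).injective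
      rw [(DRing.derivedCompletionAdj I).homEquiv_unit, (DRing.derivedCompletionAdj I).homEquiv_unit]
      exact (Category.comp_id _).trans (h0.trans comp_zero.symm)
    exact congrArg InducedCategory.Hom.hom h1

end Groth.Agent.S7058
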