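import Groth.Statements.S7059
import Groth.Agent.L04.RGamma.CompleteSeriesAction

set_option autoImplicit false
universe u
attribute [local instance] HasDerivedCategory.standard
open DRing

namespace Groth.Agent.S7059

/-- Let A be a Noetherian commutative ring, I an ideal and M an A-module which, placed in degree 0 of
D(A), is derived complete with respect to I. If M/IM is a finite module, then M is I-adically
complete, and M (identified with its I-adic completion) is a finite module over the I-adic
completion of A. -/
theorem result {A : Type u} [CommRing A]
    [IsNoetherianRing A] (I : Ideal A) (M : Type u) [AddCommGroup M] [Module A M]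
    (hc : DRing.IsDerivedComplete I (Dual.inD A M))
    (hf : Module.Finite A (M ⧸ I • (⊤ : Submodule A M))) :
    IsAdicComplete I M ∧ Module.Finite (AdicCompletion I A) (AdicCompletion I M) := by

    rw [Groth.L04.RGamma.isDerivedComplete_inD_iff] at hc
    obtain ⟨s, rfl⟩ := IsNoetherian.noetherian (R := A) I
    have hs : ∀ f ∈ s, Groth.L04.RGamma.TzMod f M := fun f hf => hc f (Ideal.subset_span hf)
    haveI := Groth.L04.RGamma.isPrecomplete_of_tzMod s hs
    haveI := Groth.L04.RGamma.isHausdorff_of_finite_quotient s hs hf
    exact ⟨{}, Groth.L04.RGamma.finite_adicCompletion_of_finite_quotient _ hf⟩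

end Groth.Agent.S7059
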