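import Groth.Statements.S7064
import Groth.Agent.L15.GlueTor

set_option autoImplicit false
universe u
open EtGlue

namespace Groth.Agent.S7064

/-- For a glueing pair (R → R', f) and any R-module M, the group Tor_1^R(R', Coker(M → M_f)) vanishes,
where M_f is the localization of M at the powers of f (Tor computed by resolving the second
argument). -/
theorem result {R R' : Type u} [CommRing R] [CommRing R']
    [Algebra R R'] (f : R) (h : EtGlue.IsGlueingPair R R' f) (M : Type u) [AddCommGroup M] [Module R M] :
    Subsingleton (DRing.Tor R 1 R'
      (LocalizedModule (Submonoid.powers f) M ⧸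
        LinearMap.range (LocalizedModule.mkLinearMap (Submonoid.powers f) M))) := by
  refine Groth.L15.GlueTor.subsingleton_tor (Groth.L15.GlueTor.van_of_torsion h _ fun q => ?_)
  obtain ⟨q, rfl⟩ := Submodule.Quotient.mk_surjective _ q
  induction q using LocalizedModule.induction_on with
  | h m s =>
    obtain ⟨n, hn⟩ := s.2
    refine ⟨n, ?_⟩
    rw [← Submodule.Quotient.mk_smul, Submodule.Quotient.mk_eq_zero]
    refine ⟨m, ?_⟩
    change LocalizedModule.mk m 1 = _
    rw [LocalizedModule.smul'_mk]
    simp only [LocalizedModule.mk_eq]
    exact ⟨1, by simp [Submonoid.smul_def, ← hn]⟩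

end Groth.Agent.S7064
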