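import Groth.Statements.S7073
import Groth.Agent.L29.PerfPC

set_option autoImplicit false
universe u
attribute [local instance] HasDerivedCategory.standard
open Dual2

namespace Groth.Agent.S7073

/-- For a flat homomorphism of finite presentation R → A of commutative rings, every perfect object of
D(A) is R-perfect, i.e. pseudo-coherent over A and of finite tor dimension as a complex of
R-modules. -/
theorem result (R A : Type u) [CommRing R] [CommRing A] [Algebra R A]
    [Module.Flat R A] [Algebra.FinitePresentation R A] (K : Dual.D A) (hK : DRing.IsPerfect A K) :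
    Dual2.IsRelPerfect R A K := by
  refine ⟨Groth.L29.PerfPC.isPseudoCoherent'_of_isPerfect hK, ?_⟩
  obtain ⟨P, a, b, hv, hp, ⟨e⟩⟩ := hK
  let G := ModuleCat.restrictScalars.{u} (algebraMap R A)
  refine ⟨a, b, (G.mapHomologicalComplex _).obj P, fun i hi => G.map_isZero (hv i hi), fun i => ?_,
    ⟨(G.mapDerivedCategoryFactors.app P).symm ≪≫ (DRing.restrictD (algebraMap R A)).mapIso e⟩⟩
  letI : Module R (P.X i) := Module.compHom (P.X i) (algebraMap R A)
  haveI : IsScalarTower R A (P.X i) := IsScalarTower.of_algebraMap_smul fun r x => rfl
  haveI := (hp i).2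
  exact Module.Flat.trans R A (P.X i)

end Groth.Agent.S7073
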