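import Groth.Statements.S7076
import Groth.Agent.L10.DRing.RelPerfOps

set_option autoImplicit false
set_option backward.defeqAttrib.useBackward true
set_option backward.isDefEq.respectTransparency false
universe u
attribute [local instance] HasDerivedCategory.standard
open TensorProduct
open Dual2

namespace Groth.Agent.S7076

/-- Let R' → A' be a flat homomorphism of finite presentation of commutative rings, R' → R a surjective
homomorphism of rings with nilpotent kernel, A = R ⊗_{R'} A', and K' an object of D(A'). If the
derived base change K' ⊗^L_{A'} A (total left derived functor of extension of scalars, assumed to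
exist) is R-perfect in D(A), then K' is R'-perfect in D(A'). -/
theorem result (R' A' R : Type u) [CommRing R'] [CommRing A'] [Algebra R' A']
    [CommRing R] [Algebra R' R] [Module.Flat R' A'] [Algebra.FinitePresentation R' A']
    (hs : Function.Surjective (algebraMap R' R)) (hn : IsNilpotent (RingHom.ker (algebraMap R' R)))
    [DRing.HasLBaseChange (Algebra.TensorProduct.includeRight.toRingHom : A' →+* R ⊗[R'] A')]
    (K' : Dual.D A')
    (hK : Dual2.IsRelPerfect R (R ⊗[R'] A')
      ((DRing.LBaseChange (Algebra.TensorProduct.includeRight.toRingHom : A' →+* R ⊗[R'] A')).obj K')) :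
    Dual2.IsRelPerfect R' A' K' := by
  letI : Algebra A' (R ⊗[R'] A') := Algebra.TensorProduct.rightAlgebra
  haveI : DRing.HasLBaseChange (algebraMap A' (R ⊗[R'] A')) := ‹_›
  refine Groth.L10.RelPerfOps.of_nilpotent (A := R') (A' := R) (S := A') (S' := R ⊗[R'] A') hs hn ?_ ?_ hK
  · exact Algebra.TensorProduct.includeRight_surjective _ hs
  · obtain ⟨c, hc⟩ := hn
    refine ⟨c, le_bot_iff.1 ?_⟩
    have hker : RingHom.ker (algebraMap A' (R ⊗[R'] A')) ≤
        (RingHom.ker (algebraMap R' R)).map (algebraMap R' A') := by
      intro x hx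
      let J := (RingHom.ker (algebraMap R' R)).map (algebraMap R' A')
      let f : R →ₐ[R'] A' ⧸ J :=
        (Ideal.Quotient.liftₐ (RingHom.ker (Algebra.ofId R' R)) (Algebra.ofId R' (A' ⧸ J)) fun r hr =>
          Ideal.Quotient.eq_zero_iff_mem.2 (Ideal.mem_map_of_mem _ hr)).comp
          (Ideal.quotientKerAlgEquivOfSurjective (f := Algebra.ofId R' R) hs).symm.toAlgHom
      let g : R ⊗[R'] A' →ₐ[R'] A' ⧸ J :=
        Algebra.TensorProduct.lift f (Ideal.Quotient.mkₐ R' J) fun _ _ => Commute.all _ _
      have h := congrArg g (show (1 : R) ⊗ₜ[R'] x = 0 from hx)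
      rw [Algebra.TensorProduct.lift_tmul, map_one, one_mul, map_zero] at h
      exact Ideal.Quotient.eq_zero_iff_mem.1 h
    refine (Ideal.pow_right_mono hker c).trans ?_
    rw [← Ideal.map_pow, hc, Ideal.zero_eq_bot, Ideal.map_bot]

end Groth.Agent.S7076
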