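import Groth.Statements.S7084
import Groth.Agent.L10.DRing.LTensorKFlat
import Groth.Agent.L10.DTen.Base

set_option autoImplicit false
universe u
attribute [local instance] HasDerivedCategory.standard
open CategoryTheory
open LocCoh

namespace Groth.Agent.S7084

open CategoryTheory CategoryTheory.Limits

open MonoidalCategory Groth.L10.KFlat Groth.L10.AmpTest in
/-- over any ring a K-flat complex without positive cohomology stays so after tensoring with a module -/
theorem isZero_right_exact {A : Type u} [CommRing A] {Q : DRing.Cx A} (hQ : DRing.IsKFlat A Q)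
    (h : ∀ i : ℤ, 0 < i → IsZero (Q.homology i)) (N : ModuleCat.{u} A) (i : ℤ) (hi : 0 < i) :
    IsZero ((DRing.tensorCx Q N).homology i) := by
  obtain ⟨Q', hQ'b, hQ'f, -, ⟨eQ⟩⟩ := Groth.L02.PC.exists_free_rep (K := DRing.toD Q) (n := 0)
    fun j hj => (Groth.L02.PC.isZero_HH_Q_iff Q j).2 (h j hj)
  let S := (HomologicalComplex.single (ModuleCat.{u} A) (ComplexShape.up ℤ) 0).obj N
  obtain ⟨P, hPb, hPf, -, ⟨eP⟩⟩ := Groth.L02.PC.exists_free_rep (K := DRing.toD S) (n := 0)
    fun j hj => (Groth.L02.PC.isZero_HH_Q_iff S j).2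
      (isZero_homology_of_X (HomologicalComplex.isZero_single_obj_X _ _ _ _ (ne_of_gt hj)))
  have hP : DRing.IsKFlat A P := of_bounded P 0 hPb (Groth.L10.DR.flat_of_free hPf)
  refine (iso_homology (Groth.L10.KFlatLBC.singleTensorIso Q N) i).2 ?_
  refine (test_congr' eP.symm hQ i).2 ((braid_homology P Q i).2 ((test_congr' eQ.symm hP i).2 ?_))
  refine isZero_homology_of_X (isZero_tensor_X _ _ i fun p q hpq => ?_)
  by_cases hp : 0 < p
  · exact Or.inl (hQ'b p hp)
  · exact Or.inr (hPb q (by omega))

open MonoidalCategory in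
theorem isZero_killed {R : Type u} [CommRing R] (I : Ideal R) {C : DRing.Cx R} (hC : DRing.IsKFlat R C)
    (hI : ∀ i : ℤ, 0 < i → IsZero ((DRing.tensorCx C (ModuleCat.of R (R ⧸ I))).homology i))
    (N : Type u) [AddCommGroup N] [Module R N] (hN : Module.IsTorsionBySet R N I) (i : ℤ) (hi : 0 < i) :
    IsZero ((DRing.tensorCx C (ModuleCat.of R N)).homology i) := by
  letI : Module (R ⧸ I) N := hN.module
  let φ := Ideal.Quotient.mk I
  let Q := (_root_.DTen.extCx φ).obj C
  have hQ : ∀ j : ℤ, 0 < j → IsZero (Q.homology j) := fun j hj => by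
    refine (Groth.L00.KFlatAlg.acyclic_restrictScalars φ Q j).1 ?_
    refine (Groth.L10.AmpTest.iso_homology (Groth.L10.LocalAmp.resExtIso φ C ≪≫
      Groth.L10.LocalAmp.tensorResOne φ C) j).2 ?_
    exact Groth.L10.LTensorKFlat.isZero_of_iso
      ((Groth.L10.LocalAmp.resOneEquiv (A := R) (B := R ⧸ I)).toModuleIso) j (hI j hj)
  let N' := ModuleCat.of (R ⧸ I) N
  let e : (ModuleCat.restrictScalars φ).obj N' ≅ ModuleCat.of R N :=
    LinearEquiv.toModuleIso ({ AddEquiv.refl N with map_smul' := fun r x => (hN.mk_smul r x) } :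
      ((ModuleCat.restrictScalars φ).obj N') ≃ₗ[R] N)
  refine Groth.L10.LTensorKFlat.isZero_of_iso e i ?_
  refine (Groth.L10.AmpTest.iso_homology (Groth.L10.KFlatLBC.singleTensorIso C _) i).2 ?_
  refine (Groth.L10.AmpTest.braid_homology _ C i).2 ?_
  refine (Groth.L10.AmpTest.iso_homology (whiskerLeftIso C ((HomologicalComplex.singleMapHomologicalComplex
    (ModuleCat.restrictScalars φ) (ComplexShape.up ℤ) 0).app N').symm ≪≫
    Groth.L00.BaseChangeTensor.tensorIso φ C _) i).2 ?_
  refine (Groth.L00.KFlatAlg.acyclic_restrictScalars φ _ i).2 ?_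
  refine (Groth.L10.AmpTest.braid_homology Q _ i).2 ?_
  exact (Groth.L10.AmpTest.iso_homology (Groth.L10.KFlatLBC.singleTensorIso Q N') i).1
    (isZero_right_exact (Groth.L10.DTen.isKFlat_ext φ hC) hQ N' i hi)

theorem isZero_pow {R : Type u} [CommRing R] (I : Ideal R) {C : DRing.Cx R} (hC : DRing.IsKFlat R C)
    (hflat : DRing.TermwiseFlat C)
    (hI : ∀ i : ℤ, 0 < i → IsZero ((DRing.tensorCx C (ModuleCat.of R (R ⧸ I))).homology i)) (n : ℕ) :
    ∀ (N : Type u) [AddCommGroup N] [Module R N], I ^ n • (⊤ : Submodule R N) = ⊥ →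
      ∀ i : ℤ, 0 < i → IsZero ((DRing.tensorCx C (ModuleCat.of R N)).homology i) := by
  induction n with
  | zero =>
    intro N _ _ hN i hi
    rw [pow_zero, Ideal.one_eq_top, Submodule.top_smul] at hN
    haveI : Subsingleton N := (Submodule.subsingleton_iff R).1 (subsingleton_of_bot_eq_top hN.symm)
    exact isZero_killed I hC hI N (fun x r => Subsingleton.elim _ _) i hi
  | succ n ih =>
    intro N _ _ hN i hi
    let N' : Submodule R N := I • ⊤
    let S : ShortComplex (ModuleCat.{u} R) := ShortComplex.mk (ModuleCat.ofHom N'.subtype)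
      (ModuleCat.ofHom N'.mkQ) (ModuleCat.hom_ext (LinearMap.ext fun x => (Submodule.Quotient.mk_eq_zero N').2 x.2))
    have hS : S.ShortExact :=
      { exact := (ShortComplex.ShortExact.moduleCat_exact_iff_function_exact _).2 (LinearMap.exact_subtype_mkQ N')
        mono_f := ConcreteCategory.mono_of_injective _ Subtype.val_injective
        epi_g := ConcreteCategory.epi_of_surjective _ (Submodule.mkQ_surjective N') }
    obtain ⟨T, hT, e1, e2, e3⟩ := Groth.L10.RelPC.tensor_shortExact hflat hS
    have hex := (Groth.L02.PC.HH i).map_distinguished_exact T hT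
    refine (Groth.L02.PC.isZero_HH_Q_iff (DRing.tensorCx C (ModuleCat.of R N)) i).1 ?_
    have h1 : IsZero ((Groth.L02.PC.HH i).obj T.obj₁) := by
      rw [e1]
      refine (Groth.L02.PC.isZero_HH_Q_iff _ i).2 (ih N' ?_ i hi)
      refine Submodule.map_injective_of_injective N'.injective_subtype ?_
      rw [Submodule.map_smul'', Submodule.map_top, Submodule.range_subtype, Submodule.map_bot,
        ← Submodule.mul_smul, ← pow_succ, hN]
    have h3 : IsZero ((Groth.L02.PC.HH i).obj T.obj₃) := by
      rw [e3]
      exact (Groth.L02.PC.isZero_HH_Q_iff _ i).2 (isZero_killed I hC hI (N ⧸ N')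
        (Module.isTorsionBySet_quotient_ideal_smul N I) i hi)
    have h2 := hex.isZero_X₂ (h1.eq_of_src _ _) (h3.eq_of_tgt _ _)
    rw [← show T.obj₂ = DRing.toD (DRing.tensorCx C (ModuleCat.of R N)) from e2]
    exact h2

/-- Parts (1)–(2) in the case of a module killed by a power of the ideal: let R be a commutative ring, I
an ideal and K an object of D(R) such that K ⊗^L_R R/I has no cohomology in positive degrees. Then
for every R-module N annihilated by some power of I, K ⊗^L_R N has no cohomology in positive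
degrees. (The published statement allows any I-power torsion module N; this row takes N annihilated
by a single power of I, the case the published argument carries out in full, which contains the case
N = R/I^n.) The derived tensor products with modules are total left derived functors, assumed to
exist. -/
theorem result {R : Type u} [CommRing R] (I : Ideal R)
    [DRing.HasLTensor R (ModuleCat.of R (R ⧸ I))] (K : Dual.D R)
    (hK : ∀ i : ℤ, 0 < i → Subsingleton (Dual.HD R ((DRing.LTensor R (ModuleCat.of R (R ⧸ I))).obj K) i))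
    (N : Type u) [AddCommGroup N] [Module R N] (n : ℕ) (hN : I ^ n • (⊤ : Submodule R N) = ⊥)
    [DRing.HasLTensor R (ModuleCat.of R N)] (i : ℤ) (hi : 0 < i) :
    Subsingleton (Dual.HD R ((DRing.LTensor R (ModuleCat.of R N)).obj K) i) := by

    obtain ⟨C, hC, hflat, ⟨eK⟩⟩ := Groth.L10.KFlatLBC.exists_rep_flat K
    have hI : ∀ i : ℤ, 0 < i → IsZero ((DRing.tensorCx C (ModuleCat.of R (R ⧸ I))).homology i) := fun i hi => by
      haveI := hK i hi
      exact (Groth.L10.DR.HH_iso_zero ((Groth.L10.LTensorKFlat.compute (ModuleCat.of R (R ⧸ I)) C hC).symm ≪≫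
        (DRing.LTensor R (ModuleCat.of R (R ⧸ I))).mapIso eK) i).1 (ModuleCat.isZero_of_subsingleton _)
    exact ModuleCat.subsingleton_of_isZero ((Groth.L10.DR.HH_iso_zero
      ((Groth.L10.LTensorKFlat.compute (ModuleCat.of R N) C hC).symm ≪≫
        (DRing.LTensor R (ModuleCat.of R N)).mapIso eK) i).2 (isZero_pow I hC hflat hI n N hN i hi))

end Groth.Agent.S7084
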