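import Groth.Statements.S7085
import Groth.Agent.L04.Torsion

set_option autoImplicit false
universe u
open LocCoh

namespace Groth.Agent.S7085

/-- Let R be a commutative ring, I an ideal generated by finitely many elements f_1, …, f_t, and M an
R-module. Then: M has no nonzero element killed by I if and only if it has no nonzero element killed
by I^n for every n ≥ 1; and M has no nonzero element killed by I if and only if an element of M
vanishing in every localization M_{f_i} is zero. -/
theorem result {R : Type u} [CommRing R] {t : ℕ} (f : Fin t → R)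
    (I : Ideal R) (hI : Ideal.span (Set.range f) = I) (M : Type u) [AddCommGroup M] [Module R M] :
    (LocCoh.torsionBy I M = ⊥ ↔ ∀ n : ℕ, 1 ≤ n → LocCoh.torsionBy (I ^ n) M = ⊥) ∧
    (LocCoh.torsionBy I M = ⊥ ↔
      ∀ m : M, (∀ i : Fin t, LocalizedModule.mkLinearMap (Submonoid.powers (f i)) M m = 0) → m = 0) := by
  subst hI
  refine ⟨⟨fun h n _ => ?_, fun h => by simpa using h 1 le_rfl⟩, ⟨fun h m hm => ?_, fun h => ?_⟩⟩
  · rw [eq_bot_iff]
    exact fun x hx => (Groth.L04.torsionBy_eq_bot_iff_torsionSub.1 h).le ⟨n, Groth.L04.mem_torsionBy.1 hx⟩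
  · exact (Groth.L04.torsionBy_eq_bot_iff_torsionSub.1 h).le ((Groth.L04.mem_torsionSub_span_iff f).2 hm)
  · rw [Groth.L04.torsionBy_eq_bot_iff_torsionSub, eq_bot_iff]
    exact fun x hx => h x ((Groth.L04.mem_torsionSub_span_iff f).1 hx)

end Groth.Agent.S7085
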