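import Groth.Statements.S7087
import Mathlib.RingTheory.Ideal.Span
import Mathlib.LinearAlgebra.Pi

set_option autoImplicit false
universe u
open LocCoh

namespace Groth.Agent.S7087

theorem aux {R : Type u} [CommRing R] {n : ℕ} (f : Fin n → R)
    (a : Fin n → R) (ha : ∑ i, a i * f i = 0) (b : R) (hb : b ∈ Ideal.span (Set.range f))
    (S : Submodule R (Fin n → R))
    (hS : ∀ i j : Fin n, f i • Pi.single j (1 : R) - f j • Pi.single i (1 : R) ∈ S) : b • a ∈ S := by
  refine (Ideal.span_le (I := S.comap (LinearMap.toSpanSingleton R (Fin n → R) a))).2 ?_ hb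
  rintro _ ⟨i, rfl⟩
  have key : f i • a = ∑ j, a j • (f i • Pi.single j (1 : R) - f j • Pi.single i (1 : R)) := by
    ext k
    rw [Finset.sum_apply]
    simp only [Pi.smul_apply, Pi.sub_apply, smul_eq_mul, mul_sub, Finset.sum_sub_distrib,
      Pi.single_apply, mul_ite, mul_one, mul_zero, Finset.sum_ite_eq, Finset.mem_univ, if_true]
    by_cases h : k = i
    · simp [h, ha, mul_comm (a i) (f i)]
    · simp [h, mul_comm]
  show f i • a ∈ S
  rw [key]
  exact Submodule.sum_mem _ fun j _ => Submodule.smul_mem _ _ (hS i j)

/-- Let R be a commutative ring and f_1, …, f_n elements generating an ideal I. Let M be the module with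
generators e_1, …, e_n and relations f_i e_j = f_j e_i. Then e_i ↦ f_i defines a surjection M → I
whose kernel is annihilated by I. Elementwise: if a tuple (a_1, …, a_n) in R^n satisfies Σ a_i f_i =
0, then for every b in I the tuple b • a lies in the submodule of R^n spanned by the vectors f_i e_j
− f_j e_i. -/
theorem result {R : Type u} [CommRing R] {n : ℕ} (f : Fin n → R)
    (a : Fin n → R) (ha : ∑ i, a i * f i = 0) (b : R) (hb : b ∈ Ideal.span (Set.range f)) :
    b • a ∈ Submodule.span R {v : Fin n → R | ∃ i j : Fin n, v = f i • Pi.single j (1 : R) - f j • Pi.single i (1 : R)} := by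
  exact aux f a ha b hb _ fun i j => Submodule.subset_span ⟨i, j, rfl⟩

end Groth.Agent.S7087
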