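import Groth.Statements.S7089
import Mathlib.Algebra.Homology.ShortComplex.ModuleCat
import Mathlib.Algebra.Homology.SingleHomology
import Mathlib.Algebra.Homology.QuasiIso

set_option autoImplicit false
universe u
open CategoryTheory
open LocCoh

namespace Groth.Agent.S7089

section
open CategoryTheory CategoryTheory.Limits

variable {R : Type u} [CommRing R] (I : Ideal R)

theorem exists_cover (S : ModuleCat.{u} R) (hS : LocCoh.IsPowerTorsion I S) :
    ∃ (K : ModuleCat.{u} R) (π : K ⟶ S), Function.Surjective π ∧ LocCoh.IsPowerTorsion I (LinearMap.ker π.hom) ∧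
      ∃ (ι : Type u) (n : ι → ℕ), Nonempty (K ≅ ModuleCat.of R (DirectSum ι fun j => R ⧸ I ^ n j)) := by
  classical
  choose n hn using hS
  let π : (DirectSum S fun j => R ⧸ I ^ n j) →ₗ[R] S := DirectSum.toModule R S S fun j =>
    Submodule.liftQ (I ^ n j) (LinearMap.toSpanSingleton R S j) fun r hr => hn j r hr
  refine ⟨ModuleCat.of R (DirectSum S fun j => R ⧸ I ^ n j), ModuleCat.ofHom π, fun j => ?_, fun x => ?_, S, n, ⟨Iso.refl _⟩⟩
  · refine ⟨DirectSum.lof R S (fun j => R ⧸ I ^ n j) j (Ideal.Quotient.mk _ 1), ?_⟩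
    show π _ = j
    rw [DirectSum.toModule_lof]
    exact one_smul R j
  · obtain ⟨x, hx⟩ := x
    refine ⟨(DFinsupp.support (x : Π₀ j, R ⧸ I ^ n j)).sup n, fun a ha => Subtype.ext ?_⟩
    show a • x = 0
    refine DFinsupp.ext fun j => ?_
    by_cases hj : j ∈ DFinsupp.support (x : Π₀ j, R ⧸ I ^ n j)
    · have := Ideal.pow_le_pow_right (I := I) (Finset.le_sup (f := n) hj) ha
      show a • (x j) = 0
      obtain ⟨y, hy⟩ := Ideal.Quotient.mk_surjective (x j)
      rw [← hy]
      exact Ideal.Quotient.eq_zero_iff_mem.2 (Ideal.mul_mem_right y _ this)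
    · show a • (x j) = 0
      rw [DFinsupp.notMem_support_iff.1 hj, smul_zero]

theorem exists_resolution (M : Type u) [AddCommGroup M] [Module R M] (hM : LocCoh.IsPowerTorsion I M) :
    ∃ (K : ChainComplex (ModuleCat.{u} R) ℕ) (π : K ⟶ (ChainComplex.single₀ (ModuleCat.{u} R)).obj (ModuleCat.of R M)),
      QuasiIso π ∧ ∀ i : ℕ, ∃ (ι : Type u) (n : ι → ℕ),
        Nonempty (K.X i ≅ ModuleCat.of R (DirectSum ι fun j => R ⧸ I ^ n j)) := by
  choose cov p hp hker hiso using exists_cover I
  let S : ℕ → {S : ModuleCat.{u} R // LocCoh.IsPowerTorsion I S} := fun n => Nat.rec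
    (motive := fun _ => {S : ModuleCat.{u} R // LocCoh.IsPowerTorsion I S}) ⟨ModuleCat.of R M, hM⟩
    (fun _ S => ⟨ModuleCat.of R (LinearMap.ker (p S.1 S.2).hom), hker S.1 S.2⟩) n
  let X : ℕ → ModuleCat.{u} R := fun n => cov (S n).1 (S n).2
  let π' : ∀ n, X n ⟶ (S n).1 := fun n => p (S n).1 (S n).2
  let inc : ∀ n, (S (n + 1)).1 ⟶ X n := fun n => ModuleCat.ofHom (LinearMap.ker (π' n).hom).subtype
  have hz : ∀ n, inc n ≫ π' n = 0 := fun n => ModuleCat.hom_ext (LinearMap.ext fun x => x.2)
  let K : ChainComplex (ModuleCat.{u} R) ℕ := ChainComplex.of X (fun n => π' (n + 1) ≫ inc n) (fun n => by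
    rw [Category.assoc, reassoc_of% (hz (n + 1))]
    simp)
  have hd : ∀ n, K.d (n + 1) n = π' (n + 1) ≫ inc n := fun n => (ChainComplex.of_d X (fun n => π' (n + 1) ≫ inc n) n :)
  have hrange : ∀ n (x : X n), π' n x = 0 → ∃ y, K.d (n + 1) n y = x := fun n x hx => by
    obtain ⟨y, hy⟩ := hp _ (S (n + 1)).2 ⟨x, hx⟩
    refine ⟨y, ?_⟩
    rw [hd]
    exact congrArg Subtype.val hy
  refine ⟨K, (ChainComplex.toSingle₀Equiv K (ModuleCat.of R M)).symm ⟨π' 0, by
    rw [hd, Category.assoc, hz 0, comp_zero]⟩, ⟨fun n => ?_⟩, fun i => hiso (S i).1 (S i).2⟩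
  cases n with
  | zero =>
    rw [ChainComplex.quasiIsoAt₀_iff, ShortComplex.quasiIso_iff_of_zeros' _ (by simp; rfl) rfl rfl]
    refine ⟨(ShortComplex.moduleCat_exact_iff _).2 fun x hx => ?_, ?_⟩
    · refine hrange 0 x ?_
      simp at hx
      exact hx
    · rw [ModuleCat.epi_iff_surjective]
      intro y
      obtain ⟨x, hx⟩ := hp _ (S 0).2 y
      refine ⟨x, ?_⟩
      simp
      exact hx
  | succ n =>
    rw [quasiIsoAt_iff_exactAt' (hL := ChainComplex.exactAt_succ_single_obj _ n),
      HomologicalComplex.exactAt_iff' _ (n + 1 + 1) (n + 1) n (by simp) (by simp), ShortComplex.moduleCat_exact_iff]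
    intro x hx
    refine hrange (n + 1) x ?_
    change K.d (n + 1) n x = 0 at hx
    rw [hd] at hx
    exact Subtype.ext hx

end

/-- Let R be a commutative ring, I an ideal and M an R-module in which every element is killed by a
power of I. Then M has a left resolution by modules each of which is a direct sum of copies of R/I^n
for varying n: there are a chain complex K of R-modules, a quasi-isomorphism from K to M placed in
degree 0, and for each i an isomorphism of K_i with such a direct sum. -/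
theorem result {R : Type u} [CommRing R] (I : Ideal R)
    (M : Type u) [AddCommGroup M] [Module R M] (hM : LocCoh.IsPowerTorsion I M) :
    ∃ (K : ChainComplex (ModuleCat.{u} R) ℕ) (π : K ⟶ (ChainComplex.single₀ (ModuleCat.{u} R)).obj (ModuleCat.of R M)),
      QuasiIso π ∧ ∀ i : ℕ, ∃ (ι : Type u) (n : ι → ℕ),
        Nonempty (K.X i ≅ ModuleCat.of R (DirectSum ι fun j => R ⧸ I ^ n j)) := by

    exact exists_resolution I M hM

end Groth.Agent.S7089
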