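import Groth.Statements.S7092
import Groth.Agent.L10.DRing.CompletionTriangle

set_option autoImplicit false
set_option backward.defeqAttrib.useBackward true
set_option backward.isDefEq.respectTransparency false
universe u
attribute [local instance] HasDerivedCategory.standard
open CategoryTheory
open DRing

namespace Groth.Agent.S7092

/-- Let A be a commutative ring, I an ideal generated by a finite set of r elements, and assume the
derived completion functor exists. If a morphism K → L in D(A) induces isomorphisms on cohomology in
degrees ≤ -1 and an injection in degree 0, then the induced morphism of derived completions induces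
isomorphisms on cohomology in degrees ≤ -r-1 and an injection in degree -r. -/
theorem result {A : Type u} [CommRing A] (I : Ideal A) (s : Finset A)
    (hs : Ideal.span (s : Set A) = I) [DRing.HasDerivedCompletion I] {K L : Dual.D A} (φ : K ⟶ L)
    (hiso : ∀ i : ℤ, i ≤ -1 → IsIso ((DerivedCategory.homologyFunctor (ModuleCat.{u} A) i).map φ))
    (hmono : Mono ((DerivedCategory.homologyFunctor (ModuleCat.{u} A) 0).map φ)) :
    (∀ i : ℤ, i ≤ -(s.card : ℤ) - 1 → IsIso ((DerivedCategory.homologyFunctor (ModuleCat.{u} A) i).map
        ((DRing.derivedCompletion I).map φ).hom)) ∧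
      Mono ((DerivedCategory.homologyFunctor (ModuleCat.{u} A) (-(s.card : ℤ))).map
        ((DRing.derivedCompletion I).map φ).hom) := by
  have hfs : Ideal.span {x : A | x ∈ s.toList} = I := by simpa [Finset.mem_toList] using hs
  have hlen : (s.toList.length : ℤ) = s.card := by rw [Finset.length_toList]
  let H := DerivedCategory.homologyFunctor (ModuleCat.{u} A)
  have hK : ∀ j : ℤ, j ≤ -1 → Epi ((H j).map φ) ∧ Mono ((H (j + 1)).map φ) := fun j hj => by
    haveI := hiso j hj
    refine ⟨inferInstance, ?_⟩
    rcases eq_or_lt_of_le hj with rfl | hj
    · exact hmono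
    · haveI := hiso (j + 1) (by omega)
      infer_instance
  have key : ∀ i : ℤ, i ≤ -(s.card : ℤ) - 1 → _ := fun i hi =>
    Groth.L10.CompletionTriangle.homology_map I φ s.toList hfs i (Or.inr fun j hj => hK j (by omega))
  refine ⟨fun i hi => ?_, ?_⟩
  · have h1 := (key i hi).1
    have h2 := (key (i - 1) (by omega)).2
    rw [sub_add_cancel] at h2
    exact isIso_of_mono_of_epi _
  · have h2 := (key (-(s.card : ℤ) - 1) le_rfl).2
    rw [sub_add_cancel] at h2
    exact h2

end Groth.Agent.S7092
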