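import Groth.Statements.S7093
import Groth.Agent.L10.DRing.PCRestrict

set_option autoImplicit false
set_option backward.defeqAttrib.useBackward true
set_option backward.isDefEq.respectTransparency false
universe u
attribute [local instance] HasDerivedCategory.standard
open CategoryTheory CategoryTheory.Limits
open Dual2

namespace Groth.Agent.S7093

/-- For a flat homomorphism of finite presentation R → A of commutative rings, the R-perfect objects of
D(A) (pseudo-coherent over A, finite tor dimension over R) form a strictly full, saturated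
triangulated subcategory: the property is a triangulated object property (contains zero, stable
under shifts and under extensions in distinguished triangles), is closed under isomorphisms, and
passes to direct summands. -/
theorem result (R A : Type u) [CommRing R] [CommRing A] [Algebra R A]
    [Module.Flat R A] [Algebra.FinitePresentation R A] :
    ObjectProperty.IsTriangulated (C := Dual.D A) (fun K => Dual2.IsRelPerfect R A K) ∧
      ObjectProperty.IsClosedUnderIsomorphisms (C := Dual.D A) (fun K => Dual2.IsRelPerfect R A K) ∧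
      ∀ X Y : Dual.D A, Dual2.IsRelPerfect R A (X ⊞ Y) → Dual2.IsRelPerfect R A X ∧ Dual2.IsRelPerfect R A Y := by
  have hsh : ∀ (K : Dual.D A) (n : ℤ), Dual2.IsRelPerfect R A K → Dual2.IsRelPerfect R A (K⟦n⟧) := by
    rintro K n ⟨h1, a, b, h2⟩
    exact ⟨Groth.L02.PC.pc'_of_forall fun m =>
        Groth.L02.PC.pc_shift (Groth.L02.PC.pc_of_pc' h1 (m + n)) n m (by omega),
      a - n, b - n, Groth.L10.DR.amp_of_iso
        (((DRing.restrictD (algebraMap R A)).commShiftIso n).app K).symm (Groth.L10.DR.amp_shift h2 n)⟩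
  have hiso : ∀ {K L : Dual.D A} (e : K ≅ L), Dual2.IsRelPerfect R A K → Dual2.IsRelPerfect R A L := by
    rintro K L e ⟨h1, a, b, h2⟩
    exact ⟨Groth.L02.PC.pc'_of_forall fun m => Groth.L02.PC.pc_of_iso e (Groth.L02.PC.pc_of_pc' h1 m),
      a, b, Groth.L10.DR.amp_of_iso ((DRing.restrictD (algebraMap R A)).mapIso e) h2⟩
  obtain ⟨Z, hZ⟩ := HasZeroObject.zero (C := Dual.D A)
  have hzero : Dual2.IsRelPerfect R A Z :=
    by
    refine ⟨Groth.L02.PC.pc'_of_forall fun m => ?_,
      0, 0, Groth.L10.DR.amp_of_isZero (Functor.map_isZero _ hZ) 0 0⟩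
    let E : DRing.Cx A := { X := fun _ => ModuleCat.of A PUnit, d := fun _ _ => 0 }
    have hE : IsZero E := by
      rw [IsZero.iff_id_eq_zero]
      ext i : 1
      exact (ModuleCat.isZero_of_subsingleton _).eq_of_src _ _
    have hq : IsZero (DRing.toD E) := Functor.map_isZero _ hE
    haveI : IsIso (0 : DRing.toD E ⟶ Z) := ⟨⟨0, hq.eq_of_src _ _, hZ.eq_of_src _ _⟩⟩
    exact ⟨E, 0, 0, 0, fun i _ => ModuleCat.isZero_of_subsingleton _,
      fun i => ⟨(inferInstance : Module.Finite A PUnit), (inferInstance : Module.Free A PUnit)⟩,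
      fun i _ => inferInstance, inferInstance⟩
  haveI : ObjectProperty.IsClosedUnderIsomorphisms (C := Dual.D A) (fun K => Dual2.IsRelPerfect R A K) :=
    ⟨fun e h => hiso e h⟩
  refine ⟨?_, inferInstance, ?_⟩
  · refine { exists_zero := ⟨_, hZ, hzero⟩
             isStableUnderShiftBy := fun n => ⟨fun K h => hsh K n h⟩
             toIsTriangulatedClosed₂ := .mk' ?_ }
    intro T hT h₁ h₃
    obtain ⟨p1, a, b, q1⟩ := h₁
    obtain ⟨p3, a', b', q3⟩ := h₃
    refine ⟨Groth.L02.PC.pc'_of_forall fun m => Groth.L02.PC.pc_second T hT m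
      (Groth.L02.PC.pc_of_pc' p1 _) (Groth.L02.PC.pc_of_pc' p3 _), min a a', max b b', ?_⟩
    exact Groth.L10.DR.amp_second ((DRing.restrictD (algebraMap R A)).mapTriangle.obj T)
      ((DRing.restrictD (algebraMap R A)).map_distinguished T hT)
      (Groth.L10.DR.amp_mono q1 (min_le_left _ _) (le_max_left _ _))
      (Groth.L10.DR.amp_mono q3 (min_le_right _ _) (le_max_right _ _))
  · rintro X Y ⟨h1, a, b, h2⟩
    obtain ⟨hX, hY⟩ := Groth.L10.DR.pc'_biprod X Y h1
    exact ⟨⟨hX, a, b, Groth.L10.DR.amp_retract
        (Retract.map ⟨biprod.inl, biprod.fst, biprod.inl_fst⟩ (DRing.restrictD (algebraMap R A))) h2⟩,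
      hY, a, b, Groth.L10.DR.amp_retract
        (Retract.map ⟨biprod.inr, biprod.snd, biprod.inr_snd⟩ (DRing.restrictD (algebraMap R A))) h2⟩

end Groth.Agent.S7093
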