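import Groth.Statements.S7098
import Groth.Agent.L04.RGamma.CompleteRestrict

set_option autoImplicit false
universe u
attribute [local instance] HasDerivedCategory.standard
open DRing

namespace Groth.Agent.S7098

/-- (1)⇔(2): let A be a commutative ring, f an element of A and K an object of D(A). Then every morphism
A_f[0] → K[n] vanishes for every integer n if and only if every morphism E → K vanishes for every
object E of D(A) obtained by restriction of scalars from D(A_f). -/
theorem result {A : Type u} [CommRing A] (f : A)
    (K : Dual.D A) :
    (∀ n : ℤ, Subsingleton (Dual.inD A (Localization.Away f) ⟶ K⟦n⟧)) ↔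
      ∀ E : Dual.D (Localization.Away f),
        Subsingleton ((DRing.restrictD (algebraMap A (Localization.Away f))).obj E ⟶ K) := by

    open Groth.L04.RGamma CategoryTheory CategoryTheory.Limits in
    let L := Localization.Away f
    let R := ModuleCat.restrictScalars.{u} (algebraMap A L)
    refine ⟨fun h E => subsingleton_of_forall_eq 0 fun a => ?_, fun h n => ?_⟩
    · refine eq_zero_of_bijective_smul h (fun i => ?_) a
      obtain ⟨e, he⟩ := nonempty_HD_restrictD (algebraMap A L) E i
      have hu : IsUnit (algebraMap A L f) := IsLocalization.map_units L (⟨f, 1, pow_one f⟩ : Submonoid.powers f)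
      have h2 : (fun x : Dual.HD A ((DRing.restrictD (algebraMap A L)).obj E) i => f • x) =
          e.symm ∘ (fun y => algebraMap A L f • y) ∘ e :=
        funext fun x => ((AddEquiv.symm_apply_eq e).2 (he f x).symm).symm
      rw [h2]
      exact e.symm.bijective.comp (hu.smul_bijective.comp e.bijective)
    · let eM : (R.obj (ModuleCat.of L L) : Type u) ≃ₗ[A] (ModuleCat.of A L : Type u) :=
      { toFun := id
        invFun := id
        map_add' := fun _ _ => rfl
        map_smul' := fun a x => (Algebra.smul_def a (show L from x)).symm
        left_inv := fun _ => rfl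
        right_inv := fun _ => rfl }
      let M := eM.toModuleIso
      let i : (DRing.restrictD (algebraMap A L)).obj ((Dual.inD L L)⟦-n⟧) ≅ (Dual.inD A L)⟦-n⟧ :=
        (R.mapDerivedCategory.commShiftIso (-n)).app _ ≪≫ (shiftFunctor (Dual.D A) (-n)).mapIso
          ((R.mapDerivedCategorySingleFunctor 0).app (ModuleCat.of L L) ≪≫
            (DerivedCategory.singleFunctor (ModuleCat.{u} A) 0).mapIso M)
      haveI := h ((Dual.inD L L)⟦-n⟧)
      haveI : Subsingleton ((Dual.inD A L)⟦-n⟧ ⟶ K) := i.symm.homFromEquiv.subsingleton
      exact @Equiv.subsingleton _ _ ((shiftEquiv' (Dual.D A) (-n) n (neg_add_cancel n)).toAdjunction.homEquiv (Dual.inD A L) K).symm this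

end Groth.Agent.S7098
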