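import Groth.Statements.S7101
import Groth.Agent.L10.DRing.CompletionFormula

set_option autoImplicit false
set_option backward.defeqAttrib.useBackward true
set_option backward.isDefEq.respectTransparency false
universe u
attribute [local instance] HasDerivedCategory.standard
open CategoryTheory CategoryTheory.Limits
open DRing

namespace Groth.Agent.S7101

/-- Let A be a commutative ring and I a finitely generated ideal; assume the derived completion functor
exists and, for a cochain complex K of A-modules, that RHom_A(K, −) exists as the total right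
derived functor of Hom•(K, −). Then for every L in D(A), with L^ the derived completion of L, the
object RHom_A(K, L^) is the derived completion of RHom_A(K, L) through the map RHom_A(K, L) →
RHom_A(K, L^) induced by the canonical morphism L → L^: RHom_A(K, L^) is derived complete with
respect to I, and every morphism from RHom_A(K, L) to a derived complete object of D(A) factors
uniquely through that map. -/
theorem result {A : Type u} [CommRing A] (I : Ideal A) (hI : I.FG) [DRing.HasDerivedCompletion I]
    (K : DRing.Cx A) [DRing.HasRHomCx K] (L : Dual.D A) :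
    DRing.IsDerivedComplete I ((DRing.RHomCx K).obj ((DRing.derivedCompletion I).obj L).obj) ∧
      ∀ E : Dual.D A, DRing.IsDerivedComplete I E →
        Function.Bijective (fun φ : (DRing.RHomCx K).obj ((DRing.derivedCompletion I).obj L).obj ⟶ E =>
          (DRing.RHomCx K).map (DRing.toDerivedCompletion I L) ≫ φ) := by
  obtain ⟨s, hs⟩ := hI
  have hfs : Ideal.span {x : A | x ∈ s.toList} = I := by simpa [Finset.mem_toList] using hs
  let M := DerivedCategory.Q.objPreimage L
  let J := Groth.L10.KInjRes.res M
  haveI := Groth.L10.RHomCx.isIso_Q_map (Groth.L10.KInjRes.resι M)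
  let eK : DRing.toD J ≅ L :=
    (asIso (DerivedCategory.Q.map (Groth.L10.KInjRes.resι M))).symm ≪≫ DerivedCategory.Q.objObjPreimageIso L
  obtain ⟨e, he⟩ := Groth.L10.CompletionFormula.exists_completion_iso I s.toList hfs J
  haveI := Groth.L10.RHomComp.isKInjective_homCx (Groth.L10.CechTorsion.isKFlat s.toList) J
  let c := e.symm ≪≫ (ObjectProperty.ι (DRing.IsDerivedComplete I)).mapIso ((DRing.derivedCompletion I).mapIso eK)
  have hc : DRing.toDerivedCompletion I L =
      eK.inv ≫ DerivedCategory.Q.map (Groth.L10.CompletionFormula.eta J s.toList) ≫ c.hom := by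
    rw [← he]
    simp only [c, Iso.trans_hom, Iso.symm_hom, Category.assoc, Iso.hom_inv_id_assoc, Functor.mapIso_hom]
    rw [Iso.eq_inv_comp]
    exact (DRing.derivedCompletionAdj I).unit.naturality eK.hom
  have hnat := ((DRing.homCxQ K).totalRightDerivedUnit DerivedCategory.Q
    (HomologicalComplex.quasiIso (ModuleCat.{u} A) (ComplexShape.up ℤ))).naturality
      (Groth.L10.CompletionFormula.eta J s.toList)
  haveI := Groth.L10.RHomCx.isIso_unit K J
  haveI := Groth.L10.RHomCx.isIso_unit K (Groth.L10.CompletionFormula.C s.toList J)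
  have hmap : (DRing.RHomCx K).map (DRing.toDerivedCompletion I L) =
      (DRing.RHomCx K).map eK.inv ≫ inv (Groth.L10.RHomCx.unit K J) ≫
        (DRing.homCxQ K).map (Groth.L10.CompletionFormula.eta J s.toList) ≫
        Groth.L10.RHomCx.unit K (Groth.L10.CompletionFormula.C s.toList J) ≫ (DRing.RHomCx K).map c.hom := by
    rw [hc, Functor.map_comp, Functor.map_comp]
    refine congrArg (fun k => (DRing.RHomCx K).map eK.inv ≫ k) ?_
    rw [IsIso.eq_inv_comp]
    exact ((reassoc_of% hnat) _).symm
  refine ⟨?_, fun E hE => ?_⟩
  · let K' := (Groth.L10.KFlat.R A).obj K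
    let r := (Groth.L10.KFlat.r A).app K
    haveI := Groth.L10.RHomComp.isKInjective_homCx (Groth.L10.KFlat.isKFlat_R K) J
    haveI := Groth.L10.RHomCx.quasiIso_homCxPre r (Groth.L10.CompletionFormula.C s.toList J)
    haveI := Groth.L10.RHomCx.isIso_Q_map (Groth.L10.RHomCx.homCxPre r (Groth.L10.CompletionFormula.C s.toList J))
    haveI := Groth.L10.RHomCx.quasiIso_homCxPre
      (DTen.braidCx (DerCA.extCech (ModuleCat.of A A) s.toList) K').hom J
    haveI := Groth.L10.RHomCx.isIso_Q_map (Groth.L10.RHomCx.homCxPre
      (DTen.braidCx (DerCA.extCech (ModuleCat.of A A) s.toList) K').hom J)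
    refine Groth.L10.CompletionFormula.isComplete_of_iso I ?_
      (Groth.L10.CompletionFormula.isComplete I s.toList hfs.ge (DRing.homCx K' J))
    exact DerivedCategory.Q.mapIso (Groth.L10.HomTensor.iso _ K' J) ≪≫
      (asIso (DerivedCategory.Q.map (Groth.L10.RHomCx.homCxPre
        (DTen.braidCx (DerCA.extCech (ModuleCat.of A A) s.toList) K').hom J))).symm ≪≫
      DerivedCategory.Q.mapIso (Groth.L10.HomTensor.iso K' _ J).symm ≪≫
      (asIso (DerivedCategory.Q.map (Groth.L10.RHomCx.homCxPre r (Groth.L10.CompletionFormula.C s.toList J)))).symm ≪≫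
      Groth.L10.RHomCx.computeInj K _ ≪≫ (DRing.RHomCx K).mapIso c
  · have hsub : ∀ x ∈ s.toList, x ∈ I := fun x hx => hfs ▸ Ideal.subset_span hx
    have h := Groth.L10.CompletionFormula.Cbij.comp I
      (Groth.L10.CompletionFormula.cbij_iso I ((DRing.RHomCx K).map eK.inv ≫ inv (Groth.L10.RHomCx.unit K J)))
      (Groth.L10.CompletionFormula.Cbij.comp I
        (Groth.L10.CompletionFormula.cbij_post_eta I K J s.toList hsub)
        (Groth.L10.CompletionFormula.cbij_iso I (Groth.L10.RHomCx.unit K (Groth.L10.CompletionFormula.C s.toList J) ≫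
          (DRing.RHomCx K).map c.hom))) E hE
    rw [hmap]
    simp only [Category.assoc] at h ⊢
    exact h

end Groth.Agent.S7101
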