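import Groth.Statements.S7103
import Groth.Agent.L10.DRing.CompletionTensor

set_option autoImplicit false
set_option backward.defeqAttrib.useBackward true
set_option backward.isDefEq.respectTransparency false
universe u
attribute [local instance] HasDerivedCategory.standard
open CategoryTheory
open DRing

namespace Groth.Agent.S7103

/-- Let A be a Noetherian commutative ring and I an ideal; assume the derived completion functor exists.
Let F be a bounded above cochain complex of finite free A-modules (a pseudo-coherent object) for
which − ⊗^L_A F exists, and K an object of D(A) whose cohomology is bounded above. Then K^∧ ⊗^L_A F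
is the derived completion of K ⊗^L_A F through the map K ⊗^L_A F → K^∧ ⊗^L_A F induced by the
canonical morphism K → K^∧ to the derived completion K^∧ of K: the object K^∧ ⊗^L_A F is derived
complete with respect to I, and every morphism from K ⊗^L_A F to a derived complete object of D(A)
factors uniquely through that map. -/
theorem result {A : Type u} [CommRing A] [IsNoetherianRing A] (I : Ideal A)
    [DRing.HasDerivedCompletion I] (F : DRing.Cx A) (c : ℤ) (hFc : DRing.VanishesAbove F c)
    (hFf : DRing.TermwiseFiniteFree F) [DRing.HasLTensorCx A F]
    (K : Dual.D A) (b : ℤ) (hK : ∀ i : ℤ, b < i → Subsingleton (Dual.HD A K i)) :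
    DRing.IsDerivedComplete I ((DRing.LTensorCx A F).obj ((DRing.derivedCompletion I).obj K).obj) ∧
      ∀ E : Dual.D A, DRing.IsDerivedComplete I E →
        Function.Bijective (fun φ : (DRing.LTensorCx A F).obj ((DRing.derivedCompletion I).obj K).obj ⟶ E =>
          (DRing.LTensorCx A F).map (DRing.toDerivedCompletion I K) ≫ φ) := by
  have hI : I.FG := (isNoetherianRing_iff_ideal_fg A).1 inferInstance I
  have hF : DRing.IsKFlat A F := Groth.L10.KFlat.of_bounded F c hFc
    (Groth.L10.DR.flat_of_free fun i => (hFf i).2)
  refine ⟨?_, Groth.L10.CompletionTensor.cbij_map hF hI _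
    (Groth.L10.CompletionFormula.cbij_toDerivedCompletion I K)⟩
  obtain ⟨Y, b', hYb, hYf, hY, ⟨e⟩⟩ := Groth.L10.CompletionTensor.completion_rep (I := I) K b hK
  exact Groth.L10.CompletionFormula.isComplete_of_iso I
    (DerivedCategory.Q.mapIso (_root_.DTen.braidCx Y F) ≪≫
      ((Groth.L10.CompletionTensor.compIso hF).app Y).symm ≪≫ (DRing.LTensorCx A F).mapIso e)
    (Groth.L10.CompletionTensor.isComplete_tensor hYb hYf hY hFc hFf)

end Groth.Agent.S7103
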