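import Groth.Statements.S7108
import Groth.Agent.L03.Swindle
import Mathlib.LinearAlgebra.Projection

set_option autoImplicit false
universe u
open CAlg

namespace Groth.Agent.S7108

/-- Every projective module P over a ring R becomes free after adding a suitable free module: P ⊕ F is
free for some free module F (here F is the free module on some index type). -/
theorem result (R : Type u) [CommRing R] (P : Type u) [AddCommGroup P]
    [Module R P] [Module.Projective R P] : ∃ ι : Type u, Module.Free R (P × (ι →₀ R)) := by
  obtain ⟨s, hs⟩ := Module.Projective.out (R := R) (P := P)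
  have hp : IsCompl (LinearMap.range s) (LinearMap.ker (Finsupp.linearCombination R (id : P → P))) := by
    exact Groth.L03.Swindle.isCompl_range_ker hs
  let e : (P × LinearMap.ker (Finsupp.linearCombination R (id : P → P))) ≃ₗ[R] (P →₀ R) :=
    ((LinearEquiv.ofInjective s hs.injective).prodCongr (LinearEquiv.refl R _)).trans
      (Submodule.prodEquivOfIsCompl _ _ hp)
  exact ⟨P × ℕ, Module.Free.of_equiv (Groth.L03.Swindle.equiv'' (Q := ↥(LinearMap.ker (Finsupp.linearCombination R (id : P → P)))) e).symm⟩

end Groth.Agent.S7108
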