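import Groth.Statements.S7109
import Groth.Agent.L03.Swindle
import Mathlib.LinearAlgebra.Projection
import Mathlib.LinearAlgebra.StdBasis
import Mathlib.RingTheory.Finiteness.Basic
import Mathlib.LinearAlgebra.FreeModule.Basic
import Mathlib.LinearAlgebra.Finsupp.Pi

set_option autoImplicit false
universe u
open CAlg

namespace Groth.Agent.S7109

/-- Let P be a projective module over a ring R and s an element of P. Then there are a finite free
module R^n and a direct summand K of R^n ⊕ P which is finite free and contains (0, s). -/
theorem result (R : Type u) [CommRing R] (P : Type u) [AddCommGroup P]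
    [Module R P] [Module.Projective R P] (s : P) :
    ∃ (n : ℕ) (K K' : Submodule R ((Fin n → R) × P)), IsCompl K K' ∧ Module.Free R K ∧ Module.Finite R K ∧
      ((0, s) : (Fin n → R) × P) ∈ K := by
  classical
  obtain ⟨sec, hsec⟩ := Module.Projective.out (R := R) (P := P)
  let t := (sec s).support
  let n := t.card
  let i : (Fin n → R) →ₗ[R] P :=
    Fintype.linearCombination R (fun j => ((t.equivFin.symm j : t) : P))
  let p : P →ₗ[R] (Fin n → R) :=
    LinearMap.pi fun j => (Finsupp.lapply ((t.equivFin.symm j : t) : P)) ∘ₗ sec
  have his : i (p s) = s := by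
    conv_rhs => rw [← hsec s, Finsupp.linearCombination_apply, Finsupp.sum, ← Finset.sum_coe_sort]
    simp only [i, p, Fintype.linearCombination_apply, LinearMap.pi_apply, LinearMap.comp_apply, Finsupp.lapply_apply, id]
    exact Fintype.sum_equiv t.equivFin.symm _ _ (fun j => rfl)
  let h : (Fin n → R) →ₗ[R] (Fin n → R) × P := (LinearMap.id - p ∘ₗ i).prod i
  let r : (Fin n → R) × P →ₗ[R] (Fin n → R) := LinearMap.fst R _ _ + p ∘ₗ LinearMap.snd R _ _
  have hrh : Function.LeftInverse r h := fun x => by simp [r, h]
  refine ⟨n, LinearMap.range h, LinearMap.ker r, Groth.L03.Swindle.isCompl_range_ker hrh,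
    Module.Free.of_equiv (LinearEquiv.ofInjective h hrh.injective),
    Module.Finite.range h, p s, ?_⟩
  simp [h, his]

end Groth.Agent.S7109
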