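import Groth.Statements.S7111
import Groth.Agent.L03.Bass
import Mathlib.Algebra.Module.StablyFree.Basic
import Mathlib.LinearAlgebra.Projection

set_option autoImplicit false
universe u
open CAlg

namespace Groth.Agent.S7111

/-- Let R be a ring whose quotient by its Jacobson radical is Noetherian and P a projective R-module
such that for every maximal ideal m the localization P_m is not finitely generated over R_m (P has
infinite rank everywhere). Then every element s of P lies in a direct summand of P which is a finite
stably free module. -/
theorem result (R : Type u) [CommRing R]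
    [IsNoetherianRing (R ⧸ (⊥ : Ideal R).jacobson)]
    (P : Type u) [AddCommGroup P] [Module R P] [Module.Projective R P]
    (hP : ∀ (m : Ideal R) [m.IsMaximal],
      ¬ Module.Finite (Localization.AtPrime m) (LocalizedModule m.primeCompl P))
    (s : P) :
    ∃ (K K' : Submodule R P), IsCompl K K' ∧ Module.Finite R K ∧ Module.IsStablyFree R K ∧ s ∈ K := by
  obtain ⟨n, e, r, hre, hs⟩ := Groth.L03.Bass.exists_free_summand_mem
    (Groth.L03.Bass.infRank_of_localization hP) s
  have hr : ∀ c, r (e c) = c := fun c => LinearMap.congr_fun hre c
  have hfree : Module.Free R (LinearMap.range e) :=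
    Module.Free.of_equiv (LinearEquiv.ofInjective e (Function.LeftInverse.injective hr))
  refine ⟨LinearMap.range e, LinearMap.ker r, ⟨?_, ?_⟩, inferInstance, inferInstance, hs⟩
  · rw [Submodule.disjoint_def]
    rintro _ ⟨c, rfl⟩ hc
    rw [LinearMap.mem_ker, hr] at hc
    rw [hc, map_zero]
  · rw [codisjoint_iff, eq_top_iff]
    intro p _
    exact Submodule.mem_sup.2 ⟨_, LinearMap.mem_range_self e (r p), p - e (r p), by simp [hr], by abel⟩

end Groth.Agent.S7111
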