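import Groth.Statements.S7114
import Mathlib.RingTheory.OrderOfVanishing.Basic

set_option autoImplicit false
universe u
open CAlg

namespace Groth.Agent.S7114

/-- Let R be a Noetherian local ring of Krull dimension one and x an element of the maximal ideal lying
in no minimal prime of R. Then for every n the length of R/xⁿR is at most n times the length of
R/xR, and equality holds when x is a nonzerodivisor. -/
theorem result (R : Type u) [CommRing R] [IsNoetherianRing R] [IsLocalRing R]
    (hdim : ringKrullDim R = 1) (x : R) (hx : x ∈ IsLocalRing.maximalIdeal R)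
    (hmin : ∀ p ∈ minimalPrimes R, x ∉ p) (n : ℕ) :
    Module.length R (R ⧸ Ideal.span {x ^ n}) ≤ (n : ℕ∞) * Module.length R (R ⧸ Ideal.span {x}) ∧
      (x ∈ nonZeroDivisors R →
        Module.length R (R ⧸ Ideal.span {x ^ n}) = (n : ℕ∞) * Module.length R (R ⧸ Ideal.span {x})) := by
  refine ⟨?_, fun hx' => ?_⟩
  · induction n with
    | zero =>
      rw [pow_zero, Ideal.span_singleton_one, Nat.cast_zero, zero_mul]
      exact (Module.length_eq_zero).le
    | succ k ih =>
      let f : (R ⧸ Ideal.span {x}) →ₗ[R] R ⧸ Ideal.span {x ^ (k + 1)} :=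
        Submodule.mapQ (Ideal.span {x}) (Ideal.span {x ^ (k + 1)}) (LinearMap.mulLeft R (x ^ k))
          (by
            intro y hy
            obtain ⟨z, rfl⟩ := Ideal.mem_span_singleton'.1 hy
            exact Ideal.mem_span_singleton'.2 ⟨z, by simp [LinearMap.mulLeft_apply, pow_succ]; ring⟩)
      have hle : Ideal.span {x ^ (k + 1)} ≤ Ideal.span {x ^ k} :=
        Ideal.span_singleton_le_span_singleton.2 (pow_dvd_pow x (Nat.le_succ k))
      let g : (R ⧸ Ideal.span {x ^ (k + 1)}) →ₗ[R] R ⧸ Ideal.span {x ^ k} := Submodule.factor hle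
      have hex : Function.Exact (LinearMap.range f).subtype g := by
        rw [LinearMap.exact_iff, Submodule.range_subtype]
        refine le_antisymm (fun y hy => ?_) ?_
        · obtain ⟨y, rfl⟩ := Submodule.mkQ_surjective _ y
          have : y ∈ Ideal.span {x ^ k} := (Submodule.Quotient.mk_eq_zero _).1 hy
          obtain ⟨z, rfl⟩ := Ideal.mem_span_singleton'.1 this
          exact ⟨Submodule.Quotient.mk z, congrArg Submodule.Quotient.mk (mul_comm _ _)⟩
        · rintro _ ⟨y, rfl⟩
          obtain ⟨y, rfl⟩ := Submodule.mkQ_surjective _ y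
          exact (Submodule.Quotient.mk_eq_zero _).2 (Ideal.mem_span_singleton'.2 ⟨y, mul_comm _ _⟩)
      rw [Module.length_eq_add_of_exact _ g (Submodule.injective_subtype _)
        (Submodule.factor_surjective hle) hex, Nat.cast_succ, add_mul, one_mul, add_comm ((k : ℕ∞) * _)]
      exact add_le_add (Module.length_le_of_surjective f.rangeRestrict f.surjective_rangeRestrict) ih
  · have := Ring.ord_pow (R := R) hx' n
    rw [nsmul_eq_mul] at this
    exact this

end Groth.Agent.S7114
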