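import Groth.Statements.S7115
import Groth.Agent.L03.Sop
-- import your own Groth.Agent.* helpers here

set_option autoImplicit false
universe u
open CAlg

namespace Groth.Agent.S7115

/-- Let R be a Noetherian local ring of Krull dimension d > 1 with maximal ideal m, let f be an element
of m contained in no minimal prime, and let k be a natural number. Then there are elements g_1, ...,
g_{d-1} of m lying in m^k such that f, g_1, ..., g_{d-1} form a system of parameters: these d
elements of m generate an ideal whose radical is m. -/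
theorem result (R : Type u) [CommRing R] [IsNoetherianRing R] [IsLocalRing R]
    (d : ℕ) (hd : ringKrullDim R = d) (h1 : 1 < d) (f : R) (hf : f ∈ IsLocalRing.maximalIdeal R)
    (hmin : ∀ p ∈ minimalPrimes R, f ∉ p) (k : ℕ) :
    ∃ g : Fin (d - 1) → R, (∀ i, g i ∈ IsLocalRing.maximalIdeal R ^ k) ∧ (∀ i, g i ∈ IsLocalRing.maximalIdeal R) ∧
      IsLocalRing.maximalIdeal R ≤ (Ideal.span (insert f (Set.range g))).radical := by
  obtain ⟨g, N, hg, hN⟩ := Groth.L03.Sop.exists_sop_insert hd hf hmin
  refine ⟨fun i => g i ^ (k + 1), fun i => Ideal.pow_le_pow_right k.le_succ (Ideal.pow_mem_pow (hg i) _),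
    fun i => Ideal.pow_mem_of_mem _ (hg i) _ k.succ_pos, fun x hx => ?_⟩
  have h : Ideal.span (insert f (Set.range g)) ≤
      (Ideal.span (insert f (Set.range fun i => g i ^ (k + 1)))).radical := by
    refine Ideal.span_le.2 ?_
    rintro y (rfl | ⟨i, rfl⟩)
    · exact Ideal.le_radical (Ideal.subset_span (Set.mem_insert _ _))
    · exact ⟨k + 1, Ideal.subset_span (Set.mem_insert_of_mem _ ⟨i, rfl⟩)⟩
  exact (Ideal.radical_isRadical _) ⟨N, h (hN (Ideal.pow_mem_pow hx N))⟩

end Groth.Agent.S7115
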