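import Groth.Statements.S7120
import Groth.Agent.L03.Lattice
import Groth.Agent.L03.BezoutFree
import Mathlib.RingTheory.Flat.TorsionFree
import Mathlib.Algebra.Module.Torsion.Free

set_option autoImplicit false
universe u
open CAlg

namespace Groth.Agent.S7120

/-- Over a Bézout domain, a finitely generated submodule of a free module is itself free of finite rank. -/
theorem result (R : Type u) [CommRing R] [IsDomain R] [IsBezout R]
    (F : Type u) [AddCommGroup F] [Module R F] [Module.Free R F] (N : Submodule R F) (hN : N.FG) :
    Module.Free R N ∧ Module.Finite R N := by
  haveI : Module.Finite R N := Module.Finite.iff_fg.2 hN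
  haveI : Module.IsTorsionFree R F := inferInstance
  haveI : Module.IsTorsionFree R N := Function.Injective.moduleIsTorsionFree N.subtype Subtype.val_injective (map_smul _)
  obtain ⟨n, f, g, c, hc, hgf, -⟩ := Groth.L03.Lattice.exists_free_comp (R := R) N
  exact ⟨Groth.L03.BezoutFree.free_of_injective f (Groth.L03.Lattice.injective_of_comp f g hc hgf), inferInstance⟩

end Groth.Agent.S7120
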