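import Groth.Statements.S7121
import Groth.Agent.L03.BezoutFP

set_option autoImplicit false
universe u
open CAlg

namespace Groth.Agent.S7121

/-- Over a Bézout domain R, a finitely presented module M splits as R^r ⊕ M_tors for some r, and its
torsion part M_tors is a retract (direct summand) of R/f_1R ⊕ … ⊕ R/f_nR for some nonzero f_1, …,
f_n. -/
theorem result (R : Type u) [CommRing R] [IsDomain R] [IsBezout R]
    (M : Type u) [AddCommGroup M] [Module R M] [Module.FinitePresentation R M] :
    (∃ r : ℕ, Nonempty (M ≃ₗ[R] ((Fin r → R) × Submodule.torsion R M))) ∧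
      ∃ (n : ℕ) (f : Fin n → R), (∀ j, f j ≠ 0) ∧
        ∃ (i : Submodule.torsion R M →ₗ[R] ((j : Fin n) → R ⧸ Ideal.span {f j}))
          (p : ((j : Fin n) → R ⧸ Ideal.span {f j}) →ₗ[R] Submodule.torsion R M),
          p ∘ₗ i = LinearMap.id := by
  classical
  have : Module.IsTorsionFree R (M ⧸ Submodule.torsion R M) :=
    Submodule.isTorsionFree_iff_torsion_eq_bot.mpr Submodule.QuotientTorsion.torsion_eq_bot
  obtain ⟨N, emb, hemb⟩ := Groth.L03.Reflexive.exists_embedding (R := R) (M ⧸ Submodule.torsion R M)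
  have : Module.Free R (M ⧸ Submodule.torsion R M) := Groth.L03.BezoutFree.free_of_injective emb hemb
  obtain ⟨sec, hsec⟩ := Module.projective_lifting_property (Submodule.torsion R M).mkQ LinearMap.id
    (Submodule.mkQ_surjective _)
  let b := Module.Free.chooseBasis R (M ⧸ Submodule.torsion R M)
  have hex : Function.Exact (Submodule.torsion R M).subtype (Submodule.torsion R M).mkQ := by
    rw [LinearMap.exact_iff, Submodule.range_subtype, Submodule.ker_mkQ]
  obtain ⟨e, he1, he2⟩ := hex.splitSurjectiveEquiv (Submodule.injective_subtype _) ⟨sec, hsec⟩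
  refine ⟨⟨Fintype.card (Module.Free.ChooseBasisIndex R (M ⧸ Submodule.torsion R M)),
    ⟨(e.trans (LinearEquiv.prodComm R _ _)).trans
      (LinearEquiv.prodCongr (b.reindex (Fintype.equivFin _)).equivFun (LinearEquiv.refl R _))⟩⟩, ?_⟩
  have : Module.FinitePresentation R (Submodule.torsion R M) := by
    refine Module.finitePresentation_of_surjective ((LinearMap.fst R _ _) ∘ₗ e.toLinearMap)
      (Prod.fst_surjective.comp e.surjective) ?_
    have hk : LinearMap.ker ((LinearMap.fst R _ _) ∘ₗ e.toLinearMap) =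
        LinearMap.range (e.symm.toLinearMap ∘ₗ LinearMap.inr R (Submodule.torsion R M) _) := by
      ext x
      constructor
      · intro hx
        exact ⟨(e x).2, by
          apply e.injective
          simpa [Prod.ext_iff] using (LinearMap.mem_ker.1 hx).symm⟩
      · rintro ⟨y, rfl⟩
        simp
    rw [hk]
    exact Module.Finite.iff_fg.1 inferInstance
  obtain ⟨ι, _, f, i, p, hip⟩ := Groth.L03.BezoutFP.factor_id (R := R) (Submodule.torsion R M)
  -- torsion maps to free cyclic factors vanish
  have hi0 : ∀ j, f j = 0 → ∀ t, i t j = 0 := by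
    intro j hj t
    obtain ⟨⟨c, hc⟩, hct⟩ := t.2
    have h0 : c • t = 0 := Subtype.ext (by simpa [Submonoid.smul_def] using hct)
    have h1 : c • i t j = 0 := by rw [← Pi.smul_apply, ← map_smul, h0]; simp
    obtain ⟨x, hx⟩ := Submodule.Quotient.mk_surjective _ (i t j)
    rw [← hx, ← Submodule.Quotient.mk_smul, Submodule.Quotient.mk_eq_zero,
      Ideal.mem_span_singleton, hj, zero_dvd_iff, smul_eq_mul, mul_eq_zero] at h1
    rw [← hx, h1.resolve_left (nonZeroDivisors.ne_zero hc), Submodule.Quotient.mk_zero]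
  let f' : ι → R := fun j => if f j = 0 then 1 else f j
  let q : ∀ j, (R ⧸ Ideal.span {f j}) →ₗ[R] R ⧸ Ideal.span {f' j} := fun j =>
    Submodule.mapQ _ _ LinearMap.id (by
      by_cases h : f j = 0
      · intro x hx
        simp [f', h]
      · simp [f', h])
  let q' : ∀ j, (R ⧸ Ideal.span {f' j}) →ₗ[R] R ⧸ Ideal.span {f j} := fun j =>
    if h : f j = 0 then 0 else Submodule.mapQ _ _ LinearMap.id (by simp [f', h])
  have hqq : ∀ t j, q' j (q j (i t j)) = i t j := by
    intro t j
    by_cases h : f j = 0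
    · simp [q', h, hi0 j h t]
    · obtain ⟨x, hx⟩ := Submodule.Quotient.mk_surjective _ (i t j)
      rw [← hx]
      simp [q, q', h]
  let er := Fintype.equivFin ι
  refine ⟨Fintype.card ι, fun j => f' (er.symm j), fun j => by
      by_cases h : f (er.symm j) = 0 <;> simp [f', h],
    LinearMap.pi (fun j => q (er.symm j) ∘ₗ LinearMap.proj (er.symm j) ∘ₗ i),
    p ∘ₗ LinearMap.pi (fun a => q' a ∘ₗ
      (Submodule.quotEquivOfEq _ _ (by simp)).toLinearMap ∘ₗ
      LinearMap.proj (er a)), ?_⟩
  refine LinearMap.ext fun t => ?_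
  have key : ∀ a a' (h : a = a') (h' : Ideal.span {f' a} = Ideal.span {f' a'}),
      Submodule.quotEquivOfEq _ _ h' (q a (i t a)) = q a' (i t a') := by
    rintro a _ rfl h'
    obtain ⟨x, hx⟩ := Submodule.Quotient.mk_surjective _ (q a (i t a))
    rw [← hx]
    rfl
  conv_rhs => rw [← hip]
  simp only [LinearMap.comp_apply]
  congr 1
  funext a
  simp only [LinearMap.pi_apply, LinearMap.comp_apply, LinearMap.coe_proj, Function.eval,
    LinearEquiv.coe_coe]
  rw [key _ _ (Equiv.symm_apply_apply er a), hqq]

end Groth.Agent.S7121
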