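import Groth.Statements.S7122
import Groth.Agent.L03.BezoutFree
import Mathlib.LinearAlgebra.Dimension.Constructions
import Mathlib.LinearAlgebra.Dimension.Free
import Mathlib.LinearAlgebra.Matrix.NonsingularInverse
import Mathlib.Algebra.BigOperators.Fin
import Mathlib.LinearAlgebra.FreeModule.StrongRankCondition

set_option autoImplicit false
universe u
open CAlg

namespace Groth.Agent.S7122

/-- Let R be a Bézout domain, n ≥ 1, and f_1, ..., f_n elements generating the unit ideal. Then some
invertible n × n matrix over R has (f_1, ..., f_n) as its first row. -/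
theorem result (R : Type u) [CommRing R] [IsDomain R] [IsBezout R]
    (n : ℕ) (f : Fin (n + 1) → R) (hf : Ideal.span (Set.range f) = ⊤) :
    ∃ A : Matrix (Fin (n + 1)) (Fin (n + 1)) R, IsUnit A.det ∧ A 0 = f := by
  classical
  obtain ⟨g, hg⟩ := (Ideal.mem_span_range_iff_exists_fun).1 (hf ▸ Submodule.mem_top (x := (1 : R)))
  let φ : (Fin (n + 1) → R) →ₗ[R] R := Fintype.linearCombination R g
  let σ : R →ₗ[R] (Fin (n + 1) → R) := LinearMap.toSpanSingleton R _ f
  have hφσ : φ ∘ₗ σ = LinearMap.id := by
    refine LinearMap.ext_ring ?_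
    simp only [φ, σ, LinearMap.comp_apply, LinearMap.toSpanSingleton_apply, one_smul,
      Fintype.linearCombination_apply, smul_eq_mul, LinearMap.id_apply]
    rw [← hg]
    exact Finset.sum_congr rfl fun i _ => mul_comm _ _
  obtain ⟨e, he, -⟩ := (LinearMap.exact_subtype_ker_map φ).splitSurjectiveEquiv Subtype.val_injective ⟨σ, hφσ⟩
  haveI : Module.Finite R (LinearMap.ker φ) :=
    Module.Finite.of_surjective (LinearMap.fst R _ _ ∘ₗ e.toLinearMap) (fun x => by
      obtain ⟨y, hy⟩ := e.surjective (x, 0)
      exact ⟨y, by simp [hy]⟩)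
  haveI := Groth.L03.BezoutFree.free_of_injective (LinearMap.ker φ).subtype Subtype.val_injective
  have hrank : Module.finrank R (LinearMap.ker φ) = n := by
    have := e.finrank_eq
    rw [Module.finrank_prod, Module.finrank_self, Module.finrank_fin_fun] at this
    omega
  let b := Module.finBasisOfFinrankEq R _ hrank
  let rows : Fin (n + 1) → (Fin (n + 1) → R) := Fin.cons f fun i => (b i : Fin (n + 1) → R)
  have hsurj : Function.Surjective (Fintype.linearCombination R rows) := by
    intro v
    have hker : v - φ v • f ∈ LinearMap.ker φ := by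
      have := LinearMap.congr_fun hφσ (φ v)
      simp only [σ, LinearMap.comp_apply, LinearMap.toSpanSingleton_apply, LinearMap.id_apply] at this
      rw [LinearMap.mem_ker, map_sub, this, sub_self]
    refine ⟨Fin.cons (φ v) (b.repr ⟨_, hker⟩), ?_⟩
    rw [Fintype.linearCombination_apply, Fin.sum_univ_succ]
    simp only [rows, Fin.cons_zero, Fin.cons_succ]
    have h2 := congrArg Subtype.val (b.sum_repr ⟨_, hker⟩)
    simp only [Submodule.coe_sum, Submodule.coe_smul] at h2
    rw [h2, add_sub_cancel]
  refine ⟨Matrix.of rows, ?_, rfl⟩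
  choose c hc using fun i : Fin (n + 1) => hsurj (Pi.single i 1)
  refine Matrix.isUnit_det_of_left_inverse (B := Matrix.of c) ?_
  ext i j
  rw [Matrix.mul_apply]
  have h2 := congrFun (hc i) j
  rw [Fintype.linearCombination_apply, Finset.sum_apply] at h2
  simp only [Pi.smul_apply, smul_eq_mul] at h2
  simp only [Matrix.of_apply]
  rw [h2, Matrix.one_apply, Pi.single_apply]
  exact if_congr eq_comm rfl rfl

end Groth.Agent.S7122
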