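import Groth.Statements.S7123
import Mathlib.LinearAlgebra.Quotient.Basic
import Mathlib.Algebra.DirectSum.Module
import Mathlib.RingTheory.Ideal.Span

set_option autoImplicit false
universe u
open CAlg

namespace Groth.Agent.S7123

open DirectSum in
/-- For a module P over a ring R these two conditions are equivalent: (1) P is a retract (direct
summand) of a direct sum of cyclic modules R/fR, f ranging over R; (2) for every surjection of
R-modules π : B → C whose kernel A satisfies fA = A ∩ fB for every f in R, each linear map P → C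
lifts through π. -/
theorem result (R : Type u) [CommRing R] (P : Type u)
    [AddCommGroup P] [Module R P] :
    (∃ (ι : Type u) (f : ι → R) (i : P →ₗ[R] (⨁ j, R ⧸ Ideal.span {f j}))
        (p : (⨁ j, R ⧸ Ideal.span {f j}) →ₗ[R] P), p ∘ₗ i = LinearMap.id) ↔
      ∀ (B C : Type u) [AddCommGroup B] [Module R B] [AddCommGroup C] [Module R C] (π : B →ₗ[R] C),
        Function.Surjective π →
        (∀ (f : R) (b : B), π (f • b) = 0 → ∃ a : B, π a = 0 ∧ f • a = f • b) →
        ∀ ψ : P →ₗ[R] C, ∃ φ : P →ₗ[R] B, π ∘ₗ φ = ψ := by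
  classical
  constructor
  · rintro ⟨ι, f, i, p, hpi⟩ B C _ _ _ _ π hπ hA ψ
    have hb : ∀ j, ∃ b : B, π b = ψ (p (DirectSum.lof R ι _ j (Submodule.Quotient.mk 1))) ∧ f j • b = 0 := by
      intro j
      obtain ⟨b, hb⟩ := hπ (ψ (p (DirectSum.lof R ι _ j (Submodule.Quotient.mk 1))))
      obtain ⟨a, ha, hfa⟩ := hA (f j) b (by
        rw [map_smul, hb, ← map_smul, ← map_smul, ← map_smul, ← Submodule.Quotient.mk_smul,
          (Submodule.Quotient.mk_eq_zero _).2 (Ideal.mem_span_singleton'.2 ⟨1, by simp⟩), map_zero,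
          map_zero, map_zero])
      exact ⟨b - a, by rw [map_sub, hb, ha, sub_zero], by rw [smul_sub, hfa, sub_self]⟩
    choose b hb1 hb2 using hb
    let Φ : (DirectSum ι fun j => R ⧸ Ideal.span {f j}) →ₗ[R] B :=
      DirectSum.toModule R ι B fun j => (Ideal.span {f j}).liftQ (LinearMap.toSpanSingleton R B (b j))
        (by
          intro x hx
          obtain ⟨c, rfl⟩ := Ideal.mem_span_singleton'.1 hx
          rw [LinearMap.mem_ker, LinearMap.toSpanSingleton_apply, mul_smul, hb2, smul_zero])
    refine ⟨Φ ∘ₗ i, ?_⟩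
    have : π ∘ₗ Φ = ψ ∘ₗ p := by
      refine DirectSum.linearMap_ext R fun j => Submodule.linearMap_qext _ (LinearMap.ext_ring ?_)
      simp only [LinearMap.comp_apply, Submodule.mkQ_apply, Φ, DirectSum.toModule_lof,
        Submodule.liftQ_apply, LinearMap.toSpanSingleton_apply, one_smul]
      exact hb1 j
    rw [← LinearMap.comp_assoc, this, LinearMap.comp_assoc, hpi, LinearMap.comp_id]
  · intro h
    let ι := { fc : R × P // fc.1 • fc.2 = 0 }
    let B := DirectSum ι fun j => R ⧸ Ideal.span {j.1.1}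
    let π : B →ₗ[R] P := DirectSum.toModule R ι P fun j =>
      (Ideal.span {j.1.1}).liftQ (LinearMap.toSpanSingleton R P j.1.2) (by
          intro x hx
          obtain ⟨c, rfl⟩ := Ideal.mem_span_singleton'.1 hx
          rw [LinearMap.mem_ker, LinearMap.toSpanSingleton_apply, mul_smul, j.2, smul_zero])
    have hgen : ∀ j : ι, π (DirectSum.lof R ι _ j (Submodule.Quotient.mk 1)) = j.1.2 := fun j =>
      (DirectSum.toModule_lof R j _).trans (one_smul R _)
    obtain ⟨φ, hφ⟩ := h B P π (fun x => ⟨_, hgen ⟨(0, x), zero_smul R x⟩⟩) (fun f b hfb => by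
      let j : ι := ⟨(f, π b), by rw [← map_smul]; exact hfb⟩
      refine ⟨b - DirectSum.lof R ι _ j (Submodule.Quotient.mk 1), by rw [map_sub, hgen, sub_self], ?_⟩
      rw [smul_sub, ← map_smul, ← Submodule.Quotient.mk_smul,
        (Submodule.Quotient.mk_eq_zero (Ideal.span {j.1.1})).2
          (Ideal.mem_span_singleton'.2 ⟨1, by simp [j]⟩), map_zero, sub_zero]) LinearMap.id
    exact ⟨ι, fun j => j.1.1, φ, π, hφ⟩

end Groth.Agent.S7123
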