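import Groth.Statements.S7124
import Mathlib.RingTheory.Valuation.ValuationRing
import Mathlib.RingTheory.LocalRing.ResidueField.Basic
import Mathlib.LinearAlgebra.Dimension.Free
import Mathlib.LinearAlgebra.Dimension.Finite
import Mathlib.GroupTheory.Index
import Mathlib.RingTheory.Valuation.Basic

set_option autoImplicit false
universe u
open CAlg

namespace Groth.S7124aux

variable {A B K L : Type u} [CommRing A] [IsDomain A] [ValuationRing A] [CommRing B] [IsDomain B]
  [ValuationRing B] [Field K] [Field L] [Algebra A K] [IsFractionRing A K] [Algebra B L]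
  [IsFractionRing B L] [Algebra A B] [Algebra K L] [Algebra A L] [IsScalarTower A K L]
  [IsScalarTower A B L] [IsLocalHom (algebraMap A B)]

local notation "v" => ValuationRing.valuation B L

lemma mem_iff (x : L) : v x ≤ 1 ↔ ∃ b, algebraMap B L b = x :=
  ValuationRing.mem_integer_iff B L x

lemma v_unit (u : Bˣ) : v (algebraMap B L u) = 1 := by
  refine le_antisymm ((mem_iff _).2 ⟨_, rfl⟩) ?_
  have h : v (algebraMap B L u) * v (algebraMap B L ↑u⁻¹) = 1 := by
    rw [← map_mul, ← map_mul, u.mul_inv, map_one, map_one]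
  calc (1 : ValuationRing.ValueGroup B L) = _ := h.symm
    _ ≤ v (algebraMap B L u) * 1 := mul_le_mul_right ((mem_iff _).2 ⟨_, rfl⟩) _
    _ = _ := mul_one _

lemma exists_unit (x : L) (hx : v x = 1) : ∃ u : Bˣ, algebraMap B L u = x := by
  obtain ⟨a, ha⟩ := (mem_iff x).1 hx.le
  obtain ⟨b, hb⟩ := (mem_iff x⁻¹).1 (by rw [map_inv₀, hx, inv_one])
  have hx0 : x ≠ 0 := fun h => zero_ne_one (α := ValuationRing.ValueGroup B L) (by rw [← hx, h, map_zero])
  have h1 : a * b = 1 := IsFractionRing.injective B L (by rw [map_mul, ha, hb, map_one, mul_inv_cancel₀ hx0])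
  exact ⟨⟨a, b, h1, by rw [mul_comm]; exact h1⟩, ha⟩

lemma exists_A (y : K) (hy : v (algebraMap K L y) ≤ 1) : ∃ a, algebraMap A K a = y := by
  rcases ValuationRing.isInteger_or_isInteger A y with h | ⟨a, ha⟩
  · exact h
  · by_cases hy0 : y = 0
    · exact ⟨0, by simp [hy0]⟩
    obtain ⟨b, hb⟩ := (mem_iff _).1 hy
    have h1 : algebraMap A B a * b = 1 := IsFractionRing.injective B L (by
      rw [map_mul, hb, ← IsScalarTower.algebraMap_apply, IsScalarTower.algebraMap_apply A K L, ← map_mul,
        ha, inv_mul_cancel₀ hy0, map_one, map_one])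
    obtain ⟨u, hu⟩ := isUnit_of_map_unit (algebraMap A B) a (.of_mul_eq_one _ h1)
    refine ⟨(↑u⁻¹ : A), ?_⟩
    rw [← hu] at ha
    rw [map_units_inv, ha, inv_inv]

lemma exists_smul_unit {ι : Type*} (b : ι → B)
    (hb : LinearIndependent (IsLocalRing.ResidueField A) (fun i => IsLocalRing.residue B (b i)))
    (t : Finset ι) (a : ι → K) (ha : ∃ i ∈ t, a i ≠ 0) :
    ∃ (k : Kˣ) (u : Bˣ), ∑ i ∈ t, algebraMap K L (a i) * algebraMap B L (b i) = algebraMap K L k * algebraMap B L u := by
  classical
  obtain ⟨i₁, hi₁, hi₁0⟩ := ha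
  obtain ⟨i₀, hi₀, hmax⟩ := t.exists_max_image (fun i => v (algebraMap K L (a i))) ⟨i₁, hi₁⟩
  have h0 : a i₀ ≠ 0 := fun h => by
    have h2 := hmax i₁ hi₁
    simp only [h, map_zero, le_zero_iff, map_eq_zero] at h2
    exact hi₁0 h2
  have hr : ∀ i, ∃ r : A, i ∈ t → algebraMap A K r = a i / a i₀ := fun i => by
    by_cases hi : i ∈ t
    · obtain ⟨r, hr⟩ := exists_A (A := A) (B := B) (L := L) (a i / a i₀) (by
        rw [map_div₀, map_div₀]
        refine div_le_one_of_le₀ (hmax i hi) ?_
        exact zero_le)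
      exact ⟨r, fun _ => hr⟩
    · exact ⟨0, fun h => absurd h hi⟩
  choose r hr using hr
  have hu : IsUnit (∑ i ∈ t, algebraMap A B (r i) * b i) := by
    rw [← IsLocalRing.residue_ne_zero_iff_isUnit, map_sum]
    intro h
    have h2 : r i₀ = 1 := IsFractionRing.injective A K (by rw [hr i₀ hi₀, div_self h0, map_one])
    have h3 := linearIndependent_iff'.1 hb t (fun i => IsLocalRing.residue A (r i)) (by
      rw [← h]
      refine Finset.sum_congr rfl fun i _ => ?_
      rw [map_mul, Algebra.smul_def]
      rfl) i₀ hi₀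
    rw [h2, map_one] at h3
    exact one_ne_zero h3
  refine ⟨Units.mk0 _ h0, hu.unit, ?_⟩
  rw [hu.unit_spec, map_sum, Finset.mul_sum]
  refine Finset.sum_congr rfl fun i hi => ?_
  rw [map_mul, ← IsScalarTower.algebraMap_apply, IsScalarTower.algebraMap_apply A K L, hr i hi, ← mul_assoc, ← map_mul,
    Units.val_mk0, mul_div_cancel₀ _ h0]

lemma indep {ι κ : Type*} (b : ι → B)
    (hb : LinearIndependent (IsLocalRing.ResidueField A) (fun i => IsLocalRing.residue B (b i)))
    (c : κ → Lˣ) (hc : ∀ (j j' : κ) (k : Kˣ), v (algebraMap K L k * c j) = v (c j' : L) → j = j') :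
    LinearIndependent K (fun p : ι × κ => algebraMap B L (b p.1) * (c p.2 : L)) := by
  classical
  rw [linearIndependent_iff']
  intro s g hsum p hp
  by_contra hg
  let sI := s.image Prod.fst
  let sK := s.image Prod.snd
  let g' : ι × κ → K := fun q => if q ∈ s then g q else 0
  let X : κ → L := fun j => ∑ i ∈ sI, algebraMap K L (g' (i, j)) * algebraMap B L (b i)
  have htot : ∑ j ∈ sK, X j * (c j : L) = 0 := by
    rw [← hsum]
    simp only [X, Finset.sum_mul]
    rw [← Finset.sum_product_right', ← Finset.sum_subset (s₁ := s) (s₂ := sI ×ˢ sK)]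
    · refine Finset.sum_congr rfl fun q hq => ?_
      simp [g', hq, Algebra.smul_def, mul_assoc]
    · exact fun q hq => Finset.mem_product.2 ⟨Finset.mem_image_of_mem _ hq, Finset.mem_image_of_mem _ hq⟩
    · intro q _ hq
      simp [g', hq]
  let sK' := sK.filter fun j => ∃ i ∈ sI, g' (i, j) ≠ 0
  have htot' : ∑ j ∈ sK', X j * (c j : L) = 0 := by
    rw [Finset.sum_filter_of_ne fun j _ hj => ?_, htot]
    by_contra h
    push Not at h
    refine hj ?_
    simp only [X]
    rw [Finset.sum_eq_zero fun i hi => by rw [h i hi, map_zero, zero_mul], zero_mul]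
  have hne : sK'.Nonempty := ⟨p.2, Finset.mem_filter.2 ⟨Finset.mem_image_of_mem _ hp,
    p.1, Finset.mem_image_of_mem _ hp, by simp [g', hp, hg]⟩⟩
  have hX : ∀ j ∈ sK', ∃ k : Kˣ, v (X j * (c j : L)) = v (algebraMap K L k * c j) := fun j hj => by
    obtain ⟨k, u, h⟩ := exists_smul_unit (A := A) (L := L) b hb sI (fun i => g' (i, j)) (Finset.mem_filter.1 hj).2
    refine ⟨k, ?_⟩
    show v ((∑ i ∈ sI, algebraMap K L (g' (i, j)) * algebraMap B L (b i)) * (c j : L)) = _
    rw [h, map_mul, map_mul, v_unit, mul_one, ← map_mul]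
  obtain ⟨j₀, hj₀, hmax⟩ := sK'.exists_max_image (fun j => v (X j * (c j : L))) hne
  obtain ⟨k₀, hk₀⟩ := hX j₀ hj₀
  have hlt : ∀ j ∈ sK'.erase j₀, v (X j * (c j : L)) < v (X j₀ * (c j₀ : L)) := fun j hj => by
    refine lt_of_le_of_ne (hmax j (Finset.mem_of_mem_erase hj)) fun heq => Finset.ne_of_mem_erase hj ?_
    obtain ⟨k, hk⟩ := hX j (Finset.mem_of_mem_erase hj)
    refine hc j j₀ (k * k₀⁻¹) ?_
    rw [hk, hk₀, map_mul, map_mul] at heq
    have h0 : v (algebraMap K L k₀) ≠ 0 := by simp
    rw [Units.val_mul, Units.val_inv_eq_inv_val, ← div_eq_mul_inv, map_div₀, map_mul, map_div₀, div_mul_eq_mul_div, heq,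
      mul_div_cancel_left₀ _ h0]
  have hne0 : v (X j₀ * (c j₀ : L)) ≠ 0 := by rw [hk₀]; simp
  have h1 := Valuation.map_sum_lt v hne0 hlt
  rw [← Finset.add_sum_erase _ _ hj₀, add_eq_zero_iff_eq_neg] at htot'
  rw [htot', Valuation.map_neg] at h1
  exact lt_irrefl _ h1

end Groth.S7124aux



namespace Groth.Agent.S7124

/-- Let A ⊆ B be an extension of valuation rings (both valuation domains, the inclusion injective and
local) with fraction fields K ⊆ L such that L/K is finite. Then the residue field of B is finite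
over that of A, the value group of A has finite index in the value group of B, and (index of value
groups) · (residue degree) ≤ [L : K]. Here the value group of B is written as Lˣ modulo the units of
B, and that of A as the image of Kˣ in it. -/
theorem result (A B K L : Type u) [CommRing A] [IsDomain A]
    [ValuationRing A] [CommRing B] [IsDomain B] [ValuationRing B] [Field K] [Field L]
    [Algebra A K] [IsFractionRing A K] [Algebra B L] [IsFractionRing B L] [Algebra A B] [Algebra K L]
    [Algebra A L] [IsScalarTower A K L] [IsScalarTower A B L] (hinj : Function.Injective (algebraMap A B))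
    [IsLocalHom (algebraMap A B)] [FiniteDimensional K L] :
    let UB : Subgroup Lˣ := (Units.map (algebraMap B L).toMonoidHom).range
    let ΓA : Subgroup (Lˣ ⧸ UB) := ((QuotientGroup.mk' UB).comp (Units.map (algebraMap K L).toMonoidHom)).range
    Module.Finite (IsLocalRing.ResidueField A) (IsLocalRing.ResidueField B) ∧ ΓA.index ≠ 0 ∧
      ΓA.index * Module.finrank (IsLocalRing.ResidueField A) (IsLocalRing.ResidueField B) ≤
        Module.finrank K L := by
  intro UB ΓA
  haveI : ΓA.Normal := ⟨fun n hn g => by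
    induction g using QuotientGroup.induction_on with
    | H g =>
      induction n using QuotientGroup.induction_on with
      | H n =>
        rw [← QuotientGroup.mk_mul, ← QuotientGroup.mk_inv, ← QuotientGroup.mk_mul, mul_comm g n, mul_inv_cancel_right]
        exact hn⟩
  let kA := IsLocalRing.ResidueField A
  let kB := IsLocalRing.ResidueField B
  let bas := Module.Free.chooseBasis kA kB
  choose b hb using fun i => IsLocalRing.residue_surjective (bas i)
  have hb' : LinearIndependent kA (fun i => IsLocalRing.residue B (b i)) := by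
    simp only [hb]; exact bas.linearIndependent
  let G := (Lˣ ⧸ UB) ⧸ ΓA
  choose c hc using fun g : G => (QuotientGroup.mk'_surjective ΓA).comp (QuotientGroup.mk'_surjective UB) g
  have hcls : ∀ (g g' : G) (k : Kˣ), ValuationRing.valuation B L (algebraMap K L k * c g) =
      ValuationRing.valuation B L (c g' : L) → g = g' := by
    intro g g' k h
    obtain ⟨u, hu⟩ := Groth.S7124aux.exists_unit (B := B) ((algebraMap K L k * c g) / c g') (by
      rw [map_div₀, h, div_self]; simp)
    have h1 : Units.map (algebraMap K L).toMonoidHom k * c g = Units.map (algebraMap B L).toMonoidHom u * c g' := by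
      apply Units.ext
      show algebraMap K L k * (c g : L) = algebraMap B L u * (c g' : L)
      rw [hu, div_mul_cancel₀ _ (c g').ne_zero]
    have h2 := congrArg (fun x => QuotientGroup.mk' ΓA (QuotientGroup.mk' UB x)) h1
    simp only [map_mul] at h2
    have e1 : QuotientGroup.mk' ΓA (QuotientGroup.mk' UB (Units.map (algebraMap K L).toMonoidHom k)) = 1 :=
      (QuotientGroup.eq_one_iff _).2 ⟨k, rfl⟩
    have e2 : QuotientGroup.mk' UB (Units.map (algebraMap B L).toMonoidHom u) = 1 :=
      (QuotientGroup.eq_one_iff _).2 ⟨u, rfl⟩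
    rw [e1, e2, map_one, one_mul, one_mul] at h2
    simp only [Function.comp_apply] at hc
    rwa [hc, hc] at h2
  have hLI := Groth.S7124aux.indep (K := K) (L := L) b hb' c hcls
  haveI : Finite (Module.Free.ChooseBasisIndex kA kB × G) := hLI.finite
  haveI : Nonempty G := ⟨1⟩
  haveI : Nonempty (Module.Free.ChooseBasisIndex kA kB) := bas.index_nonempty
  haveI : Finite (Module.Free.ChooseBasisIndex kA kB) := Finite.prod_left G
  haveI : Finite G := Finite.prod_right (Module.Free.ChooseBasisIndex kA kB)
  haveI hfin : Module.Finite kA kB := .of_basis bas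
  refine ⟨hfin, Subgroup.index_ne_zero_of_finite, ?_⟩
  haveI := Fintype.ofFinite (Module.Free.ChooseBasisIndex kA kB × G)
  have hle := hLI.fintype_card_le_finrank
  rw [← Nat.card_eq_fintype_card, Nat.card_prod, ← Module.finrank_eq_nat_card_basis bas, mul_comm] at hle
  exact hle

end Groth.Agent.S7124
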