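import Groth.Statements.S7129
import Groth.Agent.L20.WeaklyEtale

set_option autoImplicit false
universe u
open EtAlg

namespace Groth.Agent.S7129

/-- Every module over a product of fields ∏ K_i is flat over it (the product is an absolutely flat
ring). -/
theorem result (ι : Type u) (K : ι → Type u) [∀ i, Field (K i)] (M : Type u)
    [AddCommGroup M] [Module (∀ i, K i) M] : Module.Flat (∀ i, K i) M := by
  exact Groth.L20.flat_of_forall_exists_idempotent fun a => ⟨fun i => (a i)⁻¹, funext fun i => by
    show a i * a i * (a i)⁻¹ = a i
    by_cases hz : a i = 0
    · simp [hz]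
    · field_simp⟩

end Groth.Agent.S7129
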