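import Groth.Statements.S7130
import Mathlib.RingTheory.Ideal.Pure
import Mathlib.LinearAlgebra.FreeModule.Basic
import Mathlib.LinearAlgebra.Basis.VectorSpace
import Mathlib.RingTheory.Flat.Localization
import Mathlib.RingTheory.Localization.AtPrime.Basic
import Mathlib.RingTheory.Nilpotent.Lemmas
import Mathlib.RingTheory.LocalProperties.Reduced
import Mathlib.Tactic.LinearCombination

set_option autoImplicit false
universe u
open EtAlg

namespace Groth.Agent.S7130

/-- (2) ⇔ (3) ⇔ (4): for a ring A the following are equivalent: every A-module is flat; A is reduced of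
Krull dimension zero, in the sense that every prime ideal of A is maximal; the local ring A_p is a
field for every prime p. (The further equivalent condition 'A has weak dimension at most zero'
coincides with the first condition by definition and is not listed separately.) -/
theorem result (A : Type u) [CommRing A] :
    List.TFAE [∀ (M : Type u) [AddCommGroup M] [Module A M], Module.Flat A M,
      IsReduced A ∧ ∀ p : Ideal A, p.IsPrime → p.IsMaximal,
      ∀ (p : Ideal A) [p.IsPrime], IsField (Localization.AtPrime p)] := by
  tfae_have 1 → 2 := by
    intro h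
    have key : ∀ x : A, ∃ a, a * (x * x) = x := by
      intro x
      haveI : (Ideal.span {x}).Pure := h _
      have h1 := Ideal.isIdempotentElem_of_pure (Ideal.span {x})
      rw [IsIdempotentElem, Ideal.span_singleton_mul_span_singleton] at h1
      exact Ideal.mem_span_singleton'.1 (h1.symm ▸ Ideal.mem_span_singleton_self x)
    refine ⟨⟨fun x ⟨n, hn⟩ => ?_⟩, fun p hp => ?_⟩
    · obtain ⟨a, ha⟩ := key x
      have h1 : ∀ k : ℕ, a ^ k * x ^ (k + 1) = x := fun k => by
        induction k with
        | zero => simp
        | succ k ih =>
          conv_rhs => rw [← ih, pow_succ x k]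
          linear_combination a ^ k * x ^ k * ha
      rw [← h1 n, pow_succ, hn]
      ring
    · refine Ideal.isMaximal_iff.2 ⟨fun h1 => hp.ne_top (p.eq_top_iff_one.2 h1), fun J x hpJ hxp hxJ => ?_⟩
      obtain ⟨a, ha⟩ := key x
      have h1 : x * (a * x - 1) = 0 := by linear_combination ha
      have h2 : a * x - 1 ∈ p := (hp.mem_or_mem (h1 ▸ p.zero_mem)).resolve_left hxp
      have h3 := J.sub_mem (J.mul_mem_left a hxJ) (hpJ h2)
      rwa [sub_sub_cancel] at h3
  tfae_have 2 → 3 := by
    rintro ⟨hr, hm⟩ p hp
    rw [IsLocalRing.isField_iff_maximalIdeal_eq, eq_bot_iff]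
    intro x hx
    refine IsReduced.eq_zero x ((nilpotent_iff_mem_prime).2 fun P hP => ?_)
    have hle : P.comap (algebraMap A (Localization.AtPrime p)) ≤ p := by
      exact (Ideal.comap_mono (IsLocalRing.le_maximalIdeal hP.ne_top)).trans (Localization.AtPrime.comap_maximalIdeal (I := p)).le
    have heq := (hm _ (Ideal.IsPrime.comap (algebraMap A (Localization.AtPrime p)))).eq_of_le hp.ne_top hle
    have h2 : P = IsLocalRing.maximalIdeal _ := by
      refine (IsLocalization.map_comap p.primeCompl (Localization.AtPrime p) P).symm.trans ?_
      exact (congrArg (Ideal.map (algebraMap A (Localization.AtPrime p))) heq).trans Localization.AtPrime.map_eq_maximalIdeal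
    rwa [h2]
  tfae_have 3 → 1 := by
    intro h M _ _
    refine Module.flat_of_localized_maximal M fun p _ => ?_
    letI : Field (Localization.AtPrime p) := (h p).toField
    haveI : Module.Free (Localization.AtPrime p) (LocalizedModule p.primeCompl M) := Module.Free.of_divisionRing _ _
    haveI : Module.Flat (Localization.AtPrime p) (LocalizedModule p.primeCompl M) := Module.Flat.of_free
    exact Module.Flat.trans A (Localization.AtPrime p) _
  tfae_finish

end Groth.Agent.S7130
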