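import Groth.Statements.S7131
import Groth.Agent.L05.TorShift.Basic
import Groth.Agent.L20.WeaklyEtale

set_option autoImplicit false
universe u
open EtAlg

namespace Groth.Agent.S7131

/-- Suppose A → B is weakly étale and every A-module has tor dimension at most d. Then every B-module
has tor dimension at most d over B (weak dimension at most d ascends along weakly étale maps). -/
theorem result (A B : Type u) [CommRing A] [CommRing B] [Algebra A B]
    [Algebra.WeaklyEtale A B] (d : ℕ)
    (hA : ∀ (M : Type u) [AddCommGroup M] [Module A M], DRing.HasTorDimLE A d M)
    (N : Type u) [AddCommGroup N] [Module B N] : DRing.HasTorDimLE B d N := by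
  have key : ∀ (d : ℕ) (N : Type u) [AddCommGroup N] [Module B N] [Module A N] [IsScalarTower A B N],
      DRing.HasTorDimLE A d N → DRing.HasTorDimLE B d N := by
    intro d
    induction d with
    | zero =>
      intro N _ _ _ _ h
      haveI := Groth.L10.DR.hasTorDimLE_zero_iff.mp h
      exact Groth.L10.DR.hasTorDimLE_zero_iff.mpr
        (Groth.L20.flat_of_flat_of_flat_lmul (R := A) (Algebra.WeaklyEtale.flat_lmul' A B))
    | succ d ih =>
      intro N _ _ _ _ h
      classical
      let g : (N →₀ B) →ₗ[B] N := Finsupp.linearCombination B id
      have hg : Function.Surjective g := fun x => ⟨Finsupp.single x 1, by simp [g]⟩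
      haveI : Module.Flat A (N →₀ B) := Module.Flat.trans A B (N →₀ B)
      let K := LinearMap.ker g
      have hex := LinearMap.exact_subtype_ker_map g
      refine (Groth.L05.TorShift.hasTorDimLE_succ_iff (K := ↥K) K.subtype g Subtype.val_injective hg hex d).mpr ?_
      exact ih K ((Groth.L05.TorShift.hasTorDimLE_succ_iff (K.subtype.restrictScalars A) (g.restrictScalars A)
        Subtype.val_injective hg hex d).mp h)
  letI : Module A N := Module.compHom N (algebraMap A B)
  haveI : IsScalarTower A B N := IsScalarTower.of_compHom A B N
  exact key d N (hA N)

end Groth.Agent.S7131
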