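import Groth.Statements.S7132

set_option autoImplicit false
universe u
open EtAlg

namespace Groth.Agent.S7132

/-- For an injective local homomorphism A → B of discrete valuation rings whose fraction fields K ⊆ L
form a finite extension, the residue field of B is finite over that of A, and the ramification index
e times the residue degree f is at most [L : K]. -/
theorem result (A B K L : Type u) [CommRing A] [IsDomain A]
    [IsDiscreteValuationRing A] [CommRing B] [IsDomain B] [IsDiscreteValuationRing B] [Algebra A B]
    (hinj : Function.Injective (algebraMap A B)) [IsLocalHom (algebraMap A B)]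
    [Field K] [Field L] [Algebra A K] [IsFractionRing A K] [Algebra B L] [IsFractionRing B L]
    [Algebra K L] [Algebra A L] [IsScalarTower A K L] [IsScalarTower A B L] [FiniteDimensional K L] :
    Module.Finite (IsLocalRing.ResidueField A) (IsLocalRing.ResidueField B) ∧
      Ideal.ramificationIdx' (IsLocalRing.maximalIdeal A) (IsLocalRing.maximalIdeal B) *
          Module.finrank (IsLocalRing.ResidueField A) (IsLocalRing.ResidueField B) ≤
        Module.finrank K L := by
  classical
  obtain ⟨ϖ, hϖ⟩ := IsDiscreteValuationRing.exists_irreducible A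
  obtain ⟨π, hπ⟩ := IsDiscreteValuationRing.exists_irreducible B
  have hϖ0 : algebraMap A B ϖ ≠ 0 := fun h => hϖ.ne_zero (hinj (by rw [h, map_zero]))
  obtain ⟨e, v, hv⟩ := IsDiscreteValuationRing.eq_unit_mul_pow_irreducible hϖ0 hπ
  have he : e ≠ 0 := by
    rintro rfl
    rw [pow_zero, mul_one] at hv
    exact hϖ.not_isUnit (isUnit_of_map_unit (algebraMap A B) ϖ (hv ▸ v.isUnit))
  have hmA : IsLocalRing.maximalIdeal A = Ideal.span {ϖ} := hϖ.maximalIdeal_eq
  have hmB : IsLocalRing.maximalIdeal B = Ideal.span {π} := hπ.maximalIdeal_eq
  have hre : Ideal.ramificationIdx' (IsLocalRing.maximalIdeal A) (IsLocalRing.maximalIdeal B) = e := by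
    refine Ideal.ramificationIdx'_spec ?_ ?_ <;>
      rw [hmA, hmB, Ideal.map_span, Set.image_singleton, Ideal.span_singleton_pow,
        Ideal.span_singleton_le_span_singleton, hv]
    · exact dvd_mul_left _ _
    · rw [IsUnit.dvd_mul_left v.isUnit, pow_dvd_pow_iff hπ.ne_zero hπ.not_isUnit]
      omega
  -- the products `b i * π ^ j` are linearly independent over `A`
  have key : ∀ (m : ℕ) (b : Fin m → B),
      LinearIndependent (IsLocalRing.ResidueField A) (fun i => IsLocalRing.residue B (b i)) →
      e * m ≤ Module.finrank K L := by
    intro m b hb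
    have step : ∀ a : Fin m × Fin e → A,
        ∑ x, algebraMap A B (a x) * (b x.1 * π ^ (x.2 : ℕ)) = 0 → ∀ x, ϖ ∣ a x := by
      intro a ha
      suffices h : ∀ (j : ℕ) (hj : j < e) (i : Fin m), ϖ ∣ a (i, ⟨j, hj⟩) from
        fun x => h x.2 x.2.2 x.1
      intro j
      induction j using Nat.strong_induction_on with
      | _ j ih =>
        intro hj i
        have hdiv : π ^ (j + 1) ∣ ∑ x ∈ Finset.univ.filter (fun x : Fin m × Fin e => (x.2 : ℕ) ≠ j),
            algebraMap A B (a x) * (b x.1 * π ^ (x.2 : ℕ)) := by
          refine Finset.dvd_sum fun x hx => ?_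
          simp only [Finset.mem_filter, Finset.mem_univ, true_and] at hx
          rcases lt_or_gt_of_ne hx with h | h
          · obtain ⟨c, hc⟩ := ih x.2 h x.2.2 x.1
            refine dvd_mul_of_dvd_left ?_ _
            rw [show a x = a (x.1, ⟨x.2, x.2.2⟩) from rfl, hc, map_mul, hv]
            exact dvd_mul_of_dvd_left (dvd_mul_of_dvd_right (pow_dvd_pow π (by omega)) _) _
          · exact dvd_mul_of_dvd_right (dvd_mul_of_dvd_right (pow_dvd_pow π (by omega)) _) _
        have hsum : ∑ x ∈ Finset.univ.filter (fun x : Fin m × Fin e => (x.2 : ℕ) = j),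
            algebraMap A B (a x) * (b x.1 * π ^ (x.2 : ℕ)) =
              π ^ j * ∑ i, algebraMap A B (a (i, ⟨j, hj⟩)) * b i := by
          rw [Finset.mul_sum]
          refine Finset.sum_bij' (fun x _ => x.1) (fun i _ => (i, ⟨j, hj⟩)) (by simp) (by simp)
            ?_ (by simp) ?_
          · intro x hx
            simp only [Finset.mem_filter, Finset.mem_univ, true_and] at hx
            exact Prod.ext rfl (Fin.ext hx.symm)
          · intro x hx
            simp only [Finset.mem_filter, Finset.mem_univ, true_and] at hx
            have hx' : x = (x.1, ⟨j, hj⟩) := Prod.ext rfl (Fin.ext hx)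
            conv_lhs => rw [hx']
            ring
        have htot := Finset.sum_filter_add_sum_filter_not Finset.univ
          (fun x : Fin m × Fin e => (x.2 : ℕ) = j)
          (fun x => algebraMap A B (a x) * (b x.1 * π ^ (x.2 : ℕ)))
        rw [ha, hsum, add_eq_zero_iff_eq_neg] at htot
        have h1 : π ^ j * π ∣ π ^ j * ∑ i, algebraMap A B (a (i, ⟨j, hj⟩)) * b i := by
          rw [← pow_succ, htot]
          exact dvd_neg.mpr hdiv
        have h2 := (mul_dvd_mul_iff_left (pow_ne_zero j hπ.ne_zero)).mp h1
        have h3 : IsLocalRing.residue B (∑ i, algebraMap A B (a (i, ⟨j, hj⟩)) * b i) = 0 := by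
          rw [IsLocalRing.residue_eq_zero_iff, hmB, Ideal.mem_span_singleton]
          exact h2
        have h4 := Fintype.linearIndependent_iff.mp hb
          (fun i => IsLocalRing.residue A (a (i, ⟨j, hj⟩))) (by
            rw [map_sum] at h3
            rw [← h3]
            refine Finset.sum_congr rfl fun i _ => ?_
            rw [map_mul, Algebra.smul_def]
            rfl) i
        rwa [IsLocalRing.residue_eq_zero_iff, hmA, Ideal.mem_span_singleton] at h4
    have hLI : LinearIndependent A
        (fun x : Fin m × Fin e => algebraMap B L (b x.1 * π ^ (x.2 : ℕ))) := by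
      rw [Fintype.linearIndependent_iff]
      intro a ha
      have ha0 : ∑ x, algebraMap A B (a x) * (b x.1 * π ^ (x.2 : ℕ)) = 0 := by
        apply IsFractionRing.injective B L
        rw [map_zero, map_sum, ← ha]
        refine Finset.sum_congr rfl fun x _ => ?_
        rw [map_mul, ← IsScalarTower.algebraMap_apply, Algebra.smul_def]
      have hall : ∀ (n : ℕ) (x : Fin m × Fin e), ϖ ^ n ∣ a x := by
        intro n
        induction n with
        | zero => intro x; simp
        | succ n ihn =>
          choose c hc using ihn
          have hc0 : ∑ x, algebraMap A B (c x) * (b x.1 * π ^ (x.2 : ℕ)) = 0 := by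
            refine (mul_eq_zero.mp ?_).resolve_left (pow_ne_zero n hϖ0)
            rw [Finset.mul_sum, ← ha0]
            refine Finset.sum_congr rfl fun x _ => ?_
            rw [hc x, map_mul, map_pow]
            ring
          intro x
          obtain ⟨d, hd⟩ := step c hc0 x
          exact ⟨d, by rw [hc x, hd, pow_succ]; ring⟩
      intro x
      have hx : a x ∈ ⨅ n, (IsLocalRing.maximalIdeal A) ^ n := by
        simp only [Submodule.mem_iInf, hmA, Ideal.span_singleton_pow, Ideal.mem_span_singleton]
        exact fun n => hall n x
      rw [Ideal.iInf_pow_eq_bot_of_isDomain _ (IsLocalRing.maximalIdeal.isMaximal A).ne_top] at hx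
      exact hx
    have h5 := ((LinearIndependent.iff_fractionRing A K).mp hLI).fintype_card_le_finrank
    rwa [Fintype.card_prod, Fintype.card_fin, Fintype.card_fin, mul_comm] at h5
  have key' : ∀ s : Finset (IsLocalRing.ResidueField B),
      LinearIndependent (IsLocalRing.ResidueField A) (fun x : s => (x : IsLocalRing.ResidueField B)) →
      e * s.card ≤ Module.finrank K L := by
    intro s hs
    choose b hb using fun i => IsLocalRing.residue_surjective ((s.equivFin.symm i : s) : IsLocalRing.ResidueField B)
    refine key s.card b ?_
    simp only [hb]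
    exact hs.comp _ s.equivFin.symm.injective
  have hfin : Module.Finite (IsLocalRing.ResidueField A) (IsLocalRing.ResidueField B) := by
    rw [← Module.rank_lt_aleph0_iff]
    refine lt_of_le_of_lt (rank_le fun s hs => ?_) (Cardinal.natCast_lt_aleph0 (n := Module.finrank K L))
    exact le_trans (Nat.le_mul_of_pos_left _ (Nat.pos_of_ne_zero he)) (key' s hs)
  refine ⟨hfin, ?_⟩
  rw [hre]
  let β := Module.finBasis (IsLocalRing.ResidueField A) (IsLocalRing.ResidueField B)
  choose b hb using fun i => IsLocalRing.residue_surjective (β i)
  refine key _ b ?_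
  simp only [hb]
  exact β.linearIndependent

end Groth.Agent.S7132
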