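import Groth.Statements.S7133
import Mathlib.FieldTheory.PurelyInseparable.Basic
import Mathlib.RingTheory.DiscreteValuationRing.Basic
import Mathlib.NumberTheory.RamificationInertia.Ramification

set_option autoImplicit false
universe u
open EtAlg

namespace Groth.Agent.S7133

/-- For an injective local homomorphism A → B of discrete valuation rings whose fields of fractions are
K ⊆ L: if K has characteristic p > 0 and L/K is purely inseparable, then the ramification index of B
over A is a power of p. -/
theorem result (A B K L : Type u) [CommRing A] [IsDomain A]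
    [IsDiscreteValuationRing A] [CommRing B] [IsDomain B] [IsDiscreteValuationRing B] [Algebra A B]
    (hinj : Function.Injective (algebraMap A B)) [IsLocalHom (algebraMap A B)]
    [Field K] [Field L] [Algebra A K] [IsFractionRing A K] [Algebra B L] [IsFractionRing B L]
    [Algebra K L] [Algebra A L] [IsScalarTower A K L] [IsScalarTower A B L]
    (p : ℕ) (hp : p.Prime) [CharP K p] [IsPurelyInseparable K L] :
    ∃ k : ℕ, Ideal.ramificationIdx' (IsLocalRing.maximalIdeal A) (IsLocalRing.maximalIdeal B) =
      p ^ k := by
  obtain ⟨a, ha⟩ := IsDiscreteValuationRing.exists_irreducible A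
  obtain ⟨b, hb⟩ := IsDiscreteValuationRing.exists_irreducible B
  have hab0 : algebraMap A B a ≠ 0 := (map_ne_zero_iff _ hinj).2 ha.ne_zero
  obtain ⟨e, u, hu⟩ := IsDiscreteValuationRing.eq_unit_mul_pow_irreducible hab0 hb
  have hspec : Ideal.ramificationIdx' (IsLocalRing.maximalIdeal A) (IsLocalRing.maximalIdeal B) = e := by
    refine Ideal.ramificationIdx'_spec ?_ ?_ <;>
      rw [ha.maximalIdeal_eq, hb.maximalIdeal_eq, Ideal.map_span, Set.image_singleton, hu,
        Ideal.span_singleton_pow, Ideal.span_singleton_le_span_singleton]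
    · exact dvd_mul_left _ _
    · rw [Units.dvd_mul_left, pow_dvd_pow_iff hb.ne_zero hb.not_isUnit]
      omega
  have hK : ExpChar K p := ExpChar.prime hp
  haveI : ExpChar K p := hK
  obtain ⟨n, y, hy⟩ := IsPurelyInseparable.pow_mem K p (algebraMap B L b)
  -- y lies in A
  obtain ⟨z, rfl⟩ : ∃ z : A, algebraMap A K z = y := by
    rcases ValuationRing.isInteger_or_isInteger A (K := K) y with h | h
    · exact h
    · obtain ⟨z, hz⟩ := h
      by_cases hzu : IsUnit z
      · exact ⟨(↑hzu.unit⁻¹ : A), by rw [map_units_inv, IsUnit.unit_spec, hz, inv_inv]⟩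
      · exfalso
        have h1 : algebraMap B L (algebraMap A B z * b ^ p ^ n) = 1 := by
          rw [map_mul, map_pow, ← hy, ← IsScalarTower.algebraMap_apply, IsScalarTower.algebraMap_apply A K L,
            ← map_mul, hz, inv_mul_cancel₀, map_one]
          rintro rfl
          rw [map_zero] at hy
          exact pow_ne_zero _ ((map_ne_zero_iff _ (IsFractionRing.injective B L)).2 hb.ne_zero) hy.symm
        rw [← map_one (algebraMap B L)] at h1
        exact hzu ((isUnit_map_iff (algebraMap A B) z).1 (IsUnit.of_mul_eq_one _ (IsFractionRing.injective B L h1)))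
  have hz : algebraMap A B z = b ^ p ^ n := IsFractionRing.injective B L (by
    rw [map_pow, ← hy, ← IsScalarTower.algebraMap_apply, IsScalarTower.algebraMap_apply A K L])
  have hz0 : z ≠ 0 := by
    rintro rfl
    rw [map_zero] at hz
    exact pow_ne_zero _ hb.ne_zero hz.symm
  obtain ⟨m, w, hw⟩ := IsDiscreteValuationRing.eq_unit_mul_pow_irreducible hz0 ha
  have hem : e * m = p ^ n := by
    refine IsDiscreteValuationRing.unit_mul_pow_congr_pow hb hb (Units.map (algebraMap A B).toMonoidHom w * u ^ m) 1 _ _ ?_
    rw [Units.val_one, one_mul, ← hz, hw, map_mul, map_pow, hu, mul_pow, ← pow_mul, Units.val_mul, Units.val_pow_eq_pow_val]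
    simp [mul_assoc]
  rw [hspec]
  obtain ⟨k, -, hk⟩ := (Nat.dvd_prime_pow hp).1 ⟨m, hem.symm⟩
  exact ⟨k, hk⟩

end Groth.Agent.S7133
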