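import Groth.Statements.S7134
import Groth.Agent.L06.FormSmoothHom

set_option autoImplicit false
set_option linter.style.haveILetI false
set_option maxSynthPendingDepth 3
universe u
open EtAlg

open scoped TensorProduct
namespace Groth.Agent.S7134

/-- For an injective local homomorphism A → B of discrete valuation rings, A → B is formally smooth for
the adic topology of the maximal ideal of B if and only if A → B is weakly unramified and the
residue field of B is a separable (possibly transcendental, i.e. geometrically reduced) extension of
the residue field of A. -/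
theorem result (A B : Type u) [CommRing A]
    [IsDomain A] [IsDiscreteValuationRing A] [CommRing B] [IsDomain B] [IsDiscreteValuationRing B] [Algebra A B]
    (hinj : Function.Injective (algebraMap A B)) [IsLocalHom (algebraMap A B)] :
    CAlgX.IsAdicFormallySmooth A B (IsLocalRing.maximalIdeal B) ↔
      EtRam.IsWeaklyUnramified A B ∧
        Algebra.IsGeometricallyReduced (IsLocalRing.ResidueField A) (IsLocalRing.ResidueField B) := by
  haveI : Module.IsTorsionFree A B := by
    haveI := (faithfulSMul_iff_algebraMap_injective A B).mpr hinj
    infer_instance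
  haveI : Module.Flat A B := inferInstance
  constructor
  · intro h
    have hk : Function.Surjective (algebraMap A (IsLocalRing.ResidueField A)) := IsLocalRing.residue_surjective
    obtain ⟨-, hg⟩ := (Groth.L06.FormSmooth.adicSmooth_iff_flat_geomRegular hk).mp h
    haveI := Groth.L01.NagataCriteria.isGeometricallyReduced_of_isGeometricallyRegular hg
    let k := IsLocalRing.ResidueField A
    haveI : IsLocalRing (k ⊗[A] B) := Groth.L06.FormSmooth.isLocalRing_fibre hk
    haveI : IsReduced (k ⊗[A] B) := Algebra.isReduced_of_isGeometricallyReduced (k := k)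
    have hm : (IsLocalRing.maximalIdeal A).map (algebraMap A B) = IsLocalRing.maximalIdeal B := by
      refine le_antisymm (IsLocalRing.map_maximalIdeal_le _) fun b hb => ?_
      obtain ⟨π, hπ⟩ := IsDiscreteValuationRing.exists_irreducible A
      have hne : (IsLocalRing.maximalIdeal A).map (algebraMap A B) ≠ ⊥ := by
        rw [hπ.maximalIdeal_eq, Ideal.map_span, Set.image_singleton, Ne, Ideal.span_singleton_eq_bot]
        exact fun h0 => hπ.ne_zero (hinj (h0.trans (map_zero _).symm))
      obtain ⟨ϖ, hϖ⟩ := IsDiscreteValuationRing.exists_irreducible B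
      obtain ⟨n, hn⟩ := IsDiscreteValuationRing.ideal_eq_span_pow_irreducible hne hϖ
      rw [hϖ.maximalIdeal_eq, Ideal.mem_span_singleton] at hb
      rw [← Groth.L06.FormSmooth.ker_includeRight (k := k) hk, RingHom.mem_ker]
      refine IsReduced.eq_zero _ ⟨n, ?_⟩
      rw [← map_pow, ← RingHom.mem_ker, Groth.L06.FormSmooth.ker_includeRight hk, hn, Ideal.mem_span_singleton]
      exact pow_dvd_pow_of_dvd hb n
    refine ⟨hm, ?_⟩
    haveI : Module.Finite k k := inferInstance
    let ρ : k ⊗[A] B →ₐ[k] IsLocalRing.ResidueField B :=
      Algebra.TensorProduct.lift (Algebra.ofId k _) (IsScalarTower.toAlgHom A B _) fun _ _ => Commute.all _ _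
    have hρ : Function.Bijective ρ := by
      refine ⟨(injective_iff_map_eq_zero ρ).mpr fun z hz => ?_, fun y => ?_⟩
      · obtain ⟨b, rfl⟩ := Groth.L06.FormSmooth.includeRight_surjective B hk z
        rw [Algebra.TensorProduct.includeRight_apply, Algebra.TensorProduct.lift_tmul, map_one, one_mul] at hz
        refine (Groth.L06.FormSmooth.ker_includeRight (k := k) hk).ge ?_
        rw [hm]
        exact (IsLocalRing.residue_eq_zero_iff b).mp hz
      · obtain ⟨b, rfl⟩ := IsLocalRing.residue_surjective y
        exact ⟨1 ⊗ₜ b, by rw [Algebra.TensorProduct.lift_tmul, map_one, one_mul]; rfl⟩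
    exact Algebra.IsGeometricallyReduced.of_injective (AlgEquiv.ofBijective ρ hρ).symm.toAlgHom (AlgEquiv.ofBijective ρ hρ).symm.injective
  · rintro ⟨hm, hred⟩
    haveI := hred
    exact Groth.L06.FormSmooth.adicSmooth_of_cohen hm

end Groth.Agent.S7134
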