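import Groth.Statements.S7135
import Mathlib.RingTheory.AdicCompletion.AsTensorProduct
import Mathlib.RingTheory.AdicCompletion.Functoriality
import Mathlib.RingTheory.Filtration
import Mathlib.RingTheory.OrzechProperty

set_option autoImplicit false
universe u
open CAlg

namespace Groth.Agent.S7135

/-- Let A be a Noetherian ring, I an ideal and M, N finite A-modules. If M/IⁿM and N/IⁿN are isomorphic
for every n, then the I-adic completions of M and N are isomorphic as modules over the I-adic
completion of A. -/
theorem result (A : Type u) [CommRing A] [IsNoetherianRing A] (I : Ideal A)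
    (M N : Type u) [AddCommGroup M] [Module A M] [Module.Finite A M] [AddCommGroup N] [Module A N]
    [Module.Finite A N]
    (h : ∀ n : ℕ, Nonempty ((M ⧸ (I ^ n • ⊤ : Submodule A M)) ≃ₗ[A] (N ⧸ (I ^ n • ⊤ : Submodule A N)))) :
    Nonempty (AdicCompletion I M ≃ₗ[AdicCompletion I A] AdicCompletion I N) := by
  classical
  -- maps modulo a high power lift modulo `I`
  have lift : ∀ (P Q : Type u) [AddCommGroup P] [Module A P] [Module.Finite A P] [AddCommGroup Q]
      [Module A Q] [Module.Finite A Q], ∃ c : ℕ, ∀ φ : P →ₗ[A] (Q ⧸ (I ^ (c + 1) • ⊤ : Submodule A Q)),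
      ∃ g : P →ₗ[A] Q, ∀ (x : P) (y : Q), Submodule.Quotient.mk y = φ x →
        g x - y ∈ (I • ⊤ : Submodule A Q) := by
    intro P Q _ _ _ _ _ _
    obtain ⟨s, p, hp⟩ := Module.Finite.exists_fin' A P
    obtain ⟨t, k, hk⟩ := Submodule.fg_iff_exists_fin_generating_family.1
      (IsNoetherian.noetherian (LinearMap.ker p))
    let L : (Fin s → Q) →ₗ[A] (Fin t → Q) :=
      LinearMap.pi fun l => ∑ i, k l i • LinearMap.proj i
    obtain ⟨c, hc⟩ := Ideal.exists_pow_inf_eq_pow_smul I (LinearMap.range L)
    refine ⟨c, fun φ => ?_⟩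
    choose y hy using fun i => Submodule.Quotient.mk_surjective _ (φ (p (Pi.single i 1)))
    have hφ : ∀ v : Fin s → A, φ (p v) = Submodule.Quotient.mk (Fintype.linearCombination A y v) := by
      intro v
      conv_lhs => rw [show v = ∑ i, v i • (Pi.single i 1 : Fin s → A) by
        funext j; simp [Finset.sum_apply, Pi.single_apply]]
      simp only [map_sum, map_smul, ← hy, Fintype.linearCombination_apply, ← Submodule.mkQ_apply]
    have hLy : L y ∈ I ^ (c + 1) • (⊤ : Submodule A (Fin t → Q)) := by
      rw [← Finset.univ_sum_single (L y)]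
      refine Submodule.sum_mem _ fun l _ => ?_
      have hl : L y l ∈ I ^ (c + 1) • (⊤ : Submodule A Q) := by
        rw [← Submodule.Quotient.mk_eq_zero, show L y l = Fintype.linearCombination A y (k l) by
          simp [L, Fintype.linearCombination_apply], ← hφ,
          show p (k l) = 0 from LinearMap.mem_ker.1 (hk ▸ Submodule.subset_span ⟨l, rfl⟩), map_zero]
      have hm := Submodule.mem_map_of_mem (f := LinearMap.single A (fun _ : Fin t => Q) l) hl
      rw [Submodule.map_smul''] at hm
      exact Submodule.smul_mono le_rfl le_top hm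
    have hmem := (hc (c + 1) (Nat.le_succ c)).le (Submodule.mem_inf.2 ⟨hLy, LinearMap.mem_range_self L y⟩)
    rw [show c + 1 - c = 1 by omega, pow_one] at hmem
    have hmem' := Submodule.smul_mono (le_refl I) inf_le_right hmem
    rw [LinearMap.range_eq_map, ← Submodule.map_smul''] at hmem'
    obtain ⟨z, hz, hzy⟩ := hmem'
    have hzi : ∀ i, z i ∈ (I • ⊤ : Submodule A Q) := fun i => by
      have hm := Submodule.mem_map_of_mem (f := (LinearMap.proj i : (Fin s → Q) →ₗ[A] Q)) hz
      rw [Submodule.map_smul''] at hm
      exact Submodule.smul_mono le_rfl le_top hm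
    have hker : LinearMap.ker p ≤ LinearMap.ker (Fintype.linearCombination A (y - z)) := by
      rw [← hk, Submodule.span_le]
      rintro _ ⟨l, rfl⟩
      rw [SetLike.mem_coe, LinearMap.mem_ker]
      have := congrFun (show L (y - z) = 0 by rw [map_sub, hzy, sub_self]) l
      simpa [L, Fintype.linearCombination_apply] using this
    refine ⟨(LinearMap.ker p).liftQ _ hker ∘ₗ (p.quotKerEquivOfSurjective hp).symm.toLinearMap, ?_⟩
    intro x w hw
    obtain ⟨v, rfl⟩ := hp x
    have hsymm : (p.quotKerEquivOfSurjective hp).symm (p v) = Submodule.Quotient.mk v := by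
      rw [LinearEquiv.symm_apply_eq]
      simp
    have h1 : Fintype.linearCombination A y v - w ∈ (I • ⊤ : Submodule A Q) := by
      refine Submodule.smul_mono_left (Ideal.pow_le_self (Nat.succ_ne_zero c)) ?_
      rw [← Submodule.Quotient.eq, hw, hφ]
    have h2 : Fintype.linearCombination A z v ∈ (I • ⊤ : Submodule A Q) := by
      rw [Fintype.linearCombination_apply]
      exact Submodule.sum_mem _ fun i _ => Submodule.smul_mem _ _ (hzi i)
    simp only [LinearMap.comp_apply, LinearEquiv.coe_coe, hsymm, Submodule.liftQ_apply]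
    have hsub : Fintype.linearCombination A (y - z) v - w =
        (Fintype.linearCombination A y v - w) - Fintype.linearCombination A z v := by
      simp only [Fintype.linearCombination_apply, Pi.sub_apply, smul_sub, Finset.sum_sub_distrib]
      abel
    rw [hsub]
    exact sub_mem h1 h2
  -- surjectivity on completions
  have surj : ∀ (P Q : Type u) [AddCommGroup P] [Module A P] [Module.Finite A P] [AddCommGroup Q]
      [Module A Q] [Module.Finite A Q],
      (∀ n : ℕ, Nonempty ((P ⧸ (I ^ n • ⊤ : Submodule A P)) ≃ₗ[A] (Q ⧸ (I ^ n • ⊤ : Submodule A Q)))) →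
      ∃ g : P →ₗ[A] Q, Function.Surjective (AdicCompletion.map I g) := by
    intro P Q _ _ _ _ _ _ hPQ
    obtain ⟨c, hc⟩ := lift P Q
    obtain ⟨e⟩ := hPQ (c + 1)
    obtain ⟨g, hg⟩ := hc (e.toLinearMap ∘ₗ Submodule.mkQ _)
    refine ⟨g, AdicCompletion.map_surjective_of_mkQ_comp_surjective fun q => ?_⟩
    obtain ⟨y, rfl⟩ := Submodule.mkQ_surjective _ q
    obtain ⟨x, hx⟩ := Submodule.Quotient.mk_surjective _ (e.symm (Submodule.Quotient.mk y))
    refine ⟨x, ?_⟩
    rw [LinearMap.comp_apply, Submodule.mkQ_apply, Submodule.mkQ_apply, Submodule.Quotient.eq]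
    exact hg x y (by simp [hx])
  obtain ⟨g, hg⟩ := surj M N h
  obtain ⟨g', hg'⟩ := surj N M fun n => (h n).map LinearEquiv.symm
  have : Module.Finite (AdicCompletion I A) (AdicCompletion I M) :=
    Module.Finite.equiv (AdicCompletion.ofTensorProductEquivOfFiniteNoetherian I M)
  have hinj : Function.Injective (AdicCompletion.map I g' ∘ₗ AdicCompletion.map I g) :=
    OrzechProperty.injective_of_surjective_endomorphism _ (hg'.comp hg)
  exact ⟨LinearEquiv.ofBijective (AdicCompletion.map I g) ⟨Function.Injective.of_comp (f := AdicCompletion.map I g') (by rwa [LinearMap.coe_comp] at hinj), hg⟩⟩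

end Groth.Agent.S7135
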