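import Groth.Statements.S7136
import Mathlib.RingTheory.Filtration
import Mathlib.RingTheory.Finiteness.Cardinality

set_option autoImplicit false
universe u
open CAlg

namespace Groth.Agent.S7136

/-- Let A be a Noetherian ring, I an ideal, and M, N finite A-modules; write N_n = N/IⁿN, so that
Hom_A(M/IⁿM, N_n) = Hom_A(M, N_n). Then (1) the inverse system (Hom_A(M, N_n))_n, with transition
maps induced by the projections N_k → N_n, is Mittag-Leffler; (2) there is c ≥ 0 such that for all n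
the kernel and the cokernel of Hom_A(M, N)/IⁿHom_A(M, N) → Hom_A(M, N_n) are annihilated by I^c. -/
theorem result (A : Type u) [CommRing A] [IsNoetherianRing A]
    (I : Ideal A) (M N : Type u) [AddCommGroup M] [Module A M] [Module.Finite A M] [AddCommGroup N] [Module A N]
    [Module.Finite A N] :
    let Nq : ℕ → Submodule A N := fun n => I ^ n • ⊤
    let pr : ∀ n k : ℕ, n ≤ k → (N ⧸ Nq k) →ₗ[A] (N ⧸ Nq n) :=
      fun n k hnk => Submodule.mapQ (Nq k) (Nq n) (LinearMap.id : N →ₗ[A] N) (Submodule.smul_mono_left (Ideal.pow_le_pow_right hnk))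
    let red : ∀ n : ℕ, (M →ₗ[A] N) → (M →ₗ[A] N ⧸ Nq n) := fun n φ => (Nq n).mkQ ∘ₗ φ
    (∀ n : ℕ, ∃ m : ℕ, n ≤ m ∧ ∀ (k : ℕ) (hmk : m ≤ k) (hnm : n ≤ m) (ψ : M →ₗ[A] N ⧸ Nq m),
        ∃ ψ' : M →ₗ[A] N ⧸ Nq k, pr n k (hnm.trans hmk) ∘ₗ ψ' = pr n m hnm ∘ₗ ψ) ∧
    ∃ c : ℕ, ∀ n : ℕ,
      (∀ φ : M →ₗ[A] N, red n φ = 0 → ∀ a ∈ I ^ c, a • φ ∈ (I ^ n • ⊤ : Submodule A (M →ₗ[A] N))) ∧
      (∀ (ψ : M →ₗ[A] N ⧸ Nq n), ∀ a ∈ I ^ c, ∃ φ : M →ₗ[A] N, red n φ = a • ψ) := by
  classical
  intro Nq pr red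
  obtain ⟨s, p, hp⟩ := Module.Finite.exists_fin' A M
  have pimem : ∀ {ι : Type} [Fintype ι] (y : ι → N) (n : ℕ), (∀ i, y i ∈ (I ^ n • ⊤ : Submodule A N)) →
      y ∈ (I ^ n • ⊤ : Submodule A (ι → N)) := by
    intro ι _ y n hy
    rw [← Finset.univ_sum_single y]
    refine Submodule.sum_mem _ fun l _ => ?_
    have hm := Submodule.mem_map_of_mem (f := LinearMap.single A (fun _ : ι => N) l) (hy l)
    rw [Submodule.map_smul''] at hm
    exact Submodule.smul_mono le_rfl le_top hm
  -- kernels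
  let ev : (M →ₗ[A] N) →ₗ[A] (Fin s → N) :=
    LinearMap.pi fun i => LinearMap.applyₗ (p (Pi.single i 1))
  have hev : Function.Injective ev := by
    intro φ ψ h
    have : φ ∘ₗ p = ψ ∘ₗ p := by
      refine LinearMap.pi_ext fun i r => ?_
      have hi := congrFun h i
      simp only [ev, LinearMap.pi_apply, LinearMap.applyₗ_apply_apply] at hi
      rw [show (Pi.single i r : Fin s → A) = r • Pi.single i 1 by rw [← Pi.single_smul, smul_eq_mul, mul_one]]
      simp only [LinearMap.comp_apply, map_smul, hi]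
    exact LinearMap.ext fun x => by obtain ⟨v, rfl⟩ := hp x; exact LinearMap.congr_fun this v
  obtain ⟨c₁, hc₁⟩ := Ideal.exists_pow_inf_eq_pow_smul I (LinearMap.range ev)
  -- lifting
  have lift : ∃ c : ℕ, ∀ m, c ≤ m → ∀ φ : M →ₗ[A] N ⧸ Nq m, ∃ g : M →ₗ[A] N,
      ∀ (x : M) (y : N), Submodule.Quotient.mk y = φ x → g x - y ∈ (I ^ (m - c) • ⊤ : Submodule A N) := by
    obtain ⟨t, k, hk⟩ := Submodule.fg_iff_exists_fin_generating_family.1
      (IsNoetherian.noetherian (LinearMap.ker p))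
    let L : (Fin s → N) →ₗ[A] (Fin t → N) :=
      LinearMap.pi fun l => ∑ i, k l i • LinearMap.proj i
    obtain ⟨c, hc⟩ := Ideal.exists_pow_inf_eq_pow_smul I (LinearMap.range L)
    refine ⟨c, fun m hm φ => ?_⟩
    choose y hy using fun i => Submodule.Quotient.mk_surjective _ (φ (p (Pi.single i 1)))
    have hφ : ∀ v : Fin s → A, φ (p v) = Submodule.Quotient.mk (Fintype.linearCombination A y v) := by
      intro v
      conv_lhs => rw [show v = ∑ i, v i • (Pi.single i 1 : Fin s → A) by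
        funext j; simp [Finset.sum_apply, Pi.single_apply]]
      simp only [map_sum, map_smul, ← hy, Fintype.linearCombination_apply, ← Submodule.mkQ_apply]
    have hLy : L y ∈ I ^ m • (⊤ : Submodule A (Fin t → N)) := pimem _ _ fun l => by
      rw [← Submodule.Quotient.mk_eq_zero, show L y l = Fintype.linearCombination A y (k l) by
        simp [L, Fintype.linearCombination_apply], ← hφ,
        show p (k l) = 0 from LinearMap.mem_ker.1 (hk ▸ Submodule.subset_span ⟨l, rfl⟩), map_zero]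
    have hmem := (hc m hm).le (Submodule.mem_inf.2 ⟨hLy, LinearMap.mem_range_self L y⟩)
    have hmem' := Submodule.smul_mono (le_refl (I ^ (m - c))) inf_le_right hmem
    rw [LinearMap.range_eq_map, ← Submodule.map_smul''] at hmem'
    obtain ⟨z, hz, hzy⟩ := hmem'
    have hzi : ∀ i, z i ∈ (I ^ (m - c) • ⊤ : Submodule A N) := fun i => by
      have hm := Submodule.mem_map_of_mem (f := (LinearMap.proj i : (Fin s → N) →ₗ[A] N)) hz
      rw [Submodule.map_smul''] at hm
      exact Submodule.smul_mono le_rfl le_top hm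
    have hker : LinearMap.ker p ≤ LinearMap.ker (Fintype.linearCombination A (y - z)) := by
      rw [← hk, Submodule.span_le]
      rintro _ ⟨l, rfl⟩
      rw [SetLike.mem_coe, LinearMap.mem_ker]
      have := congrFun (show L (y - z) = 0 by rw [map_sub, hzy, sub_self]) l
      simpa [L, Fintype.linearCombination_apply] using this
    refine ⟨(LinearMap.ker p).liftQ _ hker ∘ₗ (p.quotKerEquivOfSurjective hp).symm.toLinearMap, ?_⟩
    intro x w hw
    obtain ⟨v, rfl⟩ := hp x
    have hsymm : (p.quotKerEquivOfSurjective hp).symm (p v) = Submodule.Quotient.mk v := by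
      rw [LinearEquiv.symm_apply_eq]
      simp
    have h1 : Fintype.linearCombination A y v - w ∈ (I ^ (m - c) • ⊤ : Submodule A N) := by
      refine Submodule.smul_mono_left (Ideal.pow_le_pow_right (Nat.sub_le m c)) ?_
      rw [← Submodule.Quotient.eq, hw, hφ]
    have h2 : Fintype.linearCombination A z v ∈ (I ^ (m - c) • ⊤ : Submodule A N) := by
      rw [Fintype.linearCombination_apply]
      exact Submodule.sum_mem _ fun i _ => Submodule.smul_mem _ _ (hzi i)
    simp only [LinearMap.comp_apply, LinearEquiv.coe_coe, hsymm, Submodule.liftQ_apply]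
    have hsub : Fintype.linearCombination A (y - z) v - w =
        (Fintype.linearCombination A y v - w) - Fintype.linearCombination A z v := by
      simp only [Fintype.linearCombination_apply, Pi.sub_apply, smul_sub, Finset.sum_sub_distrib]
      abel
    rw [hsub]
    exact sub_mem h1 h2
  obtain ⟨c₂, hc₂⟩ := lift
  refine ⟨fun n => ⟨n + c₂, Nat.le_add_right _ _, fun k hmk hnm ψ => ?_⟩, max c₁ c₂, fun n => ⟨?_, ?_⟩⟩
  · obtain ⟨g, hg⟩ := hc₂ _ (Nat.le_add_left _ _) ψ
    refine ⟨red k g, LinearMap.ext fun x => ?_⟩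
    obtain ⟨y, hy⟩ := Submodule.Quotient.mk_surjective _ (ψ x)
    simp only [pr, red, LinearMap.comp_apply, Submodule.mkQ_apply, Submodule.mapQ_apply, LinearMap.id_apply, ← hy]
    rw [Submodule.Quotient.eq]
    have := hg x y hy
    rwa [Nat.add_sub_cancel] at this
  · intro φ hφ a ha
    by_cases hn : n ≤ max c₁ c₂
    · exact Submodule.smul_mem_smul (Ideal.pow_le_pow_right hn ha) Submodule.mem_top
    have hφn : ∀ i, ev φ i ∈ (I ^ n • ⊤ : Submodule A N) := fun i =>
      (Submodule.Quotient.mk_eq_zero _).1 (LinearMap.congr_fun hφ (p (Pi.single i 1)))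
    have hmem := (hc₁ n (by omega)).le (Submodule.mem_inf.2 ⟨pimem _ _ hφn, LinearMap.mem_range_self ev φ⟩)
    have hmem' := Submodule.smul_mono (le_refl (I ^ (n - c₁))) inf_le_right hmem
    rw [LinearMap.range_eq_map, ← Submodule.map_smul''] at hmem'
    obtain ⟨z, hz, hzy⟩ := hmem'
    obtain rfl := hev hzy
    have h1 := Submodule.smul_mem_smul (Ideal.pow_le_pow_right (le_max_left c₁ c₂) ha) hz
    rwa [← mul_smul, ← pow_add, show c₁ + (n - c₁) = n by omega] at h1
  · intro ψ a ha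
    have ha' : a ∈ I ^ c₂ := Ideal.pow_le_pow_right (le_max_right c₁ c₂) ha
    let μ : (N ⧸ Nq n) →ₗ[A] N ⧸ Nq (n + c₂) := Submodule.mapQ _ _ (a • LinearMap.id) (by
      intro y hy
      show a • y ∈ (I ^ (n + c₂) • ⊤ : Submodule A N)
      rw [pow_add, mul_comm, mul_smul]
      exact Submodule.smul_mem_smul ha' hy)
    obtain ⟨g, hg⟩ := hc₂ _ (Nat.le_add_left _ _) (μ ∘ₗ ψ)
    refine ⟨g, LinearMap.ext fun x => ?_⟩
    obtain ⟨y, hy⟩ := Submodule.Quotient.mk_surjective _ (ψ x)
    simp only [red, LinearMap.comp_apply, Submodule.mkQ_apply, LinearMap.smul_apply, ← hy, ← Submodule.Quotient.mk_smul]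
    rw [Submodule.Quotient.eq]
    have := hg x (a • y) (by rw [LinearMap.comp_apply, ← hy]; rfl)
    rwa [Nat.add_sub_cancel] at this

end Groth.Agent.S7136
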