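import Groth.Statements.S7137
import Groth.Agent.L03.AuslanderBuchsbaum
import Mathlib.RingTheory.Finiteness.Projective
import Mathlib.RingTheory.Ideal.Maps

set_option autoImplicit false
universe u
open CategoryTheory
open CAlg

open CategoryTheory in
theorem key {R : Type u} [CommRing R] (M : Type u) [AddCommGroup M] [Module R M] [Nontrivial M]
    (h : projectiveDimension (ModuleCat.of R M) ≠ ⊤) :
    ∃ e : ℕ, (HasProjectiveDimensionLE (ModuleCat.of R M) e ∧ ∀ e' < e, ¬ HasProjectiveDimensionLE (ModuleCat.of R M) e') ∧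
      projectiveDimension (ModuleCat.of R M) = e := by
  obtain ⟨e, he⟩ : ∃ e : ℕ, projectiveDimension (ModuleCat.of R M) = e := by
    generalize hP : projectiveDimension (ModuleCat.of R M) = P at h
    induction P with
    | bot =>
      rw [projectiveDimension_eq_bot_iff] at hP
      exact absurd (ModuleCat.subsingleton_of_isZero hP) (not_subsingleton M)
    | coe a =>
      induction a with
      | top => exact absurd rfl h
      | coe e => exact ⟨e, rfl⟩
  refine ⟨e, ⟨(projectiveDimension_le_iff _ e).1 he.le, fun e' he' hle => ?_⟩, he⟩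
  have h1 := (projectiveDimension_le_iff _ e').2 hle
  rw [he] at h1
  have : e ≤ e' := by exact_mod_cast h1
  omega

open CategoryTheory in
theorem changeRings {R : Type u} [CommRing R] (S : Type u) [CommRing S] [Algebra R S] [IsNoetherianRing S]
    {p : ℕ} (hp : HasProjectiveDimensionLE (ModuleCat.of R S) p) :
    ∀ (q : ℕ) (E : Type u) [AddCommGroup E] [Module S E] [Module R E] [IsScalarTower R S E] [Module.Finite S E],
      HasProjectiveDimensionLE (ModuleCat.of S E) q → HasProjectiveDimensionLE (ModuleCat.of R E) (p + q) := by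
  have hfree : ∀ n : ℕ, HasProjectiveDimensionLE (ModuleCat.of R (Fin n → S)) p := by
    intro n
    induction n with
    | zero =>
      haveI := (ModuleCat.isZero_of_subsingleton (ModuleCat.of R (Fin 0 → S))).hasProjectiveDimensionLT_zero
      exact hasProjectiveDimensionLT_of_ge _ 0 _ (Nat.zero_le _)
    | succ n ih =>
      let T : ShortComplex (ModuleCat.{u} R) := ShortComplex.mk (ModuleCat.ofHom (LinearMap.inl R S (Fin n → S)))
        (ModuleCat.ofHom (LinearMap.snd R S (Fin n → S))) (by ext x; rfl)
      have hT : T.ShortExact :=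
        { exact := (ShortComplex.moduleCat_exact_iff _).mpr fun x hx => ⟨x.1, Prod.ext rfl hx.symm⟩
          mono_f := (ModuleCat.mono_iff_injective _).mpr LinearMap.inl_injective
          epi_g := (ModuleCat.epi_iff_surjective _).mpr LinearMap.snd_surjective }
      haveI : HasProjectiveDimensionLT T.X₂ (p + 1) := hT.hasProjectiveDimensionLT_X₂ (p + 1) hp ih
      exact hasProjectiveDimensionLT_of_iso (X := T.X₂) (Fin.consLinearEquiv R fun _ : Fin (n + 1) => S).toModuleIso (p + 1)
  intro q
  induction q with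
  | zero =>
    intro E _ _ _ _ _ hE
    haveI : Projective (ModuleCat.of S E) := (projective_iff_hasProjectiveDimensionLE_zero _).2 hE
    haveI : Module.Projective S E := (IsProjective.iff_projective (ModuleCat.of S E)).2 inferInstance
    obtain ⟨n, r, ι, -, -, hri⟩ := Module.Finite.exists_comp_eq_id_of_projective S E
    haveI := hfree n
    exact Retract.hasProjectiveDimensionLT (Y := ModuleCat.of R (Fin n → S))
      { i := ModuleCat.ofHom (ι.restrictScalars R), r := ModuleCat.ofHom (r.restrictScalars R),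
        retract := by ext x; exact LinearMap.congr_fun hri x } (p + 1)
  | succ q ih =>
    intro E _ _ _ _ _ hE
    obtain ⟨n, g, hg⟩ := Module.Finite.exists_fin' S E
    let T : ShortComplex (ModuleCat.{u} S) := ShortComplex.mk (ModuleCat.ofHom (LinearMap.ker g).subtype)
      (ModuleCat.ofHom g) (by ext x; simp)
    have hT : T.ShortExact :=
      { exact := (ShortComplex.moduleCat_exact_iff _).mpr fun x hx => ⟨⟨x, hx⟩, rfl⟩
        mono_f := (ModuleCat.mono_iff_injective _).mpr Subtype.val_injective
        epi_g := (ModuleCat.epi_iff_surjective _).mpr hg }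
    have hK : HasProjectiveDimensionLE (ModuleCat.of S (LinearMap.ker g)) q :=
      (hT.hasProjectiveDimensionLT_X₃_iff q ((IsProjective.iff_projective T.X₂).1 (inferInstanceAs (Module.Projective S (Fin n → S))))).1 hE
    have hK' := ih (LinearMap.ker g) hK
    let U : ShortComplex (ModuleCat.{u} R) := ShortComplex.mk (ModuleCat.ofHom ((LinearMap.ker g).subtype.restrictScalars R))
      (ModuleCat.ofHom (g.restrictScalars R)) (by ext x; simp)
    have hU : U.ShortExact :=
      { exact := (ShortComplex.moduleCat_exact_iff _).mpr fun x hx => ⟨⟨x, hx⟩, rfl⟩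
        mono_f := (ModuleCat.mono_iff_injective _).mpr Subtype.val_injective
        epi_g := (ModuleCat.epi_iff_surjective _).mpr hg }
    haveI := hfree n
    exact hU.hasProjectiveDimensionLT_X₃ (p + q + 1) hK' (hasProjectiveDimensionLT_of_ge _ (p + 1) _ (by omega))


namespace Groth.Agent.S7137

/-- Take a Noetherian local ring R, an ideal I and a finite module E ≠ 0 over R/I. Suppose that R/I, as
an R-module, and E, as an R/I-module, both have finite projective dimension. Then E, as an R-module,
has finite projective dimension too, and it equals pd_R(R/I) + pd_{R/I}(E). -/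
theorem result (R : Type u) [CommRing R] [IsNoetherianRing R] [IsLocalRing R]
    (I : Ideal R) (E : Type u) [AddCommGroup E] [Module (R ⧸ I) E] [Module R E] [IsScalarTower R (R ⧸ I) E]
    [Module.Finite (R ⧸ I) E] [Nontrivial E]
    (h1 : projectiveDimension (ModuleCat.of R (R ⧸ I)) ≠ ⊤)
    (h2 : projectiveDimension (ModuleCat.of (R ⧸ I) E) ≠ ⊤) :
    projectiveDimension (ModuleCat.of R E) ≠ ⊤ ∧
      projectiveDimension (ModuleCat.of R E) =
        projectiveDimension (ModuleCat.of R (R ⧸ I)) + projectiveDimension (ModuleCat.of (R ⧸ I) E) := by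
  classical
  haveI : Nontrivial (R ⧸ I) := by
    by_contra h
    rw [not_nontrivial_iff_subsingleton] at h
    exact not_subsingleton E (Module.subsingleton (R ⧸ I) E)
  haveI : IsLocalRing (R ⧸ I) := IsLocalRing.of_surjective' (Ideal.Quotient.mk I) Ideal.Quotient.mk_surjective
  haveI : IsLocalHom (algebraMap R (R ⧸ I)) := IsLocalHom.of_surjective _ Ideal.Quotient.mk_surjective
  haveI : Module.Finite R E := Module.Finite.trans (R ⧸ I) E
  obtain ⟨p, hp, hp'⟩ := key (R := R) (R ⧸ I) h1
  obtain ⟨q, hq, hq'⟩ := key (R := R ⧸ I) E h2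
  have hcr : HasProjectiveDimensionLE (ModuleCat.of R E) (p + q) := changeRings (R ⧸ I) hp.1 q E hq.1
  have hE : projectiveDimension (ModuleCat.of R E) ≠ ⊤ := by
    intro ht
    have := (projectiveDimension_le_iff _ (p + q)).2 hcr
    rw [ht, top_le_iff] at this
    exact absurd this (fun h => ENat.natCast_ne_top (p + q) (WithBot.coe_injective (show ((((p + q : ℕ) : ℕ∞)) : WithBot ℕ∞) = ((⊤ : ℕ∞) : WithBot ℕ∞) from h)))
  obtain ⟨r, hr, hr'⟩ := key (R := R) E hE
  refine ⟨hE, ?_⟩
  rw [hr', hp', hq']
  have e1 := Groth.L03.AB.auslander_buchsbaum p (R ⧸ I) hp.1 hp.2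
  have e2 := Groth.L03.AB.auslander_buchsbaum q E hq.1 hq.2
  have e3 := Groth.L03.AB.auslander_buchsbaum r E hr.1 hr.2
  have hmap : (IsLocalRing.maximalIdeal R).map (algebraMap R (R ⧸ I)) = IsLocalRing.maximalIdeal (R ⧸ I) :=
    ((IsLocalRing.eq_maximalIdeal (Ideal.IsMaximal.map_of_surjective_of_ker_le (f := algebraMap R (R ⧸ I)) Ideal.Quotient.mk_surjective (IsLocalRing.le_maximalIdeal (RingHom.ker_ne_top _)))))
  have c1 : LocCoh.depth R (R ⧸ I) = LocCoh.depth (R ⧸ I) (R ⧸ I) := by
    unfold LocCoh.depth
    rw [Groth.L04.idealDepth_eq_idealDepth_map_of_finite (B := R ⧸ I), hmap]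
  have c2 : LocCoh.depth R E = LocCoh.depth (R ⧸ I) E := by
    unfold LocCoh.depth
    rw [Groth.L04.idealDepth_eq_idealDepth_map_of_finite (B := R ⧸ I), hmap]
  rw [c1, e2] at e1
  rw [c2] at e3
  obtain ⟨dE, hdE⟩ := WithTop.ne_top_iff_exists.1 (Groth.L03.AB.depth_ne_top (R := R ⧸ I) E)
  obtain ⟨dR, hdR⟩ := WithTop.ne_top_iff_exists.1 (Groth.L03.AB.depth_ne_top (R := R) R)
  rw [← hdE, ← hdR] at e1 e3
  have n1 : dR = p + (q + dE) := by
    change (dR : ℕ∞) = (p : ℕ∞) + ((q : ℕ∞) + (dE : ℕ∞)) at e1
    exact_mod_cast e1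
  have n3 : dR = r + dE := by
    change (dR : ℕ∞) = (r : ℕ∞) + (dE : ℕ∞) at e3
    exact_mod_cast e3
  exact_mod_cast (by omega : r = p + q)

end Groth.Agent.S7137
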