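import Groth.Statements.S7141
import Groth.Agent.L05.WE.Max

set_option autoImplicit false
universe u
open EtAlg

namespace Groth.Agent.S7141

/-- Let K be a field and, for a K-algebra A, let B_max(A) be its largest weakly étale K-subalgebra. (2)
For a K-subalgebra A' ⊆ A one has B_max(A') = B_max(A) ∩ A'. (4) The quotient map A → A_red =
A/nilradical restricts to a bijection B_max(A) → B_max(A_red). (6) If A ≠ 0 and its only idempotents
are 0 and 1, then B_max(A) is a field, algebraic and separable over K. (The published statement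
omits A ≠ 0; this row assumes it, since for A = 0 the largest weakly étale subalgebra is the zero
ring.) -/
theorem result (K : Type u) [Field K] (A : Type u) [CommRing A] [Algebra K A] :
    (∀ A' : Subalgebra K A,
      (EtAlgD.maxWeaklyEtale K A').map A'.val = EtAlgD.maxWeaklyEtale K A ⊓ A') ∧
    (Set.BijOn (Ideal.Quotient.mkₐ K (nilradical A)) (EtAlgD.maxWeaklyEtale K A)
      (EtAlgD.maxWeaklyEtale K (A ⧸ nilradical A))) ∧
    ((∀ e : A, IsIdempotentElem e → e = 0 ∨ e = 1) → Nontrivial A →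
      IsField (EtAlgD.maxWeaklyEtale K A) ∧ Algebra.IsSeparable K (EtAlgD.maxWeaklyEtale K A)) := by
  rw [Groth.L05.WE.maxWeaklyEtale_eq (K := K) (A := A ⧸ nilradical A), Groth.L05.WE.maxWeaklyEtale_eq (K := K) (A := A)]
  refine ⟨fun A' => ?_, Groth.L05.WE.bijOn_sep_quotient_nilradical, fun he hne => ?_⟩
  · rw [Groth.L05.WE.maxWeaklyEtale_eq (K := K) (A := A')]
    ext x
    constructor
    · rintro ⟨y, hy, rfl⟩
      exact Algebra.mem_inf.mpr ⟨Groth.L05.WE.IsSepRoot.map hy A'.val, y.2⟩
    · intro hx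
      obtain ⟨h1, h2⟩ := Algebra.mem_inf.mp hx
      exact ⟨⟨x, h2⟩, Groth.L05.WE.IsSepRoot.of_map A'.val Subtype.val_injective h1, rfl⟩
  · refine ⟨⟨⟨0, 1, zero_ne_one⟩, mul_comm, fun {z} hz => ?_⟩, ⟨fun x => ?_⟩⟩
    · obtain ⟨y, hy, hzy⟩ := Groth.L05.WE.exists_inverse_of_connected he z.2
        fun h => hz (Subtype.ext h)
      exact ⟨⟨y, hy⟩, Subtype.ext hzy⟩
    · exact (Groth.L05.WE.IsSepRoot.of_map (Groth.L05.WE.sepSubalgebra K A).val
        Subtype.val_injective x.2).isSeparable

end Groth.Agent.S7141
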