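import Groth.Statements.S7143
import Groth.Agent.L05.WeakDim.Pi
import Mathlib.Algebra.Category.Ring.Epi
import Mathlib.RingTheory.RingHom.Flat
import Mathlib.RingTheory.IntegralClosure.IntegrallyClosed

set_option autoImplicit false
universe u
open CategoryTheory
open EtAlg

namespace Groth.Agent.S7143

/-- Every normal domain A with fraction field K is the fibre product V ×_L K for suitable rings V and L
with maps A → V, V → L, K → L (together with the given A → K), where every ideal of V is flat (weak
dimension at most one) and V → L is flat, injective and an epimorphism of rings. -/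
theorem result (A K : Type u) [CommRing A] [IsDomain A] [Field K] [Algebra A K]
    [IsFractionRing A K] [IsIntegrallyClosed A] :
    ∃ (V L : Type u) (_ : CommRing V) (_ : CommRing L) (f : A →+* V) (g : V →+* L) (h : K →+* L),
      g.comp f = h.comp (algebraMap A K) ∧
      (∀ I : Ideal V, Module.Flat V I) ∧ g.Flat ∧ Function.Injective g ∧ Epi (CommRingCat.ofHom g) ∧
      ∀ (v : V) (k : K), g v = h k → ∃! a : A, f a = v ∧ algebraMap A K a = k := by
  classical
  let J := {W : ValuationSubring K // ∀ a : A, algebraMap A K a ∈ W}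
  let f : A →+* ((j : J) → j.1) := Pi.ringHom fun j => (algebraMap A K).codRestrict j.1.toSubring j.2
  let g : ((j : J) → j.1) →+* (J → K) := algebraMap _ _
  haveI := Groth.L05.WeakDim.isLocalization_pi (fun j : J => j.1) (fun _ => K)
  refine ⟨(j : J) → j.1, J → K, inferInstance, inferInstance, f, g, Pi.ringHom fun _ => RingHom.id K,
    RingHom.ext fun a => funext fun j => rfl, fun I => Groth.L05.WeakDim.flat_pi _ I, ?_, ?_, ?_, ?_⟩
  · rw [RingHom.flat_algebraMap_iff]
    exact IsLocalization.flat _ (nonZeroDivisors _)
  · exact IsLocalization.injective (J → K) le_rfl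
  · refine ⟨fun {T} φ ψ h => CommRingCat.hom_ext (IsLocalization.ringHom_ext (nonZeroDivisors ((j : J) → j.1)) ?_)⟩
    exact congrArg CommRingCat.Hom.hom h
  · intro v k hvk
    have hk : k ∈ (integralClosure (Subring.closure (Set.range (algebraMap A K))) K).toSubring := by
      rw [← iInf_valuationSubring_superset]
      simp only [Subring.mem_iInf]
      intro W
      have := congrFun hvk ⟨W.1, fun a => W.2 ⟨a, rfl⟩⟩
      rw [show k = (Pi.ringHom (fun _ : J => RingHom.id K) k) ⟨W.1, fun a => W.2 ⟨a, rfl⟩⟩ from rfl, ← this]
      exact (v ⟨W.1, fun a => W.2 ⟨a, rfl⟩⟩).2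
    rw [← RingHom.coe_range, Subring.closure_eq] at hk
    have hk' : IsIntegral A k := by
      have hk1 : IsIntegral (algebraMap A K).range k := hk
      obtain ⟨p, hp, hp0⟩ := hk1
      obtain ⟨q, hq, hq1, hq2⟩ := Polynomial.lifts_and_natDegree_eq_and_monic
        (Polynomial.map_surjective (algebraMap A K).rangeRestrict (algebraMap A K).rangeRestrict_surjective p) hp
      exact ⟨q, hq2, by rw [← hp0, ← hq, Polynomial.eval₂_map]; rfl⟩
    obtain ⟨a, ha⟩ := IsIntegrallyClosed.isIntegral_iff.mp hk'
    refine ⟨a, ⟨funext fun j => Subtype.ext ?_, ha⟩, fun b hb => IsFractionRing.injective A K (hb.2.trans ha.symm)⟩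
    show algebraMap A K a = (v j : K)
    rw [ha]
    exact (congrFun hvk j).symm

end Groth.Agent.S7143
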