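import Groth.Statements.S7144
import Mathlib.RingTheory.Valuation.ValuationRing
import Mathlib.RingTheory.Bezout

set_option autoImplicit false
universe u
open CAlg

namespace Groth.Agent.S7144

/-- (1) ⇔ (2): let R be a nonzero ring. Then for all a, b in R one of a, b divides the other if and only
if R is local and every finitely generated ideal of R is principal. (The further equivalence with
the total ordering of the set of ideals by inclusion is standard and not restated here.) -/
theorem result (R : Type u) [CommRing R] [Nontrivial R] :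
    PreValuationRing R ↔ IsLocalRing R ∧ IsBezout R := by
  constructor
  · intro hR
    have hloc : IsLocalRing R := IsLocalRing.of_isUnit_or_isUnit_of_isUnit_add fun a b hab => by
      obtain ⟨u, hu⟩ := hab
      obtain ⟨c, h | h⟩ := PreValuationRing.cond a b
      · left
        refine isUnit_of_dvd_unit ⟨1 + c, ?_⟩ u.isUnit
        rw [hu, ← h, mul_add, mul_one]
      · right
        refine isUnit_of_dvd_unit ⟨1 + c, ?_⟩ u.isUnit
        rw [hu, ← h, mul_add, mul_one, add_comm]
    refine ⟨hloc, IsBezout.iff_span_pair_isPrincipal.2 fun x y => ?_⟩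
    obtain ⟨c, h | h⟩ := PreValuationRing.cond x y
    · refine ⟨⟨x, ?_⟩⟩
      rw [← h]
      exact le_antisymm (Ideal.span_le.2 (by simp [Set.insert_subset_iff, Ideal.mem_span_singleton]))
        (Ideal.span_mono (by simp))
    · refine ⟨⟨y, ?_⟩⟩
      rw [← h]
      exact le_antisymm (Ideal.span_le.2 (by simp [Set.insert_subset_iff, Ideal.mem_span_singleton]))
        (Ideal.span_mono (by simp))
  · rintro ⟨hloc, hbez⟩
    refine PreValuationRing.iff_dvd_total.2 ⟨fun a b => ?_⟩
    obtain ⟨d, hd⟩ := (IsBezout.span_pair_isPrincipal a b).principal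
    have hd' : Ideal.span {a, b} = Ideal.span {d} := hd
    obtain ⟨a', ha⟩ : d ∣ a := Ideal.mem_span_singleton.1 (by rw [← hd']; exact Ideal.subset_span (Set.mem_insert _ _))
    obtain ⟨b', hb⟩ : d ∣ b := Ideal.mem_span_singleton.1 (by rw [← hd']; exact Ideal.subset_span (Set.mem_insert_of_mem _ rfl))
    obtain ⟨x, y, hxy⟩ := Ideal.mem_span_pair.1 (show d ∈ Ideal.span {a, b} by rw [hd']; exact Ideal.mem_span_singleton_self d)
    have key : ∀ a' b' x a b : R, a = d * a' → b = d * b' → IsUnit (x * a') → a ∣ b := by
      intro a' b' x a b ha hb h'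
      obtain ⟨u, rfl⟩ := isUnit_of_mul_isUnit_right h'
      exact ⟨↑u⁻¹ * b', by rw [ha, hb, mul_assoc, ← mul_assoc (u : R), Units.mul_inv, one_mul]⟩
    have h0 : d * (x * a' + y * b') = d := by
      conv_rhs => rw [← hxy, ha, hb]
      ring
    rcases IsLocalRing.isUnit_or_isUnit_one_sub_self (x * a' + y * b') with h | h
    · rcases IsLocalRing.isUnit_or_isUnit_of_isUnit_add h with h' | h'
      · exact Or.inl (key a' b' x a b ha hb h')
      · exact Or.inr (key b' a' y b a hb ha h')
    · have hd0 : d = 0 := by
        refine h.mul_left_eq_zero.1 ?_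
        rw [mul_sub, mul_one, h0, sub_self]
      left
      rw [ha, hd0, zero_mul]
      exact ⟨0, by simp [hb, hd0]⟩

end Groth.Agent.S7144
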