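import Groth.Statements.S7145
import Mathlib.LinearAlgebra.FreeModule.Basic
import Mathlib.Data.Fintype.Order
import Mathlib.RingTheory.Finiteness.Basic
-- import your own Groth.Agent.* helpers here

set_option autoImplicit false
universe u
open CategoryTheory CategoryTheory.Limits
open CAlg

namespace Groth.Agent.S7145

/-- Let R be a ring and F a cochain complex of free R-modules that is zero in all sufficiently large
degrees. Given finitely many elements f_i of F, f_i lying in degree n_i, there is a subcomplex G of
F (a map of complexes G → F injective in every degree) through which every f_i passes, such that G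
is zero outside a finite range of degrees and each term of G is a finitely generated free R-module. -/
theorem result (R : Type u) [CommRing R]
    (F : CochainComplex (ModuleCat.{u} R) ℤ) (hfree : ∀ n : ℤ, Module.Free R (F.X n))
    (b : ℤ) (hb : ∀ n : ℤ, b < n → IsZero (F.X n))
    (N : ℕ) (deg : Fin N → ℤ) (f : ∀ i : Fin N, F.X (deg i)) :
    ∃ (G : CochainComplex (ModuleCat.{u} R) ℤ) (ι : G ⟶ F),
      (∀ n : ℤ, Function.Injective (ι.f n)) ∧
      (∃ a c : ℤ, ∀ n : ℤ, (n < a ∨ c < n) → IsZero (G.X n)) ∧
      (∀ n : ℤ, Module.Finite R (G.X n) ∧ Module.Free R (G.X n)) ∧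
      ∀ i : Fin N, f i ∈ Set.range (ι.f (deg i)) := by
  classical
  let B := fun n : ℤ => Module.Free.chooseBasis R (F.X n)
  -- the lowest degree
  obtain ⟨a, ha⟩ : ∃ a : ℤ, ∀ i, a ≤ deg i := by
    obtain ⟨m, hm⟩ := (Set.finite_range deg).bddBelow
    exact ⟨m, fun i => hm ⟨i, rfl⟩⟩
  let ι₀ := fun n : ℤ => Module.Free.ChooseBasisIndex R (F.X n)
  let base : ∀ n : ℤ, Finset (ι₀ n) := fun n => Finset.univ.biUnion fun i : Fin N =>
    if h : deg i = n then ((B n).repr (h ▸ f i)).support else ∅
  let push : ∀ n m : ℤ, Finset (ι₀ n) → Finset (ι₀ m) := fun n m S =>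
    S.biUnion fun j => ((B m).repr ((F.d n m).hom (B n j))).support
  let t : ∀ k : ℕ, Finset (ι₀ (a + k)) := fun k => Nat.rec (base _)
    (fun k S => base _ ∪ push (a + k) (a + (k + 1 : ℕ)) S) k
  let s : ∀ n : ℤ, Finset (ι₀ n) := fun n =>
    if h : a ≤ n then (show a + ((n - a).toNat : ℤ) = n by omega) ▸ t (n - a).toNat else ∅
  have hst : ∀ k : ℕ, s (a + k) = t k := by
    intro k
    simp only [s, dif_pos (show a ≤ a + (k : ℤ) by omega)]
    have key : ∀ (j : ℕ) (e : a + (j : ℤ) = a + k), (e ▸ t j : Finset (ι₀ (a + k))) = t k := by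
      intro j e
      obtain rfl : j = k := by omega
      rfl
    exact key _ _
  let W : ∀ n : ℤ, Submodule R (F.X n) := fun n => Submodule.span R (B n '' (s n : Set (ι₀ n)))
  have hbase : ∀ i, f i ∈ W (deg i) := by
    intro i
    have key : ∀ (n : ℤ) (h : deg i = n), (h ▸ f i : F.X n) ∈ W n := by
      intro n h
      obtain ⟨k, rfl⟩ : ∃ k : ℕ, n = a + k := ⟨(n - a).toNat, by have := ha i; omega⟩
      refine (B _).mem_span_image.2 fun x hx => ?_
      have hb : x ∈ base (a + k) :=
        Finset.mem_biUnion.2 ⟨i, Finset.mem_univ i, by rw [dif_pos h]; exact hx⟩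
      rw [Finset.mem_coe, hst]
      cases k with
      | zero => exact hb
      | succ k => exact Finset.mem_union_left _ hb
    exact key _ rfl
  have hd : ∀ n m, ∀ x ∈ W n, (F.d n m).hom x ∈ W m := by
    intro n m x hx
    by_cases hnm : n + 1 = m
    swap
    · rw [F.shape n m hnm]; exact Submodule.zero_mem _
    induction hx using Submodule.span_induction with
    | mem y hy =>
      obtain ⟨j, hj, rfl⟩ := hy
      have han : a ≤ n := by
        by_contra h
        simp only [s, dif_neg h] at hj
        simp at hj
      obtain ⟨k, rfl⟩ : ∃ k : ℕ, n = a + k := ⟨(n - a).toNat, by omega⟩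
      obtain rfl : m = a + (k + 1 : ℕ) := by push_cast; omega
      refine (B _).mem_span_image.2 fun x hx => ?_
      rw [Finset.mem_coe, hst]
      rw [Finset.mem_coe, hst] at hj
      exact Finset.mem_union_right _ (Finset.mem_biUnion.2 ⟨j, hj, hx⟩)
    | zero => rw [map_zero]; exact Submodule.zero_mem _
    | add y z _ _ hy hz => rw [map_add]; exact Submodule.add_mem _ hy hz
    | smul r y _ hy => rw [map_smul]; exact Submodule.smul_mem _ r hy
  let G : CochainComplex (ModuleCat.{u} R) ℤ :=
    { X := fun n => ModuleCat.of R (W n)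
      d := fun n m => ModuleCat.ofHom ((F.d n m).hom.restrict (hd n m))
      shape := fun n m h => by
        ext x
        exact congr($(F.shape n m h).hom (x : F.X n))
      d_comp_d' := fun i j k _ _ => by
        ext x
        exact congr($(F.d_comp_d i j k).hom (x : F.X i)) }
  let ι : G ⟶ F :=
    { f := fun n => ModuleCat.ofHom (W n).subtype
      comm' := fun n m _ => by ext x; rfl }
  refine ⟨G, ι, fun n => Subtype.val_injective, ⟨a, b, fun n hn => ?_⟩, fun n => ⟨?_, ?_⟩,
    fun i => ⟨⟨f i, hbase i⟩, rfl⟩⟩
  · rw [ModuleCat.isZero_iff_subsingleton]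
    rcases hn with hn | hn
    · refine ⟨fun x y => Subtype.ext ?_⟩
      have hW : ∀ z ∈ W n, z = 0 := by
        intro z hz
        simp only [W, s, dif_neg (show ¬ a ≤ n by omega), Finset.coe_empty, Set.image_empty,
          Submodule.span_empty, Submodule.mem_bot] at hz
        exact hz
      rw [hW _ x.2, hW _ y.2]
    · haveI := ModuleCat.subsingleton_of_isZero (hb n hn)
      exact ⟨fun x y => Subtype.ext (Subsingleton.elim _ _)⟩
  · exact Module.Finite.iff_fg.2 (Submodule.fg_span ((s n).finite_toSet.image _))
  · have hli := (B n).linearIndependent.comp (Subtype.val : {x // x ∈ (s n : Set (ι₀ n))} → ι₀ n)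
      Subtype.val_injective
    have e : W n = Submodule.span R (Set.range ((B n) ∘ (Subtype.val : {x // x ∈ (s n : Set (ι₀ n))} → ι₀ n))) := by
      rw [Set.range_comp, Subtype.range_coe_subtype]
      rfl
    exact Module.Free.of_basis ((Module.Basis.span hli).map (LinearEquiv.ofEq _ _ e.symm))

end Groth.Agent.S7145
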