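import Groth.Statements.S7147
import Groth.Agent.L03.SerreSplit
import Mathlib.Algebra.Module.FinitePresentation
import Mathlib.RingTheory.Localization.Away.Basic
import Mathlib.LinearAlgebra.Matrix.NonsingularInverse

set_option autoImplicit false
universe u
open CAlg

namespace Groth.Agent.S7147

/-- Let R be a ring, M a finitely presented R-module and x a maximal ideal of R with residue field κ(x);
write M(x) = M/xM and let B(x) ⊆ M(x) be the orthogonal of the image of Hom_R(M, R) in the dual of
M(x), i.e. the classes of those m in M with φ(m) in x for every linear form φ on M, and V(x) =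
M(x)/B(x). For s_1, ..., s_r in M the following are equivalent: (1) there is f in R, f not in x,
such that the map R_f^r → M_f given by the s_i is the inclusion of a direct summand; (2) the images
of s_1, ..., s_r in V(x) are linearly independent over κ(x). -/
theorem result (R : Type u) [CommRing R] (M : Type u)
    [AddCommGroup M] [Module R M] [Module.FinitePresentation R M] (x : Ideal R) [x.IsMaximal]
    (r : ℕ) (s : Fin r → M) :
    let Mx := M ⧸ (x • ⊤ : Submodule R M)
    let Bx : Submodule (R ⧸ x) Mx :=
      Submodule.span (R ⧸ x) ((x • ⊤ : Submodule R M).mkQ '' {m : M | ∀ φ : M →ₗ[R] R, φ m ∈ x})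
    (∃ f : R, f ∉ x ∧
      ∃ g : LocalizedModule (Submonoid.powers f) M →ₗ[Localization.Away f] (Fin r → Localization.Away f),
        g ∘ₗ Fintype.linearCombination (Localization.Away f)
            (fun i => LocalizedModule.mkLinearMap (Submonoid.powers f) M (s i)) = LinearMap.id) ↔
    LinearIndependent (R ⧸ x) (fun i => Bx.mkQ ((x • ⊤ : Submodule R M).mkQ (s i))) := by
  classical
  intro Mx Bx
  letI := Ideal.Quotient.field x
  refine Iff.trans ?_ (Groth.L03.SerreSplit.linearIndependent_iff_exists_det x s).symm
  constructor
  · rintro ⟨f, hf, g, hg⟩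
    let S := Submonoid.powers f
    let Rf := Localization.Away f
    have hφ : ∀ a, ∃ (φ : M →ₗ[R] R) (c : S), ∀ y, algebraMap R Rf (φ y) =
        algebraMap R Rf c * g (LocalizedModule.mkLinearMap S M y) a := by
      intro a
      obtain ⟨φ, c, hc⟩ := Module.FinitePresentation.exists_lift_of_isLocalizedModule S (Algebra.linearMap R Rf)
        (((LinearMap.proj a ∘ₗ g).restrictScalars R) ∘ₗ LocalizedModule.mkLinearMap S M)
      refine ⟨φ, c, fun y => ?_⟩
      have := LinearMap.congr_fun hc y
      simpa [Submonoid.smul_def, Algebra.smul_def] using this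
    choose φ c hφc using hφ
    refine ⟨φ, fun hd => ?_⟩
    have hmap : (algebraMap R Rf).mapMatrix (Matrix.of fun a b => φ a (s b)) =
        Matrix.diagonal (fun a => algebraMap R Rf (c a)) := by
      ext a b
      rw [RingHom.mapMatrix_apply, Matrix.map_apply, Matrix.of_apply, hφc]
      have := congrFun (LinearMap.congr_fun hg (Pi.single b 1)) a
      simp only [LinearMap.comp_apply, LinearMap.id_apply, Fintype.linearCombination_apply_single,
        one_smul] at this
      rw [this, Pi.single_apply, Matrix.diagonal_apply]
      split <;> simp_all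
    have hu : IsUnit (algebraMap R Rf (Matrix.of fun a b => φ a (s b)).det) := by
      rw [RingHom.map_det, hmap, Matrix.det_diagonal]
      exact IsUnit.prod_univ_iff.2 fun a => IsLocalization.map_units Rf (c a)
    rw [IsLocalization.algebraMap_isUnit_iff (M := S)] at hu
    obtain ⟨_, ⟨N, rfl⟩, q, hq⟩ := hu
    refine hf (Ideal.IsPrime.mem_of_pow_mem inferInstance N ?_)
    rw [show f ^ N = _ from hq]
    exact x.mul_mem_right q hd
  · rintro ⟨φ, hd⟩
    set A : Matrix (Fin r) (Fin r) R := Matrix.of fun a b => φ a (s b) with hA
    let S := Submonoid.powers A.det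
    let Rf := Localization.Away A.det
    refine ⟨A.det, hd, ?_⟩
    let L : LocalizedModule S M →ₗ[R] (Fin r → Rf) :=
      IsLocalizedModule.lift S (LocalizedModule.mkLinearMap S M)
        (LinearMap.pi fun a => Algebra.linearMap R Rf ∘ₗ φ a)
        fun c => by
          rw [Module.End.isUnit_iff]
          have hcu := IsLocalization.map_units Rf c
          refine ⟨fun u v huv => funext fun a => hcu.mul_left_cancel ?_, fun u => ⟨fun a => ↑hcu.unit⁻¹ * u a, funext fun a => ?_⟩⟩
          · simpa [Algebra.smul_def] using congrFun huv a
          · simp [Algebra.smul_def, ← mul_assoc]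
    let L' : LocalizedModule S M →ₗ[Rf] (Fin r → Rf) := L.extendScalarsOfIsLocalization S Rf
    let A' : Matrix (Fin r) (Fin r) Rf := (algebraMap R Rf).mapMatrix A
    have hA' : IsUnit A'.det := by
      rw [← RingHom.map_det]
      exact IsLocalization.Away.algebraMap_isUnit A.det
    refine ⟨(Matrix.mulVecLin A'⁻¹) ∘ₗ L', ?_⟩
    refine LinearMap.pi_ext' fun b => LinearMap.ext_ring ?_
    simp only [LinearMap.comp_apply, LinearMap.coe_single, Fintype.linearCombination_apply_single,
      one_smul, LinearMap.id_apply, Matrix.mulVecLin_apply]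
    have hL : L' (LocalizedModule.mkLinearMap S M (s b)) = A'.mulVec (Pi.single b 1) := by
      rw [Matrix.mulVec_single_one]
      show L (LocalizedModule.mkLinearMap S M (s b)) = _
      rw [show L (LocalizedModule.mkLinearMap S M (s b)) =
        (LinearMap.pi fun a => Algebra.linearMap R Rf ∘ₗ φ a) (s b) from
          IsLocalizedModule.lift_apply S (LocalizedModule.mkLinearMap S M) _ _ (s b)]
      ext a
      simp [A', A, Matrix.col_apply]
    rw [hL, Matrix.mulVec_mulVec, Matrix.nonsing_inv_mul _ hA', Matrix.one_mulVec]

end Groth.Agent.S7147
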