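import Groth.Statements.S7148
import Groth.Agent.L03.ExtPC
import Groth.Agent.L29.Dual.HomD
import Mathlib.Algebra.Homology.DerivedCategory.FullyFaithful

set_option autoImplicit false
universe u
open CategoryTheory
attribute [local instance] HasDerivedCategory.standard
open CAlg

attribute [local instance] HasDerivedCategory.standard

set_option backward.isDefEq.respectTransparency false

namespace Groth.S7148aux
open CategoryTheory CategoryTheory.Limits Groth.L29.HomD

variable {A : Type u} [CommRing A]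

lemma subsingleton_hom_free (F : Type u) [AddCommGroup F] [Module A F] [Module.Projective A F]
    (N : Type u) [AddCommGroup N] [Module A N] (i : ℤ) (hi : 0 < i) :
    Subsingleton (Dual.inD A F ⟶ (Dual.inD A N)⟦i⟧) := by
  let E := (CochainComplex.singleFunctor (ModuleCat.{u} A) 0).obj (ModuleCat.of A F)
  haveI : Projective (ModuleCat.of A F) := (IsProjective.iff_projective F).1 inferInstance
  haveI : ∀ n, Projective (E.X n) := by
    intro n
    by_cases h : n = 0
    · subst h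
      exact Projective.of_iso (HomologicalComplex.singleObjXSelf (ComplexShape.up ℤ) 0 _).symm inferInstance
    · exact (HomologicalComplex.isZero_single_obj_X (ComplexShape.up ℤ) 0 _ n h).projective
  haveI : E.IsKProjective := CochainComplex.isKProjective_of_projective E 0
  let eK : DerivedCategory.Q.obj E ≅ Dual.inD A F := ((Groth.L03.ExtPC.e0 (A := A)).app _).symm
  have hz : Subsingleton (E.X (-i)) := ModuleCat.subsingleton_of_isZero
    (HomologicalComplex.isZero_single_obj_X (ComplexShape.up ℤ) 0 _ (-i) (by omega))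
  refine subsingleton_of_forall_eq 0 fun φ => ?_
  obtain ⟨α, rfl⟩ := Groth.L03.ExtPC.cls_surjective E eK i (-i) (neg_add_cancel i) φ
  have : α = 0 := Subtype.ext (LinearMap.ext fun x => by rw [Subsingleton.elim x 0, map_zero, map_zero])
  rw [this]; exact (Groth.L03.ExtPC.clsL E eK i (-i) (neg_add_cancel i)).map_zero

lemma core {K F M K' F' M' K'' : Type u} [AddCommGroup K] [Module A K] [AddCommGroup F] [Module A F]
    [AddCommGroup M] [Module A M] [AddCommGroup K'] [Module A K'] [AddCommGroup F'] [Module A F']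
    [AddCommGroup M'] [Module A M'] [AddCommGroup K''] [Module A K'']
    (f : K →ₗ[A] F) (g : F →ₗ[A] M) (hf : Function.Injective f) (hg : Function.Surjective g) (hfg : Function.Exact f g)
    (f' : K' →ₗ[A] F') (g' : F' →ₗ[A] M') (hf' : Function.Injective f') (hg' : Function.Surjective g')
    (hfg' : Function.Exact f' g') (a : K' →ₗ[A] K) (b : F' →ₗ[A] F) (c : M' →ₗ[A] M)
    (h₁ : f ∘ₗ a = b ∘ₗ f') (h₂ : g ∘ₗ b = c ∘ₗ g') (jK : K'' →ₗ[A] K) (j : K' →ₗ[A] K'') (ha : jK ∘ₗ j = a)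
    {W W' : Dual.D A} (ν : W' ⟶ W) (i : ℤ) (φ : Dual.inD A K ⟶ W⟦i⟧) (φ' : Dual.inD A K'' ⟶ W'⟦i⟧)
    (hφ : φ' ≫ ν⟦i⟧' = pre W jK i φ) :
    delta W' f' g' hf' hg' hfg' i (pre W' j i φ') ≫ ν⟦i + 1⟧' =
      (sg A).map (ModuleCat.ofHom c) ≫ delta W f g hf hg hfg i φ := by
  let τ : sc f' g' hfg' ⟶ sc f g hfg :=
    { τ₁ := ModuleCat.ofHom a
      τ₂ := ModuleCat.ofHom b
      τ₃ := ModuleCat.ofHom c
      comm₁₂ := ModuleCat.hom_ext h₁
      comm₂₃ := ModuleCat.hom_ext h₂ }
  have hcomm : (sc_shortExact f' g' hf' hg' hfg').singleδ ≫ ((sg A).map (ModuleCat.ofHom a))⟦(1 : ℤ)⟧' =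
      (sg A).map (ModuleCat.ofHom c) ≫ (sc_shortExact f g hf hg hfg).singleδ :=
    (ShortComplex.ShortExact.singleTriangle.map (sc_shortExact f' g' hf' hg' hfg')
      (sc_shortExact f g hf hg hfg) τ).comm₃
  show ((sc_shortExact f' g' hf' hg' hfg').singleδ ≫ ((sg A).map (ModuleCat.ofHom j) ≫ φ')⟦(1 : ℤ)⟧' ≫
      (shiftFunctorAdd' (Dual.D A) i 1 (i + 1) rfl).inv.app W') ≫ ν⟦i + 1⟧' =
    (sg A).map (ModuleCat.ofHom c) ≫ (sc_shortExact f g hf hg hfg).singleδ ≫ φ⟦(1 : ℤ)⟧' ≫
      (shiftFunctorAdd' (Dual.D A) i 1 (i + 1) rfl).inv.app W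
  have hn : (shiftFunctorAdd' (Dual.D A) i 1 (i + 1) rfl).inv.app W' ≫ ν⟦i + 1⟧' =
      (ν⟦i⟧')⟦(1 : ℤ)⟧' ≫ (shiftFunctorAdd' (Dual.D A) i 1 (i + 1) rfl).inv.app W :=
    ((shiftFunctorAdd' (Dual.D A) i 1 (i + 1) rfl).inv.naturality ν).symm
  rw [← reassoc_of% hcomm]
  simp only [Category.assoc]
  rw [hn, ← Functor.map_comp_assoc, ← Functor.map_comp_assoc, Category.assoc, hφ, pre_apply,
    ← Functor.map_comp_assoc (sg A), ← ModuleCat.ofHom_comp, ha]

set_option maxHeartbeats 1000000 in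
theorem step (I : Ideal A) [IsNoetherianRing A] (N : Type u) [AddCommGroup N] [Module A N] (p : ℕ) :
    ∀ (M : Type u) [AddCommGroup M] [Module A M] [Module.Finite A M],
      ∃ c : ℕ, ∀ n : ℕ, c ≤ n → ∀ e : Dual.inD A M ⟶ (Dual.inD A N)⟦(p : ℤ)⟧,
        ∃ e' : Dual.inD A ↥(I ^ n • ⊤ : Submodule A M) ⟶ (Dual.inD A ↥(I ^ (n - c) • ⊤ : Submodule A N))⟦(p : ℤ)⟧,
          e' ≫ ((sg A).map (ModuleCat.ofHom (I ^ (n - c) • ⊤ : Submodule A N).subtype))⟦(p : ℤ)⟧' =
            (sg A).map (ModuleCat.ofHom (I ^ n • ⊤ : Submodule A M).subtype) ≫ e := by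
  induction p with
  | zero =>
    intro M _ _ _
    refine ⟨0, fun n _ e => ?_⟩
    obtain ⟨k, hk⟩ := (sg A).map_surjective (e ≫ (shiftFunctorZero (Dual.D A) ℤ).hom.app _)
    let k' : (I ^ n • ⊤ : Submodule A M) →ₗ[A] (I ^ (n - 0) • ⊤ : Submodule A N) :=
      LinearMap.codRestrict _ (k.hom ∘ₗ (I ^ n • ⊤ : Submodule A M).subtype) fun x => by
        have h := Submodule.mem_map_of_mem (f := k.hom) x.2
        rw [Submodule.map_smul''] at h
        exact Submodule.smul_mono le_rfl le_top h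
    refine ⟨(sg A).map (ModuleCat.ofHom k') ≫ (shiftFunctorZero (Dual.D A) ℤ).inv.app _, ?_⟩
    have he : e = (sg A).map k ≫ (shiftFunctorZero (Dual.D A) ℤ).inv.app _ := by
      rw [hk]
      exact ((Category.assoc _ _ _).trans ((congrArg (e ≫ ·) (Iso.hom_inv_id_app _ _)).trans (Category.comp_id e))).symm
    have hk' : ModuleCat.ofHom k' ≫ ModuleCat.ofHom (I ^ (n - 0) • ⊤ : Submodule A N).subtype =
        ModuleCat.ofHom (I ^ n • ⊤ : Submodule A M).subtype ≫ k := rfl
    rw [he, ← Functor.map_comp_assoc, ← hk', Functor.map_comp_assoc, Category.assoc]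
    congr 1
    exact ((shiftFunctorZero (Dual.D A) ℤ).inv.naturality _).symm
  | succ p ih =>
    intro M _ _ _
    obtain ⟨r, g, hg⟩ := Module.Finite.exists_fin' A M
    let K : Submodule A (Fin r → A) := LinearMap.ker g
    obtain ⟨c', hc'⟩ := ih K
    obtain ⟨c, hc⟩ := Ideal.exists_pow_inf_eq_pow_smul I K
    refine ⟨c + c', fun n hn e => ?_⟩
    have hex : Function.Exact K.subtype g := LinearMap.exact_subtype_ker_map g
    haveI := subsingleton_hom_free (A := A) (Fin r → A) N ((p : ℤ) + 1) (by omega)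
    obtain ⟨φ, rfl⟩ := (exact_right (Dual.inD A N) K.subtype g Subtype.val_injective hg hex (p : ℤ) e).mp
      (Subsingleton.elim _ _)
    obtain ⟨φ', hφ'⟩ := hc' (n - c) (by omega) φ
    -- the sequence of `Iⁿ`
    let K' : Submodule A K := (I ^ n • ⊤ : Submodule A (Fin r → A)).comap K.subtype
    let Fn : Submodule A (Fin r → A) := I ^ n • ⊤
    let Mn : Submodule A M := I ^ n • ⊤
    let f' : K' →ₗ[A] Fn := LinearMap.codRestrict _ (K.subtype ∘ₗ K'.subtype) fun x => x.2
    have hgI : ∀ x : Fn, g x ∈ Mn := fun x => by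
      have h := Submodule.mem_map_of_mem (f := g) x.2
      rw [Submodule.map_smul''] at h
      exact Submodule.smul_mono le_rfl le_top h
    let g' : Fn →ₗ[A] Mn := LinearMap.codRestrict _ (g ∘ₗ Fn.subtype) hgI
    have hf' : Function.Injective f' := fun x y h => Subtype.ext (Subtype.ext (congrArg Subtype.val h :))
    have hg' : Function.Surjective g' := by
      rintro ⟨y, hy⟩
      have h : Fn.map g = Mn := by rw [Submodule.map_smul'', Submodule.map_top, LinearMap.range_eq_top.mpr hg]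
      rw [← h] at hy
      obtain ⟨x, hx, rfl⟩ := hy
      exact ⟨⟨x, hx⟩, rfl⟩
    have hex' : Function.Exact f' g' := by
      intro y
      constructor
      · intro h
        exact ⟨⟨⟨y.1, congrArg Subtype.val h⟩, y.2⟩, rfl⟩
      · rintro ⟨x, rfl⟩
        exact Subtype.ext x.1.2
    have hle : ∀ x : K', (x : K) ∈ (I ^ (n - c) • ⊤ : Submodule A K) := fun x => by
      have h1 : ((x : K) : Fin r → A) ∈ I ^ n • (⊤ : Submodule A (Fin r → A)) ⊓ K := ⟨x.2, x.1.2⟩
      rw [hc n (by omega)] at h1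
      have h2 : ((x : K) : Fin r → A) ∈ I ^ (n - c) • Submodule.map K.subtype ⊤ := by
        rw [Submodule.map_top, Submodule.range_subtype]
        exact Submodule.smul_mono le_rfl inf_le_right h1
      rw [← Submodule.map_smul''] at h2
      obtain ⟨y, hy, hyx⟩ := h2
      obtain rfl : y = (x : K) := Subtype.ext hyx
      exact hy
    let j : K' →ₗ[A] (I ^ (n - c) • ⊤ : Submodule A K) := LinearMap.codRestrict _ K'.subtype hle
    rw [show n - (c + c') = n - c - c' from Nat.sub_add_eq n c c']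
    let jK : ↥(I ^ (n - c) • ⊤ : Submodule A K) →ₗ[A] ↥K := (I ^ (n - c) • ⊤ : Submodule A K).subtype
    let a' : ↥K' →ₗ[A] ↥K := K'.subtype
    have h := @core A _ ↥K (Fin r → A) M ↥K' ↥Fn ↥Mn ↥(I ^ (n - c) • ⊤ : Submodule A K) _ _ _ _ _ _ _ _ _ _ _ _ _ _
      K.subtype g Subtype.val_injective hg hex f' g' hf' hg' hex' a' Fn.subtype Mn.subtype
    exact ⟨_, h (LinearMap.ext fun x => rfl) (LinearMap.ext fun x => rfl) jK j (LinearMap.ext fun x => rfl)
      ((sg A).map (ModuleCat.ofHom (I ^ (n - c - c') • ⊤ : Submodule A N).subtype)) (p : ℤ) φ φ' hφ'⟩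

end Groth.S7148aux

open CategoryTheory

namespace Groth.Agent.S7148

/-- Let A be a Noetherian ring, I an ideal, M a finite A-module and N any A-module. For every p > 0
there is c ≥ 0 such that for all n ≥ c the map Ext^p_A(M, N) → Ext^p_A(IⁿM, N) factors through
Ext^p_A(IⁿM, I^(n-c)N) → Ext^p_A(IⁿM, N). Here Ext^p(X, Y) is the group of morphisms X → Y[p] in
D(A). -/
theorem result (A : Type u) [CommRing A] [IsNoetherianRing A] (I : Ideal A)
    (M N : Type u) [AddCommGroup M] [Module A M] [Module.Finite A M] [AddCommGroup N] [Module A N]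
    (p : ℕ) (hp : 0 < p) :
    ∃ c : ℕ, ∀ n : ℕ, c ≤ n →
      ∀ e : Dual.inD A M ⟶ (Dual.inD A N)⟦(p : ℤ)⟧,
        ∃ e' : Dual.inD A ↥(I ^ n • ⊤ : Submodule A M) ⟶ (Dual.inD A ↥(I ^ (n - c) • ⊤ : Submodule A N))⟦(p : ℤ)⟧,
          e' ≫ ((DerivedCategory.singleFunctor (ModuleCat.{u} A) 0).map
                  (ModuleCat.ofHom (I ^ (n - c) • ⊤ : Submodule A N).subtype))⟦(p : ℤ)⟧' =
            (DerivedCategory.singleFunctor (ModuleCat.{u} A) 0).map
                (ModuleCat.ofHom (I ^ n • ⊤ : Submodule A M).subtype) ≫ e := by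
  exact Groth.S7148aux.step I N p M

end Groth.Agent.S7148
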