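import Groth.Statements.S7149
import Groth.Agent.L03.ExtPC

set_option autoImplicit false
universe u
open CategoryTheory
attribute [local instance] HasDerivedCategory.standard
open CAlg

open CategoryTheory

namespace Groth.Agent.S7149

/-- Let A be a Noetherian ring, I an ideal, K a pseudo-coherent object of D(A) and M a finite A-module.
For each integer p there is c such that for all n ≥ c the image of Ext^p_A(K, IⁿM) → Ext^p_A(K, M)
is contained in I^(n-c)·Ext^p_A(K, M); here Ext^p(K, X) = Hom_{D(A)}(K, X[p]) with its natural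
A-module structure. -/
theorem result (A : Type u) [CommRing A] [IsNoetherianRing A] (I : Ideal A)
    (K : Dual.D A) (hK : DRing.IsPseudoCoherent' A K) (M : Type u) [AddCommGroup M] [Module A M] [Module.Finite A M]
    (p : ℤ) :
    ∃ c : ℕ, ∀ n : ℕ, c ≤ n →
      ∀ e : K ⟶ (Dual.inD A ↥(I ^ n • ⊤ : Submodule A M))⟦p⟧,
        e ≫ ((DerivedCategory.singleFunctor (ModuleCat.{u} A) 0).map
              (ModuleCat.ofHom (I ^ n • ⊤ : Submodule A M).subtype))⟦p⟧' ∈
          (I ^ (n - c) • ⊤ : Submodule A (K ⟶ (Dual.inD A M)⟦p⟧)) := by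
  obtain ⟨E, b, hb, hE, ⟨eK⟩⟩ := hK
  haveI : E.IsKProjective := by
    haveI : E.IsStrictlyLE b := (CochainComplex.isStrictlyLE_iff E b).mpr hb
    haveI : ∀ j, Projective (E.X j) := fun j => by
      haveI := (hE j).2
      exact (IsProjective.iff_projective (E.X j)).1 inferInstance
    exact CochainComplex.isKProjective_of_projective E b
  haveI : ∀ j, Module.Finite A (E.X j) := fun j => (hE j).1
  haveI : ∀ j, Module.Free A (E.X j) := fun j => (hE j).2

  obtain ⟨c, hc⟩ := Groth.L03.ExtPC.exists_mem_smul E eK p (-p) (neg_add_cancel p) (M := M) I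
  refine ⟨c, fun n hn e => ?_⟩
  obtain ⟨α, rfl⟩ := Groth.L03.ExtPC.cls_surjective E eK p (-p) (neg_add_cancel p) e
  rw [← Groth.L03.ExtPC.cls_natural E eK p (-p) (neg_add_cancel p) (I ^ n • ⊤ : Submodule A M).subtype α]
  exact hc n hn _ fun x => (α.1 x).2

end Groth.Agent.S7149
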