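import Groth.Statements.S7150
import Mathlib.Algebra.Field.ULift
import Mathlib.FieldTheory.Finite.Basic
import Mathlib.Algebra.Algebra.ZMod
import Groth.Agent.L03.FieldFS
import Groth.Agent.L06.FormSmoothField2
import Mathlib.Algebra.CharP.Algebra
import Mathlib.FieldTheory.Perfect

set_option autoImplicit false
universe u
open EtAlg

namespace Groth.Agent.S7150

/-- Suppose p is a prime with p·1 = 0 in the local ring A and some power of the maximal ideal of A is
zero. Then the residue map A → κ_A has a section σ : κ_A → A that is a ring map. If moreover A → A'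
is a local homomorphism to another local ring whose maximal ideal has a vanishing power, and the
residue field extension κ_{A'}/κ_A is separable (possibly transcendental, i.e. geometrically
reduced), then for any such σ there is a section σ' : κ_{A'} → A' compatible with σ. -/
theorem result (p : ℕ) (hp : p.Prime) (A : Type u) [CommRing A]
    [IsLocalRing A] [CharP A p] (hnil : ∃ n : ℕ, IsLocalRing.maximalIdeal A ^ n = ⊥) :
    (∃ σ : IsLocalRing.ResidueField A →+* A, (IsLocalRing.residue A).comp σ = RingHom.id _) ∧
    ∀ (A' : Type u) [CommRing A'] [IsLocalRing A'] [Algebra A A'] [IsLocalHom (algebraMap A A')],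
      (∃ n : ℕ, IsLocalRing.maximalIdeal A' ^ n = ⊥) →
      Algebra.IsGeometricallyReduced (IsLocalRing.ResidueField A) (IsLocalRing.ResidueField A') →
      ∀ σ : IsLocalRing.ResidueField A →+* A, (IsLocalRing.residue A).comp σ = RingHom.id _ →
        ∃ σ' : IsLocalRing.ResidueField A' →+* A', (IsLocalRing.residue A').comp σ' = RingHom.id _ ∧
          σ'.comp (IsLocalRing.ResidueField.map (algebraMap A A')) = (algebraMap A A').comp σ := by
  haveI : Fact p.Prime := ⟨hp⟩
  have key : ∀ (k : Type u) [Field k] (L : Type u) [Field L] [Algebra k L] [Algebra.FormallySmooth k L]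
      (R : Type u) [CommRing R] [IsLocalRing R] [Algebra k R] [Algebra k (IsLocalRing.ResidueField R)]
      [IsScalarTower k R (IsLocalRing.ResidueField R)],
      (∃ n : ℕ, IsLocalRing.maximalIdeal R ^ n = ⊥) → ∀ j : L →ₐ[k] IsLocalRing.ResidueField R,
      ∃ τ : L →ₐ[k] R, ∀ x, IsLocalRing.residue R (τ x) = j x := by
    intro k _ L _ _ _ R _ _ _ _ _ hn j
    have hker : IsNilpotent (RingHom.ker
        ((IsScalarTower.toAlgHom k R (IsLocalRing.ResidueField R)) : R →+* IsLocalRing.ResidueField R)) := by
      obtain ⟨n, hn⟩ := hn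
      refine ⟨n, ?_⟩
      rw [show RingHom.ker ((IsScalarTower.toAlgHom k R (IsLocalRing.ResidueField R)) :
        R →+* IsLocalRing.ResidueField R) = IsLocalRing.maximalIdeal R from IsLocalRing.ker_residue, hn]
      rfl
    exact ⟨Algebra.FormallySmooth.liftOfSurjective j _ IsLocalRing.residue_surjective hker,
      fun x => Algebra.FormallySmooth.liftOfSurjective_apply j _ _ hker x⟩
  refine ⟨?_, fun A' _ _ _ _ hn' hg σ hσ => ?_⟩
  · letI : Algebra (ULift.{u} (ZMod p)) A :=
      ((ZMod.castHom (dvd_refl p) A).comp (ULift.ringEquiv : ULift.{u} (ZMod p) ≃+* ZMod p).toRingHom).toAlgebra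
    letI : Algebra (ULift.{u} (ZMod p)) (IsLocalRing.ResidueField A) :=
      ((IsLocalRing.residue A).comp (algebraMap (ULift.{u} (ZMod p)) A)).toAlgebra
    haveI : IsScalarTower (ULift.{u} (ZMod p)) A (IsLocalRing.ResidueField A) :=
      IsScalarTower.of_algebraMap_eq fun _ => rfl
    haveI : PerfectField (ULift.{u} (ZMod p)) := inferInstance
    haveI := Groth.L03.FieldFS.formallySmooth_of_perfectField (ULift.{u} (ZMod p)) (IsLocalRing.ResidueField A)
    obtain ⟨τ, hτ⟩ := key (ULift.{u} (ZMod p)) (IsLocalRing.ResidueField A) A hnil (AlgHom.id _ _)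
    exact ⟨τ.toRingHom, RingHom.ext hτ⟩
  · haveI := hg
    haveI := Groth.L06.FormSmooth.formallySmooth_of_geometricallyReduced
      (IsLocalRing.ResidueField A) (IsLocalRing.ResidueField A')
    let alg0 : Algebra (IsLocalRing.ResidueField A) (IsLocalRing.ResidueField A') := inferInstance
    letI : Algebra (IsLocalRing.ResidueField A) A' := ((algebraMap A A').comp σ).toAlgebra
    letI := alg0
    haveI : IsScalarTower (IsLocalRing.ResidueField A) A' (IsLocalRing.ResidueField A') := by
      refine IsScalarTower.of_algebraMap_eq fun x => ?_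
      have h1 : IsLocalRing.residue A (σ x) = x := RingHom.congr_fun hσ x
      conv_lhs => rw [← h1]
      rfl
    obtain ⟨τ, hτ⟩ := key (IsLocalRing.ResidueField A) (IsLocalRing.ResidueField A') A' hn' (AlgHom.id _ _)
    exact ⟨τ.toRingHom, RingHom.ext hτ, RingHom.ext fun x => τ.commutes x⟩

end Groth.Agent.S7150
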