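import Groth.Statements.S7152
import Mathlib.RingTheory.Localization.Away.Basic
import Mathlib.RingTheory.Finiteness.Ideal
import Mathlib.RingTheory.Finiteness.Basic
import Mathlib.RingTheory.Ideal.Quotient.Operations
import Mathlib.Tactic.LinearCombination
import Mathlib.Tactic.Ring

set_option autoImplicit false
universe u
open EtAlg

namespace Groth.Agent.S7152

variable {A' A : Type u} [CommRing A'] [CommRing A] [Algebra A' A]

theorem exists_conductor [Module.Finite A' A] (f : A') (hf : algebraMap A' A f ∈ nonZeroDivisors A)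
    (hloc : Function.Bijective (IsLocalization.Away.map (Localization.Away f)
      (Localization.Away (algebraMap A' A f)) (algebraMap A' A) f)) :
    ∃ c : ℕ, ∀ a : A, ∃ a' : A', algebraMap A' A a' = algebraMap A' A f ^ c * a := by
  classical
  have hinjA : Function.Injective (algebraMap A (Localization.Away (algebraMap A' A f))) :=
    IsLocalization.injective _ (Submonoid.powers_le.2 hf)
  have hpt : ∀ x : A, ∃ (k : ℕ) (a' : A'), algebraMap A' A a' = algebraMap A' A f ^ k * x := fun x => by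
    obtain ⟨z, hz⟩ := hloc.2 (algebraMap A _ x)
    obtain ⟨⟨a', ⟨_, k, rfl⟩⟩, hk⟩ := IsLocalization.surj (Submonoid.powers f) z
    refine ⟨k, a', hinjA ?_⟩
    have h := congrArg (IsLocalization.Away.map (Localization.Away f) (Localization.Away (algebraMap A' A f)) (algebraMap A' A) f) hk
    rw [map_mul, hz] at h
    simp only [IsLocalization.Away.map, IsLocalization.map_eq] at h
    rw [map_mul, ← map_pow, mul_comm]
    exact h.symm
  choose k a' ha' using hpt
  obtain ⟨s, hs⟩ := (Module.Finite.fg_top : (⊤ : Submodule A' A).FG)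
  refine ⟨s.sup k, fun a => ?_⟩
  have h : a ∈ Submodule.span A' (s : Set A) := hs ▸ trivial
  induction h using Submodule.span_induction with
  | mem x hx =>
    obtain ⟨l, hl⟩ := Nat.exists_eq_add_of_le (Finset.le_sup (f := k) hx)
    exact ⟨f ^ l * a' x, by rw [map_mul, map_pow, ha', hl, pow_add]; ring⟩
  | zero => exact ⟨0, by simp⟩
  | add x y _ _ hx hy =>
    obtain ⟨u, hu⟩ := hx; obtain ⟨v, hv⟩ := hy
    exact ⟨u + v, by rw [map_add, hu, hv, mul_add]⟩
  | smul r x _ hx =>
    obtain ⟨u, hu⟩ := hx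
    exact ⟨r * u, by rw [map_mul, hu, Algebra.smul_def]; ring⟩

end Groth.Agent.S7152

namespace Groth.Agent.S7152

/-- Let A' ⊆ A be an extension of rings and f an element of A'. Assume A is finite over A', f is a
nonzerodivisor on A, and A'_f = A_f. Then there is n₀ > 0 such that for all n ≥ n₀ the following
holds: given a ring B', a nonzerodivisor g of B' and an isomorphism φ' : A'/fⁿA' → B'/gⁿB' sending
the class of f to the class of g, one can find a ring B containing B' as a subring and finite as a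
B'-module, together with a ring isomorphism φ : A/fA → B/gB that agrees with φ' (i.e. the square
formed by the maps A'/fⁿA' → A/fA and B'/gⁿB' → B/gB commutes). -/
theorem result (A' A : Type u) [CommRing A'] [CommRing A] [Algebra A' A]
    (hinj : Function.Injective (algebraMap A' A)) [Module.Finite A' A] (f : A')
    (hf : algebraMap A' A f ∈ nonZeroDivisors A)
    (hloc : Function.Bijective (IsLocalization.Away.map (Localization.Away f)
      (Localization.Away (algebraMap A' A f)) (algebraMap A' A) f)) :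
    ∃ n₀ : ℕ, 0 < n₀ ∧ ∀ n : ℕ, n₀ ≤ n →
      ∀ (B' : Type u) [CommRing B'] (g : B'), g ∈ nonZeroDivisors B' →
        ∀ φ' : (A' ⧸ Ideal.span {f ^ n}) ≃+* (B' ⧸ Ideal.span {g ^ n}),
        φ' (Ideal.Quotient.mk (Ideal.span {f ^ n}) f) = Ideal.Quotient.mk (Ideal.span {g ^ n}) g →
        ∃ (B : Type u) (_ : CommRing B) (_ : Algebra B' B),
          Function.Injective (algebraMap B' B) ∧ Module.Finite B' B ∧
          ∃ φ : (A ⧸ Ideal.span {algebraMap A' A f}) ≃+* (B ⧸ Ideal.span {algebraMap B' B g}),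
            ∀ (a' : A') (b' : B'),
              φ' (Ideal.Quotient.mk (Ideal.span {f ^ n}) a') = Ideal.Quotient.mk (Ideal.span {g ^ n}) b' →
              φ (Ideal.Quotient.mk (Ideal.span {algebraMap A' A f}) (algebraMap A' A a')) =
                Ideal.Quotient.mk (Ideal.span {algebraMap B' B g}) (algebraMap B' B b') := by
  classical
  obtain ⟨c, hc⟩ := exists_conductor f hf hloc
  choose m hm using hc
  set F : A := algebraMap A' A f
  refine ⟨2 * c + 1, Nat.succ_pos _, fun n hn B' _ g hg φ' hφ => ?_⟩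
  set p := Ideal.Quotient.mk (Ideal.span {f ^ n})
  set q := Ideal.Quotient.mk (Ideal.span {g ^ n})
  let M : Ideal A' := (Ideal.span {F ^ c}).comap (algebraMap A' A)
  have hmM : ∀ a, m a ∈ M := fun a => Ideal.mem_span_singleton.2 ⟨a, hm a⟩
  have hMm : ∀ x ∈ M, ∃ a, x = m a := fun x hx => by
    obtain ⟨a, ha⟩ := Ideal.mem_span_singleton.1 hx
    exact ⟨a, hinj (by rw [hm, ha])⟩
  let J : Ideal B' := ((M.map p).map φ'.toRingHom).comap q
  have hJ : ∀ j, j ∈ J ↔ ∃ a, φ' (p (m a)) = q j := fun j => by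
    show q j ∈ (M.map p).map φ'.toRingHom ↔ _
    rw [Ideal.map_map, Ideal.mem_map_iff_of_surjective (φ'.toRingHom.comp p) (φ'.surjective.comp Ideal.Quotient.mk_surjective)]
    exact ⟨fun ⟨x, hx, h⟩ => (hMm x hx).imp fun a ha => by subst ha; exact h, fun ⟨a, h⟩ => ⟨m a, hmM a, h⟩⟩
  have hpow : ∀ k, φ' (p (f ^ k)) = q (g ^ k) := fun k => by rw [map_pow, map_pow, hφ, map_pow]
  have hgc : g ^ c ∈ J := (hJ _).2 ⟨1, by rw [show m 1 = f ^ c from hinj (by rw [hm, mul_one, map_pow]), hpow]⟩
  have hJfg : J.FG := by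
    have hMfg : M.FG := by
      refine Submodule.fg_of_fg_map_injective (Algebra.linearMap A' A) hinj ?_
      suffices he : Submodule.map (Algebra.linearMap A' A) M = LinearMap.range (LinearMap.mulLeft A' (F ^ c)) from he ▸ Submodule.fg_range _
      ext x
      simp only [Submodule.mem_map, LinearMap.mem_range, LinearMap.mulLeft_apply, Algebra.linearMap_apply]
      exact ⟨fun ⟨y, hy, h⟩ => (Ideal.mem_span_singleton.1 hy).imp fun a ha => ha.symm.trans h,
        fun ⟨a, h⟩ => ⟨m a, hmM a, (hm a).trans h⟩⟩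
    refine Ideal.fg_of_fg_map_of_fg_inf_ker_of_surjective (f := q) ?_ ?_ Ideal.Quotient.mk_surjective
    · rw [Ideal.map_comap_of_surjective q Ideal.Quotient.mk_surjective]
      exact (hMfg.map p).map _
    · rw [Ideal.mk_ker, inf_eq_right.2 ((Ideal.span_singleton_le_iff_mem _).2 (by
        rw [show n = c + (n - c) by omega, pow_add]; exact J.mul_mem_right _ hgc))]
      exact Submodule.fg_span_singleton _
  let K := Localization.Away g
  let ι := algebraMap B' K
  have hι : Function.Injective ι := IsLocalization.injective _ (Submonoid.powers_le.2 hg)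
  obtain ⟨U, hU⟩ : IsUnit (ι g ^ c) := (IsLocalization.Away.algebraMap_isUnit g).pow c
  have hcancel : ∀ {x y : K}, ι g ^ c * x = ι g ^ c * y → x = y := fun {x y} h => by
    rw [← hU] at h; exact U.isUnit.mul_left_cancel h
  have hmul : ∀ {j j'}, j ∈ J → j' ∈ J → ∃ a₁ a₂,
      ∀ j₃, φ' (p (m (a₁ * a₂))) = q j₃ → ∃ s', j * j' = g ^ c * j₃ + g ^ n * s' := by
    intro j j' hj hj'
    obtain ⟨a₁, h₁⟩ := (hJ _).1 hj
    obtain ⟨a₂, h₂⟩ := (hJ _).1 hj'
    refine ⟨a₁, a₂, fun j₃ h₃ => ?_⟩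
    have he : m a₁ * m a₂ = f ^ c * m (a₁ * a₂) := hinj (by rw [map_mul, map_mul, map_pow, hm, hm, hm]; ring)
    have : q (j * j' - g ^ c * j₃) = 0 := by
      rw [map_sub, map_mul, map_mul, ← h₁, ← h₂, ← h₃, ← hpow, ← map_mul, ← map_mul, ← map_mul, ← map_mul, he, sub_self]
    obtain ⟨s', hs'⟩ := Ideal.mem_span_singleton.1 (Ideal.Quotient.eq_zero_iff_mem.1 this)
    exact ⟨s', by linear_combination hs'⟩
  have hlift : ∀ a, ∃ j ∈ J, φ' (p (m a)) = q j := fun a => by
    obtain ⟨j, hj⟩ := Ideal.Quotient.mk_surjective (φ' (p (m a)))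
    exact ⟨j, (hJ j).2 ⟨a, hj.symm⟩, hj.symm⟩
  choose jl hjl hjl' using hlift
  let B : Subalgebra B' K :=
    { carrier := {x | ∃ j ∈ J, ι g ^ c * x = ι j}
      mul_mem' := by
        rintro x y ⟨j, hj, hx⟩ ⟨j', hj', hy⟩
        obtain ⟨a₁, a₂, h⟩ := hmul hj hj'
        obtain ⟨s', hs'⟩ := h _ (hjl' (a₁ * a₂))
        refine ⟨jl (a₁ * a₂) + g ^ (n - c) * s', J.add_mem (hjl _) (J.mul_mem_right _ ?_), hcancel ?_⟩
        · rw [show n - c = c + (n - c - c) by omega, pow_add]; exact J.mul_mem_right _ hgc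
        · calc ι g ^ c * (ι g ^ c * (x * y)) = (ι g ^ c * x) * (ι g ^ c * y) := by ring
            _ = ι (g ^ c * (jl (a₁ * a₂) + g ^ (n - c) * s')) := by
              rw [hx, hy, ← map_mul, hs', mul_add, ← mul_assoc (g ^ c), ← pow_add, show c + (n - c) = n by omega]
            _ = _ := by rw [map_mul, map_pow]
      add_mem' := by
        rintro x y ⟨j, hj, hx⟩ ⟨j', hj', hy⟩
        exact ⟨j + j', J.add_mem hj hj', by rw [mul_add, hx, hy, map_add]⟩
      algebraMap_mem' := fun r => ⟨g ^ c * r, J.mul_mem_right _ hgc, by rw [map_mul, map_pow]⟩ }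
  have hmem : ∀ j ∈ J, (↑U⁻¹ : K) * ι j ∈ B := fun j hj => ⟨j, hj, by rw [← hU, Units.mul_inv_cancel_left]⟩
  have hfin : Module.Finite B' B := by
    refine Module.Finite.of_fg (N := Subalgebra.toSubmodule B) ?_
    suffices he : Subalgebra.toSubmodule B = Submodule.map ((LinearMap.mulLeft B' (↑U⁻¹ : K)).comp (Algebra.linearMap B' K)) J from
      he ▸ Submodule.FG.map _ hJfg
    ext x
    simp only [Submodule.mem_map, LinearMap.comp_apply, LinearMap.mulLeft_apply, Algebra.linearMap_apply,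
      Subalgebra.mem_toSubmodule]
    exact ⟨fun ⟨j, hj, h⟩ => ⟨j, hj, by rw [show algebraMap B' K j = _ from h.symm, ← hU, Units.inv_mul_cancel_left]⟩, fun ⟨j, hj, h⟩ => h ▸ hmem j hj⟩
  refine ⟨B, inferInstance, inferInstance, fun x y h => hι (congrArg Subtype.val h), hfin, ?_⟩
  set Q := Ideal.Quotient.mk (Ideal.span {algebraMap B' B g})
  let Φ₀ : A → B ⧸ Ideal.span {algebraMap B' B g} := fun a => Q ⟨_, hmem _ (hjl a)⟩
  have hwd : ∀ (a : A) (x : B) (j : B'), φ' (p (m a)) = q j → ι g ^ c * (x : K) = ι j → Φ₀ a = Q x := by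
    intro a x j hj hx
    obtain ⟨s, hs⟩ := Ideal.mem_span_singleton.1 (Ideal.Quotient.eq.1 ((hjl' a).symm.trans hj))
    refine Ideal.Quotient.eq.2 (Ideal.mem_span_singleton.2 ⟨algebraMap B' B (g ^ (n - c - 1) * s), Subtype.ext (hcancel ?_)⟩)
    show ι g ^ c * ((↑U⁻¹ : K) * ι (jl a) - x) = ι g ^ c * (ι g * ι (g ^ (n - c - 1) * s))
    rw [mul_sub, hx, ← hU, Units.mul_inv_cancel_left, hU, ← map_sub, hs, ← map_pow, ← map_mul, ← map_mul,
      ← mul_assoc g, ← pow_succ', ← mul_assoc, ← pow_add, show c + (n - c - 1 + 1) = n by omega]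
  have hspec : ∀ a, ι g ^ c * ((↑U⁻¹ : K) * ι (jl a)) = ι (jl a) := fun a => by rw [← hU, Units.mul_inv_cancel_left]
  let Φ : A →+* B ⧸ Ideal.span {algebraMap B' B g} :=
    { toFun := Φ₀
      map_one' := hwd 1 1 (g ^ c) (by rw [show m 1 = f ^ c from hinj (by rw [hm, mul_one, map_pow]), hpow])
        (by rw [map_pow]; exact mul_one _)
      map_zero' := hwd 0 0 0 (by rw [show m 0 = 0 from hinj (by rw [hm, mul_zero, map_zero]), map_zero, map_zero, map_zero])
        (by rw [map_zero]; exact mul_zero _)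
      map_add' := fun a b => (hwd (a + b) (⟨_, hmem _ (hjl a)⟩ + ⟨_, hmem _ (hjl b)⟩) (jl a + jl b)
        (by rw [show m (a + b) = m a + m b from hinj (by rw [map_add, hm, hm, hm, mul_add]), map_add, map_add, map_add, hjl', hjl'])
        (by
          show ι g ^ c * ((↑U⁻¹ : K) * ι (jl a) + (↑U⁻¹ : K) * ι (jl b)) = _
          rw [mul_add, hspec, hspec, map_add])).trans (map_add Q _ _)
      map_mul' := fun a b => by
        have he : m a * m b = f ^ c * m (a * b) := hinj (by rw [map_mul, map_mul, map_pow, hm, hm, hm]; ring)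
        have h0 : q (jl a * jl b - g ^ c * jl (a * b)) = 0 := by
          rw [map_sub, map_mul, map_mul, ← hjl', ← hjl', ← hjl', ← hpow, ← map_mul, ← map_mul, ← map_mul, ← map_mul, he, sub_self]
        obtain ⟨s, hs⟩ := Ideal.mem_span_singleton.1 (Ideal.Quotient.eq_zero_iff_mem.1 h0)
        refine Eq.trans ?_ (map_mul Q _ _)
        refine (Ideal.Quotient.eq.2 (Ideal.mem_span_singleton.2
          ⟨algebraMap B' B (g ^ (n - 2 * c - 1) * s), Subtype.ext (hcancel (hcancel ?_))⟩)).symm
        show ι g ^ c * (ι g ^ c * (((↑U⁻¹ : K) * ι (jl a)) * ((↑U⁻¹ : K) * ι (jl b)) - (↑U⁻¹ : K) * ι (jl (a * b)))) =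
          ι g ^ c * (ι g ^ c * (ι g * ι (g ^ (n - 2 * c - 1) * s)))
        calc _ = (ι g ^ c * ((↑U⁻¹ : K) * ι (jl a))) * (ι g ^ c * ((↑U⁻¹ : K) * ι (jl b))) -
              ι g ^ c * (ι g ^ c * ((↑U⁻¹ : K) * ι (jl (a * b)))) := by ring
          _ = ι (g ^ n * s) := by rw [hspec, hspec, hspec, ← map_pow, ← map_mul, ← map_mul, ← map_sub, hs]
          _ = _ := by
            rw [← map_pow, ← map_mul, ← map_mul, ← map_mul, ← mul_assoc, ← mul_assoc, ← mul_assoc, ← pow_add,
              ← pow_succ, ← pow_add, show c + c + 1 + (n - 2 * c - 1) = n by omega] }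
  have hsurj : Function.Surjective Φ := fun y => by
    obtain ⟨⟨x, j, hj, hx⟩, rfl⟩ := Ideal.Quotient.mk_surjective y
    obtain ⟨a, ha⟩ := (hJ _).1 hj
    exact ⟨a, hwd a _ j ha hx⟩
  have hker : RingHom.ker Φ = Ideal.span {F} := by
    refine le_antisymm (fun a ha => ?_) ((Ideal.span_singleton_le_iff_mem _).2 ?_)
    · obtain ⟨⟨y, j, hj, hy⟩, hxy⟩ := Ideal.mem_span_singleton.1 (Ideal.Quotient.eq_zero_iff_mem.1
        (show Q ⟨_, hmem _ (hjl a)⟩ = 0 from ha))
      have hxy' : (↑U⁻¹ : K) * ι (jl a) = ι g * y := congrArg Subtype.val hxy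
      have h1 : jl a = g * j := hι (by rw [← hspec a, hxy', mul_left_comm, hy, map_mul])
      obtain ⟨a₂, ha₂⟩ := (hJ _).1 hj
      have h2 : p (m a) = p (f * m a₂) := φ'.injective (by rw [hjl', h1, map_mul, map_mul, map_mul, ← ha₂, hφ])
      obtain ⟨r, hr⟩ := Ideal.mem_span_singleton.1 (Ideal.Quotient.eq.1 h2)
      have h3 := congrArg (algebraMap A' A) hr
      rw [map_sub, map_mul, map_mul, map_pow, hm, hm] at h3
      refine Ideal.mem_span_singleton.2 ⟨a₂ + F ^ (n - c - 1) * algebraMap A' A r, ?_⟩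
      refine (isRegular_iff_mem_nonZeroDivisors.2 (pow_mem hf c)).left ?_
      show F ^ c * a = F ^ c * (F * (a₂ + F ^ (n - c - 1) * algebraMap A' A r))
      rw [show F ^ n = F ^ c * F * F ^ (n - c - 1) by rw [← pow_succ, ← pow_add]; congr 1; omega] at h3
      linear_combination h3
    · rw [RingHom.mem_ker]
      refine (hwd F (algebraMap B' B g) (g ^ (c + 1)) ?_ ?_).trans
        (Ideal.Quotient.eq_zero_iff_mem.2 (Ideal.mem_span_singleton_self _))
      · rw [show m F = f ^ (c + 1) from hinj (by rw [hm, map_pow, pow_succ]), hpow]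
      · show ι g ^ c * ι g = _
        rw [← pow_succ, map_pow]
  refine ⟨((Ideal.quotEquivOfEq hker.symm).trans (RingHom.quotientKerEquivOfSurjective hsurj)), fun a' b' h => ?_⟩
  show Φ (algebraMap A' A a') = _
  refine hwd _ _ (g ^ c * b') ?_ ?_
  · rw [show m (algebraMap A' A a') = f ^ c * a' from hinj (by rw [hm, map_mul, map_pow]), map_mul, map_mul, hpow, h,
      map_mul]
  · show ι g ^ c * ι b' = _
    rw [map_mul, map_pow]

end Groth.Agent.S7152
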