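import Groth.Statements.S7153
import Mathlib.RingTheory.Filtration

set_option autoImplicit false
universe u
open CAlg

namespace Groth.Agent.S7153

/-- Let A be a Noetherian ring, I an ideal and K → L → M a complex of finite A-modules with maps α, β
and homology H = Ker β / Im α; for n ≥ 0 let H_n be the homology of the induced complex K/IⁿK →
L/IⁿL → M/IⁿM, which is β⁻¹(IⁿM)/(Im α + IⁿL). Then there is c > 0 such that for every n: (i) the
image of H_(n+c) → H_n is contained in, hence equal to, the image of H → H_n; (ii) the kernel and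
the cokernel of H/IⁿH → H_n are annihilated by I^c. Everything is phrased with representatives in L. -/
theorem result (A : Type u) [CommRing A] [IsNoetherianRing A] (I : Ideal A)
    (K L M : Type u) [AddCommGroup K] [Module A K] [Module.Finite A K] [AddCommGroup L] [Module A L]
    [Module.Finite A L] [AddCommGroup M] [Module A M] [Module.Finite A M]
    (α : K →ₗ[A] L) (β : L →ₗ[A] M) (hαβ : β ∘ₗ α = 0) :
    ∃ c : ℕ, 0 < c ∧ ∀ n : ℕ,
      (∀ y ∈ (I ^ (n + c) • ⊤ : Submodule A M).comap β,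
        ∃ z ∈ LinearMap.ker β, y - z ∈ LinearMap.range α ⊔ (I ^ n • ⊤ : Submodule A L)) ∧
      (∀ z ∈ LinearMap.ker β, z ∈ LinearMap.range α ⊔ (I ^ n • ⊤ : Submodule A L) →
        ∀ a ∈ I ^ c, a • z ∈ LinearMap.range α ⊔ I ^ n • LinearMap.ker β) ∧
      (∀ y ∈ (I ^ n • ⊤ : Submodule A M).comap β, ∀ a ∈ I ^ c,
        ∃ z ∈ LinearMap.ker β, a • y - z ∈ LinearMap.range α ⊔ (I ^ n • ⊤ : Submodule A L)) := by
  have arN : ∀ {P : Type u} [AddCommGroup P] [Module A P] [Module.Finite A P] (Q : Submodule A P),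
      ∃ k, ∀ n, I ^ (n + k) • (⊤ : Submodule A P) ⊓ Q ≤ I ^ n • Q := by
    intro P _ _ _ Q
    obtain ⟨k, hk⟩ := I.exists_pow_inf_eq_pow_smul Q
    refine ⟨k, fun n => ?_⟩
    rw [hk (n + k) (Nat.le_add_left k n), Nat.add_sub_cancel]
    exact Submodule.smul_mono le_rfl inf_le_right
  obtain ⟨k₁, hk₁⟩ := arN (LinearMap.range β)
  obtain ⟨k₂, hk₂⟩ := arN (LinearMap.ker β)
  set c := k₁ + k₂ + 1
  have hy : ∀ n, ∀ y ∈ (I ^ (n + c) • ⊤ : Submodule A M).comap β,
      ∃ z ∈ LinearMap.ker β, y - z ∈ I ^ n • (⊤ : Submodule A L) := by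
    intro n y hy
    have h1 : β y ∈ I ^ (n + (k₂ + 1)) • LinearMap.range β := hk₁ _ ⟨by
      rwa [add_assoc, show k₂ + 1 + k₁ = c by omega], ⟨y, rfl⟩⟩
    rw [← Submodule.map_top, ← Submodule.map_smul''] at h1
    obtain ⟨w, hw, hwy⟩ := h1
    refine ⟨y - w, by simp [hwy], ?_⟩
    rw [sub_sub_cancel]
    exact Submodule.smul_mono (Ideal.pow_le_pow_right (Nat.le_add_right n _)) le_rfl hw
  refine ⟨c, by omega, fun n => ⟨fun y h => ?_, fun z hz hz2 a ha => ?_, fun y h a ha => ?_⟩⟩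
  · obtain ⟨z, hz, h⟩ := hy n y h
    exact ⟨z, hz, Submodule.mem_sup_right h⟩
  · obtain ⟨p, hp, w, hw, rfl⟩ := Submodule.mem_sup.1 hz2
    obtain ⟨x, rfl⟩ := hp
    have hwk : w ∈ LinearMap.ker β := by
      have h0 : β (α x) = 0 := LinearMap.congr_fun hαβ x
      rw [LinearMap.mem_ker, map_add, h0, zero_add] at hz
      exact hz
    rw [smul_add]
    refine Submodule.add_mem_sup (Submodule.smul_mem _ _ ⟨x, rfl⟩) ?_
    rcases le_or_gt n c with hn | hn
    · exact Submodule.smul_mono (Ideal.pow_le_pow_right hn) le_rfl (Submodule.smul_mem_smul ha hwk)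
    · have hw' : w ∈ I ^ (n - k₂) • LinearMap.ker β := hk₂ _ ⟨by
        rwa [Nat.sub_add_cancel (by omega)], hwk⟩
      have := Submodule.smul_mem_smul ha hw'
      rw [← Submodule.mul_smul, ← pow_add] at this
      exact Submodule.smul_mono (Ideal.pow_le_pow_right (by omega)) le_rfl this
  · obtain ⟨z, hz, h⟩ := hy n (a • y) (by
      rw [Submodule.mem_comap, map_smul, add_comm, pow_add, Submodule.mul_smul]
      exact Submodule.smul_mem_smul ha h)
    exact ⟨z, hz, Submodule.mem_sup_right h⟩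

end Groth.Agent.S7153
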