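import Groth.Statements.S7157
import Mathlib.RingTheory.DiscreteValuationRing.TFAE
import Mathlib.RingTheory.Polynomial.Eisenstein.Basic
import Mathlib.RingTheory.AdjoinRoot
import Mathlib.RingTheory.Valuation.ValuationSubring
import Mathlib.RingTheory.IntegralClosure.IntegralRestrict
import Mathlib.RingTheory.Polynomial.UniqueFactorization
import Mathlib.RingTheory.Valuation.Integral
import Mathlib.RingTheory.Ideal.GoingUp
import Mathlib.RingTheory.Polynomial.RationalRoot
import Mathlib.RingTheory.Bezout
import Mathlib.FieldTheory.Separable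
import Mathlib.RingTheory.Localization.Integral
import Mathlib.RingTheory.Polynomial.GaussLemma

set_option autoImplicit false
universe u
open EtAlg

namespace Groth.Agent.S7157

open Polynomial

/-- The extension cut out by `X ^ q + π c X - π`. -/
theorem exists_ext (A K : Type u) [CommRing A] [IsDomain A] [IsDiscreteValuationRing A] [Field K] [Algebra A K]
    [IsFractionRing A K] (π : A) (hπ : Irreducible π) (q : ℕ) (hq : 1 ≤ q) (c : A) (hc : q = 1 → c = 0)
    (hc' : 2 ≤ q → c ≠ 0) :
    ∃ (L : Type u) (_ : Field L) (_ : Algebra K L) (_ : Algebra A L) (_ : IsScalarTower A K L),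
      Module.finrank K L = q ∧ Algebra.IsSeparable K L ∧ EtRam.IsTotallyRamified A (algebraMap A L) ∧
      ∃ x w : L, IsIntegral A x ∧ IsIntegral A w ∧ x ^ q = algebraMap A L π * (1 - algebraMap A L c * x) ∧
        (1 - algebraMap A L c * x) * w = 1 := by
  classical
  set f : A[X] := X ^ q + C (π * c) * X - C π with hf
  have hn0 : q ≠ 0 := by omega
  have hlow : (C (π * c) * X - C π).degree < (q : WithBot ℕ) := by
    rcases (show q = 1 ∨ 2 ≤ q by omega) with h1 | h1
    · rw [hc h1, mul_zero, map_zero, zero_mul, zero_sub, degree_neg]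
      exact degree_C_le.trans_lt (by exact_mod_cast (show 0 < q by omega))
    · refine lt_of_le_of_lt ((degree_sub_le _ _).trans (max_le (degree_C_mul_X_le _) (degree_C_le.trans ?_))) ?_
      · exact zero_le_one
      · exact_mod_cast (show 1 < q by omega)
  have hf' : f = X ^ q + (C (π * c) * X - C π) := by rw [hf]; ring
  have hfm : f.Monic := hf' ▸ (monic_X_pow q).add_of_left (by rwa [degree_X_pow])
  have hdeg : f.natDegree = q := by
    refine natDegree_eq_of_degree_eq_some ?_
    rw [hf', degree_add_eq_left_of_degree_lt (by rwa [degree_X_pow]), degree_X_pow]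
  have hπm : IsLocalRing.maximalIdeal A = Ideal.span {π} := hπ.maximalIdeal_eq
  have hpm : π ∈ IsLocalRing.maximalIdeal A := hπm ▸ Ideal.mem_span_singleton_self π
  have hE : f.IsEisensteinAt (IsLocalRing.maximalIdeal A) := by
    refine hfm.isEisensteinAt_of_mem_of_notMem (IsLocalRing.maximalIdeal.isMaximal A).ne_top (fun {i} hi => ?_) ?_
    · rw [hdeg] at hi
      rw [hf, coeff_sub, coeff_add, coeff_X_pow, if_neg hi.ne, zero_add, coeff_C_mul, coeff_C]
      refine sub_mem (Ideal.mul_mem_right _ _ (Ideal.mul_mem_right _ _ hpm)) ?_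
      split
      · exact hpm
      · exact zero_mem _
    · rw [hf, coeff_sub, coeff_add, coeff_X_pow, if_neg hn0.symm, coeff_C_mul, coeff_X_zero, mul_zero,
        coeff_C_zero, zero_add, zero_sub]
      intro h
      rw [neg_mem_iff, hπm, Ideal.span_singleton_pow, Ideal.mem_span_singleton] at h
      obtain ⟨d, hd⟩ := h
      refine hπ.not_isUnit (IsUnit.of_mul_eq_one d (mul_left_cancel₀ hπ.ne_zero ?_))
      linear_combination -hd
  have hirr : Irreducible f := hE.irreducible (IsLocalRing.maximalIdeal.isMaximal A).isPrime hfm.isPrimitive (by rw [hdeg]; omega)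
  haveI hdom : IsDomain (AdjoinRoot f) := AdjoinRoot.isDomain_of_prime hirr.prime
  haveI : Module.Finite A (AdjoinRoot f) := hfm.finite_adjoinRoot
  let x := AdjoinRoot.root f
  let al := algebraMap A (AdjoinRoot f)
  have hinj : Function.Injective al :=
    AdjoinRoot.of.injective_of_degree_ne_zero (by rw [degree_eq_natDegree hfm.ne_zero, hdeg]; exact_mod_cast hn0)
  have hxn : x ^ q = al π * (1 - al c * x) := by
    have h : AdjoinRoot.mk f (X ^ q + C (π * c) * X - C π) = 0 := AdjoinRoot.mk_self
    simp only [map_sub, map_add, map_mul, map_pow, AdjoinRoot.mk_X, AdjoinRoot.mk_C] at h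
    show AdjoinRoot.root f ^ q = AdjoinRoot.of f π * (1 - AdjoinRoot.of f c * AdjoinRoot.root f)
    linear_combination h
  have hxu : ¬ IsUnit x := fun hu => by
    have h1 : IsUnit (al π) := isUnit_of_mul_isUnit_left (hxn ▸ hu.pow q)
    haveI : IsLocalHom al := RingHom.IsIntegral.isLocalHom (Algebra.IsIntegral.isIntegral (R := A)) hinj
    exact hπ.not_isUnit (isUnit_of_map_unit al π h1)
  have hrep : ∀ r : AdjoinRoot f, ∃ a : A, r - al a ∈ Ideal.span ({x} : Set (AdjoinRoot f)) := fun r => by
    obtain ⟨g, rfl⟩ := AdjoinRoot.mk_surjective r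
    refine ⟨g.coeff 0, ?_⟩
    obtain ⟨q, hq⟩ := X_dvd_sub_C (p := g)
    rw [show al (g.coeff 0) = AdjoinRoot.mk f (C (g.coeff 0)) from rfl, ← map_sub, hq, map_mul, AdjoinRoot.mk_X]
    exact Ideal.mul_mem_right _ _ (Ideal.mem_span_singleton_self x)
  have hπx : al π ∈ Ideal.span ({x} : Set (AdjoinRoot f)) := by
    have : al π = x ^ q + al π * al c * x := by rw [hxn]; ring
    rw [this]
    exact add_mem (Ideal.pow_mem_of_mem _ (Ideal.mem_span_singleton_self x) q (by omega))
      (Ideal.mul_mem_left _ _ (Ideal.mem_span_singleton_self x))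
  haveI hmax : (Ideal.span ({x} : Set (AdjoinRoot f))).IsMaximal := by
    refine Ideal.isMaximal_iff.mpr ⟨fun h1 => hxu (isUnit_of_dvd_one (Ideal.mem_span_singleton.mp h1)), fun M r hM hr hrM => ?_⟩
    obtain ⟨a, ha⟩ := hrep r
    have haM : al a ∈ M := by simpa using sub_mem hrM (hM ha)
    have hau : IsUnit a := by
      rw [← IsLocalRing.notMem_maximalIdeal]
      intro ham
      rw [hπm, Ideal.mem_span_singleton] at ham
      obtain ⟨c, rfl⟩ := ham
      refine hr ?_
      have h2 : al (π * c) ∈ Ideal.span ({x} : Set (AdjoinRoot f)) := by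
        rw [map_mul]
        exact Ideal.mul_mem_right _ _ hπx
      simpa using add_mem ha h2
    exact (Ideal.eq_top_of_isUnit_mem M haM (hau.map al)) ▸ Submodule.mem_top
  haveI hloc : IsLocalRing (AdjoinRoot f) := by
    refine IsLocalRing.of_unique_max_ideal ⟨_, hmax, fun M hM => ?_⟩
    refine (hmax.eq_of_le hM.ne_top ?_).symm
    haveI := hM
    haveI : (M.comap al).IsMaximal := Ideal.isMaximal_comap_of_isIntegral_of_isMaximal M
    have hπM : al π ∈ M := by
      rw [← Ideal.mem_comap, IsLocalRing.eq_maximalIdeal (I := M.comap al) inferInstance]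
      exact hpm
    rw [Ideal.span_singleton_le_iff_mem]
    exact hM.isPrime.mem_of_pow_mem q (hxn ▸ M.mul_mem_right _ hπM)
  have hm : IsLocalRing.maximalIdeal (AdjoinRoot f) = Ideal.span {x} := (IsLocalRing.eq_maximalIdeal hmax).symm
  have hx0 : x ≠ 0 := fun h0 => hπ.ne_zero (hinj (by
    have h1 := hxn
    rw [h0, zero_pow hn0, mul_zero, sub_zero, mul_one] at h1
    exact h1.symm.trans (map_zero _).symm))
  have hnf : ¬ IsField (AdjoinRoot f) := fun hF => hx0 (by
    have := (IsLocalRing.isField_iff_maximalIdeal_eq.mp hF)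
    rw [hm, Ideal.span_singleton_eq_bot] at this
    exact this)
  haveI : IsNoetherianRing (AdjoinRoot f) := IsNoetherianRing.of_finite A (AdjoinRoot f)
  haveI hdvr : IsDiscreteValuationRing (AdjoinRoot f) :=
    ((IsDiscreteValuationRing.TFAE (AdjoinRoot f) hnf).out 4 0 rfl rfl).mp ⟨⟨x, hm⟩⟩
  have hfK : Irreducible (f.map (algebraMap A K)) := (hfm.irreducible_iff_irreducible_map_fraction_map (K := K)).1 hirr
  haveI : Fact (Irreducible (f.map (algebraMap A K))) := ⟨hfK⟩
  let L := AdjoinRoot (f.map (algebraMap A K))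
  let φ : AdjoinRoot f →+* L := AdjoinRoot.lift (algebraMap A L) (AdjoinRoot.root (f.map (algebraMap A K))) (by
    rw [IsScalarTower.algebraMap_eq A K L, ← eval₂_map]
    exact AdjoinRoot.eval₂_root _)
  have hφa : ∀ a, φ (al a) = algebraMap A L a := fun a => AdjoinRoot.lift_of _
  have hφx : φ x = AdjoinRoot.root (f.map (algebraMap A K)) := AdjoinRoot.lift_root _
  have hφinj : Function.Injective φ := by
    refine (injective_iff_map_eq_zero φ).2 fun r hr => ?_
    obtain ⟨g, rfl⟩ := AdjoinRoot.mk_surjective r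
    rw [AdjoinRoot.lift_mk, IsScalarTower.algebraMap_eq A K L, ← eval₂_map] at hr
    refine AdjoinRoot.mk_eq_zero.2 (((IsPrimitive.dvd_iff_fraction_map_dvd_fraction_map K hfm.isPrimitive).2 ?_))
    rw [← AdjoinRoot.mk_eq_zero, ← AdjoinRoot.aeval_eq]
    exact hr
  letI : Algebra (AdjoinRoot f) L := φ.toAlgebra
  haveI : FaithfulSMul (AdjoinRoot f) L := (faithfulSMul_iff_algebraMap_injective _ _).2 hφinj
  haveI : IsFractionRing (AdjoinRoot f) L := by
    refine IsFractionRing.of_field _ _ fun z => ?_
    obtain ⟨g, rfl⟩ := AdjoinRoot.mk_surjective z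
    obtain ⟨b, hb⟩ := IsLocalization.integerNormalization_map_to_map (nonZeroDivisors A) g
    refine ⟨AdjoinRoot.mk f (IsLocalization.integerNormalization (nonZeroDivisors A) g), al b, ?_⟩
    have hb0 : algebraMap A L b ≠ 0 := by
      rw [IsScalarTower.algebraMap_apply A K L]
      simp [nonZeroDivisors.coe_ne_zero b]
    have hnum : φ (AdjoinRoot.mk f (IsLocalization.integerNormalization (nonZeroDivisors A) g)) =
        algebraMap A L b * AdjoinRoot.mk (f.map (algebraMap A K)) g := by
      rw [AdjoinRoot.lift_mk, IsScalarTower.algebraMap_eq A K L, ← eval₂_map, hb, ← AdjoinRoot.aeval_eq g, ← aeval_def]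
      rw [AlgHom.map_smul_of_tower, Algebra.smul_def, ← IsScalarTower.algebraMap_eq A K L]
    rw [RingHom.algebraMap_toAlgebra, hnum, hφa, eq_comm, div_eq_iff hb0, mul_comm]
  have hgA : (algebraMap (AdjoinRoot f) L).comp al = algebraMap A L := RingHom.ext hφa
  have hintL : ∀ r, IsIntegral A (φ r) := fun r => by
    obtain ⟨p, hp, hpr⟩ := Algebra.IsIntegral.isIntegral (R := A) r
    exact ⟨p, hp, by rw [show algebraMap A L = φ.comp al from hgA.symm]; exact (hom_eval₂ p al φ r).symm.trans (by rw [hpr, map_zero])⟩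
  have hu : IsUnit (1 - al c * x) := IsLocalRing.notMem_maximalIdeal.1 fun h => hxu.elim (by
    rw [hm] at h
    have h2 : (1 : AdjoinRoot f) ∈ Ideal.span {x} := by
      simpa using add_mem h (Ideal.mul_mem_left _ (al c) (Ideal.mem_span_singleton_self x))
    exact isUnit_of_dvd_one (Ideal.mem_span_singleton.mp h2))
  obtain ⟨u, hu⟩ := hu
  refine ⟨L, inferInstance, inferInstance, inferInstance, inferInstance, ?_, ?_, hgA ▸ ?_,
    φ x, φ (↑u⁻¹), hintL x, hintL _, ?_, ?_⟩
  rotate_left 3
  · rw [← map_pow, hxn, map_mul, map_sub, map_one, map_mul, hφa, hφa]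
  · have h := congrArg φ (hu ▸ u.mul_inv : (1 - al c * x) * (↑u⁻¹ : AdjoinRoot f) = 1)
    rwa [map_mul, map_sub, map_one, map_mul, hφa] at h
  · rw [(AdjoinRoot.powerBasis hfK.ne_zero).finrank, AdjoinRoot.powerBasis_dim, hfm.natDegree_map, hdeg]
  · have hsep : (f.map (algebraMap A K)).Separable := by
      rw [separable_iff_derivative_ne_zero hfK]
      intro h0
      have h1 := congrArg (fun t => Polynomial.coeff t 0) h0
      simp only [derivative_map, coeff_map, coeff_derivative, coeff_zero, zero_add, Nat.cast_zero, mul_one] at h1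
      rw [map_eq_zero_iff _ (IsFractionRing.injective A K), hf, coeff_sub, coeff_add, coeff_C_mul, coeff_X_one,
        mul_one, coeff_X_pow, coeff_C, if_neg one_ne_zero, sub_zero] at h1
      rcases (show q = 1 ∨ 2 ≤ q by omega) with h2 | h2
      · rw [hc h2, if_pos h2.symm, mul_zero, add_zero] at h1
        exact one_ne_zero h1
      · rw [if_neg (by omega), zero_add] at h1
        exact mul_ne_zero hπ.ne_zero (hc' h2) h1
    have hd : minpoly K (AdjoinRoot.root (f.map (algebraMap A K))) = f.map (algebraMap A K) :=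
      (minpoly.eq_of_irreducible_of_monic hfK (by rw [AdjoinRoot.aeval_eq, AdjoinRoot.mk_self]) (hfm.map _)).symm
    have h := (IntermediateField.isSeparable_adjoin_simple_iff_isSeparable K L
      (x := AdjoinRoot.root (f.map (algebraMap A K)))).2 (by rw [IsSeparable, hd]; exact hsep)
    have htop : IntermediateField.adjoin K {AdjoinRoot.root (f.map (algebraMap A K))} = ⊤ :=
      IntermediateField.adjoin_eq_top_of_algebra K _ AdjoinRoot.adjoinRoot_eq_top
    rw [htop] at h
    haveI := h
    exact Algebra.IsSeparable.of_algHom K _ IntermediateField.topEquiv.symm.toAlgHom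
  let j := algebraMap (AdjoinRoot f) L
  let g := j.comp al
  let V₀ : ValuationSubring L := ValuationSubring.ofSubring j.range fun z => by
    rcases ValuationRing.isInteger_or_isInteger (AdjoinRoot f) z with h | h
    · exact Or.inl h
    · exact Or.inr h
  have hkey : ∀ V : ValuationSubring L, EtRam.Dominates A g V →
      ∀ r, j r ∈ V ∧ (r ∈ IsLocalRing.maximalIdeal (AdjoinRoot f) → V.valuation (j r) < 1) := by
    intro V hV
    have hall : ∀ r, j r ∈ V := fun r => by
      have hr : (algebraMap A (AdjoinRoot f)).IsIntegralElem r := Algebra.IsIntegral.isIntegral r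
      obtain ⟨p, hp, hpr⟩ := hr
      let g' : A →+* V := RingHom.codRestrict g V hV.1
      have hint : IsIntegral V (j r) := ⟨p.map g', hp.map g', by
        rw [eval₂_map, show (algebraMap V L).comp g' = j.comp al from RingHom.ext fun a => rfl]
        exact (hom_eval₂ p al j r).symm.trans (by rw [hpr, map_zero])⟩
      have hv : V.valuation.Integers V :=
        ⟨Subtype.val_injective, fun a => V.valuation_le_one a, fun z hz => ⟨⟨z, V.mem_of_valuation_le_one z hz⟩, rfl⟩⟩
      exact V.mem_of_valuation_le_one _ (hv.mem_of_integral hint)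
    refine fun r => ⟨hall r, fun hr => ?_⟩
    have hvx : V.valuation (j x) < 1 := by
      by_contra hge
      refine absurd (hV.2 π hpm) (not_lt.mpr ?_)
      show 1 ≤ V.valuation (j (al π))
      have h2 : 1 ≤ V.valuation (j (al π)) * V.valuation (j (1 - al c * x)) := by
        rw [← map_mul, ← map_mul, ← hxn, map_pow, map_pow]
        exact one_le_pow₀ (not_lt.mp hge)
      exact h2.trans (mul_le_of_le_one_right zero_le ((V.valuation_le_one_iff _).mpr (hall _)))
    rw [hm, Ideal.mem_span_singleton] at hr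
    obtain ⟨c, rfl⟩ := hr
    rw [map_mul, map_mul]
    exact mul_lt_one_of_lt_of_le hvx ((V.valuation_le_one_iff _).mpr (hall c))
  have hdom₀ : EtRam.Dominates A g V₀ := by
    refine ⟨fun a => ⟨al a, rfl⟩, fun a ha => ?_⟩
    have hle : V₀.valuation (g a) ≤ 1 := (V₀.valuation_le_one_iff _).mpr ⟨al a, rfl⟩
    refine lt_of_le_of_ne hle fun h1 => ?_
    obtain ⟨y, hy⟩ := (V₀.valuation_eq_one_iff ⟨g a, ⟨al a, rfl⟩⟩).mpr h1
    obtain ⟨w, hw⟩ := ((y⁻¹ : V₀ˣ) : V₀).2
    have hu : IsUnit (al a) := by
      refine IsUnit.of_mul_eq_one w (IsFractionRing.injective (AdjoinRoot f) L ?_)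
      rw [map_mul, map_one]
      have hya : ((y : V₀) : L) = g a := congrArg Subtype.val hy
      show g a * j w = 1
      rw [hw, ← hya]
      exact congrArg Subtype.val y.mul_inv
    haveI : IsLocalHom al := RingHom.IsIntegral.isLocalHom (Algebra.IsIntegral.isIntegral (R := A)) hinj
    exact (IsLocalRing.mem_maximalIdeal a).mp ha (isUnit_of_map_unit al a hu)
  have huniq : ∀ V, EtRam.Dominates A g V → V = V₀ := by
    intro V hV
    refine SetLike.ext fun z => ⟨fun hz => ?_, ?_⟩
    swap
    · rintro ⟨r, rfl⟩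
      exact ((hkey V hV) r).1
    rcases eq_or_ne z 0 with rfl | hz0
    · exact ⟨0, map_zero _⟩
    rcases ValuationRing.isInteger_or_isInteger (AdjoinRoot f) z with h | ⟨r, hr⟩
    · exact h
    · by_cases hu : IsUnit r
      · obtain ⟨u, rfl⟩ := hu
        refine ⟨(u⁻¹ : (AdjoinRoot f)ˣ), ?_⟩
        rw [← inv_inv z, ← hr]
        exact map_units_inv j u
      · exfalso
        have h2 := ((hkey V hV) r).2 ((IsLocalRing.mem_maximalIdeal r).mpr hu)
        rw [show j r = z⁻¹ from hr, map_inv₀] at h2
        exact absurd h2 (not_lt.mpr (one_le_inv_iff₀.mpr ⟨zero_lt_iff.mpr ((Valuation.ne_zero_iff _).mpr hz0), (V.valuation_le_one_iff z).mpr hz⟩))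
  refine ⟨⟨V₀, hdom₀⟩, fun V V' h h' => (huniq V h).trans (huniq V' h').symm, fun V h => ?_⟩
  obtain rfl := huniq V h
  intro q
  obtain ⟨⟨z, r, rfl⟩, rfl⟩ := IsLocalRing.residue_surjective q
  obtain ⟨a, ha⟩ := hrep r
  refine ⟨a, ?_⟩
  rw [← sub_eq_zero, ← map_sub, IsLocalRing.residue_eq_zero_iff]
  refine (V₀.valuation_lt_one_iff _).mpr ?_
  show V₀.valuation (j (al a) - j r) < 1
  rw [← map_sub j]
  exact ((hkey V₀ hdom₀) _).2 (by rw [hm, ← neg_sub]; exact neg_mem ha)


end Groth.Agent.S7157

namespace Groth.Agent.S7157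

/-- Let A be a discrete valuation ring, π a uniformizer, K its field of fractions, and suppose the
residue field of A has characteristic p > 0. For every n > 1 and every power q of p there is a
separable degree-q extension L/K that is totally ramified with respect to A and whose ring of
integers B (the integral closure of A in L) contains elements π_B, b, b' with π_B^q = π + πⁿ·b and
π_B^q = π + π_B^(nq)·b' (π_B is then a uniformizer of B and the ramification index is q). -/
theorem result (p : ℕ) (hp : p.Prime) (A K : Type u)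
    [CommRing A] [IsDomain A] [IsDiscreteValuationRing A] [Field K] [Algebra A K] [IsFractionRing A K]
    [CharP (IsLocalRing.ResidueField A) p] (π : A) (hπ : IsLocalRing.maximalIdeal A = Ideal.span {π})
    (n : ℕ) (hn : 1 < n) (k : ℕ) :
    ∃ (L : Type u) (_ : Field L) (_ : Algebra K L) (_ : Algebra A L) (_ : IsScalarTower A K L),
      Module.finrank K L = p ^ k ∧ Algebra.IsSeparable K L ∧ EtRam.IsTotallyRamified A (algebraMap A L) ∧
      ∃ πB b b' : L, πB ∈ integralClosure A L ∧ b ∈ integralClosure A L ∧ b' ∈ integralClosure A L ∧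
        πB ^ (p ^ k) = algebraMap A L π + algebraMap A L π ^ n * b ∧
        πB ^ (p ^ k) = algebraMap A L π + πB ^ (n * p ^ k) * b' := by
  have hπ' : Irreducible π := (IsDiscreteValuationRing.irreducible_iff_uniformizer π).2 hπ
  obtain ⟨n, rfl⟩ : ∃ m, n = m + 1 := ⟨n - 1, by omega⟩
  obtain ⟨e, he, he0⟩ : ∃ e : A, (p ^ k = 1 → π ^ n * e = 0) ∧ (2 ≤ p ^ k → π ^ n * e ≠ 0) := by
    by_cases hq : p ^ k = 1
    · exact ⟨0, fun _ => mul_zero _, fun h => absurd hq (by omega)⟩
    · exact ⟨1, fun h => absurd h hq, fun _ => by rw [mul_one]; exact pow_ne_zero _ hπ'.ne_zero⟩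
  obtain ⟨L, _, _, _, _, hfr, hsep, htr, x, w, hx, hw, hxq, hxw⟩ :=
    exists_ext A K π hπ' (p ^ k) (Nat.one_le_pow _ _ hp.pos) (π ^ n * e) he he0
  refine ⟨L, inferInstance, inferInstance, inferInstance, inferInstance, hfr, hsep, htr,
    x, -(algebraMap A L e * x), -(w ^ (n + 1) * (algebraMap A L e * x)), hx, (isIntegral_algebraMap.mul hx).neg,
    ((hw.pow _).mul (isIntegral_algebraMap.mul hx)).neg, ?_, ?_⟩
  · rw [hxq, map_mul, map_pow]; ring
  · rw [mul_comm (n + 1) (p ^ k), pow_mul, hxq, mul_pow]
    have h1 : (1 - algebraMap A L (π ^ n * e) * x) ^ (n + 1) * w ^ (n + 1) = 1 := by rw [← mul_pow, hxw, one_pow]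
    rw [map_mul, map_pow] at h1 ⊢
    linear_combination (algebraMap A L π ^ (n + 1) * (algebraMap A L e * x)) * h1

end Groth.Agent.S7157
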