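import Groth.Statements.S7155
import Groth.Agent.L19.EtAS.Ext
import Groth.Agent.S7157

set_option autoImplicit false
universe u
open EtAlg

namespace Groth.Agent.S7155

/-- Let A → B → C be injective local homomorphisms of discrete valuation rings whose fields of fractions
are K ⊆ L ⊆ M, where A → B is weakly unramified, K has characteristic p, M/L is Galois of degree p,
and κ_A, inside κ_B, is exactly the set of elements admitting a pⁿ-th root for every n. Then some
finite separable extension K₁/K that is totally ramified with respect to A is a weak solution for A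
→ C. (The published statement asks for K₁/K Galois; this row asks only that K₁/K be separable, which
is what the printed construction provides.) -/
theorem result (p : ℕ) (hp : p.Prime) (A B C K L M : Type u)
    [CommRing A] [IsDomain A] [IsDiscreteValuationRing A] [CommRing B] [IsDomain B] [IsDiscreteValuationRing B]
    [CommRing C] [IsDomain C] [IsDiscreteValuationRing C]
    [Algebra A B] [Algebra B C] [Algebra A C] [IsScalarTower A B C]
    (hAB : Function.Injective (algebraMap A B)) (hBC : Function.Injective (algebraMap B C))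
    [IsLocalHom (algebraMap A B)] [IsLocalHom (algebraMap B C)]
    [Field K] [Field L] [Field M] [Algebra A K] [IsFractionRing A K] [Algebra B L] [IsFractionRing B L]
    [Algebra C M] [IsFractionRing C M] [Algebra K L] [Algebra L M] [Algebra K M] [IsScalarTower K L M]
    [Algebra A L] [IsScalarTower A K L] [IsScalarTower A B L] [Algebra B M] [IsScalarTower B L M] [IsScalarTower B C M]
    [Algebra A M] [IsScalarTower A K M] [IsScalarTower A C M]
    (hw : EtRam.IsWeaklyUnramified A B) [CharP K p] [IsGalois L M] (hdeg : Module.finrank L M = p)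
    (hk : ∀ x : IsLocalRing.ResidueField B, (∀ n : ℕ, ∃ y : IsLocalRing.ResidueField B, y ^ (p ^ n) = x) ↔
      x ∈ Set.range (algebraMap (IsLocalRing.ResidueField A) (IsLocalRing.ResidueField B))) :
    ∃ (K₁ : Type u) (_ : Field K₁) (_ : Algebra K K₁), FiniteDimensional K K₁ ∧ Algebra.IsSeparable K K₁ ∧
      EtRam.IsTotallyRamified A ((algebraMap K K₁).comp (algebraMap A K)) ∧ EtRam.IsWeakSolution C K M K₁ := by
  classical
  haveI := Fact.mk hp
  haveI : CharP L p := charP_of_injective_algebraMap (algebraMap K L).injective p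
  haveI : CharP A p := (algebraMap A K).charP (IsFractionRing.injective A K) p
  haveI : CharP B p := (algebraMap B L).charP (IsFractionRing.injective B L) p
  haveI : CharP (IsLocalRing.ResidueField A) p := (CharP.charP_iff_prime_eq_zero hp).mpr (by
    rw [← map_natCast (IsLocalRing.residue A), CharP.cast_eq_zero, map_zero])
  haveI : CharP (IsLocalRing.ResidueField B) p := (CharP.charP_iff_prime_eq_zero hp).mpr (by
    rw [← map_natCast (IsLocalRing.residue B), CharP.cast_eq_zero, map_zero])
  have hperf : ∀ x : IsLocalRing.ResidueField A, ∃ y, y ^ p = x := by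
    intro x
    set ι := algebraMap (IsLocalRing.ResidueField A) (IsLocalRing.ResidueField B) with hι
    obtain ⟨y, hy⟩ := (hk (ι x)).mpr ⟨x, rfl⟩ 1
    rw [pow_one] at hy
    obtain ⟨w, hw'⟩ := (hk y).mp fun n => by
      obtain ⟨y', hy'⟩ := (hk (ι x)).mpr ⟨x, rfl⟩ (n + 1)
      refine ⟨y', frobenius_inj (IsLocalRing.ResidueField B) p ?_⟩
      rw [frobenius_def, frobenius_def, hy, ← pow_mul, ← pow_succ, hy']
    exact ⟨w, ι.injective (by rw [map_pow, hι, hw', hy])⟩
  obtain ⟨π, hπA⟩ := IsDiscreteValuationRing.exists_irreducible A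
  have hπB : Irreducible (algebraMap A B π) := (IsDiscreteValuationRing.irreducible_iff_uniformizer _).mpr (by
    rw [← hw, hπA.maximalIdeal_eq, Ideal.map_span, Set.image_singleton])
  obtain ⟨z₀, f, hM, hz₀⟩ := Groth.L19.EtAS.exists_generator (L := L) (M := M) hp hdeg
  obtain ⟨N, c₀, hN⟩ := Groth.L19.EtAS.exists_mul_pow_mem hπB f
  obtain ⟨a, S, n, s, g, b, hf, hS⟩ :=
    Groth.L19.EtAS.exists_normal_form hp (A := A) (K := K) hk π hπB N f c₀ hN
  obtain ⟨Kt, _, _, _, _, hfr, hsep, htr, t, β, -, -, hβ, -, ht, -⟩ :=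
    Groth.Agent.S7157.result p hp A K π hπA.maximalIdeal_eq (N + 2) (by omega) (S.sup n + 1)
  obtain ⟨K₁, _, _, T, t₁, β₁, h, c, hc, hfr₁, hsep₁, ht₁, hV⟩ :=
    Groth.L19.EtAS.exists_ext hp hperf hπA a (S.sup n + 1) (N + 1) htr hfr t β (by omega) hβ ht
  have he : 0 < p ^ (S.sup n + 1) * c := Nat.mul_pos (pow_pos hp.pos _) hc
  refine ⟨K₁, inferInstance, inferInstance, Module.finite_of_finrank_pos (hfr₁ ▸ he), hsep₁,
    Groth.L19.EtAS.isTotallyRamified_of_pow hπA he hfr₁ T fun V hVd => (hV V hVd).2.2, ?_⟩
  exact Groth.L19.EtAS.isWeakSolution_of_data hp (L := L) (M := M) hperf hπA hπB z₀ hM f hz₀ a S n s g b hf N hS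
    (S.sup n + 1) (fun i hi => Nat.lt_succ_of_le (Finset.le_sup (f := n) hi)) T t₁ β₁ h c hc hfr₁ ht₁
    (fun V hVd => (hV V hVd).1) (fun V hVd => (hV V hVd).2.1) (fun V hVd => (hV V hVd).2.2)

end Groth.Agent.S7155
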