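import Groth.Statements.S7156
import Groth.Agent.L19.EtTri.Approx
import Groth.Agent.L19.EtTri.Weak
import Groth.Agent.S7157
import Groth.Agent.S1984
import Mathlib.RingTheory.Unramified.Field

set_option autoImplicit false
universe u
open EtAlg

namespace Groth.Agent.S7156

open TensorProduct in
/-- Let A → B → C be injective local homomorphisms of discrete valuation rings whose fields of fractions
are K ⊆ L ⊆ M, and let π be a uniformizer of A; suppose B is a Nagata ring, A → B is weakly
unramified, and M/L is purely inseparable of prime degree p. Then one of the following holds: the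
extension A → C is itself weakly unramified; or else C = B[π^(1/p)]; or else there is a separable
degree-p extension K₁/K, totally ramified with respect to A, for which L ⊗_K K₁ and M ⊗_K K₁ are
fields and the integral closures A₁ → B₁ → C₁ are weakly unramified extensions, i.e. K₁ is a weak
solution for A ⊆ B and for A ⊆ C. -/
theorem result (p : ℕ) (hp : p.Prime) (A B C K L M : Type u)
    [CommRing A] [IsDomain A] [IsDiscreteValuationRing A] [CommRing B] [IsDomain B] [IsDiscreteValuationRing B]
    [CommRing C] [IsDomain C] [IsDiscreteValuationRing C]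
    [Algebra A B] [Algebra B C] [Algebra A C] [IsScalarTower A B C]
    (hAB : Function.Injective (algebraMap A B)) (hBC : Function.Injective (algebraMap B C))
    [IsLocalHom (algebraMap A B)] [IsLocalHom (algebraMap B C)]
    [Field K] [Field L] [Field M] [Algebra A K] [IsFractionRing A K] [Algebra B L] [IsFractionRing B L]
    [Algebra C M] [IsFractionRing C M] [Algebra K L] [Algebra L M] [Algebra K M] [IsScalarTower K L M]
    [Algebra A L] [IsScalarTower A K L] [IsScalarTower A B L] [Algebra B M] [IsScalarTower B L M] [IsScalarTower B C M]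
    [Algebra A M] [IsScalarTower A K M] [IsScalarTower A C M]
    (π : A) (hπ : IsLocalRing.maximalIdeal A = Ideal.span {π}) (hB : CAlg.IsNagata B)
    (hw : EtRam.IsWeaklyUnramified A B) [IsPurelyInseparable L M] (hdeg : Module.finrank L M = p) :
    EtRam.IsWeaklyUnramified A C ∨
      (∃ c : C, c ^ p = algebraMap A C π ∧ Algebra.adjoin B {c} = ⊤) ∨
      ∃ (K₁ : Type u) (_ : Field K₁) (_ : Algebra K K₁),
        Module.finrank K K₁ = p ∧ Algebra.IsSeparable K K₁ ∧
          EtRam.IsTotallyRamified A ((algebraMap K K₁).comp (algebraMap A K)) ∧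
          IsField (L ⊗[K] K₁) ∧ IsField (M ⊗[K] K₁) ∧
          EtRam.IsWeakSolution B K L K₁ ∧ EtRam.IsWeakSolution C K M K₁ := by
  classical
  haveI := Fact.mk hp
  haveI : Nontrivial (L) := inferInstance
  haveI hfin : FiniteDimensional L M := Module.finite_of_finrank_pos (hdeg ▸ hp.pos)
  -- characteristic
  haveI hLp : CharP L p := by
    obtain ⟨q, hq⟩ := ExpChar.exists L
    obtain ⟨n, hn⟩ := IsPurelyInseparable.finrank_eq_pow L M q
    rw [hdeg] at hn
    rcases hq with _ | hpr
    · exact absurd hn (by rw [one_pow]; exact hp.one_lt.ne')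
    · have hn0 : n ≠ 0 := fun h => by rw [h, pow_zero] at hn; exact hp.one_lt.ne' hn
      obtain rfl : q = p := ((Nat.prime_dvd_prime_iff_eq hpr hp).mp (hn ▸ dvd_pow_self q hn0))
      infer_instance
  haveI : ExpChar L p := ExpChar.prime hp
  haveI : CharP K p := (algebraMap K L).charP (algebraMap K L).injective p
  haveI hBp : CharP B p := (algebraMap B L).charP (IsFractionRing.injective B L) p
  haveI : CharP A p := (algebraMap A B).charP hAB p
  haveI : CharP M p := charP_of_injective_algebraMap (algebraMap L M).injective p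
  haveI : CharP (IsLocalRing.ResidueField A) p := (CharP.charP_iff_prime_eq_zero hp).mpr (by
    rw [← map_natCast (IsLocalRing.residue A), CharP.cast_eq_zero, map_zero])
  set πB := algebraMap A B π with hπBdef
  have hπB : Irreducible πB := (IsDiscreteValuationRing.irreducible_iff_uniformizer _).mpr (by
    rw [← hw, hπ, Ideal.map_span, Set.image_singleton])
  by_cases hA : EtRam.IsWeaklyUnramified A C
  · exact Or.inl hA
  refine Or.inr ?_
  by_cases hroot : ∃ δ : M, δ ^ p = algebraMap L M (algebraMap B L πB)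
  · obtain ⟨δ, hδ⟩ := hroot
    rw [← IsScalarTower.algebraMap_apply B L M] at hδ
    obtain ⟨-, c, -, hc, htop⟩ := Groth.L19.EtTri.adjoin_eq_top (L := L) (C := C) hp.pos hdeg hπB δ hδ
    exact Or.inl ⟨c, by rw [hc, ← IsScalarTower.algebraMap_apply A B C], htop⟩
  refine Or.inr ?_
  -- a uniformiser of `C`
  obtain ⟨ϖ, hϖ⟩ := IsDiscreteValuationRing.exists_irreducible C
  obtain ⟨l, hl⟩ : ∃ l : L, algebraMap L M l = algebraMap C M ϖ ^ p := by
    obtain ⟨n, hn⟩ := IsPurelyInseparable.pow_mem L p (algebraMap C M ϖ)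
    obtain ⟨k, y, hk⟩ := IsPurelyInseparable.minpoly_eq_X_pow_sub_C L p (algebraMap C M ϖ)
    have hd := minpoly.degree_dvd (K := L) (IsIntegral.of_finite L (algebraMap C M ϖ))
    rw [hdeg, hk, Polynomial.natDegree_X_pow_sub_C] at hd
    have h0 := minpoly.aeval L (algebraMap C M ϖ)
    rw [hk] at h0
    simp only [map_sub, map_pow, Polynomial.aeval_X, Polynomial.aeval_C, sub_eq_zero] at h0
    rcases (Nat.dvd_prime hp).mp hd with h | h
    · rw [h, pow_one] at h0; exact ⟨y ^ p, by rw [map_pow, h0]⟩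
    · rw [h] at h0; exact ⟨y, h0.symm⟩
  obtain ⟨W, hWC⟩ := Groth.L05.TotRam.exists_dominating C (algebraMap C M) (IsFractionRing.injective C M)
  have hWB : EtRam.Dominates B ((algebraMap L M).comp (algebraMap B L)) W := by
    refine ⟨fun b => ?_, fun b hb => ?_⟩ <;>
      rw [RingHom.comp_apply, ← IsScalarTower.algebraMap_apply B L M, IsScalarTower.algebraMap_apply B C M]
    · exact hWC.1 _
    · exact hWC.2 _ (map_nonunit _ _ hb)
  obtain ⟨hπ0, hπ1, hvalB, -⟩ := Groth.L19.EtTri.dominates_facts W hWB hπB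
  obtain ⟨hϖ0, hϖ1, hvalC, -⟩ := Groth.L19.EtTri.dominates_facts (L := M) W
    (by exact hWC) hϖ
  simp only [Algebra.algebraMap_self, RingHom.id_apply] at hϖ0 hϖ1 hvalC
  have hπC0 : algebraMap B C πB ≠ 0 := by rw [Ne, map_eq_zero_iff _ hBC]; exact hπB.ne_zero
  obtain ⟨e, v, hev⟩ := IsDiscreteValuationRing.eq_unit_mul_pow_irreducible hπC0 hϖ
  have he1 : e ≠ 1 := by
    rintro rfl
    refine hA ?_
    unfold EtRam.IsWeaklyUnramified
    rw [hπ, Ideal.map_span, Set.image_singleton, IsScalarTower.algebraMap_apply A B C, ← hπBdef, hev,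
      pow_one, Irreducible.maximalIdeal_eq hϖ, mul_comm, Ideal.span_singleton_mul_right_unit v.isUnit]
  have hπv : W.valuation (algebraMap L M (algebraMap B L πB)) = W.valuation (algebraMap C M ϖ) ^ e := by
    rw [← IsScalarTower.algebraMap_apply B L M, IsScalarTower.algebraMap_apply B C M, hev, map_mul, map_mul,
      map_pow, map_pow, Groth.L19.EtTri.valuation_units W (algebraMap C M) hWC.1 v, one_mul]
  have hl0 : l ≠ 0 := fun h => pow_ne_zero p hϖ0 (by rw [← hl, h, map_zero])
  obtain ⟨k, w, hlw, hlk⟩ := hvalB l hl0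
  rw [hl, map_pow, hπv, ← zpow_natCast, ← zpow_natCast _ e, ← zpow_mul] at hlk
  have hek := zpow_right_injective₀ (zero_lt_iff.mpr ((map_ne_zero _).mpr hϖ0)) hϖ1.ne hlk
  have hk1 : k = 1 := by
    have hd : e ∣ p := Int.natCast_dvd_natCast.mp ⟨k, hek⟩
    rcases (Nat.dvd_prime hp).mp hd with h | h
    · exact absurd h he1
    · subst h
      have hp0 : (e : ℤ) ≠ 0 := by exact_mod_cast hp.pos.ne'
      exact mul_left_cancel₀ hp0 (by rw [mul_one]; exact hek.symm)
  subst hk1
  set ρ := algebraMap C M ϖ with hρdef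
  have hρp : ρ ^ p = algebraMap L M (algebraMap B L (πB * (w : B))) := by
    rw [← hl, hlw, zpow_one, map_mul (algebraMap B L), mul_comm]
  have hli : LinearIndependent L (fun i : Fin p => ρ ^ (i : ℕ)) := by
    refine Groth.L19.EtTri.linearIndependent_low W ρ hϖ0 hϖ1 fun x hx => ?_
    obtain ⟨j, -, -, hj⟩ := hvalB x hx
    refine ⟨j, ?_⟩
    rw [hj, hπv, zpow_mul, zpow_natCast]
    congr 2
    rcases (Nat.dvd_prime hp).mp (Int.natCast_dvd_natCast.mp ⟨1, hek⟩ : e ∣ p) with h | h
    · exact absurd h he1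
    · exact h
  have hN2 := Groth.L01.Nagata.isN2_of_isNagata hB
  have hnot : ∃ n, ¬ ∃ (b : Fin p → B) (r : B),
      (w : B) = ∑ i : Fin p, πB ^ (i : ℕ) * b i ^ p + πB ^ n * r := by
    by_contra hall
    push Not at hall
    exact hroot (Groth.L19.EtTri.exists_root_of_approx hp hN2 hdeg hπB w ρ hρp hli hall)
  obtain ⟨N, b, r, hu, hr⟩ := Groth.L19.EtTri.exists_best hp hπB (w : B) hnot
  obtain ⟨K₁, _, _, _, _, hfr, hsep, htr, t, β, -, -, hβ, -, htp, -⟩ :=
    Groth.Agent.S7157.result p hp A K π hπ (N + 2) (by omega) 1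
  rw [pow_one] at hfr
  rw [pow_one] at htp
  haveI : FiniteDimensional K K₁ := Module.finite_of_finrank_pos (hfr ▸ hp.pos)
  have htr' : EtRam.IsTotallyRamified A ((algebraMap K K₁).comp (algebraMap A K)) := by
    rwa [← IsScalarTower.algebraMap_eq A K K₁]
  obtain ⟨hfield, hweak⟩ := Groth.Agent.S1984.result A B K L hAB hw K₁ htr'
  refine ⟨K₁, inferInstance, inferInstance, hfr, hsep, htr', hfield, ?_, hweak,
    Groth.L19.EtTri.isWeakSolution hp (M := M) (L := L) hdeg hπB ρ w hρp hli N b r hu hr hfr t β hβ htp⟩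
  -- `M ⊗ K₁` is a field
  haveI : Algebra.FormallyUnramified K K₁ := Algebra.FormallyUnramified.of_isSeparable K K₁
  haveI : IsReduced (M ⊗[K] K₁) := Algebra.FormallyUnramified.isReduced_of_field M (M ⊗[K] K₁)
  haveI : Nontrivial (M ⊗[K] K₁) :=
    (Algebra.TensorProduct.includeLeft_injective (S := K) (RingHom.injective (algebraMap K K₁))).nontrivial
  haveI : CharP (M ⊗[K] K₁) p := charP_of_injective_algebraMap (algebraMap M (M ⊗[K] K₁)).injective p
  let f : L ⊗[K] K₁ →ₐ[K] M ⊗[K] K₁ :=
    Algebra.TensorProduct.map (IsScalarTower.toAlgHom K L M) (AlgHom.id K K₁)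
  have hmem : ∀ z : M ⊗[K] K₁, z ^ p ∈ f.range := by
    intro z
    induction z with
    | zero => rw [zero_pow hp.pos.ne']; exact zero_mem _
    | add a c ha hc => rw [add_pow_char]; exact add_mem ha hc
    | tmul m a =>
      obtain ⟨k, y, hk⟩ := IsPurelyInseparable.minpoly_eq_X_pow_sub_C L p m
      have hd := minpoly.degree_dvd (K := L) (IsIntegral.of_finite L m)
      rw [hdeg, hk, Polynomial.natDegree_X_pow_sub_C] at hd
      have h0 := minpoly.aeval L m
      rw [hk] at h0
      simp only [map_sub, map_pow, Polynomial.aeval_X, Polynomial.aeval_C, sub_eq_zero] at h0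
      obtain ⟨q, hq⟩ : ∃ q, algebraMap L M q = m ^ p := by
        rcases (Nat.dvd_prime hp).mp hd with h | h
        · rw [h, pow_one] at h0; exact ⟨y ^ p, by rw [map_pow, h0]⟩
        · rw [h] at h0; exact ⟨y, h0.symm⟩
      exact ⟨q ⊗ₜ (a ^ p), by
        rw [Algebra.TensorProduct.tmul_pow, ← hq]
        rfl⟩
  refine ⟨⟨0, 1, zero_ne_one⟩, mul_comm, fun {z} hz => ?_⟩
  obtain ⟨x, hx⟩ := hmem z
  have hx0 : x ≠ 0 := fun h => pow_ne_zero p hz (by rw [← hx, h, map_zero])
  obtain ⟨x', hx'⟩ := hfield.mul_inv_cancel hx0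
  refine ⟨z ^ (p - 1) * f x', ?_⟩
  rw [← mul_assoc, ← pow_succ', Nat.sub_add_cancel hp.pos, ← hx]
  show f x * f x' = 1
  rw [← map_mul, hx', map_one]

end Groth.Agent.S7156
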