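import Groth.Statements.S7160
import Groth.Agent.L29.Dual.HomLinear

set_option autoImplicit false
universe u
open CategoryTheory CategoryTheory.Pretriangulated
attribute [local instance] HasDerivedCategory.standard
open CAlg

namespace Groth.Agent.S7160

/-- Let R be a ring, f an element of R, M an object of D(R) and C the cone of f : M → M. Suppose that
H^i(M)_f = 0 whenever i < 0 (every element of H^i(M) is killed by a power of f) and that H^i(C) = 0
whenever i < -1. Then H^i(M) vanishes for every i < 0. -/
theorem result (R : Type u) [CommRing R] (f : R) (M C : Dual.D R)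
    (g : M ⟶ C) (h : C ⟶ M⟦(1 : ℤ)⟧) (hT : Triangle.mk (f • 𝟙 M) g h ∈ distinguishedTriangles)
    (hloc : ∀ i : ℤ, i < 0 → ∀ x : Dual.HD R M i, ∃ n : ℕ, f ^ n • x = 0)
    (hC : ∀ i : ℤ, i < -1 → Subsingleton (Dual.HD R C i)) :
    ∀ i : ℤ, i < 0 → Subsingleton (Dual.HD R M i) := by
  intro i hi
  have hmono : Mono ((DerivedCategory.homologyFunctor (ModuleCat.{u} R) i).map (f • 𝟙 M)) := by
    refine (DerivedCategory.HomologySequence.mono_homologyMap_mor₁_iff _ hT (i - 1) i (by omega)).2 ?_
    have : Subsingleton (Dual.HD R C (i - 1)) := hC (i - 1) (by omega)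
    exact (@ModuleCat.isZero_of_subsingleton _ _ _ this).eq_of_src _ _
  rw [Functor.map_smul, CategoryTheory.Functor.map_id] at hmono
  have hinj : Function.Injective fun x : Dual.HD R M i => f • x := (ModuleCat.mono_iff_injective _).1 hmono
  refine ⟨fun x y => ?_⟩
  rw [← sub_eq_zero]
  generalize x - y = z
  obtain ⟨n, hn⟩ := hloc i hi z
  induction n with
  | zero => simpa using hn
  | succ n ih =>
    apply ih
    apply hinj
    simpa [pow_succ', mul_smul] using hn

end Groth.Agent.S7160
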