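import Groth.Statements.S7162
import Groth.Agent.L06.SolHensel.Main

set_option autoImplicit false
set_option maxSynthPendingDepth 3
set_option linter.style.haveILetI false
universe u
open EtAlg

namespace Groth.Agent.S7162

/-- Let A → B be an injective local homomorphism of discrete valuation rings whose fields of fractions
are K ⊆ L. There is a commutative square of such extensions A ⊆ A', B ⊆ B', A' ⊆ B' (with fraction
fields K', L') such that (1) K'/K and L'/L are separable algebraic, (2) the residue field of A' is a
separable algebraic closure of that of A, and likewise for B' over B, and (3) whenever A' ⊆ B'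
admits a solution (respectively a separable solution), so does A ⊆ B. (The published statement
asserts (3) for weak solutions as well; that clause is left out here: a weak solution for A' ⊆ B'
descends to a finite extension of K but controls only those local extensions attached to embeddings
compatible with K ⊆ K', and weak solutions, unlike solutions, are not preserved under passing to a
normal closure; the clause can fail when the residue field of A is not separably closed in that of
B.) -/
theorem result (A B K L : Type u) [CommRing A] [IsDomain A]
    [IsDiscreteValuationRing A] [CommRing B] [IsDomain B] [IsDiscreteValuationRing B] [Algebra A B]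
    (hinj : Function.Injective (algebraMap A B)) [IsLocalHom (algebraMap A B)]
    [Field K] [Field L] [Algebra A K] [IsFractionRing A K] [Algebra B L] [IsFractionRing B L]
    [Algebra K L] [Algebra A L] [IsScalarTower A K L] [IsScalarTower A B L] :
    ∃ (A' B' K' L' : Type u) (_ : CommRing A') (_ : IsDomain A') (_ : IsDiscreteValuationRing A')
      (_ : CommRing B') (_ : IsDomain B') (_ : IsDiscreteValuationRing B') (_ : Field K') (_ : Field L')
      (_ : Algebra A A') (_ : Algebra B B') (_ : Algebra A' B') (_ : Algebra A B')
      (_ : IsScalarTower A B B') (_ : IsScalarTower A A' B')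
      (_ : Algebra A' K') (_ : IsFractionRing A' K') (_ : Algebra B' L') (_ : IsFractionRing B' L')
      (_ : Algebra K' L') (_ : Algebra A' L') (_ : IsScalarTower A' K' L') (_ : IsScalarTower A' B' L')
      (_ : Algebra K K') (_ : Algebra A K') (_ : IsScalarTower A K K') (_ : IsScalarTower A A' K')
      (_ : Algebra L L') (_ : Algebra B L') (_ : IsScalarTower B L L') (_ : IsScalarTower B B' L')
      (hA : IsLocalHom (algebraMap A A')) (hB : IsLocalHom (algebraMap B B')) (_ : IsLocalHom (algebraMap A' B')),
      Function.Injective (algebraMap A A') ∧ Function.Injective (algebraMap B B') ∧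
      Function.Injective (algebraMap A' B') ∧
      Algebra.IsSeparable K K' ∧ Algebra.IsSeparable L L' ∧
      (letI := (IsLocalRing.ResidueField.map (algebraMap A A')).toAlgebra
       IsSepClosure (IsLocalRing.ResidueField A) (IsLocalRing.ResidueField A')) ∧
      (letI := (IsLocalRing.ResidueField.map (algebraMap B B')).toAlgebra
       IsSepClosure (IsLocalRing.ResidueField B) (IsLocalRing.ResidueField B')) ∧
      ((∃ (K₁ : Type u) (_ : Field K₁) (_ : Algebra K' K₁), FiniteDimensional K' K₁ ∧ EtRam.IsSolution B' K' L' K₁) →
        ∃ (K₁ : Type u) (_ : Field K₁) (_ : Algebra K K₁), FiniteDimensional K K₁ ∧ EtRam.IsSolution B K L K₁) ∧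
      ((∃ (K₁ : Type u) (_ : Field K₁) (_ : Algebra K' K₁), FiniteDimensional K' K₁ ∧ Algebra.IsSeparable K' K₁ ∧
          EtRam.IsSolution B' K' L' K₁) →
        ∃ (K₁ : Type u) (_ : Field K₁) (_ : Algebra K K₁), FiniteDimensional K K₁ ∧ Algebra.IsSeparable K K₁ ∧
          EtRam.IsSolution B K L K₁) := by
  classical
  obtain ⟨A', _, _, _, _, _, hiA, hA, hindA⟩ := Groth.L06.SolHensel.exists_strict_extension A
  obtain ⟨B', _, _, _, _, _, hiB, hB, hindB⟩ := Groth.L06.SolHensel.exists_strict_extension B
  haveI := hA
  haveI := hB
  obtain ⟨g, hg, hgl, hgi⟩ := Groth.L06.SolHensel.exists_square (A' := A') hinj (B' := B') hiB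
  letI : Algebra A' B' := g.toAlgebra
  haveI : IsLocalHom (algebraMap A' B') := hgl
  letI : Algebra A B' := ((algebraMap B B').comp (algebraMap A B)).toAlgebra
  haveI : IsScalarTower A B B' := IsScalarTower.of_algebraMap_eq fun _ => rfl
  haveI : IsScalarTower A A' B' := IsScalarTower.of_algebraMap_eq fun a => (RingHom.congr_fun hg a).symm
  let K' := FractionRing A'
  let L' := FractionRing B'
  have hgL : Function.Injective ((algebraMap B' L').comp (algebraMap A' B')) :=
    (IsFractionRing.injective B' L').comp hgi
  letI : Algebra K' L' := (IsFractionRing.lift (K := K') hgL).toAlgebra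
  haveI : IsScalarTower A' B' L' := inferInstance
  haveI : IsScalarTower A' K' L' := IsScalarTower.of_algebraMap_eq fun a =>
    (IsScalarTower.algebraMap_apply A' B' L' a).trans (IsFractionRing.lift_algebraMap (K := K') hgL a).symm
  have hAK : Function.Injective ((algebraMap A' K').comp (algebraMap A A')) :=
    (IsFractionRing.injective A' K').comp hiA
  haveI : IsScalarTower A A' K' := inferInstance
  letI : Algebra K K' := (IsFractionRing.lift (K := K) hAK).toAlgebra
  haveI : IsScalarTower A K K' := IsScalarTower.of_algebraMap_eq fun a =>
    (IsScalarTower.algebraMap_apply A A' K' a).trans (IsFractionRing.lift_algebraMap (K := K) hAK a).symm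
  have hBL : Function.Injective ((algebraMap B' L').comp (algebraMap B B')) :=
    (IsFractionRing.injective B' L').comp hiB
  haveI : IsScalarTower B B' L' := inferInstance
  letI : Algebra L L' := (IsFractionRing.lift (K := L) hBL).toAlgebra
  haveI : IsScalarTower B L L' := IsScalarTower.of_algebraMap_eq fun b =>
    (IsScalarTower.algebraMap_apply B B' L' b).trans (IsFractionRing.lift_algebraMap (K := L) hBL b).symm
  haveI hKs : Algebra.IsSeparable K K' := Groth.L06.SolHensel.isSeparable_fractionRing hindA
  haveI hLs : Algebra.IsSeparable L L' := Groth.L06.SolHensel.isSeparable_fractionRing hindB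
  refine ⟨A', B', K', L', inferInstance, inferInstance, inferInstance, inferInstance, inferInstance, inferInstance,
    inferInstance, inferInstance, inferInstance, inferInstance, inferInstance, inferInstance, inferInstance,
    inferInstance, inferInstance, inferInstance, inferInstance, inferInstance, inferInstance, inferInstance,
    inferInstance, inferInstance, inferInstance, inferInstance, inferInstance, inferInstance, inferInstance,
    inferInstance, inferInstance, inferInstance, inferInstance, inferInstance, inferInstance, hiA, hiB, hgi, hKs, hLs,
    ?_, ?_, ?_, ?_⟩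
  · convert hA.isSepClosure using 1
    exact Algebra.algebra_ext _ _ fun r => rfl
  · convert hB.isSepClosure using 1
    exact Algebra.algebra_ext _ _ fun r => rfl
  · rintro ⟨K₁, _, _, hfin, hsol⟩
    haveI := hfin
    obtain ⟨N, i1, i2, h1, -, h3⟩ := Groth.L06.SolHensel.exists_descended_solution (A := A) (B := B) (K := K) (L := L)
      hiB hindA K₁ hsol
    exact ⟨N, i1, i2, h1, h3⟩
  · rintro ⟨K₁, _, _, hfin, hsep, hsol⟩
    haveI := hfin
    obtain ⟨N, i1, i2, h1, h2, h3⟩ := Groth.L06.SolHensel.exists_descended_solution (A := A) (B := B) (K := K) (L := L)
      hiB hindA K₁ hsol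
    exact ⟨N, i1, i2, h1, h2 hsep, h3⟩

end Groth.Agent.S7162
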