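import Groth.Statements.S7163
import Groth.Agent.L03.SerreSplit

set_option autoImplicit false
universe u
open CAlg

namespace Groth.Agent.S7163

/-- Let R be a ring whose set Ω of closed points of Spec R is a Noetherian topological space and M a
finitely presented R-module; for x in Ω write M(x) = M/xM, B(x) for the classes of elements m with
φ(m) in x for every linear form φ, and V(x) = M(x)/B(x). Let s_1, ..., s_h be elements of M, F ⊆ Ω a
closed subset containing the set Z(s_1, ..., s_h) of points where the images of the s_i in V(x) are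
linearly dependent, x_1, ..., x_n pairwise distinct points of F, v_i elements of M(x_i), and k ≥ 0
an integer with h + k ≤ dim V(x) for all x in Ω. Then there are s in M and a closed F' ⊆ Ω such that
(a) s(x_i) and v_i have the same image in V(x_i), (b) Z(s_1, ..., s_h, s) ⊆ F ∪ F', and (c) each
irreducible component of F′ is of codimension at least k in Ω (equivalently, so is each irreducible
closed subset of Ω lying in F′). -/
theorem result (R : Type u) [CommRing R] [TopologicalSpace.NoetherianSpace (MaximalSpectrum R)]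
    (M : Type u) [AddCommGroup M] [Module R M] [Module.FinitePresentation R M]
    (h : ℕ) (s : Fin h → M) (F : Set (MaximalSpectrum R)) (hF : IsClosed F)
    (n : ℕ) (xs : Fin n → MaximalSpectrum R) (hxs : Function.Injective xs) (hxF : ∀ i, xs i ∈ F)
    (v : ∀ i : Fin n, M ⧸ ((xs i).asIdeal • ⊤ : Submodule R M)) (k : ℕ) :
    let Bq : ∀ x : MaximalSpectrum R, Submodule (R ⧸ x.asIdeal) (M ⧸ (x.asIdeal • ⊤ : Submodule R M)) :=
      fun x => Submodule.span (R ⧸ x.asIdeal)
        ((x.asIdeal • ⊤ : Submodule R M).mkQ '' {m : M | ∀ φ : M →ₗ[R] R, φ m ∈ x.asIdeal})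
    let img : ∀ x : MaximalSpectrum R, M → (M ⧸ (x.asIdeal • ⊤ : Submodule R M)) ⧸ Bq x :=
      fun x m => (Bq x).mkQ ((x.asIdeal • ⊤ : Submodule R M).mkQ m)
    (∀ x : MaximalSpectrum R, h + k ≤ Module.finrank (R ⧸ x.asIdeal) ((M ⧸ (x.asIdeal • ⊤ : Submodule R M)) ⧸ Bq x)) →
    (∀ x : MaximalSpectrum R, ¬ LinearIndependent (R ⧸ x.asIdeal) (fun i => img x (s i)) → x ∈ F) →
    ∃ (t : M) (F' : Set (MaximalSpectrum R)), IsClosed F' ∧
      (∀ i : Fin n, img (xs i) t = (Bq (xs i)).mkQ (v i)) ∧
      (∀ x : MaximalSpectrum R,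
        ¬ LinearIndependent (R ⧸ x.asIdeal) (Fin.snoc (fun i => img x (s i)) (img x t)) → x ∈ F ∪ F') ∧
      ∀ Z : TopologicalSpace.IrreducibleCloseds (MaximalSpectrum R), (Z : Set (MaximalSpectrum R)) ⊆ F' →
        (k : ℕ∞) ≤ Order.coheight Z := by
  classical
  intro Bq img hdim hbad
  choose v' hv' using fun i => Submodule.Quotient.mk_surjective _ (v i)
  obtain ⟨t, F', hF', ht, hb, hcod⟩ := Groth.L03.SerreSplit.exists_section k h s F hF hdim
    (fun x hx => hbad x hx) (Finset.univ.image xs) (fun x hx => by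
      obtain ⟨i, -, rfl⟩ := Finset.mem_image.1 hx
      exact hxF i)
    (fun x => if hx : ∃ i, xs i = x then v' hx.choose else 0)
  refine ⟨t, F', hF', fun i => ?_, fun x hx => hb ?_, hcod⟩
  · have h1 := ht (xs i) (Finset.mem_image.2 ⟨i, Finset.mem_univ _, rfl⟩)
    have hex : ∃ j, xs j = xs i := ⟨i, rfl⟩
    rw [dif_pos hex, hxs hex.choose_spec] at h1
    show Groth.L03.SerreSplit.img (xs i).asIdeal t = _
    rw [h1, ← hv' i]
    rfl
  · show ¬ _
    intro hli
    apply hx
    have he : (fun i => Groth.L03.SerreSplit.img x.asIdeal ((Fin.snoc s t : Fin (h + 1) → M) i)) =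
        Fin.snoc (fun i => Groth.L03.SerreSplit.img x.asIdeal (s i))
          (Groth.L03.SerreSplit.img x.asIdeal t) := Fin.comp_snoc (Groth.L03.SerreSplit.img x.asIdeal) s t
    rw [he] at hli
    exact hli

end Groth.Agent.S7163
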