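import Groth.Statements.S7164
import Groth.Agent.L03.ExtPC

set_option autoImplicit false
universe u
open CategoryTheory
attribute [local instance] HasDerivedCategory.standard
open CAlg

open CategoryTheory

namespace Groth.Agent.S7164

/-- Let A be a Noetherian ring, I an ideal, K a pseudo-coherent object of D(A) and a an integer. Assume
that for every finite A-module M and every i ≥ a the module Ext^i_A(K, M) is I-power torsion. Then
for i ≥ a and M finite the inverse system (Ext^i_A(K, M/IⁿM))_n is essentially constant with value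
Ext^i_A(K, M) (so that Ext^i_A(K, M) = lim Ext^i_A(K, M/IⁿM)): concretely, some comparison map
Ext^i(K, M) → Ext^i(K, M/I^mM) is injective and for every n there is m' ≥ n such that the image of
the transition map Ext^i(K, M/I^(m')M) → Ext^i(K, M/IⁿM) is contained in the image of Ext^i(K, M).
Here Ext^i(K, X) = Hom_{D(A)}(K, X[i]). -/
theorem result (A : Type u) [CommRing A] [IsNoetherianRing A]
    (I : Ideal A) (K : Dual.D A) (hK : DRing.IsPseudoCoherent' A K) (a : ℤ)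
    (htors : ∀ (M : Type u) [AddCommGroup M] [Module A M], Module.Finite A M → ∀ i : ℤ, a ≤ i →
      ∀ e : K ⟶ (Dual.inD A M)⟦i⟧, ∃ n : ℕ, ∀ x ∈ I ^ n, x • e = 0)
    (M : Type u) [AddCommGroup M] [Module A M] [Module.Finite A M] (i : ℤ) (hi : a ≤ i) :
    let Mq : ℕ → Submodule A M := fun n => I ^ n • ⊤
    let c : ∀ n : ℕ, (K ⟶ (Dual.inD A M)⟦i⟧) → (K ⟶ (Dual.inD A (M ⧸ Mq n))⟦i⟧) :=
      fun n e => e ≫ ((DerivedCategory.singleFunctor (ModuleCat.{u} A) 0).map (ModuleCat.ofHom (Mq n).mkQ))⟦i⟧'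
    let t : ∀ n m : ℕ, n ≤ m → (K ⟶ (Dual.inD A (M ⧸ Mq m))⟦i⟧) → (K ⟶ (Dual.inD A (M ⧸ Mq n))⟦i⟧) :=
      fun n m hnm e => e ≫ ((DerivedCategory.singleFunctor (ModuleCat.{u} A) 0).map (ModuleCat.ofHom
        (Submodule.mapQ (Mq m) (Mq n) (LinearMap.id : M →ₗ[A] M) (Submodule.smul_mono_left (Ideal.pow_le_pow_right hnm)))))⟦i⟧'
    (∃ m : ℕ, Function.Injective (c m)) ∧
      ∀ n : ℕ, ∃ (m' : ℕ) (hnm : n ≤ m'), Set.range (t n m' hnm) ⊆ Set.range (c n) := by
  obtain ⟨E, b, hb, hE, ⟨eK⟩⟩ := hK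
  haveI : E.IsKProjective := by
    haveI : E.IsStrictlyLE b := (CochainComplex.isStrictlyLE_iff E b).mpr hb
    haveI : ∀ j, Projective (E.X j) := fun j => by
      haveI := (hE j).2
      exact (IsProjective.iff_projective (E.X j)).1 inferInstance
    exact CochainComplex.isKProjective_of_projective E b
  haveI : ∀ j, Module.Finite A (E.X j) := fun j => (hE j).1
  haveI : ∀ j, Module.Free A (E.X j) := fun j => (hE j).2

  intro Mq c t
  have hp : -i + i = 0 := neg_add_cancel i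
  refine ⟨?_, ?_⟩
  · obtain ⟨m, hm⟩ := Groth.L03.ExtPC.exists_coboundary E eK i (-i) hp (M := M) I (htors M inferInstance i hi)
    refine ⟨m, ?_⟩
    intro e₁ e₂ he
    rw [← sub_eq_zero]
    have h0 : c m (e₁ - e₂) = 0 := by
      show (e₁ - e₂) ≫ _ = 0
      rw [Preadditive.sub_comp, sub_eq_zero]; exact he
    obtain ⟨α, hα⟩ := Groth.L03.ExtPC.cls_surjective E eK i (-i) hp (e₁ - e₂)
    rw [← hα] at h0 ⊢
    have h1 : Groth.L03.ExtPC.cls E eK i (-i) hp (Groth.L03.ExtPC.zmap E (-i) (Mq m).mkQ α) = 0 := by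
      rw [Groth.L03.ExtPC.cls_natural]; exact h0
    obtain ⟨β, hβ⟩ := (Groth.L03.ExtPC.cls_eq_zero_iff E eK i (-i) hp _).mp h1
    obtain ⟨β', hβ'⟩ := Module.projective_lifting_property (Mq m).mkQ β (Submodule.mkQ_surjective _)
    have hz : β' ∘ₗ (E.d (-i) (-i + 1)).hom ∈ Groth.L03.ExtPC.Z E (-i) M := by
      rw [Groth.L03.ExtPC.mem_Z, LinearMap.comp_assoc, ← ModuleCat.hom_comp, E.d_comp_d]
      exact LinearMap.comp_zero β'
    obtain ⟨γ, hγ⟩ := hm m le_rfl (α - ⟨_, hz⟩) (fun x => (Submodule.Quotient.mk_eq_zero _).mp (by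
      have h2 : (Mq m).mkQ (α.1 x) = (Mq m).mkQ (β' ((E.d (-i) (-i + 1)).hom x)) :=
        (LinearMap.congr_fun hβ x).symm.trans (LinearMap.congr_fun hβ' _).symm
      show (Mq m).mkQ (α.1 x - β' ((E.d (-i) (-i + 1)).hom x)) = 0
      rw [map_sub, h2, sub_self]))
    refine (Groth.L03.ExtPC.cls_eq_zero_iff E eK i (-i) hp α).mpr ⟨γ + β', ?_⟩
    rw [LinearMap.add_comp, hγ]
    exact sub_add_cancel α.1 _
  · intro n
    let q : ℤ := -i - 1
    have hq : q + (i + 1) = 0 := by omega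
    haveI : IsNoetherian A M := isNoetherian_of_isNoetherianRing_of_finite A M
    obtain ⟨m₀, hm₀⟩ := Groth.L03.ExtPC.exists_coboundary E eK (i + 1) q hq (M := (Mq n : Submodule A M)) I
      (htors (Mq n) inferInstance (i + 1) (by omega))
    refine ⟨n + m₀, Nat.le_add_right _ _, ?_⟩
    rintro _ ⟨e, rfl⟩
    obtain ⟨α, rfl⟩ := Groth.L03.ExtPC.cls_surjective E eK i (-i) hp e
    obtain ⟨α', hα'⟩ := Module.projective_lifting_property (Mq (n + m₀)).mkQ α.1 (Submodule.mkQ_surjective _)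
    have hmem : ∀ x, α' ((E.d q (-i)).hom x) ∈ Mq (n + m₀) := fun x =>
      (Submodule.Quotient.mk_eq_zero _).mp ((LinearMap.congr_fun hα' _).trans
        (LinearMap.congr_fun ((Groth.L03.ExtPC.mem_Z E (-i) _ _).mp α.2) x))
    have hle : Mq (n + m₀) ≤ Mq n := Submodule.smul_mono_left (Ideal.pow_le_pow_right (Nat.le_add_right _ _))
    let γ : E.X q →ₗ[A] (Mq n : Submodule A M) :=
      LinearMap.codRestrict (Mq n) (α' ∘ₗ (E.d q (-i)).hom) fun x => hle (hmem x)
    have hγ : γ ∈ Groth.L03.ExtPC.Z E q (Mq n : Submodule A M) := by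
      rw [Groth.L03.ExtPC.mem_Z]
      refine LinearMap.ext fun x => Subtype.ext ?_
      show α' (((E.d q (-i)).hom ∘ₗ (E.d (q - 1) q).hom) x) = 0
      rw [← ModuleCat.hom_comp, E.d_comp_d]
      exact map_zero α'
    obtain ⟨δ, hδ⟩ := hm₀ m₀ le_rfl ⟨γ, hγ⟩ (fun x => by
      have hmap : Submodule.map (Mq n).subtype (I ^ m₀ • (⊤ : Submodule A (Mq n : Submodule A M))) = Mq (n + m₀) := by
        rw [Submodule.map_smul'', Submodule.map_top, Submodule.range_subtype]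
        show I ^ m₀ • (I ^ n • (⊤ : Submodule A M)) = I ^ (n + m₀) • ⊤
        rw [← Submodule.mul_smul, ← pow_add, add_comm]
      have h := hmem x
      rw [← hmap] at h
      obtain ⟨y, hy, hyx⟩ := h
      obtain rfl : y = γ x := Subtype.ext hyx
      exact hy)
    have hq1 : q + 1 = -i := by omega
    have hd : ∀ (z : ℤ) (hz : z = -i) (δ : E.X z →ₗ[A] (Mq n : Submodule A M)), δ ∘ₗ (E.d q z).hom = γ →
        ∃ δ' : E.X (-i) →ₗ[A] (Mq n : Submodule A M), δ' ∘ₗ (E.d q (-i)).hom = γ := by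
      rintro z rfl δ h; exact ⟨δ, h⟩
    obtain ⟨δ', hδ'⟩ := hd _ hq1 δ hδ
    have hz : α' - (Mq n).subtype ∘ₗ δ' ∈ Groth.L03.ExtPC.Z E (-i) M := by
      rw [Groth.L03.ExtPC.mem_Z, LinearMap.sub_comp, LinearMap.comp_assoc]
      show α' ∘ₗ (E.d q (-i)).hom - _ ∘ₗ (δ' ∘ₗ (E.d q (-i)).hom) = 0
      rw [hδ', sub_eq_zero]
      rfl
    refine ⟨Groth.L03.ExtPC.cls E eK i (-i) hp ⟨_, hz⟩, ?_⟩
    show _ ≫ _ = _ ≫ _
    rw [← Groth.L03.ExtPC.cls_natural, ← Groth.L03.ExtPC.cls_natural]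
    congr 1
    refine Subtype.ext (LinearMap.ext fun x => ?_)
    have h5 : (α.1 x) = (Mq (n + m₀)).mkQ (α' x) := (LinearMap.congr_fun hα' x).symm
    show (Mq n).mkQ (α' x - (δ' x).1) = Submodule.mapQ (Mq (n + m₀)) (Mq n) LinearMap.id hle (α.1 x)
    rw [h5, Submodule.mkQ_apply, Submodule.mkQ_apply, Submodule.mapQ_apply, LinearMap.id_apply,
      Submodule.Quotient.eq]
    simp only [sub_sub_cancel_left]
    exact neg_mem (δ' x).2

end Groth.Agent.S7164
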