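import Groth.Statements.S7170
import Groth.Agent.L29.RelPC.Hom2

set_option autoImplicit false
set_option backward.isDefEq.respectTransparency false
universe u
attribute [local instance] HasDerivedCategory.standard
open FlatMor

namespace Groth.Agent.S7170

open AlgebraicGeometry CategoryTheory Limits in
/-- For a finite morphism f : X → S, pseudo-coherence of f is equivalent to pseudo-coherence of the
O_S-module f_* O_X; as f is affine, the latter means that O_X(f⁻¹ V) is a pseudo-coherent
O_S(V)-module for every affine open V of S, the form used here. -/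
theorem result {X S : Scheme.{u}} (f : X ⟶ S) [IsFinite f] :
    MoreMor.IsPseudoCoherentMor f ↔ ∀ (V : S.Opens), IsAffineOpen V →
      (letI := (f.app V).hom.toAlgebra
       DRing.IsPseudoCoherentModule' Γ(S, V) Γ(X, f ⁻¹ᵁ V)) := by
  have key : ∀ (V : S.Opens) (hV : IsAffineOpen V),
      (Groth.L29.RelPC.HomPC f (f ⁻¹ᵁ V) V le_rfl ↔
        (letI := (f.app V).hom.toAlgebra
         DRing.IsPseudoCoherentModule' Γ(S, V) Γ(X, f ⁻¹ᵁ V))) := by
    intro V hV
    rw [Scheme.Hom.app_eq_appLE]
    letI := (f.appLE V (f ⁻¹ᵁ V) le_rfl).hom.toAlgebra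
    haveI : Module.Finite Γ(S, V) Γ(X, f ⁻¹ᵁ V) := by
      have h := f.finite_app V hV
      rw [Scheme.Hom.app_eq_appLE] at h
      exact h
    exact Groth.L29.RelPC.hom_finite_iff
  refine ⟨fun hf V hV => (key V hV).1 (hf _ V (hV.preimage f) hV le_rfl), fun h =>
    Groth.L29.RelPC.mor_of_local fun x => ?_⟩
  obtain ⟨_, ⟨V, hV, rfl⟩, hy, -⟩ :=
    S.isBasis_affineOpens.exists_subset_of_mem_open (Set.mem_univ (f x)) isOpen_univ
  exact ⟨f ⁻¹ᵁ V, V, le_rfl, hV.preimage f, hV, hy, (key V hV).2 (h V hV)⟩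

end Groth.Agent.S7170
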