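import Groth.Statements.S7177
import Mathlib.AlgebraicGeometry.Morphisms.WeaklyEtale
import Mathlib.RingTheory.Flat.Localization
import Mathlib.AlgebraicGeometry.Pullbacks
import Mathlib.AlgebraicGeometry.Morphisms.Flat
import Groth.Agent.L20.WeaklyEtale
-- import your own Groth.Agent.* helpers here

set_option autoImplicit false
universe u
open FlatMor

open AlgebraicGeometry CategoryTheory Limits Opposite

namespace Groth.Agent.S7177

open AlgebraicGeometry CategoryTheory Limits in
/-- Let f : X → Y have flat diagonal and let F be an O_X-module flat over Y. Then F is flat as an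
O_X-module. -/
theorem result {X Y : Scheme.{u}} (f : X ⟶ Y) [Flat (pullback.diagonal f)] (F : X.Modules)
    (hF : FlatMod.IsFlatOver f F) : FlatMod.IsFlat F := by
  intro x
  obtain ⟨V, hV, hxV, -⟩ := exists_isAffineOpen_mem_and_subset (x := f x) (U := ⊤) trivial
  obtain ⟨U, hU, hxU, hUV⟩ := exists_isAffineOpen_mem_and_subset (x := x) (U := f ⁻¹ᵁ V) hxV
  have e : U ≤ f ⁻¹ᵁ V := hUV
  -- the diagonal of the affine restriction
  have hd : MorphismProperty.diagonal @Flat (Spec.map (f.appLE V U e)) := by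
    have h0 : MorphismProperty.diagonal @Flat (hU.fromSpec ≫ f) :=
      IsZariskiLocalAtSource.comp (P := MorphismProperty.diagonal @Flat)
        (show MorphismProperty.diagonal @Flat f from inferInstanceAs (Flat (pullback.diagonal f))) hU.fromSpec
    rw [← hV.SpecMap_appLE_fromSpec f hU e] at h0
    exact MorphismProperty.of_isPullback (P := MorphismProperty.diagonal @Flat)
      (IsPullback.of_horiz_isIso_mono (fst := 𝟙 (Spec Γ(X, U))) (snd := Spec.map (f.appLE V U e))
        (f := Spec.map (f.appLE V U e) ≫ hV.fromSpec) (g := hV.fromSpec) ⟨by simp⟩) h0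
  letI : Algebra Γ(Y, V) Γ(X, U) := (f.appLE V U e).hom.toAlgebra
  have hl : (Algebra.TensorProduct.lmul' Γ(Y, V) (S := Γ(X, U))).toRingHom.Flat := by
    have h1 : Flat (pullback.diagonal (Spec.map (CommRingCat.ofHom (algebraMap Γ(Y, V) Γ(X, U))))) := hd
    rw [diagonal_SpecMap, MorphismProperty.cancel_right_of_respectsIso (P := @Flat)] at h1
    exact (HasRingHomProperty.Spec_iff (P := @Flat)).mp h1
  letI := FlatMod.moduleStalkOver f F x
  letI algU : Algebra Γ(X, U) (X.presheaf.stalk x) := (X.presheaf.germ U x hxU).hom.toAlgebra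
  letI algV : Algebra Γ(Y, V) (Y.presheaf.stalk (f x)) := (Y.presheaf.germ V (f x) hxV).hom.toAlgebra
  haveI : IsLocalization.AtPrime (X.presheaf.stalk x) (hU.primeIdealOf ⟨x, hxU⟩).asIdeal :=
    hU.isLocalization_stalk ⟨x, hxU⟩
  haveI : IsLocalization.AtPrime (Y.presheaf.stalk (f x)) (hV.primeIdealOf ⟨f x, hxV⟩).asIdeal :=
    hV.isLocalization_stalk ⟨f x, hxV⟩
  letI mU : Module Γ(X, U) (F.presheaf.stalk x) := Module.compHom _ (algebraMap Γ(X, U) (X.presheaf.stalk x))
  haveI : IsScalarTower Γ(X, U) (X.presheaf.stalk x) (F.presheaf.stalk x) := IsScalarTower.of_compHom _ _ _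
  letI mV : Module Γ(Y, V) (F.presheaf.stalk x) :=
    Module.compHom _ (algebraMap Γ(Y, V) (Y.presheaf.stalk (f x)))
  haveI : IsScalarTower Γ(Y, V) (Y.presheaf.stalk (f x)) (F.presheaf.stalk x) := IsScalarTower.of_compHom _ _ _
  have key : ∀ a : Γ(Y, V), (f.stalkMap x).hom ((Y.presheaf.germ V (f x) hxV).hom a) =
      (X.presheaf.germ U x hxU).hom ((f.appLE V U e).hom a) := fun a => by
    rw [Scheme.Hom.germ_stalkMap_apply, Scheme.Hom.appLE, CommRingCat.hom_comp, RingHom.comp_apply,
      X.presheaf.germ_res_apply]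
  haveI : IsScalarTower Γ(Y, V) Γ(X, U) (F.presheaf.stalk x) := ⟨fun a b m => by
    show (X.presheaf.germ U x hxU).hom ((f.appLE V U e).hom a * b) • m =
      (f.stalkMap x).hom ((Y.presheaf.germ V (f x) hxV).hom a) • (X.presheaf.germ U x hxU).hom b • m
    rw [key, map_mul, mul_smul]⟩
  haveI : Module.Flat (Y.presheaf.stalk (f x)) (F.presheaf.stalk x) := hF x
  haveI : Module.Flat Γ(Y, V) (Y.presheaf.stalk (f x)) :=
    IsLocalization.flat _ (hV.primeIdealOf ⟨f x, hxV⟩).asIdeal.primeCompl
  haveI : Module.Flat Γ(Y, V) (F.presheaf.stalk x) :=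
    Module.Flat.trans Γ(Y, V) (Y.presheaf.stalk (f x)) (F.presheaf.stalk x)
  haveI : Module.Flat Γ(X, U) (F.presheaf.stalk x) :=
    Groth.L20.flat_of_flat_of_flat_lmul (R := Γ(Y, V)) hl
  exact (Module.flat_iff_of_isLocalization (X.presheaf.stalk x)
    (hU.primeIdealOf ⟨x, hxU⟩).asIdeal.primeCompl (F.presheaf.stalk x)).mpr inferInstance

end Groth.Agent.S7177
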