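import Groth.Statements.S7179
import Groth.Agent.L20.WeaklyEtale

set_option autoImplicit false
universe u
open FlatMor

namespace Groth.Agent.S7179
open CategoryTheory CategoryTheory.Limits AlgebraicGeometry


open AlgebraicGeometry CategoryTheory Limits in
/-- The source of a weakly étale morphism with reduced target is reduced. -/
theorem result {X Y : Scheme.{u}} (f : X ⟶ Y) [WeaklyEtale f] [IsReduced Y] : IsReduced X := by
  have key : ∀ x : X, ∃ U : X.Opens, x ∈ U ∧ IsReduced (U : Scheme) := by
    intro x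
    obtain ⟨(V : Y.Opens), hV, hxV, -⟩ := TopologicalSpace.Opens.isBasis_iff_nbhd.mp
      Y.isBasis_affineOpens (TopologicalSpace.Opens.mem_top (f x))
    obtain ⟨(U : X.Opens), hU, hxU, hle⟩ := TopologicalSpace.Opens.isBasis_iff_nbhd.mp
      X.isBasis_affineOpens (show x ∈ f ⁻¹ᵁ V from hxV)
    have hw := (Groth.L20.weaklyEtale_specMap_iff _).mp (Groth.L20.weaklyEtale_specMap_appLE f hU hV hle)
    let _ := (f.appLE V U hle).hom.toAlgebra
    have : _root_.IsReduced Γ(X, U) := @Groth.L20.isReduced_of_weaklyEtale Γ(Y, V) Γ(X, U) _ _ _ inferInstance hw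
    exact ⟨U, hxU, isReduced_of_isOpenImmersion hU.isoSpec.hom⟩
  choose U hxU hred using key
  let 𝒰 : X.OpenCover := X.openCoverOfIsOpenCover U
    (eq_top_iff.mpr fun x _ => TopologicalSpace.Opens.mem_iSup.mpr ⟨x, hxU x⟩)
  exact @AlgebraicGeometry.IsReduced.of_openCover X 𝒰 hred

end Groth.Agent.S7179
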