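import Groth.Statements.S7183
import Groth.Agent.L20.Pinch.Rel
import Groth.Agent.L20.Pinch.Cases

set_option autoImplicit false
universe u
open FlatMor

set_option linter.style.haveILetI false
set_option backward.isDefEq.respectTransparency.types false

namespace Groth.Agent.S7183

open AlgebraicGeometry CategoryTheory Limits in
/-- Let i : Z → X, j : Z → Y be closed immersions with pushout P, let X' → X and Y' → Y be morphisms
whose base changes to Z are identified (a scheme Z' cartesian over both), let P' be the pushout of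
Z' → X' and Z' → Y' and h : P' → P the induced morphism. Then h is locally of finite type (resp.
flat, resp. flat and locally of finite presentation, resp. smooth, resp. étale) if and only if X' →
X and Y' → Y both are. -/
theorem result {X Y Z P X' Y' Z' P' : Scheme.{u}}
    (i : Z ⟶ X) (j : Z ⟶ Y) [IsClosedImmersion i] [IsClosedImmersion j] (a : X ⟶ P) (b : Y ⟶ P) (hP : IsPushout i j a b)
    (f : X' ⟶ X) (g : Y' ⟶ Y) (i' : Z' ⟶ X') (j' : Z' ⟶ Y') (c : Z' ⟶ Z) (hX : IsPullback i' c f i) (hY : IsPullback j' c g j)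
    (a' : X' ⟶ P') (b' : Y' ⟶ P') (hP' : IsPushout i' j' a' b') (h : P' ⟶ P) (ha : a' ≫ h = f ≫ a) (hb : b' ≫ h = g ≫ b) :
    (LocallyOfFiniteType h ↔ LocallyOfFiniteType f ∧ LocallyOfFiniteType g) ∧
    (Flat h ↔ Flat f ∧ Flat g) ∧
    ((Flat h ∧ LocallyOfFinitePresentation h) ↔ (Flat f ∧ LocallyOfFinitePresentation f) ∧ (Flat g ∧ LocallyOfFinitePresentation g)) ∧
    (Smooth h ↔ Smooth f ∧ Smooth g) ∧
    (Etale h ↔ Etale f ∧ Etale g) := by
  haveI : IsClosedImmersion i' := MorphismProperty.of_isPullback hX.flip inferInstance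
  haveI : IsClosedImmersion j' := MorphismProperty.of_isPullback hY.flip inferInstance
  have hp := Groth.L20.Pinch.IsPinch.of_isPushout (Groth.L20.Pinch.std_of_isIntegralHom
    (Groth.L20.Pinch.exists_affine_of_isClosedImmersion (i := i) (j := j))) hP
  have hp' := Groth.L20.Pinch.IsPinch.of_isPushout (Groth.L20.Pinch.std_of_isIntegralHom
    (Groth.L20.Pinch.exists_affine_of_isClosedImmersion (i := i') (j := j'))) hP'
  have hX' := hX.flip
  have hY' := hY.flip
  have pX := hp.isPullback_relX hp' hX' hY' ha hb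
  have pY := hp.isPullback_relY hp' hX' hY' ha hb
  refine ⟨⟨fun _ => ⟨MorphismProperty.of_isPullback pX.flip inferInstance,
      MorphismProperty.of_isPullback pY.flip inferInstance⟩, ?_⟩,
    ⟨fun _ => ⟨MorphismProperty.of_isPullback pX.flip inferInstance,
      MorphismProperty.of_isPullback pY.flip inferInstance⟩, ?_⟩,
    ⟨fun ⟨_, _⟩ => ⟨⟨MorphismProperty.of_isPullback pX.flip inferInstance,
      MorphismProperty.of_isPullback pX.flip inferInstance⟩,
      MorphismProperty.of_isPullback pY.flip inferInstance,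
      MorphismProperty.of_isPullback pY.flip inferInstance⟩, ?_⟩,
    ⟨fun _ => ⟨MorphismProperty.of_isPullback pX.flip inferInstance,
      MorphismProperty.of_isPullback pY.flip inferInstance⟩, ?_⟩,
    ⟨fun _ => ⟨MorphismProperty.of_isPullback pX.flip inferInstance,
      MorphismProperty.of_isPullback pY.flip inferInstance⟩, ?_⟩⟩
  · rintro ⟨hf, hg⟩
    exact hp.property_k hp' hX' hY' ha hb (Q := @LocallyOfFiniteType)
      (fun o _ => inferInstance) fun k0 k1 ho => (ho.isRelFib hX' hY').conclusion.2.1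
        (LocallyOfFiniteType.finiteType_appLE g k0.hV k1.hV ho.leV)
        (LocallyOfFiniteType.finiteType_appLE f k0.hU k1.hU ho.leU)
  · rintro ⟨hf, hg⟩
    exact hp.property_k hp' hX' hY' ha hb (Q := @Flat)
      (fun o _ => inferInstance) fun k0 k1 ho => (ho.isRelFib hX' hY').conclusion.2.2.1
        (HasRingHomProperty.appLE (P := @Flat) g hg ⟨_, k0.hV⟩ ⟨_, k1.hV⟩ ho.leV)
        (HasRingHomProperty.appLE (P := @Flat) f hf ⟨_, k0.hU⟩ ⟨_, k1.hU⟩ ho.leU)
  · rintro ⟨⟨hf, hf'⟩, hg, hg'⟩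
    refine ⟨hp.property_k hp' hX' hY' ha hb (Q := @Flat)
      (fun o _ => inferInstance) fun k0 k1 ho => (ho.isRelFib hX' hY').conclusion.2.2.1
        (HasRingHomProperty.appLE (P := @Flat) g hg ⟨_, k0.hV⟩ ⟨_, k1.hV⟩ ho.leV)
        (HasRingHomProperty.appLE (P := @Flat) f hf ⟨_, k0.hU⟩ ⟨_, k1.hU⟩ ho.leU), ?_⟩
    exact hp.property_k hp' hX' hY' ha hb (Q := @LocallyOfFinitePresentation)
      (fun o _ => inferInstance) fun k0 k1 ho => (ho.isRelFib hX' hY').conclusion.2.2.2.1
        (HasRingHomProperty.appLE (P := @Flat) g hg ⟨_, k0.hV⟩ ⟨_, k1.hV⟩ ho.leV)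
        (HasRingHomProperty.appLE (P := @LocallyOfFinitePresentation) g hg' ⟨_, k0.hV⟩ ⟨_, k1.hV⟩ ho.leV)
        (HasRingHomProperty.appLE (P := @Flat) f hf ⟨_, k0.hU⟩ ⟨_, k1.hU⟩ ho.leU)
        (HasRingHomProperty.appLE (P := @LocallyOfFinitePresentation) f hf' ⟨_, k0.hU⟩ ⟨_, k1.hU⟩ ho.leU)
  · rintro ⟨hf, hg⟩
    exact hp.property_k hp' hX' hY' ha hb (Q := @Smooth)
      (fun o _ => inferInstance) fun k0 k1 ho => (ho.isRelFib hX' hY').conclusion.2.2.2.2.1
        (HasRingHomProperty.appLE (P := @Smooth) g hg ⟨_, k0.hV⟩ ⟨_, k1.hV⟩ ho.leV)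
        (HasRingHomProperty.appLE (P := @Smooth) f hf ⟨_, k0.hU⟩ ⟨_, k1.hU⟩ ho.leU)
  · rintro ⟨hf, hg⟩
    exact hp.property_k hp' hX' hY' ha hb (Q := @Etale)
      (fun o _ => inferInstance) fun k0 k1 ho => (ho.isRelFib hX' hY').conclusion.2.2.2.2.2
        (HasRingHomProperty.appLE (P := @Etale) g hg ⟨_, k0.hV⟩ ⟨_, k1.hV⟩ ho.leV)
        (HasRingHomProperty.appLE (P := @Etale) f hf ⟨_, k0.hU⟩ ⟨_, k1.hU⟩ ho.leU)

end Groth.Agent.S7183
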