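import Groth.Statements.S7186
import Groth.Agent.L20.DescLocus.Rep
import Groth.Agent.L18.LocFreeFP
import Groth.Agent.L29.DCoh.PCQCoh

set_option autoImplicit false
universe u
open FlatMor

set_option backward.isDefEq.respectTransparency.types false
namespace Groth.Agent.S7186

open AlgebraicGeometry CategoryTheory Limits in
/-- Let f : X → S be flat, proper and of finite presentation such that O_T → (f_T)_* O_{X_T} is an
isomorphism for every base change T → S. Suppose E is an O_X-module that is finite locally free and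
whose restriction to each fibre X_s is free, and let S be reduced. Then E is isomorphic to the
pullback of a finite locally free O_S-module. -/
theorem result {X S : Scheme.{u}} (f : X ⟶ S) [Flat f] [IsProper f] [LocallyOfFinitePresentation f]
    (hO : ∀ (T : Scheme.{u}) (g : T ⟶ S) (U : T.Opens), IsIso ((pullback.snd f g).app U))
    (E : X.Modules) (hE : FlatMod.IsFinLocFree E)
    (hfib : ∀ s : S, ∃ r : ℕ, Nonempty ((Scheme.Modules.pullback (f.fiberι s)).obj E ≅ FlatMod.freeMod (f.fiber s) r))
    [IsReduced S] :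
    ∃ N : S.Modules, FlatMod.IsFinLocFree N ∧ Nonempty ((Scheme.Modules.pullback f).obj N ≅ E) := by
  open Groth.L20.DescLocus in
  haveI := Groth.L17.PushQCoh.hasInjectiveResolutions X
  haveI : Coh.IsQCoh E := Groth.L29.DC.PCQCoh.isQCoh_of_isFinLocFree hE
  have hfp : CohB1.IsFP E := Groth.L18.LFP.isFP_of_isFinLocFree E hE
  have hfl : FlatMod.IsFlatOver f E := fun x => by
    letI := (f.stalkMap x).hom.toAlgebra
    letI := FlatMod.moduleStalkOver f E x
    haveI : IsScalarTower (S.presheaf.stalk (f x)) (X.presheaf.stalk x) (E.presheaf.stalk x) :=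
      IsScalarTower.of_algebraMap_smul fun _ _ => rfl
    haveI : Module.Flat (S.presheaf.stalk (f x)) (X.presheaf.stalk x) := Flat.stalkMap f x
    haveI : Module.Flat (X.presheaf.stalk x) (E.presheaf.stalk x) := Groth.L29.DC.isFlat_of_isFinLocFree hE x
    exact Module.Flat.trans (S.presheaf.stalk (f x)) (X.presheaf.stalk x) (E.presheaf.stalk x)
  obtain ⟨Z, j, h₁, -, h⟩ := exists_subscheme f E hO hfp hfl hE
  have hsurj : Function.Surjective (fun z => j z) := fun s => by
    obtain ⟨r, ⟨e⟩⟩ := hfib s
    have hl : LocTriv f E (S.fromSpecResidueField s) := by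
      intro t
      refine ⟨_, 𝟙 _, r, inferInstance, ⟨t, rfl⟩, ?_⟩
      have aux : ∀ {a b : Spec (S.residueField s) ⟶ S}, a = b →
          Nonempty (ET f E a ≅ FlatMod.freeMod _ r) → Nonempty (ET f E b ≅ FlatMod.freeMod _ r) :=
        fun h he => by subst h; exact he
      exact aux (Category.id_comp _).symm ⟨e⟩
    obtain ⟨w, hw⟩ := (h _ _).2 hl
    refine ⟨w (IsLocalRing.closedPoint _), ?_⟩
    show j (w _) = s
    rw [← Scheme.Hom.comp_apply, hw, Scheme.fromSpecResidueField_apply]
  haveI : Surjective j := ⟨hsurj⟩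
  haveI : IsClosedImmersion j := IsClosedImmersion.of_isPreimmersion j (by
    rw [show Set.range j = Set.univ from Set.range_eq_univ.2 hsurj]; exact isClosed_univ)
  haveI : IsIso j := isIso_of_isClosedImmersion_of_surjective j
  obtain ⟨N, hN, ⟨e⟩⟩ := (desc_iff f E hO hfp hfl hE (𝟙 S)).1
    ((h S (𝟙 S)).1 ⟨inv j, IsIso.inv_hom_id j⟩)
  let i : X ⟶ pullback f (𝟙 S) := pullback.lift (𝟙 X) f (by simp)
  exact ⟨N, hN, ⟨((Scheme.Modules.pullbackCongr (pullback.lift_snd (f := f) (g := 𝟙 S) (𝟙 X) f (by simp))).app N).symm ≪≫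
    ((Scheme.Modules.pullbackComp i (pullback.snd f (𝟙 S))).app N).symm ≪≫
    (Scheme.Modules.pullback i).mapIso e ≪≫
    (Scheme.Modules.pullbackComp i (pullback.fst f (𝟙 S))).app E ≪≫
    (Scheme.Modules.pullbackCongr (pullback.lift_fst (f := f) (g := 𝟙 S) (𝟙 X) f (by simp))).app E ≪≫
    (Scheme.Modules.pullbackId X).app E⟩⟩


end Groth.Agent.S7186
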