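import Groth.Statements.S7191
import Groth.Agent.L24.CdStrat.Descend

set_option autoImplicit false
universe u
open CategoryTheory AlgebraicGeometry
open FlatMor

namespace Groth.Agent.S7191

/-- Let S = lim S_i be a cofiltered limit of schemes with affine transition morphisms, f₀ : X₀ → Y₀ a
morphism over some S_{i₀} with Y₀ quasi-compact and quasi-separated and f₀ locally of finite
presentation, and f : X → Y its base change to S. If f is completely decomposed (every point of Y is
the image of a point of X with the same residue field), then some base change f_i : X_i → Y_i of f₀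
to an S_i, i → i₀, is completely decomposed. -/
theorem result {I : Type u} [SmallCategory I] [IsCofiltered I]
    (D : I ⥤ Scheme.{u}) (c : Limits.Cone D) (hc : Limits.IsLimit c)
    [∀ (i j : I) (a : i ⟶ j), IsAffineHom (D.map a)]
    (i0 : I) {X0 Y0 X Y : Scheme.{u}} (f0 : X0 ⟶ Y0) (q0 : Y0 ⟶ D.obj i0) [CompactSpace ↥Y0] [QuasiSeparatedSpace ↥Y0]
    [LocallyOfFinitePresentation f0]
    (f : X ⟶ Y) (q : Y ⟶ c.pt) (pY : Y ⟶ Y0) (pX : X ⟶ X0)
    (hY : IsPullback pY q q0 (c.π.app i0)) (hX : IsPullback pX f f0 pY)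
    (hcd : ∀ y : Y, ∃ x : X, f x = y ∧ Function.Bijective (f.residueFieldMap x)) :
    ∃ (i : I) (a : i ⟶ i0) (Xi Yi : Scheme.{u}) (fi : Xi ⟶ Yi) (qi : Yi ⟶ D.obj i) (pYi : Yi ⟶ Y0) (pXi : Xi ⟶ X0),
      IsPullback pYi qi q0 (D.map a) ∧ IsPullback pXi fi f0 pYi ∧
      ∀ y : Yi, ∃ x : Xi, fi x = y ∧ Function.Bijective (fi.residueFieldMap x) := by
  haveI : ∀ {i j} (f : i ⟶ j), IsAffineHom (D.map f) := fun f => inferInstance
  let e := hY.flip.isoPullback
  have hall : ∀ s : ↥(Limits.pullback (c.π.app i0) q0),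
      Groth.Agent.L24.CdStrat.Pred f0 (Limits.pullback.snd (c.π.app i0) q0) s := by
    intro s
    obtain ⟨x, hx, hb⟩ := hcd (e.inv s)
    have := Groth.Agent.L24.CdStrat.pred_of_bijective f0 (p := pY) f pX hX.w x hb
    rw [hx] at this
    exact this.comp f0 e.inv s hY.flip.isoPullback_inv_snd
  obtain ⟨i, a, hi⟩ := Groth.Agent.L24.CdStrat.exists_stage f0 hc q0 hall
  refine ⟨i, a, Limits.pullback f0 (Limits.pullback.snd (D.map a) q0), Limits.pullback (D.map a) q0,
    Limits.pullback.snd _ _, Limits.pullback.fst _ _, Limits.pullback.snd _ _, Limits.pullback.fst _ _,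
    (IsPullback.of_hasPullback _ _).flip, IsPullback.of_hasPullback _ _, fun y => ?_⟩
  exact (hi y).exists_bijective f0 (IsPullback.of_hasPullback _ _)

end Groth.Agent.S7191
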