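import Groth.Statements.S7192
import Groth.Agent.L20.Weight.Descent
import Groth.Agent.S1423

set_option autoImplicit false
universe u
open CategoryTheory AlgebraicGeometry
open FlatMor

set_option linter.style.haveILetI false
set_option backward.isDefEq.respectTransparency.types false

namespace Groth.Agent.S7192

/-- Let Y = lim Y_i be a cofiltered limit of affine schemes and f₀ : X₀ → Y_{i₀} a quasi-finite morphism
of finite presentation between affine schemes, with base changes f : X → Y and f_i : X_i → Y_i. If w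
is a weighting of f, then for some i → i₀ there is a weighting w_i of f_i which pulls back to w
along X → X_i. -/
theorem result {I : Type u} [SmallCategory I] [IsCofiltered I]
    (D : I ⥤ Scheme.{u}) (c : Limits.Cone D) (hc : Limits.IsLimit c) [∀ i, IsAffine (D.obj i)]
    (i0 : I) {X0 X : Scheme.{u}} [IsAffine X0] (f0 : X0 ⟶ D.obj i0) [LocallyQuasiFinite f0] [LocallyOfFinitePresentation f0] [QuasiCompact f0]
    (f : X ⟶ c.pt) (pX : X ⟶ X0) (hX : IsPullback pX f f0 (c.π.app i0))
    (w : X → ℤ) (hw : MoreMor.IsWeighting f w) :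
    ∃ (i : I) (a : i ⟶ i0) (Xi : Scheme.{u}) (fi : Xi ⟶ D.obj i) (pXi : Xi ⟶ X0) (g : X ⟶ Xi) (wi : Xi → ℤ),
      IsPullback pXi fi f0 (D.map a) ∧ g ≫ fi = f ≫ c.π.app i ∧ g ≫ pXi = pX ∧
      MoreMor.IsWeighting fi wi ∧ ∀ x : X, wi (g x) = w x := by
  haveI : ∀ {i j} (a : i ⟶ j), IsAffineHom (D.map a) := fun a => isAffineHom_of_isAffine _
  let E := Groth.L19.Limit.bcDiagram D f0
  let c' := Groth.L19.Limit.bcCone D c f0
  have hc' : Limits.IsLimit c' := Groth.L19.Limit.isLimitBcCone f0 hc
  haveI : ∀ j, IsAffine (E.obj j) := fun j => inferInstanceAs (IsAffine (Limits.pullback (D.map j.hom) f0))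
  haveI : ∀ {i j} (a : i ⟶ j), IsAffineHom (E.map a) := fun a => isAffineHom_of_isAffine _
  haveI : IsAffine c.pt := Scheme.isAffine_of_isLimit _ hc
  haveI : IsAffine (((Functor.const I).obj c.pt).obj i0) := Scheme.isAffine_of_isLimit _ hc
  haveI : IsAffine c'.pt := inferInstanceAs (IsAffine (Limits.pullback (c.π.app i0) f0))
  let e : X ≅ c'.pt := hX.flip.isoPullback
  have he1 : e.hom ≫ Limits.pullback.fst (c.π.app i0) f0 = f := hX.flip.isoPullback_hom_fst
  have he2 : e.hom ≫ Limits.pullback.snd (c.π.app i0) f0 = pX := hX.flip.isoPullback_hom_snd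
  haveI : IsAffine X := IsAffine.of_isIso e.hom
  haveI : LocallyQuasiFinite f := MorphismProperty.of_isPullback (P := @LocallyQuasiFinite) hX inferInstance
  haveI : LocallyOfFiniteType f := MorphismProperty.of_isPullback (P := @LocallyOfFiniteType) hX inferInstance
  have hlev : ∀ n, Topology.IsConstructible {z : c'.pt | w (e.inv z) = n} := fun n =>
    e.inv.isConstructible_preimage (Groth.Agent.S1423.result f w hw n).isConstructible
  have hfin : (Set.range w).Finite := by
    obtain ⟨h, -⟩ := Groth.L20.Weight.finite_range_and_constructible f hw (isAffineOpen_top X)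
    simpa using h
  obtain ⟨j, -, w1, hlev1, -, hw1⟩ := Groth.L20.Weight.exists_fun_stage hc'
    (Over.mk (𝟙 i0)) (fun z => w (e.inv z)) hfin.toFinset
    (fun z => hfin.mem_toFinset.mpr ⟨_, rfl⟩) hlev
  let fb : Limits.pullback (D.map j.hom) f0 ⟶ D.obj j.left := Limits.pullback.fst (D.map j.hom) f0
  haveI : LocallyQuasiFinite fb := MorphismProperty.pullback_fst _ _ inferInstance
  haveI : LocallyOfFinitePresentation fb := MorphismProperty.pullback_fst _ _ inferInstance
  let p : X ⟶ Limits.pullback (D.map j.hom) f0 := e.hom ≫ c'.π.app j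
  have h0 : IsPullback (c'.π.app j) (Limits.pullback.fst (c.π.app i0) f0) fb (c.π.app j.left) :=
    Groth.L19.Limit.isPullback_bcCone D c f0 j
  have hp : IsPullback p f fb (c.π.app j.left) := by
    have h1 : IsPullback e.hom f (Limits.pullback.fst (c.π.app i0) f0) (𝟙 c.pt) :=
      IsPullback.of_horiz_isIso ⟨by rw [he1, Category.comp_id]⟩
    have h2 := h1.paste_horiz h0
    rw [Category.id_comp] at h2
    exact h2
  have hw' : MoreMor.IsWeighting f (fun x => w1 (p x)) := by
    have h : (fun x => w1 (p x)) = w := funext fun x => by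
      rw [show p x = c'.π.app j (e.hom x) from rfl, hw1]
      rw [← Scheme.Hom.comp_apply, e.hom_inv_id]; rfl
    rw [h]; exact hw
  obtain ⟨i, a, hwi⟩ := Groth.L20.Weight.exists_isWeighting_stage c hc fb f p hp w1 hlev1 hw'
  refine ⟨i, a ≫ j.hom, Limits.pullback (D.map a) fb, Limits.pullback.fst _ _,
    Limits.pullback.snd _ _ ≫ Limits.pullback.snd _ _,
    Limits.pullback.lift (f ≫ c.π.app i) p ?_, fun z => w1 (Limits.pullback.snd (D.map a) fb z), ?_,
    Limits.pullback.lift_fst _ _ _, ?_, hwi, fun x => ?_⟩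
  · rw [Category.assoc, c.w, hp.w]
  · rw [D.map_comp]
    exact (IsPullback.of_hasPullback (D.map a) fb).flip.paste_horiz
      (IsPullback.of_hasPullback (D.map j.hom) f0).flip
  · rw [Limits.pullback.lift_snd_assoc, Category.assoc, ← he2]
    congr 1
    exact (Limits.pullback.lift_snd _ _ _).trans (Category.comp_id _)
  · change w1 ((Limits.pullback.lift _ _ _ ≫ Limits.pullback.snd (D.map a) fb) x) = w x
    rw [Limits.pullback.lift_snd]
    rw [show p x = c'.π.app j (e.hom x) from rfl, hw1]
    rw [← Scheme.Hom.comp_apply, e.hom_inv_id]; rfl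

end Groth.Agent.S7192
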