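import Groth.Statements.S7193
import Groth.Agent.L16.MorSAff.Basic

set_option autoImplicit false
universe u
open CategoryTheory AlgebraicGeometry
open FlatMor

namespace Groth.Agent.S7193

/-- Let Z, X and S be affine schemes with morphisms Z → S and X → S, and suppose Γ(Z, O_Z) is a finite
free Γ(S, O_S)-module; then the functor Mor_S(Z, X) on schemes over S is represented by some scheme
W over S with W affine. -/
theorem result {Z X S : Scheme.{u}} [IsAffine Z] [IsAffine X] [IsAffine S] (g : Z ⟶ S) (f : X ⟶ S)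
    (hfree : letI := (g.appTop).hom.toAlgebra
      Module.Finite Γ(S, ⊤) Γ(Z, ⊤) ∧ Module.Free Γ(S, ⊤) Γ(Z, ⊤)) :
    ∃ W : Over S, IsAffine W.left ∧ Nonempty ((Flatn.morS g f).RepresentableBy W) := by
  letI := (g.appTop).hom.toAlgebra
  obtain ⟨hfin, hfree⟩ := hfree
  haveI := hfin
  haveI := hfree
  have hq : ∀ (P : MorphismProperty Scheme.{u}) [P.RespectsIso],
      P (Spec.map g.appTop) → P g := fun P _ h =>
    (P.arrow_mk_iso_iff (arrowIsoSpecΓOfIsAffine g)).2 h
  haveI : Module.FinitePresentation Γ(S, ⊤) Γ(Z, ⊤) := Module.finitePresentation_of_projective _ _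
  haveI : Algebra.FinitePresentation Γ(S, ⊤) Γ(Z, ⊤) := Algebra.FinitePresentation.of_finitePresentation _ _
  have hg : Mor2.IsFinLocFree g := by
    refine ⟨hq @IsFinite ((IsFinite.SpecMap_iff g.appTop).2 hfin),
      hq @Flat ((HasRingHomProperty.Spec_iff (P := @Flat)).2 (show g.appTop.hom.Flat from (inferInstance : Module.Flat Γ(S, ⊤) Γ(Z, ⊤)))),
      hq @LocallyOfFinitePresentation ((HasRingHomProperty.Spec_iff (P := @LocallyOfFinitePresentation)).2
        (show g.appTop.hom.FinitePresentation from (inferInstance : Algebra.FinitePresentation Γ(S, ⊤) Γ(Z, ⊤))))⟩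
  obtain ⟨W, hW, h⟩ := Groth.L16.MorSAff.exists_affine_rep g f hg
  haveI := hW
  exact ⟨W, isAffine_of_isAffineHom W.hom, h⟩
end Groth.Agent.S7193
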