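import Groth.Statements.S7195
import Groth.Agent.L20.RG.WeilAF

set_option autoImplicit false
universe u
open CategoryTheory AlgebraicGeometry
open FlatMor

set_option backward.isDefEq.respectTransparency.types false
namespace Groth.Agent.S7195

/-- Let Z → S be finite locally free and X → S such that any finitely many points of X lying over a
common point of S are contained in some affine open of X. Then Mor_S(Z, X) is representable by a
scheme. -/
theorem result {Z X S : Scheme.{u}} (g : Z ⟶ S) (f : X ⟶ S) (hg : Mor2.IsFinLocFree g)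
    (hAF : ∀ (s : S) (d : ℕ) (x : Fin d → ↥X), (∀ k, f (x k) = s) → ∃ U : X.Opens, IsAffineOpen U ∧ ∀ k, x k ∈ U) :
    (Flatn.morS g f).IsRepresentable := by
  haveI := hg.1
  haveI := hg.2.1
  haveI := hg.2.2
  refine Groth.L20.RG.WeilAF.morS_isRepresentable g f fun s F hF hs => ?_
  haveI := hF.fintype
  obtain ⟨U, hU, hUF⟩ := hAF s (Fintype.card F) (fun k => ((Fintype.equivFin F).symm k).1)
    (fun k => hs _ ((Fintype.equivFin F).symm k).2)
  exact ⟨U, hU, fun x hx => by simpa using hUF (Fintype.equivFin F ⟨x, hx⟩)⟩

end Groth.Agent.S7195
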