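import Groth.Statements.S7196
import Groth.Agent.L20.RG.WeilAF
import Groth.Agent.L09.FreeQuot.Finset

set_option autoImplicit false
universe u
open CategoryTheory AlgebraicGeometry
open FlatMor

set_option backward.isDefEq.respectTransparency.types false
namespace Groth.Agent.S7196

/-- For Z → S finite locally free and X → S separated, locally of finite type and with discrete fibres
(locally quasi-finite), the functor T ↦ {S-morphisms T ×_S Z → X} on S-schemes is represented by
some S-scheme. -/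
theorem result {Z X S : Scheme.{u}} (g : Z ⟶ S) (f : X ⟶ S) (hg : Mor2.IsFinLocFree g)
    [IsSeparated f] [LocallyQuasiFinite f] [LocallyOfFiniteType f] :
    (Flatn.morS g f).IsRepresentable := by
  haveI := hg.1
  haveI := hg.2.1
  haveI := hg.2.2
  refine Groth.L20.RG.WeilAF.morS_isRepresentable g f fun s F hF hs => ?_
  obtain ⟨_, ⟨(V : S.Opens), hV, rfl⟩, hsV, -⟩ := S.isBasis_affineOpens.exists_subset_of_mem_open (Set.mem_univ s) isOpen_univ
  haveI : IsAffine (V : Scheme.{u}) := hV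
  obtain ⟨O, hO, hFO⟩ := Groth.L09.FreeQuot.exists_affine_of_finite_lqf (f ∣_ V) ((f ⁻¹ᵁ V).ι ⁻¹' F)
    (hF.preimage (f ⁻¹ᵁ V).ι.isOpenEmbedding.injective.injOn)
  refine ⟨(f ⁻¹ᵁ V).ι ''ᵁ O, hO.image_of_isOpenImmersion _, fun x hx => ?_⟩
  have hxV : x ∈ f ⁻¹ᵁ V := by
    show f x ∈ V
    rw [hs x hx]; exact hsV
  exact ⟨⟨x, hxV⟩, hFO hx, rfl⟩

end Groth.Agent.S7196
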