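import Groth.Statements.S7199
import Groth.Agent.L28.GenericIndep.Basic
import Groth.Agent.L22.AffineDim

set_option autoImplicit false
universe u
open FlatMor

namespace Groth.Agent.S7199

open Groth

/-- Take a field k, an integral domain A that is a finitely generated k-algebra, n ≥ 2 and g_1, …, g_n ∈
A, and suppose some irreducible component of the common zero locus of g_1 and g_2 in Spec A has
dimension dim A − 2. Then for suitable c_1, …, c_n ∈ k the n + 2 elements x_1, …, x_n, Σ g_i x_i, Σ
c_i g_i of the rational function field Frac(A)(x_1, …, x_n) form an algebraically independent family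
over k. -/
theorem result {k A : Type u} [Field k] [CommRing A] [IsDomain A] [Algebra k A]
    [Algebra.FiniteType k A] (m : ℕ) (g : Fin (m + 2) → A)
    (p : Ideal A) (hp : p ∈ (Ideal.span {g 0, g 1}).minimalPrimes) (hdim : ringKrullDim (A ⧸ p) + 2 = ringKrullDim A) :
    ∃ c : Fin (m + 2) → k,
      AlgebraicIndependent k
        (Sum.elim
          (fun i : Fin (m + 2) => algebraMap (MvPolynomial (Fin (m + 2)) (FractionRing A)) (FractionRing (MvPolynomial (Fin (m + 2)) (FractionRing A))) (MvPolynomial.X i))
          ![∑ i, algebraMap A (FractionRing (MvPolynomial (Fin (m + 2)) (FractionRing A))) (g i) *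
              algebraMap (MvPolynomial (Fin (m + 2)) (FractionRing A)) (FractionRing (MvPolynomial (Fin (m + 2)) (FractionRing A))) (MvPolynomial.X i),
            algebraMap A (FractionRing (MvPolynomial (Fin (m + 2)) (FractionRing A))) (∑ i, c i • g i)]) := by
  classical
  haveI : p.IsPrime := hp.1.1
  haveI : IsNoetherianRing A := Algebra.FiniteType.isNoetherianRing k A
  have hh : ¬ p.height ≤ 1 := by
    intro hle
    obtain ⟨h, e, d, hh, he, hd, hhe⟩ := Groth.L22.AffineDim.dim_formula k A p
    rw [he, hd] at hdim
    have h2 : e + 2 = d := by exact_mod_cast hdim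
    rw [hh] at hle
    have h3 : h ≤ 1 := by exact_mod_cast hle
    omega
  have hpair := L28.GenericIndep.independent_pair k (g 0) (g 1) p hp hh
  have hF : AlgebraicIndependent k
      ![algebraMap A (FractionRing A) (g 1), algebraMap A (FractionRing A) (g 0)] := by
    have := hpair.map' (f := IsScalarTower.toAlgHom k A (FractionRing A))
      (IsFractionRing.injective A (FractionRing A))
    convert this using 1
    funext i; fin_cases i <;> rfl
  have hfam := (L28.GenericIndep.independent k (fun i => algebraMap A (FractionRing A) (g i)) hF).map'
    (f := IsScalarTower.toAlgHom k (MvPolynomial (Fin (m + 2)) (FractionRing A))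
      (FractionRing (MvPolynomial (Fin (m + 2)) (FractionRing A))))
    (IsFractionRing.injective _ _)
  refine ⟨Pi.single 0 1, ?_⟩
  convert hfam using 1
  funext x
  have key : ∀ a : A, algebraMap A (FractionRing (MvPolynomial (Fin (m + 2)) (FractionRing A))) a =
      algebraMap (MvPolynomial (Fin (m + 2)) (FractionRing A))
        (FractionRing (MvPolynomial (Fin (m + 2)) (FractionRing A)))
        (MvPolynomial.C (algebraMap A (FractionRing A) a)) := fun a => by
    rw [← MvPolynomial.algebraMap_eq, ← IsScalarTower.algebraMap_apply, ← IsScalarTower.algebraMap_apply]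
  rcases x with i | i
  · simp [L28.GenericIndep.family]
  · fin_cases i
    · simp [L28.GenericIndep.family, key, map_sum, map_mul]
    · simp [L28.GenericIndep.family, key, Pi.single_apply]

end Groth.Agent.S7199
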