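import Groth.Statements.S7200
import Groth.Agent.L20.GeomIrredLinear.Poly
import Groth.Agent.L02.GeomIrredField
import Mathlib.AlgebraicGeometry.Geometrically.Irreducible

set_option autoImplicit false
universe u
open FlatMor

set_option backward.isDefEq.respectTransparency.types false
set_option maxHeartbeats 1000000
set_option linter.style.haveILetI false
namespace Groth.Agent.S7200

open AlgebraicGeometry CategoryTheory Limits in
/-- A field extension without separable elements outside the base is geometrically irreducible. -/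
theorem geometricallyIrreducible_of_separable {F Ω : Type u} [Field F] [Field Ω] (_inst : Algebra F Ω)
    (h : ∀ z : Ω, IsSeparable F z → z ∈ Set.range (algebraMap F Ω)) :
    GeometricallyIrreducible (Spec.map (CommRingCat.ofHom (algebraMap F Ω))) := by
  haveI : ObjectProperty.IsClosedUnderIsomorphisms (fun X : Scheme.{u} => IrreducibleSpace X) :=
    ⟨fun e _ => e.hom.homeomorph.irreducibleSpace_iff.1 ‹_›⟩
  refine ⟨geometrically_iff_of_commRing_of_isClosedUnderIsomorphisms.2 fun L _ _ => ?_⟩
  have hi := Groth.L02.GeomIrredField.irreducible_of_separable_elements h L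
  exact ((pullbackSymmetry _ _) ≪≫ pullbackSpecIso F L Ω).hom.homeomorph.irreducibleSpace_iff.2 hi

open AlgebraicGeometry CategoryTheory Limits in
/-- In a geometrically irreducible field extension the base is separably closed. -/
theorem separable_mem_range {k K : Type u} [Field k] [Field K] [Algebra k K]
    [GeometricallyIrreducible (Spec.map (CommRingCat.ofHom (algebraMap k K)))] :
    ∀ a : K, IsSeparable k a → a ∈ Set.range (algebraMap k K) := by
  intro a ha
  refine Groth.L02.GeomIrredField.separable_elements_of_irreducible (fun k' _ _ => ?_) a ha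
  have hi : IrreducibleSpace ↥(pullback (Spec.map (CommRingCat.ofHom (algebraMap k K)))
      (Spec.map (CommRingCat.ofHom (algebraMap k k')))) :=
    GeometricallyIrreducible.geometrically_irreducibleSpace _ _ _ (IsPullback.of_hasPullback _ _)
  exact ((pullbackSymmetry _ _) ≪≫ pullbackSpecIso k k' K).hom.homeomorph.irreducibleSpace_iff.1 hi


open AlgebraicGeometry in
/-- Suppose K/k is a finitely generated field extension with K geometrically irreducible over k; let n ≥
1 and g_1, …, g_n ∈ K, and suppose some c ∈ kⁿ makes the n + 2 elements x_1, …, x_n, ξ = Σ g_i x_i,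
Σ c_i g_i of Ω = K(x_1, …, x_n) algebraically independent over k. Then Ω remains geometrically
irreducible over its subfield generated over k by x_1, …, x_n and ξ. -/
theorem result {k K : Type u} [Field k] [Field K] [Algebra k K]
    (hfg : (⊤ : IntermediateField k K).FG)
    [GeometricallyIrreducible (Spec.map (CommRingCat.ofHom (algebraMap k K)))]
    (m : ℕ) (g : Fin (m + 1) → K) (c : Fin (m + 1) → k)
    (hind : AlgebraicIndependent k
      (Sum.elim
        (fun i : Fin (m + 1) => algebraMap (MvPolynomial (Fin (m + 1)) K) (FractionRing (MvPolynomial (Fin (m + 1)) K)) (MvPolynomial.X i))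
        ![∑ i, algebraMap K (FractionRing (MvPolynomial (Fin (m + 1)) K)) (g i) * algebraMap (MvPolynomial (Fin (m + 1)) K) (FractionRing (MvPolynomial (Fin (m + 1)) K)) (MvPolynomial.X i),
          algebraMap K (FractionRing (MvPolynomial (Fin (m + 1)) K)) (∑ i, c i • g i)])) :
    GeometricallyIrreducible (Spec.map (CommRingCat.ofHom (algebraMap
      ↥(IntermediateField.adjoin k
        (Set.range (fun i : Fin (m + 1) => algebraMap (MvPolynomial (Fin (m + 1)) K) (FractionRing (MvPolynomial (Fin (m + 1)) K)) (MvPolynomial.X i)) ∪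
          {∑ i, algebraMap K (FractionRing (MvPolynomial (Fin (m + 1)) K)) (g i) * algebraMap (MvPolynomial (Fin (m + 1)) K) (FractionRing (MvPolynomial (Fin (m + 1)) K)) (MvPolynomial.X i)}))
      (FractionRing (MvPolynomial (Fin (m + 1)) K))))) := by
  classical
  set ι := algebraMap (MvPolynomial (Fin (m + 1)) K) (FractionRing (MvPolynomial (Fin (m + 1)) K)) with hι
  set ξ := ∑ i, algebraMap K (FractionRing (MvPolynomial (Fin (m + 1)) K)) (g i) * ι (MvPolynomial.X i) with hξ
  set η := algebraMap K (FractionRing (MvPolynomial (Fin (m + 1)) K)) (∑ i, c i • g i) with hη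
  set F := IntermediateField.adjoin k (Set.range (fun i : Fin (m + 1) => ι (MvPolynomial.X i)) ∪ {ξ}) with hF
  refine geometricallyIrreducible_of_separable _ fun θ hθ => ?_
  -- `k` is separably closed in `K`
  have hk : ∀ a : K, IsSeparable k a → a ∈ Set.range (algebraMap k K) :=
    Groth.Agent.S7200.separable_mem_range (k := k) (K := K)
  let P := Groth.L20.GeomIrredLinear.ratSub k K (Fin (m + 1))
  have hP := Groth.L20.GeomIrredLinear.mem_range_ratSub (n := Fin (m + 1)) hk
  -- some coefficient is nonzero and there are at least two variables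
  obtain ⟨j, hj⟩ : ∃ j, c j ≠ 0 := by
    by_contra! hc
    exact hind.ne_zero (Sum.inr 1) (by show η = 0; rw [hη]; simp [hc])
  obtain ⟨i, hij⟩ : ∃ i : Fin (m + 1), i ≠ j := by
    by_contra! hall
    let p : MvPolynomial (Fin (m + 1) ⊕ Fin 2) k :=
      MvPolynomial.C (c j) * MvPolynomial.X (Sum.inr 0) - MvPolynomial.X (Sum.inr 1) * MvPolynomial.X (Sum.inl j)
    have hu : (Finset.univ : Finset (Fin (m + 1))) = {j} := by ext x; simp [hall x]
    have hp : p = 0 := hind (by
      rw [map_zero]
      simp only [p, hξ, hη, hu, Finset.sum_singleton, map_sub, map_mul, MvPolynomial.aeval_X, MvPolynomial.algHom_C,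
        Sum.elim_inl, Sum.elim_inr, Matrix.cons_val_zero, Matrix.cons_val_one, Algebra.smul_def]
      rw [← IsScalarTower.algebraMap_apply k K]
      ring)
    have := congrArg (MvPolynomial.eval (Sum.elim (fun _ : Fin (m + 1) => (1 : k)) ![0, 1])) hp
    simp [p] at this
  let ℓ : MvPolynomial (Fin (m + 1)) K :=
    MvPolynomial.C (algebraMap k K (c j)) * MvPolynomial.X i - MvPolynomial.C (algebraMap k K (c i)) * MvPolynomial.X j
  have hℓ : ℓ ≠ 0 := by
    intro h
    have := congrArg (MvPolynomial.eval (Pi.single i (1 : K))) h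
    simp [ℓ, hij.symm, hj] at this
  have hℓ1 : ∀ d, 0 < d → ℓ ^ d ≠ 1 := fun d hd h => by
    have := congrArg MvPolynomial.constantCoeff h
    simp [ℓ, hd.ne'] at this
  have hℓP : ι ℓ ∈ P := by
    have e : ℓ = MvPolynomial.map (algebraMap k K)
        (MvPolynomial.C (c j) * MvPolynomial.X i - MvPolynomial.C (c i) * MvPolynomial.X j) := by
      simp [ℓ]
    rw [e]
    exact Groth.L20.GeomIrredLinear.algebraMap_map_mem _
  let e : ℕ → P := fun r => ⟨ι ℓ ^ r, pow_mem hℓP r⟩
  have he : Function.Injective e := by
    intro r s h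
    have h' : ℓ ^ r = ℓ ^ s :=
      IsFractionRing.injective (MvPolynomial (Fin (m + 1)) K) (FractionRing (MvPolynomial (Fin (m + 1)) K))
        ((map_pow ι ℓ r).trans ((congrArg Subtype.val h).trans (map_pow ι ℓ s).symm))
    rcases lt_trichotomy r s with hrs | hrs | hrs
    · exact absurd (mul_left_cancel₀ (pow_ne_zero r hℓ) (by rw [← pow_add, Nat.add_sub_cancel' hrs.le, mul_one, ← h']))
        (hℓ1 (s - r) (by omega))
    · exact hrs
    · exact absurd (mul_left_cancel₀ (pow_ne_zero s hℓ) (by rw [← pow_add, Nat.add_sub_cancel' hrs.le, mul_one, h']))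
        (hℓ1 (r - s) (by omega))
  haveI : Infinite P := Infinite.of_injective e he
  let cK : Fin (m + 1) → K := fun i => algebraMap k K (c i)
  have hfix : ∀ (r : ℕ) (a : K),
      MvPolynomial.aeval (fun l => MvPolynomial.X l + MvPolynomial.C (a * cK l) * ℓ ^ r) (ℓ ^ r) = ℓ ^ r := by
    intro r a
    rw [map_pow]
    congr 1
    simp only [ℓ, cK, map_sub, map_mul, MvPolynomial.aeval_X, MvPolynomial.algHom_C, MvPolynomial.algebraMap_eq]
    ring
  let σA : ℕ → (MvPolynomial (Fin (m + 1)) K ≃ₐ[K] MvPolynomial (Fin (m + 1)) K) := fun r =>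
    Groth.L20.GeomIrredLinear.shift cK (ℓ ^ r) (hfix r)
  let σ : ℕ → (FractionRing (MvPolynomial (Fin (m + 1)) K) ≃+* FractionRing (MvPolynomial (Fin (m + 1)) K)) := fun r =>
    IsFractionRing.ringEquivOfRingEquiv (σA r).toRingEquiv
  have hσι : ∀ r p, σ r (ι p) = ι (σA r p) := fun r p => IsFractionRing.ringEquivOfRingEquiv_algebraMap _ p
  have hσιs : ∀ r p, (σ r).symm (ι p) = ι ((σA r).symm p) := fun r p => by
    rw [RingEquiv.symm_apply_eq, hσι, AlgEquiv.apply_symm_apply]
  have hσX : ∀ r l, σA r (MvPolynomial.X l) = MvPolynomial.X l + MvPolynomial.C (1 * cK l) * ℓ ^ r :=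
    fun r l => MvPolynomial.aeval_X _ l
  have hσXs : ∀ r l, (σA r).symm (MvPolynomial.X l) = MvPolynomial.X l + MvPolynomial.C ((-1) * cK l) * ℓ ^ r :=
    fun r l => MvPolynomial.aeval_X _ l
  have hιC : ∀ a : K, ι (MvPolynomial.C a) = algebraMap K (FractionRing (MvPolynomial (Fin (m + 1)) K)) a := fun a =>
    (IsScalarTower.algebraMap_apply K (MvPolynomial (Fin (m + 1)) K) _ a).symm
  have hkP : ∀ a : k, ι (MvPolynomial.C (algebraMap k K a)) ∈ P := fun a => by
    rw [hιC, ← IsScalarTower.algebraMap_apply]
    exact IntermediateField.algebraMap_mem P a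
  have hgen : ∀ (τ : FractionRing (MvPolynomial (Fin (m + 1)) K) →+* FractionRing (MvPolynomial (Fin (m + 1)) K)),
      (∀ a : k, τ (algebraMap k (FractionRing (MvPolynomial (Fin (m + 1)) K)) a) = algebraMap k (FractionRing (MvPolynomial (Fin (m + 1)) K)) a) →
      (∀ l, τ (ι (MvPolynomial.X l)) ∈ P) → ∀ w ∈ P, τ w ∈ P := by
    intro τ hτk hτX w hw
    induction hw using IntermediateField.adjoin_induction with
    | mem x hx => obtain ⟨l, rfl⟩ := hx; exact hτX l
    | algebraMap a => rw [hτk]; exact IntermediateField.algebraMap_mem P a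
    | add x y _ _ hx hy => rw [map_add]; exact add_mem hx hy
    | inv x _ hx => rw [map_inv₀]; exact inv_mem hx
    | mul x y _ _ hx hy => rw [map_mul]; exact mul_mem hx hy
  have hkι : ∀ a : k, algebraMap k (FractionRing (MvPolynomial (Fin (m + 1)) K)) a = ι (MvPolynomial.C (algebraMap k K a)) :=
    fun a => by rw [hιC, ← IsScalarTower.algebraMap_apply]
  have hσP : ∀ r (w : P), σ r (algebraMap P (FractionRing (MvPolynomial (Fin (m + 1)) K)) w) ∈ Set.range (algebraMap P (FractionRing (MvPolynomial (Fin (m + 1)) K))) := by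
    intro r w
    refine ⟨⟨_, hgen (σ r).toRingHom (fun a => ?_) (fun l => ?_) w w.2⟩, rfl⟩
    · show σ r _ = _
      rw [hkι, hσι]
      exact congrArg ι (AlgEquiv.commutes (σA r) _)
    · show σ r _ ∈ P
      rw [hσι, hσX, map_add, map_mul, map_pow, one_mul]
      exact add_mem (IntermediateField.subset_adjoin k _ ⟨l, rfl⟩) (mul_mem (hkP _) (pow_mem hℓP r))
  have hσP' : ∀ r (w : P), (σ r).symm (algebraMap P (FractionRing (MvPolynomial (Fin (m + 1)) K)) w) ∈ Set.range (algebraMap P (FractionRing (MvPolynomial (Fin (m + 1)) K))) := by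
    intro r w
    refine ⟨⟨_, hgen (σ r).symm.toRingHom (fun a => ?_) (fun l => ?_) w w.2⟩, rfl⟩
    · show (σ r).symm _ = _
      rw [hkι, hσιs]
      exact congrArg ι (AlgEquiv.commutes (σA r).symm _)
    · show (σ r).symm _ ∈ P
      rw [hσιs, hσXs, map_add, map_mul, map_pow, neg_one_mul, map_neg, map_neg]
      exact add_mem (IntermediateField.subset_adjoin k _ ⟨l, rfl⟩) (mul_mem (neg_mem (hkP _)) (pow_mem hℓP r))
  have hσξ : ∀ r, σ r ξ = ξ + algebraMap P (FractionRing (MvPolynomial (Fin (m + 1)) K)) (e r) * η := by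
    intro r
    have hgσ : ∀ a : K, σ r (algebraMap K (FractionRing (MvPolynomial (Fin (m + 1)) K)) a) = algebraMap K _ a := fun a => by
      rw [← hιC, hσι]; exact congrArg ι (AlgEquiv.commutes (σA r) a)
    show σ r ξ = ξ + ι ℓ ^ r * η
    simp only [hξ, hη, map_sum, map_mul, hgσ, hσι, hσX, map_add, map_pow, hιC, one_mul, Finset.mul_sum,
      ← Finset.sum_add_distrib, Algebra.smul_def, cK]
    exact Finset.sum_congr rfl fun l _ => by ring
  -- independence over `P`
  have hind2 : AlgebraicIndependent P ![ξ, η] := by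
    have h := hind.comp Sum.swap (Sum.swap_leftInverse.injective)
    have hrw : Sum.elim (fun i : Fin (m + 1) => ι (MvPolynomial.X i)) ![ξ, η] ∘ Sum.swap =
        Sum.elim ![ξ, η] (fun i : Fin (m + 1) => ι (MvPolynomial.X i)) := by
      funext s; cases s <;> rfl
    rw [hrw] at h
    have h' := (AlgebraicIndependent.sumElim_iff.1 h).2
    have h'' : AlgebraicIndependent
        (IntermediateField.adjoin k (Set.range fun i : Fin (m + 1) => ι (MvPolynomial.X i))) ![ξ, η] := by
      open scoped IntermediateField.algebraAdjoinAdjoin in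
      exact h'.extendScalars _
    exact h''
  have hfgP : (⊤ : IntermediateField P (FractionRing (MvPolynomial (Fin (m + 1)) K))).FG := by
    obtain ⟨s, hs, hstop⟩ := IntermediateField.fg_def.1 hfg
    refine IntermediateField.fg_def.2 ⟨algebraMap K _ '' s, hs.image _, ?_⟩
    set T := IntermediateField.adjoin P (algebraMap K (FractionRing (MvPolynomial (Fin (m + 1)) K)) '' s) with hT
    have hK : ∀ a : K, algebraMap K (FractionRing (MvPolynomial (Fin (m + 1)) K)) a ∈ T := by
      intro a
      have ha : a ∈ IntermediateField.adjoin k s := by rw [hstop]; exact IntermediateField.mem_top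
      induction ha using IntermediateField.adjoin_induction with
      | mem x hx => exact IntermediateField.subset_adjoin P _ ⟨x, hx, rfl⟩
      | algebraMap b =>
        rw [← IsScalarTower.algebraMap_apply]
        exact IntermediateField.algebraMap_mem T (algebraMap k P b)
      | add x y _ _ hx hy => rw [map_add]; exact add_mem hx hy
      | inv x _ hx => rw [map_inv₀]; exact inv_mem hx
      | mul x y _ _ hx hy => rw [map_mul]; exact mul_mem hx hy
    have hA : ∀ p : MvPolynomial (Fin (m + 1)) K, ι p ∈ T := by
      intro p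
      induction p using MvPolynomial.induction_on with
      | C a => rw [hιC]; exact hK a
      | add p q hp hq => rw [map_add]; exact add_mem hp hq
      | mul_X p l hp =>
        rw [map_mul]
        exact mul_mem hp (IntermediateField.algebraMap_mem T (⟨_, IntermediateField.subset_adjoin k _ ⟨l, rfl⟩⟩ : P))
    rw [eq_top_iff]
    intro w _
    obtain ⟨a, b, -, rfl⟩ := IsFractionRing.div_surjective (A := MvPolynomial (Fin (m + 1)) K) w
    exact div_mem (hA a) (hA b)
  -- separable over `F` means separable over `P(ξ)`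
  have hFle : F ≤ (IntermediateField.adjoin P {ξ}).restrictScalars k := by
    rw [hF, IntermediateField.adjoin_le_iff]
    rintro x (⟨l, rfl⟩ | hx)
    · exact IntermediateField.algebraMap_mem (IntermediateField.adjoin P {ξ}) (⟨_, IntermediateField.subset_adjoin k _ ⟨l, rfl⟩⟩ : P)
    · rw [Set.mem_singleton_iff.1 hx]
      exact IntermediateField.mem_adjoin_simple_self P ξ
  have hsep : IsSeparable (IntermediateField.adjoin P {ξ}) θ :=
    Groth.L20.GeomIrredLinear.isSeparable_of_semilinear
      ((algebraMap F (FractionRing (MvPolynomial (Fin (m + 1)) K))).codRestrict (IntermediateField.adjoin P {ξ}).toSubfield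
        fun a => hFle a.2)
      (RingHom.id _) (fun a => rfl) hθ
  have hmem := Groth.L20.GeomIrredLinear.mem_adjoin_of_isSeparable (fun z hz => hP z hz) hfgP hind2 e he σ hσP hσP' hσξ hsep
  refine ⟨⟨θ, ?_⟩, rfl⟩
  have hPF : ∀ z ∈ P, z ∈ F := fun z hz =>
    IntermediateField.adjoin.mono k _ _ Set.subset_union_left hz
  clear hθ hsep
  induction hmem using IntermediateField.adjoin_induction with
  | mem x hx => exact IntermediateField.subset_adjoin k _ (Or.inr hx)
  | algebraMap a => exact hPF _ a.2
  | add x y _ _ hx hy => exact add_mem hx hy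
  | inv x _ hx => exact inv_mem hx
  | mul x y _ _ hx hy => exact mul_mem hx hy

end Groth.Agent.S7200
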