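import Groth.Statements.S7201
import Mathlib.AlgebraicGeometry.Morphisms.FiniteType
import Mathlib.RingTheory.AdicCompletion.LocalRing

set_option autoImplicit false
universe u
open FlatMor

set_option backward.isDefEq.respectTransparency.types false
open IsLocalRing in
theorem approx_algebra {A B : Type u} [CommRing A] [IsNoetherianRing A] [CommRing B] [Algebra A B]
    [Algebra.FiniteType A B] (p : Ideal A) [p.IsPrime] (R : Type u) [CommRing R] [IsLocalRing R]
    [IsNoetherianRing R] [Algebra A R] [IsLocalization.AtPrime R p]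
    (s : B →+* AdicCompletion (maximalIdeal R) R)
    (hs : s.comp (algebraMap A B) =
      (algebraMap R (AdicCompletion (maximalIdeal R) R)).comp (algebraMap A R)) (N : ℕ) :
    ∃ (B' : Type u) (_ : CommRing B') (j : B →+* B') (_ : j.FiniteType)
      (τ : B' →+* AdicCompletion (maximalIdeal R) R), τ.comp j = s ∧
      ∀ (s' : B →+* AdicCompletion (maximalIdeal R) R),
        s'.comp (algebraMap A B) =
          (algebraMap R (AdicCompletion (maximalIdeal R) R)).comp (algebraMap A R) →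
        (∃ τ' : B' →+* AdicCompletion (maximalIdeal R) R, τ'.comp j = s') →
        ∀ b, s b - s' b ∈ (maximalIdeal R ^ N).map
          (algebraMap R (AdicCompletion (maximalIdeal R) R)) := by
  classical
  let C := AdicCompletion (maximalIdeal R) R
  let ι : A →+* C := (algebraMap R C).comp (algebraMap A R)
  let J : Ideal C := (maximalIdeal R ^ N).map (algebraMap R C)
  obtain ⟨G, hG⟩ := (IsNoetherian.noetherian (p ^ N) : (p ^ N).FG)
  have hJ : J = (p ^ N).map ι := by
    rw [← Ideal.map_map (algebraMap A R) (algebraMap R C), Ideal.map_pow (algebraMap A R),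
      IsLocalization.AtPrime.map_eq_maximalIdeal p R]
  obtain ⟨X, hX⟩ := (Algebra.FiniteType.out : (⊤ : Subalgebra A B).FG)
  have hbc : ∀ x : ↥X, ∃ b c : A, IsUnit (ι c) ∧ ι c * s x.1 - ι b ∈ J := by
    intro x
    obtain ⟨r, hr⟩ := Ideal.Quotient.mk_surjective
      (AdicCompletion.evalₐ (maximalIdeal R) N (s x.1))
    have hr' : s x.1 - algebraMap R C r ∈ J := by
      show s x.1 - algebraMap R C r ∈ (maximalIdeal R ^ N).map (algebraMap R C)
      rw [← Submodule.restrictScalars_mem R,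
        ← Ideal.smul_top_eq_map,
        AdicCompletion.pow_smul_top_eq_ker_eval (maximalIdeal R).fg_of_isNoetherianRing,
        LinearMap.mem_ker]
      have h0 : AdicCompletion.evalₐ (maximalIdeal R) N (s x.1 - algebraMap R C r) = 0 := by
        rw [map_sub, AlgHom.commutes, ← hr]; exact sub_self _
      rw [← AdicCompletion.factor_evalₐ_eq_eval (maximalIdeal R) _
        (le_of_eq (Ideal.mul_top _).symm), h0, map_zero]
    obtain ⟨⟨b, c⟩, hbc⟩ := IsLocalization.surj p.primeCompl r
    refine ⟨b, c.1, (IsLocalization.map_units R c).map (algebraMap R C), ?_⟩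
    have hb : ι b = algebraMap R C r * ι c.1 := by
      show algebraMap R C _ = _ * algebraMap R C _
      rw [← map_mul]; exact congrArg _ hbc.symm
    rw [hb, show ι c.1 * s x.1 - algebraMap R C r * ι c.1 = ι c.1 * (s x.1 - algebraMap R C r) by ring]
    exact J.mul_mem_left _ hr'
  choose b c hc hb using hbc
  have hsa : ∀ a, s (algebraMap A B a) = ι a := fun a => RingHom.congr_fun hs a
  have hz : ∀ x : ↥X, ∃ z : ↥G → C, ι (c x) * s x.1 - ι (b x) = ∑ g, z g * ι g.1 := by
    intro x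
    have h := hb x
    rw [hJ, ← hG, Ideal.map_span] at h
    have : ι '' (G : Set A) = Set.range (fun g : ↥G => ι g.1) := by ext; simp
    rw [this, Ideal.mem_span_range_iff_exists_fun] at h
    obtain ⟨z, hz⟩ := h
    exact ⟨z, hz.symm⟩
  choose z hz using hz
  let P := MvPolynomial (↥X × ↥G) B
  let e : ↥X → P := fun x => MvPolynomial.C (algebraMap A B (c x) * x.1 - algebraMap A B (b x))
    - ∑ g : ↥G, MvPolynomial.X (x, g) * MvPolynomial.C (algebraMap A B g.1)
  let K : Ideal P := Ideal.span (Set.range e)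
  let τ₀ : P →+* C := MvPolynomial.eval₂Hom s (fun q => z q.1 q.2)
  have hK : K ≤ RingHom.ker τ₀ := by
    rw [Ideal.span_le]
    rintro _ ⟨x, rfl⟩
    show τ₀ (e x) = 0
    have hτC : ∀ y, τ₀ (MvPolynomial.C y) = s y := fun y => MvPolynomial.eval₂Hom_C _ _ y
    have hτX : ∀ q, τ₀ (MvPolynomial.X q) = z q.1 q.2 := fun q => MvPolynomial.eval₂Hom_X' _ _ q
    simp only [e, map_sub, map_sum, map_mul, hτC, hτX, hsa]
    rw [hz x, sub_self]
  refine ⟨P ⧸ K, inferInstance, (Ideal.Quotient.mk K).comp MvPolynomial.C, ?_,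
    Ideal.Quotient.lift K τ₀ hK, RingHom.ext fun x => MvPolynomial.eval₂Hom_C _ _ x, ?_⟩
  · exact RingHom.FiniteType.comp
      (RingHom.FiniteType.of_surjective _ Ideal.Quotient.mk_surjective)
      (RingHom.finiteType_algebraMap.mpr (inferInstance : Algebra.FiniteType B P))
  rintro s' hs' ⟨τ', hτ'⟩ x₀
  have hsa' : ∀ a, s' (algebraMap A B a) = ι a := fun a => RingHom.congr_fun hs' a
  have hgen : ∀ x : ↥X, s x.1 - s' x.1 ∈ J := by
    intro x
    have hC : ∀ y : B, τ' (Ideal.Quotient.mk K (MvPolynomial.C y)) = s' y := fun y =>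
      RingHom.congr_fun hτ' y
    have h0 : τ' (Ideal.Quotient.mk K (e x)) = 0 := by
      rw [Ideal.Quotient.eq_zero_iff_mem.mpr (Ideal.subset_span (Set.mem_range_self x) : e x ∈ K), map_zero]
    simp only [e, map_sub, map_sum, map_mul, hC, hsa', sub_eq_zero] at h0
    have h1 : ι (c x) * s' x.1 - ι (b x) ∈ J := by
      rw [h0]
      refine Ideal.sum_mem _ fun g _ => J.mul_mem_left _ ?_
      rw [hJ]
      exact Ideal.mem_map_of_mem _ (hG ▸ Ideal.subset_span g.2)
    have h2 : ι (c x) * (s x.1 - s' x.1) ∈ J := by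
      have := J.sub_mem (hb x) h1
      rwa [show ι (c x) * s x.1 - ι (b x) - (ι (c x) * s' x.1 - ι (b x))
        = ι (c x) * (s x.1 - s' x.1) by ring] at this
    exact (Ideal.unit_mul_mem_iff_mem _ (hc x)).mp h2
  have : ∀ y ∈ Algebra.adjoin A (X : Set B),
      Ideal.Quotient.mk J (s y) = Ideal.Quotient.mk J (s' y) := by
    intro y hy
    induction hy using Algebra.adjoin_induction with
    | mem y hy => exact Ideal.Quotient.eq.mpr (hgen ⟨y, hy⟩)
    | algebraMap a => rw [hsa, hsa']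
    | add y y' _ _ h h' => simp only [map_add, h, h']
    | mul y y' _ _ h h' => simp only [map_mul, h, h']
  exact Ideal.Quotient.eq.mp (this x₀ (by rw [hX]; trivial))

theorem isLocalHom_of_maximalIdeal_le {L C : Type u} [CommRing L] [IsLocalRing L] [CommRing C]
    {I : Ideal C} (hI : I ≠ ⊤) (f : L →+* C)
    (h : ∀ a ∈ IsLocalRing.maximalIdeal L, f a ∈ I) : IsLocalHom f :=
  ⟨fun a ha => by
    by_contra hna
    exact hI (Ideal.eq_top_of_isUnit_mem _ (h a hna) ha)⟩
namespace Groth.Agent.S7201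

open AlgebraicGeometry CategoryTheory Limits in
/-- Let h : T → S be a morphism of finite type between Noetherian schemes, t a point of T with image s,
and σ : O_{T,t} → O_{S,s}^∧ a local O_{S,s}-algebra map to the completion. For every N ≥ 1 there is
a morphism of finite type g : T' → T and a point t' over t such that σ factors through O_{T,t} →
O_{T',t'}, and any local O_{S,s}-algebra map σ' : O_{T,t} → O_{S,s}^∧ factoring through O_{T,t} →
O_{T',t'} agrees with σ modulo m_s^N. -/
theorem result {T S : Scheme.{u}} [IsNoetherian T] [IsNoetherian S]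
    (h : T ⟶ S) [LocallyOfFiniteType h] [QuasiCompact h] (t : T)
    (σ : ↑(T.presheaf.stalk t) →+* (AdicCompletion (IsLocalRing.maximalIdeal ↑(S.presheaf.stalk (h t))) ↑(S.presheaf.stalk (h t))))
    (hσ : σ.comp (h.stalkMap t).hom = algebraMap ↑(S.presheaf.stalk (h t)) (AdicCompletion (IsLocalRing.maximalIdeal ↑(S.presheaf.stalk (h t))) ↑(S.presheaf.stalk (h t))))
    (hloc : ∀ a ∈ IsLocalRing.maximalIdeal ↑(T.presheaf.stalk t),
      σ a ∈ (IsLocalRing.maximalIdeal ↑(S.presheaf.stalk (h t))).map (algebraMap ↑(S.presheaf.stalk (h t)) (AdicCompletion (IsLocalRing.maximalIdeal ↑(S.presheaf.stalk (h t))) ↑(S.presheaf.stalk (h t)))))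
    (N : ℕ) (hN : 1 ≤ N) :
    ∃ (T' : Scheme.{u}) (g : T' ⟶ T) (t' : T') (hg : g t' = t) (τ : ↑(T'.presheaf.stalk t') →+* (AdicCompletion (IsLocalRing.maximalIdeal ↑(S.presheaf.stalk (h t))) ↑(S.presheaf.stalk (h t)))),
      LocallyOfFiniteType g ∧ QuasiCompact g ∧
      τ.comp ((g.stalkMap t').hom.comp (T.presheaf.stalkCongr (Inseparable.of_eq hg)).inv.hom) = σ ∧
      ∀ (σ' : ↑(T.presheaf.stalk t) →+* (AdicCompletion (IsLocalRing.maximalIdeal ↑(S.presheaf.stalk (h t))) ↑(S.presheaf.stalk (h t)))),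
        σ'.comp (h.stalkMap t).hom = algebraMap ↑(S.presheaf.stalk (h t)) (AdicCompletion (IsLocalRing.maximalIdeal ↑(S.presheaf.stalk (h t))) ↑(S.presheaf.stalk (h t))) →
        (∀ a ∈ IsLocalRing.maximalIdeal ↑(T.presheaf.stalk t),
          σ' a ∈ (IsLocalRing.maximalIdeal ↑(S.presheaf.stalk (h t))).map (algebraMap ↑(S.presheaf.stalk (h t)) (AdicCompletion (IsLocalRing.maximalIdeal ↑(S.presheaf.stalk (h t))) ↑(S.presheaf.stalk (h t))))) →
        (∃ τ' : ↑(T'.presheaf.stalk t') →+* (AdicCompletion (IsLocalRing.maximalIdeal ↑(S.presheaf.stalk (h t))) ↑(S.presheaf.stalk (h t))),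
          τ'.comp ((g.stalkMap t').hom.comp (T.presheaf.stalkCongr (Inseparable.of_eq hg)).inv.hom) = σ') →
        ∀ a : ↑(T.presheaf.stalk t), σ a - σ' a ∈ (IsLocalRing.maximalIdeal ↑(S.presheaf.stalk (h t)) ^ N).map (algebraMap ↑(S.presheaf.stalk (h t)) (AdicCompletion (IsLocalRing.maximalIdeal ↑(S.presheaf.stalk (h t))) ↑(S.presheaf.stalk (h t)))) := by
  classical
  set R := S.presheaf.stalk (h t) with hR
  haveI : IsNoetherianRing R := inferInstance
  let C : CommRingCat.{u} := CommRingCat.of (AdicCompletion (IsLocalRing.maximalIdeal R) R)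
  obtain ⟨_, ⟨V, hV, rfl⟩, htV, -⟩ := S.isBasis_affineOpens.exists_subset_of_mem_open
    (Set.mem_univ (h t)) isOpen_univ
  obtain ⟨_, ⟨U, hU, rfl⟩, htU, hUV⟩ := T.isBasis_affineOpens.exists_subset_of_mem_open
    (a := t) (u := (h ⁻¹ᵁ V : Set T)) htV (h ⁻¹ᵁ V).2
  have hle : U ≤ h ⁻¹ᵁ V := hUV
  haveI : IsNoetherianRing Γ(S, V) := IsLocallyNoetherian.component_noetherian ⟨V, hV⟩
  haveI : IsNoetherianRing Γ(T, U) := IsLocallyNoetherian.component_noetherian ⟨U, hU⟩
  letI : Algebra Γ(S, V) Γ(T, U) := (h.appLE V U hle).hom.toAlgebra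
  haveI : Algebra.FiniteType Γ(S, V) Γ(T, U) := h.finiteType_appLE hV hU hle
  letI : Algebra Γ(S, V) R := (S.presheaf.germ V (h t) htV).hom.toAlgebra
  haveI : IsLocalization.AtPrime R (hV.primeIdealOf ⟨h t, htV⟩).asIdeal :=
    hV.isLocalization_stalk ⟨h t, htV⟩
  have hgerm : h.appLE V U hle ≫ T.presheaf.germ U t htU =
      S.presheaf.germ V (h t) htV ≫ h.stalkMap t := by
    simp only [Scheme.Hom.appLE, Category.assoc, T.presheaf.germ_res]
    exact (h.germ_stalkMap V t htV).symm
  have hrestr : ∀ σ₁ : ↑(T.presheaf.stalk t) →+* C,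
      σ₁.comp (h.stalkMap t).hom = algebraMap R (AdicCompletion (IsLocalRing.maximalIdeal R) R) →
      (σ₁.comp (T.presheaf.germ U t htU).hom).comp (algebraMap Γ(S, V) Γ(T, U)) =
        (algebraMap R (AdicCompletion (IsLocalRing.maximalIdeal R) R)).comp
          (algebraMap Γ(S, V) R) := by
    intro σ₁ h1
    rw [← h1, RingHom.comp_assoc, RingHom.comp_assoc]
    exact congrArg σ₁.comp (congrArg CommRingCat.Hom.hom hgerm)
  obtain ⟨B', iB', j, hj, τB, hτB, hB'⟩ := approx_algebra (A := Γ(S, V)) (B := Γ(T, U))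
    (hV.primeIdealOf ⟨h t, htV⟩).asIdeal R (σ.comp (T.presheaf.germ U t htU).hom)
    (hrestr σ hσ) N
  haveI hCloc : IsLocalRing C :=
    inferInstanceAs (IsLocalRing (AdicCompletion (IsLocalRing.maximalIdeal R) R))
  haveI : IsLocalHom σ := isLocalHom_of_maximalIdeal_le (by
    rw [← AdicCompletion.maximalIdeal_eq_map]
    exact (IsLocalRing.maximalIdeal.isMaximal _).ne_top) σ hloc
  let σc : T.presheaf.stalk t ⟶ C := CommRingCat.ofHom σ
  haveI : IsLocalHom σc.hom := ‹IsLocalHom σ›
  let J : CommRingCat.of Γ(T, U) ⟶ CommRingCat.of B' := CommRingCat.ofHom j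
  let g : Spec (CommRingCat.of B') ⟶ T := Spec.map J ≫ hU.fromSpec
  let φ : Spec C ⟶ Spec (CommRingCat.of B') := Spec.map (CommRingCat.ofHom τB)
  have hφg : φ ≫ g = Spec.map σc ≫ T.fromSpecStalk t := by
    rw [← hU.fromSpecStalk_eq_fromSpecStalk htU, IsAffineOpen.fromSpecStalk]
    show Spec.map _ ≫ Spec.map J ≫ hU.fromSpec = _
    rw [← Spec.map_comp_assoc, ← Spec.map_comp_assoc]
    congr 2
    exact CommRingCat.hom_ext hτB
  let t' := φ (IsLocalRing.closedPoint C)
  have hg : g t' = t := by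
    show (φ ≫ g) (IsLocalRing.closedPoint C) = t
    rw [hφg, Scheme.Hom.comp_apply, Spec_closedPoint, Scheme.fromSpecStalk_closedPoint]
  haveI : LocallyOfFiniteType (Spec.map J) :=
    (HasRingHomProperty.Spec_iff (P := @LocallyOfFiniteType)).mpr hj
  haveI : LocallyOfFiniteType g := inferInstance
  haveI : IsNoetherianRing B' := by
    letI := j.toAlgebra
    haveI : Algebra.FiniteType Γ(T, U) B' := hj
    exact Algebra.FiniteType.isNoetherianRing Γ(T, U) B'
  -- the morphism attached to a map on the stalk at `t'`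
  have key : ∀ τ₁ : (Spec (CommRingCat.of B')).presheaf.stalk t' ⟶ C,
      Spec.map (((T.presheaf.stalkCongr (Inseparable.of_eq hg)).inv ≫ g.stalkMap t') ≫ τ₁) ≫
        T.fromSpecStalk t =
      Spec.map τ₁ ≫ (Spec (CommRingCat.of B')).fromSpecStalk t' ≫ g := by
    intro τ₁
    rw [Spec.map_comp, Spec.map_comp, Category.assoc, Category.assoc,
      TopCat.Presheaf.stalkCongr_inv, Scheme.SpecMap_stalkSpecializes_fromSpecStalk,
      Scheme.SpecMap_stalkMap_fromSpecStalk]
  refine ⟨Spec (CommRingCat.of B'), g, t', hg, (Scheme.stalkClosedPointTo φ).hom,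
    inferInstance, inferInstance, ?_, ?_⟩
  · suffices ((T.presheaf.stalkCongr (Inseparable.of_eq hg)).inv ≫ g.stalkMap t') ≫
        Scheme.stalkClosedPointTo φ = σc from congrArg CommRingCat.Hom.hom this
    apply Spec.map_injective
    rw [← cancel_mono (T.fromSpecStalk t), key, Scheme.Spec_stalkClosedPointTo_fromSpecStalk_assoc,
      hφg]
  rintro σ' hσ' - ⟨τ', hτ'⟩
  let τc : (Spec (CommRingCat.of B')).presheaf.stalk t' ⟶ C := CommRingCat.ofHom τ'
  let σc' : T.presheaf.stalk t ⟶ C := CommRingCat.ofHom σ'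
  let τB' : CommRingCat.of B' ⟶ C :=
    (Scheme.ΓSpecIso _).inv ≫ (Spec (CommRingCat.of B')).presheaf.germ ⊤ t' trivial ≫ τc
  have h2 : J ≫ τB' = T.presheaf.germ U t htU ≫ σc' := by
    apply Spec.map_injective
    rw [← cancel_mono hU.fromSpec]
    have h3 := key τc
    rw [Spec.fromSpecStalk_eq, ← Spec.map_comp_assoc, ← hU.fromSpecStalk_eq_fromSpecStalk htU,
      IsAffineOpen.fromSpecStalk, ← Spec.map_comp_assoc] at h3
    rw [show σc' = ((T.presheaf.stalkCongr (Inseparable.of_eq hg)).inv ≫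
      g.stalkMap t') ≫ τc from CommRingCat.hom_ext hτ'.symm, h3]
    simp only [Spec.map_comp, Category.assoc, g, τB']
  have hgerms := hB' (σ'.comp (T.presheaf.germ U t htU).hom) (hrestr σ' hσ')
    ⟨τB'.hom, congrArg CommRingCat.Hom.hom h2⟩
  letI : Algebra Γ(T, U) ↑(T.presheaf.stalk t) := (T.presheaf.germ U t htU).hom.toAlgebra
  haveI := hU.isLocalization_stalk ⟨t, htU⟩
  intro a
  refine Ideal.Quotient.eq.mp ?_
  refine RingHom.congr_fun (f := (Ideal.Quotient.mk _).comp σ) (g := (Ideal.Quotient.mk _).comp σ')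
    ?_ a
  exact IsLocalization.ringHom_ext (hU.primeIdealOf ⟨t, htU⟩).asIdeal.primeCompl
    (RingHom.ext fun y => Ideal.Quotient.eq.mpr (hgerms y))


end Groth.Agent.S7201
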