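import Groth.Statements.S7203
import Groth.Agent.L14.Popescu.SchemeEtale

set_option autoImplicit false
universe u
open FlatMor

namespace Groth.Agent.S7203

open AlgebraicGeometry CategoryTheory Limits in
/-- Let S be locally Noetherian, p : X → S and q : Y → S locally of finite type, x in X and y in Y over
the same point s with O_{S,s} a G-ring, and φ : O_{Y,y}^∧ ≅ O_{X,x}^∧ an isomorphism of
O_{S,s}-algebras between the completed local rings. For every N ≥ 1 there are a scheme U, a point u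
and morphisms e : U → X, f : U → Y over S which are both elementary étale neighbourhoods (of (X, x)
and of (Y, y)) such that O_{Y,y}^∧ → O_{U,u}^∧ and O_{Y,y}^∧ → O_{X,x}^∧ → O_{U,u}^∧ (φ followed by
the map induced by e) agree modulo m_u^N; the last condition is written on O_{U,u}/m_u^N through
lifts modulo the N-th powers of the maximal ideals. -/
theorem result {X Y S : Scheme.{u}} [IsLocallyNoetherian S]
    (p : X ⟶ S) (q : Y ⟶ S) [LocallyOfFiniteType p] [LocallyOfFiniteType q] (x : X) (y : Y) (hxy : p x = q y)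
    (hG : CAlg.IsGRing ↑(S.presheaf.stalk (p x)))
    (φ : (AdicCompletion (IsLocalRing.maximalIdeal ↑(Y.presheaf.stalk y)) ↑(Y.presheaf.stalk y)) ≃+* (AdicCompletion (IsLocalRing.maximalIdeal ↑(X.presheaf.stalk x)) ↑(X.presheaf.stalk x)))
    (hφ : φ.toRingHom.comp ((algebraMap ↑(Y.presheaf.stalk y) (AdicCompletion (IsLocalRing.maximalIdeal ↑(Y.presheaf.stalk y)) ↑(Y.presheaf.stalk y))).comp
        ((q.stalkMap y).hom.comp (S.presheaf.stalkCongr (Inseparable.of_eq hxy)).hom.hom)) =
      (algebraMap ↑(X.presheaf.stalk x) (AdicCompletion (IsLocalRing.maximalIdeal ↑(X.presheaf.stalk x)) ↑(X.presheaf.stalk x))).comp (p.stalkMap x).hom)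
    (N : ℕ) (hN : 1 ≤ N) :
    ∃ (U : Scheme.{u}) (u : U) (e : U ⟶ X) (heu : e u = x) (f : U ⟶ Y) (hfu : f u = y),
      Etale e ∧ Function.Bijective (e.residueFieldMap u) ∧ Etale f ∧ Function.Bijective (f.residueFieldMap u) ∧
      f ≫ q = e ≫ p ∧
      ∀ (b : (AdicCompletion (IsLocalRing.maximalIdeal ↑(Y.presheaf.stalk y)) ↑(Y.presheaf.stalk y))) (cY : ↑(Y.presheaf.stalk y)) (cX : ↑(X.presheaf.stalk x)),
        AdicCompletion.evalₐ (IsLocalRing.maximalIdeal ↑(Y.presheaf.stalk y)) N b =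
          Ideal.Quotient.mk (IsLocalRing.maximalIdeal ↑(Y.presheaf.stalk y) ^ N) cY →
        AdicCompletion.evalₐ (IsLocalRing.maximalIdeal ↑(X.presheaf.stalk x)) N (φ b) =
          Ideal.Quotient.mk (IsLocalRing.maximalIdeal ↑(X.presheaf.stalk x) ^ N) cX →
        Ideal.Quotient.mk (IsLocalRing.maximalIdeal ↑(U.presheaf.stalk u) ^ N)
            ((f.stalkMap u).hom ((Y.presheaf.stalkCongr (Inseparable.of_eq hfu)).inv.hom cY)) =
          Ideal.Quotient.mk (IsLocalRing.maximalIdeal ↑(U.presheaf.stalk u) ^ N)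
            ((e.stalkMap u).hom ((X.presheaf.stalkCongr (Inseparable.of_eq heu)).inv.hom cX)) := by
  let mX := IsLocalRing.maximalIdeal ↑(X.presheaf.stalk x)
  let mY := IsLocalRing.maximalIdeal ↑(Y.presheaf.stalk y)
  haveI hLX : IsLocallyNoetherian X := LocallyOfFiniteType.isLocallyNoetherian p
  haveI hLY : IsLocallyNoetherian Y := LocallyOfFiniteType.isLocallyNoetherian q
  have hfY : mY.FG := IsNoetherian.noetherian _
  have hfX : mX.FG := IsNoetherian.noetherian _
  let φ₀ := φ.toRingHom.comp (algebraMap ↑(Y.presheaf.stalk y) (AdicCompletion mY ↑(Y.presheaf.stalk y)))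
  have hφm : ∀ (k : ℕ) (z : AdicCompletion mY ↑(Y.presheaf.stalk y)),
      AdicCompletion.evalₐ mY k z = 0 → AdicCompletion.evalₐ mX k (φ z) = 0 := fun k z hz => by
    rw [Groth.L14.Popescu.evalₐ_eq_zero_iff hfY, Ideal.map_pow, ← AdicCompletion.maximalIdeal_eq_map] at hz
    rw [Groth.L14.Popescu.evalₐ_eq_zero_iff hfX, Ideal.map_pow, ← AdicCompletion.maximalIdeal_eq_map,
      ← IsLocalRing.eq_maximalIdeal (Ideal.map_isMaximal_of_equiv φ
        (p := IsLocalRing.maximalIdeal (AdicCompletion mY ↑(Y.presheaf.stalk y)))), ← Ideal.map_pow]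
    exact Ideal.mem_map_of_mem φ hz
  obtain ⟨U, e, u, heu, f, hfu, Φ, hE, hres, hcomm, hΦe, hΦf, hker⟩ :=
    Groth.L14.Popescu.exists_elementary_approx p q x y hxy hG φ₀ hφ (fun b hb => by
      have h1 := hφm 1 (algebraMap ↑(Y.presheaf.stalk y) _ b) (by
        rw [AlgHom.commutes, Ideal.Quotient.algebraMap_eq, Ideal.Quotient.eq_zero_iff_mem, pow_one]; exact hb)
      have h2 := (Groth.L14.Popescu.evalₐ_eq_zero_iff hfX 1 _).mp h1
      rwa [pow_one] at h2) (max N 2) (le_max_of_le_right (by norm_num))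
  haveI := hE
  haveI : LocallyOfFiniteType (f ≫ q) := by rw [hcomm]; infer_instance
  haveI : LocallyOfFiniteType f := locallyOfFiniteType_of_comp f q
  haveI : IsLocallyNoetherian U := LocallyOfFiniteType.isLocallyNoetherian e
  haveI hNY : IsNoetherianRing ↑(Y.presheaf.stalk (f u)) := inferInstance
  let Ou := U.presheaf.stalk u
  let h : ↑(X.presheaf.stalk x) →+* Ou :=
    (e.stalkMap u).hom.comp (X.presheaf.stalkCongr (Inseparable.of_eq heu)).inv.hom
  let g : ↑(Y.presheaf.stalk y) →+* Ou :=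
    (f.stalkMap u).hom.comp (Y.presheaf.stalkCongr (Inseparable.of_eq hfu)).inv.hom
  haveI : IsLocalHom h := @RingHom.isLocalHom_comp _ _ _ _ _ _ _ _ (inferInstanceAs (IsLocalHom (e.stalkMap u).hom))
    (IsLocalHom.mk fun a ha => (isUnit_map_iff (X.presheaf.stalkCongr (Inseparable.of_eq heu)).commRingCatIsoToRingEquiv.symm a).mp ha)
  haveI : IsLocalHom g := @RingHom.isLocalHom_comp _ _ _ _ _ _ _ _ (inferInstanceAs (IsLocalHom (f.stalkMap u).hom))
    (IsLocalHom.mk fun a ha => (isUnit_map_iff (Y.presheaf.stalkCongr (Inseparable.of_eq hfu)).commRingCatIsoToRingEquiv.symm a).mp ha)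
  have hflat : h.Flat := RingHom.Flat.comp
    (RingHom.Flat.of_bijective (X.presheaf.stalkCongr (Inseparable.of_eq heu)).commRingCatIsoToRingEquiv.symm.bijective)
    (Flat.stalkMap e u)
  have hm : mX.map h = IsLocalRing.maximalIdeal Ou := by
    rw [← Groth.L21.CurvFib.map_maximalIdeal_stalkMap_of_etale e u, ← Groth.L14.Popescu.map_maximalIdeal_equiv
      (X.presheaf.stalkCongr (Inseparable.of_eq heu)).commRingCatIsoToRingEquiv.symm, Ideal.map_map]
    rfl
  have hresX : ∀ z : Ou, ∃ c, z - h c ∈ IsLocalRing.maximalIdeal Ou := fun z => by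
    obtain ⟨k, hk⟩ := hres.2 (IsLocalRing.residue Ou z)
    obtain ⟨c', rfl⟩ := IsLocalRing.residue_surjective k
    refine ⟨(X.presheaf.stalkCongr (Inseparable.of_eq heu)).hom c', ?_⟩
    rw [show h ((X.presheaf.stalkCongr (Inseparable.of_eq heu)).hom c') = (e.stalkMap u) c' from
      congrArg (e.stalkMap u).hom (CategoryTheory.Iso.hom_inv_id_apply _ c'), ← IsLocalRing.residue_eq_zero_iff,
      map_sub, sub_eq_zero, ← hk]
    exact CategoryTheory.congr_fun (Scheme.residue_residueFieldMap e u) c'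
  obtain ⟨hgf, hgm, hgr⟩ := Groth.L14.Popescu.flat_unramified_of_approx g h hflat hm hresX φ (max N 2)
    (le_max_right _ _) Φ hker hΦf
  have hfst : (f.stalkMap u).hom = g.comp (Y.presheaf.stalkCongr (Inseparable.of_eq hfu)).hom.hom :=
    RingHom.ext fun b => (congrArg (f.stalkMap u).hom (CategoryTheory.Iso.hom_inv_id_apply _ b)).symm
  have hfres : Function.Bijective (f.residueFieldMap u) := by
    refine ⟨(f.residueFieldMap u).hom.injective, fun k => ?_⟩
    obtain ⟨z, rfl⟩ := IsLocalRing.residue_surjective (R := Ou) k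
    obtain ⟨a, ha⟩ := hgr z
    refine ⟨Y.residue (f u) ((Y.presheaf.stalkCongr (Inseparable.of_eq hfu)).inv a), ?_⟩
    refine (CategoryTheory.congr_fun (Scheme.residue_residueFieldMap f u) _).trans ?_
    show IsLocalRing.residue Ou (g a) = IsLocalRing.residue Ou z
    symm
    rwa [← sub_eq_zero, ← map_sub, IsLocalRing.residue_eq_zero_iff]
  have hnhd : Groth.L05.Point.Nhd @Etale f u := by
    refine (Groth.L05.Point.nhd_etale_iff_localRing f u).mpr ⟨?_, ?_, ?_⟩
    · rw [hfst]
      exact RingHom.Flat.comp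
        (RingHom.Flat.of_bijective (Y.presheaf.stalkCongr (Inseparable.of_eq hfu)).commRingCatIsoToRingEquiv.bijective) hgf
    · rw [hfst, ← Ideal.map_map]
      exact (congrArg (Ideal.map g) (Groth.L14.Popescu.map_maximalIdeal_equiv
        (Y.presheaf.stalkCongr (Inseparable.of_eq hfu)).commRingCatIsoToRingEquiv)).trans hgm
    · letI := (f.residueFieldMap u).hom.toAlgebra
      refine ⟨Module.Finite.of_surjective (Algebra.linearMap (Y.residueField (f u)) (U.residueField u)) hfres.2,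
        ⟨fun k => ?_⟩⟩
      obtain ⟨k, rfl⟩ := hfres.2 k
      exact isSeparable_algebraMap k
  obtain ⟨W, huW, hW⟩ := hnhd
  let u' : (W : Scheme.{u}) := ⟨u, huW⟩
  have hι : Function.Bijective (W.ι.residueFieldMap u') := ConcreteCategory.bijective_of_isIso _
  refine ⟨W, u', W.ι ≫ e, heu, W.ι ≫ f, hfu, inferInstance, ?_, hW, ?_, by
    rw [Category.assoc, hcomm, Category.assoc], fun b cY cX hY hX => ?_⟩
  · rw [Scheme.residueFieldMap_comp]
    exact hι.comp hres
  · rw [Scheme.residueFieldMap_comp]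
    exact hι.comp hfres
  have hdiff : Φ (g cY - h cX) ∈ (mX ^ N).map (Ideal.Quotient.mk (mX ^ max N 2)) := by
    obtain ⟨d, hd⟩ := Ideal.Quotient.mk_surjective (AdicCompletion.evalₐ mX (max N 2) (φ₀ cY))
    rw [map_sub, show Φ (g cY) = _ from hΦf cY, show Φ (h cX) = _ from hΦe cX, ← hd, ← map_sub]
    refine Ideal.mem_map_of_mem _ ?_
    rw [← Ideal.Quotient.eq]
    have h1 := hφm N (algebraMap _ (AdicCompletion mY ↑(Y.presheaf.stalk y)) cY - b) (by
      rw [map_sub, AlgHom.commutes, Ideal.Quotient.algebraMap_eq, hY, sub_self])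
    rw [map_sub, map_sub, sub_eq_zero] at h1
    rw [← Ideal.Quotient.factor_mk (Ideal.pow_le_pow_right (le_max_left N 2)) d, hd,
      Groth.L14.Popescu.factor_evalₐ mX (le_max_left N 2)]
    exact h1.trans hX
  obtain ⟨d, hd, hdz⟩ := (Ideal.mem_map_iff_of_surjective _ Ideal.Quotient.mk_surjective).mp hdiff
  have hmem : g cY - h cX ∈ IsLocalRing.maximalIdeal Ou ^ N := by
    have h1 := hker (g cY - h cX - h d) (by
      rw [map_sub, show Φ (h d) = _ from hΦe d, hdz, sub_self])
    have h2 : h d ∈ IsLocalRing.maximalIdeal Ou ^ N := by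
      rw [← hm, ← Ideal.map_pow]
      exact Ideal.mem_map_of_mem h hd
    have h3 := Ideal.add_mem _ (Ideal.pow_le_pow_right (le_max_left N 2) h1) h2
    rwa [sub_add_cancel] at h3
  let ιs : Ou →+* (W : Scheme.{u}).presheaf.stalk u' := (W.ι.stalkMap u').hom
  haveI : IsLocalHom ιs := inferInstanceAs (IsLocalHom (W.ι.stalkMap u').hom)
  have hι2 : (IsLocalRing.maximalIdeal Ou).map ιs ≤ IsLocalRing.maximalIdeal ((W : Scheme.{u}).presheaf.stalk u') :=
    Ideal.map_le_iff_le_comap.mpr fun z hz hu => hz (isUnit_of_map_unit ιs z hu)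
  have h4 := Ideal.mem_map_of_mem ιs hmem
  rw [Ideal.map_pow] at h4
  replace h4 := Ideal.pow_right_mono hι2 N h4
  refine Ideal.Quotient.eq.mpr ?_
  rw [Scheme.Hom.stalkMap_comp, Scheme.Hom.stalkMap_comp]
  show ιs (g cY) - ιs (h cX) ∈ _
  rw [← map_sub]
  exact h4

end Groth.Agent.S7203
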