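import Groth.Statements.S7204
import Mathlib.AlgebraicGeometry.Sites.Fpqc

set_option autoImplicit false
universe w u
open FlatMor

namespace Groth.Agent.S7204

open AlgebraicGeometry CategoryTheory Limits in
/-- Let (X_i)_{i ∈ I} be a diagram of schemes and (W, X_i → W) a cocone under it. If there is an fpqc
covering {W_a → W} such that each W_a is the colimit (in schemes) of the base-changed diagram (X_i
×_W W_a), and each W_a ×_W W_b is the colimit of (X_i ×_W W_a ×_W W_b), then W is the colimit of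
(X_i) in the category of schemes. -/
theorem result {J : Type u} [SmallCategory J] (D : J ⥤ Scheme.{u}) (c : Cocone D)
    (F : PreZeroHypercover.{w} c.pt) (hF : F.presieve₀ ∈ Scheme.fpqcPrecoverage c.pt)
    (h1 : ∀ a : F.I₀, Nonempty (IsColimit ((Over.forgetCocone (F.X a)).whisker
      (D.toOver c.pt (fun j => c.ι.app j) (fun g => c.w g) ⋙ Over.pullback (F.f a)))))
    (h2 : ∀ a b : F.I₀, Nonempty (IsColimit ((Over.forgetCocone (pullback (F.f a) (F.f b))).whisker
      (D.toOver c.pt (fun j => c.ι.app j) (fun g => c.w g) ⋙ Over.pullback (pullback.fst (F.f a) (F.f b) ≫ F.f a))))) :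
    Nonempty (IsColimit c) := by
  classical
  have hsh : ∀ {Z : Scheme.{u}} {ι : Type w} (Y : ι → Scheme.{u}) (π : ∀ i, Y i ⟶ Z),
      Presieve.ofArrows Y π ∈ Scheme.fpqcPrecoverage Z → ∀ (T : Scheme.{u}) (x : ∀ i, Y i ⟶ T),
      (∀ i j V (gi : V ⟶ Y i) (gj : V ⟶ Y j), gi ≫ π i = gj ≫ π j → gi ≫ x i = gj ≫ x j) →
      ∃! t : Z ⟶ T, ∀ i, π i ≫ t = x i := by
    intro Z ι Y π hπ T x hx
    have h : Presieve.IsSheafFor (yoneda.obj T) (Presieve.ofArrows Y π) :=
      (GrothendieckTopology.Subcanonical.isSheaf_of_isRepresentable (yoneda.obj T)).isSheafFor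
        (Presieve.ofArrows Y π) (Precoverage.generate_mem_toGrothendieck hπ)
    exact (Presieve.isSheafFor_arrows_iff _ _).mp h x hx
  have hepi : ∀ {Z : Scheme.{u}} {ι : Type w} (Y : ι → Scheme.{u}) (π : ∀ i, Y i ⟶ Z),
      Presieve.ofArrows Y π ∈ Scheme.fpqcPrecoverage Z → ∀ (T : Scheme.{u}) (a b : Z ⟶ T),
      (∀ i, π i ≫ a = π i ≫ b) → a = b := by
    intro Z ι Y π hπ T a b hab
    exact (hsh Y π hπ T (fun i => π i ≫ b)
      (fun i j V gi gj e => by rw [reassoc_of% e])).unique hab (fun i => rfl)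
  let P : F.I₀ → J → Scheme.{u} := fun a j => pullback (c.ι.app j) (F.f a)
  have hom1 : ∀ (a : F.I₀) {T : Scheme.{u}} (u v : F.X a ⟶ T),
      (∀ j, pullback.snd (c.ι.app j) (F.f a) ≫ u = pullback.snd (c.ι.app j) (F.f a) ≫ v) → u = v :=
    fun a T u v h => (h1 a).some.hom_ext (fun j => h j)
  have hom2 : ∀ (a b : F.I₀) {T : Scheme.{u}} (u v : pullback (F.f a) (F.f b) ⟶ T),
      (∀ j, pullback.snd (c.ι.app j) (pullback.fst (F.f a) (F.f b) ≫ F.f a) ≫ u =
        pullback.snd (c.ι.app j) (pullback.fst (F.f a) (F.f b) ≫ F.f a) ≫ v) → u = v :=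
    fun a b T u v h => (h2 a b).some.hom_ext (fun j => h j)
  refine ⟨IsColimit.ofExistsUnique fun s => ?_⟩
  let K : ∀ a : F.I₀, Cocone ((D.toOver c.pt (fun j => c.ι.app j) (fun g => c.w g) ⋙
      Over.pullback (F.f a)) ⋙ Over.forget (F.X a)) := fun a =>
    { pt := s.pt
      ι := { app := fun j => pullback.fst (c.ι.app j) (F.f a) ≫ s.ι.app j
             naturality := fun i j φ => by
               dsimp
               simp only [Category.comp_id]
               rw [← s.w φ]
               exact (pullback.lift_fst_assoc _ _ _ _).trans (Category.assoc _ _ _) } }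
  let g : ∀ a, F.X a ⟶ s.pt := fun a => (h1 a).some.desc (K a)
  have hg : ∀ a j, pullback.snd (c.ι.app j) (F.f a) ≫ g a =
      pullback.fst (c.ι.app j) (F.f a) ≫ s.ι.app j := fun a j => (h1 a).some.fac (K a) j
  have hov : ∀ a b, pullback.fst (F.f a) (F.f b) ≫ g a = pullback.snd (F.f a) (F.f b) ≫ g b := by
    intro a b
    refine hom2 a b _ _ (fun j => ?_)
    set q := pullback.fst (F.f a) (F.f b) ≫ F.f a with hq
    let ma : pullback (c.ι.app j) q ⟶ pullback (c.ι.app j) (F.f a) :=
      pullback.lift (pullback.fst _ _) (pullback.snd _ _ ≫ pullback.fst (F.f a) (F.f b))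
        (by rw [pullback.condition, hq, Category.assoc])
    let mb : pullback (c.ι.app j) q ⟶ pullback (c.ι.app j) (F.f b) :=
      pullback.lift (pullback.fst _ _) (pullback.snd _ _ ≫ pullback.snd (F.f a) (F.f b))
        (by rw [pullback.condition, hq, pullback.condition, Category.assoc])
    calc pullback.snd (c.ι.app j) q ≫ pullback.fst _ _ ≫ g a
        = ma ≫ pullback.snd _ _ ≫ g a := by simp only [ma, pullback.lift_snd_assoc, Category.assoc]
      _ = pullback.fst (c.ι.app j) q ≫ s.ι.app j := by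
        rw [hg]; simp only [ma, pullback.lift_fst_assoc]
      _ = mb ≫ pullback.snd _ _ ≫ g b := by
        rw [hg]; simp only [mb, pullback.lift_fst_assoc]
      _ = pullback.snd (c.ι.app j) q ≫ pullback.snd _ _ ≫ g b := by
        simp only [mb, pullback.lift_snd_assoc, Category.assoc]
  obtain ⟨t, ht, htu⟩ := hsh F.X F.f hF s.pt g (fun a b V ga gb e => by
    have := congrArg (pullback.lift ga gb e ≫ ·) (hov a b)
    simpa only [pullback.lift_fst_assoc, pullback.lift_snd_assoc] using this)
  refine ⟨t, fun j => ?_, fun t' ht' => htu t' (fun a => ?_)⟩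
  · refine hepi (fun a => pullback (c.ι.app j) (F.f a)) (fun a => pullback.fst _ _)
      (Precoverage.mem_coverings_of_isPullback F.f hF (c.ι.app j) _ (fun a => pullback.snd _ _)
        (fun a => IsPullback.of_hasPullback _ _)) _ _ _ (fun a => ?_)
    rw [pullback.condition_assoc, ht, hg]
  · refine hom1 a _ _ (fun j => ?_)
    rw [hg, ← pullback.condition_assoc, ht' j]

end Groth.Agent.S7204
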