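import Groth.Statements.S7208
import Groth.Agent.L29.RelPC.Basic

set_option autoImplicit false
set_option backward.isDefEq.respectTransparency false
universe u
open CategoryTheory CategoryTheory.Limits AlgebraicGeometry Opposite TopologicalSpace
attribute [local instance] HasDerivedCategory.standard
open FlatMor

namespace Groth.Agent.S7208

/-- (1) ⇔ (2): let f : X ⟶ S be locally of finite type, E an object of D(O_X) and m an integer. Then E
is m-pseudo-coherent relative to f (in chart form: some affine open cover of S, some affine open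
covers of the preimages, and on each member a surjection from a polynomial ring over the base ring
along whose closed immersion the direct image of E is m-pseudo-coherent) if and only if for every
pair of affine opens U ⊆ X and V ⊆ S with f(U) ⊆ V there is a surjection Γ(S, V)[x_1, …, x_n] → Γ(X,
U) compatible with f along whose closed immersion into affine n-space over V the direct image of
E|_U is m-pseudo-coherent. -/
theorem result {X S : Scheme.{u}} (f : X ⟶ S)
    [LocallyOfFiniteType f] (m : ℤ) (E : DCoh.D X) :
    DerSch.IsPseudoCoherentRel f m E ↔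
      ∀ (U : X.affineOpens) (V : S.affineOpens) (h : (U : X.Opens) ≤ f ⁻¹ᵁ (V : S.Opens)),
        ∃ (n : ℕ) (φ : MvPolynomial (Fin n) Γ(S, (V : S.Opens)) →+* Γ(X, (U : X.Opens))),
          DerSch.IsChart f (U : X.Opens) (V : S.Opens) h φ ∧ DerSch.ChartPC m E (U : X.Opens) (V : S.Opens) φ := by
  refine ⟨fun hE U V h => ?_, fun hE => Groth.L29.RelPC.rel_iff.2 fun U V hU hV h => ?_⟩
  · obtain ⟨n, φ, hφ⟩ := Groth.L29.RelPC.exists_isChart f U.2 V.2 h
    exact ⟨n, φ, hφ, (Groth.L29.RelPC.chartPC_iff U.2 hφ.1 m E).2
      (Groth.L29.RelPC.good_of_rel hE U.2 V.2 h h n φ hφ)⟩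
  · obtain ⟨n, φ, hφ, hp⟩ := hE ⟨U, hU⟩ ⟨V, hV⟩ h
    exact Groth.L29.RelPC.good_of_chart f hU hφ ((Groth.L29.RelPC.chartPC_iff hU hφ.1 m E).1 hp)

end Groth.Agent.S7208
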