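import Groth.Statements.S7210
import Groth.Agent.L29.RelPC.Bridge
import Groth.Agent.L29.DCoh.RpushRestrict
import Groth.Agent.L29.DCoh.PushTilde

set_option autoImplicit false
set_option backward.isDefEq.respectTransparency false
universe u
open CategoryTheory CategoryTheory.Limits AlgebraicGeometry Opposite TopologicalSpace
attribute [local instance] HasDerivedCategory.standard
open FlatMor

namespace Groth.Agent.S7210

/-- Let p : X ⟶ S and q : Y ⟶ S be locally of finite type and π : X ⟶ Y a finite morphism over S (π ≫ q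
= p). Let E be an object of D(O_X) all of whose cohomology sheaves are quasi-coherent, and m an
integer. Then, Rπ_* being assumed to exist, relative m-pseudo-coherence of E with respect to p is
equivalent to relative m-pseudo-coherence of Rπ_* E with respect to q (chart form). -/
theorem result {X Y S : Scheme.{u}} (p : X ⟶ S) (q : Y ⟶ S)
    [LocallyOfFiniteType p] [LocallyOfFiniteType q] (π : X ⟶ Y) [IsFinite π] (w : π ≫ q = p)
    [DCoh.HasRpush π] (m : ℤ) (E : DCoh.D X) (hE : DCoh.IsQCohD E) :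
    DerSch.IsPseudoCoherentRel p m E ↔ DerSch.IsPseudoCoherentRel q m ((DCoh.Rpush π).obj E) := by
  have key : ∀ (U : Y.Opens) (V : S.Opens), IsAffineOpen U → IsAffineOpen V → ∀ hle : U ≤ q ⁻¹ᵁ V,
      (Groth.L29.RelPC.Good p m E (π ⁻¹ᵁ U) V ↔ Groth.L29.RelPC.Good q m ((DCoh.Rpush π).obj E) U V) := by
    intro U V hU hV hle
    subst w
    let hU' := hU.preimage π
    have hle' : π ⁻¹ᵁ U ≤ (π ≫ q) ⁻¹ᵁ V := π.preimage_mono hle
    let φ : Γ(Y, U) ⟶ Γ(X, π ⁻¹ᵁ U) := π.app U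
    let g := Spec.map φ
    have w : g ≫ hU.fromSpec = hU'.fromSpec ≫ π := by
      have := hU.SpecMap_appLE_fromSpec π hU' le_rfl
      simpa [g, φ, Scheme.Hom.app_eq_appLE] using this
    have hr : π ⁻¹ᵁ hU.fromSpec.opensRange ≤ hU'.fromSpec.opensRange := by
      rw [hU.opensRange_fromSpec, hU'.opensRange_fromSpec]
    haveI := Groth.L29.DC.RpushQC.hasRpush g
    haveI := Groth.L18.TildeF.tilde_preservesFiniteLimits (R := Γ(Y, U))
    haveI := Groth.L18.TildeF.tilde_preservesFiniteLimits (R := Γ(X, π ⁻¹ᵁ U))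
    haveI := Groth.L29.RelPC.isClosedImmersion_toSpecΓ hU
    haveI := Groth.L29.RelPC.isClosedImmersion_toSpecΓ hU'
    obtain ⟨T⟩ := Groth.L29.DC.PushTilde.nonempty_tildeD_Rpush φ
    obtain ⟨R⟩ := Groth.L29.DC.RpushRes.nonempty_iso π hU.fromSpec hU'.fromSpec g hr w
    obtain ⟨M, ⟨a⟩⟩ := Groth.L29.RelPC.exists_module (U := π ⁻¹ᵁ U) hE
    obtain ⟨b'⟩ := Groth.L29.RelPC.nonempty_fromSpec hU' E
    obtain ⟨b⟩ := Groth.L29.RelPC.nonempty_fromSpec hU ((DCoh.Rpush π).obj E)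
    let eR : (DCoh.tildeD Γ(Y, U)).obj ((DRing.restrictD φ.hom).obj M) ≅
        (Groth.L29.DC.ClosedPC.pD U.toSpecΓ).obj ((Groth.L29.DC.resD U).obj ((DCoh.Rpush π).obj E)) :=
      (T.app M).symm ≪≫ (DCoh.Rpush g).mapIso (a ≪≫ b') ≪≫ (R.app E).symm ≪≫ b.symm
    rw [Groth.L29.RelPC.good_iff_rel hU' hV hle' a, Groth.L29.RelPC.good_iff_rel hU hV hle eR]
    letI : Algebra Γ(Y, U) Γ(X, π ⁻¹ᵁ U) := φ.hom.toAlgebra
    letI : Algebra Γ(S, V) Γ(Y, U) := (q.appLE V U hle).hom.toAlgebra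
    letI : Algebra Γ(S, V) Γ(X, π ⁻¹ᵁ U) := ((π ≫ q).appLE V (π ⁻¹ᵁ U) hle').hom.toAlgebra
    haveI : IsScalarTower Γ(S, V) Γ(Y, U) Γ(X, π ⁻¹ᵁ U) := IsScalarTower.of_algebraMap_eq fun r => by
      have h := Scheme.Hom.appLE_comp_appLE π q V U (π ⁻¹ᵁ U) hle le_rfl
      rw [← Scheme.Hom.app_eq_appLE] at h
      exact (ConcreteCategory.congr_hom h r).symm
    haveI : Algebra.FiniteType Γ(S, V) Γ(Y, U) := q.finiteType_appLE hV hU hle
    haveI : Algebra.FiniteType Γ(S, V) Γ(X, π ⁻¹ᵁ U) := (π ≫ q).finiteType_appLE hV hU' hle'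
    haveI : Module.Finite Γ(Y, U) Γ(X, π ⁻¹ᵁ U) := π.finite_app U hU
    exact Groth.L10.RelPC.finite M m
  constructor
  · intro h
    refine Groth.L29.RelPC.rel_iff.2 fun U V hU hV hle => (key U V hU hV hle).1 ?_
    exact Groth.L29.RelPC.good_of_rel h (hU.preimage π) hV (by subst w; exact π.preimage_mono hle)
  · intro h
    refine Groth.L29.RelPC.rel_of_local fun x => ?_
    obtain ⟨_, ⟨V, hV, rfl⟩, hy, -⟩ :=
      S.isBasis_affineOpens.exists_subset_of_mem_open (Set.mem_univ (q (π x))) isOpen_univ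
    obtain ⟨_, ⟨U, hU, rfl⟩, hx, hle⟩ := Y.isBasis_affineOpens.exists_subset_of_mem_open
      (show π x ∈ q ⁻¹ᵁ V from hy) (q ⁻¹ᵁ V).isOpen
    exact ⟨π ⁻¹ᵁ U, V, hx, hU.preimage π, hV, by subst w; exact π.preimage_mono hle,
      (key U V hU hV hle).2 (Groth.L29.RelPC.good_of_rel h hU hV hle)⟩

end Groth.Agent.S7210
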