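import Groth.Statements.S7217
import Groth.Agent.L29.RelPC.Main

set_option autoImplicit false
set_option backward.isDefEq.respectTransparency false
universe u
open CategoryTheory CategoryTheory.Limits AlgebraicGeometry Opposite TopologicalSpace
attribute [local instance] HasDerivedCategory.standard
open FlatMor

namespace Groth.Agent.S7217

/-- Let f : X ⟶ S be a morphism of schemes, U ⊆ X and V ⊆ S affine opens with f(U) ⊆ V such that Γ(S, V)
→ Γ(X, U) is of finite type, E an object of D(O_X), m an integer, and g_1, …, g_k ∈ Γ(X, U) elements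
generating the unit ideal, so that the basic opens D(g_j) form a standard affine open covering of U.
Then the following are equivalent: for every j there is a surjection from a polynomial ring Γ(S,
V)[x_1, …, x_n] onto Γ(X, D(g_j)), compatible with f, along whose closed immersion into affine space
over V the direct image of E restricted to D(g_j) is m-pseudo-coherent; there is such a surjection
onto Γ(X, U) along whose closed immersion the direct image of E|_U is m-pseudo-coherent. -/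
theorem result {X S : Scheme.{u}} (f : X ⟶ S) (U : X.affineOpens)
    (V : S.affineOpens) (h : (U : X.Opens) ≤ f ⁻¹ᵁ (V : S.Opens))
    (hft : (f.appLE (V : S.Opens) (U : X.Opens) h).hom.FiniteType) (m : ℤ) (E : DCoh.D X)
    {k : ℕ} (g : Fin k → Γ(X, (U : X.Opens))) (hg : Ideal.span (Set.range g) = ⊤) :
    (∀ j : Fin k, ∃ (n : ℕ) (φ : MvPolynomial (Fin n) Γ(S, (V : S.Opens)) →+* Γ(X, X.basicOpen (g j))),
        DerSch.IsChart f (X.basicOpen (g j)) (V : S.Opens) ((X.basicOpen_le (g j)).trans h) φ ∧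
          DerSch.ChartPC m E (X.basicOpen (g j)) (V : S.Opens) φ) ↔
      ∃ (n : ℕ) (φ : MvPolynomial (Fin n) Γ(S, (V : S.Opens)) →+* Γ(X, (U : X.Opens))),
        DerSch.IsChart f (U : X.Opens) (V : S.Opens) h φ ∧ DerSch.ChartPC m E (U : X.Opens) (V : S.Opens) φ := by
  letI := (f.appLE (V : S.Opens) (U : X.Opens) h).hom.toAlgebra
  haveI : Algebra.FiniteType Γ(S, (V : S.Opens)) Γ(X, (U : X.Opens)) := hft
  obtain ⟨n, α, hα⟩ := Groth.L10.RelPC.exists_presentation Γ(S, (V : S.Opens)) Γ(X, (U : X.Opens))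
  have hφ : DerSch.IsChart f (U : X.Opens) (V : S.Opens) h (α : MvPolynomial (Fin n) Γ(S, (V : S.Opens)) →+* Γ(X, (U : X.Opens))) :=
    ⟨hα, RingHom.ext fun r => α.commutes r⟩
  constructor
  · intro hj
    refine ⟨n, _, hφ, (Groth.L29.RelPC.chartPC_iff U.2 hα m E).2 (Groth.L29.RelPC.CP.of_cover U.2 _ hα fun x hx => ?_)⟩
    have hcov := (U.2.iSup_basicOpen_eq_self_iff (s := Set.range g)).2 hg
    obtain ⟨⟨_, j, rfl⟩, hxj⟩ := TopologicalSpace.Opens.mem_iSup.1 (show x ∈ ⨆ g₀ : Set.range g, X.basicOpen (g₀ : Γ(X, (U : X.Opens))) by rw [hcov]; exact hx)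
    obtain ⟨k', ψ₀, hψ₀, hc₀⟩ := hj j
    obtain ⟨p, hp⟩ := hα (g j)
    have hG : Groth.L29.RelPC.Good f m E (X.basicOpen (g j)) (V : S.Opens) :=
      Groth.L29.RelPC.good_of_chart f (U.2.basicOpen _) hψ₀ ((Groth.L29.RelPC.chartPC_iff (U.2.basicOpen _) hψ₀.1 m E).1 hc₀)
    change (α : MvPolynomial (Fin n) Γ(S, (V : S.Opens)) →+* Γ(X, (U : X.Opens))) p = g j at hp
    rw [← hp] at hG
    obtain ⟨h₁, ψ, -, hc, hψ, hiff⟩ := Groth.L29.RelPC.exists_chart_loc f U.2 hφ p
    exact ⟨p, h₁, hp.symm ▸ hxj, hc, (hiff m E).1 (hG _ _ ψ hψ)⟩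
  · rintro ⟨n₀, φ, hφ₀, hc⟩ j
    obtain ⟨p, hp⟩ := hφ₀.1 (g j)
    obtain ⟨h₁, ψ, hs, hc₁, hψ, hiff⟩ := Groth.L29.RelPC.exists_chart_loc f U.2 hφ₀ p
    have hCP := (hiff m E).2 (Groth.L29.RelPC.CP.loc U.2 φ hφ₀.1 p h₁ hc₁
      ((Groth.L29.RelPC.chartPC_iff U.2 hφ₀.1 m E).1 hc) hs)
    generalize g j = g₀ at hp ⊢
    subst hp
    exact ⟨_, ψ, hψ, (Groth.L29.RelPC.chartPC_iff (U.2.basicOpen _) hψ.1 m E).2 hCP⟩

end Groth.Agent.S7217
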