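import Groth.Statements.S7218
import Groth.Agent.L29.RelPC.Main

set_option autoImplicit false
set_option backward.isDefEq.respectTransparency false
universe u
open CategoryTheory CategoryTheory.Limits AlgebraicGeometry Opposite TopologicalSpace
attribute [local instance] HasDerivedCategory.standard
open FlatMor

namespace Groth.Agent.S7218

/-- Let f : X ⟶ S be a morphism of schemes, V ⊆ S an affine open, r ∈ Γ(S, V) with basic open D(r) ⊆ V,
U ⊆ X an affine open with f(U) ⊆ D(r), g ∈ Γ(X, U) with basic open D(g) ⊆ U (a standard affine open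
of U), E an object of D(O_X) and m an integer. Suppose there is a surjection from a polynomial ring
Γ(S, D(r))[x_1, …, x_n] onto Γ(X, U), compatible with f, along whose closed immersion into affine
space over D(r) the direct image of E|_U is m-pseudo-coherent. Then there is a surjection from a
polynomial ring Γ(S, V)[x_1, …, x_k] onto Γ(X, D(g)), compatible with f, along whose closed
immersion into affine space over V the direct image of E|_{D(g)} is m-pseudo-coherent. (The
published statement allows any affine open of U in place of D(g); this row takes a standard open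
D(g), the case its printed proof treats.) -/
theorem result {X S : Scheme.{u}} (f : X ⟶ S) (V : S.affineOpens)
    (r : Γ(S, (V : S.Opens))) (U : X.affineOpens) (hU : (U : X.Opens) ≤ f ⁻¹ᵁ S.basicOpen r)
    (g : Γ(X, (U : X.Opens))) (h' : X.basicOpen g ≤ f ⁻¹ᵁ (V : S.Opens))
    (m : ℤ) (E : DCoh.D X)
    (hE : ∃ (n : ℕ) (φ : MvPolynomial (Fin n) Γ(S, S.basicOpen r) →+* Γ(X, (U : X.Opens))),
      DerSch.IsChart f (U : X.Opens) (S.basicOpen r) hU φ ∧ DerSch.ChartPC m E (U : X.Opens) (S.basicOpen r) φ) :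
    ∃ (k : ℕ) (ψ : MvPolynomial (Fin k) Γ(S, (V : S.Opens)) →+* Γ(X, X.basicOpen g)),
      DerSch.IsChart f (X.basicOpen g) (V : S.Opens) h' ψ ∧ DerSch.ChartPC m E (X.basicOpen g) (V : S.Opens) ψ := by
  obtain ⟨n, φ, hφ, hp⟩ := hE
  have hV := V.2.basicOpen r
  have h : (U : X.Opens) ≤ f ⁻¹ᵁ (V : S.Opens) := hU.trans (f.preimage_mono (S.basicOpen_le r))
  letI : Algebra Γ(S, (V : S.Opens)) Γ(S, S.basicOpen r) :=
    ((S.presheaf.map (homOfLE (S.basicOpen_le r)).op).hom).toAlgebra
  haveI : IsLocalization.Away r Γ(S, S.basicOpen r) := V.2.isLocalization_basicOpen r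
  letI := (f.appLE (S.basicOpen r) (U : X.Opens) hU).hom.toAlgebra
  letI := (f.appLE (V : S.Opens) (U : X.Opens) h).hom.toAlgebra
  haveI : IsScalarTower Γ(S, (V : S.Opens)) Γ(S, S.basicOpen r) Γ(X, (U : X.Opens)) :=
    IsScalarTower.of_algebraMap_eq fun s =>
      (ConcreteCategory.congr_hom (f.map_appLE hU (homOfLE (S.basicOpen_le r)).op) s).symm
  haveI : Algebra.FiniteType Γ(S, S.basicOpen r) Γ(X, (U : X.Opens)) := by
    refine Algebra.FiniteType.iff_quotient_mvPolynomial''.2 ⟨n, { φ with commutes' := fun s => ?_ }, hφ.1⟩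
    exact RingHom.congr_fun hφ.2 s
  haveI : Algebra.FiniteType Γ(S, (V : S.Opens)) Γ(S, S.basicOpen r) :=
    haveI : Algebra.FinitePresentation Γ(S, (V : S.Opens)) Γ(S, S.basicOpen r) :=
      IsLocalization.Away.finitePresentation r
    inferInstance
  haveI : Algebra.FiniteType Γ(S, (V : S.Opens)) Γ(X, (U : X.Opens)) :=
    Algebra.FiniteType.trans (S := Γ(S, S.basicOpen r)) inferInstance inferInstance
  obtain ⟨k, α, hα⟩ := Groth.L10.RelPC.exists_presentation Γ(S, (V : S.Opens)) Γ(X, (U : X.Opens))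
  have hφV : DerSch.IsChart f (U : X.Opens) (V : S.Opens) h (α : MvPolynomial (Fin k) Γ(S, (V : S.Opens)) →+* Γ(X, (U : X.Opens))) :=
    ⟨hα, RingHom.ext fun s => α.commutes s⟩
  let φ' : MvPolynomial (Fin k) Γ(S, S.basicOpen r) →+* Γ(X, (U : X.Opens)) :=
    MvPolynomial.eval₂Hom (algebraMap _ _) fun i => α (MvPolynomial.X i)
  have hc : φ'.comp (MvPolynomial.map (algebraMap Γ(S, (V : S.Opens)) Γ(S, S.basicOpen r))) = (α : MvPolynomial (Fin k) Γ(S, (V : S.Opens)) →+* Γ(X, (U : X.Opens))) :=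
    MvPolynomial.ringHom_ext (fun s => by
      simp only [RingHom.comp_apply, MvPolynomial.map_C, φ', MvPolynomial.eval₂Hom_C]
      exact (IsScalarTower.algebraMap_apply _ _ _ s).symm.trans (α.commutes s).symm) (fun i => by simp [φ'])
  have hs' : Function.Surjective φ' := fun b => by
    obtain ⟨q, rfl⟩ := hα b
    exact ⟨_, RingHom.congr_fun hc q⟩
  have h1 := (Groth.L29.RelPC.CP.indep U.2 φ hφ.1 φ' hs'
    (hφ.2.trans (RingHom.ext fun s => (MvPolynomial.eval₂Hom_C _ _ s).symm)) m E).1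
    ((Groth.L29.RelPC.chartPC_iff U.2 hφ.1 m E).1 hp)
  have h2 := (Groth.L29.RelPC.CP.base_iff U.2 r _ hα φ' hc m E).2 h1
  obtain ⟨p, hpg⟩ := hα g
  obtain ⟨h₁, ψ, hs, hc₁, hψ, hiff⟩ := Groth.L29.RelPC.exists_chart_loc f U.2 hφV p
  have hCP := (hiff m E).2 (Groth.L29.RelPC.CP.loc U.2 _ hα p h₁ hc₁ h2 hs)
  subst hpg
  exact ⟨_, ψ, hψ, (Groth.L29.RelPC.chartPC_iff (U.2.basicOpen _) hψ.1 m E).2 hCP⟩

end Groth.Agent.S7218
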