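import Groth.Statements.S7225
import Groth.Agent.L20.NL.SameVars
import Mathlib.RingTheory.Localization.BaseChange

set_option autoImplicit false
universe u
open CategoryTheory CategoryTheory.Limits TensorProduct
attribute [local instance] HasDerivedCategory.standard
open FlatMor

namespace Groth.Agent.S7225

/-- Let A be a ring, M a submonoid of A, A' a localization of A at M and B an A'-algebra, viewed also as
an A-algebra. Let G be a presentation of B over A by a polynomial algebra and G' the presentation of
B over A' with the same generators (G'(i) = G(i), written through the identity algebra map of B).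
Then the canonical chain map NL(G) → NL(G') from the naive cotangent complex of the presentation
over A to that of the presentation over A' is an isomorphism of complexes (so that NL_{B/A} →
NL_{B/A'} is a homotopy equivalence). -/
theorem result (A A' B : Type u) [CommRing A] [CommRing A'] [CommRing B]
    [Algebra A A'] (M : Submonoid A) [IsLocalization M A'] [Algebra A' B] [Algebra A B] [IsScalarTower A A' B]
    {ι : Type u} (G : Algebra.Generators A B ι) (G' : Algebra.Generators A' B ι) (h : ∀ i, G'.val i = algebraMap B B (G.val i)) :
    IsIso (NLCx.map (NLCx.sameVarsHom (S' := B) G G' h).toExtensionHom) := by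
  haveI : Module.Flat A A' := IsLocalization.flat A' M
  haveI : IsLocalization (Algebra.algebraMapSubmonoid B M) B := by
    refine IsLocalization.self ?_
    rintro _ ⟨m, hm, rfl⟩
    rw [IsScalarTower.algebraMap_apply A A' B]
    exact (IsLocalization.map_units A' (⟨m, hm⟩ : M)).map (algebraMap A' B)
  haveI : Algebra.IsPushout A B A' B := Algebra.isPushout_of_isLocalization M A' B B
  haveI : Algebra.IsPushout A A' B B := Algebra.IsPushout.symm ‹_›
  let F := (NLCx.sameVarsHom (S' := B) G G' h).toExtensionHom
  obtain ⟨hs, hi⟩ := Groth.L20.NL.c₁_sameVars_surjective_and (S' := B) G G' h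
  have h1 : Function.Bijective (Groth.L20.NL.c₁ F) := ⟨hi (Or.inl inferInstance), hs⟩
  have h0 : Function.Bijective (Groth.L20.NL.c₀ F) := Groth.L20.NL.c₀_sameVars_bijective G G' h
  show IsIso (Groth.L20.NL.dblHom G.toExtension.cotangentComplex G'.toExtension.cotangentComplex
    (Algebra.Extension.Cotangent.map F) (Algebra.Extension.CotangentSpace.map F)
    (Algebra.Extension.CotangentSpace.map_comp_cotangentComplex F).symm)
  refine Groth.L20.NL.isIso_dblHom (Algebra.Extension.CotangentSpace.map_comp_cotangentComplex F).symm ?_ ?_
  · have hc : ⇑(Algebra.Extension.Cotangent.map F) =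
        ⇑(Groth.L20.NL.c₁ F) ∘ ⇑(TensorProduct.lid B G.toExtension.Cotangent).symm := funext fun x => by
      simp
    show Function.Bijective ⇑(Algebra.Extension.Cotangent.map F)
    rw [hc]
    exact h1.comp (LinearEquiv.bijective _)
  · have hc : ⇑(Algebra.Extension.CotangentSpace.map F) =
        ⇑(Groth.L20.NL.c₀ F) ∘ ⇑(TensorProduct.lid B G.toExtension.CotangentSpace).symm := funext fun x => by
      simp
    show Function.Bijective ⇑(Algebra.Extension.CotangentSpace.map F)
    rw [hc]
    exact h0.comp (LinearEquiv.bijective _)


end Groth.Agent.S7225
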