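import Groth.Statements.S7232
import Groth.Agent.Lead.ThickAmp

set_option linter.style.haveILetI false
set_option backward.isDefEq.respectTransparency false
set_option backward.isDefEq.respectTransparency.types false
set_option backward.defeqAttrib.useBackward true


set_option autoImplicit false
universe u
open CategoryTheory CategoryTheory.Limits AlgebraicGeometry Opposite TopologicalSpace
attribute [local instance] HasDerivedCategory.standard
open FlatMor

namespace Groth.Agent.S7232

/-- Consider a cartesian square of schemes with sides f : X ⟶ Y, f' : X' ⟶ Y', i : X ⟶ X' and j : Y ⟶ Y'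
(so i ≫ f' = f ≫ j and X = X' ×_{Y'} Y), where f' is flat and locally of finite presentation and j
is a finite order thickening. Let E' be an object of D(O_{X'}) and assume the derived pullback Li^*
exists. Suppose Li^* E' is perfect relative to Y: it is represented by a cochain complex whose class
is pseudo-coherent and which, locally on X, has finite tor amplitude stalkwise over the local rings
of Y. Then E' is perfect relative to Y': it is pseudo-coherent and, locally on X', every cochain
complex representing it has finite tor amplitude stalkwise over the local rings of Y'. -/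
theorem result {X X' Y Y' : Scheme.{u}} (f : X ⟶ Y) (f' : X' ⟶ Y')
    (i : X ⟶ X') (j : Y ⟶ Y') (sq : IsPullback i f f' j) [Flat f'] [LocallyOfFinitePresentation f']
    (hj : MoreMor.IsFiniteOrderThickening j) [DCoh.HasLpull i] (E' : DCoh.D X')
    (hE : ∃ F : CochainComplex X.Modules ℤ, Nonempty (DCoh.toD X F ≅ (DCoh.Lpull i).obj E') ∧
      (∀ m : ℤ, DCoh.IsPseudoCoherentD m (DCoh.toD X F)) ∧ DerSch.LocFiniteTorAmplitude f F) :
    (∀ m : ℤ, DCoh.IsPseudoCoherentD m E') ∧ DerSch.LocFiniteTorAmplitudeD f' E' := by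

  haveI : IsClosedImmersion j := hj.1.1
  haveI : Surjective j := hj.1.2
  haveI hci : IsClosedImmersion i := MorphismProperty.of_isPullback sq.flip hj.1.1
  haveI hsi : Surjective i := MorphismProperty.of_isPullback sq.flip hj.1.2
  have hi : MoreMor.IsFiniteOrderThickening i := ⟨⟨hci, hsi⟩, Groth.L20.Thick.isNilpotent_ker_of_isPullback hj.2 sq⟩
  obtain ⟨F, ⟨eF⟩, hpc, hloc⟩ := hE
  have hti := Groth.Lead.ThickPC.thick_of_finiteOrder hi
  refine ⟨fun m => Groth.Lead.ThickPC.pc_descends i hti
    (Groth.L29.DC.isPseudoCoherentD_of_iso eF (hpc m)), ?_⟩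
  intro G ⟨eG⟩ x'
  obtain ⟨x, rfl⟩ := hsi.surj x'
  obtain ⟨V, a, b, hx, hV⟩ := hloc x
  obtain ⟨W, hW, hVW⟩ := i.isClosedEmbedding.isInducing.isOpen_iff.1 V.isOpen
  refine ⟨⟨W, hW⟩, a, b, (show x ∈ i ⁻¹' W by rw [hVW]; exact hx), fun z hz => ?_⟩
  obtain ⟨w, rfl⟩ := hsi.surj z
  refine Groth.Lead.ThickAmp.ampAt_of_thick f f' i j sq (Groth.Lead.ThickPC.thick_of_finiteOrder hj) G F
    (eF ≪≫ (DCoh.Lpull i).mapIso eG.symm) w a b (hV w ?_)
  have : w ∈ i ⁻¹' W := hz
  rw [hVW] at this
  exact this

end Groth.Agent.S7232
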