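import Groth.Statements.S7233
import Groth.Agent.Lead.FibreGlobal

set_option linter.style.haveILetI false
set_option backward.isDefEq.respectTransparency false
set_option backward.isDefEq.respectTransparency.types false
set_option backward.defeqAttrib.useBackward true


set_option autoImplicit false
universe u
open CategoryTheory CategoryTheory.Limits AlgebraicGeometry Opposite TopologicalSpace
attribute [local instance] HasDerivedCategory.standard
open FlatMor

namespace Groth.Agent.S7233

/-- Let R be a ring and I an ideal of R contained in the Jacobson radical of R. Let f : X ⟶ Spec R be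
proper, flat and of finite presentation, and let X₀ = X ×_{Spec R} Spec(R/I) with projections i : X₀
⟶ X and f₀ : X₀ ⟶ Spec(R/I). Let E be a pseudo-coherent object of D(O_X) (m-pseudo-coherent for
every m) and assume the derived pullback Li^* exists. Suppose Li^* E is perfect relative to
Spec(R/I): it is represented by a cochain complex whose class is pseudo-coherent and which, locally
on X₀, has finite tor amplitude stalkwise over the local rings of Spec(R/I). Then E is perfect
relative to Spec R: locally on X, every cochain complex representing E has finite tor amplitude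
stalkwise over the local rings of Spec R. -/
theorem result (R : Type u) [CommRing R] (I : Ideal R)
    (hI : I ≤ Ideal.jacobson ⊥) {X : Scheme.{u}} (f : X ⟶ Spec (CommRingCat.of R)) [IsProper f] [Flat f]
    [LocallyOfFinitePresentation f]
    [DCoh.HasLpull (pullback.fst f (Spec.map (CommRingCat.ofHom (Ideal.Quotient.mk I))))]
    (E : DCoh.D X) (hpc : ∀ m : ℤ, DCoh.IsPseudoCoherentD m E)
    (h₀ : ∃ F₀ : CochainComplex (pullback f (Spec.map (CommRingCat.ofHom (Ideal.Quotient.mk I)))).Modules ℤ,
      Nonempty (DCoh.toD _ F₀ ≅ (DCoh.Lpull (pullback.fst f (Spec.map (CommRingCat.ofHom (Ideal.Quotient.mk I))))).obj E) ∧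
        (∀ m : ℤ, DCoh.IsPseudoCoherentD m (DCoh.toD _ F₀)) ∧
        DerSch.LocFiniteTorAmplitude (pullback.snd f (Spec.map (CommRingCat.ofHom (Ideal.Quotient.mk I)))) F₀) :
    DerSch.LocFiniteTorAmplitudeD f E := by

  let φ := Spec.map (CommRingCat.ofHom (Ideal.Quotient.mk I))
  haveI : IsClosedImmersion φ := IsClosedImmersion.spec_of_surjective _ Ideal.Quotient.mk_surjective
  let i := pullback.fst f φ
  haveI : IsClosedImmersion i := MorphismProperty.pullback_fst f φ inferInstance
  haveI : CompactSpace X := QuasiCompact.compactSpace_of_compactSpace f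
  haveI : CompactSpace (pullback f φ : Scheme.{u}) := QuasiCompact.compactSpace_of_compactSpace i
  intro F ⟨eF⟩
  have hpcF : ∀ m, DCoh.IsPseudoCoherentD m (DCoh.toD X F) := fun m =>
    Groth.L29.DC.isPseudoCoherentD_of_iso eF.symm (hpc m)
  obtain ⟨N, hN⟩ := Groth.L29.DC.TildeAlg.exists_isZero (hpcF 0)
  obtain ⟨F₀, ⟨e₀⟩, -, hloc⟩ := h₀
  choose V a b hyV hamp using hloc
  obtain ⟨t, ht⟩ := isCompact_univ.elim_finite_subcover (fun y => (V y : Set (pullback f φ : Scheme.{u})))
    (fun y => (V y).isOpen) (fun y _ => Set.mem_iUnion.2 ⟨y, hyV y⟩)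
  obtain ⟨A, hA⟩ := (t.image a).finite_toSet.bddBelow
  obtain ⟨B, hB⟩ := (t.image b).finite_toSet.bddAbove
  refine Groth.Lead.FibreGlobal.locFinite_of_quot (R := CommRingCat.of R) f I F hpcF A B fun x hx => ?_
  have hmax : (f x).asIdeal.IsMaximal := (PrimeSpectrum.isClosed_singleton_iff_isMaximal _).1
    (Set.image_singleton (f := f) ▸ f.isClosedMap _ hx)
  have hle : I ≤ (f x).asIdeal := hI.trans (sInf_le ⟨bot_le, hmax⟩)
  refine ⟨hle, ?_⟩
  obtain ⟨y, hy⟩ : x ∈ Set.range i := by
    rw [Scheme.Pullback.range_fst]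
    show f x ∈ Set.range (PrimeSpectrum.comap (Ideal.Quotient.mk I))
    rw [range_comap_of_surjective _ _ Ideal.Quotient.mk_surjective, Ideal.mk_ker]
    exact hle
  subst hy
  obtain ⟨k, hk, hyk⟩ := Set.mem_iUnion₂.1 (ht (Set.mem_univ y))
  refine Groth.Lead.FibreLocal.ampQ_of_Lpull (R := CommRingCat.of R) f I (IsPullback.of_hasPullback f φ) F
    (N := N) (fun j hj => hN j hj.le) F₀ (e₀ ≪≫ (DCoh.Lpull i).mapIso eF.symm) y A B ?_
  exact Groth.L10.DR.amp_mono (hamp k y hyk)
    (hA (Finset.mem_coe.2 (Finset.mem_image_of_mem a hk)))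
    (hB (Finset.mem_coe.2 (Finset.mem_image_of_mem b hk)))

end Groth.Agent.S7233
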