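import Groth.Statements.S7234
import Groth.Agent.L29.RelPC.Bridge

set_option autoImplicit false
set_option backward.isDefEq.respectTransparency false
universe u
open CategoryTheory CategoryTheory.Limits AlgebraicGeometry Opposite TopologicalSpace
attribute [local instance] HasDerivedCategory.standard
open FlatMor

namespace Groth.Agent.S7234

/-- (1) ⇔ (3): let f : X ⟶ S be locally of finite type, E an object of D(O_X) all of whose cohomology
sheaves are quasi-coherent, and m an integer. Then E is m-pseudo-coherent relative to f (chart form)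
if and only if for every affine open U of X mapping into an affine open V of S the complex RΓ(U, E),
viewed in D(Γ(X, U)), is m-pseudo-coherent relative to Γ(S, V) in the ring-level sense. Here RΓ(U,
E) is expressed through the equivalence of D(Γ(X, U)) with the quasi-coherent derived category of
the affine scheme U: the condition is asked of every object M of D(Γ(X, U)) whose associated complex
of modules on Spec Γ(X, U) is isomorphic to E|_U carried along U ≅ Spec Γ(X, U) (the functor M ↦ M~
being assumed left exact, which it is). -/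
theorem result {X S : Scheme.{u}} (f : X ⟶ S)
    [LocallyOfFiniteType f] [∀ U : X.affineOpens, PreservesFiniteLimits (tilde.functor (X.presheaf.obj (op (U : X.Opens))))]
    (E : DCoh.D X) (hE : DCoh.IsQCohD E) (m : ℤ) :
    DerSch.IsPseudoCoherentRel f m E ↔
      ∀ (U : X.affineOpens) (V : S.affineOpens) (h : (U : X.Opens) ≤ f ⁻¹ᵁ (V : S.Opens))
        (G : CochainComplex X.Modules ℤ), Nonempty (DCoh.toD X G ≅ E) →
        ∀ M : Dual.D Γ(X, (U : X.Opens)),
          Nonempty ((DCoh.tildeD (X.presheaf.obj (op (U : X.Opens)))).obj M ≅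
            DCoh.toD _ ((DerSch.pushCx U.2.isoSpec.hom).obj ((DCoh.restrictCx (U : X.Opens)).obj G))) →
          letI := (f.appLE (V : S.Opens) (U : X.Opens) h).hom.toAlgebra
          DerCA.IsRelPseudoCoherent Γ(S, (V : S.Opens)) Γ(X, (U : X.Opens)) m M := by
  haveI hcl : ∀ U : X.affineOpens, IsClosedImmersion (U : X.Opens).toSpecΓ := fun U => Groth.L29.RelPC.isClosedImmersion_toSpecΓ U.2
  have key : ∀ (U : X.affineOpens) (G : CochainComplex X.Modules ℤ) (e : DCoh.toD X G ≅ E),
      Nonempty (DCoh.toD (Spec Γ(X, (U : X.Opens))) ((DerSch.pushCx U.2.isoSpec.hom).obj ((DCoh.restrictCx (U : X.Opens)).obj G)) ≅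
        (Groth.L29.DC.ClosedPC.pD (U : X.Opens).toSpecΓ).obj ((Groth.L29.DC.resD (U : X.Opens)).obj E)) := by
    intro U G e
    haveI := Groth.L29.DC.ClosedPC.additive (U : X.Opens).toSpecΓ
    haveI := Groth.L29.DC.ClosedPC.exactLeft (U : X.Opens).toSpecΓ
    haveI := Groth.L29.DC.ClosedPC.exactRight (U : X.Opens).toSpecΓ
    rw [U.2.isoSpec_hom]
    exact ⟨((Scheme.Modules.pushforward (U : X.Opens).toSpecΓ).mapDerivedCategoryFactors.app _).symm ≪≫
      (Groth.L29.DC.ClosedPC.pD (U : X.Opens).toSpecΓ).mapIso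
        ((Groth.L29.DC.resQIso (U : X.Opens) G).symm ≪≫ (Groth.L29.DC.resD (U : X.Opens)).mapIso e)⟩
  constructor
  · intro hr U V h G ⟨e⟩ M ⟨a⟩
    obtain ⟨k⟩ := key U G e
    exact (Groth.L29.RelPC.good_iff_rel U.2 V.2 h (a ≪≫ k)).1 (Groth.L29.RelPC.good_of_rel hr U.2 V.2 h)
  · intro hh
    refine Groth.L29.RelPC.rel_iff.2 fun U V hU hV hle => ?_
    haveI := hcl ⟨U, hU⟩
    haveI : PreservesFiniteLimits (tilde.functor Γ(X, U)) := Groth.L18.TildeF.tilde_preservesFiniteLimits
    obtain ⟨M, ⟨a⟩⟩ := Groth.L29.RelPC.exists_module (U := U) hE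
    have e : DCoh.toD X (DerivedCategory.Q.objPreimage E) ≅ E := DerivedCategory.Q.objObjPreimageIso E
    obtain ⟨k⟩ := key ⟨U, hU⟩ _ e
    exact (Groth.L29.RelPC.good_iff_rel hU hV hle a).2 (hh ⟨U, hU⟩ ⟨V, hV⟩ hle _ ⟨e⟩ M ⟨a ≪≫ k.symm⟩)

end Groth.Agent.S7234
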