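import Groth.Statements.S7237
import Mathlib.Algebra.TrivSqZeroExt.Basic
import Mathlib.RingTheory.Kaehler.Basic
import Mathlib.LinearAlgebra.SymmetricAlgebra.Basic
import Mathlib.RingTheory.TensorProduct.Basic

set_option autoImplicit false
universe u
open TensorProduct
open FlatMor

namespace Groth.Agent.S7237
open TensorProduct


/-- Let A be a ring and M a finitely generated A-module, and let C = Sym_A(M) be the symmetric algebra
of M with its canonical A-linear map ι : M → C. Then Ω_{C/A} = M ⊗_A C: the C-linear map C ⊗_A M →
Ω_{C/A} obtained by extending scalars in the A-linear map m ↦ d(ι m), d being the universal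
A-derivation of C, is bijective. (The published lemma also computes the whole naive cotangent
complex of the presentation of C attached to a surjection A^m → M with kernel K, namely as K ⊗_A C →
⊕_j C dy_j; only its consequence for Ω is asserted here.) -/
theorem result (A : Type u) [CommRing A] (M : Type u)
    [AddCommGroup M] [Module A M] [Module.Finite A M] :
    Function.Bijective (LinearMap.liftBaseChange (SymmetricAlgebra A M)
      ((KaehlerDifferential.D A (SymmetricAlgebra A M)).toLinearMap.restrictScalars A ∘ₗ SymmetricAlgebra.ι A M)) := by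
  let L : (TensorProduct A (SymmetricAlgebra A M) M) →ₗ[(SymmetricAlgebra A M)] KaehlerDifferential A (SymmetricAlgebra A M) := LinearMap.liftBaseChange (SymmetricAlgebra A M)
    ((KaehlerDifferential.D A (SymmetricAlgebra A M)).toLinearMap.restrictScalars A ∘ₗ SymmetricAlgebra.ι A M)
  change Function.Bijective L
  let σ : (SymmetricAlgebra A M) →ₐ[A] TrivSqZeroExt (SymmetricAlgebra A M) (TensorProduct A (SymmetricAlgebra A M) M) := SymmetricAlgebra.lift
    ({ toFun := fun m => TrivSqZeroExt.inl (SymmetricAlgebra.ι A M m) + TrivSqZeroExt.inr ((1 : (SymmetricAlgebra A M)) ⊗ₜ[A] m)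
       map_add' := fun m m' => by ext <;> simp [TensorProduct.tmul_add]
       map_smul' := fun a m => by ext <;> simp [TensorProduct.tmul_smul] } : M →ₗ[A] TrivSqZeroExt (SymmetricAlgebra A M) (TensorProduct A (SymmetricAlgebra A M) M))
  have hσ : ∀ m, σ (SymmetricAlgebra.ι A M m) =
      TrivSqZeroExt.inl (SymmetricAlgebra.ι A M m) + TrivSqZeroExt.inr ((1 : (SymmetricAlgebra A M)) ⊗ₜ[A] m) := fun m => by
    simp [σ]
  have hfst : ∀ c, (σ c).fst = c := by
    intro c
    have : (TrivSqZeroExt.fstHom A (SymmetricAlgebra A M) (TensorProduct A (SymmetricAlgebra A M) M)).comp σ = AlgHom.id A (SymmetricAlgebra A M) := by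
      apply SymmetricAlgebra.algHom_ext
      ext m
      simp [hσ]
    exact congr($this c)
  let δ : Derivation A (SymmetricAlgebra A M) (TensorProduct A (SymmetricAlgebra A M) M) :=
    { toFun := fun c => (σ c).snd
      map_add' := fun c c' => by simp
      map_smul' := fun a c => by simp
      map_one_eq_zero' := by simp
      leibniz' := fun c c' => by
        simp [TrivSqZeroExt.snd_mul, hfst] }
  let ψ : KaehlerDifferential A (SymmetricAlgebra A M) →ₗ[(SymmetricAlgebra A M)] (TensorProduct A (SymmetricAlgebra A M) M) := δ.liftKaehlerDifferential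
  have hψ : ∀ c, ψ (KaehlerDifferential.D A (SymmetricAlgebra A M) c) = δ c := fun c => δ.liftKaehlerDifferential_comp_D c
  have hδ : ∀ m, δ (SymmetricAlgebra.ι A M m) = (1 : (SymmetricAlgebra A M)) ⊗ₜ[A] m := fun m => by
    change (σ _).snd = _
    simp [hσ]
  have h1 : ∀ n, ψ (L n) = n := by
    intro n
    induction n using TensorProduct.induction_on with
    | zero => simp
    | tmul c m => simp [L, hψ, hδ, TensorProduct.smul_tmul']
    | add a b ha hb => simp [ha, hb]
  refine ⟨Function.LeftInverse.injective h1, ?_⟩
  rw [← LinearMap.range_eq_top, eq_top_iff, ← KaehlerDifferential.span_range_derivation A (SymmetricAlgebra A M), Submodule.span_le]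
  rintro _ ⟨c, rfl⟩
  induction c using SymmetricAlgebra.induction with
  | algebraMap r => simp
  | ι m => exact ⟨(1 : (SymmetricAlgebra A M)) ⊗ₜ[A] m, by simp [L]⟩
  | mul a b ha hb =>
    rw [SetLike.mem_coe, Derivation.leibniz]
    exact add_mem (Submodule.smul_mem _ _ hb) (Submodule.smul_mem _ _ ha)
  | add a b ha hb => rw [SetLike.mem_coe, map_add]; exact add_mem ha hb

end Groth.Agent.S7237
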