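import Groth.Agent.L18.RelAmpleCrit
import Groth.Agent.L18.CounitQuot
import Groth.Agent.L18.RelProjCounit
import Groth.Agent.L17.Strat.GenFibre
import Groth.Agent.L15.Ref.Tensor
import Groth.Agent.L18.AmpleGG
import Groth.Agent.L08.Cube.Inverse
import Groth.Agent.L29.DCoh.TensorPerfect
import Groth.Agent.L20.ResAmple
import Groth.Statements.S7241
-- import your own Groth.Agent.* helpers here

set_option autoImplicit false
universe u
open CategoryTheory CategoryTheory.Limits AlgebraicGeometry
attribute [local instance] HasDerivedCategory.standard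
open Perf

namespace Groth.Agent.S7241

/-- Let f : X ⟶ Y be a morphism of schemes whose target Y is quasi-compact, quasi-separated, and
satisfies the resolution property (every quasi-coherent O_Y-module of finite type is a quotient of a
finite locally free O_Y-module), and suppose there is an f-ample invertible O_X-module L (f
quasi-compact and L ample on the preimage of every affine open of Y). Then X has the resolution
property. -/
theorem result {X Y : Scheme.{u}} (f : X ⟶ Y) [CompactSpace ↥Y] [QuasiSeparatedSpace ↥Y]
    (hY : PerfAux.HasResolutionProperty Y) (L : X.Modules) (hL : RelAmple.IsRelAmple f L) :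
    PerfAux.HasResolutionProperty X := by
  have hq : QuasiCompact f := hL.1
  haveI : CompactSpace X := QuasiCompact.compactSpace_of_compactSpace f
  haveI : IsSeparated f := Groth.L18.RelCounit.isSeparated_of_isRelAmple hL
  haveI : QuasiSeparated f := inferInstance
  intro M hM hMft
  haveI := hM
  obtain ⟨n, -, hn⟩ := Groth.L18.Ample.exists_isRelAmple_counit_epi f hL M ⟨hM, hMft⟩
  have hLi := Groth.L17.Strat.isInvertible_of_isRelAmple hL
  have hLn := Groth.L18.Ample.isInvertible_tensorPow hLi n
  haveI := hn n le_rfl
  have hMn := Groth.L15.Ref.isCoh_tensorMod (F := M) ⟨hM, hMft⟩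
    (Groth.L18.Ample.isCoh_of_isInvertible hLn)
  haveI := hMn.1
  obtain ⟨G, φ, hG, hGft, hφ⟩ := Groth.L18.CounitQuot.exists_quotient_pullback f
    (CohB1.tensorMod M (CohB1.tensorPow L n)) hMn.2
  obtain ⟨E, π, hE, hπ⟩ := hY G hG hGft
  haveI : (Scheme.Modules.pullback f).PreservesEpimorphisms :=
    Functor.preservesEpimorphisms_of_adjunction (Scheme.Modules.pullbackPushforwardAdjunction f)
  haveI : Epi ((Scheme.Modules.pullback f).map π) := inferInstance
  obtain ⟨N, hN, ⟨e⟩⟩ := Groth.L08.Cube.exists_inverse hLn
  let ψ : (Scheme.Modules.pullback f).obj E ⟶ CohB1.tensorMod M (CohB1.tensorPow L n) :=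
    (Scheme.Modules.pullback f).map π ≫ φ
  haveI : Epi ψ := epi_comp _ _
  refine ⟨CohB1.tensorMod ((Scheme.Modules.pullback f).obj E) N,
    Groth.L00.Tensor.tensorMap ψ (𝟙 N) ≫ (Groth.L00.Tensor.tensorAssoc M (CohB1.tensorPow L n) N ≪≫
      Groth.L00.Tensor.tensorIso (Iso.refl M) e ≪≫ Groth.L00.Tensor.tensorUnitRight M).hom,
    Groth.L29.DC.isFinLocFree_tensor (Groth.L29.LocFree.pullback f hE)
      (Groth.L20.ResDescent.isFinLocFree_of_isInvertible hN), ?_⟩
  haveI := Groth.L18.RelCounit.epi_tensorMap_right ψ N
  exact epi_comp _ _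

end Groth.Agent.S7241
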