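import Groth.Statements.S7249
import Groth.Agent.L10.RelPC.MixedAmp
import Groth.Agent.L17.FM.PCTensor
import Groth.Agent.L29.DCoh.TensorPerfect
import Groth.Agent.L29.DCoh.PCQCoh
import Groth.Agent.L00.DerivedApi
import Groth.Agent.Lead.RelTorStalk
import Groth.Agent.Lead.SmoothPerf
import Groth.Agent.Lead.FibreBounded

set_option linter.style.haveILetI false
set_option backward.isDefEq.respectTransparency false
set_option backward.isDefEq.respectTransparency.types false
set_option backward.defeqAttrib.useBackward true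


set_option autoImplicit false
universe u
open CategoryTheory CategoryTheory.Limits AlgebraicGeometry
attribute [local instance] HasDerivedCategory.standard
open Perf MonoidalCategory

namespace Groth.Agent.S7249

/-- Let f : X ⟶ S be flat and locally of finite presentation, K a perfect object of D(O_X), and M a
cochain complex of O_X-modules whose image in D(O_X) is S-perfect (pseudo-coherent, and locally on X
represented by a bounded complex of O_X-modules flat over S). Assuming the derived functor - ⊗^L M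
exists, K ⊗^L_{O_X} M is S-perfect. -/
theorem result {X S : Scheme.{u}} (f : X ⟶ S) [Flat f] [LocallyOfFinitePresentation f]
    (K : DCoh.D X) (hK : DCoh.IsPerfect K) (M : CochainComplex X.Modules ℤ)
    (hMpc : ∀ m : ℤ, DCoh.IsPseudoCoherentD m (DCoh.toD X M)) (hMtor : DCoh.LocHasFiniteRelTorDim f (DCoh.toD X M))
    [DCoh.HasLTensorCx M] :
    (∀ m : ℤ, DCoh.IsPseudoCoherentD m ((DCoh.LTensorCx M).obj K)) ∧
      DCoh.LocHasFiniteRelTorDim f ((DCoh.LTensorCx M).obj K) := by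

  obtain ⟨PK, q, hPK, -, hq, -⟩ := Groth.L00.KFlat.exists_resolution (DerivedCategory.Q.objPreimage K)
  haveI := (DerivedCategory.isIso_Q_map_iff_quasiIso _ q).2 hq
  let eK : DCoh.toD X PK ≅ K := asIso (DerivedCategory.Q.map q) ≪≫ DerivedCategory.Q.objObjPreimageIso K
  obtain ⟨PM, r, hPM, -, hr, -⟩ := Groth.L00.KFlat.exists_resolution M
  haveI := hr
  haveI : IsIso (DerivedCategory.Q.map r) := (DerivedCategory.isIso_Q_map_iff_quasiIso _ r).2 hr
  let eM : DCoh.toD X PM ≅ DCoh.toD X M := asIso (DerivedCategory.Q.map r)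
  obtain ⟨e1⟩ := Groth.L29.DC.nonempty_LTensorCx_iso M PK hPK
  have hiso : IsIso (DerivedCategory.Q.map ((DCoh.tensorCx.obj PK).map r)) := by
    refine (DerivedCategory.isIso_Q_map_iff_quasiIso _ _).2 ?_
    haveI := Groth.L00.KFlat.quasiIso_tensor_of_kflat PK hPK r
    have h : QuasiIso ((Groth.L00.KFlat.commIso PM PK).hom ≫ ((DCoh.tensorCx (X := X)).map r).app PK) := inferInstance
    rw [← Groth.L00.KFlat.commIso_natural] at h
    exact quasiIso_of_comp_right ((DCoh.tensorCx.obj PK).map r) (Groth.L00.KFlat.commIso M PK).hom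
  haveI := hiso
  let eT : DCoh.toD X ((DCoh.tensorCx.obj PK).obj PM) ≅ (DCoh.LTensorCx M).obj K :=
    asIso (DerivedCategory.Q.map ((DCoh.tensorCx.obj PK).map r)) ≪≫ e1.symm ≪≫ (DCoh.LTensorCx M).mapIso eK
  refine ⟨fun m => Groth.L29.DC.pc_of_on fun x => ?_, ?_⟩
  · obtain ⟨_, ⟨U, hU, rfl⟩, hx, -⟩ := X.isBasis_affineOpens.exists_subset_of_mem_open (Set.mem_univ x) isOpen_univ
    obtain ⟨y, rfl⟩ : x ∈ Set.range hU.fromSpec := hU.range_fromSpec ▸ hx
    let R' := Scheme.Modules.restrictFunctor hU.fromSpec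
    let rK := (R'.mapHomologicalComplex (ComplexShape.up ℤ)).obj PK
    let rM := (R'.mapHomologicalComplex (ComplexShape.up ℤ)).obj PM
    have hp : ∀ {L : CochainComplex X.Modules ℤ}, (∀ m, DCoh.IsPseudoCoherentD m (DCoh.toD X L)) →
        ∀ m, DCoh.IsPseudoCoherentD m (DCoh.toD _ ((R'.mapHomologicalComplex (ComplexShape.up ℤ)).obj L)) :=
      fun h m => Groth.L29.DC.isPseudoCoherentD_of_iso (R'.mapDerivedCategoryFactors.app _)
        (Groth.L29.DC.PCStalk.pc_res hU.fromSpec (h m))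
    have hpK : ∀ m, DCoh.IsPseudoCoherentD m (DCoh.toD X PK) := fun m =>
      Groth.L29.DC.isPseudoCoherentD_of_iso eK.symm (Groth.L29.DC.pc_of_perfect hK m)
    have hpM : ∀ m, DCoh.IsPseudoCoherentD m (DCoh.toD X PM) := fun m =>
      Groth.L29.DC.isPseudoCoherentD_of_iso eM.symm (hMpc m)
    have h := Groth.L17.PCTensor.pc_tensor_affine (P := rK) (F := rM)
      (Groth.L29.DC.isKFlat_restrict hU.fromSpec hPK) (Groth.L29.DC.PCQCoh.isQCohD_of_pc (hp hpK))
      (Groth.L29.DC.PCQCoh.isQCohD_of_pc (hp hpM)) (hp hpK) (hp hpM) m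
    obtain ⟨W, hyW, hW⟩ := (Groth.L29.DC.isPC_iff_wit m _).1 (Groth.L29.DC.isPseudoCoherentD_of_iso
      (DerivedCategory.Q.mapIso (Groth.L29.DC.restrictTensorCxIso hU.fromSpec PK PM) ≪≫
        (R'.mapDerivedCategoryFactors.app _).symm ≪≫ R'.mapDerivedCategory.mapIso eT) h) y
    exact ⟨_, W.ι ≫ hU.fromSpec, inferInstance, ⟨⟨y, hyW⟩, rfl⟩,
      Groth.L29.DC.wit_iso ((Groth.L29.DC.resTransD hU.fromSpec W.ι (W.ι ≫ hU.fromSpec) rfl).app _) hW⟩
  · refine (Groth.Lead.RelTorStalk.locRel_iff f _ _ eT).2 fun x => ?_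
    obtain ⟨V, a, b, hxV, hV⟩ := (Groth.Lead.RelTorStalk.locRel_iff f _ PM eM).1 hMtor x
    obtain ⟨W, c, d, hxW, -, hW⟩ := (Groth.L29.DC.locFiniteTorDim_iff _).1
      (Groth.L29.DC.locFiniteTorDim_of_perfect (Groth.L29.DC.isPerfect_of_iso eK.symm hK)) x
    refine ⟨V ⊓ W, c + a, d + b, ⟨hxV, hxW⟩, fun z hz => ?_⟩
    let A := X.presheaf.stalk z
    have hKz : DerSch.HasTorAmplitudeAt (𝟙 X) c d PK z := by
      refine (Groth.Lead.SmoothStalk.amp_restrict_iff (𝟙 X) W.ι ⟨z, hz.2⟩ PK c d).1 ?_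
      exact Groth.Lead.SmoothStalk.amp_stalk_base (W.ι ≫ 𝟙 X) _ c d _
        (Groth.Lead.SmoothPerf.stk_of_flatAmp _ (Groth.L29.DC.flatAmp_of_iso (Groth.L29.DC.resQIso W PK) hW) _)
    have hKA : DRing.HasTorAmplitudeIn A c d
        (DRing.toD ((_root_.DTen.resCx (RingHom.id A)).obj ((Groth.L00.Stk.S X z).obj PK))) := by
      have h : DRing.HasTorAmplitudeIn A c d (DRing.toD ((_root_.DTen.resCx ((𝟙 X : X ⟶ X).stalkMap z).hom).obj
          ((Groth.L00.Stk.S X z).obj PK))) := hKz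
      rwa [Scheme.Hom.stalkMap_id] at h
    have hPMk : DRing.IsKFlat A ((Groth.L00.Stk.S X z).obj PM) := Groth.Lead.FibreBounded.isKFlat_stk hPM z
    have h1 := Groth.L10.RelPC.MixedAmp.amp_mixed (f.stalkMap z).hom (RingHom.id A) (f.stalkMap z).hom rfl
      ((Groth.L00.Stk.S X z).obj PM) hPMk (hV z hz.1) ((Groth.L00.Stk.S X z).obj PK) hKA
    exact Groth.L10.DR.amp_of_iso (DerivedCategory.Q.mapIso ((_root_.DTen.resCx (f.stalkMap z).hom).mapIso
      (whiskerRightIso ((NatIso.mapHomologicalComplex (ModuleCat.extendScalarsId A) (ComplexShape.up ℤ)).app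
        ((Groth.L00.Stk.S X z).obj PM)) _ ≪≫ Groth.L00.Stk.tensorCxIso z PK PM))) h1

end Groth.Agent.S7249
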