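import Groth.Statements.S7250
import Groth.Agent.Lead.RelTorStalk
import Groth.Agent.L29.DCoh.Summand
import Groth.Agent.L10.DRing.Amp

set_option linter.style.haveILetI false
set_option backward.isDefEq.respectTransparency false
set_option backward.isDefEq.respectTransparency.types false
set_option backward.defeqAttrib.useBackward true

open CategoryTheory CategoryTheory.Limits CategoryTheory.Pretriangulated AlgebraicGeometry in
theorem Groth.Agent.S7250.pc_retract {X : Scheme.{u}} {m : ℤ} {K M : DCoh.D X} (r : Retract K M)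
    (h : DCoh.IsPseudoCoherentD m M) : DCoh.IsPseudoCoherentD m K := by
  obtain ⟨C, g, δ, hT⟩ := distinguished_cocone_triangle r.i
  have h0 : δ ≫ r.i⟦(1 : ℤ)⟧' = 0 := comp_distTriang_mor_zero₃₁ _ hT
  have hδ : δ = 0 := by
    have := congrArg (fun t => t ≫ r.r⟦(1 : ℤ)⟧') h0
    simpa [← Functor.map_comp, r.retract] using this
  obtain ⟨e, -, -⟩ := exists_iso_binaryBiproduct_of_distTriang _ hT hδ
  exact (Groth.L29.DC.pc_of_biprod K C (Groth.L29.DC.isPseudoCoherentD_of_iso e h)).1


set_option autoImplicit false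
universe u
open CategoryTheory CategoryTheory.Limits AlgebraicGeometry
attribute [local instance] HasDerivedCategory.standard
open Perf

namespace Groth.Agent.S7250

/-- Let f : X ⟶ S be flat and locally of finite presentation. The S-perfect objects of D(O_X)
(pseudo-coherent and locally of finite tor dimension over f⁻¹O_S, the latter in the form: locally
represented by a bounded complex of O_X-modules flat over S) form a saturated triangulated
subcategory: the property contains zero, is stable under all shifts, is closed under the middle term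
of distinguished triangles, and is stable under retracts. -/
theorem result {X S : Scheme.{u}} (f : X ⟶ S) [Flat f] [LocallyOfFinitePresentation f] :
    ObjectProperty.IsTriangulated (fun E : DCoh.D X => (∀ m : ℤ, DCoh.IsPseudoCoherentD m E) ∧ DCoh.LocHasFiniteRelTorDim f E) ∧
    ObjectProperty.IsStableUnderRetracts (fun E : DCoh.D X => (∀ m : ℤ, DCoh.IsPseudoCoherentD m E) ∧ DCoh.LocHasFiniteRelTorDim f E) := by

  let P : ObjectProperty (DCoh.D X) := fun E =>
    (∀ m : ℤ, DCoh.IsPseudoCoherentD m E) ∧ DCoh.LocHasFiniteRelTorDim f E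
  let loc : DCoh.D X → Prop := fun E => ∀ x : X, ∃ (V : X.Opens) (a b : ℤ), x ∈ V ∧ ∀ x' : X, x' ∈ V →
    DRing.HasTorAmplitudeIn (S.presheaf.stalk (f x')) a b ((DerSch.stalkOver f x').mapDerivedCategory.obj E)
  haveI : ∀ x : X, PreservesFiniteLimits (DerSch.stalkFunctor X x) := fun x =>
    Groth.L00.Stk.preservesFiniteLimits (X := X) x
  haveI : ∀ x : X, PreservesFiniteColimits (DerSch.stalkFunctor X x) := fun x =>
    Groth.L00.Stk.preservesFiniteColimits (X := X) x
  haveI : ∀ x : X, PreservesFiniteColimits (ModuleCat.restrictScalars.{u} (f.stalkMap x).hom) :=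
    fun x => inferInstance
  have hloc : ∀ E, DCoh.LocHasFiniteRelTorDim f E ↔ loc E := fun E => by
    let G := DerivedCategory.Q.objPreimage E
    let e : DCoh.toD X G ≅ E := DerivedCategory.Q.objObjPreimageIso E
    let i := fun x' : X => ((DerSch.stalkOver f x').mapDerivedCategoryFactors.app G).symm ≪≫
      (DerSch.stalkOver f x').mapDerivedCategory.mapIso e
    refine (Groth.Lead.RelTorStalk.locRel_iff f E G e).trans ⟨fun h x => ?_, fun h x => ?_⟩
    · obtain ⟨V, a, b, hx, hV⟩ := h x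
      exact ⟨V, a, b, hx, fun x' hx' => Groth.L10.DR.amp_of_iso (i x') (hV x' hx')⟩
    · obtain ⟨V, a, b, hx, hV⟩ := h x
      exact ⟨V, a, b, hx, fun x' hx' => Groth.L10.DR.amp_of_iso (i x').symm (hV x' hx')⟩
  haveI : P.IsClosedUnderIsomorphisms := ⟨fun {K L} e h => ⟨fun m => Groth.L29.DC.isPseudoCoherentD_of_iso e (h.1 m),
    (hloc L).2 fun x => by
      obtain ⟨V, a, b, hx, hV⟩ := (hloc K).1 h.2 x
      exact ⟨V, a, b, hx, fun x' hx' =>
        Groth.L10.DR.amp_of_iso ((DerSch.stalkOver f x').mapDerivedCategory.mapIso e) (hV x' hx')⟩⟩⟩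
  obtain ⟨Z, hZ⟩ := HasZeroObject.zero (C := DCoh.D X)
  haveI : P.ContainsZero := ⟨⟨Z, hZ, fun m => Groth.L29.DC.pc_of_isZero (n := m) (fun i _ =>
      (DerivedCategory.homologyFunctor _ i).map_isZero hZ),
    (hloc _).2 fun x => ⟨⊤, 0, 0, trivial, fun x' _ =>
      Groth.L10.DR.amp_of_isZero ((DerSch.stalkOver f x').mapDerivedCategory.map_isZero hZ) 0 0⟩⟩⟩
  haveI : P.IsStableUnderShift ℤ := ⟨fun n => ⟨fun E h => ⟨fun m => Groth.L29.DC.pc_shift (h.1 (n + m)) n m (by omega),
    (hloc _).2 fun x => by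
      obtain ⟨V, a, b, hx, hV⟩ := (hloc E).1 h.2 x
      exact ⟨V, a - n, b - n, hx, fun x' hx' => Groth.L10.DR.amp_of_iso
        (((DerSch.stalkOver f x').mapDerivedCategory.commShiftIso n).app E).symm
        (Groth.L10.DR.amp_shift (hV x' hx') n)⟩⟩⟩⟩
  haveI : P.IsTriangulatedClosed₂ := ObjectProperty.IsTriangulatedClosed₂.mk' fun T hT h₁ h₃ =>
    ⟨fun m => (Groth.L29.DC.pc_two_out_of_three hT m).2.1 (h₁.1 m) (h₃.1 m), (hloc _).2 fun x => by
      obtain ⟨V₁, a₁, b₁, hx₁, hV₁⟩ := (hloc _).1 h₁.2 x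
      obtain ⟨V₃, a₃, b₃, hx₃, hV₃⟩ := (hloc _).1 h₃.2 x
      refine ⟨V₁ ⊓ V₃, min a₁ a₃, max b₁ b₃, ⟨hx₁, hx₃⟩, fun x' hx' => ?_⟩
      exact Groth.L10.DR.amp_second _ ((DerSch.stalkOver f x').mapDerivedCategory.map_distinguished _ hT)
        (Groth.L10.DR.amp_mono (hV₁ x' hx'.1) (min_le_left _ _) (le_max_left _ _))
        (Groth.L10.DR.amp_mono (hV₃ x' hx'.2) (min_le_right _ _) (le_max_right _ _))⟩
  refine ⟨{}, ⟨fun {K M} r h => ⟨fun m => Groth.Agent.S7250.pc_retract r (h.1 m), (hloc K).2 fun x => ?_⟩⟩⟩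
  obtain ⟨V, a, b, hx, hV⟩ := (hloc M).1 h.2 x
  exact ⟨V, a, b, hx, fun x' hx' =>
    Groth.L10.DR.amp_retract (r.map (DerSch.stalkOver f x').mapDerivedCategory) (hV x' hx')⟩

end Groth.Agent.S7250
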