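import Groth.Statements.S7251
import Groth.Agent.L29.DCoh.QCohLocal

set_option autoImplicit false
universe u
open CategoryTheory CategoryTheory.Limits AlgebraicGeometry
attribute [local instance] HasDerivedCategory.standard
open Perf

namespace Groth.Agent.S7251

/-- Let f : X ⟶ Y be a quasi-compact and quasi-separated morphism of schemes. Assume Rf_* exists and
sends D_QCoh(O_X) into D_QCoh(O_Y), let an adjunction Lf^* ⊣ Rf_* be given as data, and assume the
inclusion functors D_QCoh ⥤ D have (chosen) right adjoints DQ_X and DQ_Y. Then Rf_* ∘ DQ_X = DQ_Y ∘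
Rf_*: for every K ∈ D(O_X) the comparison map Rf_*(DQ_X K) ⟶ DQ_Y(Rf_* K) in D_QCoh(O_Y),
corresponding under the adjunction to Rf_* applied to the counit DQ_X K ⟶ K, is an isomorphism. -/
theorem result {X Y : Scheme.{u}} (f : X ⟶ Y) [QuasiCompact f] [QuasiSeparated f]
    [DCoh.HasRpush f] (h : DCoh.RpushPreservesQCoh f) [DCoh.HasLpull f] (adj : DCoh.Lpull f ⊣ DCoh.Rpush f)
    [(ObjectProperty.ι (DCoh.IsQCohD (X := X))).IsLeftAdjoint] [(ObjectProperty.ι (DCoh.IsQCohD (X := Y))).IsLeftAdjoint]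
    (K : DCoh.D X) :
    IsIso ((Adjunction.ofIsLeftAdjoint (ObjectProperty.ι (DCoh.IsQCohD (X := Y)))).homEquiv
      (⟨(DCoh.Rpush f).obj (((ObjectProperty.ι (DCoh.IsQCohD (X := X))).rightAdjoint.obj K).obj),
        h _ (((ObjectProperty.ι (DCoh.IsQCohD (X := X))).rightAdjoint.obj K).property)⟩ : DCoh.DQCoh Y)
      ((DCoh.Rpush f).obj K)
      ((DCoh.Rpush f).map ((Adjunction.ofIsLeftAdjoint (ObjectProperty.ι (DCoh.IsQCohD (X := X)))).counit.app K))) := by
  let adX := Adjunction.ofIsLeftAdjoint (ObjectProperty.ι (DCoh.IsQCohD (X := X)))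
  let adY := Adjunction.ofIsLeftAdjoint (ObjectProperty.ι (DCoh.IsQCohD (X := Y)))
  let QX := (ObjectProperty.ι (DCoh.IsQCohD (X := X))).rightAdjoint.obj K
  let RQ : DCoh.DQCoh Y := ⟨(DCoh.Rpush f).obj QX.obj, h _ QX.property⟩
  refine isIso_iff_yoneda_map_bijective _ |>.2 fun L => ?_
  let P : DCoh.DQCoh X := ⟨(DCoh.Lpull f).obj L.obj, Groth.L29.DC.isQCohD_Lpull f L.property⟩
  let e : (L ⟶ RQ) ≃ (L ⟶ (ObjectProperty.ι (DCoh.IsQCohD (X := Y))).rightAdjoint.obj ((DCoh.Rpush f).obj K)) :=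
    { toFun := fun g => ObjectProperty.homMk g.hom
      invFun := fun g => ObjectProperty.homMk g.hom
      left_inv := fun _ => rfl
      right_inv := fun _ => rfl : (L ⟶ RQ) ≃ (L ⟶ RQ) }.trans
    ((({ toFun := fun g => g.hom
         invFun := fun g => ObjectProperty.homMk g
         left_inv := fun _ => rfl
         right_inv := fun _ => rfl } : (L ⟶ RQ) ≃ (L.obj ⟶ (DCoh.Rpush f).obj QX.obj)).trans
      ((adj.homEquiv L.obj QX.obj).symm.trans
        ((({ toFun := fun g => ObjectProperty.homMk g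
             invFun := fun g => g.hom
             left_inv := fun _ => rfl
             right_inv := fun _ => rfl } : ((DCoh.Lpull f).obj L.obj ⟶ QX.obj) ≃ (P ⟶ QX)).trans
          ((adX.homEquiv P K).symm.trans
            ((adj.homEquiv L.obj K).trans (adY.homEquiv L ((DCoh.Rpush f).obj K)))))))))
  convert e.bijective using 1
  funext g
  show g ≫ _ = adY.homEquiv L _ (adj.homEquiv L.obj K ((adX.homEquiv P K).symm
    (ObjectProperty.homMk ((adj.homEquiv L.obj QX.obj).symm g.hom) : P ⟶ QX)))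
  rw [Adjunction.homEquiv_counit adX]
  have h2 : adj.homEquiv L.obj K (((adj.homEquiv L.obj QX.obj).symm g.hom) ≫ adX.counit.app K) =
      g.hom ≫ (DCoh.Rpush f).map (adX.counit.app K) :=
    (adj.homEquiv_naturality_right _ _).trans (congrArg (· ≫ _) ((adj.homEquiv L.obj QX.obj).apply_symm_apply g.hom))
  refine Eq.trans ?_ (congrArg (adY.homEquiv L _) h2.symm)
  exact (adY.homEquiv_naturality_left g _).symm

end Groth.Agent.S7251
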