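import Groth.Statements.S7252
import Groth.Agent.L04.SupportSh.Modules
import Groth.Agent.L17.CoverVanishing
import Groth.Agent.L10.SiteRightDerived
import Groth.Agent.L18.GammaLCMod

set_option autoImplicit false
universe u
open CategoryTheory CategoryTheory.Limits AlgebraicGeometry
attribute [local instance] HasDerivedCategory.standard
open Perf

namespace Groth.Agent.S7252

open Groth.L10 Groth.L10.SiteCoh Abelian Opposite TopologicalSpace

set_option linter.style.haveILetI false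
set_option backward.isDefEq.respectTransparency false
set_option backward.isDefEq.respectTransparency.types false

theorem isZero_RpushAb_of_basis {X Y : Scheme.{u}} (f : X ⟶ Y) (M : X.Modules) {B : Set Y.Opens}
    (hB : Opens.IsBasis B) (n : ℕ)
    (h : ∀ W ∈ B, ∀ x : Groth.L17.HU (X := X.toTopCat) ((Opens.map f.base).obj W) (Coh.toAb M) n, x = 0) :
    IsZero ((Coh.RpushAb f n).obj (Coh.toAb M)) := by
  obtain ⟨e⟩ := nonempty_Rpush_iso (Opens.grothendieckTopology Y) (Opens.map f.base) (Coh.toAb M) n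
  refine (isZero_presheafToSheaf (Opens.grothendieckTopology Y) _ fun V x => ?_).of_iso e
  refine ⟨⟨{ arrows := fun W g =>
              ((Opens.map f.base).op ⋙ (Coh.toAb M).cohomologyPresheaf n).map g.op x = 0
             downward_closed := fun {W W'} g hg g' => by
              rw [op_comp, Functor.map_comp, ConcreteCategory.comp_apply, hg, map_zero] },
    fun y hy => ?_⟩, fun a => a.hf⟩
  obtain ⟨W, hW, hyW, hWV⟩ := (Opens.isBasis_iff_nbhd.1 hB) hy
  exact ⟨W, homOfLE hWV, h W hW _, hyW⟩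

theorem isZero_Rpush_open {X : Scheme.{u}} (U : X.Opens) (c : ℕ)
    (hT : ∀ x : X, ∃ (V : X.Opens) (fs : Finset Γ(X, V)), x ∈ V ∧ fs.card ≤ c ∧
      X.zeroLocus (U := V) (↑fs : Set Γ(X, V)) ∩ (V : Set ↥X) = (U : Set ↥X)ᶜ ∩ (V : Set ↥X))
    (F : X.Modules) [Coh.IsQCoh F] [HasInjectiveResolutions (U : Scheme.{u}).Modules] (n : ℕ) (hn : c ≤ n) :
    IsZero ((Coh.Rpush U.ι n).obj (F.restrict U.ι)) := by
  obtain ⟨e⟩ := Groth.L17.nonempty_toAb_Rpush_iso U.ι (F.restrict U.ι) n
  refine Groth.L17.PushQCoh.isZero_of_toAb (IsZero.of_iso ?_ e)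
  haveI : Coh.IsQCoh (F.restrict U.ι) := Scheme.Modules.isQuasicoherent_restrictFunctor U.ι F
  refine isZero_RpushAb_of_basis U.ι (F.restrict U.ι) (B := {W : X.Opens | IsAffineOpen W ∧
      ∃ (V : X.Opens) (fs : Finset Γ(X, V)), W ≤ V ∧ fs.card ≤ c ∧
        X.zeroLocus (U := V) (↑fs : Set Γ(X, V)) ∩ (V : Set ↥X) = (U : Set ↥X)ᶜ ∩ (V : Set ↥X)}) ?_ n ?_
  · refine Opens.isBasis_iff_nbhd.2 fun {O x} hx => ?_
    obtain ⟨V, fs, hxV, hc, hfs⟩ := hT x
    obtain ⟨W, hW, hxW, hWO⟩ := Opens.isBasis_iff_nbhd.1 X.isBasis_affineOpens (show x ∈ O ⊓ V from ⟨hx, hxV⟩)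
    exact ⟨W, ⟨hW, V, fs, hWO.trans inf_le_right, hc, hfs⟩, hxW, hWO.trans inf_le_left⟩
  rintro W ⟨hW, V, fs, hWV, hc, hfs⟩
  let g : Fin fs.card → Γ(X, W) := fun i => X.presheaf.map (homOfLE hWV).op (fs.equivFin.symm i).1
  have hg : ∀ i, X.basicOpen (g i) = W ⊓ X.basicOpen ((fs.equivFin.symm i).1) := fun i =>
    X.basicOpen_res _ _
  have hgU : ∀ i, X.basicOpen (g i) ≤ U := fun i y hy => by
    rw [hg] at hy
    by_contra hyU
    have hz : y ∈ X.zeroLocus (U := V) (↑fs : Set Γ(X, V)) :=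
      ((Set.ext_iff.1 hfs y).2 ⟨hyU, hWV hy.1⟩).1
    exact (X.mem_zeroLocus_iff _ _).1 hz _ (fs.equivFin.symm i).2 hy.2
  have hcov : ⨆ i, U.ι ⁻¹ᵁ X.basicOpen (g i) = U.ι ⁻¹ᵁ W := by
    refine le_antisymm (iSup_le fun i y hy => X.basicOpen_le (g i) hy) fun y hy => Opens.mem_iSup.2 ?_
    by_contra hne
    push_neg at hne
    have hz : U.ι y ∈ X.zeroLocus (U := V) (↑fs : Set Γ(X, V)) := (X.mem_zeroLocus_iff _ _).2 fun f hf hyf => by
      refine hne (fs.equivFin ⟨f, hf⟩) ?_
      show U.ι y ∈ X.basicOpen (g (fs.equivFin ⟨f, hf⟩))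
      rw [hg]
      exact ⟨hy, by simpa using hyf⟩
    exact ((Set.ext_iff.1 hfs _).1 ⟨hz, hWV hy⟩).1 y.2
  have hinf : ∀ s : Finset (Fin fs.card), s.Nonempty →
      IsAffineOpen (s.inf fun i => U.ι ⁻¹ᵁ X.basicOpen (g i)) := fun s hs => by
    suffices ∃ a : Γ(X, W), X.basicOpen a ≤ U ∧
        (s.inf fun i => U.ι ⁻¹ᵁ X.basicOpen (g i)) = U.ι ⁻¹ᵁ X.basicOpen a by
      obtain ⟨a, ha, he⟩ := this
      exact he ▸ (hW.basicOpen a).preimage_of_isOpenImmersion U.ι (by rwa [Scheme.Opens.opensRange_ι])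
    induction hs using Finset.Nonempty.cons_induction with
    | singleton a => exact ⟨_, hgU a, Finset.inf_singleton⟩
    | cons a s _ _ ih =>
      obtain ⟨b, hb, he⟩ := ih
      refine ⟨g a * b, fun y hy => hb ((X.basicOpen_mul _ _).le hy).2, ?_⟩
      rw [Finset.inf_cons, he, Scheme.basicOpen_mul]
      rfl
  have key := Groth.L17.hu_iSup_eq_zero (F.restrict U.ι) fs.card _ hinf n (hc.trans hn)
  rw [hcov] at key
  exact key

theorem isZero_rightDerived_id {X : Scheme.{u}} [HasInjectiveResolutions X.Modules] (M : X.Modules) (k : ℕ) :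
    IsZero (((𝟭 X.Modules).rightDerived (k + 1)).obj M) := by
  refine IsZero.of_iso ?_ ((injectiveResolution M).isoRightDerivedObj (𝟭 X.Modules) (k + 1))
  refine ShortComplex.exact_iff_isZero_homology _ |>.1 ?_
  exact ((HomologicalComplex.exactAt_iff _ _).1 ((injectiveResolution M).cocomplex_exactAt_succ k))

/-- Let X be a scheme, U ⊆ X an open subscheme and T = X ∖ U. Assume that, locally on X, T is the
vanishing set of no more than c functions from O_X: every point of X has an open neighbourhood V and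
finitely many, at most c, sections of O_X over V whose common zero locus meets V exactly in T ∩ V.
Then the local cohomology sheaves ℋ^i_T(F) (the right derived functors, computed with injective
resolutions, of the sheaf of sections with support in T, F ↦ ker(F → j_*(F|_U))) vanish for every i
> c and every quasi-coherent O_X-module F. -/
theorem result {X : Scheme.{u}} (U : X.Opens) [HasInjectiveResolutions X.Modules]
    (c : ℕ) (hT : ∀ x : X, ∃ (V : X.Opens) (fs : Finset Γ(X, V)), x ∈ V ∧ fs.card ≤ c ∧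
      X.zeroLocus (U := V) (↑fs : Set Γ(X, V)) ∩ (V : Set ↥X) = (U : Set ↥X)ᶜ ∩ (V : Set ↥X))
    (F : X.Modules) (hF : Coh.IsQCoh F) (i : ℕ) (hi : c < i) :
    IsZero (((DCoh.gammaZ U.ι).rightDerived i).obj F) := by
  haveI := hF
  haveI := Groth.L17.PushQCoh.hasInjectiveResolutions (U : Scheme.{u})
  haveI := Groth.L17.PushQCoh.additive_push U.ι
  obtain ⟨k, rfl⟩ : ∃ k, i = k + 1 := ⟨i - 1, by omega⟩
  rcases Nat.eq_zero_or_pos k with rfl | hk
  · have hU : ∀ y : (U : Scheme.{u}), False := fun y => by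
      obtain ⟨V, fs, hyV, hc', hfs⟩ := hT (U.ι y)
      have hfs0 : fs = ∅ := Finset.card_eq_zero.1 (by omega)
      have hz : U.ι y ∈ X.zeroLocus (U := V) (↑fs : Set Γ(X, V)) :=
        (X.mem_zeroLocus_iff _ _).2 fun f hf => absurd hf (by simp [hfs0])
      exact ((Set.ext_iff.1 hfs _).1 ⟨hz, hyV⟩).1 y.2
    have h0 : ∀ N : X.Modules, IsZero ((Scheme.Modules.pushforward U.ι).obj (N.restrict U.ι)) := fun N => by
      refine Functor.map_isZero _ (Groth.L17.PushQCoh.isZero_of_toAb ?_)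
      rw [IsZero.iff_id_eq_zero]
      refine Sheaf.hom_ext (NatTrans.ext (funext fun O => ?_))
      have hO : O.unop = ⊥ := le_bot_iff.1 fun y _ => (hU y).elim
      exact ((TopCat.Sheaf.isTerminalOfEqEmpty (Coh.toAb (N.restrict U.ι)) hO).hom_ext _ _)
    have hiso : ∀ N : X.Modules, IsIso ((Groth.L04.SupportSh.inclM U.ι).app N) := fun N =>
      equalizer.ι_of_eq ((h0 N).eq_of_tgt _ 0)
    haveI : IsIso (Groth.L04.SupportSh.inclM U.ι) := @NatIso.isIso_of_isIso_app _ _ _ _ _ _ _ hiso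
    obtain ⟨e⟩ := Groth.L18.GammaLC.rightDerived_natIso (asIso (Groth.L04.SupportSh.inclM U.ι)) F 1
    exact (isZero_rightDerived_id F 0).of_iso e
  haveI : ObjectProperty.IsClosedUnderIsomorphisms (IsZero : ObjectProperty X.Modules) :=
    ⟨fun e h => h.of_iso e.symm⟩
  have h3 : ∀ n, c ≤ n → IsZero (((Scheme.Modules.restrictFunctor U.ι ⋙
      Scheme.Modules.pushforward U.ι).rightDerived n).obj F) := fun n hn => by
    obtain ⟨e⟩ := Groth.L17.PushQCoh.nonempty_rightDerived_restrict_push U.ι U.ι F n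
    exact (isZero_Rpush_open U c hT F n hn).of_iso e
  have h2 : ∀ n, 0 < n → IsZero (((𝟭 X.Modules).rightDerived n).obj F) := fun n hn => by
    obtain ⟨m, rfl⟩ : ∃ m, n = m + 1 := ⟨n - 1, by omega⟩
    exact isZero_rightDerived_id F m
  exact Groth.L17.DerivedMV.prop_rightDerived_succ (Groth.L04.SupportSh.inclM U.ι)
    (Scheme.Modules.restrictAdjunction U.ι).unit (Groth.L04.SupportSh.inclM_unit U.ι)
    (Groth.L04.SupportSh.shortExact_of_injective U.ι) (IsZero : ObjectProperty X.Modules)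
    (fun f h1 _ => IsZero.of_mono (kernel.ι f) h1)
    (fun f _ h2 => IsZero.of_epi (cokernel.π f) h2)
    (fun S hS h1 h3 => hS.exact.isZero_of_both_zeros (h1.eq_of_src _ _) (h3.eq_of_tgt _ _))
    F k (h2 k hk) (h3 k (by omega)) (h2 (k + 1) (by omega)) (h3 (k + 1) (by omega))

end Groth.Agent.S7252
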