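import Groth.Statements.S7264
import Groth.Agent.Lead.TildeAmp
import Groth.Agent.L29.DCoh.TildeAlg

set_option linter.style.haveILetI false
set_option backward.isDefEq.respectTransparency false
set_option backward.isDefEq.respectTransparency.types false
set_option backward.defeqAttrib.useBackward true


set_option autoImplicit false
universe u
open CategoryTheory CategoryTheory.Limits AlgebraicGeometry
attribute [local instance] HasDerivedCategory.standard
open Perf

namespace Groth.Agent.S7264

/-- (1) ⇔ (2) in the affine case to which the proof reduces: let R → A be flat and of finite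
presentation, f : X = Spec A ⟶ S = Spec R, M ∈ D(A) and E = M~ ∈ D(O_X) (tilde recorded as exact),
so that RΓ(X, E) = M. Then E is S-perfect (pseudo-coherent, and locally on X represented by a
bounded complex of O_X-modules flat over S) if and only if M is R-perfect (pseudo-coherent as a
complex of A-modules and of finite tor dimension as a complex of R-modules). -/
theorem result (R A : Type u) [CommRing R] [CommRing A] [Algebra R A]
    [Module.Flat R A] [Algebra.FinitePresentation R A]
    [PreservesFiniteLimits (tilde.functor (CommRingCat.of A))] (M : Dual.D A) :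
    ((∀ m : ℤ, DCoh.IsPseudoCoherentD m ((DCoh.tildeD (CommRingCat.of A)).obj M)) ∧
      DCoh.LocHasFiniteRelTorDim (Spec.map (CommRingCat.ofHom (algebraMap R A))) ((DCoh.tildeD (CommRingCat.of A)).obj M)) ↔
    Dual2.IsRelPerfect R A M := by

  let φ := algebraMap R A
  let π := Groth.Lead.TildeAmp.π φ
  haveI : Flat π := (HasRingHomProperty.Spec_iff (P := @Flat)).2 (RingHom.flat_algebraMap_iff.2 inferInstance)
  let K := DerivedCategory.Q.objPreimage M
  let eK : DRing.toD K ≅ M := DerivedCategory.Q.objObjPreimageIso M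
  let E := (DCoh.tildeD (CommRingCat.of A)).obj M
  let F := (Groth.L29.DC.TildeAlg.tC (R := CommRingCat.of A)).obj K
  let eF : DCoh.toD _ F ≅ (DCoh.tildeD (CommRingCat.of A)).obj (DRing.toD K) :=
    (Groth.L29.DC.TildeAlg.qIso (R := CommRingCat.of A) K).symm
  let eE : DCoh.toD _ F ≅ E := eF ≪≫ (DCoh.tildeD (CommRingCat.of A)).mapIso eK
  have hamp := fun a b => Groth.Lead.TildeAmp.hasTorAmplitude_iff φ K F eF a b
  constructor
  · rintro ⟨hpc, hrel⟩
    refine ⟨Groth.L02.PC.pc'_of_forall fun m => Groth.L29.DC.TildeAlg.pc_of_tilde (hpc m), ?_⟩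
    have h := (Groth.Lead.RelTorStalk.locRel_iff π E F eE).1 hrel
    choose V a b hxV hV using h
    obtain ⟨t, ht⟩ := isCompact_univ.elim_finite_subcover (fun x => (V x : Set (Spec (CommRingCat.of A))))
      (fun x => (V x).isOpen) (fun x _ => Set.mem_iUnion.2 ⟨x, hxV x⟩)
    obtain ⟨lo, hlo⟩ := (t.image a).finite_toSet.bddBelow
    obtain ⟨hi, hhi⟩ := (t.image b).finite_toSet.bddAbove
    refine ⟨lo, hi, Groth.L10.DR.amp_of_iso ((DRing.restrictD φ).mapIso eK) ((hamp lo hi).1 fun x => ?_)⟩
    obtain ⟨k, hk, hxk⟩ := Set.mem_iUnion₂.1 (ht (Set.mem_univ x))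
    exact Groth.L10.DR.amp_mono (hV k x hxk) (hlo (Finset.mem_coe.2 (Finset.mem_image_of_mem a hk)))
      (hhi (Finset.mem_coe.2 (Finset.mem_image_of_mem b hk)))
  · rintro ⟨hpc, a, b, hab⟩
    refine ⟨fun m => Groth.L29.DC.TildeAlg.pc_tilde (Groth.L02.PC.pc_of_pc' hpc m), ?_⟩
    refine (Groth.Lead.RelTorStalk.locRel_iff π E F eE).2 fun x => ⟨⊤, a, b, trivial, fun x' _ => ?_⟩
    exact (hamp a b).2 (Groth.L10.DR.amp_of_iso ((DRing.restrictD φ).mapIso eK).symm hab) x' 

end Groth.Agent.S7264
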