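import Groth.Statements.S7274
import Groth.Agent.Lead.SplitEtale

set_option autoImplicit false
set_option backward.isDefEq.respectTransparency false
set_option backward.isDefEq.respectTransparency.types false
universe u
open CategoryTheory CategoryTheory.Limits AlgebraicGeometry
attribute [local instance] HasDerivedCategory.standard
open Perf

namespace Groth.Agent.S7274

/-- Let f : X ⟶ S be proper, flat and of finite presentation and let s ∈ S be a point whose fibre X_s is
geometrically reduced over κ(s). Then s has an open neighbourhood V over which, writing f_V : f⁻¹V ⟶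
V: the direct-image algebra (f_V)_*O_{f⁻¹V} is a finite étale O_V-algebra (its relative spectrum is
finite and étale over V), and, assuming R(f_V)_* exists and binary direct sums in D(O_V) are
available, there is a direct sum decomposition R(f_V)_*O_{f⁻¹V} ≅ (f_V)_*O_{f⁻¹V}[0] ⊕ P in D(O_V)
with P perfect of tor amplitude in [1, b] for some b (existence of the decomposition). -/
theorem result {X S : Scheme.{u}} (f : X ⟶ S)
    [IsProper f] [Flat f] [LocallyOfFinitePresentation f] (s : S)
    (hs : GeometricallyReduced (f.fiberToSpecResidueField s)) :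
    ∃ V : S.Opens, s ∈ V ∧
      (IsFinite (RelSpec.QCAlg.directImage (f ∣_ V)).π ∧ Etale (RelSpec.QCAlg.directImage (f ∣_ V)).π) ∧
      ∀ [DCoh.HasRpush (f ∣_ V)] [∀ A B : DCoh.D (V : Scheme.{u}), HasBinaryBiproduct A B],
        ∃ (P : DCoh.D (V : Scheme.{u})) (b : ℤ), DCoh.IsPerfect P ∧ DCoh.HasTorAmplitudeIn 1 b P ∧
          Nonempty ((DCoh.Rpush (f ∣_ V)).obj
              (DCoh.inD (f ⁻¹ᵁ V : Scheme.{u}) (Coh.structureModule (f ⁻¹ᵁ V : Scheme.{u}))) ≅
            DCoh.inD (V : Scheme.{u}) ((Coh.push (f ∣_ V)).obj (Coh.structureModule (f ⁻¹ᵁ V : Scheme.{u}))) ⊞ P) := by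
  have hred : AlgebraicGeometry.IsReduced (pullback (f.fiberToSpecResidueField s)
      (Spec.map (CommRingCat.ofHom (algebraMap (S.residueField s) (AlgebraicClosure (S.residueField s)))))) :=
    GeometricallyReduced.geometrically_isReduced _ _ _ (IsPullback.of_hasPullback _ _)
  obtain ⟨U, hU, hsU, hg⟩ := Groth.L16.EtaleFibre.exists_good f s
    (Groth.L16.EtaleFibre.etale_fibre_of_geometric f s hred)
  haveI : IsAffine (U : Scheme.{u}) := hU
  haveI : IsProper (f ∣_ U) := IsZariskiLocalAtTarget.restrict ‹IsProper f› U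
  haveI : Flat (f ∣_ U) := IsZariskiLocalAtTarget.restrict ‹Flat f› U
  haveI : LocallyOfFinitePresentation (f ∣_ U) := IsZariskiLocalAtTarget.restrict ‹LocallyOfFinitePresentation f› U
  have hg' := Groth.Lead.SplitEtale.good_restrict f U hU hg
  refine ⟨U, hsU, Groth.Lead.SplitEtale.finite_etale_π (f ∣_ U) hg', ?_⟩
  intro _ _
  exact Groth.Lead.SplitEtale.exists_split (f ∣_ U) hg'

end Groth.Agent.S7274
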