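import Groth.Statements.S7275
import Groth.Agent.S7278
import Groth.Agent.L10.RelPC.RelPerfModel
import Groth.Agent.L29.DCoh.TildeAlg
import Groth.Agent.L29.DCoh.PCQCoh
import Groth.Agent.L18.TildeFunctor
import Groth.Agent.L18.LocFreeTilde
import Groth.Agent.L06.ModuleModel
import Groth.Agent.L07.ModSep.Spec
import Groth.Agent.L19.FaithOver
import Groth.Agent.L02.FibFlat.Pointwise
import Groth.Agent.L17.Approx.RestrictFP
import Groth.Agent.L17.Strat.GenBase
import Groth.Agent.L22.Inter.FlatTwist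

set_option linter.style.haveILetI false
set_option backward.isDefEq.respectTransparency false
set_option backward.isDefEq.respectTransparency.types false
set_option backward.defeqAttrib.useBackward true


set_option autoImplicit false
universe u
open CategoryTheory CategoryTheory.Limits AlgebraicGeometry
attribute [local instance] HasDerivedCategory.standard
open Perf

namespace Groth.Agent.S7275
noncomputable section

theorem flatAt_of_comp_openImm {X Y Z : Scheme.{u}} (f : X ⟶ Y) (g : Y ⟶ Z) [IsOpenImmersion g] (F : X.Modules)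
    (x : X) (h : FlatMod.IsFlatOverAt (f ≫ g) F x) : FlatMod.IsFlatOverAt f F x := by
  let ε := (asIso (g.stalkMap (f x))).commRingCatIsoToRingEquiv
  letI : Algebra (Y.presheaf.stalk (f x)) (Z.presheaf.stalk ((f ≫ g) x)) := ε.symm.toRingHom.toAlgebra
  haveI : Module.Flat (Y.presheaf.stalk (f x)) (Z.presheaf.stalk ((f ≫ g) x)) :=
    (RingHom.Flat.of_bijective ε.symm.bijective : ε.symm.toRingHom.Flat)
  letI : Module (Z.presheaf.stalk ((f ≫ g) x)) (F.presheaf.stalk x) := FlatMod.moduleStalkOver (f ≫ g) F x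
  letI : Module (Y.presheaf.stalk (f x)) (F.presheaf.stalk x) := FlatMod.moduleStalkOver f F x
  haveI : IsScalarTower (Y.presheaf.stalk (f x)) (Z.presheaf.stalk ((f ≫ g) x)) (F.presheaf.stalk x) :=
    IsScalarTower.of_algebraMap_smul fun a n => by
      show ((f ≫ g).stalkMap x).hom (ε.symm a) • n = (f.stalkMap x).hom a • n
      rw [Scheme.Hom.stalkMap_comp]
      exact congrArg (fun t => (f.stalkMap x).hom t • n) (ε.apply_symm_apply a)
  haveI : Module.Flat (Z.presheaf.stalk ((f ≫ g) x)) (F.presheaf.stalk x) := h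
  exact Module.Flat.trans (Y.presheaf.stalk (f x)) (Z.presheaf.stalk ((f ≫ g) x)) (F.presheaf.stalk x)

theorem flatOver_restrict {X' X S : Scheme.{u}} (j : X' ⟶ X) [IsOpenImmersion j] (f : X ⟶ S) (M : X.Modules)
    (h : FlatMod.IsFlatOver f M) : FlatMod.IsFlatOver (j ≫ f) ((Scheme.Modules.restrictFunctor j).obj M) :=
  Groth.L29.DC.RelBC.isFlatOver_of_iso (j ≫ f) ((Scheme.Modules.restrictFunctorIsoPullback j).app M).symm
    (fun x => (Groth.L02.FibFlat.isFlatOverAt_comp_iff j f M x).2 (h _))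

theorem flat_model {R A : CommRingCat.{u}} (φ : R ⟶ A) (N : ModuleCat.{u} A)
    (h : FlatMod.IsFlatOver (Spec.map φ) (tilde N)) :
    Module.Flat R ((ModuleCat.restrictScalars.{u} φ.hom).obj N) := by
  haveI : Coh.IsQCoh (tilde N) := Groth.L18.TildeF.isQCoh_tilde N
  have h1 := Groth.L07.ModSep.flat_sections_spec (Spec.map φ) (tilde N) h (isAffineOpen_top _)
  letI : Module R Γ(tilde N, ⊤) := Module.compHom _ (Groth.L07.ModSep.baseMap (Spec.map φ) ⊤).hom
  haveI : Module.Flat R Γ(tilde N, ⊤) := h1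
  let v : N ≃ₗ[A] (moduleSpecΓFunctor (R := A)).obj (tilde N) := (tilde.toTildeΓNatIso.app N).toLinearEquiv
  have hb : Groth.L07.ModSep.baseMap (Spec.map φ) ⊤ = φ ≫ (Scheme.ΓSpecIso A).inv := by
    rw [Scheme.ΓSpecIso_inv_naturality]
    simp [Groth.L07.ModSep.baseMap, Scheme.Hom.appLE]
  exact Module.Flat.of_linearEquiv
    ({ v.toAddEquiv with
      map_smul' := fun r (n : N) => by
        show v (φ.hom r • n) = (Groth.L07.ModSep.baseMap (Spec.map φ) ⊤).hom r • (show Γ(tilde N, ⊤) from v n)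
        rw [map_smul, hb]
        rfl } : (ModuleCat.restrictScalars.{u} φ.hom).obj N ≃ₗ[R] Γ(tilde N, ⊤))


/-- Let f : X ⟶ S be flat and locally of finite presentation and E ∈ D(O_X). Then E is S-perfect
(pseudo-coherent, and locally on X represented by a bounded complex of O_X-modules flat over S) if
and only if E satisfies the alternative definition of relative perfectness: locally on X, E becomes
isomorphic in the derived category to a bounded complex whose terms are O_X-modules of finite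
presentation that are S-flat (every point has an open neighbourhood V such that the restriction to V
of any representing complex is isomorphic in D(O_V) to such a complex). -/
theorem result {X S : Scheme.{u}} (f : X ⟶ S)
    [Flat f] [LocallyOfFinitePresentation f] (E : DCoh.D X) :
    ((∀ m : ℤ, DCoh.IsPseudoCoherentD m E) ∧ DCoh.LocHasFiniteRelTorDim f E) ↔
      ∀ x : X, ∃ V : X.Opens, x ∈ V ∧ ∀ F : CochainComplex X.Modules ℤ, Nonempty (DCoh.toD X F ≅ E) →
        ∃ (G : CochainComplex (V : Scheme.{u}).Modules ℤ) (a b : ℤ), DCoh.VanishesOutside G a b ∧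
          (∀ i : ℤ, CohB1.IsFP (G.X i) ∧ FlatMod.IsFlatOver (V.ι ≫ f) (G.X i)) ∧
          Nonempty (DerivedCategory.Q.obj ((DCoh.restrictCx V).obj F) ≅ DerivedCategory.Q.obj G) := by
  let F₀ := DerivedCategory.Q.objPreimage E
  let eF : DCoh.toD X F₀ ≅ E := DerivedCategory.Q.objObjPreimageIso E
  constructor
  · intro hrel x
    obtain ⟨_, ⟨W, hW, rfl⟩, hfx, -⟩ :=
      S.isBasis_affineOpens.exists_subset_of_mem_open (Set.mem_univ (f x)) isOpen_univ
    obtain ⟨_, ⟨U, hU, rfl⟩, hxU, hsub⟩ := X.isBasis_affineOpens.exists_subset_of_mem_open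
      (show x ∈ (↑(f ⁻¹ᵁ W) : Set X) from hfx) (f ⁻¹ᵁ W).isOpen
    have hUW : U ≤ f ⁻¹ᵁ W := hsub
    letI := (f.appLE W U hUW).hom.toAlgebra
    haveI : Module.Flat Γ(S, W) Γ(X, U) := f.flat_appLE hW hU hUW
    haveI : Algebra.FinitePresentation Γ(S, W) Γ(X, U) := f.finitePresentation_appLE hW hU hUW
    have hq : DCoh.IsQCohD E := Groth.L29.DC.PCQCoh.isQCohD_of_pc hrel.1
    obtain ⟨M, ⟨e⟩⟩ := (Groth.L29.DC.TildeD.isQCohD_iff _).1 (Groth.L29.DC.isQCohD_restrictD hU.fromSpec hq)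
    have hM := (Groth.Agent.S7278.result f E hq).1.1 hrel U hU W hW hUW M
      ⟨Groth.Agent.S7278.chartIso hU E ≪≫ e.symm⟩
    obtain ⟨P, a, b, hv, hP, ⟨eP⟩⟩ := Groth.L10.RelPC.exists_model Γ(S, W) Γ(X, U) hM
    refine ⟨U, hxU, fun F ⟨e'⟩ => ?_⟩
    refine ⟨((Scheme.Modules.restrictFunctor hU.isoSpec.hom).mapHomologicalComplex (ComplexShape.up ℤ)).obj
        (((tilde.functor Γ(X, U)).mapHomologicalComplex (ComplexShape.up ℤ)).obj P), a, b,
      fun i hi => (Scheme.Modules.restrictFunctor hU.isoSpec.hom).map_isZero ((tilde.functor Γ(X, U)).map_isZero (hv i hi)), fun i => ⟨?_, ?_⟩, ⟨?_⟩⟩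
    · haveI := (hP i).1
      exact @Groth.L17.Approx.isFP_restrict _ _ _ _ _ (Groth.L18.TildeF.isQCoh_tilde (P.X i))
        (Groth.L18.LFP.isFP_tilde (P.X i))
    · have h1 : FlatMod.IsFlatOver (Spec.map (f.appLE W U hUW)) (tilde (P.X i)) :=
        Groth.L06.ModuleModel.isFlatOver_tilde _ (P.X i) (hP i).2
      have hw : hU.isoSpec.hom ≫ Spec.map (f.appLE W U hUW) ≫ hW.fromSpec = Scheme.Opens.ι U ≫ f := by
        rw [hW.SpecMap_appLE_fromSpec f hU hUW, ← Category.assoc, hU.isoSpec_hom_fromSpec]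
      rw [← hw]
      exact flatOver_restrict _ _ _ fun y => Groth.L19.FaithOver.isFlatOverAt_comp _ _ _ y (h1 y)
    · exact (Groth.L29.DC.resQIso U F).symm ≪≫ (Groth.L29.DC.resD U).mapIso e' ≪≫
        ((Groth.L29.DC.resTransD hU.fromSpec hU.isoSpec.hom (Scheme.Opens.ι U) hU.isoSpec_hom_fromSpec).app E).symm ≪≫
        (DCoh.restrictD hU.isoSpec.hom).mapIso (e.symm ≪≫ (DCoh.tildeD Γ(X, U)).mapIso eP.symm ≪≫
          Groth.L29.DC.TildeAlg.qIso P) ≪≫
        (Scheme.Modules.restrictFunctor hU.isoSpec.hom).mapDerivedCategoryFactors.app _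
  · intro h
    refine ⟨fun m => Groth.L29.DC.pc_of_on fun x => ?_,
      (Groth.Lead.RelTorStalk.locRel_iff f E F₀ eF).2 fun x => ?_⟩
    · obtain ⟨V, hxV, hV⟩ := h x
      obtain ⟨G, a, b, hv, hG, ⟨eG⟩⟩ := hV F₀ ⟨eF⟩
      obtain ⟨_, ⟨W, hW, rfl⟩, hfx, -⟩ :=
        S.isBasis_affineOpens.exists_subset_of_mem_open (Set.mem_univ (f x)) isOpen_univ
      obtain ⟨_, ⟨U, hU, rfl⟩, hxU, hsub⟩ := X.isBasis_affineOpens.exists_subset_of_mem_open
        (show x ∈ (↑(f ⁻¹ᵁ W ⊓ V) : Set X) from ⟨hfx, hxV⟩) (f ⁻¹ᵁ W ⊓ V).isOpen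
      have hUW : U ≤ f ⁻¹ᵁ W := hsub.trans inf_le_left
      have hUV : U ≤ V := hsub.trans inf_le_right
      letI := (f.appLE W U hUW).hom.toAlgebra
      haveI : Module.Flat Γ(S, W) Γ(X, U) := f.flat_appLE hW hU hUW
      haveI : Algebra.FinitePresentation Γ(S, W) Γ(X, U) := f.finitePresentation_appLE hW hU hUW
      let k : Spec Γ(X, U) ⟶ V := hU.isoSpec.inv ≫ X.homOfLE hUV
      have hk : k ≫ V.ι = hU.fromSpec := by simp only [k, IsAffineOpen.fromSpec, Category.assoc, Scheme.homOfLE_ι]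
      let G' := ((Scheme.Modules.restrictFunctor k).mapHomologicalComplex (ComplexShape.up ℤ)).obj G
      have hq : ∀ i, (G'.X i).IsQuasicoherent := fun i =>
        haveI : (G.X i).IsQuasicoherent := Groth.L17.Strat.isQCoh_of_isFP _ (hG i).1
        Scheme.Modules.isQuasicoherent_restrictFunctor k (G.X i)
      let P := ((moduleSpecΓFunctor (R := Γ(X, U))).mapHomologicalComplex (ComplexShape.up ℤ)).obj G'
      let c : ((tilde.functor Γ(X, U)).mapHomologicalComplex (ComplexShape.up ℤ)).obj P ≅ G' :=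
        HomologicalComplex.Hom.isoOfComponents
          (fun i => haveI := hq i; Groth.L18.TildeF.counitIso (G'.X i))
          (fun i j _ => ((tilde.adjunction (R := Γ(X, U))).counit.naturality (G'.d i j)).symm)
      have hP : ∀ i : ℤ, Module.FinitePresentation Γ(X, U) (P.X i) ∧
          Module.Flat Γ(S, W) ((ModuleCat.restrictScalars (algebraMap Γ(S, W) Γ(X, U))).obj (P.X i)) := by
        intro i
        let ci : (tilde.functor Γ(X, U)).obj (P.X i) ≅ G'.X i := haveI := hq i; Groth.L18.TildeF.counitIso _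
        haveI : Coh.IsQCoh (G.X i) := Groth.L17.Strat.isQCoh_of_isFP _ (hG i).1
        refine ⟨(Groth.L18.LFP.tilde_isFP_iff _).1
          (Groth.L22.Inter.FlatTwist.isFP_of_iso ci.symm (Groth.L17.Approx.isFP_restrict k _ (hG i).1)), ?_⟩
        refine flat_model (f.appLE W U hUW) (P.X i) fun y => flatAt_of_comp_openImm _ hW.fromSpec _ y ?_
        have hw : Spec.map (f.appLE W U hUW) ≫ hW.fromSpec = k ≫ V.ι ≫ f := by
          rw [hW.SpecMap_appLE_fromSpec f hU hUW, ← Category.assoc, hk]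
        rw [hw]
        exact Groth.L29.DC.RelBC.isFlatOver_of_iso _ ci.symm (flatOver_restrict k _ _ (hG i).2) y
      have hM := Groth.L10.RelPC.isRelPerfect_of_model Γ(S, W) Γ(X, U) P a b
        (fun i hi => (moduleSpecΓFunctor (R := Γ(X, U))).map_isZero ((Scheme.Modules.restrictFunctor k).map_isZero (hv i hi))) hP (Iso.refl (DRing.toD P))
      let e₀ : (DCoh.tildeD Γ(X, U)).obj (DRing.toD P) ≅ (DCoh.restrictD hU.fromSpec).obj E :=
        Groth.L29.DC.TildeAlg.qIso P ≪≫ DerivedCategory.Q.mapIso c ≪≫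
          ((Scheme.Modules.restrictFunctor k).mapDerivedCategoryFactors.app G).symm ≪≫
          (DCoh.restrictD k).mapIso (eG.symm ≪≫ (Groth.L29.DC.resQIso V F₀).symm) ≪≫
          (Groth.L29.DC.resTransD V.ι k hU.fromSpec hk).app (DCoh.toD X F₀) ≪≫
          (DCoh.restrictD hU.fromSpec).mapIso eF
      obtain ⟨y, rfl⟩ : x ∈ Set.range hU.fromSpec := hU.range_fromSpec ▸ hxU
      obtain ⟨Z, hyZ, hZ⟩ := (Groth.L29.DC.isPC_iff_wit m _).1 (Groth.L29.DC.isPseudoCoherentD_of_iso e₀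
        (Groth.L29.DC.TildeAlg.pc_tilde (Groth.L02.PC.pc_of_pc' hM.1 m))) y
      exact ⟨_, Z.ι ≫ hU.fromSpec, inferInstance, ⟨⟨y, hyZ⟩, rfl⟩,
        Groth.L29.DC.wit_iso ((Groth.L29.DC.resTransD hU.fromSpec Z.ι (Z.ι ≫ hU.fromSpec) rfl).app E) hZ⟩
    · obtain ⟨V, hxV, hV⟩ := h x
      obtain ⟨G, a, b, hv, hG, ⟨eG⟩⟩ := hV F₀ ⟨eF⟩
      refine ⟨V, a, b, hxV, fun z hz => (Groth.Lead.SmoothStalk.amp_restrict_iff f V.ι ⟨z, hz⟩ F₀ a b).1 ?_⟩
      exact Groth.Lead.RelTorStalk.ampAt_of_relFlatAmp (V.ι ≫ f) _ ⟨G, hv, fun i => (hG i).2, ⟨eG.symm⟩⟩ _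

end

end Groth.Agent.S7275
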