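import Groth.Statements.S7276
import Groth.Agent.L29.BCAdj.HomFlatGlobal
import Groth.Agent.L29.BCAdj.ScalarPush
import Groth.Agent.L16.Exist.OpenPush
import Groth.Agent.L29.DCoh.Gen.Loc
import Groth.Agent.L29.DCoh.Restrict

set_option autoImplicit false
set_option backward.defeqAttrib.useBackward true
set_option backward.isDefEq.respectTransparency false
set_option backward.isDefEq.respectTransparency.types false
set_option backward.isDefEq.respectTransparency false
universe u
open CategoryTheory CategoryTheory.Limits AlgebraicGeometry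
attribute [local instance] HasDerivedCategory.standard
open Perf

namespace Groth.Agent.S7276

open Groth.L00 Groth.L29 Groth.L29.DC
open scoped TensorProduct

/-- Let X be a quasi-compact and quasi-separated scheme over Spec A for a ring A, let a ∈ A with image ā
∈ Γ(X, O_X), and let α : E ⟶ E' be a morphism in D(O_X) where E is perfect and E' has quasi-coherent
cohomology sheaves, all supported on the zero locus T = V(ā). Then aⁿ α = 0 for some n ≥ 0; here A
acts on morphisms of D(O_X) through A → Γ(X, O_X) (for A = Γ(X, O_X) over itself this is the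
statement for a global function ā = a). -/
theorem result (A : Type u) [CommRing A] (X : Scheme.{u})
    [X.Over (Spec (CommRingCat.of A))] [CompactSpace ↥X] [QuasiSeparatedSpace ↥X] (a : A) {E E' : DCoh.D X}
    (hE : DCoh.IsPerfect E) (hE'q : DCoh.IsQCohD E')
    (hsupp : ∀ i : ℤ, CohB1.support (DCoh.HD E' i) ⊆
      (X.zeroLocus (U := ⊤) {Coh.toGlobal (X ↘ Spec (CommRingCat.of A)) a} : Set X))
    (α : E ⟶ E') : ∃ n : ℕ, (a ^ n) • α = 0 := by
  haveI := fun {A B : Scheme.{u}} (k : A ⟶ B) => RpushQC.hasRpush k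
  haveI := fun {A B : Scheme.{u}} (k : A ⟶ B) => KFlat.hasLpull k
  let B := Localization.Away a
  let q := X ↘ Spec (CommRingCat.of A)
  let ψ := Spec.map (CommRingCat.ofHom (algebraMap A B))
  haveI : IsOpenImmersion ψ := IsOpenImmersion.of_isLocalization (R := A) (S := B) a
  let g := pullback.fst q ψ
  letI : (pullback q ψ).Over (Spec (CommRingCat.of B)) := ⟨pullback.snd q ψ⟩
  have hc : IsPullback g ((pullback q ψ) ↘ Spec (CommRingCat.of B)) q ψ := IsPullback.of_hasPullback q ψ
  haveI : Module.Flat A B := IsLocalization.flat B (Submonoid.powers a)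
  letI := BC.commShiftLpull g
  haveI := BC.isTriangulated_Lpull g
  have hL := BCAdj.sl_Lpull (algebraMap A B) g hc.w
  -- the pullback of `E'` vanishes
  have hz : IsZero ((DCoh.Lpull g).obj E') := by
    obtain ⟨e⟩ := nonempty_Lpull_iso_restrictD g E'
    refine IsZero.of_iso (Gen.isZero_of_hd fun i => ?_) e
    refine IsZero.of_iso ?_ (HDResIso g E' i)
    refine Groth.L16.Exist.isZero_restrict_of_disjoint _ g fun x hx hxr => ?_
    obtain ⟨z, rfl⟩ := hxr
    have h1 := hsupp i hx
    have h2 : ψ ((pullback q ψ ↘ Spec (CommRingCat.of B)) z) = q (g z) := by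
      rw [← Scheme.Hom.comp_apply, ← hc.w, Scheme.Hom.comp_apply]
    have h3 : q (g z) ∈ PrimeSpectrum.basicOpen a := by
      rw [← h2]
      have h4 := PrimeSpectrum.localization_away_comap_range B a
      exact (Set.ext_iff.1 h4 _).1 ⟨_, rfl⟩
    have h5 : g z ∈ X.basicOpen (Coh.toGlobal q a) := by
      rw [show Coh.toGlobal q a = q.appTop ((Scheme.ΓSpecIso (CommRingCat.of A)).inv a) from rfl,
        ← Scheme.preimage_basicOpen_top]
      refine (Scheme.Hom.mem_preimage q).2 ?_
      rw [basicOpen_eq_of_affine]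
      exact h3
    exact ((X.mem_zeroLocus_iff _ _).1 h1 _ (Set.mem_singleton _)) h5
  have h0 : BCAdj.T (DCoh.Lpull g) hL E E' ((1 : B) ⊗ₜ α) = BCAdj.T (DCoh.Lpull g) hL E E' 0 := by
    rw [map_zero]
    exact hz.eq_of_tgt _ _
  have h1 : (1 : B) ⊗ₜ[A] α = 0 := (BCAdj.bij_perfect hc hL hE hE'q).injective h0
  have hloc : IsLocalizedModule (Submonoid.powers a) (TensorProduct.mk A B (E ⟶ E') 1) :=
    (isLocalizedModule_iff_isBaseChange (Submonoid.powers a) B _).2 (TensorProduct.isBaseChange A (E ⟶ E') B)
  obtain ⟨⟨_, n, rfl⟩, hn⟩ := (IsLocalizedModule.eq_zero_iff (Submonoid.powers a)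
    (TensorProduct.mk A B (E ⟶ E') 1)).1 h1
  exact ⟨n, hn⟩

end Groth.Agent.S7276
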