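import Groth.Statements.S7279
import Groth.Agent.Lead.SuppFactor.Main
import Groth.Agent.L16.HomSh.QAffineCompletion

set_option autoImplicit false
set_option backward.defeqAttrib.useBackward true
set_option backward.isDefEq.respectTransparency false
set_option backward.isDefEq.respectTransparency.types false
universe u
open CategoryTheory CategoryTheory.Limits AlgebraicGeometry
attribute [local instance] HasDerivedCategory.standard
open Perf

namespace Groth.Agent.S7279

/-- Let X be a quasi-compact and quasi-separated scheme, U ⊆ X a quasi-compact open with closed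
complement T = X ∖ U, P a cochain complex of O_X-modules with quasi-coherent cohomology sheaves and
E ∈ D_QCoh(O_X) supported on T (every cohomology sheaf of E has support in T). Assume either (1) P
is perfect, or (2) P is pseudo-coherent and E is bounded below, and assume the derived functors -
⊗^L P and RHom(P, -) exist. Then for every morphism γ : O_X[0] ⊗^L P ⟶ E there exist a perfect I ∈
D(O_X) and a morphism i : I ⟶ O_X[0] such that the composition of i ⊗^L P with γ is zero and the
restriction i|_U is an isomorphism. (The published statement is about a morphism α : P ⟶ E and the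
induced map I ⊗^L P ⟶ E; composing with the unit isomorphism O_X[0] ⊗^L P ≅ P identifies morphisms α
with morphisms γ, so the present form, quantified over all γ, is the same assertion.) -/
theorem result (X : Scheme.{u}) [CompactSpace ↥X]
    [QuasiSeparatedSpace ↥X] (U : X.Opens) (hU : IsCompact (U : Set X))
    (P : CochainComplex X.Modules ℤ) (hPq : DCoh.IsQCohD (DCoh.toD X P)) [DCoh.HasLTensorCx P] [DCoh.HasRSheafHom P]
    (E : DCoh.D X) (hEq : DCoh.IsQCohD E) (hEsupp : ∀ i : ℤ, CohB1.support (DCoh.HD E i) ⊆ (U : Set X)ᶜ)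
    (h : DCoh.IsPerfect (DCoh.toD X P) ∨ ((∀ m : ℤ, DCoh.IsPseudoCoherentD m (DCoh.toD X P)) ∧ ∃ a : ℤ, E.IsGE a))
    (γ : (DCoh.LTensorCx P).obj (DCoh.inD X (Coh.structureModule X)) ⟶ E) :
    ∃ (I : DCoh.D X) (i : I ⟶ DCoh.inD X (Coh.structureModule X)), DCoh.IsPerfect I ∧
      (DCoh.LTensorCx P).map i ≫ γ = 0 ∧ IsIso ((DCoh.restrictD U.ι).map i) := by
  let H := (DCoh.RSheafHom P).obj E
  have hH : DCoh.IsQCohD H := by
    rcases h with h | ⟨h, a, ha⟩
    · exact (Groth.L29.DC.RHom.rPres_of_isPerfect h).pres _ hEq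
    · exact Groth.L29.BC.SupportAdj.qcoh_RHom_of_pc h hEq a ha
  have hE0 : IsZero ((DCoh.restrictD U.ι).obj E) :=
    (Groth.L29.DC.Gen.isZero_restrictD_iff U.ι E).2 (by simpa [Scheme.Opens.range_ι] using hEsupp)
  have hHU : IsZero ((DCoh.restrictD U.ι).obj H) := by
    haveI := Groth.L29.DC.ExtZero.preservesFiniteLimits U.ι
    haveI := Groth.L00.KFlat.hasLTensorCx ((Groth.L29.DC.ExtZero.rCx U.ι).obj P)
    haveI := Groth.L29.DC.RHom.hasRSheafHom ((Groth.L29.DC.ExtZero.rCx U.ι).obj P)
    obtain ⟨i⟩ := Groth.L29.DC.ExtZero.nonempty_res_RSheafHom U.ι P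
    haveI := (DCoh.RSheafHomAdj ((Groth.L29.DC.ExtZero.rCx U.ι).obj P)).isRightAdjoint
    exact ((DCoh.RSheafHom ((Groth.L29.DC.ExtZero.rCx U.ι).obj P)).map_isZero hE0).of_iso (i.app E)
  obtain ⟨I, i, hI, hi, hiso⟩ := Groth.Lead.SuppFactor.exists_killing U hU
    (Groth.Lead.PCProj.isPerfect_inD (Groth.L16.HomSh.isFinLocFree_unit X)) hH hHU
    ((DCoh.RSheafHomAdj P).homEquiv _ _ γ)
  refine ⟨I, i, hI, ?_, hiso⟩
  apply ((DCoh.RSheafHomAdj P).homEquiv _ _).injective
  rw [Adjunction.homEquiv_naturality_left, hi, Adjunction.homEquiv_unit]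
  haveI : (DCoh.LTensorCx P).IsLeftAdjoint := ⟨_, ⟨DCoh.RSheafHomAdj P⟩⟩
  haveI := preservesBinaryBiproducts_of_preservesBinaryCoproducts (DCoh.LTensorCx P)
  haveI : (DCoh.LTensorCx P).Additive := Functor.additive_of_preservesBinaryBiproducts _
  haveI := (DCoh.RSheafHomAdj P).right_adjoint_additive
  rw [Functor.map_zero, comp_zero]

end Groth.Agent.S7279
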