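import Groth.Statements.S7280
import Groth.Agent.L10.GammaZ.Local
import Groth.Agent.L10.CoprodTriangle
import Groth.Agent.L29.DCoh.QCohColim
import Groth.Agent.L10.HomotopyProd

set_option autoImplicit false
set_option backward.defeqAttrib.useBackward true
set_option backward.isDefEq.respectTransparency false
set_option backward.isDefEq.respectTransparency.types false
set_option backward.defeqAttrib.useBackward true
set_option backward.isDefEq.respectTransparency false
universe u
open CategoryTheory CategoryTheory.Limits AlgebraicGeometry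
attribute [local instance] HasDerivedCategory.standard
open Perf

namespace Groth.Agent.S7280

/-- Let X be a scheme, j : U ⟶ X an open immersion which is quasi-compact, and T = X ∖ U (a closed
subset with retrocompact complement). Assuming the unbounded derived functor RΓ_T = i_* RH_T of
sections with support in T exists on D(O_X): for every family Eᵢ of objects of D_QCoh(O_X) indexed
by a small type whose direct sums ∐ Eᵢ and ∐ RΓ_T(Eᵢ) exist in D(O_X), the canonical map ∐ RΓ_T(Eᵢ)
⟶ RΓ_T(∐ Eᵢ) is an isomorphism. (The published statement is RH_T(⊕ Eᵢ) = ⊕ RH_T(Eᵢ) in D(i⁻¹O_X) for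
the inclusion i : T → X; since i_* identifies D(i⁻¹O_X) with the objects of D(O_X) supported on T
and commutes with direct sums, this is the same assertion for i_* RH_T = RΓ_T.) -/
theorem result {U X : Scheme.{u}} (j : U ⟶ X) [IsOpenImmersion j] [QuasiCompact j]
    [CxOX.HasRgammaZ j] {ι : Type u} (E : ι → DCoh.D X) (hE : ∀ i, DCoh.IsQCohD (E i)) [HasCoproduct E]
    [HasCoproduct (fun i => (CxOX.RgammaZ j).obj (E i))] :
    IsIso (Sigma.desc (fun i => (CxOX.RgammaZ j).map (Sigma.ι E i))) := by
  haveI := Groth.L29.DC.RpushQC.hasRpush j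
  haveI := Groth.L00.Tensor.grothendieckAbelian_modules X
  haveI := Groth.L00.Tensor.grothendieckAbelian_modules U
  haveI := Groth.L10.DerivedProd.hasCoproductsOfShape (A := X.Modules) (ι := ι)
  haveI := Groth.L10.DerivedProd.hasCoproductsOfShape (A := U.Modules) (ι := ι)
  haveI := (Groth.L29.DC.Cpt.restrictRpushAdj j).leftAdjoint_preservesColimits
  choose b c hT using fun i => Groth.L10.GammaZ.exists_triangle j (E i)
  let T := fun i => Pretriangulated.Triangle.mk ((CxOX.RgammaZToId j).app (E i)) (b i) (c i)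
  let a : (∐ fun i => (CxOX.RgammaZ j).obj (E i)) ⟶ ∐ E :=
    Sigma.desc fun i => (CxOX.RgammaZToId j).app (E i) ≫ Sigma.ι E i
  obtain ⟨C, p, q, hS⟩ := Pretriangulated.distinguished_cocone_triangle a
  obtain ⟨eC⟩ := Groth.L10.CoprodTriangle.nonempty_iso T hT _ hS (Iso.refl _) (Iso.refl _)
    (fun i => by simp [T, a])
  have hσ : IsIso (Sigma.desc fun i => (DCoh.Rpush j).map (Sigma.ι (fun i => (DCoh.restrictD j).obj (E i)) i)) :=
    Groth.L29.DC.QCohColim.isIso_sigma_desc j (fun i => (DCoh.restrictD j).obj (E i))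
      fun i => Groth.L29.DC.isQCohD_restrictD j (hE i)
  let e : C ≅ (DCoh.Rpush j).obj (∐ fun i => (DCoh.restrictD j).obj (E i)) :=
    eC.symm ≪≫ @asIso _ _ _ _ (Sigma.desc fun i => (DCoh.Rpush j).map (Sigma.ι (fun i => (DCoh.restrictD j).obj (E i)) i)) hσ
  have hP : IsZero ((DCoh.restrictD j).obj (∐ fun i => (CxOX.RgammaZ j).obj (E i))) := by
    rw [IsZero.iff_id_eq_zero]
    exact Cofan.IsColimit.hom_ext (isColimitOfHasCoproductOfPreservesColimit (DCoh.restrictD j) _) _ _
      fun i => (Groth.L10.GammaZ.isZero_restrict j (E i)).eq_of_src _ _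
  refine Groth.L10.GammaZ.isIso_of_bijective j a ((CxOX.RgammaZToId j).app (∐ E)) _ ?_ hP
    (Groth.L10.GammaZ.isZero_restrict j _)
    (fun hA => Groth.L10.GammaZ.bijective_of_iso j _ hS e hA) (fun hA => Groth.L10.GammaZ.bijective j hA _)
  refine Sigma.hom_ext _ _ fun i => ?_
  simp only [a, Sigma.ι_desc_assoc, Sigma.ι_desc]
  exact (CxOX.RgammaZToId j).naturality (Sigma.ι E i)

end Groth.Agent.S7280
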