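import Groth.Prelude.Def_Dual3
import Mathlib.AlgebraicGeometry.Morphisms.FiniteType
import Groth.Agent.L02.RtrdegFibre

set_option autoImplicit false
set_option linter.style.haveILetI false
namespace RelCyc
end RelCyc
open CategoryTheory CategoryTheory.Limits AlgebraicGeometry Opposite
set_option linter.style.haveILetI false
set_option backward.isDefEq.respectTransparency.types false
set_option backward.isDefEq.respectTransparency false
universe u
open RelCyc

namespace Groth.Agent.S7287

/-- Let f from X to S be locally of finite type, r a natural number and g from S' to S a surjective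
morphism. Let S'' be the fibre product of S' with itself over S (projections p, q), X' the base
change of X along g (structure map f', projection g' to X), and X'' the base change of X along S''
with structure map f'' and the two projections p', q' to X' lying over p and q and compatible with
the projections to X. Let x be a point of X whose residue field has transcendence degree r over that
of f(x). If x1 and x2 are points of X' mapping to x whose residue fields have transcendence degree r
over those of their images in S', then there is a point of X'' whose residue field has transcendence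
degree r over that of its image in S'' and whose two projections are x1 and x2. -/
theorem result {X S S' S'' X' X'' : Scheme.{u}}
    (f : X ⟶ S) [LocallyOfFiniteType f] (r : ℕ) (g : S' ⟶ S) [Surjective g]
    (p q : S'' ⟶ S') (hS : IsPullback p q g g)
    (f' : X' ⟶ S') (g' : X' ⟶ X) (hX : IsPullback g' f' f g)
    (f'' : X'' ⟶ S'') (p' q' : X'' ⟶ X') (hp : IsPullback p' f'' f' p) (hq : IsPullback q' f'' f' q)
    (hpq : p' ≫ g' = q' ≫ g')
    (x : ↥X) (hx : Dual3.resTrdeg f x = r)
    (x₁ x₂ : ↥X') (h₁ : g'.base x₁ = x) (h₂ : g'.base x₂ = x)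
    (hx₁ : Dual3.resTrdeg f' x₁ = r) (hx₂ : Dual3.resTrdeg f' x₂ = r) :
    ∃ x'' : ↥X'', Dual3.resTrdeg f'' x'' = r ∧ p'.base x'' = x₁ ∧ q'.base x'' = x₂ := by
  subst h₁
  haveI : LocallyOfFiniteType f' := MorphismProperty.of_isPullback hX ‹LocallyOfFiniteType f›
  have sq : IsPullback (p' ≫ g') f'' f (p ≫ g) := hp.paste_horiz hX
  haveI : LocallyOfFiniteType f'' := MorphismProperty.of_isPullback sq ‹LocallyOfFiniteType f›
  let e := hS.lift (pullback.fst g' g' ≫ f') (pullback.snd g' g' ≫ f') (by
    rw [Category.assoc, Category.assoc, ← hX.w, ← Category.assoc, ← Category.assoc, pullback.condition])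
  let d := hp.lift (pullback.fst g' g') e (by rw [hS.lift_fst])
  have hd : d ≫ q' = pullback.snd g' g' := by
    apply hX.hom_ext
    · rw [Category.assoc, ← hpq, ← Category.assoc, hp.lift_fst, pullback.condition]
    · rw [Category.assoc, hq.w, ← Category.assoc, hp.lift_snd, hS.lift_snd]
  obtain ⟨w, hw1, hw2⟩ := Scheme.exists_preimage_of_isPullback (IsPullback.of_hasPullback g' g') x₁ x₂ h₂.symm
  have hv1 : p' (d w) = x₁ := by rw [← Scheme.Hom.comp_apply, hp.lift_fst]; exact hw1
  have hv2 : q' (d w) = x₂ := by rw [← Scheme.Hom.comp_apply, hd]; exact hw2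
  obtain ⟨m, hm, hmq, hmf, hmax⟩ := Groth.L02.RtrdegFibre.exists_maxOver (p' ≫ g') f'' (d w)
  have hgm : g' (p' m) = g' x₁ := by
    rw [← hv1, ← Scheme.Hom.comp_apply, hmq, Scheme.Hom.comp_apply]
  have hp1 : p' m = x₁ := by
    refine Groth.L02.RtrdegFibre.eq_of_rtrdeg hX (hx₁.trans hx.symm) (hv1 ▸ hm.map p'.continuous) hgm ?_
    rw [← hv1, ← Scheme.Hom.comp_apply, ← Scheme.Hom.comp_apply, hp.w, Scheme.Hom.comp_apply, Scheme.Hom.comp_apply,
      hmf]
  have hp2 : q' m = x₂ := by
    refine Groth.L02.RtrdegFibre.eq_of_rtrdeg hX (hx₂.trans (by rw [h₂]; exact hx.symm))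
      (hv2 ▸ hm.map q'.continuous) ?_ ?_
    · rw [h₂, ← hgm, ← Scheme.Hom.comp_apply, ← Scheme.Hom.comp_apply, hpq]
    · rw [← hv2, ← Scheme.Hom.comp_apply, ← Scheme.Hom.comp_apply, hq.w, Scheme.Hom.comp_apply, Scheme.Hom.comp_apply,
        hmf]
  refine ⟨m, ?_, hp1, hp2⟩
  refine ((Groth.L02.RtrdegFibre.rtrdeg_of_maxOver sq hmax).trans ?_)
  rw [Scheme.Hom.comp_apply, hp1]
  exact hx

end Groth.Agent.S7287
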