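import Groth.Statements.S7288
import Groth.Agent.L28.ProEt.WeakSerre

set_option autoImplicit false
open CategoryTheory CategoryTheory.Limits AlgebraicGeometry Opposite
universe u
open EtModW

namespace Groth.Agent.S7288

/-- Let X be a scheme and Λ a ring. The essential image of the pullback functor from sheaves of
Λ-modules on the small etale site of X to sheaves of Λ-modules on the small pro-etale site is a weak
Serre subcategory: the kernel and the cokernel of a morphism between objects of the essential image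
lie in it, and an extension of two objects of the essential image lies in it. (Continuity of the
inclusion of the etale site into the pro-etale site is carried as a binder.) -/
theorem result (Λ : Type (u + 1)) [CommRing Λ] (X : Scheme.{u})
    [ProEtS.EpsCont X] :
    (∀ (F G : EtModW.ModP Λ X) (φ : F ⟶ G), (EtModW.epsPullMod Λ X).essImage F →
      (EtModW.epsPullMod Λ X).essImage G →
        (EtModW.epsPullMod Λ X).essImage (kernel φ) ∧ (EtModW.epsPullMod Λ X).essImage (cokernel φ)) ∧
    ∀ (T : ShortComplex (EtModW.ModP Λ X)), T.ShortExact →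
      (EtModW.epsPullMod Λ X).essImage T.X₁ → (EtModW.epsPullMod Λ X).essImage T.X₃ →
        (EtModW.epsPullMod Λ X).essImage T.X₂ := by
  haveI := Groth.L28.ProEt.isWeakSerre_top (A := EtModW.Mod Λ X)
  have h := Groth.L28.ProEt.isWeakSerre_mod Λ X ⊤
  have hc : ∀ F : EtModW.ModP Λ X, (∃ G : EtModW.Mod Λ X, (⊤ : ObjectProperty (EtModW.Mod Λ X)) G ∧
      Nonempty ((EtModW.epsPullMod Λ X).obj G ≅ F)) ↔ (EtModW.epsPullMod Λ X).essImage F :=
    fun F => ⟨fun ⟨G, _, e⟩ => ⟨G, e⟩, fun ⟨G, e⟩ => ⟨G, trivial, e⟩⟩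
  let P : ObjectProperty (EtModW.ModP Λ X) := fun F => ∃ G : EtModW.Mod Λ X,
    (⊤ : ObjectProperty (EtModW.Mod Λ X)) G ∧ Nonempty ((EtModW.epsPullMod Λ X).obj G ≅ F)
  haveI : WSerre.IsWeakSerre P := h
  refine ⟨fun F G φ hF hG => ⟨(hc _).1 (P.prop_kernel φ ((hc _).2 hF) ((hc _).2 hG)),
    (hc _).1 (P.prop_cokernel φ ((hc _).2 hF) ((hc _).2 hG))⟩, fun T hT h1 h3 =>
    (hc _).1 (P.prop_X₂_of_shortExact hT ((hc _).2 h1) ((hc _).2 h3))⟩

end Groth.Agent.S7288
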