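import Groth.Statements.S7292
import Groth.Agent.L23.VRefine.System

set_option backward.isDefEq.respectTransparency false
set_option backward.isDefEq.respectTransparency.types false
-- import your own Groth.Agent.* helpers here

set_option autoImplicit false
open CategoryTheory CategoryTheory.Limits AlgebraicGeometry Opposite
universe w u
open HTop

namespace Groth.Agent.S7292

/-- Let f be a morphism of affine schemes from X to Y. The following are equivalent: (1) the one-member
family given by f is a standard V covering; (2) X (with f) is the limit, as a scheme over Y, of a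
cofiltered system of affine schemes X_i over Y such that each one-member family X_i over Y is a ph
covering; (3) the same with each X_i over Y an h covering. -/
theorem result {X Y : Scheme.{u}} [IsAffine X] [IsAffine Y] (f : X ⟶ Y) :
    List.TFAE
      [HTop.IsStandardV (PreZeroHypercover.singleton.{w} f),
       ∃ (I : Type u) (_ : SmallCategory I) (_ : IsCofiltered I) (D : I ⥤ Over Y) (c : Cone D)
          (_ : IsLimit ((Over.forget Y).mapCone c)) (_ : c.pt ≅ Over.mk f),
          (∀ i, IsAffine (D.obj i).left) ∧ ∀ i, HTop.IsPhCover (PreZeroHypercover.singleton.{w} (D.obj i).hom),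
       ∃ (I : Type u) (_ : SmallCategory I) (_ : IsCofiltered I) (D : I ⥤ Over Y) (c : Cone D)
          (_ : IsLimit ((Over.forget Y).mapCone c)) (_ : c.pt ≅ Over.mk f),
          (∀ i, IsAffine (D.obj i).left) ∧ ∀ i, HTop.IsHCover (PreZeroHypercover.singleton.{w} (D.obj i).hom)] := by
  tfae_have 1 → 3 := fun h => Groth.L23.VRefine.exists_system f h
  tfae_have 3 → 2 := by
    rintro ⟨I, _, _, D, c, hc, e, hD, hh⟩
    exact ⟨I, _, inferInstance, D, c, hc, e, hD, fun i => (Groth.Agent.S8976.result _ (hh i).1).2 (hh i).2⟩
  tfae_have 2 → 1 := by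
    rintro ⟨I, _, _, D, c, hc, e, hD, hh⟩
    refine ⟨‹IsAffine Y›, inferInstanceAs (Finite PUnit), fun _ => ‹IsAffine X›, fun V _ _ g => ?_⟩
    obtain ⟨W, iW, iW', φ, hφ, g', hg'⟩ := Groth.L23.VRefine.hasValLift_of_limit D c hc hD hh V g
    refine ⟨W, iW, iW', φ, hφ, PUnit.unit, g' ≫ e.hom.left, ?_⟩
    show (g' ≫ e.hom.left) ≫ f = _
    rw [Category.assoc]
    erw [Over.w e.hom]
    exact hg'
  tfae_finish

end Groth.Agent.S7292
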