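import Groth.Statements.S7296
import Mathlib.CategoryTheory.Sites.CoverLifting
import Mathlib.CategoryTheory.Sites.DenseSubsite.InducedTopology
import Mathlib.CategoryTheory.Adjunction.Triple
import Mathlib.Algebra.Category.Grp.Limits
import Mathlib.Algebra.Homology.ShortComplex.ExactFunctor
-- import your own Groth.Agent.* helpers here

set_option autoImplicit false
open CategoryTheory CategoryTheory.Limits AlgebraicGeometry Opposite
universe u
open ProEtS

namespace Groth.Agent.S7296

set_option backward.isDefEq.respectTransparency.types false in
theorem isZero_rightDerived_of_exact {C D : Type*} [Category C] [Category D] [Abelian C] [Abelian D]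
    [HasInjectiveResolutions C] (F : C ⥤ D) [F.Additive] [PreservesFiniteLimits F] [PreservesFiniteColimits F]
    (X : C) (q : ℕ) (hq : 0 < q) : IsZero ((F.rightDerived q).obj X) := by
  let I := injectiveResolution X
  refine IsZero.of_iso ?_ (I.isoRightDerivedObj F q)
  obtain ⟨m, rfl⟩ := Nat.exists_eq_succ_of_ne_zero hq.ne'
  exact (HomologicalComplex.exactAt_iff_isZero_homology _ _).mp
    ((I.cocomplex_exactAt_succ m).map F)

set_option backward.isDefEq.respectTransparency.types false in
/-- For an abelian sheaf F on the small pro-etale site of a scheme S: write u for the inclusion of the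
small pro-etale site into the big pro-etale site of S (schemes over S with the pro-etale topology),
u_s for pullback of abelian sheaves along u (left adjoint to the restriction u^s). Then the unit F →
u^s u_s F is an isomorphism and R^q u^s (u_s F) = 0 for every q > 0; together these say that F → R
u^s (u_s F) is an isomorphism. (Additivity of the restriction functor and the existence of injective
resolutions for abelian sheaves on the big pro-etale site, both of which hold, are recorded as
instance hypotheses.) -/
theorem result (S : Scheme.{u})
    [((Scheme.ProEt.forget S).sheafPushforwardContinuous AddCommGrpCat.{u + 1} (Scheme.ProEt.topology S)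
      (Scheme.proetaleTopology.over S)).Additive]
    [HasInjectiveResolutions (Sheaf (Scheme.proetaleTopology.over S) AddCommGrpCat.{u + 1})]
    (F : ProEtS.AbP S) :
    IsIso (((Scheme.ProEt.forget S).sheafAdjunctionContinuous AddCommGrpCat.{u + 1}
      (Scheme.ProEt.topology S) (Scheme.proetaleTopology.over S)).unit.app F) ∧
    ∀ q : ℕ, 0 < q →
      IsZero ((((Scheme.ProEt.forget S).sheafPushforwardContinuous AddCommGrpCat.{u + 1}
        (Scheme.ProEt.topology S) (Scheme.proetaleTopology.over S)).rightDerived q).obj
        (((Scheme.ProEt.forget S).sheafPullback AddCommGrpCat.{u + 1} (Scheme.ProEt.topology S)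
          (Scheme.proetaleTopology.over S)).obj F)) := by
  let u := Scheme.ProEt.forget S
  haveI : u.IsCocontinuous (Scheme.ProEt.topology S) (Scheme.proetaleTopology.over S) := by
    have e : Scheme.ProEt.topology S = u.restrictedTopology (Scheme.proetaleTopology.over S) :=
      MorphismProperty.toGrothendieck_comap_forget_eq_restrictedTopology _
        Scheme.proetalePrecoverage_le_precoverage_weaklyEtale
    rw [e]
    infer_instance
  let t : Adjunction.Triple (u.sheafPullback AddCommGrpCat.{u + 1} (Scheme.ProEt.topology S) (Scheme.proetaleTopology.over S))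
      (u.sheafPushforwardContinuous AddCommGrpCat.{u + 1} (Scheme.ProEt.topology S) (Scheme.proetaleTopology.over S))
      (u.sheafPushforwardCocontinuous AddCommGrpCat.{u + 1} (Scheme.ProEt.topology S) (Scheme.proetaleTopology.over S)) :=
    ⟨u.sheafAdjunctionContinuous _ _ _, u.sheafAdjunctionCocontinuous _ _ _⟩
  haveI : ∀ G, IsIso ((u.sheafAdjunctionCocontinuous AddCommGrpCat.{u + 1} (Scheme.ProEt.topology S)
      (Scheme.proetaleTopology.over S)).counit.app G) := fun G => by
    haveI : IsIso ((sheafToPresheaf _ _).map ((u.sheafAdjunctionCocontinuous AddCommGrpCat.{u + 1} (Scheme.ProEt.topology S)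
        (Scheme.proetaleTopology.over S)).counit.app G)) := by
      show IsIso ((u.sheafAdjunctionCocontinuous AddCommGrpCat.{u + 1} (Scheme.ProEt.topology S)
        (Scheme.proetaleTopology.over S)).counit.app G).hom
      rw [Functor.sheafAdjunctionCocontinuous_counit_app_hom]
      haveI : (Scheme.ProEt.forget S).op.Full := inferInstance
      haveI : (Scheme.ProEt.forget S).op.Faithful := inferInstance
      exact inferInstanceAs (IsIso (((Scheme.ProEt.forget S).op.ranAdjunction AddCommGrpCat.{u + 1}).counit.app G.obj))
    exact isIso_of_fully_faithful (sheafToPresheaf _ _) _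
  haveI h2 : IsIso t.adj₂.counit := NatIso.isIso_of_isIso_app _
  haveI := t.isIso_unit_iff_isIso_counit.mpr h2
  haveI := t.adj₁.rightAdjoint_preservesLimits
  haveI := t.adj₂.leftAdjoint_preservesColimits
  exact ⟨inferInstanceAs (IsIso (t.adj₁.unit.app F)), fun q hq => isZero_rightDerived_of_exact _ _ q hq⟩

end Groth.Agent.S7296
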