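import Groth.Statements.S7299
import Groth.Agent.S7298
import Groth.Agent.L05.RatPow.Main

set_option autoImplicit false
universe u
open CategoryTheory CategoryTheory.Limits AlgebraicGeometry
open Resolve

namespace Groth.Agent.S7299
set_option backward.isDefEq.respectTransparency false
set_option backward.isDefEq.respectTransparency.types false
set_option linter.style.haveILetI false

/-- Let (A, m) be a local normal Nagata domain of dimension two defining a rational singularity, f : X →
Spec A a proper morphism from an integral normal scheme which is an isomorphism over some nonempty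
open, and suppose the closed fibre, with ideal sheaf I = m O_X, is an effective Cartier divisor.
Then for every n ≥ 0, H^1(X, I^n) = 0 and H^0(X, I^n) = m^n: an element of A, viewed as a global
function on X, lies in I^n on every affine open if and only if it belongs to m^n. -/
theorem result (A : Type u) [CommRing A] [IsDomain A] [IsLocalRing A] [IsNoetherianRing A]
    [IsIntegrallyClosed A] (hN : CAlg.IsNagata A) (hdim : ringKrullDim A = 2) (hA : Curv2.IsRationalSing A)
    (X : Scheme.{u}) (f : X ⟶ Spec (CommRingCat.of A)) [IsProper f] [IsIntegral X] (hXn : Pi1.IsNormalScheme X)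
    (hbir : ∃ U : (Spec (CommRingCat.of A)).Opens, (U : Set (Spec (CommRingCat.of A))).Nonempty ∧ IsIso (f ∣_ U))
    (hE : BlowUp.IsEffCartierIdeal ((Curv2.idealSheaf A (IsLocalRing.maximalIdeal A)).comap f)) (n : ℕ) :
    Subsingleton (Coh.HH X (ClSub.idealMod (((Curv2.idealSheaf A (IsLocalRing.maximalIdeal A)).comap f) ^ n)) 1) ∧
      ∀ a : A, (∀ U : X.affineOpens,
          Coh.resTop X (Opposite.op U.1) (Coh.toGlobal f a) ∈ (((Curv2.idealSheaf A (IsLocalRing.maximalIdeal A)).comap f) ^ n).ideal U) ↔
        a ∈ IsLocalRing.maximalIdeal A ^ n := by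
  refine ⟨Groth.Agent.S7298.result A hN hdim hA X f hXn hbir _ (Groth.L18.IdealModule.isQCoh_idealMod _)
    (Groth.L05.RatPow.isGloballyGenerated_idealMod f n), fun a => ⟨fun h => ?_, fun h U => ?_⟩⟩
  · refine Groth.L05.RatPow.mem_pow_of_forall f (fun G hG hgg => Groth.Agent.S7298.result A hN hdim hA X f hXn hbir G hG hgg)
      hbir hE n a fun x => ?_
    obtain ⟨_, ⟨V, hV, rfl⟩, hxV, -⟩ := X.isBasis_affineOpens.exists_subset_of_mem_open (Set.mem_univ x) isOpen_univ
    rw [← Groth.L05.RatPow.map_germ f n ⟨V, hV⟩ x hxV]
    have h1 := Ideal.mem_map_of_mem (X.presheaf.germ V x hxV).hom (h ⟨V, hV⟩)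
    convert h1 using 1
    exact (congr($(X.presheaf.germ_res (homOfLE (le_top : V ≤ ⊤)) x hxV) (Coh.toGlobal f a))).symm
  · rw [Scheme.IdealSheafData.ideal_pow, Pi.pow_apply, Groth.L20.AffBlow.ideal_comap_idealSheaf, ← Ideal.map_pow]
    exact Ideal.mem_map_of_mem _ h

end Groth.Agent.S7299
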