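import Groth.Statements.S7301
import Groth.Agent.L05.RatPow.CplNormal
import Groth.Agent.L01.CompletionReg
import Groth.Agent.L13.RatSing.Birat
import Groth.Agent.S11555
import Groth.Agent.S1274
import Groth.Agent.S7338

set_option autoImplicit false
universe u
open CategoryTheory CategoryTheory.Limits AlgebraicGeometry
open Resolve

namespace Groth.Agent.S7301

set_option backward.isDefEq.respectTransparency false
set_option backward.isDefEq.respectTransparency.types false
set_option backward.isDefEq.respectTransparency false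
set_option backward.isDefEq.respectTransparency.types false
set_option linter.style.haveILetI false

/-- Let (A, m) be a Nagata local normal domain of dimension two which defines a rational singularity,
and assume the m-adic completion of A is a normal domain. Then the completion defines a rational
singularity as well. -/
theorem result (A : Type u) [CommRing A] [IsDomain A] [IsLocalRing A] [IsNoetherianRing A]
    [IsIntegrallyClosed A] (hN : CAlg.IsNagata A) (hdim : ringKrullDim A = 2) (hA : Curv2.IsRationalSing A)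
    [IsDomain (Curv2.cpl A)] [IsIntegrallyClosed (Curv2.cpl A)] : Curv2.IsRationalSing (Curv2.cpl A) := by
  intro Y fY hp hi hn hb
  haveI := hp
  haveI := hi
  haveI : IsNoetherianRing (Curv2.cpl A) := Groth.L01.AnalUnram.isNoetherianRing_completion A
  haveI : Module.FaithfullyFlat A (Curv2.cpl A) := Groth.L06.NormalAscent.faithfullyFlat_cpl A
  have hι := Groth.L05.RatPow.isCplMap_algebraMap (A := A)
  have hdimB : ringKrullDim (Curv2.cpl A) = 2 := (Groth.L01.CompletionReg.ringKrullDim_completion A).trans hdim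
  let S := Spec (CommRingCat.of (Curv2.cpl A))
  have hS : Pi1.IsNormalScheme S := Groth.L05.NeronFinite.isNormalScheme_spec fun P _ =>
    ⟨inferInstance, isIntegrallyClosed_of_isLocalization _ P.primeCompl P.primeCompl_le_nonZeroDivisors⟩
  obtain ⟨U₀, hU₀, hU₀i⟩ := id hb
  haveI := hU₀i
  obtain ⟨hξ, hbij⟩ := Groth.L13.RatSing.birational_of_isIso_restrict fY U₀ hU₀
  obtain ⟨V, hVi, -, hV⟩ := Groth.Agent.S11555.result fY hS hξ hbij
  haveI := hVi
  have hclosed : ∀ p : S, p ∉ (V : Set S) → p = IsLocalRing.closedPoint (Curv2.cpl A) := fun p hp => by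
    by_contra hne
    have h1 := Groth.L03.BlowPt.Factor.dim_add_one_le (IsLocalRing.specializes_closedPoint p) hne
    have h2 : ringKrullDim (S.presheaf.stalk (IsLocalRing.closedPoint (Curv2.cpl A))) ≤ 2 := by
      refine (Groth.L15.CohFlat.ringKrullDim_stalk_le (X := S) (IsLocalRing.closedPoint (Curv2.cpl A))).trans ?_
      rw [← hdimB]
      exact le_of_eq (PrimeSpectrum.topologicalKrullDim_eq_ringKrullDim _)
    exact absurd (((add_le_add (hV p hp) le_rfl).trans h1).trans h2) (by decide)
  obtain ⟨𝓙, S', b, hbl, hadm, h, hh⟩ := Groth.Agent.S1274.result fY V (TopologicalSpace.NoetherianSpace.isCompact _)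
  let σ := (Scheme.ΓSpecIso (CommRingCat.of (Curv2.cpl A))).inv.hom
  let J' : Ideal (Curv2.cpl A) := (𝓙.ideal ⟨⊤, isAffineOpen_top _⟩).comap σ
  have hJ' : Groth.L13.BU.idealOf J' = 𝓙 := by
    refine Scheme.IdealSheafData.ext_of_isAffine ?_
    rw [Groth.L13.BU.idealOf_top]
    exact Ideal.map_comap_of_surjective σ
      (ConcreteCategory.bijective_of_isIso (Scheme.ΓSpecIso (CommRingCat.of (Curv2.cpl A))).inv).2 _
  have hrad : IsLocalRing.maximalIdeal (Curv2.cpl A) ≤ J'.radical := by
    rw [Ideal.radical_eq_sInf]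
    refine le_sInf fun p hp => ?_
    have hmem : (⟨p, hp.2⟩ : S) ∈ (𝓙.support : Set S) := by
      rw [← hJ', SetLike.mem_coe, Scheme.IdealSheafData.mem_support_iff_of_mem (U := ⟨⊤, isAffineOpen_top _⟩) (Set.mem_univ _),
        Groth.L13.BU.idealOf_top, Scheme.mem_zeroLocus_iff]
      intro s hs
      obtain ⟨r, hr, rfl⟩ := (Ideal.mem_map_iff_of_surjective _
        (ConcreteCategory.bijective_of_isIso (Scheme.ΓSpecIso (CommRingCat.of (Curv2.cpl A))).inv).2).1 hs
      rw [basicOpen_eq_of_affine]
      exact not_not.2 (hp.1 hr)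
    exact (congrArg PrimeSpectrum.asIdeal (hclosed _ fun hV => Set.disjoint_left.1 hadm.2 hmem hV)).ge
  obtain ⟨N, hN'⟩ := Ideal.exists_pow_le_of_le_radical_of_fg hrad (IsNoetherian.noetherian _)
  let J := J'.comap (algebraMap A (Curv2.cpl A))
  have hmJ : IsLocalRing.maximalIdeal A ^ N ≤ J :=
    Ideal.map_le_iff_le_comap.1 ((hι.map_pow N).trans_le hN')
  have hJJ : J.map (algebraMap A (Curv2.cpl A)) = J' := by
    refine le_antisymm Ideal.map_comap_le fun y hy => ?_
    obtain ⟨r, hr⟩ := hι.approx N y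
    have hrJ : r ∈ J := by
      show algebraMap A (Curv2.cpl A) r ∈ J'
      simpa using sub_mem hy (hN' hr)
    have h1 : y - algebraMap A (Curv2.cpl A) r ∈ J.map (algebraMap A (Curv2.cpl A)) :=
      Ideal.map_mono hmJ ((hι.map_pow N).ge hr)
    simpa using add_mem h1 (Ideal.mem_map_of_mem (algebraMap A (Curv2.cpl A)) hrJ)
  have hJne : J ≠ ⊥ := fun hbot => by
    have h0 := le_bot_iff.1 (hbot ▸ hmJ)
    rcases Nat.eq_zero_or_pos N with rfl | hpos
    · rw [pow_zero, Ideal.one_eq_top] at h0
      exact top_ne_bot h0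
    · have hf : IsField A := IsLocalRing.isField_iff_maximalIdeal_eq.2 (eq_zero_of_pow_eq_zero h0)
      rw [ringKrullDim_eq_zero_of_isField hf] at hdim
      exact absurd hdim (by decide)
  have hap : ∀ n (y : Curv2.cpl A), ∃ r, y - algebraMap A (Curv2.cpl A) r ∈ (J ^ n).map (algebraMap A (Curv2.cpl A)) :=
    fun n y => by
      obtain ⟨r, hr⟩ := hι.approx (N * n) y
      refine ⟨r, ?_⟩
      have h1 := (hι.map_pow (N * n)).ge hr
      rw [pow_mul] at h1
      exact Ideal.map_mono (Ideal.pow_right_mono hmJ n) h1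
  obtain ⟨Z, f, hfp, hZi, hZn, hfb, hcart, hZ'i, hZ'n, hZ'b⟩ :=
    Groth.L05.RatPow.exists_normal_modification (B := Curv2.cpl A) hN hJne hap
  haveI := hfp
  haveI := hA Z f hfp hZi hZn hfb
  let g := pullback.fst f (Spec.map (CommRingCat.ofHom (algebraMap A (Curv2.cpl A))))
  let f' := pullback.snd f (Spec.map (CommRingCat.ofHom (algebraMap A (Curv2.cpl A))))
  have hsq : IsPullback g f' f (Spec.map (CommRingCat.ofHom (algebraMap A (Curv2.cpl A)))) :=
    IsPullback.of_hasPullback _ _
  haveI : Flat (Spec.map (CommRingCat.ofHom (algebraMap A (Curv2.cpl A)))) :=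
    (HasRingHomProperty.Spec_iff (P := @Flat)).2 (RingHom.flat_algebraMap_iff.2 inferInstance)
  haveI : Flat g := MorphismProperty.of_isPullback hsq.flip inferInstance
  have hcart' : BlowUp.IsEffCartierIdeal (𝓙.comap f') := by
    have h1 : (Groth.L13.BU.idealOf J).comap (Spec.map (CommRingCat.ofHom (algebraMap A (Curv2.cpl A)))) = 𝓙 := by
      refine Scheme.IdealSheafData.ext_of_isAffine ?_
      rw [Groth.L13.BU.comap_SpecMap, hJJ, ← hJ', Groth.L13.BU.idealOf_top]
    rw [← h1, ← Scheme.IdealSheafData.comap_comp, ← hsq.w, Scheme.IdealSheafData.comap_comp]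
    exact Groth.L22.Ideals.isEffCartier_comap_of_flat g hcart
  obtain ⟨k, hk, -⟩ := hbl.2 _ f' hcart'
  let Z' : Scheme.{u} := pullback f (Spec.map (CommRingCat.ofHom (algebraMap A (Curv2.cpl A))))
  haveI : IsIntegral Z' := hZ'i
  haveI hfsub : Subsingleton (Coh.HH Z' (Coh.structureModule Z') 1) := by
    haveI : IsLocallyNoetherian Z := LocallyOfFiniteType.isLocallyNoetherian f
    haveI : Coh.IsQCoh (Coh.structureModule Z) := Groth.L16.CohClosedPush.isCoh_structure.1
    obtain ⟨E⟩ := Groth.L16.Rees.exists_flat_bc_equiv f f' g hsq (Coh.structureModule Z) 1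
    haveI : Subsingleton (Coh.HH Z' ((Scheme.Modules.pullback g).obj (Coh.structureModule Z)) 1) := by
      letI : Module A (Coh.HH Z (Coh.structureModule Z) 1) := Module.compHom _ (Coh.toGlobal f)
      exact E.symm.toEquiv.subsingleton
    exact Function.Surjective.subsingleton (f := Groth.L16.CohLinear.hmap (Groth.L29.LocFree.pullbackUnitIso g).hom 1)
      fun v => ⟨Groth.L16.CohLinear.hmap (Groth.L29.LocFree.pullbackUnitIso g).inv 1 v, by
        rw [← Groth.L16.CohLinear.hmap_comp, Iso.inv_hom_id, Groth.L16.CohLinear.hmap_id]⟩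
  letI : Y.Over (Spec (CommRingCat.of (Curv2.cpl A))) := ⟨fY⟩
  letI : Z'.Over (Spec (CommRingCat.of (Curv2.cpl A))) := ⟨f'⟩
  haveI : IsProper (Y ↘ Spec (CommRingCat.of (Curv2.cpl A))) := hp
  haveI : IsProper (Z' ↘ Spec (CommRingCat.of (Curv2.cpl A))) := MorphismProperty.of_isPullback hsq (inferInstanceAs (IsProper f))
  haveI := Groth.L17.PushQCoh.hasInjectiveResolutions Z'
  obtain ⟨-, -, -, hlen⟩ := Groth.Agent.S7338.result (Curv2.cpl A) hdimB Y Z' hb hZ'b hn (k ≫ h)
    (by show (k ≫ h) ≫ fY = _; rw [Category.assoc, hh, hk]; rfl)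
  rw [Module.length_eq_zero] at hlen
  rw [← Module.length_eq_zero_iff (R := Curv2.cpl A)]
  exact (add_eq_zero.1 hlen.symm).1

end Groth.Agent.S7301
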