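import Groth.Statements.S7302
import Groth.Agent.L05.RatPow.Exc
import Groth.Agent.L05.RatPow.Completion

set_option autoImplicit false
universe u
open CategoryTheory CategoryTheory.Limits AlgebraicGeometry
open Resolve

namespace Groth.Agent.S7302
set_option backward.isDefEq.respectTransparency false
set_option backward.isDefEq.respectTransparency.types false
set_option linter.style.haveILetI false

/-- Let (A, m) be a Nagata local normal domain of dimension two which defines a rational singularity and
whose m-adic completion is a normal domain, and let b : X → Spec A be the blowing up in m. Then for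
every closed point x of X the completion of the local ring O_{X,x} at its maximal ideal is a normal
domain. -/
theorem result (A : Type u) [CommRing A] [IsDomain A] [IsLocalRing A] [IsNoetherianRing A]
    [IsIntegrallyClosed A] (hN : CAlg.IsNagata A) (hdim : ringKrullDim A = 2) (hA : Curv2.IsRationalSing A)
    [IsDomain (Curv2.cpl A)] [IsIntegrallyClosed (Curv2.cpl A)]
    (X : Scheme.{u}) (b : X ⟶ Spec (CommRingCat.of A)) (hb : BlowUp.IsBlowUp b (Curv2.idealSheaf A (IsLocalRing.maximalIdeal A)))
    (x : X) (hx : IsClosed ({x} : Set X)) :
    IsDomain (Curv2.cpl (X.presheaf.stalk x)) ∧ IsIntegrallyClosed (Curv2.cpl (X.presheaf.stalk x)) := by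
  haveI : IsDomain (EGA4.Cpl A) := (inferInstance : IsDomain (Curv2.cpl A))
  haveI : IsIntegrallyClosed (EGA4.Cpl A) := (inferInstance : IsIntegrallyClosed (Curv2.cpl A))
  haveI : IsProper b := (Groth.L05.RatPow.blowUp_props b hdim hb).2.1
  exact Groth.L05.RatPow.normal_cpl_stalk Groth.L05.RatPow.isCplMap_algebraMap
    (Groth.Agent.S2652.result (EGA4.Cpl A)) (Groth.L05.RatPow.mem_pow_of_integralOverPow hN hdim hA) b hb x hx

end Groth.Agent.S7302
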