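import Groth.Statements.S7306
import Groth.Agent.L05.PtChain.Geo.Alteration

set_option autoImplicit false
universe u
open CategoryTheory CategoryTheory.Limits AlgebraicGeometry
open Resolve

namespace Groth.Agent.S7306
set_option backward.isDefEq.respectTransparency false
set_option backward.isDefEq.respectTransparency.types false
set_option linter.style.haveILetI false

/-- Let Y be an integral Noetherian scheme of dimension two. Then (1) there is an alteration X → Y with
X regular, if and only if (2) Y has a resolution of singularities, i.e. a proper morphism X → Y from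
an integral regular scheme which is an isomorphism over a nonempty open of Y; and (2) holds if and
only if (4) the normalization Y' → Y is finite, Y' has finitely many non-regular points, and at each
non-regular point of Y' the completion of the local ring is a normal domain. (The published
statement lists a further equivalent condition, resolution by a finite sequence of normalized
blowings up in closed points; this row does not include it, and it is stated separately. The
quasi-compactness and quasi-separatedness binders on Spec K(Y) → Y always hold; they are needed only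
to form the normalization.) -/
theorem result (Y : Scheme.{u}) [IsIntegral Y] [IsNoetherian Y]
    (hdim : topologicalKrullDim Y = 2)
    [QuasiCompact (Y.fromSpecStalk (genericPoint Y))] [QuasiSeparated (Y.fromSpecStalk (genericPoint Y))] :
    ((∃ (X : Scheme.{u}) (g : X ⟶ Y), Curv2.IsAlteration g ∧ ∀ x : X, IsRegularLocalRing (X.presheaf.stalk x)) ↔
      (∃ (X : Scheme.{u}) (g : X ⟶ Y), IsProper g ∧ IsIntegral X ∧
        (∃ V : Y.Opens, (V : Set Y).Nonempty ∧ IsIso (g ∣_ V)) ∧ ∀ x : X, IsRegularLocalRing (X.presheaf.stalk x))) ∧
    ((∃ (X : Scheme.{u}) (g : X ⟶ Y), IsProper g ∧ IsIntegral X ∧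
        (∃ V : Y.Opens, (V : Set Y).Nonempty ∧ IsIso (g ∣_ V)) ∧ ∀ x : X, IsRegularLocalRing (X.presheaf.stalk x)) ↔
      (IsFinite (Curv2.normalizationι Y) ∧
        {y : ↥(Curv2.normalization Y) | ¬ IsRegularLocalRing ((Curv2.normalization Y).presheaf.stalk y)}.Finite ∧
        ∀ y : ↥(Curv2.normalization Y), ¬ IsRegularLocalRing ((Curv2.normalization Y).presheaf.stalk y) →
          IsDomain (Curv2.cpl ((Curv2.normalization Y).presheaf.stalk y)) ∧
          IsIntegrallyClosed (Curv2.cpl ((Curv2.normalization Y).presheaf.stalk y)))) := by
  have h1 : (∃ (X : Scheme.{u}) (g : X ⟶ Y), IsProper g ∧ IsIntegral X ∧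
      (∃ V : Y.Opens, (V : Set Y).Nonempty ∧ IsIso (g ∣_ V)) ∧ ∀ x : X, IsRegularLocalRing (X.presheaf.stalk x)) →
      ∃ (X : Scheme.{u}) (g : X ⟶ Y), Curv2.IsAlteration g ∧ ∀ x : X, IsRegularLocalRing (X.presheaf.stalk x) := by
    rintro ⟨X, g, hg, hX, ⟨V, hV, hiso⟩, hreg⟩
    haveI := hg; haveI := hX; haveI := hiso
    exact ⟨X, g, Groth.L05.PtChain.isAlteration_of_resolution Y g hV, hreg⟩
  constructor
  · refine ⟨?_, h1⟩
    rintro ⟨X, g, hg, hreg⟩
    obtain ⟨ha, hb, hc⟩ := Groth.L05.PtChain.normalization_of_alteration Y hdim.le g hg hreg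
    haveI := ha
    exact Groth.L05.PtChain.resolution_of_normalization Y hdim.le hb hc
  · refine ⟨fun h => ?_, fun ⟨ha, hb, hc⟩ => ?_⟩
    · obtain ⟨X, g, hg, hreg⟩ := h1 h
      exact Groth.L05.PtChain.normalization_of_alteration Y hdim.le g hg hreg
    · haveI := ha
      exact Groth.L05.PtChain.resolution_of_normalization Y hdim.le hb hc

end Groth.Agent.S7306
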