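import Groth.Statements.S7308
import Groth.Agent.L13.Contraction.Universal

set_option autoImplicit false
universe u
open CategoryTheory CategoryTheory.Limits AlgebraicGeometry
open Resolve

namespace Groth.Agent.S7308

/-- Let X be a Noetherian scheme and ι : E → X a closed immersion which is an exceptional curve of the
first kind. A contraction of E, if it exists, is unique up to unique isomorphism: for contractions
b₁ : X → X₁ and b₂ : X → X₂ of E there is a unique isomorphism e : X₁ ≅ X₂ with b₁ ≫ e = b₂. -/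
theorem result {E X X₁ X₂ : Scheme.{u}} [IsNoetherian X] (ι : E ⟶ X) [IsClosedImmersion ι]
    (hE : Models.IsExcCurve ι) (b₁ : X ⟶ X₁) (hb₁ : Models.IsContractionOf ι b₁) (b₂ : X ⟶ X₂) (hb₂ : Models.IsContractionOf ι b₂) :
    ∃! e : X₁ ≅ X₂, b₁ ≫ e.hom = b₂ := by
  obtain ⟨y₁, hy₁, h₁⟩ := hb₁.2.2
  obtain ⟨y₂, hy₂, h₂⟩ := hb₂.2.2
  obtain ⟨f, hf, hfu⟩ := Groth.L13.Contraction.existsUnique_desc hE b₁ hb₁ b₂ y₂ h₂.1
  obtain ⟨g, hg, -⟩ := Groth.L13.Contraction.existsUnique_desc hE b₂ hb₂ b₁ y₁ h₁.1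
  obtain ⟨u₁, -, hu₁⟩ := Groth.L13.Contraction.existsUnique_desc hE b₁ hb₁ b₁ y₁ h₁.1
  obtain ⟨u₂, -, hu₂⟩ := Groth.L13.Contraction.existsUnique_desc hE b₂ hb₂ b₂ y₂ h₂.1
  change b₁ ≫ f = b₂ at hf
  change b₂ ≫ g = b₁ at hg
  refine ⟨⟨f, g, (hu₁ (f ≫ g) ?_).trans (hu₁ (𝟙 X₁) (Category.comp_id b₁)).symm,
    (hu₂ (g ≫ f) ?_).trans (hu₂ (𝟙 X₂) (Category.comp_id b₂)).symm⟩, hf, fun e he => Iso.ext (hfu _ he)⟩
  · show b₁ ≫ f ≫ g = b₁
    rw [reassoc_of% hf, hg]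
  · show b₂ ≫ g ≫ f = b₂
    rw [reassoc_of% hg, hf]

end Groth.Agent.S7308
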