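import Groth.Statements.S7318
import Groth.Agent.L26.NumType.Basic
import Mathlib.Combinatorics.SimpleGraph.Acyclic
import Mathlib.Data.Sym.Card

set_option autoImplicit false
open Finset
open Models Models.NumericalType

namespace Groth.Agent.S7318

/-- For a numerical type T on n indices with e pairs i < j such that a_ij > 0, the topological genus 1 -
n + e is ≥ 0. -/
theorem result {n : ℕ} (T : Models.NumericalType n) : 0 ≤ T.topGenus := by
  classical
  let G : SimpleGraph (Fin n) := SimpleGraph.fromRel fun i j => 0 < T.a i j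
  have hadj : ∀ i j, G.Adj i j ↔ i ≠ j ∧ 0 < T.a i j := fun i j => by
    simp only [G, SimpleGraph.fromRel_adj, Groth.L26.NumType.a_symm T j i, or_self]
  have hne : Nonempty (Fin n) := ⟨⟨0, T.pos⟩⟩
  have hconn : G.Connected := by
    refine ⟨fun u v => ?_⟩
    by_contra hc
    obtain ⟨i, hi, j, hj, hij⟩ := T.connected (univ.filter fun x => G.Reachable u x)
      ⟨u, by simp⟩ (fun e => hc (by
        have := e ▸ mem_univ v
        exact (mem_filter.1 this).2))
    simp only [mem_filter, mem_univ, true_and] at hi hj
    have hne' : i ≠ j := fun e => hj (e ▸ hi)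
    exact hj (hi.trans (SimpleGraph.Adj.reachable ((hadj i j).2
      ⟨hne', lt_of_le_of_ne (T.offDiag_nonneg i j hne') (Ne.symm hij)⟩)))
  have h := hconn.card_vert_le_card_edgeSet_add_one
  have hE : Nat.card G.edgeSet ≤ T.edgeCount := by
    let S := univ.filter fun p : Fin n × Fin n => p.1 < p.2 ∧ 0 < T.a p.1 p.2
    have hsub : G.edgeSet ⊆ (fun p => s(p.1, p.2)) '' (S : Set (Fin n × Fin n)) := by
      intro e
      induction e using Sym2.ind with
      | _ a b =>
        intro he
        rw [SimpleGraph.mem_edgeSet, hadj] at he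
        rcases lt_or_gt_of_ne he.1 with hlt | hlt
        · exact ⟨(a, b), by simp [S, hlt, he.2], rfl⟩
        · exact ⟨(b, a), by simp [S, hlt, Groth.L26.NumType.a_symm T b a, he.2], Sym2.eq_swap⟩
    calc Nat.card G.edgeSet
        ≤ Nat.card ((fun p => s(p.1, p.2)) '' (S : Set (Fin n × Fin n))) :=
          Nat.card_mono (Set.toFinite _) hsub
      _ ≤ Nat.card (S : Set (Fin n × Fin n)) := Nat.card_image_le (Set.toFinite _)
      _ = T.edgeCount := by
          rw [Nat.card_coe_set_eq, Set.ncard_coe_finset]; rfl
  have hn : Nat.card (Fin n) = n := Nat.card_fin n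
  unfold Models.NumericalType.topGenus
  omega

end Groth.Agent.S7318
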