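import Groth.Statements.S7323
import Groth.Agent.L13.BlowP1.Exceptional

set_option autoImplicit false
universe u
open CategoryTheory CategoryTheory.Limits AlgebraicGeometry
open Resolve

namespace Groth.Agent.S7323

/-- Let (A, m, κ) be a regular local ring of dimension two and b : X → Spec A the blowing up in m, with
exceptional divisor E ⊂ X and its ideal sheaf I_E = O_X(-E). Then there is a closed immersion r : X
→ P^1_A over Spec A such that O_X(E) = r^* O(-1), i.e. r^* O(1) ≅ I_E; and E is an exceptional curve
of the first kind: an effective Cartier divisor isomorphic to a projective line over a field, with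
conormal sheaf pulling back to O(1). (The published statement identifies E with P^1_κ through r
itself; this row only asserts that some field and some isomorphism with a projective line exist.) -/
theorem result (A : Type u) [CommRing A] [IsRegularLocalRing A] (hA : ringKrullDim A = 2)
    (X : Scheme.{u}) (b : X ⟶ Spec (CommRingCat.of A)) (hb : BlowUp.IsBlowUp b (Curv2.idealSheaf A (IsLocalRing.maximalIdeal A))) :
    (∃ r : X ⟶ CohB1.ProjSpace 1 A, IsClosedImmersion r ∧ r ≫ CohB1.ProjSpace.toSpec 1 A = b ∧
      Nonempty ((Scheme.Modules.pullback r).obj (Twist.twistProjSpace 1 A 1) ≅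
        ClSub.idealMod (BlowUp.exceptional b (Curv2.idealSheaf A (IsLocalRing.maximalIdeal A))))) ∧
    Models.IsExcCurve (BlowUp.exceptional b (Curv2.idealSheaf A (IsLocalRing.maximalIdeal A))).subschemeι := by
  obtain ⟨d, f, hd, hspan, hf⟩ := Groth.L07.Order.exists_regular_parameters A
  have h2 : d = 2 := by
    rw [hA] at hd
    exact_mod_cast hd.symm
  subst h2
  have hexc : BlowUp.exceptional b (Curv2.idealSheaf A (IsLocalRing.maximalIdeal A)) =
      Groth.L13.BlowP1.exIdeal f b := by
    show _ = (Groth.L13.BU.idealOf (Groth.L11.BlowSmooth.sI f)).comap b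
    rw [show Groth.L11.BlowSmooth.sI f = IsLocalRing.maximalIdeal A from hspan]
    rfl
  rw [hexc]
  replace hb : BlowUp.IsBlowUp b (Groth.L13.BU.idealOf (Groth.L11.BlowSmooth.sI f)) := by
    rw [show Groth.L11.BlowSmooth.sI f = IsLocalRing.maximalIdeal A from hspan]; exact hb
  refine ⟨Groth.L13.BlowP1.exists_embed (n := 1) f b hb, ?_⟩
  obtain ⟨e, he⟩ := Groth.L13.BlowP1.exists_exceptional (n := 1) f b hb hf
  have hmax : (Groth.L11.BlowSmooth.sI f).IsMaximal := by
    show (Ideal.span (Set.range f)).IsMaximal
    rw [hspan]; exact IsLocalRing.maximalIdeal.isMaximal A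
  haveI := hmax
  refine ⟨?_, A ⧸ Groth.L11.BlowSmooth.sI f, Ideal.Quotient.field _, e, ?_⟩
  · rw [Scheme.IdealSheafData.ker_subschemeι]; exact hb.1
  · rw [Scheme.IdealSheafData.ker_subschemeι]; exact he

end Groth.Agent.S7323
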