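import Groth.Statements.S7324
import Groth.Agent.L13.PairBlow.Contract
import Groth.Agent.S7323
import Groth.Agent.L20.PnPic.Over
import Groth.Agent.L16.NegPow.Gen
import Groth.Agent.L12.FinCov.Frame
import Groth.Agent.L16.ProjSpace.AmpleIff

set_option autoImplicit false
universe u
open CategoryTheory CategoryTheory.Limits AlgebraicGeometry
open Resolve

namespace Groth.Agent.S7324

theorem twist_trivial {k : Type u} [Field k] {X : Scheme.{u}} (q : CohB1.ProjSpace 1 k ⟶ X) {T : X.Modules} {e : ℤ}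
    (h : Nonempty ((Scheme.Modules.pullback q).obj T ≅ Twist.twistProjSpace 1 k e)) (n : ℕ) :
    Nonempty ((Scheme.Modules.pullback q).obj (CohB1.tensorPow T n) ≅ Twist.twistProjSpace 1 k (n * e)) := by
  have hcov : ∀ z : Proj (CohB1.polyGrading 1 k), ∃ f : CohB1.polyGrading 1 k 1,
      z ∈ Proj.basicOpen (CohB1.polyGrading 1 k) f.1 := fun z => by
    obtain ⟨j, hj⟩ := Groth.L16.ProjSpace.exists_mem_basicOpen_X 1 k z
    exact ⟨⟨_, Groth.L18.PS.X_mem 1 j⟩, hj⟩
  obtain ⟨t⟩ := Groth.L16.ProjTwist.nonempty_tensorPow_twist_iso (CohB1.polyGrading 1 k) e hcov n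
  exact ⟨Groth.L18.Ample.pullPow q T n ≪≫ Groth.L00.Tensor.tensorPowIso h.some n ≪≫ t⟩

theorem nonempty_iso_structure_of_local {A : Type u} [CommRing A] [IsLocalRing A]
    {P : (Spec (CommRingCat.of A)).Modules} (h : FlatMod.IsFinLocFreeOfRank 1 P) :
    Nonempty (P ≅ Coh.structureModule (Spec (CommRingCat.of A))) := by
  obtain ⟨U, hU, ⟨e⟩⟩ := h (IsLocalRing.closedPoint A)
  have htop : U = ⊤ := eq_top_iff.2 fun x _ =>
    (IsLocalRing.specializes_closedPoint x).mem_open U.2 hU
  subst htop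
  let j := (Spec (CommRingCat.of A)).topIso.inv
  exact ⟨((Scheme.Modules.pullbackId _).app P).symm ≪≫
    (Scheme.Modules.pullbackCongr (show j ≫ (⊤ : (Spec (CommRingCat.of A)).Opens).ι = 𝟙 _ by simp [j]).symm).app P ≪≫
    ((Scheme.Modules.pullbackComp j _).app P).symm ≪≫ (Scheme.Modules.pullback j).mapIso
      (((Scheme.Modules.restrictFunctorIsoPullback _).app P).symm ≪≫ e) ≪≫
    Groth.L29.LocFree.pullbackFreeIso j 1 ≪≫ coproductUniqueIso (fun _ : Fin 1 => Coh.structureModule (Spec (CommRingCat.of A)))⟩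


/-- Let (A, m) be a regular local ring of dimension two and b : X → Spec A the blowing up in m, with
exceptional divisor E, ideal sheaf I = O_X(-E), and M = O_X(E) an inverse of I for the tensor
product. Then Pic(X) = Z generated by O_X(E): every invertible O_X-module is isomorphic to I^{⊗ n}
or to M^{⊗ n} for some n ≥ 0, and I^{⊗ n} is not isomorphic to O_X for n ≥ 1. -/
theorem result (A : Type u) [CommRing A] [IsRegularLocalRing A] (hA : ringKrullDim A = 2)
    (X : Scheme.{u}) (b : X ⟶ Spec (CommRingCat.of A)) (hb : BlowUp.IsBlowUp b (Curv2.idealSheaf A (IsLocalRing.maximalIdeal A)))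
    (M : X.Modules) (hM : ClSub.IsInverseOf M (ClSub.idealMod (BlowUp.exceptional b (Curv2.idealSheaf A (IsLocalRing.maximalIdeal A))))) :
    (∀ L : X.Modules, PicF.IsInvertible L → ∃ n : ℕ,
      Nonempty (L ≅ CohB1.tensorPow (ClSub.idealMod (BlowUp.exceptional b (Curv2.idealSheaf A (IsLocalRing.maximalIdeal A)))) n) ∨
        Nonempty (L ≅ CohB1.tensorPow M n)) ∧
    ∀ n : ℕ, 1 ≤ n →
      IsEmpty (CohB1.tensorPow (ClSub.idealMod (BlowUp.exceptional b (Curv2.idealSheaf A (IsLocalRing.maximalIdeal A)))) n ≅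
        Coh.structureModule X) := by
  let m := IsLocalRing.maximalIdeal A
  let y : Spec (CommRingCat.of A) := IsLocalRing.closedPoint A
  have hy : IsClosed ({y} : Set (Spec (CommRingCat.of A))) :=
    IsLocalRing.isClosed_singleton_closedPoint A
  have hideal : Curv2.idealSheaf A m = Scheme.IdealSheafData.vanishingIdeal ⟨{y}, hy⟩ := by
    let T : (Spec (CommRingCat.of A)).affineOpens := ⟨⊤, isAffineOpen_top _⟩
    have hm : ((Groth.L13.BU.idealOf m).ideal T).IsMaximal := by
      rw [Groth.L13.BU.idealOf_top]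
      exact Ideal.map_isMaximal_of_equiv (Scheme.ΓSpecIso (CommRingCat.of A)).commRingCatIsoToRingEquiv.symm
    have hle : Groth.L13.BU.idealOf m ≤ Scheme.IdealSheafData.vanishingIdeal ⟨{y}, hy⟩ := by
      rw [← Scheme.IdealSheafData.le_support_iff_le_vanishingIdeal]
      intro q hq
      rw [show q = y from hq]
      show y ∈ (Groth.L13.BU.idealOf m).support
      rw [Scheme.IdealSheafData.mem_support_iff_of_mem (U := T) (Set.mem_univ _), Groth.L13.BU.idealOf_top,
        Scheme.mem_zeroLocus_iff]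
      intro a ha
      obtain ⟨a', ha', rfl⟩ := (Ideal.mem_map_iff_of_surjective _
        (ConcreteCategory.bijective_of_isIso (Scheme.ΓSpecIso (CommRingCat.of A)).inv).2).1 ha
      rw [basicOpen_eq_of_affine]
      exact fun h => h ha'
    exact Scheme.IdealSheafData.ext_of_isAffine
      (hm.eq_of_le (Groth.L03.BlowPt.isMaximal_ptI hy T (Set.mem_univ y)).ne_top (hle T))
  have hd' : ringKrullDim A = (2 : ℕ) := by rw [hA]; rfl
  have hregy : IsRegularLocalRing ((Spec (CommRingCat.of A)).presheaf.stalk y) :=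
    IsRegularLocalRing.of_ringEquiv
      ((IsLocalization.atUnits A (IsLocalRing.closedPoint A).asIdeal.primeCompl
        (fun x hx => by simpa [IsLocalRing.closedPoint, IsUnit.mem_submonoid_iff] using hx)).toRingEquiv.trans
        (Spec.stalkIso (CommRingCat.of A) y).commRingCatIsoToRingEquiv.symm)
  have hdimy : ringKrullDim ((Spec (CommRingCat.of A)).presheaf.stalk y) = (2 : ℕ) := by
    rw [← hd']
    exact (ringKrullDim_eq_of_ringEquiv
      ((IsLocalization.atUnits A (IsLocalRing.closedPoint A).asIdeal.primeCompl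
        (fun x hx => by simpa [IsLocalRing.closedPoint, IsUnit.mem_submonoid_iff] using hx)).toRingEquiv.trans
        (Spec.stalkIso (CommRingCat.of A) y).commRingCatIsoToRingEquiv.symm)).symm
  obtain ⟨-, -, k, _, eP, ⟨i₀⟩⟩ := Groth.Agent.S7323.result A hA X b hb
  rw [Scheme.IdealSheafData.ker_subschemeι] at i₀
  let E := BlowUp.exceptional b (Curv2.idealSheaf A m)
  let I := ClSub.idealMod E
  let q : CohB1.ProjSpace 1 k ⟶ X := eP.hom ≫ E.subschemeι
  have hcov : ∀ z : Proj (CohB1.polyGrading 1 k), ∃ f : CohB1.polyGrading 1 k 1,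
      z ∈ Proj.basicOpen (CohB1.polyGrading 1 k) f.1 := fun z => by
    obtain ⟨j, hj⟩ := Groth.L16.ProjSpace.exists_mem_basicOpen_X 1 k z
    exact ⟨⟨_, Groth.L18.PS.X_mem 1 j⟩, hj⟩
  have hadd : ∀ a c : ℤ, Nonempty (CohB1.tensorMod (Twist.twistProjSpace 1 k a) (Twist.twistProjSpace 1 k c) ≅
      Twist.twistProjSpace 1 k (a + c)) := Groth.L16.ProjTwist.nonempty_tensor_twist_iso_one (CohB1.polyGrading 1 k) hcov
  obtain ⟨t0⟩ : Nonempty (Twist.twistProjSpace 1 k 0 ≅ Coh.structureModule (CohB1.ProjSpace 1 k)) :=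
    Groth.L16.ProjTwist.nonempty_twist_zero_iso (CohB1.polyGrading 1 k)
  have hI : Nonempty ((Scheme.Modules.pullback q).obj I ≅ Twist.twistProjSpace 1 k 1) := ⟨i₀⟩
  have hMq : Nonempty ((Scheme.Modules.pullback q).obj M ≅ Twist.twistProjSpace 1 k (-1)) :=
    Groth.L13.PointBlow.inverse_unique (B := Twist.twistProjSpace 1 k 1)
      (Groth.L00.Tensor.tensorIso (Iso.refl _) hI.some.symm ≪≫ Groth.L29.DC.PullTensor.pullTensor q _ _ ≪≫
        (Scheme.Modules.pullback q).mapIso hM.some ≪≫ Groth.L29.LocFree.pullbackUnitIso q)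
      ((hadd (-1) 1).some ≪≫ eqToIso (by norm_num) ≪≫ t0)
  have hIinv : PicF.IsInvertible I := (Groth.Agent.L19.IdealInvertible.isEffCartier_iff _).2 hb.1
  have hMinv : PicF.IsInvertible M := Groth.L13.PointBlow.isInvertible_of_isInverseOf hIinv hM
  have key : ∀ L : X.Modules, PicF.IsInvertible L →
      Nonempty ((Scheme.Modules.pullback q).obj L ≅ Coh.structureModule (CohB1.ProjSpace 1 k)) →
      Nonempty (L ≅ Coh.structureModule X) := by
    intro L hL ⟨t⟩
    obtain ⟨h1⟩ : Nonempty ((Scheme.Modules.pullback E.subschemeι).obj L ≅ FlatMod.freeMod E.subscheme 1) :=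
      ⟨(Scheme.Modules.pullbackCongr (show eP.inv ≫ q = E.subschemeι by simp [q]).symm).app L ≪≫
        ((Scheme.Modules.pullbackComp eP.inv q).app L).symm ≪≫ (Scheme.Modules.pullback eP.inv).mapIso t ≪≫
        Groth.L29.LocFree.pullbackUnitIso eP.inv ≪≫
        (coproductUniqueIso (fun _ : Fin 1 => Coh.structureModule E.subscheme)).symm⟩
    have hex : BlowUp.exceptional b (Scheme.IdealSheafData.vanishingIdeal ⟨{y}, hy⟩) = E := by
      show _ = BlowUp.exceptional b (Curv2.idealSheaf A m)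
      rw [hideal]
    have hb' : BlowUp.IsBlowUp b (Scheme.IdealSheafData.vanishingIdeal ⟨{y}, hy⟩) := hideal ▸ hb
    haveI : IsNoetherianRing (CommRingCat.of A) := inferInstanceAs (IsNoetherianRing A)
    obtain ⟨hP, hiso⟩ := Groth.L13.PairBlow.isIso_counit_of_free (X := Spec (CommRingCat.of A)) hy
      (Set.finite_singleton y)
      (fun x hx => (Set.mem_singleton_iff.1 hx) ▸ hy) (fun x hx => (Set.mem_singleton_iff.1 hx) ▸ hregy)
      (fun x hx => (Set.mem_singleton_iff.1 hx) ▸ hdimy) hb'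
      (Groth.L16.Existence.isFinLocFree_of_isInvertible hL) (r := 1) ⟨by rw [hex]; exact h1⟩
    haveI := hiso
    haveI := Groth.L13.PairBlow.isProper_of_locallyPair hb'
    haveI : Surjective b := by
      haveI : IsDomain ((Spec (CommRingCat.of A)).presheaf.stalk y) := Groth.L01.isDomain_of_regular _
      haveI := hregy
      have hpos : ¬ IsField ((Spec (CommRingCat.of A)).presheaf.stalk y) := fun h => by
        rw [ringKrullDim_eq_zero_of_isField h] at hdimy
        exact absurd hdimy (by norm_num)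
      exact Groth.L08.DescAction.surjective_of_app_injective b b.isClosedMap fun U =>
        (Groth.L13.Contraction.bijective_app hy b (Groth.L03.RegularNormal.isIntegrallyClosed _) hpos hb' U).1
    obtain ⟨u⟩ := nonempty_iso_structure_of_local (Groth.L13.PairBlow.rank_one_of_pullback (b := b) hP
      (Groth.L12.FinCov.isFinLocFreeOfRank_one_of_isInvertible (Groth.L18.Ample.isInvertible_of_iso
        (asIso ((Scheme.Modules.pullbackPushforwardAdjunction b).counit.app L)).symm hL)))
    exact ⟨(asIso ((Scheme.Modules.pullbackPushforwardAdjunction b).counit.app L)).symm ≪≫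
      (Scheme.Modules.pullback b).mapIso u ≪≫ Groth.L29.LocFree.pullbackUnitIso b⟩
  refine ⟨fun L hL => ?_, fun n hn => ⟨fun ψ => ?_⟩⟩
  · obtain ⟨d, ⟨hd⟩⟩ := Groth.L20.PnPic.exists_iso_twist ((Scheme.Modules.pullback q).obj L)
      (Groth.L18.Ample.isInvertible_pullback q hL)
    rcases Int.eq_nat_or_neg d with ⟨n, rfl | rfl⟩
    · obtain ⟨p⟩ := twist_trivial q hMq n
      obtain ⟨t⟩ := key (CohB1.tensorMod L (CohB1.tensorPow M n))
        (Groth.L18.GenLoc.isInvertible_tensor hL (Groth.L18.Ample.isInvertible_tensorPow hMinv n))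
        ⟨(Groth.L29.DC.PullTensor.pullTensor q _ _).symm ≪≫ Groth.L00.Tensor.tensorIso hd p ≪≫
          (hadd _ _).some ≪≫ eqToIso (by simp) ≪≫ t0⟩
      exact ⟨n, Or.inl (Groth.L13.PointBlow.inverse_unique t
        (Groth.L16.NegPow.powInvIso (Groth.L00.Tensor.tensorComm _ M ≪≫ hM.some) n))⟩
    · obtain ⟨p⟩ := twist_trivial q hI n
      obtain ⟨t⟩ := key (CohB1.tensorMod L (CohB1.tensorPow I n))
        (Groth.L18.GenLoc.isInvertible_tensor hL (Groth.L18.Ample.isInvertible_tensorPow hIinv n))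
        ⟨(Groth.L29.DC.PullTensor.pullTensor q _ _).symm ≪≫ Groth.L00.Tensor.tensorIso hd p ≪≫
          (hadd _ _).some ≪≫ eqToIso (by simp) ≪≫ t0⟩
      exact ⟨n, Or.inr (Groth.L13.PointBlow.inverse_unique t (Groth.L16.NegPow.powInvIso hM.some n))⟩
  · obtain ⟨p⟩ := twist_trivial q hI n
    have := Groth.L20.PnPic.twist_iso_inj (n := 1) le_rfl (R := k) (d := (n : ℤ) * 1) (d' := 0)
      ⟨p.symm ≪≫ (Scheme.Modules.pullback q).mapIso ψ ≪≫ Groth.L29.LocFree.pullbackUnitIso q ≪≫ t0.symm⟩
    omega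

end Groth.Agent.S7324
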