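import Groth.Statements.S7325
import Groth.Agent.L13.PairBlow.Contract
import Groth.Agent.L22.ExtSh.GenRank
import Groth.Agent.L12.FinCov.Frame

set_option autoImplicit false
universe u
open CategoryTheory CategoryTheory.Limits AlgebraicGeometry
open Resolve

namespace Groth.Agent.S7325

/-- Let X be a Noetherian scheme, ι : E → X a closed immersion which is an exceptional curve of the
first kind, and b : X → X' a contraction of E. Then pullback along b is injective on isomorphism
classes of invertible modules, and an invertible O_X-module L is the pullback of some invertible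
O_{X'}-module if and only if ι^* L ≅ O_E. (The published statement is a split short exact sequence 0
→ Pic(X') → Pic(X) → Z → 0 whose second map is the degree on E; this row states the injectivity of
the first map and the description of its image, and does not restate the degree map or the
splitting.) -/
theorem result {E X X' : Scheme.{u}} [IsNoetherian X] (ι : E ⟶ X) [IsClosedImmersion ι]
    (hE : Models.IsExcCurve ι) (b : X ⟶ X') (hb : Models.IsContractionOf ι b) :
    (∀ L₁ L₂ : X'.Modules, PicF.IsInvertible L₁ → PicF.IsInvertible L₂ →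
      Nonempty ((Scheme.Modules.pullback b).obj L₁ ≅ (Scheme.Modules.pullback b).obj L₂) → Nonempty (L₁ ≅ L₂)) ∧
    ∀ L : X.Modules, PicF.IsInvertible L →
      ((∃ L' : X'.Modules, PicF.IsInvertible L' ∧ Nonempty ((Scheme.Modules.pullback b).obj L' ≅ L)) ↔
        Nonempty ((Scheme.Modules.pullback ι).obj L ≅ Coh.structureModule E)) := by
  obtain ⟨hZ, hproper, y, hy, hrange, hreg, hdim, hbl⟩ := hb
  haveI := hreg
  haveI := hproper
  haveI := hZ
  haveI : IsDomain (X'.presheaf.stalk y) := Groth.L01.isDomain_of_regular _
  have hpos : ¬ IsField (X'.presheaf.stalk y) := fun h => by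
    rw [ringKrullDim_eq_zero_of_isField h] at hdim
    exact absurd hdim (by norm_num)
  have hbij := Groth.L13.Contraction.bijective_app hy b (Groth.L03.RegularNormal.isIntegrallyClosed _) hpos hbl
  haveI : Surjective b :=
    Groth.L08.DescAction.surjective_of_app_injective b b.isClosedMap fun U => (hbij U).1
  have happ : ∀ U : X'.Opens, IsIso (b.app U) := fun U => (ConcreteCategory.isIso_iff_bijective _).2 (hbij U)
  refine ⟨fun L₁ L₂ h₁ h₂ he => ?_, fun L hL => ⟨?_, fun h => ?_⟩⟩
  · haveI := Groth.L20.DescLocus.isIso_unit_of_isFinLocFree b happ (Groth.L16.Existence.isFinLocFree_of_isInvertible h₁)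
    haveI := Groth.L20.DescLocus.isIso_unit_of_isFinLocFree b happ (Groth.L16.Existence.isFinLocFree_of_isInvertible h₂)
    exact ⟨asIso ((Scheme.Modules.pullbackPushforwardAdjunction b).unit.app L₁) ≪≫
      (Scheme.Modules.pushforward b).mapIso he.some ≪≫
      (asIso ((Scheme.Modules.pullbackPushforwardAdjunction b).unit.app L₂)).symm⟩
  · rintro ⟨L', hL', ⟨e⟩⟩
    obtain ⟨t⟩ := Groth.L13.PairBlow.nonempty_pullback_trivial (f := ι ≫ b) hrange.le
      (Groth.L12.FinCov.isFinLocFreeOfRank_one_of_isInvertible hL')
    exact ⟨(Scheme.Modules.pullback ι).mapIso e.symm ≪≫ (Scheme.Modules.pullbackComp ι b).app L' ≪≫ t⟩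
  · have hEx := Groth.L13.PairBlow.exceptional_eq_ker hE b hy hrange hreg hdim hbl
    have hdim' : ringKrullDim (X'.presheaf.stalk y) = (2 : ℕ) := by rw [hdim]; rfl
    obtain ⟨hP, hiso⟩ := Groth.L13.PairBlow.isIso_counit_of_free hy (Set.finite_singleton y)
      (fun x hx => (Set.mem_singleton_iff.1 hx) ▸ hy) (fun x hx => (Set.mem_singleton_iff.1 hx) ▸ hreg)
      (fun x hx => (Set.mem_singleton_iff.1 hx) ▸ hdim') hbl
      (Groth.L16.Existence.isFinLocFree_of_isInvertible hL) (Groth.L13.PairBlow.nonempty_pullback_ker_iso hEx h)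
    haveI := hiso
    refine ⟨_, Groth.L22.GenRank.isInvertible_of_rank_one (Groth.L13.PairBlow.rank_one_of_pullback (b := b) hP ?_),
      ⟨asIso ((Scheme.Modules.pullbackPushforwardAdjunction b).counit.app L)⟩⟩
    exact Groth.L12.FinCov.isFinLocFreeOfRank_one_of_isInvertible (Groth.L18.Ample.isInvertible_of_iso
      (asIso ((Scheme.Modules.pullbackPushforwardAdjunction b).counit.app L)).symm hL)

end Groth.Agent.S7325
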