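import Groth.Statements.S7329
import Groth.Agent.L05.SurfRes.SepNorm
import Groth.Agent.L05.SurfRes.Finite
import Groth.Agent.L05.Hensel.IntegralDomain
import Groth.Agent.L00.NagataNorm
import Groth.Agent.L10.RegularUFD

set_option autoImplicit false
universe u
open CategoryTheory CategoryTheory.Limits AlgebraicGeometry
open Resolve

namespace Groth.Agent.S7329
set_option backward.isDefEq.respectTransparency false
set_option backward.isDefEq.respectTransparency.types false
set_option linter.style.haveILetI false

/-- Let p be a prime number, A a complete regular local ring of dimension two and characteristic p with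
fraction field K, L/K a purely inseparable extension of degree p, and B the integral closure of A in
L. Then reduction to rational singularities is possible for B: the lengths of the B-modules H^1(Y,
O_Y), over all proper morphisms Y → Spec B from an integral normal scheme which are an isomorphism
over a nonempty open, are bounded. -/
theorem result (p : ℕ) [Fact p.Prime] (A : Type u) [CommRing A] [IsRegularLocalRing A]
    [CharP A p] [IsAdicComplete (IsLocalRing.maximalIdeal A) A] (hdA : ringKrullDim A = 2)
    (L : Type u) [Field L] [Algebra A L] [Algebra (FractionRing A) L] [IsScalarTower A (FractionRing A) L]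
    (hdeg : Module.finrank (FractionRing A) L = p) [IsPurelyInseparable (FractionRing A) L] :
    (∃ N : ℕ, ∀ (X : Scheme.{u}) [X.Over (Spec (CommRingCat.of ↥(integralClosure A L)))], IsProper (X ↘ Spec (CommRingCat.of ↥(integralClosure A L))) →
        IsIntegral X → Pi1.IsNormalScheme X →
        (∃ U : (Spec (CommRingCat.of ↥(integralClosure A L))).Opens, (U : Set (Spec (CommRingCat.of ↥(integralClosure A L)))).Nonempty ∧ IsIso ((X ↘ Spec (CommRingCat.of ↥(integralClosure A L))) ∣_ U)) →
        Module.length ↥(integralClosure A L) (Coh.HH X (Coh.structureModule X) 1) ≤ (N : ℕ∞)) := by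
  haveI := Groth.L01.isDomain_of_regular A
  haveI : FiniteDimensional (FractionRing A) L := Module.finite_of_finrank_pos (hdeg ▸ (Fact.out : p.Prime).pos)
  haveI : IsIntegrallyClosed A := by
    haveI := Groth.L10.RegUFD.isUFD A
    infer_instance
  have hN : CAlg.IsNagata A := Groth.Agent.S0568.result A
  haveI : Algebra.EssFiniteType (FractionRing A) L := inferInstance
  haveI : Algebra.EssFiniteType A L := Algebra.EssFiniteType.comp A (FractionRing A) L
  haveI : Module.Finite A ↥(integralClosure A L) := Groth.L00.NagataNorm.finite_integralClosure_field hN L
  haveI : HenselianRing A (IsLocalRing.maximalIdeal A) := IsAdicComplete.henselianRing A _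
  haveI : HenselianLocalRing A := Groth.L05.henselianLocalRing_of_henselianRing
  haveI : IsNoetherianRing ↥(integralClosure A L) := IsNoetherianRing.of_finite A _
  haveI : IsLocalRing ↥(integralClosure A L) := Groth.L05.isLocalRing_of_finite_domain (A := A) _
  haveI : IsIntegrallyClosed ↥(integralClosure A L) :=
    haveI := integralClosure.isFractionRing_of_finite_extension (A := A) (FractionRing A) L
    integralClosure.isIntegrallyClosedOfFiniteExtension (FractionRing A)
  have hinj : Function.Injective (algebraMap A ↥(integralClosure A L)) := fun a b h => by
    have h1 := congrArg Subtype.val h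
    have h2 : algebraMap A L a = algebraMap A L b := h1
    rw [IsScalarTower.algebraMap_apply A (FractionRing A) L, IsScalarTower.algebraMap_apply A (FractionRing A) L] at h2
    exact IsFractionRing.injective A (FractionRing A) ((algebraMap (FractionRing A) L).injective h2)
  have hdim : ringKrullDim ↥(integralClosure A L) = 2 :=
    (Groth.L22.AffineDim.ringKrullDim_eq_of_isIntegral hinj).trans hdA
  haveI : IsLocalHom (algebraMap A ↥(integralClosure A L)) :=
    (RingHom.Finite.to_isIntegral (RingHom.finite_algebraMap.2 inferInstance)).isLocalHom hinj
  haveI : IsAdicComplete (IsLocalRing.maximalIdeal ↥(integralClosure A L)) ↥(integralClosure A L) :=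
    Groth.L05.SurfRes.isAdicComplete_of_finite_local A _
  exact Groth.L05.SurfRes.exists_bound_complete _ hdim

end Groth.Agent.S7329
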