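import Groth.Statements.S7332
import Groth.Agent.L17.GRSurf.Setup
import Groth.Agent.L17.LocDual.Main
import Groth.Agent.L04.Essential
import Groth.Agent.L04.Matlis
import Groth.Agent.L16.Rees.RelVanish
import Groth.Agent.L10.TopDual.Ev

set_option autoImplicit false
set_option backward.isDefEq.respectTransparency false
set_option backward.isDefEq.respectTransparency.types false
set_option linter.style.haveILetI false
universe u
open CategoryTheory CategoryTheory.Limits AlgebraicGeometry
attribute [local instance] HasDerivedCategory.standard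
open Resolve
open CategoryTheory.Abelian Groth.L17.GRSurf Groth.L17.LocDual

namespace Groth.Agent.S7332

/-- Let (A, m) be a local Noetherian normal domain of dimension two which is Nagata and has a dualizing
module ω_A (so that ω_A in degree zero is a dualizing complex), and let f : X → Spec A be a proper
morphism from an integral normal scheme which is an isomorphism over a nonempty open. Let ω_X be the
dualizing module of X normalized relative to ω_A, namely the degree-zero cohomology sheaf of
f^!(ω_A~), where f^! is the right adjoint of Rf_* on D_QCoh (its existence, and that Rf_* preserves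
D_QCoh, are carried as hypotheses, as is left exactness of M ↦ M~). Then R^1 f_* ω_X = 0, i.e.
H^1(X, ω_X) = 0. -/
theorem result (A : Type u) [CommRing A] [IsDomain A] [IsLocalRing A] [IsNoetherianRing A]
    [IsIntegrallyClosed A] (hN : CAlg.IsNagata A) (hdim : ringKrullDim A = 2)
    (X : Scheme.{u}) (f : X ⟶ Spec (CommRingCat.of A)) [IsProper f] [IsIntegral X] (hXn : Pi1.IsNormalScheme X)
    (hbir : ∃ U : (Spec (CommRingCat.of A)).Opens, (U : Set (Spec (CommRingCat.of A))).Nonempty ∧ IsIso (f ∣_ U))
    (ωA : Type u) [AddCommGroup ωA] [Module A ωA] (hω : Dual.IsDualizing A (Dual.inD A ωA))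
    [PreservesFiniteLimits (tilde.functor (CommRingCat.of A))]
    [DCoh.HasRpush f] (h : DCoh.RpushPreservesQCoh f) [DCoh.HasShriek f h]
    (WA : DCoh.DQCoh (Spec (CommRingCat.of A))) (hWA : Nonempty (WA.obj ≅ (DCoh.tildeD (CommRingCat.of A)).obj (Dual.inD A ωA))) :
    Subsingleton (Coh.HH X (DCoh.dualizingMod f h WA 0) 1) := by
  letI : X.Over (Spec (CommRingCat.of A)) := ⟨f⟩
  haveI : IsProper (X ↘ Spec (CommRingCat.of A)) := ‹IsProper f›
  haveI : IsLocallyNoetherian X := LocallyOfFiniteType.isLocallyNoetherian f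
  haveI := Groth.L00.Tensor.grothendieckAbelian_modules X
  haveI : HasExt.{u} X.Modules := inferInstance
  let Ω := DCoh.dualizingMod f h WA 0
  have hev := Groth.L10.TopDual.ev_bijective 1 Ω
  refine (Equiv.ofBijective _ hev).subsingleton_congr.1 ?_
  obtain ⟨c, hcω, hcn⟩ := Groth.L29.Unique.exists_normalized_shift hω
  have hAn : LocCoh.IsCohenMacaulayLocalRing A := cm_of_normal_dim_le_two (le_of_eq hdim)
  have hc : c = (2 : ℕ) := shift_eq_dim ωA c hcω hcn hAn 2 hdim
  have hCM := cm_stalk hdim f hXn hbir
  obtain ⟨d, hconc, hdeg⟩ := exists_conc (DCoh.shriekAdj f h) WA (Dual.inD A ωA) c hcω hcn hWA hCM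
  by_cases hd : d = 0
  · subst hd
    obtain ⟨n, hn⟩ := exists_dim hdim f hbir
    have hn2 := hdeg n hn
    obtain rfl : n = 2 := by omega
    obtain ⟨E, _, _, ι, hE⟩ := Groth.L04.exists_injectiveHull (R := A) (IsLocalRing.ResidueField A)
    obtain ⟨Φ, hΦ, -⟩ := exists_pairing_main (X := X) (Dual.inD A ωA) hω WA hWA h (DCoh.shriekAdj f h) hCM 0 hconc
      2 hn ι hE 1 1 rfl
    haveI := subsingleton_ext_CZ (A := A) (X := X) hdim hXn hbir
    haveI : Subsingleton (Ext.{u} (Coh.structureModule X) Ω 1 →ₗ[A] E) := (Equiv.ofBijective _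
      (hΦ (Coh.structureModule X) (Groth.L16.Rees.RelVanish.isCoh_structureModule X))).symm.subsingleton
    refine subsingleton_of_forall_eq 0 fun x => ?_
    by_contra hx
    obtain ⟨φ, hφ⟩ := Groth.L04.exists_hom_ne_zero hE hx
    exact hφ (by rw [Subsingleton.elim φ 0, LinearMap.zero_apply])
  · have hz : IsZero Ω := hconc _ (by simpa using fun h0 => hd h0.symm)
    refine subsingleton_of_forall_eq 0 fun x => ?_
    rw [← Ext.comp_mk₀_id x, hz.eq_of_src (𝟙 Ω) 0, Ext.mk₀_zero, Ext.comp_zero]

end Groth.Agent.S7332
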