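import Groth.Statements.S7335
import Groth.Agent.S7332
import Groth.Agent.L17.GRSurf.Twist
import Groth.Agent.L10.ShriekLoc.LocalBase
import Groth.Agent.L05.RatPow.Exc
import Groth.Agent.L05.RatPow.Normal
import Groth.Agent.L13.PointBlow.Twist
import Groth.Agent.L19.VanishFibre.Noetherian

set_option autoImplicit false
set_option backward.isDefEq.respectTransparency false
set_option backward.isDefEq.respectTransparency.types false
set_option linter.style.haveILetI false
universe u
open CategoryTheory CategoryTheory.Limits AlgebraicGeometry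
attribute [local instance] HasDerivedCategory.standard
open Resolve

namespace Groth.Agent.S7335

/-- Let (A, m) be a local normal Nagata domain of dimension two which defines a rational singularity, is
not regular, and has a dualizing module ω_A; let b : X → Spec A be the blowing up in m, with
exceptional ideal sheaf I = O_X(1), and let ω_X be the dualizing module of X normalized relative to
ω_A (the degree-zero cohomology sheaf of b^!(ω_A~), with b^! the right adjoint of Rb_* on D_QCoh;
these existence statements are carried as hypotheses). Then H^1(X, ω_X(n)) = 0 for all n ≥ 0, where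
ω_X(n) = ω_X ⊗ I^{⊗ n}. -/
theorem result (A : Type u) [CommRing A] [IsDomain A] [IsLocalRing A] [IsNoetherianRing A]
    [IsIntegrallyClosed A] (hN : CAlg.IsNagata A) (hdim : ringKrullDim A = 2) (hA : Curv2.IsRationalSing A)
    (hnr : ¬ IsRegularLocalRing A)
    (X : Scheme.{u}) (f : X ⟶ Spec (CommRingCat.of A)) (hb : BlowUp.IsBlowUp f (Curv2.idealSheaf A (IsLocalRing.maximalIdeal A)))
    (ωA : Type u) [AddCommGroup ωA] [Module A ωA] (hω : Dual.IsDualizing A (Dual.inD A ωA))
    [PreservesFiniteLimits (tilde.functor (CommRingCat.of A))]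
    [DCoh.HasRpush f] (h : DCoh.RpushPreservesQCoh f) [DCoh.HasShriek f h]
    (WA : DCoh.DQCoh (Spec (CommRingCat.of A))) (hWA : Nonempty (WA.obj ≅ (DCoh.tildeD (CommRingCat.of A)).obj (Dual.inD A ωA))) (n : ℕ) :
    Subsingleton (Coh.HH X (CohB1.tensorMod (DCoh.dualizingMod f h WA 0)
      (CohB1.tensorPow (ClSub.idealMod (BlowUp.exceptional f (Curv2.idealSheaf A (IsLocalRing.maximalIdeal A)))) n)) 1) := by
  have hq : BlowUp.IsBlowUp f (Groth.L13.BU.idealOf (IsLocalRing.maximalIdeal A)) := hb
  obtain ⟨hint, hpr, hbir, -⟩ := Groth.L05.RatPow.blowUp_props f hdim hq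
  haveI := hint
  haveI := hpr
  have hXn := Groth.L05.RatPow.isNormal_of_rational hN hdim hA f hq
  haveI : IsLocallyNoetherian X := LocallyOfFiniteType.isLocallyNoetherian f
  haveI : CompactSpace X := QuasiCompact.compactSpace_of_compactSpace f
  let Ω := DCoh.dualizingMod f h WA 0
  haveI : Coh.IsQCoh Ω := (Groth.L10.ShriekLoc.isCoh_local (Dual.inD A ωA) hω (DCoh.shriekAdj f h) WA hWA _).1
  have hΩ : Subsingleton (Coh.HH X Ω 1) := Groth.Agent.S7332.result A hN hdim X f hXn hbir ωA hω h WA hWA
  have hI := (Groth.Agent.L19.IdealInvertible.isEffCartier_iff (Groth.L05.RatPow.J f)).2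
    (show BlowUp.IsEffCartierIdeal (Groth.L05.RatPow.J f) from hq.1)
  obtain ⟨-, ⟨e⟩⟩ := Groth.L13.PointBlow.nonempty_idealMod_pow hI n
  obtain ⟨S, _, π, _⟩ := Groth.L17.GRSurf.exists_epi_idealMod f n
  haveI : Coh.IsQCoh (ClSub.idealMod (Groth.L05.RatPow.J f ^ n)) := Groth.L18.IdealModule.isQCoh_idealMod _
  have hH := Groth.L17.GRSurf.subsingleton_H1_tensor (fun K hK => by
      haveI : Coh.IsQCoh K := hK
      exact Groth.L19.VanishFibre.subsingleton_HH_of_fibre_dim_le (R := CommRingCat.of A) f
        (fun s => Groth.L13.ModFibre.topologicalKrullDim_fiber_le_one_spec (le_of_eq hdim) f hbir s) K (by omega))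
    Ω hΩ π
  exact Groth.L17.GRSurf.subsingleton_H1_iso (Groth.L00.Tensor.tensorIso (Iso.refl Ω) e.symm) hH

end Groth.Agent.S7335
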