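import Groth.Statements.S7336
import Groth.Agent.L05.FibreFactor.Basic

set_option autoImplicit false
universe u
open CategoryTheory CategoryTheory.Limits AlgebraicGeometry
open Resolve

namespace Groth.Agent.S7336

set_option backward.isDefEq.respectTransparency false
set_option backward.isDefEq.respectTransparency.types false
set_option backward.isDefEq.respectTransparency false
set_option backward.isDefEq.respectTransparency.types false
set_option linter.style.haveILetI false

/-- Let (A, m) be a local Noetherian normal domain of dimension two and f : X → Spec A a proper morphism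
from an integral scheme which is an isomorphism over some nonempty open and is not an isomorphism
(so that every irreducible component of the closed fibre is a curve). Then there is a nonzero a ∈ m
such that for every irreducible component C of the closed fibre, with generic point ξ, there are a
closed point x ∈ C lying on no other component and a factorization a = g · q in O_{X,x} with g in
the maximal ideal of O_{X,x} and g not vanishing identically on C near x, i.e. the image of g in
O_{X,ξ} is a unit. -/
theorem result (A : Type u) [CommRing A] [IsDomain A] [IsLocalRing A] [IsNoetherianRing A]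
    [IsIntegrallyClosed A] (hdim : ringKrullDim A = 2)
    (X : Scheme.{u}) (f : X ⟶ Spec (CommRingCat.of A)) [IsProper f] [IsIntegral X]
    (hbir : ∃ U : (Spec (CommRingCat.of A)).Opens, (U : Set (Spec (CommRingCat.of A))).Nonempty ∧ IsIso (f ∣_ U)) (hf : ¬ IsIso f) :
    ∃ a : A, a ≠ 0 ∧ a ∈ IsLocalRing.maximalIdeal A ∧
      ∀ C ∈ irreducibleComponents ↥(f.base ⁻¹' {IsLocalRing.closedPoint A}),
        ∃ (x ξ : ↥(f.base ⁻¹' {IsLocalRing.closedPoint A})) (hξx : (ξ : X) ⤳ (x : X)),
          x ∈ C ∧ IsGenericPoint ξ C ∧ IsClosed ({(x : X)} : Set X) ∧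
          (∀ C' ∈ irreducibleComponents ↥(f.base ⁻¹' {IsLocalRing.closedPoint A}), C' ≠ C → x ∉ C') ∧
          ∃ g q : X.presheaf.stalk (x : X), g ∈ IsLocalRing.maximalIdeal (X.presheaf.stalk (x : X)) ∧
            (X.presheaf.germ ⊤ (x : X) trivial).hom (Coh.toGlobal f a) = g * q ∧
            IsUnit ((X.presheaf.stalkSpecializes hξx).hom g) := by
  classical
  haveI : IsLocallyNoetherian X := LocallyOfFiniteType.isLocallyNoetherian f
  haveI : CompactSpace X := QuasiCompact.compactSpace_of_compactSpace f
  haveI : AlgebraicGeometry.IsNoetherian X := {}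
  haveI : TopologicalSpace.NoetherianSpace ↥(f.base ⁻¹' {IsLocalRing.closedPoint A}) :=
    Topology.IsInducing.subtypeVal.noetherianSpace
  choose x ξ hξx a hxC hgen hxc honly ha g q hg hq hu using
    fun C : irreducibleComponents ↥(f.base ⁻¹' {IsLocalRing.closedPoint A}) =>
      Groth.L05.FibreFactor.exists_point_factor f hbir hf C.1 C.2
  haveI : Fintype (irreducibleComponents ↥(f.base ⁻¹' {IsLocalRing.closedPoint A})) :=
    TopologicalSpace.NoetherianSpace.finite_irreducibleComponents.fintype
  obtain ⟨m, hm, hm0⟩ := Submodule.exists_mem_ne_zero_of_ne_bot (p := IsLocalRing.maximalIdeal A) (fun h => by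
    rw [ringKrullDim_eq_zero_of_isField (IsLocalRing.isField_iff_maximalIdeal_eq.2 h)] at hdim
    exact absurd hdim (by decide))
  refine ⟨m * ∏ C, a C, mul_ne_zero hm0 (Finset.prod_ne_zero_iff.2 fun C _ => ha C), Ideal.mul_mem_right _ _ hm,
    fun C hC => ⟨x ⟨C, hC⟩, ξ ⟨C, hC⟩, hξx ⟨C, hC⟩, hxC ⟨C, hC⟩, hgen ⟨C, hC⟩, hxc ⟨C, hC⟩, honly ⟨C, hC⟩, g ⟨C, hC⟩,
      q ⟨C, hC⟩ * Groth.L05.FibreFactor.χ f (x ⟨C, hC⟩ : X)
        (m * ∏ D ∈ Finset.univ.erase ⟨C, hC⟩, a D), hg _, ?_, hu _⟩⟩
  show Groth.L05.FibreFactor.χ f (x ⟨C, hC⟩ : X) (m * ∏ D, a D) = _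
  rw [← Finset.mul_prod_erase Finset.univ a (Finset.mem_univ ⟨C, hC⟩), mul_left_comm, map_mul, hq, mul_assoc]

end Groth.Agent.S7336
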