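import Groth.Statements.S7339
import Groth.Agent.L13.PairBlow.PnTwist
import Groth.Agent.L13.PairBlow.Basic
import Groth.Agent.L07.DiffOpSheaf
import Groth.Agent.L14.LocHilb.Lift.PushHom

set_option autoImplicit false
universe u
open CategoryTheory CategoryTheory.Limits AlgebraicGeometry
open Resolve

namespace Groth.Agent.S7339

/-- Let X be a Noetherian scheme, ι : E → X a closed immersion which is an exceptional curve of the
first kind, with ideal sheaf I and M = O_X(E) an inverse of I for the tensor product, and L an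
invertible O_X-module whose pullback to E ≅ P^1_k (for some field k and isomorphism e : P^1_k ≅ E)
is isomorphic to O(n). If H^1(X, L) = 0 and n ≥ 0, then H^1(X, L(iE)) = 0 for 0 ≤ i ≤ n + 1, where
L(iE) = L ⊗ M^{⊗ i}. (The published statement also asserts, for n ≤ 0, that H^1(X, L) → H^1(X, L(E))
is injective; this row states only the vanishing for n ≥ 0.) -/
theorem result {E X : Scheme.{u}} [IsNoetherian X] (ι : E ⟶ X) [IsClosedImmersion ι]
    (hE : Models.IsExcCurve ι) (M : X.Modules) (hM : ClSub.IsInverseOf M (ClSub.idealMod ι.ker))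
    (L : X.Modules) (hL : PicF.IsInvertible L)
    (k : Type u) [Field k] (e : CohB1.ProjSpace 1 k ≅ E) (n : ℕ)
    (hn : Nonempty ((Scheme.Modules.pullback (e.hom ≫ ι)).obj L ≅ Twist.twistProjSpace 1 k (n : ℤ)))
    (h1 : Subsingleton (Coh.HH X L 1)) (i : ℕ) (hi : i ≤ n + 1) :
    Subsingleton (Coh.HH X (CohB1.tensorMod L (CohB1.tensorPow M i)) 1) := by
  obtain ⟨hcart, k', _, e', ⟨i₁⟩⟩ := hE
  have hIinv : PicF.IsInvertible (ClSub.idealMod ι.ker) := (Groth.Agent.L19.IdealInvertible.isEffCartier_iff _).2 hcart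
  have hMinv : PicF.IsInvertible M := Groth.L13.PointBlow.isInvertible_of_isInverseOf hIinv hM
  let q := e.hom ≫ ι
  let φ : CohB1.ProjSpace 1 k ≅ CohB1.ProjSpace 1 k' := e ≪≫ e'.symm
  obtain ⟨p⟩ := Groth.L13.PnTwist.pullback_one φ
  have hI : Nonempty ((Scheme.Modules.pullback q).obj (ClSub.idealMod ι.ker) ≅ Twist.twistProjSpace 1 k 1) :=
    ⟨(Scheme.Modules.pullbackCongr (show φ.hom ≫ e'.hom ≫ ι = q by simp [φ, q]).symm).app _ ≪≫
      ((Scheme.Modules.pullbackComp φ.hom (e'.hom ≫ ι)).app _).symm ≪≫ (Scheme.Modules.pullback φ.hom).mapIso i₁ ≪≫ p⟩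
  have hMq := Groth.L13.PnTwist.pullback_inverse q hM hI
  induction i with
  | zero =>
    exact Groth.L14.LocHilbLift.subsingleton_HH_of_iso (Groth.L00.Tensor.tensorUnitRight L).symm 1 h1
  | succ i ih =>
    have ih := ih (by omega)
    let N := CohB1.tensorMod L (CohB1.tensorPow M (i + 1))
    have hNinv : PicF.IsInvertible N :=
      Groth.L18.GenLoc.isInvertible_tensor hL (Groth.L18.Ample.isInvertible_tensorPow hMinv (i + 1))
    have hN := Groth.L16.Existence.isFinLocFree_of_isInvertible hNinv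
    obtain ⟨S, hS, e₁, e₂, -, ⟨e₃⟩⟩ := Groth.L13.PairBlow.exists_seq ι.ker hN
    have hA : Subsingleton (Coh.HH X S.X₁ 1) :=
      Groth.L14.LocHilbLift.subsingleton_HH_of_iso (e₁ ≪≫ Groth.L00.Tensor.tensorComm _ N ≪≫
        Groth.L00.Tensor.tensorAssoc L _ _ ≪≫ Groth.L00.Tensor.tensorIso (Iso.refl L)
          (Groth.L00.Tensor.tensorAssoc (CohB1.tensorPow M i) M _ ≪≫
            Groth.L00.Tensor.tensorIso (Iso.refl _) hM.some ≪≫ Groth.L00.Tensor.tensorUnitRight _)).symm 1 ih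
    let q0 : CohB1.ProjSpace 1 k ⟶ ι.ker.subscheme := e.hom ≫ ι.toImage
    haveI : IsIso q0 := inferInstanceAs (IsIso (e.hom ≫ ι.toImage))
    have hq0 : q0 ≫ ι.ker.subschemeι = q := by
      show (e.hom ≫ ι.toImage) ≫ ι.imageι = e.hom ≫ ι
      rw [Category.assoc, Scheme.Hom.toImage_imageι]
    obtain ⟨pM⟩ := Groth.L13.PnTwist.pullback_pow q hMq (i + 1)
    obtain ⟨t⟩ := Groth.L13.PnTwist.twist_add (k := k) (n : ℤ) (((i + 1 : ℕ) : ℤ) * -1)
    let G := (Scheme.Modules.pullback ι.ker.subschemeι).obj N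
    haveI := Groth.L07.DiffOpSheaf.isIso_unit_of_isIso q0 G
    have hP := Groth.L16.ProjSpace.subsingleton_HH_twist 1 k ((n : ℤ) + ((i + 1 : ℕ) : ℤ) * -1) 1 (by omega) (by omega)
    have hG : Subsingleton (Coh.HH ι.ker.subscheme G 1) :=
      Groth.L14.LocHilbLift.subsingleton_HH_of_iso
        (asIso ((Scheme.Modules.pullbackPushforwardAdjunction q0).unit.app G)).symm 1
        (Groth.L14.LocHilbLift.subsingleton_HH_push q0 _ 1 (Groth.L14.LocHilbLift.subsingleton_HH_of_iso
          ((Scheme.Modules.pullbackComp q0 ι.ker.subschemeι).app N ≪≫ (Scheme.Modules.pullbackCongr hq0).app N ≪≫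
            (Groth.L29.DC.PullTensor.pullTensor q _ _).symm ≪≫ Groth.L00.Tensor.tensorIso hn.some pM ≪≫ t).symm 1 hP))
    have hC : Subsingleton (Coh.HH X S.X₃ 1) :=
      Groth.L14.LocHilbLift.subsingleton_HH_of_iso e₃.symm 1
        (Groth.L14.LocHilbLift.subsingleton_HH_push ι.ker.subschemeι G 1 hG)
    refine Groth.L14.LocHilbLift.subsingleton_HH_of_iso e₂ 1 ⟨fun x y => ?_⟩
    have h0 : ∀ z : Coh.HH X S.X₂ 1, z = 0 := fun z => by
      obtain ⟨a, rfl⟩ := ((Groth.L16.CohLinear.exact_hmap_hmap hS 1) z).1 (@Subsingleton.elim _ hC _ _)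
      rw [@Subsingleton.elim _ hA a 0, map_zero]
    rw [h0 x, h0 y]

end Groth.Agent.S7339
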