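import Groth.Statements.S7340
import Mathlib.RingTheory.Kaehler.Basic
import Mathlib.RingTheory.AdjoinRoot
import Mathlib.Algebra.CharP.Lemmas
import Mathlib.Data.ZMod.Units
import Mathlib.Algebra.CharP.Algebra
import Mathlib.RingTheory.AlgebraTower

set_option autoImplicit false
universe u
open Polynomial
open Resolve

namespace Groth.Agent.S7340

open Polynomial in
theorem inj {R : Type u} [CommRing R] [Nontrivial R] {p : ℕ} (hp : 0 < p) (b : R) :
    Function.Injective (algebraMap R (AdjoinRoot (X ^ p - C b : R[X]))) := by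
  rw [injective_iff_map_eq_zero]
  intro r hr
  have hd : (X ^ p - C b : R[X]) ∣ C r := AdjoinRoot.mk_eq_zero.mp ((AdjoinRoot.mk_C r).trans hr)
  by_contra h
  exact (monic_X_pow_sub_C b hp.ne').not_dvd_of_natDegree_lt (C_ne_zero.mpr h)
    (by rw [natDegree_C, natDegree_X_pow_sub_C]; exact hp) hd

open Polynomial Finset in
theorem binom_split {S : Type u} [CommRing S] (m : ℕ) (z w : S) :
    ∑ j ∈ Finset.range m, (m.choose j : S) * (z ^ j * w ^ (m - j)) = (z + w) ^ m - z ^ m := by
  rw [add_pow z w m, Finset.sum_range_succ]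
  simp [mul_comm, mul_assoc, mul_left_comm]

theorem binom_split' {S : Type u} [CommRing S] (m : ℕ) (z w : S) :
    ∑ j ∈ Finset.range m, (m.choose (j + 1) : S) * (z ^ (j + 1) * w ^ (m - (j + 1))) = (z + w) ^ m - w ^ m := by
  rw [add_pow z w m, Finset.sum_range_succ']
  simp [mul_comm, mul_assoc, mul_left_comm]

open Polynomial in
theorem exact_diff (p : ℕ) [Fact p.Prime] {R S : Type u} [CommRing R] [CommRing S] [Algebra R S] [CharP R p] (z w : S) :
    ∃ G : S, ((z + w) ^ (p - 1)) • (KaehlerDifferential.D R S (z + w)) - z ^ (p - 1) • KaehlerDifferential.D R S z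
      - w ^ (p - 1) • KaehlerDifferential.D R S w = KaehlerDifferential.D R S G := by
  obtain ⟨m, rfl⟩ : ∃ m, p = m + 1 := ⟨p - 1, by have := (Fact.out : p.Prime).pos; omega⟩
  have hu : ∀ k : ℕ, 0 < k → k < m + 1 → IsUnit ((k : ℕ) : R) := fun k hk hk' =>
    (ZMod.isUnit_iff_coprime k (m + 1)).mpr (Nat.coprime_comm.mp
      ((Nat.Prime.coprime_iff_not_dvd Fact.out).mpr (Nat.not_dvd_of_pos_of_lt hk hk'))) |>.map (ZMod.castHom dvd_rfl R)
      |> fun h => by simpa using h
  let g : ℕ → R := fun j => (m.choose j : R) * Ring.inverse ((j + 1 : ℕ) : R)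
  have hg : ∀ j < m, g j * ((j + 1 : ℕ) : R) = m.choose j := fun j hj => by
    rw [mul_assoc, Ring.inverse_mul_cancel _ (hu _ (by omega) (by omega)), mul_one]
  have hg' : ∀ j < m, g j * ((m - j : ℕ) : R) = m.choose (j + 1) := fun j hj => by
    have h1 := congrArg (Nat.cast (R := R)) (Nat.choose_succ_right_eq m j)
    push_cast at h1
    refine (hu (j + 1) (by omega) (by omega)).mul_left_injective (?_ : _ * ((j + 1 : ℕ) : R) = _ * ((j + 1 : ℕ) : R))
    rw [mul_right_comm, hg j hj]
    push_cast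
    exact h1.symm
  refine ⟨∑ j ∈ Finset.range m, g j • (z ^ (j + 1) * w ^ (m - j)), ?_⟩
  rw [map_sum]
  have hterm : ∀ j ∈ Finset.range m, KaehlerDifferential.D R S (g j • (z ^ (j + 1) * w ^ (m - j))) =
      ((m.choose j : S) * (z ^ j * w ^ (m - j))) • KaehlerDifferential.D R S z +
      ((m.choose (j + 1) : S) * (z ^ (j + 1) * w ^ (m - (j + 1)))) • KaehlerDifferential.D R S w := by
    intro j hj
    have hj' := Finset.mem_range.mp hj
    rw [Derivation.map_smul, Derivation.leibniz, Derivation.leibniz_pow, Derivation.leibniz_pow,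
      Nat.add_sub_cancel, show m - j - 1 = m - (j + 1) by omega, smul_add,
      ← map_natCast (algebraMap R S) (m.choose j), ← hg j hj',
      ← map_natCast (algebraMap R S) (m.choose (j + 1)), ← hg' j hj']
    simp only [← Nat.cast_smul_eq_nsmul S, ← algebraMap_smul S (g j), smul_smul]
    rw [add_comm]
    congr 2 <;> push_cast [map_mul, map_natCast] <;> ring
  rw [Finset.sum_congr rfl hterm, Finset.sum_add_distrib, ← Finset.sum_smul, ← Finset.sum_smul,
    binom_split, binom_split', map_add, smul_add, sub_smul, sub_smul, Nat.add_sub_cancel]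
  abel

open Polynomial in
theorem key (p : ℕ) [Fact p.Prime] (R : Type u) [CommRing R] [CharP R p] (b : R)
    (Ty : Ω[AdjoinRoot (X ^ p - C b : R[X])⁄R] →ₗ[R] Ω[R⁄ℤ])
    (hTy : ∀ i : ℕ, i + 2 ≤ p →
      Ty (AdjoinRoot.root (X ^ p - C b) ^ i • KaehlerDifferential.D R _ (AdjoinRoot.root (X ^ p - C b))) = 0)
    (hTy' : Ty (AdjoinRoot.root (X ^ p - C b) ^ (p - 1) • KaehlerDifferential.D R _ (AdjoinRoot.root (X ^ p - C b))) =
      KaehlerDifferential.D ℤ R b) :
    (∀ z, Ty (KaehlerDifferential.D R _ z) = 0) ∧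
    ∀ z : AdjoinRoot (X ^ p - C b : R[X]), ∃ a : R, z ^ p = algebraMap R _ a ∧
      Ty (z ^ (p - 1) • KaehlerDifferential.D R _ z) = KaehlerDifferential.D ℤ R a := by
  haveI : Nontrivial R := CharP.nontrivial_of_char_ne_one (Fact.out : p.Prime).ne_one
  have hp := (Fact.out : p.Prime).pos
  have hm : (X ^ p - C b : R[X]).Monic := monic_X_pow_sub_C b hp.ne'
  let S := AdjoinRoot (X ^ p - C b : R[X])
  let y : S := AdjoinRoot.root _
  let pb := AdjoinRoot.powerBasis' hm
  have hdim : pb.dim = p := by simp [pb]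
  have hpw : ∀ i : Fin pb.dim, pb.basis i = y ^ (i : ℕ) := fun i => by simp [pb, y]
  have hy : y ^ p = algebraMap R S b := by
    have h := AdjoinRoot.eval₂_root (X ^ p - C b : R[X])
    rw [eval₂_sub, eval₂_X_pow, eval₂_C, sub_eq_zero] at h
    exact h
  have hD : ∀ z : S, Ty (KaehlerDifferential.D R S z) = 0 := by
    intro z
    have hzero : (Ty ∘ₗ (KaehlerDifferential.D R S).toLinearMap) = 0 := pb.basis.ext fun i => by
      show Ty (KaehlerDifferential.D R S (pb.basis i)) = 0
      rw [hpw, Derivation.leibniz_pow, map_nsmul]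
      rcases Nat.eq_zero_or_pos (i : ℕ) with h | h
      · rw [h, zero_smul]
      · rw [hTy _ (by omega), smul_zero]
    exact LinearMap.congr_fun hzero z
  refine ⟨hD, fun z => ?_⟩
  have hz : z ∈ Submodule.span R (Set.range pb.basis) := by rw [pb.basis.span_eq]; trivial
  haveI : CharP S p := charP_of_injective_algebraMap (inj hp b) p
  induction hz using Submodule.span_induction with
  | mem z hz =>
    obtain ⟨i, rfl⟩ := hz
    rw [hpw]
    refine ⟨b ^ (i : ℕ), by rw [← pow_mul, mul_comm, pow_mul, hy, map_pow], ?_⟩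
    rcases Nat.eq_zero_or_pos (i : ℕ) with h | h
    · simp [h]
    · obtain ⟨j, hj⟩ : ∃ j, (i : ℕ) = j + 1 := ⟨(i : ℕ) - 1, by omega⟩
      rw [hj, Derivation.leibniz_pow, Nat.add_sub_cancel, smul_comm, smul_smul, ← pow_mul, ← pow_add,
        show (j + 1) * (p - 1) + j = j * p + (p - 1) by cases p <;> simp_all <;> ring,
        pow_add, mul_comm j p, pow_mul, hy, ← map_pow, mul_smul, algebraMap_smul, map_nsmul, map_smul, hTy',
        Derivation.leibniz_pow, Nat.add_sub_cancel]
  | zero => exact ⟨0, by simp [zero_pow hp.ne'], by simp⟩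
  | add u v _ _ hu hv =>
    obtain ⟨c, hc, hc'⟩ := hu
    obtain ⟨d, hd, hd'⟩ := hv
    refine ⟨c + d, by rw [add_pow_char, hc, hd, map_add], ?_⟩
    obtain ⟨G, hG⟩ := exact_diff p (R := R) u v
    have := congrArg Ty hG
    rw [map_sub, map_sub, hD, hc', hd', sub_sub, sub_eq_zero] at this
    rw [this, map_add]
  | smul r u _ hu =>
    obtain ⟨c, hc, hc'⟩ := hu
    refine ⟨r ^ p * c, by rw [Algebra.smul_def, mul_pow, hc, map_mul, map_pow], ?_⟩
    rw [Derivation.map_smul, smul_pow, smul_assoc, smul_comm (u ^ (p - 1)) r, smul_smul,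
      ← pow_succ, Nat.sub_add_cancel hp, map_smul, hc']
    rw [Derivation.leibniz, Derivation.leibniz_pow]
    simp [← Nat.cast_smul_eq_nsmul R, CharP.cast_eq_zero]


/-- Let p be a prime number and R an F_p-algebra, a, b ∈ R, S_a = R[x]/(x^p - a) and S_b = R[y]/(y^p -
b). The trace Tr_x : Ω_{S_a/R} → Ω_R is the R-linear map with x^i dx ↦ 0 for 0 ≤ i ≤ p - 2 and
x^{p-1} dx ↦ da (these determine it, Ω_{S_a/R} being free over R on the x^i dx), and similarly Tr_y.
Then for every R-algebra homomorphism φ : S_a → S_b one has Tr_x = Tr_y ∘ φ_*: for all s, t ∈ S_a,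
Tr_x(s dt) = Tr_y(φ(s) dφ(t)). Here Ω_R is the module of absolute differentials Ω_{R/Z}. -/
theorem result (p : ℕ) [Fact p.Prime] (R : Type u) [CommRing R] [CharP R p] (a b : R)
    (φ : AdjoinRoot (X ^ p - C a : R[X]) →ₐ[R] AdjoinRoot (X ^ p - C b : R[X]))
    (Tx : Ω[AdjoinRoot (X ^ p - C a : R[X])⁄R] →ₗ[R] Ω[R⁄ℤ])
    (Ty : Ω[AdjoinRoot (X ^ p - C b : R[X])⁄R] →ₗ[R] Ω[R⁄ℤ])
    (hTx : ∀ i : ℕ, i + 2 ≤ p →
      Tx (AdjoinRoot.root (X ^ p - C a) ^ i • KaehlerDifferential.D R _ (AdjoinRoot.root (X ^ p - C a))) = 0)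
    (hTx' : Tx (AdjoinRoot.root (X ^ p - C a) ^ (p - 1) • KaehlerDifferential.D R _ (AdjoinRoot.root (X ^ p - C a))) =
      KaehlerDifferential.D ℤ R a)
    (hTy : ∀ i : ℕ, i + 2 ≤ p →
      Ty (AdjoinRoot.root (X ^ p - C b) ^ i • KaehlerDifferential.D R _ (AdjoinRoot.root (X ^ p - C b))) = 0)
    (hTy' : Ty (AdjoinRoot.root (X ^ p - C b) ^ (p - 1) • KaehlerDifferential.D R _ (AdjoinRoot.root (X ^ p - C b))) =
      KaehlerDifferential.D ℤ R b)
    (s t : AdjoinRoot (X ^ p - C a : R[X])) :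
    Tx (s • KaehlerDifferential.D R _ t) = Ty (φ s • KaehlerDifferential.D R _ (φ t)) := by
  haveI : Nontrivial R := CharP.nontrivial_of_char_ne_one (Fact.out : p.Prime).ne_one
  have hp := (Fact.out : p.Prime).pos
  obtain ⟨hD, hK⟩ := key p R b Ty hTy hTy'
  let x := AdjoinRoot.root (X ^ p - C a : R[X])
  have hm : (X ^ p - C a : R[X]).Monic := monic_X_pow_sub_C a hp.ne'
  let pb := AdjoinRoot.powerBasis' hm
  have main : ∀ u, Tx (u • KaehlerDifferential.D R _ x) = Ty (φ u • KaehlerDifferential.D R _ (φ x)) := by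
    intro u
    have hu : u ∈ Submodule.span R (Set.range pb.basis) := by rw [pb.basis.span_eq]; trivial
    induction hu using Submodule.span_induction with
    | mem u hu =>
      obtain ⟨i, rfl⟩ := hu
      have hi : (i : ℕ) < p := by have := i.2; simpa [pb] using this
      rw [show pb.basis i = x ^ (i : ℕ) by simp [pb, x], map_pow]
      rcases Nat.lt_or_ge ((i : ℕ) + 1) p with h | h
      · rw [hTx _ (by omega)]
        have h1 := hD (φ x ^ ((i : ℕ) + 1))
        rw [Derivation.leibniz_pow, Nat.add_sub_cancel, map_nsmul, ← Nat.cast_smul_eq_nsmul R] at h1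
        have hu : IsUnit (((i : ℕ) + 1 : ℕ) : R) := by
          simpa using ((ZMod.isUnit_iff_coprime _ p).mpr (Nat.coprime_comm.mp
            ((Nat.Prime.coprime_iff_not_dvd Fact.out).mpr (Nat.not_dvd_of_pos_of_lt (by omega) h)))).map
              (ZMod.castHom dvd_rfl R)
        exact ((hu.smul_eq_zero).mp h1).symm
      · rw [show (i : ℕ) = p - 1 by omega, hTx']
        obtain ⟨a', ha', ha''⟩ := hK (φ x)
        rw [ha'']
        congr 1
        have hx : x ^ p = algebraMap R _ a := by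
          have h := AdjoinRoot.eval₂_root (X ^ p - C a : R[X])
          rw [eval₂_sub, eval₂_X_pow, eval₂_C, sub_eq_zero] at h
          exact h
        rw [← map_pow, hx, AlgHom.commutes] at ha'
        exact inj hp b ha'
    | zero => simp
    | add u v _ _ hu hv => simp only [add_smul, map_add, hu, hv]
    | smul r u _ hu => simp only [smul_assoc, map_smul, hu]
  induction t using AdjoinRoot.induction_on with
  | ih f =>
    have hd : ∀ {S : Type u} [CommRing S] [Algebra R S] (z : S),
        KaehlerDifferential.D R S (aeval z f) = aeval z (derivative f) • KaehlerDifferential.D R S z :=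
      fun z => Derivation.map_aeval _ f z
    rw [← AdjoinRoot.aeval_eq f, ← aeval_algHom_apply φ x f, hd, hd, smul_smul, smul_smul, main, map_mul,
      aeval_algHom_apply]

end Groth.Agent.S7340
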