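import Groth.Statements.S7341
import Groth.Agent.L26.NumType.Chains
import Mathlib.Tactic.FinCases

set_option autoImplicit false
open Finset
open Models Models.NumericalType

namespace Groth.Agent.S7341

/-- Classification of proper subgraphs which are chains of three vertices: let T be a numerical type on
n > 3 indices and i, j, k distinct (-2)-indices with a_ij > 0 and a_jk > 0. Then a_ik = 0 and, up to
reversing the order of i, j, k, one of the following holds for some integer w: (A3) w_i = w_j = w_k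
= w, a_ij = a_jk = w, with 2 m_i ≥ m_j, 2 m_j ≥ m_i + m_k, 2 m_k ≥ m_j; (C3) w_i = w_j = w, w_k =
2w, a_ij = w, a_jk = 2w, with 2 m_i ≥ m_j, 2 m_j ≥ m_i + 2 m_k, 2 m_k ≥ m_j; (B3) w_i = w_j = 2w,
w_k = w, a_ij = a_jk = 2w, with 2 m_i ≥ m_j, 2 m_j ≥ m_i + m_k, m_k ≥ m_j. -/
theorem result {n : ℕ} (T : Models.NumericalType n) (hn : 3 < n) (i j k : Fin n)
    (hij : i ≠ j) (hjk : j ≠ k) (hik : i ≠ k) (hi : T.IsMinusTwo i) (hj : T.IsMinusTwo j) (hk : T.IsMinusTwo k)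
    (h1 : 0 < T.a i j) (h2 : 0 < T.a j k) :
    T.a i k = 0 ∧ ∃ (i' k' : Fin n) (w : ℤ), ((i' = i ∧ k' = k) ∨ (i' = k ∧ k' = i)) ∧
      ((T.w i' = w ∧ T.w j = w ∧ T.w k' = w ∧ T.a i' j = w ∧ T.a j k' = w ∧
          T.m j ≤ 2 * T.m i' ∧ T.m i' + T.m k' ≤ 2 * T.m j ∧ T.m j ≤ 2 * T.m k') ∨
        (T.w i' = w ∧ T.w j = w ∧ T.w k' = 2 * w ∧ T.a i' j = w ∧ T.a j k' = 2 * w ∧
          T.m j ≤ 2 * T.m i' ∧ T.m i' + 2 * T.m k' ≤ 2 * T.m j ∧ T.m j ≤ 2 * T.m k') ∨
        (T.w i' = 2 * w ∧ T.w j = 2 * w ∧ T.w k' = w ∧ T.a i' j = 2 * w ∧ T.a j k' = 2 * w ∧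
          T.m j ≤ 2 * T.m i' ∧ T.m i' + T.m k' ≤ 2 * T.m j ∧ T.m j ≤ T.m k')) := by
  have h := Groth.L26.NumType.ofPath (v := ![i, j, k]) (T := T) (by
    intro p q e; fin_cases p <;> fin_cases q <;> simp_all [eq_comm]) (by
    intro p; fin_cases p <;> assumption) (by
    intro p q e; fin_cases p <;> fin_cases q <;> simp at e <;> first | exact h1.ne' | exact h2.ne')
  refine ⟨h.zero_of_lt hn (i := 0) (j := 2) (by omega) (by omega), ?_⟩
  obtain ⟨u', hu, hp, w, hnf⟩ := h.normal_form (by omega) hn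
  have ne : ∀ {p q : ℕ}, p < 3 → q < 3 → p ≠ q → u' p ≠ u' q := hp.ne
  have sy := Groth.L26.NumType.a_symm T
  have I0 := Groth.L26.NumType.ineq_one (hp.minusTwo 0 (by omega)) (ne (show 0 < 3 by omega) (show 1 < 3 by omega) (by omega))
  have I1 := Groth.L26.NumType.ineq_two (hp.minusTwo 1 (by omega)) (ne (show 1 < 3 by omega) (show 0 < 3 by omega) (by omega)) (ne (show 1 < 3 by omega) (show 2 < 3 by omega) (by omega)) (ne (show 0 < 3 by omega) (show 2 < 3 by omega) (by omega))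
  have I2 := Groth.L26.NumType.ineq_one (hp.minusTwo 2 (by omega)) (ne (show 2 < 3 by omega) (show 1 < 3 by omega) (by omega))
  have hjm : u' 1 = j := by rcases hu with hu | hu <;> exact hu 1 (by omega)
  refine ⟨u' 0, u' 2, w, ?_, ?_⟩
  · rcases hu with hu | hu
    · exact Or.inl ⟨hu 0 (by omega), hu 2 (by omega)⟩
    · exact Or.inr ⟨hu 0 (by omega), hu 2 (by omega)⟩
  rw [← hjm]
  rcases hnf with ⟨hw, ha⟩ | ⟨hw, hl, ha, hla⟩ | ⟨hw, hl, ha⟩ | ⟨h4, F0, F1, F2, F3, G0, G1, G2⟩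
  · have W0 : T.w (u' 0) = w := hw 0 (by omega)
    have W1 : T.w (u' 1) = w := hw 1 (by omega)
    have W2 : T.w (u' 2) = w := hw 2 (by omega)
    have A0 : T.a (u' 0) (u' 1) = w := ha 0 (by omega)
    have A1 : T.a (u' 1) (u' 2) = w := ha 1 (by omega)
    simp only [sy (u' 1) (u' 0), sy (u' 2) (u' 1), W0, W1, W2, A0, A1] at I0 I1 I2
    have wp : 0 < w := by have := T.w_pos (u' 0); omega
    exact Or.inl ⟨W0, W1, W2, A0, A1, Groth.L26.NumType.cancel_w wp (by linarith), Groth.L26.NumType.cancel_w wp (by linarith), Groth.L26.NumType.cancel_w wp (by linarith)⟩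
  · have W0 : T.w (u' 0) = w := hw 0 (by omega)
    have W1 : T.w (u' 1) = w := hw 1 (by omega)
    have W2 : T.w (u' 2) = 2 * w := hl
    have A0 : T.a (u' 0) (u' 1) = w := ha 0 (by omega)
    have A1 : T.a (u' 1) (u' 2) = 2 * w := hla
    simp only [sy (u' 1) (u' 0), sy (u' 2) (u' 1), W0, W1, W2, A0, A1] at I0 I1 I2
    have wp : 0 < w := by have := T.w_pos (u' 0); omega
    exact Or.inr (Or.inl ⟨W0, W1, W2, A0, A1, Groth.L26.NumType.cancel_w wp (by linarith), Groth.L26.NumType.cancel_w wp (by linarith), Groth.L26.NumType.cancel_w wp (by linarith)⟩)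
  · have W0 : T.w (u' 0) = 2 * w := hw 0 (by omega)
    have W1 : T.w (u' 1) = 2 * w := hw 1 (by omega)
    have W2 : T.w (u' 2) = w := hl
    have A0 : T.a (u' 0) (u' 1) = 2 * w := ha 0 (by omega)
    have A1 : T.a (u' 1) (u' 2) = 2 * w := ha 1 (by omega)
    simp only [sy (u' 1) (u' 0), sy (u' 2) (u' 1), W0, W1, W2, A0, A1] at I0 I1 I2
    have wp : 0 < w := by have := T.w_pos (u' 0); omega
    exact Or.inr (Or.inr (⟨W0, W1, W2, A0, A1, Groth.L26.NumType.cancel_w wp (by linarith), Groth.L26.NumType.cancel_w wp (by linarith), Groth.L26.NumType.cancel_w wp (by linarith)⟩))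
  · omega

end Groth.Agent.S7341
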