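import Groth.Statements.S7342
import Groth.Agent.L26.NumType.Classify
import Mathlib.Tactic.FinCases

set_option autoImplicit false
open Finset
open Models Models.NumericalType

namespace Groth.Agent.S7342

/-- Let T be a numerical type on n indices, t ≥ 4 and n > t + 2. Then no t + 2 (-2)-indices of T,
pairwise distinct and numbered i_0, …, i_{t+1}, satisfy: a_{i_j i_{j+1}} > 0 for 1 ≤ j ≤ t - 1,
a_{i_0 i_2} > 0 and a_{i_{t-1} i_{t+1}} > 0. -/
theorem result {n : ℕ} (T : Models.NumericalType n) (t : ℕ) (ht : 4 ≤ t) (hn : t + 2 < n)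
    (v : Fin (t + 2) ↪ Fin n) (hv : ∀ j, T.IsMinusTwo (v j))
    (hchain : ∀ j j' : Fin (t + 2), 1 ≤ j.val → j.val + 1 ≤ t → j'.val = j.val + 1 → 0 < T.a (v j) (v j'))
    (h02 : ∀ j j' : Fin (t + 2), j.val = 0 → j'.val = 2 → 0 < T.a (v j) (v j'))
    (hlast : ∀ j j' : Fin (t + 2), j.val = t - 1 → j'.val = t + 1 → 0 < T.a (v j) (v j')) : False := by
  obtain ⟨L, rfl⟩ : ∃ L, t = L + 3 := ⟨t - 3, by omega⟩
  refine Groth.L26.NumType.no_fork_fork T (L := L) (by omega) (Groth.L26.NumType.ext v) (Groth.L26.NumType.ext_injOn v.injective) (fun i _ => hv _) ?_ ?_ ?_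
  · intro i h1 h2
    rw [Groth.L26.NumType.ext_mk v (by omega : i < L + 3 + 2), Groth.L26.NumType.ext_mk v (by omega : i + 1 < L + 3 + 2)]
    exact (hchain _ _ h1 (by simp only []; omega) rfl).ne'
  · rw [Groth.L26.NumType.ext_mk v (by omega : 0 < L + 3 + 2), Groth.L26.NumType.ext_mk v (by omega : 2 < L + 3 + 2)]
    exact (h02 _ _ rfl rfl).ne'
  · rw [Groth.L26.NumType.ext_mk v (by omega : L + 2 < L + 3 + 2), Groth.L26.NumType.ext_mk v (by omega : L + 4 < L + 3 + 2)]
    exact (hlast _ _ (by simp only []; omega) (by simp only [])).ne'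

end Groth.Agent.S7342
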