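import Groth.Statements.S7344
import Groth.Agent.L26.NumType.Classify
import Mathlib.Tactic.FinCases

set_option autoImplicit false
open Finset
open Models Models.NumericalType

namespace Groth.Agent.S7344

/-- Let T be a numerical type on n > 8 indices. Then no eight (-2)-indices of T, pairwise distinct and
named e, f, g, h, i, j, k, l, have a_ef, a_fg, a_gh, a_hi, a_ij, a_jk and a_lh all nonzero (a chain
of seven, e to k, with l joined to its fourth vertex h). -/
theorem result {n : ℕ} (T : Models.NumericalType n) (hn : 8 < n)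
    (v : Fin 8 ↪ Fin n) (hv : ∀ j, T.IsMinusTwo (v j))
    (h01 : T.a (v 0) (v 1) ≠ 0) (h12 : T.a (v 1) (v 2) ≠ 0) (h23 : T.a (v 2) (v 3) ≠ 0)
    (h34 : T.a (v 3) (v 4) ≠ 0) (h45 : T.a (v 4) (v 5) ≠ 0) (h56 : T.a (v 5) (v 6) ≠ 0)
    (h73 : T.a (v 7) (v 3) ≠ 0) : False := by
  refine Groth.L26.NumType.no_config T (k := 8) (by omega) hn (Groth.L26.NumType.ext v) (Groth.L26.NumType.ext_injOn v.injective)
    (fun i _ => hv _) {(0, 1), (1, 2), (2, 3), (3, 4), (4, 5), (5, 6), (3, 7)} (fun _ => 1) (fun i => if i = 0 then 1 else if i = 1 then 2 else if i = 2 then 3 else if i = 3 then 4 else if i = 4 then 3 else if i = 5 then 2 else if i = 6 then 1 else 2) ?_ ?_ ?_ ?_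
  · intro i _; split_ifs <;> norm_num
  · decide
  · simp only [mem_insert, mem_singleton, forall_eq_or_imp, forall_eq]
    exact ⟨Groth.L26.NumType.bound_one T (v.injective.ne (by decide)) h01, Groth.L26.NumType.bound_one T (v.injective.ne (by decide)) h12, Groth.L26.NumType.bound_one T (v.injective.ne (by decide)) h23, Groth.L26.NumType.bound_one T (v.injective.ne (by decide)) h34, Groth.L26.NumType.bound_one T (v.injective.ne (by decide)) h45, Groth.L26.NumType.bound_one T (v.injective.ne (by decide)) h56, Groth.L26.NumType.bound_one T (v.injective.ne (by decide)) (by rw [Groth.L26.NumType.a_symm T]; exact h73)⟩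
  · simp [Finset.sum_range_succ]; norm_num

end Groth.Agent.S7344
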