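import Groth.Statements.S7346
import Groth.Agent.L26.NumType.Classify
import Mathlib.Tactic.FinCases

set_option autoImplicit false
open Finset
open Models Models.NumericalType

namespace Groth.Agent.S7346

/-- Classification of proper subgraphs of type D4 (one vertex joined to three others): let T be a
numerical type on n > 4 indices and i_1, …, i_4 distinct (-2)-indices with a_{12}, a_{13}, a_{14}
nonzero. Then for some integer w all w_{i_j} equal w, these intersection numbers equal w, all other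
a_{i_j i_k} (j ≠ k) vanish, and 2 m_1 ≥ m_2 + m_3 + m_4, 2 m_2 ≥ m_1, 2 m_3 ≥ m_1, 2 m_4 ≥ m_1. -/
theorem result {n : ℕ} (T : Models.NumericalType n) (hn : 4 < n)
    (v : Fin 4 ↪ Fin n) (hv : ∀ j, T.IsMinusTwo (v j)) (h01 : T.a (v 0) (v 1) ≠ 0) (h02 : T.a (v 0) (v 2) ≠ 0) (h03 : T.a (v 0) (v 3) ≠ 0) :
    ∃ w : ℤ, (∀ j : Fin 4, T.w (v j) = w) ∧
      T.a (v 0) (v 1) = w ∧
      T.a (v 0) (v 2) = w ∧
      T.a (v 0) (v 3) = w ∧
      T.a (v 1) (v 2) = 0 ∧
      T.a (v 1) (v 3) = 0 ∧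
      T.a (v 2) (v 3) = 0 ∧
      T.m (v 1) + T.m (v 2) + T.m (v 3) ≤ 2 * T.m (v 0) ∧
      T.m (v 0) ≤ 2 * T.m (v 1) ∧
      T.m (v 0) ≤ 2 * T.m (v 2) ∧
      T.m (v 0) ≤ 2 * T.m (v 3) := by
  let e : Fin 4 → Fin 4 := ![1, 0, 2, 3]
  have he : Function.Injective e := by decide
  obtain ⟨hw, ha, hb, hz⟩ := Groth.L26.NumType.fork_structure (T := T) (u := Groth.L26.NumType.ext (fun j => v (e j))) (t := 3)
    le_rfl hn (Groth.L26.NumType.ext_injOn (v.injective.comp he)) (fun i _ => hv _)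
    (fun i hi => by
      have hi2 : i < 2 := by omega
      interval_cases i
      · rw [Groth.L26.NumType.a_symm T]; exact h01
      · exact h02) h03
  have hw1 := hw 1 (by omega); have hw2 := hw 2 (by omega); have hw3 := hw 3 (by omega)
  have a0 := ha 0 (by omega); have a1 := ha 1 (by omega)
  have z2 := hz 0 2 (by omega) (by omega) (by omega) (by omega)
  have z3 := hz 0 3 (by omega) (by omega) (by omega) (by omega)
  have z23 := hz 2 3 (by omega) (by omega) (by omega) (by omega)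
  change T.w (v 0) = T.w (v 1) at hw1
  change T.w (v 2) = T.w (v 1) at hw2
  change T.w (v 3) = T.w (v 1) at hw3
  change T.a (v 1) (v 0) = T.w (v 1) at a0
  change T.a (v 0) (v 2) = T.w (v 1) at a1
  change T.a (v 0) (v 3) = T.w (v 1) at hb
  change T.a (v 1) (v 2) = 0 at z2
  change T.a (v 1) (v 3) = 0 at z3
  change T.a (v 2) (v 3) = 0 at z23
  have ne : ∀ {p q : Fin 4}, p ≠ q → v p ≠ v q := fun h => v.injective.ne h
  have i0 := Groth.L26.NumType.ineq_three (hv 0) (ne (show (0:Fin 4) ≠ 1 by decide)) (ne (show (0:Fin 4) ≠ 2 by decide))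
    (ne (show (0:Fin 4) ≠ 3 by decide)) (ne (show (1:Fin 4) ≠ 2 by decide)) (ne (show (1:Fin 4) ≠ 3 by decide))
    (ne (show (2:Fin 4) ≠ 3 by decide))
  have i1 := Groth.L26.NumType.ineq_one (hv 1) (ne (show (1:Fin 4) ≠ 0 by decide))
  have i2 := Groth.L26.NumType.ineq_one (hv 2) (ne (show (2:Fin 4) ≠ 0 by decide))
  have i3 := Groth.L26.NumType.ineq_one (hv 3) (ne (show (3:Fin 4) ≠ 0 by decide))
  simp only [Groth.L26.NumType.a_symm T (v 0) (v 1), Groth.L26.NumType.a_symm T (v 2) (v 0), Groth.L26.NumType.a_symm T (v 3) (v 0), a0, a1, hb, hw1, hw2, hw3] at i0 i1 i2 i3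
  have wp := T.w_pos (v 1)
  refine ⟨T.w (v 1), fun j => ?_, (Groth.L26.NumType.a_symm T _ _).trans a0, a1, hb, z2, z3, z23,
    Groth.L26.NumType.cancel_w wp (by linarith), Groth.L26.NumType.cancel_w wp (by linarith), Groth.L26.NumType.cancel_w wp (by linarith), Groth.L26.NumType.cancel_w wp (by linarith)⟩
  fin_cases j
  · exact hw1
  · rfl
  · exact hw2
  · exact hw3

end Groth.Agent.S7346
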