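import Groth.Statements.S7347
import Groth.Agent.L26.NumType.Classify
import Mathlib.Tactic.FinCases

set_option autoImplicit false
open Finset
open Models Models.NumericalType

namespace Groth.Agent.S7347

/-- Classification of proper subgraphs of type D5 (a chain i_1 i_2 i_3 with i_4 and i_5 both joined to
i_3): let T be a numerical type on n > 5 indices and i_1, …, i_5 distinct (-2)-indices with a_{12},
a_{23}, a_{34}, a_{35} nonzero. Then for some integer w all w_{i_j} equal w, these intersection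
numbers equal w, all other a_{i_j i_k} (j ≠ k) vanish, and 2 m_1 ≥ m_2, 2 m_2 ≥ m_1 + m_3, 2 m_3 ≥
m_2 + m_4 + m_5, 2 m_4 ≥ m_3, 2 m_5 ≥ m_3. -/
theorem result {n : ℕ} (T : Models.NumericalType n) (hn : 5 < n)
    (v : Fin 5 ↪ Fin n) (hv : ∀ j, T.IsMinusTwo (v j)) (h01 : T.a (v 0) (v 1) ≠ 0) (h12 : T.a (v 1) (v 2) ≠ 0) (h23 : T.a (v 2) (v 3) ≠ 0) (h24 : T.a (v 2) (v 4) ≠ 0) :
    ∃ w : ℤ, (∀ j : Fin 5, T.w (v j) = w) ∧
      T.a (v 0) (v 1) = w ∧
      T.a (v 1) (v 2) = w ∧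
      T.a (v 2) (v 3) = w ∧
      T.a (v 2) (v 4) = w ∧
      T.a (v 0) (v 2) = 0 ∧
      T.a (v 0) (v 3) = 0 ∧
      T.a (v 0) (v 4) = 0 ∧
      T.a (v 1) (v 3) = 0 ∧
      T.a (v 1) (v 4) = 0 ∧
      T.a (v 3) (v 4) = 0 ∧
      T.m (v 1) ≤ 2 * T.m (v 0) ∧
      T.m (v 0) + T.m (v 2) ≤ 2 * T.m (v 1) ∧
      T.m (v 1) + T.m (v 3) + T.m (v 4) ≤ 2 * T.m (v 2) ∧
      T.m (v 2) ≤ 2 * T.m (v 3) ∧
      T.m (v 2) ≤ 2 * T.m (v 4) := by
  have ne : ∀ {p q : Fin 5}, p ≠ q → v p ≠ v q := fun h => v.injective.ne h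
  have sy := Groth.L26.NumType.a_symm T
  have he0 : Function.Injective (![0, 1, 2, 3, 4] : Fin 5 → Fin 5) := by decide
  obtain ⟨hw0, ha0, hb0, hz0⟩ := Groth.L26.NumType.fork_structure (T := T)
    (u := Groth.L26.NumType.ext (fun j => v ((![0, 1, 2, 3, 4] : Fin 5 → Fin 5) j))) (t := 4)
    (by omega) (by omega) (Groth.L26.NumType.ext_injOn (v.injective.comp he0)) (fun i _ => hv _)
    (fun i hi => by
      have hi2 : i < 3 := by omega
      interval_cases i
      · show T.a (v 0) (v 1) ≠ 0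
        exact h01
      · show T.a (v 1) (v 2) ≠ 0
        exact h12
      · show T.a (v 2) (v 3) ≠ 0
        exact h23)
    (by show T.a (v 2) (v 4) ≠ 0; exact h24)
  have W0_1 : T.w (v 1) = T.w (v 0) := hw0 1 (by omega)
  have W0_2 : T.w (v 2) = T.w (v 0) := hw0 2 (by omega)
  have W0_3 : T.w (v 3) = T.w (v 0) := hw0 3 (by omega)
  have W0_4 : T.w (v 4) = T.w (v 0) := hw0 4 (by omega)
  have A0_0 : T.a (v 0) (v 1) = T.w (v 0) := ha0 0 (by omega)
  have A0_1 : T.a (v 1) (v 2) = T.w (v 0) := ha0 1 (by omega)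
  have A0_2 : T.a (v 2) (v 3) = T.w (v 0) := ha0 2 (by omega)
  have A0_4 : T.a (v 2) (v 4) = T.w (v 0) := hb0
  have Z02 : T.a (v 0) (v 2) = 0 := hz0 0 2 (by omega) (by omega) (by omega) (by omega)
  have Z03 : T.a (v 0) (v 3) = 0 := hz0 0 3 (by omega) (by omega) (by omega) (by omega)
  have Z04 : T.a (v 0) (v 4) = 0 := hz0 0 4 (by omega) (by omega) (by omega) (by omega)
  have Z13 : T.a (v 1) (v 3) = 0 := hz0 1 3 (by omega) (by omega) (by omega) (by omega)
  have Z14 : T.a (v 1) (v 4) = 0 := hz0 1 4 (by omega) (by omega) (by omega) (by omega)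
  have Z34 : T.a (v 3) (v 4) = 0 := hz0 3 4 (by omega) (by omega) (by omega) (by omega)
  have E01 : T.a (v 0) (v 1) = T.w (v 0) := by have := sy (v 0) (v 1); omega
  have E12 : T.a (v 1) (v 2) = T.w (v 0) := by have := sy (v 1) (v 2); omega
  have E23 : T.a (v 2) (v 3) = T.w (v 0) := by have := sy (v 2) (v 3); omega
  have E24 : T.a (v 2) (v 4) = T.w (v 0) := by have := sy (v 2) (v 4); omega
  have V1 : T.w (v 1) = T.w (v 0) := by omega
  have V2 : T.w (v 2) = T.w (v 0) := by omega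
  have V3 : T.w (v 3) = T.w (v 0) := by omega
  have V4 : T.w (v 4) = T.w (v 0) := by omega
  have I0 := Groth.L26.NumType.ineq_one (hv 0) (ne (show (0 : Fin 5) ≠ 1 by decide))
  have I1 := Groth.L26.NumType.ineq_two (hv 1) (ne (show (1 : Fin 5) ≠ 0 by decide)) (ne (show (1 : Fin 5) ≠ 2 by decide)) (ne (show (0 : Fin 5) ≠ 2 by decide))
  have I2 := Groth.L26.NumType.ineq_three (hv 2) (ne (show (2 : Fin 5) ≠ 1 by decide)) (ne (show (2 : Fin 5) ≠ 3 by decide)) (ne (show (2 : Fin 5) ≠ 4 by decide)) (ne (show (1 : Fin 5) ≠ 3 by decide)) (ne (show (1 : Fin 5) ≠ 4 by decide)) (ne (show (3 : Fin 5) ≠ 4 by decide))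
  have I3 := Groth.L26.NumType.ineq_one (hv 3) (ne (show (3 : Fin 5) ≠ 2 by decide))
  have I4 := Groth.L26.NumType.ineq_one (hv 4) (ne (show (4 : Fin 5) ≠ 2 by decide))
  simp only [E01, E12, E23, E24, sy (v 1) (v 0), sy (v 2) (v 1), sy (v 3) (v 2), sy (v 4) (v 2), V1, V2, V3, V4] at I0 I1 I2 I3 I4
  have wp := T.w_pos (v 0)
  refine ⟨T.w (v 0), fun j => ?_, E01, E12, E23, E24, Z02, Z03, Z04, Z13, Z14, Z34, Groth.L26.NumType.cancel_w wp (by linarith), Groth.L26.NumType.cancel_w wp (by linarith), Groth.L26.NumType.cancel_w wp (by linarith), Groth.L26.NumType.cancel_w wp (by linarith), Groth.L26.NumType.cancel_w wp (by linarith)⟩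
  fin_cases j
  · rfl
  · exact V1
  · exact V2
  · exact V3
  · exact V4

end Groth.Agent.S7347
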