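import Groth.Statements.S7349
import Groth.Agent.L26.NumType.Classify
import Mathlib.Tactic.FinCases

set_option autoImplicit false
open Finset
open Models Models.NumericalType

namespace Groth.Agent.S7349

/-- Classification of proper subgraphs of type E7 (a chain i_1 … i_6 with i_7 joined to i_4): let T be a
numerical type on n > 7 indices and i_1, …, i_7 distinct (-2)-indices with a_{12}, a_{23}, a_{34},
a_{45}, a_{56}, a_{47} nonzero. Then for some integer w all w_{i_j} equal w, these intersection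
numbers equal w, all other a_{i_j i_k} (j ≠ k) vanish, and 2 m_1 ≥ m_2, 2 m_2 ≥ m_1 + m_3, 2 m_3 ≥
m_2 + m_4, 2 m_4 ≥ m_3 + m_5 + m_7, 2 m_5 ≥ m_4 + m_6, 2 m_6 ≥ m_5, 2 m_7 ≥ m_4. -/
theorem result {n : ℕ} (T : Models.NumericalType n) (hn : 7 < n)
    (v : Fin 7 ↪ Fin n) (hv : ∀ j, T.IsMinusTwo (v j)) (h01 : T.a (v 0) (v 1) ≠ 0) (h12 : T.a (v 1) (v 2) ≠ 0) (h23 : T.a (v 2) (v 3) ≠ 0) (h34 : T.a (v 3) (v 4) ≠ 0) (h45 : T.a (v 4) (v 5) ≠ 0) (h36 : T.a (v 3) (v 6) ≠ 0) :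
    ∃ w : ℤ, (∀ j : Fin 7, T.w (v j) = w) ∧
      T.a (v 0) (v 1) = w ∧
      T.a (v 1) (v 2) = w ∧
      T.a (v 2) (v 3) = w ∧
      T.a (v 3) (v 4) = w ∧
      T.a (v 4) (v 5) = w ∧
      T.a (v 3) (v 6) = w ∧
      T.a (v 0) (v 2) = 0 ∧
      T.a (v 0) (v 3) = 0 ∧
      T.a (v 0) (v 4) = 0 ∧
      T.a (v 0) (v 5) = 0 ∧
      T.a (v 0) (v 6) = 0 ∧
      T.a (v 1) (v 3) = 0 ∧
      T.a (v 1) (v 4) = 0 ∧
      T.a (v 1) (v 5) = 0 ∧
      T.a (v 1) (v 6) = 0 ∧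
      T.a (v 2) (v 4) = 0 ∧
      T.a (v 2) (v 5) = 0 ∧
      T.a (v 2) (v 6) = 0 ∧
      T.a (v 3) (v 5) = 0 ∧
      T.a (v 4) (v 6) = 0 ∧
      T.a (v 5) (v 6) = 0 ∧
      T.m (v 1) ≤ 2 * T.m (v 0) ∧
      T.m (v 0) + T.m (v 2) ≤ 2 * T.m (v 1) ∧
      T.m (v 1) + T.m (v 3) ≤ 2 * T.m (v 2) ∧
      T.m (v 2) + T.m (v 4) + T.m (v 6) ≤ 2 * T.m (v 3) ∧
      T.m (v 3) + T.m (v 5) ≤ 2 * T.m (v 4) ∧
      T.m (v 4) ≤ 2 * T.m (v 5) ∧
      T.m (v 3) ≤ 2 * T.m (v 6) := by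
  have ne : ∀ {p q : Fin 7}, p ≠ q → v p ≠ v q := fun h => v.injective.ne h
  have sy := Groth.L26.NumType.a_symm T
  have he0 : Function.Injective (![0, 1, 2, 3, 4, 6] : Fin 6 → Fin 7) := by decide
  obtain ⟨hw0, ha0, hb0, hz0⟩ := Groth.L26.NumType.fork_structure (T := T)
    (u := Groth.L26.NumType.ext (fun j => v ((![0, 1, 2, 3, 4, 6] : Fin 6 → Fin 7) j))) (t := 5)
    (by omega) (by omega) (Groth.L26.NumType.ext_injOn (v.injective.comp he0)) (fun i _ => hv _)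
    (fun i hi => by
      have hi2 : i < 4 := by omega
      interval_cases i
      · show T.a (v 0) (v 1) ≠ 0
        exact h01
      · show T.a (v 1) (v 2) ≠ 0
        exact h12
      · show T.a (v 2) (v 3) ≠ 0
        exact h23
      · show T.a (v 3) (v 4) ≠ 0
        exact h34)
    (by show T.a (v 3) (v 6) ≠ 0; exact h36)
  have W0_1 : T.w (v 1) = T.w (v 0) := hw0 1 (by omega)
  have W0_2 : T.w (v 2) = T.w (v 0) := hw0 2 (by omega)
  have W0_3 : T.w (v 3) = T.w (v 0) := hw0 3 (by omega)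
  have W0_4 : T.w (v 4) = T.w (v 0) := hw0 4 (by omega)
  have W0_5 : T.w (v 6) = T.w (v 0) := hw0 5 (by omega)
  have A0_0 : T.a (v 0) (v 1) = T.w (v 0) := ha0 0 (by omega)
  have A0_1 : T.a (v 1) (v 2) = T.w (v 0) := ha0 1 (by omega)
  have A0_2 : T.a (v 2) (v 3) = T.w (v 0) := ha0 2 (by omega)
  have A0_3 : T.a (v 3) (v 4) = T.w (v 0) := ha0 3 (by omega)
  have A0_5 : T.a (v 3) (v 6) = T.w (v 0) := hb0
  have he1 : Function.Injective (![5, 4, 3, 2, 6] : Fin 5 → Fin 7) := by decide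
  obtain ⟨hw1, ha1, hb1, hz1⟩ := Groth.L26.NumType.fork_structure (T := T)
    (u := Groth.L26.NumType.ext (fun j => v ((![5, 4, 3, 2, 6] : Fin 5 → Fin 7) j))) (t := 4)
    (by omega) (by omega) (Groth.L26.NumType.ext_injOn (v.injective.comp he1)) (fun i _ => hv _)
    (fun i hi => by
      have hi2 : i < 3 := by omega
      interval_cases i
      · show T.a (v 5) (v 4) ≠ 0
        rw [sy]; exact h45
      · show T.a (v 4) (v 3) ≠ 0
        rw [sy]; exact h34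
      · show T.a (v 3) (v 2) ≠ 0
        rw [sy]; exact h23)
    (by show T.a (v 3) (v 6) ≠ 0; exact h36)
  have W1_1 : T.w (v 4) = T.w (v 5) := hw1 1 (by omega)
  have W1_2 : T.w (v 3) = T.w (v 5) := hw1 2 (by omega)
  have W1_3 : T.w (v 2) = T.w (v 5) := hw1 3 (by omega)
  have W1_4 : T.w (v 6) = T.w (v 5) := hw1 4 (by omega)
  have A1_0 : T.a (v 5) (v 4) = T.w (v 5) := ha1 0 (by omega)
  have A1_1 : T.a (v 4) (v 3) = T.w (v 5) := ha1 1 (by omega)
  have A1_2 : T.a (v 3) (v 2) = T.w (v 5) := ha1 2 (by omega)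
  have A1_4 : T.a (v 3) (v 6) = T.w (v 5) := hb1
  have he : Function.Injective (![0, 1, 2, 3, 4, 5] : Fin 6 → Fin 7) := by decide
  have hpth : Groth.L26.NumType.IsPath T (Groth.L26.NumType.ext (fun j => v ((![0, 1, 2, 3, 4, 5] : Fin 6 → Fin 7) j))) 6 :=
    ⟨Groth.L26.NumType.ext_injOn (v.injective.comp he), fun i _ => hv _, fun i hi => by
      have hi2 : i < 5 := by omega
      interval_cases i
      · show T.a (v 0) (v 1) ≠ 0
        exact h01
      · show T.a (v 1) (v 2) ≠ 0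
        exact h12
      · show T.a (v 2) (v 3) ≠ 0
        exact h23
      · show T.a (v 3) (v 4) ≠ 0
        exact h34
      · show T.a (v 4) (v 5) ≠ 0
        exact h45⟩
  have Z02 : T.a (v 0) (v 2) = 0 := hz0 0 2 (by omega) (by omega) (by omega) (by omega)
  have Z03 : T.a (v 0) (v 3) = 0 := hz0 0 3 (by omega) (by omega) (by omega) (by omega)
  have Z04 : T.a (v 0) (v 4) = 0 := hz0 0 4 (by omega) (by omega) (by omega) (by omega)
  have Z05 : T.a (v 0) (v 5) = 0 := hpth.zero_of_lt (by omega) (i := 0) (j := 5) (by omega) (by omega)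
  have Z06 : T.a (v 0) (v 6) = 0 := hz0 0 5 (by omega) (by omega) (by omega) (by omega)
  have Z13 : T.a (v 1) (v 3) = 0 := hz0 1 3 (by omega) (by omega) (by omega) (by omega)
  have Z14 : T.a (v 1) (v 4) = 0 := hz0 1 4 (by omega) (by omega) (by omega) (by omega)
  have Z15 : T.a (v 1) (v 5) = 0 := hpth.zero_of_lt (by omega) (i := 1) (j := 5) (by omega) (by omega)
  have Z16 : T.a (v 1) (v 6) = 0 := hz0 1 5 (by omega) (by omega) (by omega) (by omega)
  have Z24 : T.a (v 2) (v 4) = 0 := hz0 2 4 (by omega) (by omega) (by omega) (by omega)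
  have Z25 : T.a (v 2) (v 5) = 0 := (sy _ _).trans (hz1 0 3 (by omega) (by omega) (by omega) (by omega))
  have Z26 : T.a (v 2) (v 6) = 0 := hz0 2 5 (by omega) (by omega) (by omega) (by omega)
  have Z35 : T.a (v 3) (v 5) = 0 := (sy _ _).trans (hz1 0 2 (by omega) (by omega) (by omega) (by omega))
  have Z46 : T.a (v 4) (v 6) = 0 := hz0 4 5 (by omega) (by omega) (by omega) (by omega)
  have Z56 : T.a (v 5) (v 6) = 0 := hz1 0 4 (by omega) (by omega) (by omega) (by omega)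
  have E01 : T.a (v 0) (v 1) = T.w (v 0) := by have := sy (v 0) (v 1); omega
  have E12 : T.a (v 1) (v 2) = T.w (v 0) := by have := sy (v 1) (v 2); omega
  have E23 : T.a (v 2) (v 3) = T.w (v 0) := by have := sy (v 2) (v 3); omega
  have E34 : T.a (v 3) (v 4) = T.w (v 0) := by have := sy (v 3) (v 4); omega
  have E45 : T.a (v 4) (v 5) = T.w (v 0) := by have := sy (v 4) (v 5); omega
  have E36 : T.a (v 3) (v 6) = T.w (v 0) := by have := sy (v 3) (v 6); omega
  have V1 : T.w (v 1) = T.w (v 0) := by omega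
  have V2 : T.w (v 2) = T.w (v 0) := by omega
  have V3 : T.w (v 3) = T.w (v 0) := by omega
  have V4 : T.w (v 4) = T.w (v 0) := by omega
  have V5 : T.w (v 5) = T.w (v 0) := by omega
  have V6 : T.w (v 6) = T.w (v 0) := by omega
  have I0 := Groth.L26.NumType.ineq_one (hv 0) (ne (show (0 : Fin 7) ≠ 1 by decide))
  have I1 := Groth.L26.NumType.ineq_two (hv 1) (ne (show (1 : Fin 7) ≠ 0 by decide)) (ne (show (1 : Fin 7) ≠ 2 by decide)) (ne (show (0 : Fin 7) ≠ 2 by decide))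
  have I2 := Groth.L26.NumType.ineq_two (hv 2) (ne (show (2 : Fin 7) ≠ 1 by decide)) (ne (show (2 : Fin 7) ≠ 3 by decide)) (ne (show (1 : Fin 7) ≠ 3 by decide))
  have I3 := Groth.L26.NumType.ineq_three (hv 3) (ne (show (3 : Fin 7) ≠ 2 by decide)) (ne (show (3 : Fin 7) ≠ 4 by decide)) (ne (show (3 : Fin 7) ≠ 6 by decide)) (ne (show (2 : Fin 7) ≠ 4 by decide)) (ne (show (2 : Fin 7) ≠ 6 by decide)) (ne (show (4 : Fin 7) ≠ 6 by decide))
  have I4 := Groth.L26.NumType.ineq_two (hv 4) (ne (show (4 : Fin 7) ≠ 3 by decide)) (ne (show (4 : Fin 7) ≠ 5 by decide)) (ne (show (3 : Fin 7) ≠ 5 by decide))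
  have I5 := Groth.L26.NumType.ineq_one (hv 5) (ne (show (5 : Fin 7) ≠ 4 by decide))
  have I6 := Groth.L26.NumType.ineq_one (hv 6) (ne (show (6 : Fin 7) ≠ 3 by decide))
  simp only [E01, E12, E23, E34, E45, E36, sy (v 1) (v 0), sy (v 2) (v 1), sy (v 3) (v 2), sy (v 4) (v 3), sy (v 5) (v 4), sy (v 6) (v 3), V1, V2, V3, V4, V5, V6] at I0 I1 I2 I3 I4 I5 I6
  have wp := T.w_pos (v 0)
  refine ⟨T.w (v 0), fun j => ?_, E01, E12, E23, E34, E45, E36, Z02, Z03, Z04, Z05, Z06, Z13, Z14, Z15, Z16, Z24, Z25, Z26, Z35, Z46, Z56, Groth.L26.NumType.cancel_w wp (by linarith), Groth.L26.NumType.cancel_w wp (by linarith), Groth.L26.NumType.cancel_w wp (by linarith), Groth.L26.NumType.cancel_w wp (by linarith), Groth.L26.NumType.cancel_w wp (by linarith), Groth.L26.NumType.cancel_w wp (by linarith), Groth.L26.NumType.cancel_w wp (by linarith)⟩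
  fin_cases j
  · rfl
  · exact V1
  · exact V2
  · exact V3
  · exact V4
  · exact V5
  · exact V6

end Groth.Agent.S7349
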