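import Groth.Statements.S7352
import Groth.Agent.L26.NumType.Chains
import Mathlib.Tactic.FinCases

set_option autoImplicit false
open Finset
open Models Models.NumericalType

namespace Groth.Agent.S7352

/-- Classification of proper subgraphs which are chains of four vertices: let T be a numerical type on n
> 4 indices and i_1, …, i_4 distinct (-2)-indices with a_{i_j i_{j+1}} nonzero for j < 4. Then
a_{i_j i_l} = 0 for |j - l| ≥ 2 and, after possibly reversing the order of the indices, for some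
integer w one of the following holds: (A4) w = (w, w, w, w), consecutive a = (w, w, w), with 2m_1 ≥
m_2, 2m_2 ≥ m_1 + m_3, 2m_3 ≥ m_2 + m_4, 2m_4 ≥ m_3; (C4) w = (w, w, w, 2w), consecutive a = (w, w,
2w), with 2m_1 ≥ m_2, 2m_2 ≥ m_1 + m_3, 2m_3 ≥ m_2 + 2m_4, 2m_4 ≥ m_3; (B4) w = (2w, 2w, 2w, w),
consecutive a = (2w, 2w, 2w), with 2m_1 ≥ m_2, 2m_2 ≥ m_1 + m_3, 2m_3 ≥ m_2 + m_4, m_4 ≥ m_3; (F4) w
= (w, w, 2w, 2w), consecutive a = (w, 2w, 2w), with 2m_1 ≥ m_2, 2m_2 ≥ m_1 + 2m_3, 2m_3 ≥ m_2 + m_4,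
2m_4 ≥ m_3. -/
theorem result {n : ℕ} (T : Models.NumericalType n) (hn : 4 < n)
    (v : Fin 4 ↪ Fin n) (hv : ∀ j, T.IsMinusTwo (v j)) (h01 : T.a (v 0) (v 1) ≠ 0) (h12 : T.a (v 1) (v 2) ≠ 0) (h23 : T.a (v 2) (v 3) ≠ 0) :
    (T.a (v 0) (v 2) = 0 ∧ T.a (v 0) (v 3) = 0 ∧ T.a (v 1) (v 3) = 0) ∧
    ∃ (u : Fin 4 → Fin n) (w : ℤ), ((∀ j, u j = v j) ∨ (∀ j, u j = v (Fin.rev j))) ∧
      ((T.w (u 0) = w ∧ T.w (u 1) = w ∧ T.w (u 2) = w ∧ T.w (u 3) = w ∧ T.a (u 0) (u 1) = w ∧ T.a (u 1) (u 2) = w ∧ T.a (u 2) (u 3) = w ∧ T.m (u 1) ≤ 2 * T.m (u 0) ∧ T.m (u 0) + T.m (u 2) ≤ 2 * T.m (u 1) ∧ T.m (u 1) + T.m (u 3) ≤ 2 * T.m (u 2) ∧ T.m (u 2) ≤ 2 * T.m (u 3)) ∨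
      (T.w (u 0) = w ∧ T.w (u 1) = w ∧ T.w (u 2) = w ∧ T.w (u 3) = 2 * w ∧ T.a (u 0) (u 1) = w ∧ T.a (u 1) (u 2) = w ∧ T.a (u 2) (u 3) = 2 * w ∧ T.m (u 1) ≤ 2 * T.m (u 0) ∧ T.m (u 0) + T.m (u 2) ≤ 2 * T.m (u 1) ∧ T.m (u 1) + 2 * T.m (u 3) ≤ 2 * T.m (u 2) ∧ T.m (u 2) ≤ 2 * T.m (u 3)) ∨
      (T.w (u 0) = 2 * w ∧ T.w (u 1) = 2 * w ∧ T.w (u 2) = 2 * w ∧ T.w (u 3) = w ∧ T.a (u 0) (u 1) = 2 * w ∧ T.a (u 1) (u 2) = 2 * w ∧ T.a (u 2) (u 3) = 2 * w ∧ T.m (u 1) ≤ 2 * T.m (u 0) ∧ T.m (u 0) + T.m (u 2) ≤ 2 * T.m (u 1) ∧ T.m (u 1) + T.m (u 3) ≤ 2 * T.m (u 2) ∧ T.m (u 2) ≤ T.m (u 3)) ∨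
      (T.w (u 0) = w ∧ T.w (u 1) = w ∧ T.w (u 2) = 2 * w ∧ T.w (u 3) = 2 * w ∧ T.a (u 0) (u 1) = w ∧ T.a (u 1) (u 2) = 2 * w ∧ T.a (u 2) (u 3) = 2 * w ∧ T.m (u 1) ≤ 2 * T.m (u 0) ∧ T.m (u 0) + 2 * T.m (u 2) ≤ 2 * T.m (u 1) ∧ T.m (u 1) + T.m (u 3) ≤ 2 * T.m (u 2) ∧ T.m (u 2) ≤ 2 * T.m (u 3))) := by
  have h := Groth.L26.NumType.ofPath v.injective hv (by
    intro j j' e
    fin_cases j <;> fin_cases j' <;> simp at e <;> first | exact h01 | exact h12 | exact h23)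
  refine ⟨⟨h.zero_of_lt hn (i := 0) (j := 2) (by omega) (by omega), h.zero_of_lt hn (i := 0) (j := 3) (by omega) (by omega), h.zero_of_lt hn (i := 1) (j := 3) (by omega) (by omega)⟩, ?_⟩
  obtain ⟨u', hu, hp, w, hnf⟩ := h.normal_form (by omega) hn
  have ne : ∀ {p q : ℕ}, p < 4 → q < 4 → p ≠ q → u' p ≠ u' q := hp.ne
  have sy := Groth.L26.NumType.a_symm T
  have I0 := Groth.L26.NumType.ineq_one (hp.minusTwo 0 (by omega)) (ne (show 0 < 4 by omega) (show 1 < 4 by omega) (by omega))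
  have I1 := Groth.L26.NumType.ineq_two (hp.minusTwo 1 (by omega)) (ne (show 1 < 4 by omega) (show 0 < 4 by omega) (by omega)) (ne (show 1 < 4 by omega) (show 2 < 4 by omega) (by omega)) (ne (show 0 < 4 by omega) (show 2 < 4 by omega) (by omega))
  have I2 := Groth.L26.NumType.ineq_two (hp.minusTwo 2 (by omega)) (ne (show 2 < 4 by omega) (show 1 < 4 by omega) (by omega)) (ne (show 2 < 4 by omega) (show 3 < 4 by omega) (by omega)) (ne (show 1 < 4 by omega) (show 3 < 4 by omega) (by omega))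
  have I3 := Groth.L26.NumType.ineq_one (hp.minusTwo 3 (by omega)) (ne (show 3 < 4 by omega) (show 2 < 4 by omega) (by omega))
  refine ⟨fun j => u' j.val, w, ?_, ?_⟩
  · rcases hu with hu | hu
    · exact Or.inl fun j => (hu _ j.isLt).trans (Groth.L26.NumType.ext_val v j)
    · refine Or.inr fun j => (hu _ j.isLt).trans ?_
      have : 4 - 1 - j.val = (Fin.rev j).val := by rw [Fin.val_rev]; omega
      rw [this]; exact Groth.L26.NumType.ext_val v _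
  simp only [Fin.isValue, Fin.val_zero, Fin.val_one, Fin.val_two, show ((3 : Fin 4) : ℕ) = 3 from rfl]
  rcases hnf with ⟨hw, ha⟩ | ⟨hw, hl, ha, hla⟩ | ⟨hw, hl, ha⟩ | ⟨h4, F0, F1, F2, F3, G0, G1, G2⟩
  · have W0 : T.w (u' 0) = w := hw 0 (by omega)
    have W1 : T.w (u' 1) = w := hw 1 (by omega)
    have W2 : T.w (u' 2) = w := hw 2 (by omega)
    have W3 : T.w (u' 3) = w := hw 3 (by omega)
    have A0 : T.a (u' 0) (u' 1) = w := ha 0 (by omega)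
    have A1 : T.a (u' 1) (u' 2) = w := ha 1 (by omega)
    have A2 : T.a (u' 2) (u' 3) = w := ha 2 (by omega)
    simp only [sy (u' 1) (u' 0), sy (u' 2) (u' 1), sy (u' 3) (u' 2), W0, W1, W2, W3, A0, A1, A2] at I0 I1 I2 I3
    have wp : 0 < w := by have := T.w_pos (u' 0); omega
    exact Or.inl ⟨W0, W1, W2, W3, A0, A1, A2, Groth.L26.NumType.cancel_w wp (by linarith), Groth.L26.NumType.cancel_w wp (by linarith), Groth.L26.NumType.cancel_w wp (by linarith), Groth.L26.NumType.cancel_w wp (by linarith)⟩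
  · have W0 : T.w (u' 0) = w := hw 0 (by omega)
    have W1 : T.w (u' 1) = w := hw 1 (by omega)
    have W2 : T.w (u' 2) = w := hw 2 (by omega)
    have W3 : T.w (u' 3) = 2 * w := hl
    have A0 : T.a (u' 0) (u' 1) = w := ha 0 (by omega)
    have A1 : T.a (u' 1) (u' 2) = w := ha 1 (by omega)
    have A2 : T.a (u' 2) (u' 3) = 2 * w := hla
    simp only [sy (u' 1) (u' 0), sy (u' 2) (u' 1), sy (u' 3) (u' 2), W0, W1, W2, W3, A0, A1, A2] at I0 I1 I2 I3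
    have wp : 0 < w := by have := T.w_pos (u' 0); omega
    exact Or.inr (Or.inl ⟨W0, W1, W2, W3, A0, A1, A2, Groth.L26.NumType.cancel_w wp (by linarith), Groth.L26.NumType.cancel_w wp (by linarith), Groth.L26.NumType.cancel_w wp (by linarith), Groth.L26.NumType.cancel_w wp (by linarith)⟩)
  · have W0 : T.w (u' 0) = 2 * w := hw 0 (by omega)
    have W1 : T.w (u' 1) = 2 * w := hw 1 (by omega)
    have W2 : T.w (u' 2) = 2 * w := hw 2 (by omega)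
    have W3 : T.w (u' 3) = w := hl
    have A0 : T.a (u' 0) (u' 1) = 2 * w := ha 0 (by omega)
    have A1 : T.a (u' 1) (u' 2) = 2 * w := ha 1 (by omega)
    have A2 : T.a (u' 2) (u' 3) = 2 * w := ha 2 (by omega)
    simp only [sy (u' 1) (u' 0), sy (u' 2) (u' 1), sy (u' 3) (u' 2), W0, W1, W2, W3, A0, A1, A2] at I0 I1 I2 I3
    have wp : 0 < w := by have := T.w_pos (u' 0); omega
    exact Or.inr (Or.inr (Or.inl ⟨W0, W1, W2, W3, A0, A1, A2, Groth.L26.NumType.cancel_w wp (by linarith), Groth.L26.NumType.cancel_w wp (by linarith), Groth.L26.NumType.cancel_w wp (by linarith), Groth.L26.NumType.cancel_w wp (by linarith)⟩))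
  · have W0 : T.w (u' 0) = w := F0
    have W1 : T.w (u' 1) = w := F1
    have W2 : T.w (u' 2) = 2 * w := F2
    have W3 : T.w (u' 3) = 2 * w := F3
    have A0 : T.a (u' 0) (u' 1) = w := G0
    have A1 : T.a (u' 1) (u' 2) = 2 * w := G1
    have A2 : T.a (u' 2) (u' 3) = 2 * w := G2
    simp only [sy (u' 1) (u' 0), sy (u' 2) (u' 1), sy (u' 3) (u' 2), W0, W1, W2, W3, A0, A1, A2] at I0 I1 I2 I3
    have wp : 0 < w := by have := T.w_pos (u' 0); omega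
    exact Or.inr (Or.inr (Or.inr (⟨W0, W1, W2, W3, A0, A1, A2, Groth.L26.NumType.cancel_w wp (by linarith), Groth.L26.NumType.cancel_w wp (by linarith), Groth.L26.NumType.cancel_w wp (by linarith), Groth.L26.NumType.cancel_w wp (by linarith)⟩)))

end Groth.Agent.S7352
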