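import Groth.Statements.S7353
import Groth.Agent.L26.NumType.Chains
import Mathlib.Tactic.FinCases

set_option autoImplicit false
open Finset
open Models Models.NumericalType

namespace Groth.Agent.S7353

/-- Classification of proper subgraphs which are chains of five vertices: let T be a numerical type on n
> 5 indices and i_1, …, i_5 distinct (-2)-indices with a_{i_j i_{j+1}} nonzero for j < 5. Then
a_{i_j i_l} = 0 for |j - l| ≥ 2 and, after possibly reversing the order of the indices, for some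
integer w one of the following holds: (A5) w = (w, w, w, w, w), consecutive a = (w, w, w, w), with
2m_1 ≥ m_2, 2m_2 ≥ m_1 + m_3, 2m_3 ≥ m_2 + m_4, 2m_4 ≥ m_3 + m_5, 2m_5 ≥ m_4; (C5) w = (w, w, w, w,
2w), consecutive a = (w, w, w, 2w), with 2m_1 ≥ m_2, 2m_2 ≥ m_1 + m_3, 2m_3 ≥ m_2 + m_4, 2m_4 ≥ m_3
+ 2m_5, 2m_5 ≥ m_4; (B5) w = (2w, 2w, 2w, 2w, w), consecutive a = (2w, 2w, 2w, 2w), with 2m_1 ≥ m_2,
2m_2 ≥ m_1 + m_3, 2m_3 ≥ m_2 + m_4, 2m_4 ≥ m_3 + m_5, m_5 ≥ m_4. (The inequalities are those given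
by the rows Σ_l a_{kl} m_l = 0 of the displayed matrices; the published text has 2m_3 ≥ m_2 + 2m_4
and 2m_4 ≥ m_3 + m_5 in case C5 and m_4 ≥ m_3 in case B5, of which the first does not follow — for
the numerical type with six indices, weights (1,1,1,1,2,1), chain intersection numbers (1,1,1,2)
plus a_{16} = 1, a_{66} = -1 and multiplicities (2,2,2,2,1,2) one has 2m_3 = 4 < m_2 + 2m_4 = 6 — so
the matrix inequalities are stated.) -/
theorem result {n : ℕ} (T : Models.NumericalType n) (hn : 5 < n)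
    (v : Fin 5 ↪ Fin n) (hv : ∀ j, T.IsMinusTwo (v j)) (h01 : T.a (v 0) (v 1) ≠ 0) (h12 : T.a (v 1) (v 2) ≠ 0) (h23 : T.a (v 2) (v 3) ≠ 0) (h34 : T.a (v 3) (v 4) ≠ 0) :
    (T.a (v 0) (v 2) = 0 ∧ T.a (v 0) (v 3) = 0 ∧ T.a (v 0) (v 4) = 0 ∧ T.a (v 1) (v 3) = 0 ∧ T.a (v 1) (v 4) = 0 ∧ T.a (v 2) (v 4) = 0) ∧
    ∃ (u : Fin 5 → Fin n) (w : ℤ), ((∀ j, u j = v j) ∨ (∀ j, u j = v (Fin.rev j))) ∧
      ((T.w (u 0) = w ∧ T.w (u 1) = w ∧ T.w (u 2) = w ∧ T.w (u 3) = w ∧ T.w (u 4) = w ∧ T.a (u 0) (u 1) = w ∧ T.a (u 1) (u 2) = w ∧ T.a (u 2) (u 3) = w ∧ T.a (u 3) (u 4) = w ∧ T.m (u 1) ≤ 2 * T.m (u 0) ∧ T.m (u 0) + T.m (u 2) ≤ 2 * T.m (u 1) ∧ T.m (u 1) + T.m (u 3) ≤ 2 * T.m (u 2) ∧ T.m (u 2) + T.m (u 4) ≤ 2 * T.m (u 3) ∧ T.m (u 3) ≤ 2 * T.m (u 4)) ∨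
      (T.w (u 0) = w ∧ T.w (u 1) = w ∧ T.w (u 2) = w ∧ T.w (u 3) = w ∧ T.w (u 4) = 2 * w ∧ T.a (u 0) (u 1) = w ∧ T.a (u 1) (u 2) = w ∧ T.a (u 2) (u 3) = w ∧ T.a (u 3) (u 4) = 2 * w ∧ T.m (u 1) ≤ 2 * T.m (u 0) ∧ T.m (u 0) + T.m (u 2) ≤ 2 * T.m (u 1) ∧ T.m (u 1) + T.m (u 3) ≤ 2 * T.m (u 2) ∧ T.m (u 2) + 2 * T.m (u 4) ≤ 2 * T.m (u 3) ∧ T.m (u 3) ≤ 2 * T.m (u 4)) ∨
      (T.w (u 0) = 2 * w ∧ T.w (u 1) = 2 * w ∧ T.w (u 2) = 2 * w ∧ T.w (u 3) = 2 * w ∧ T.w (u 4) = w ∧ T.a (u 0) (u 1) = 2 * w ∧ T.a (u 1) (u 2) = 2 * w ∧ T.a (u 2) (u 3) = 2 * w ∧ T.a (u 3) (u 4) = 2 * w ∧ T.m (u 1) ≤ 2 * T.m (u 0) ∧ T.m (u 0) + T.m (u 2) ≤ 2 * T.m (u 1) ∧ T.m (u 1) + T.m (u 3) ≤ 2 * T.m (u 2) ∧ T.m (u 2) + T.m (u 4) ≤ 2 * T.m (u 3) ∧ T.m (u 3) ≤ T.m (u 4))) := by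
  have h := Groth.L26.NumType.ofPath v.injective hv (by
    intro j j' e
    fin_cases j <;> fin_cases j' <;> simp at e <;> first | exact h01 | exact h12 | exact h23 | exact h34)
  refine ⟨⟨h.zero_of_lt hn (i := 0) (j := 2) (by omega) (by omega), h.zero_of_lt hn (i := 0) (j := 3) (by omega) (by omega), h.zero_of_lt hn (i := 0) (j := 4) (by omega) (by omega), h.zero_of_lt hn (i := 1) (j := 3) (by omega) (by omega), h.zero_of_lt hn (i := 1) (j := 4) (by omega) (by omega), h.zero_of_lt hn (i := 2) (j := 4) (by omega) (by omega)⟩, ?_⟩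
  obtain ⟨u', hu, hp, w, hnf⟩ := h.normal_form (by omega) hn
  have ne : ∀ {p q : ℕ}, p < 5 → q < 5 → p ≠ q → u' p ≠ u' q := hp.ne
  have sy := Groth.L26.NumType.a_symm T
  have I0 := Groth.L26.NumType.ineq_one (hp.minusTwo 0 (by omega)) (ne (show 0 < 5 by omega) (show 1 < 5 by omega) (by omega))
  have I1 := Groth.L26.NumType.ineq_two (hp.minusTwo 1 (by omega)) (ne (show 1 < 5 by omega) (show 0 < 5 by omega) (by omega)) (ne (show 1 < 5 by omega) (show 2 < 5 by omega) (by omega)) (ne (show 0 < 5 by omega) (show 2 < 5 by omega) (by omega))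
  have I2 := Groth.L26.NumType.ineq_two (hp.minusTwo 2 (by omega)) (ne (show 2 < 5 by omega) (show 1 < 5 by omega) (by omega)) (ne (show 2 < 5 by omega) (show 3 < 5 by omega) (by omega)) (ne (show 1 < 5 by omega) (show 3 < 5 by omega) (by omega))
  have I3 := Groth.L26.NumType.ineq_two (hp.minusTwo 3 (by omega)) (ne (show 3 < 5 by omega) (show 2 < 5 by omega) (by omega)) (ne (show 3 < 5 by omega) (show 4 < 5 by omega) (by omega)) (ne (show 2 < 5 by omega) (show 4 < 5 by omega) (by omega))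
  have I4 := Groth.L26.NumType.ineq_one (hp.minusTwo 4 (by omega)) (ne (show 4 < 5 by omega) (show 3 < 5 by omega) (by omega))
  refine ⟨fun j => u' j.val, w, ?_, ?_⟩
  · rcases hu with hu | hu
    · exact Or.inl fun j => (hu _ j.isLt).trans (Groth.L26.NumType.ext_val v j)
    · refine Or.inr fun j => (hu _ j.isLt).trans ?_
      have : 5 - 1 - j.val = (Fin.rev j).val := by rw [Fin.val_rev]; omega
      rw [this]; exact Groth.L26.NumType.ext_val v _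
  simp only [Fin.isValue, Fin.val_zero, Fin.val_one, Fin.val_two, show ((3 : Fin 5) : ℕ) = 3 from rfl, show ((4 : Fin 5) : ℕ) = 4 from rfl]
  rcases hnf with ⟨hw, ha⟩ | ⟨hw, hl, ha, hla⟩ | ⟨hw, hl, ha⟩ | ⟨h4, F0, F1, F2, F3, G0, G1, G2⟩
  · have W0 : T.w (u' 0) = w := hw 0 (by omega)
    have W1 : T.w (u' 1) = w := hw 1 (by omega)
    have W2 : T.w (u' 2) = w := hw 2 (by omega)
    have W3 : T.w (u' 3) = w := hw 3 (by omega)
    have W4 : T.w (u' 4) = w := hw 4 (by omega)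
    have A0 : T.a (u' 0) (u' 1) = w := ha 0 (by omega)
    have A1 : T.a (u' 1) (u' 2) = w := ha 1 (by omega)
    have A2 : T.a (u' 2) (u' 3) = w := ha 2 (by omega)
    have A3 : T.a (u' 3) (u' 4) = w := ha 3 (by omega)
    simp only [sy (u' 1) (u' 0), sy (u' 2) (u' 1), sy (u' 3) (u' 2), sy (u' 4) (u' 3), W0, W1, W2, W3, W4, A0, A1, A2, A3] at I0 I1 I2 I3 I4
    have wp : 0 < w := by have := T.w_pos (u' 0); omega
    exact Or.inl ⟨W0, W1, W2, W3, W4, A0, A1, A2, A3, Groth.L26.NumType.cancel_w wp (by linarith), Groth.L26.NumType.cancel_w wp (by linarith), Groth.L26.NumType.cancel_w wp (by linarith), Groth.L26.NumType.cancel_w wp (by linarith), Groth.L26.NumType.cancel_w wp (by linarith)⟩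
  · have W0 : T.w (u' 0) = w := hw 0 (by omega)
    have W1 : T.w (u' 1) = w := hw 1 (by omega)
    have W2 : T.w (u' 2) = w := hw 2 (by omega)
    have W3 : T.w (u' 3) = w := hw 3 (by omega)
    have W4 : T.w (u' 4) = 2 * w := hl
    have A0 : T.a (u' 0) (u' 1) = w := ha 0 (by omega)
    have A1 : T.a (u' 1) (u' 2) = w := ha 1 (by omega)
    have A2 : T.a (u' 2) (u' 3) = w := ha 2 (by omega)
    have A3 : T.a (u' 3) (u' 4) = 2 * w := hla
    simp only [sy (u' 1) (u' 0), sy (u' 2) (u' 1), sy (u' 3) (u' 2), sy (u' 4) (u' 3), W0, W1, W2, W3, W4, A0, A1, A2, A3] at I0 I1 I2 I3 I4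
    have wp : 0 < w := by have := T.w_pos (u' 0); omega
    exact Or.inr (Or.inl ⟨W0, W1, W2, W3, W4, A0, A1, A2, A3, Groth.L26.NumType.cancel_w wp (by linarith), Groth.L26.NumType.cancel_w wp (by linarith), Groth.L26.NumType.cancel_w wp (by linarith), Groth.L26.NumType.cancel_w wp (by linarith), Groth.L26.NumType.cancel_w wp (by linarith)⟩)
  · have W0 : T.w (u' 0) = 2 * w := hw 0 (by omega)
    have W1 : T.w (u' 1) = 2 * w := hw 1 (by omega)
    have W2 : T.w (u' 2) = 2 * w := hw 2 (by omega)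
    have W3 : T.w (u' 3) = 2 * w := hw 3 (by omega)
    have W4 : T.w (u' 4) = w := hl
    have A0 : T.a (u' 0) (u' 1) = 2 * w := ha 0 (by omega)
    have A1 : T.a (u' 1) (u' 2) = 2 * w := ha 1 (by omega)
    have A2 : T.a (u' 2) (u' 3) = 2 * w := ha 2 (by omega)
    have A3 : T.a (u' 3) (u' 4) = 2 * w := ha 3 (by omega)
    simp only [sy (u' 1) (u' 0), sy (u' 2) (u' 1), sy (u' 3) (u' 2), sy (u' 4) (u' 3), W0, W1, W2, W3, W4, A0, A1, A2, A3] at I0 I1 I2 I3 I4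
    have wp : 0 < w := by have := T.w_pos (u' 0); omega
    exact Or.inr (Or.inr (⟨W0, W1, W2, W3, W4, A0, A1, A2, A3, Groth.L26.NumType.cancel_w wp (by linarith), Groth.L26.NumType.cancel_w wp (by linarith), Groth.L26.NumType.cancel_w wp (by linarith), Groth.L26.NumType.cancel_w wp (by linarith), Groth.L26.NumType.cancel_w wp (by linarith)⟩))
  · omega

end Groth.Agent.S7353
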