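import Groth.Statements.S7355
import Groth.Agent.L26.NumType.Classify
import Mathlib.Tactic.FinCases

set_option autoImplicit false
open Finset
open Models Models.NumericalType

namespace Groth.Agent.S7355

/-- Classification of proper subgraphs of type D: let T be a numerical type on n indices, t > 4 with n >
t + 1, and i_1, …, i_{t+1} distinct (-2)-indices such that a_{i_j i_{j+1}} is nonzero for j = 1, …,
t - 1 and a_{i_{t-1} i_{t+1}} is nonzero. Then for some integer w one has w_{i_1} = … = w_{i_{t+1}}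
= w, a_{i_j i_{j+1}} = w for j < t, a_{i_{t-1} i_{t+1}} = w, and a_{i_j i_k} = 0 for all other pairs
j ≠ k. -/
theorem result {n : ℕ} (T : Models.NumericalType n) (t : ℕ) (ht : 4 < t) (hn : t + 1 < n)
    (v : Fin (t + 1) ↪ Fin n) (hv : ∀ j, T.IsMinusTwo (v j))
    (hchain : ∀ j j' : Fin (t + 1), j'.val = j.val + 1 → j'.val < t → T.a (v j) (v j') ≠ 0)
    (hbranch : ∀ j j' : Fin (t + 1), j.val + 2 = t → j'.val = t → T.a (v j) (v j') ≠ 0) :
    ∃ w : ℤ, (∀ j : Fin (t + 1), T.w (v j) = w) ∧
      (∀ j j' : Fin (t + 1), j'.val = j.val + 1 → j'.val < t → T.a (v j) (v j') = w) ∧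
      (∀ j j' : Fin (t + 1), j.val + 2 = t → j'.val = t → T.a (v j) (v j') = w) ∧
      (∀ j k : Fin (t + 1), j.val < k.val → ¬ (k.val = j.val + 1 ∧ k.val < t) → ¬ (j.val + 2 = t ∧ k.val = t) →
        T.a (v j) (v k) = 0) := by
  obtain ⟨hw, ha, hb, hz⟩ := Groth.L26.NumType.fork_structure (T := T) (u := Groth.L26.NumType.ext v) (t := t)
    (by omega) hn (Groth.L26.NumType.ext_injOn v.injective) (fun i _ => hv _)
    (fun i hi => by
      rw [Groth.L26.NumType.ext_mk v (by omega : i < t + 1), Groth.L26.NumType.ext_mk v (by omega : i + 1 < t + 1)]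
      exact hchain _ _ rfl hi) (by
      rw [Groth.L26.NumType.ext_mk v (by omega : t - 2 < t + 1), Groth.L26.NumType.ext_mk v (by omega : t < t + 1)]
      exact hbranch _ _ (by simp only []; omega) rfl)
  refine ⟨T.w (Groth.L26.NumType.ext v 0), fun j => ?_, fun j j' h1 h2 => ?_, fun j j' h1 h2 => ?_, fun j k h1 h2 h3 => ?_⟩
  · rw [← Groth.L26.NumType.ext_val v j]; exact hw _ (by omega)
  · rw [← Groth.L26.NumType.ext_val v j, ← Groth.L26.NumType.ext_val v j', h1]; exact ha _ (by omega)
  · rw [← Groth.L26.NumType.ext_val v j, ← Groth.L26.NumType.ext_val v j', h2, show j.val = t - 2 by omega]; exact hb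
  · rw [← Groth.L26.NumType.ext_val v j, ← Groth.L26.NumType.ext_val v k]
    exact hz _ _ h1 (by omega) h2 h3

end Groth.Agent.S7355
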