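import Groth.Statements.S7358
import Groth.Agent.L05.PtSeq.StrictCurve

set_option autoImplicit false
universe u
open CategoryTheory CategoryTheory.Limits AlgebraicGeometry
open Resolve

namespace Groth.Agent.S7358

open TopologicalSpace Groth.L05.PtSeq
open Groth.L03.BlowPt (ptI exc)

theorem comap_ptI {Z X : Scheme.{u}} (f : Z ⟶ X) [IsClosedImmersion f] {z : Z} (hz : IsClosed ({z} : Set Z))
    {x : X} (hx : IsClosed ({x} : Set X)) (e : f z = x) : (ptI hx).comap f = ptI hz := by
  subst e
  have hs : ∀ {W : Scheme.{u}} {w : W} (hw : IsClosed ({w} : Set W)), ((ptI hw).support : Set W) = {w} :=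
    fun hw => by simp [ptI]
  refine ext_stI fun w => ?_
  rw [stI_comap]
  by_cases hw : w = z
  · subst hw
    rw [stI_ptI hx, stI_ptI hz]
    exact IsLocalRing.map_maximalIdeal_of_surjective _ (f.stalkMap_surjective w)
  · rw [(stI_eq_top_iff (ptI hz) w).2 (by rw [hs]; exact hw),
      (stI_eq_top_iff (ptI hx) (f w)).2 (by rw [hs]; exact fun e => hw (f.isClosedEmbedding.injective e)),
      Ideal.map_top]

/-- The numerical heart. -/
theorem length_lt {O : Type u} [CommRing O] [IsDomain O] [IsLocalRing O] [IsNoetherianRing O]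
    [IsPrincipalIdealRing O] {t : O} (ht : IsLocalRing.maximalIdeal O = Ideal.span {t}) (ht0 : t ≠ 0)
    {J J' : Ideal O} (hJ : J ≠ ⊥) (hle : J ≤ Ideal.span {t} * J') (htop : J' ≠ ⊤) :
    Module.length O (O ⧸ J') < Module.length O (O ⧸ J) := by
  have hall := ((tfae_of_isNoetherianRing_of_isLocalRing_of_isDomain O).out 0 6).1 ‹IsPrincipalIdealRing O›
  have hJ' : J' ≠ ⊥ := fun h0 => hJ (le_bot_iff.1 (hle.trans_eq (by rw [h0, Ideal.mul_bot])))
  obtain ⟨k, rfl⟩ := hall J' hJ'
  obtain ⟨l, rfl⟩ := hall J hJ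
  rw [ht, Ideal.span_singleton_pow, Ideal.span_singleton_pow, Ideal.span_singleton_mul_span_singleton,
    ← pow_succ', Ideal.span_singleton_le_span_singleton] at hle
  rw [ht, Ideal.span_singleton_pow, Ideal.span_singleton_pow,
    Groth.L05.FibreDecomp.length_quotient_span_pow ht ht0, Groth.L05.FibreDecomp.length_quotient_span_pow ht ht0]
  have : k + 1 ≤ l := (pow_dvd_pow_iff ht0 fun hu => (IsLocalRing.maximalIdeal.isMaximal O).ne_top
    (ht.trans (Ideal.span_singleton_eq_top.2 hu))).1 hle
  exact_mod_cast Nat.lt_of_succ_le this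


/-- Let X be a locally Noetherian scheme, Y and Z closed subschemes with ideal sheaves I_Y and I_Z, p a
closed point lying on Y and on Z, with Y integral of dimension one, the generic point of Y not on Z,
and O_{Y,p} regular; the multiplicity m_p(Y ∩ Z) is the length of the local ring of Y ∩ Z (ideal I_Y
+ I_Z) at p. Let b : X' → X be the blowing up of X at p (in the reduced point), E its exceptional
divisor, and Y', Z' ⊂ X' the strict transforms of Y and Z, i.e. the closed subschemes whose ideals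
are the kernels of b^{-1}(Y) ∖ E → X' and b^{-1}(Z) ∖ E → X'. Then (1) b induces an isomorphism Y' ≅
Y; (2) Y' meets E in exactly one point q, and m_q(Y' ∩ E) = 1; (3) if moreover q ∈ Z', then m_q(Y' ∩
Z') < m_p(Y ∩ Z). -/
theorem result (X : Scheme.{u}) [IsLocallyNoetherian X]
    (IY IZ : X.IdealSheafData) [IsIntegral IY.subscheme] (hdimY : topologicalKrullDim ↥IY.subscheme = 1)
    (p : X) (hp : IsClosed ({p} : Set X)) (hpY : p ∈ (IY.support : Set X)) (hpZ : p ∈ (IZ.support : Set X))
    (hgen : IY.subschemeι.base (genericPoint ↥IY.subscheme) ∉ (IZ.support : Set X))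
    (hreg : ∀ y : ↥IY.subscheme, IY.subschemeι.base y = p → IsRegularLocalRing (IY.subscheme.presheaf.stalk y))
    (X' : Scheme.{u}) (b : X' ⟶ X) (hb : BlowUp.IsBlowUp b (Scheme.IdealSheafData.vanishingIdeal ⟨{p}, hp⟩))
    (IY' IZ' : X'.IdealSheafData)
    (hY' : IY' = Scheme.Hom.ker ((((IY.comap b).subschemeι ⁻¹ᵁ
        (BlowUp.exceptional b (Scheme.IdealSheafData.vanishingIdeal ⟨{p}, hp⟩)).support.compl).ι) ≫ (IY.comap b).subschemeι))
    (hZ' : IZ' = Scheme.Hom.ker ((((IZ.comap b).subschemeι ⁻¹ᵁ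
        (BlowUp.exceptional b (Scheme.IdealSheafData.vanishingIdeal ⟨{p}, hp⟩)).support.compl).ι) ≫ (IZ.comap b).subschemeι)) :
    (∃ e : IY'.subscheme ≅ IY.subscheme, e.hom ≫ IY.subschemeι = IY'.subschemeι ≫ b) ∧
    (∃ q : X', {x : X' | x ∈ (IY'.support : Set X') ∧
          x ∈ ((BlowUp.exceptional b (Scheme.IdealSheafData.vanishingIdeal ⟨{p}, hp⟩)).support : Set X')} = {q} ∧
      (∀ q1 : ↥(IY' ⊔ BlowUp.exceptional b (Scheme.IdealSheafData.vanishingIdeal ⟨{p}, hp⟩)).subscheme,
          (IY' ⊔ BlowUp.exceptional b (Scheme.IdealSheafData.vanishingIdeal ⟨{p}, hp⟩)).subschemeι.base q1 = q →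
          Module.length
            ((IY' ⊔ BlowUp.exceptional b (Scheme.IdealSheafData.vanishingIdeal ⟨{p}, hp⟩)).subscheme.presheaf.stalk q1)
            ((IY' ⊔ BlowUp.exceptional b (Scheme.IdealSheafData.vanishingIdeal ⟨{p}, hp⟩)).subscheme.presheaf.stalk q1) = 1) ∧
      (q ∈ (IZ'.support : Set X') →
        ∀ (q0 : ↥(IY ⊔ IZ).subscheme) (q1 : ↥(IY' ⊔ IZ').subscheme),
          (IY ⊔ IZ).subschemeι.base q0 = p → (IY' ⊔ IZ').subschemeι.base q1 = q →
          Module.length ((IY' ⊔ IZ').subscheme.presheaf.stalk q1) ((IY' ⊔ IZ').subscheme.presheaf.stalk q1) <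
            Module.length ((IY ⊔ IZ).subscheme.presheaf.stalk q0) ((IY ⊔ IZ).subscheme.presheaf.stalk q0))) := by
  let ι := IY.subschemeι
  let Y := IY.subscheme
  haveI : IsLocallyNoetherian Y := LocallyOfFiniteType.isLocallyNoetherian ι
  have hker : ι.ker = IY := IY.ker_subschemeι
  obtain ⟨y, hy⟩ : ∃ y : Y, ι y = p := by
    rw [← Scheme.IdealSheafData.range_subschemeι] at hpY
    exact hpY
  have hyc : IsClosed ({y} : Set Y) := by
    have h := hp.preimage ι.continuous
    rwa [show ι ⁻¹' {p} = {y} from Set.ext fun a => ⟨fun e => ι.isClosedEmbedding.injective (e.trans hy.symm),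
      fun e => (congrArg ι e).trans hy⟩] at h
  have hyne : genericPoint Y ≠ y := fun e => hgen (by rw [show IY.subschemeι.base (genericPoint Y) = p from (congrArg ι e).trans hy]; exact hpZ)
  haveI : IsProper b := Groth.L13.BU.isProper_blowUp hb fun U =>
    haveI : IsNoetherianRing Γ(X, U.1) := IsLocallyNoetherian.component_noetherian U
    IsNoetherian.noetherian _
  haveI : IsLocallyNoetherian X' := LocallyOfFiniteType.isLocallyNoetherian b
  have hcomp : (ptI hp).comap ι = ptI hyc := comap_ptI ι hyc hp hy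
  have hcart := isEffCartier_ptI hdimY.le hyc hyne (hreg y hy)
  obtain ⟨h, hh, -⟩ := hb.2 Y ι (hcomp.symm ▸ hcart)
  haveI : IsClosedImmersion (h ≫ b) := by rw [hh]; infer_instance
  haveI : IsClosedImmersion h := IsClosedImmersion.of_comp h b
  let E : X'.IdealSheafData := exc hp b
  let C : X.Opens := (ptI hp).support.compl
  have hC : ∀ a, a ∈ C ↔ a ≠ p := fun a => by
    show a ∉ ((ptI hp).support : Set X) ↔ _
    simp [ptI]
  haveI hiso : IsIso (b ∣_ C) := Groth.L22.Ideals.isIso_restrict_compl hb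
  have hEsupp : ∀ a : X', a ∈ (E.support : Set X') ↔ b a = p := fun a => by
    show a ∈ (((ptI hp).comap b).support : Set X') ↔ _
    rw [Scheme.IdealSheafData.support_comap]
    show b a ∈ ((ptI hp).support : Set X) ↔ _
    simp [ptI]
  -- the strict transform is the image of the lift
  have hY : IY' = h.ker := by
    rw [hY']
    refine le_antisymm ?_ ?_
    · let V : Y.Opens := ⟨{y}ᶜ, hyc.isOpen_compl⟩
      haveI : Nonempty (V : Scheme.{u}) := ⟨⟨genericPoint Y, hyne⟩⟩
      haveI : IsDominant V.ι := ⟨by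
        rw [DenseRange, Scheme.Opens.range_ι]
        exact V.2.dense ⟨genericPoint Y, hyne⟩⟩
      haveI : IsSchemeTheoreticallyDominant V.ι := IsSchemeTheoreticallyDominant.of_isDominant V.ι
      have hk : (V.ι ≫ h).ker = h.ker := by
        rw [Scheme.Hom.ker_comp, V.ι.ker_eq_bot, Scheme.IdealSheafData.map_bot]
      rw [← hk]
      let m : Y ⟶ (IY.comap b).subscheme := pullback.lift h (𝟙 Y) (by rw [hh, Category.id_comp]) ≫
        (IY.comapIso b).inv
      have hm : m ≫ (IY.comap b).subschemeι = h := by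
        rw [Category.assoc, Scheme.IdealSheafData.comapIso_inv_subschemeι, pullback.lift_fst]
      have hVm : Set.range (V.ι ≫ m) ⊆ Set.range ((IY.comap b).subschemeι ⁻¹ᵁ E.support.compl).ι := by
        rintro _ ⟨a, rfl⟩
        rw [Scheme.Opens.range_ι]
        show ((m ≫ (IY.comap b).subschemeι) a.1) ∉ (E.support : Set X')
        rw [hm, hEsupp]
        intro e
        refine a.2 (ι.isClosedEmbedding.injective ((?_ : ι a.1 = p).trans hy.symm))
        rw [← hh]; exact e
      let m' := IsOpenImmersion.lift _ (V.ι ≫ m) hVm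
      have hfac : m' ≫ ((IY.comap b).subschemeι ⁻¹ᵁ E.support.compl).ι ≫ (IY.comap b).subschemeι = V.ι ≫ h := by
        rw [IsOpenImmersion.lift_fac_assoc, Category.assoc, hm]
      rw [← hfac]
      exact Scheme.Hom.le_ker_comp _ _
    · let O := (IY.comap b).subschemeι ⁻¹ᵁ E.support.compl
      let v : (O : Scheme.{u}) ⟶ Y := O.ι ≫ (IY.comapIso b).hom ≫ pullback.snd _ _
      have hv : v ≫ h = O.ι ≫ (IY.comap b).subschemeι := by
        refine eq_of_mono_over b C ?_ fun z => ?_
        · simp only [v, Category.assoc]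
          rw [hh, ← pullback.condition, Scheme.IdealSheafData.comapIso_hom_fst_assoc]
        · rw [← Scheme.Hom.comp_apply, Category.assoc, hh]
          refine (hC _).2 fun e => ?_
          refine (z.2 : (IY.comap b).subschemeι z.1 ∉ (E.support : Set X')) ((hEsupp _).2 ?_)
          refine Eq.trans ?_ e
          show ((IY.comap b).subschemeι ≫ b) z.1 = ((IY.comapIso b).hom ≫ pullback.snd _ _ ≫ ι) z.1
          rw [← pullback.condition, Scheme.IdealSheafData.comapIso_hom_fst_assoc]
      show h.ker ≤ (O.ι ≫ (IY.comap b).subschemeι).ker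
      rw [← hv]
      exact Scheme.Hom.le_ker_comp _ _
  clear hY'
  subst hY
  have hsupp' : (h.ker.support : Set X') = Set.range h := by
    rw [Scheme.Hom.support_ker]; exact h.isClosedEmbedding.isClosed_range.closure_eq
  have hEh : E.comap h = ptI hyc := by
    show ((ptI hp).comap b).comap h = _
    rw [← Scheme.IdealSheafData.comap_comp, hh, hcomp]
  refine ⟨⟨(asIso h.toImage).symm, ?_⟩, h y, ?_, fun q1 hq1 => ?_, fun hqZ q0 q1 hq0 hq1 => ?_⟩
  · rw [Iso.symm_hom, asIso_inv, IsIso.inv_comp_eq, ← Category.assoc]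
    show _ = (h.toImage ≫ h.imageι) ≫ b
    rw [h.toImage_imageι, hh]
  · ext a
    refine ⟨fun ⟨ha, hae⟩ => ?_, ?_⟩
    · rw [hsupp'] at ha
      obtain ⟨c, rfl⟩ := ha
      refine congrArg h (ι.isClosedEmbedding.injective (?_ : ι c = ι y))
      rw [hy, ← hh]
      exact (hEsupp _).1 hae
    · rintro rfl
      refine ⟨by rw [hsupp']; exact ⟨y, rfl⟩, (hEsupp _).2 ?_⟩
      rw [← Scheme.Hom.comp_apply, hh, hy]
  · refine (length_inter h E y q1 hq1).trans ?_
    rw [← stI_comap, hEh, stI_ptI]
    haveI : IsSimpleModule (Y.presheaf.stalk y) (Y.presheaf.stalk y ⧸ IsLocalRing.maximalIdeal (Y.presheaf.stalk y)) :=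
      isSimpleModule_iff_isCoatom.2 (IsLocalRing.maximalIdeal.isMaximal _).out
    rw [Module.length_eq_one]
  · haveI := hreg y hy
    haveI : IsPrincipalIdealRing (Y.presheaf.stalk y) := by
      refine ((tfae_of_isNoetherianRing_of_isLocalRing_of_isDomain (Y.presheaf.stalk y)).out 0 5).2 ?_
      have h := (IsRegularLocalRing.iff_finrank_cotangentSpace (R := Y.presheaf.stalk y)).1 inferInstance
      have h1 := h.le.trans ((Groth.L15.CohFlat.ringKrullDim_stalk_le y).trans hdimY.le)
      exact_mod_cast h1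
    obtain ⟨t, ht0, ht⟩ := stI_isPrincipal hcart y
    rw [stI_ptI] at ht
    have e1 : Module.length ((h.ker ⊔ IZ').subscheme.presheaf.stalk q1) ((h.ker ⊔ IZ').subscheme.presheaf.stalk q1) =
        Module.length (Y.presheaf.stalk y) (Y.presheaf.stalk y ⧸ stI (IZ'.comap h) y) := by
      rw [stI_comap]; exact length_inter h IZ' y q1 hq1
    have e0 : Module.length ((IY ⊔ IZ).subscheme.presheaf.stalk q0) ((IY ⊔ IZ).subscheme.presheaf.stalk q0) =
        Module.length (Y.presheaf.stalk y) (Y.presheaf.stalk y ⧸ stI (IZ.comap ι) y) := by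
      rw [stI_comap]
      have key : ∀ (K : X.IdealSheafData) (q : ↥(K ⊔ IZ).subscheme), K = ι.ker → (K ⊔ IZ).subschemeι q = ι y →
          Module.length ((K ⊔ IZ).subscheme.presheaf.stalk q) ((K ⊔ IZ).subscheme.presheaf.stalk q) =
            Module.length (Y.presheaf.stalk y) (Y.presheaf.stalk y ⧸ (stI IZ (ι y)).map (ι.stalkMap y).hom) := by
        rintro _ q rfl hq
        exact length_inter ι IZ y q hq
      exact key IY q0 hker.symm (hq0.trans hy.symm)
    rw [e0, e1]
    refine length_lt ht (nonZeroDivisors.ne_zero ht0) ?_ ?_ ?_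
    · intro h0
      obtain ⟨U, hU⟩ := exists_affine y
      have hs := genericPoint_specializes y
      have h2 := Groth.L05.FibreDecomp.map_stalkSpecializes (IZ.comap ι) U y hU hs
      rw [← stI_eq, h0, Ideal.map_bot, ← stI_eq] at h2
      refine bot_ne_top (α := Ideal (Y.presheaf.stalk (genericPoint Y))) (h2.trans ((stI_eq_top_iff _ _).2 ?_))
      rw [Scheme.IdealSheafData.support_comap]
      exact hgen
    · have hKE : IZ.comap b ≤ E := (Scheme.IdealSheafData.map_gc b).monotone_l (by
        show IZ ≤ Scheme.IdealSheafData.vanishingIdeal ⟨{p}, hp⟩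
        rw [← Scheme.IdealSheafData.le_support_iff_le_vanishingIdeal]
        exact Set.singleton_subset_iff.2 hpZ)
      obtain ⟨τ, -, hτ, hle⟩ := stI_le_span_mul (IZ.comap b) E hb.1 hKE (h y)
      have h2 := Ideal.map_mono (f := (h.stalkMap y).hom) hle
      rw [← stI_comap, ← Scheme.IdealSheafData.comap_comp, hh, Ideal.map_mul, ← hτ, ← stI_comap, hEh, stI_ptI, ht,
        ← stI_comap] at h2
      rw [hZ']
      exact h2
    · intro h0
      refine (stI_eq_top_iff _ _).1 h0 ?_
      rw [Scheme.IdealSheafData.support_comap]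
      exact hqZ

end Groth.Agent.S7358
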