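import Groth.Statements.S7360
import Groth.Agent.L05.PtSeq.Sections

set_option autoImplicit false
universe u
open CategoryTheory CategoryTheory.Limits AlgebraicGeometry
open Resolve

namespace Groth.Agent.S7360

open Groth.L05.PtSeq TopologicalSpace
open Groth.L03.BlowPt (ptI exc eι)

theorem mem_support_idealSheaf (A : Type u) [CommRing A] (J : Ideal A) (q : Spec (CommRingCat.of A)) :
    q ∈ ((Curv2.idealSheaf A J).support : Set (Spec (CommRingCat.of A))) ↔ J ≤ q.asIdeal := by
  show q ∈ (Groth.L13.BU.idealOf J).support ↔ _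
  rw [Scheme.IdealSheafData.mem_support_iff_of_mem (U := ⟨⊤, isAffineOpen_top _⟩) (Set.mem_univ _),
    Groth.L13.BU.idealOf_top, Scheme.mem_zeroLocus_iff]
  constructor
  · intro h a ha
    have h' := h ((Scheme.ΓSpecIso (CommRingCat.of A)).inv a) (Ideal.mem_map_of_mem _ ha)
    rw [basicOpen_eq_of_affine] at h'
    by_contra hne
    exact h' hne
  · intro h a ha
    obtain ⟨a', ha', rfl⟩ := (Ideal.mem_map_iff_of_surjective _
      (ConcreteCategory.bijective_of_isIso (Scheme.ΓSpecIso (CommRingCat.of A)).inv).2).1 ha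
    rw [basicOpen_eq_of_affine]
    exact fun h' => h' (h ha')

theorem eq_of_span_pow {S : Type u} [CommRing S] {t : S} (ht : t ∈ nonZeroDivisors S) (hu : ¬ IsUnit t) {a c : ℕ}
    (h : Ideal.span {t ^ a} = Ideal.span {t ^ c}) : a = c := by
  wlog hac : a < c generalizing a c
  · rcases (not_lt.1 hac).eq_or_lt with e | e
    · exact e.symm
    · exact (this h.symm e).symm
  exfalso
  obtain ⟨k, rfl⟩ := Nat.exists_eq_add_of_lt hac
  obtain ⟨x, hx⟩ := Ideal.mem_span_singleton'.1 (h ▸ Ideal.mem_span_singleton_self (t ^ a))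
  have h1 : (1 - x * t ^ (k + 1)) * t ^ a = 0 := by
    rw [sub_mul, one_mul, mul_assoc, ← pow_add, show k + 1 + a = a + k + 1 by ring, hx, sub_self]
  have h2 := (mem_nonZeroDivisors_iff.1 (pow_mem ht a)).2 _ h1
  exact hu ((isUnit_pow_iff (Nat.succ_ne_zero k)).1 (IsUnit.of_mul_eq_one_right x (sub_eq_zero.1 h2).symm))

theorem eq_of_span_mul {S : Type u} [CommRing S] {t : S} (ht : t ∈ nonZeroDivisors S) {J J' : Ideal S}
    (h : Ideal.span {t} * J = Ideal.span {t} * J') : J = J' := by
  suffices key : ∀ K K' : Ideal S, Ideal.span {t} * K = Ideal.span {t} * K' → K ≤ K' from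
    le_antisymm (key J J' h) (key J' J h.symm)
  intro K K' h x hx
  obtain ⟨z, hz, hzx⟩ := Ideal.mem_span_singleton_mul.1
    (h ▸ Ideal.mul_mem_mul (Ideal.mem_span_singleton_self t) hx : t * x ∈ Ideal.span {t} * K')
  have : z = x := sub_eq_zero.1 ((mem_nonZeroDivisors_iff.1 ht).1 _ (by rw [mul_sub, hzx, sub_self]))
  exact this ▸ hz

/-- The core: the transform of an ideal at the closed point and the drop of its colength. -/
theorem core (A : Type u) [CommRing A] [IsNoetherianRing A] (I : Ideal A) {X : Scheme.{u}}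
    [AlgebraicGeometry.IsNoetherian X] (b : X ⟶ Spec (CommRingCat.of A))
    [AlgebraicGeometry.IsNoetherian (Spec (CommRingCat.of A))]
    {y : Spec (CommRingCat.of A)} {hy : IsClosed ({y} : Set (Spec (CommRingCat.of A)))} (h : IsPtBlow b y hy)
    (htop : ∀ U : (Spec (CommRingCat.of A)).Opens, y ∈ U → U = ⊤)
    (hQ : Module.length A (A ⧸ I) ≠ ⊤) (hIne : I ≠ ⊤) {d : ℕ} (hd : 1 ≤ d) (J : X.IdealSheafData)
    (hJ : PtSupp J) (hprod : exc hy b ^ d * J = (Curv2.idealSheaf A I).comap b)
    (hJy : ∀ z ∈ (J.support : Set X), b z = y) :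
    letI : X.Over (Spec (CommRingCat.of A)) := ⟨b⟩
    Module.length A (Coh.HH X (ClSub.quotMod J) 0) < Module.length A (A ⧸ I) ∧
      ∑ᶠ x : ↥J.subscheme, Module.length (J.subscheme.presheaf.stalk x) (J.subscheme.presheaf.stalk x) ≤
        Module.length A (Coh.HH X (ClSub.quotMod J) 0) := by
  classical
  letI : X.Over (Spec (CommRingCat.of A)) := ⟨b⟩
  let Z := J.subscheme
  let i := J.subschemeι
  letI : Z.Over (Spec (CommRingCat.of A)) := ⟨i ≫ b⟩
  have hsupp : ∀ z : Z, i z ∈ (J.support : Set X) := fun z => by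
    rw [← Scheme.IdealSheafData.range_subschemeι]; exact ⟨z, rfl⟩
  haveI : Finite Z := by
    haveI := hJ.finite.to_subtype
    exact Finite.of_injective (fun z => (⟨i z, hsupp z⟩ : (J.support : Set X)))
      fun a c e => i.isClosedEmbedding.injective (congrArg Subtype.val e)
  haveI : T1Space Z := ⟨fun z => by
    have := (hJ _ (hsupp z)).1.preimage i.continuous
    rwa [show i ⁻¹' {i z} = {z} from Set.ext fun a => ⟨fun e => i.isClosedEmbedding.injective e,
      fun e => congrArg i e⟩] at this⟩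
  haveI := Fintype.ofFinite Z
  -- algebras
  let g : A →+* Γ(Z, ⊤) := Coh.toGlobal (i ≫ b)
  let γ : ∀ x : X, A →+* X.presheaf.stalk x := fun x => (X.presheaf.germ ⊤ x trivial).hom.comp (Coh.toGlobal b)
  have hgz : ∀ (z : Z) (a : A), i.stalkMap z (γ (i z) a) = Z.presheaf.germ ⊤ z trivial (g a) := fun z a => by
    show i.stalkMap z (X.presheaf.germ ⊤ (i z) trivial (Coh.toGlobal b a)) = _
    refine (Scheme.Hom.germ_stalkMap_apply i ⊤ z trivial _).trans ?_
    simp [g, Coh.toGlobal, Scheme.Hom.comp_appTop]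
    rfl
  letI algR : ∀ z : Z, Algebra A (X.presheaf.stalk (i z)) := fun z => (γ (i z)).toAlgebra
  letI algS : ∀ z : Z, Algebra A (Z.presheaf.stalk z) :=
    fun z => ((Z.presheaf.germ ⊤ z trivial).hom.comp g).toAlgebra
  letI algΓ : Algebra A Γ(Z, ⊤) := g.toAlgebra
  -- the cohomology
  haveI : AlgebraicGeometry.IsNoetherian Z := by
    haveI : IsLocallyNoetherian Z := LocallyOfFiniteType.isLocallyNoetherian i
    haveI : CompactSpace Z := QuasiCompact.compactSpace_of_compactSpace i
    exact ⟨⟩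
  haveI : X.IsSeparated := ⟨by
    haveI := h.isProper
    rw [← terminal.comp_from b]; infer_instance⟩
  obtain ⟨e₁⟩ := Groth.L05.InterPair.exists_HH_push (A := A) i (Coh.structureModule Z)
    (Groth.L16.CohClosedPush.isCoh_structure (X := Z)).1 rfl 0
  let hT : IsTerminal (⊤ : Opens Z) := IsTerminal.ofUniqueHom (fun U => homOfLE le_top) (fun _ _ => rfl)
  let F := Coh.toAb (Coh.structureModule Z)
  let e₀ : Coh.HH Z (Coh.structureModule Z) 0 ≃+ Γ(Z, ⊤) := Sheaf.H.equiv₀ F hT
  have he₀ : ∀ (c : A) x, e₀ (c • x) = @HMul.hMul Γ(Z, ⊤) Γ(Z, ⊤) Γ(Z, ⊤) _ (g c) (e₀ x) := fun c x => by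
    show Sheaf.H.equiv₀ F hT (Sheaf.H.map (Coh.smulAb (Coh.structureModule Z) _) 0 x) = _
    rw [← Sheaf.H.equiv₀_naturality]
    refine (Coh.smulAb_app (Coh.structureModule Z) _ (Opposite.op ⊤) _).trans ?_
    show Coh.resTop Z (Opposite.op ⊤) _ * _ = _
    congr 1
    simp [Coh.resTop, g, Coh.toGlobal]
    rfl
  let el : Coh.HH Z (Coh.structureModule Z) 0 ≃ₗ[A] Γ(Z, ⊤) :=
    { e₀ with map_smul' := fun c x => (he₀ c x).trans (Algebra.smul_def c (e₀ x)).symm }
  let π : Γ(Z, ⊤) ≃ₗ[A] ∀ z : Z, Z.presheaf.stalk z :=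
    LinearEquiv.ofBijective
      { toFun := fun s z => Z.presheaf.germ ⊤ z trivial s
        map_add' := fun s t => funext fun z => map_add _ s t
        map_smul' := fun a s => funext fun z => by
          show Z.presheaf.germ ⊤ z trivial (a • s) = a • Z.presheaf.germ ⊤ z trivial s
          rw [Algebra.smul_def, Algebra.smul_def]
          exact map_mul _ _ _ } bijective_germs
  let ρ : ∀ z : Z, (X.presheaf.stalk (i z) ⧸ stI J (i z)) ≃ₗ[A] Z.presheaf.stalk z := fun z =>
    { stalkQuotEquiv J z with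
      map_smul' := fun a x => by
        obtain ⟨x, rfl⟩ := Ideal.Quotient.mk_surjective x
        show stalkQuotEquiv J z (Ideal.Quotient.mk _ (γ (i z) a * x)) = _
        rw [stalkQuotEquiv_mk, map_mul, hgz]
        rfl }
  rw [← e₁.length_eq, el.length_eq, π.length_eq]
  refine ⟨?_, ?_⟩
  · rw [← (LinearEquiv.piCongrRight ρ).length_eq]
    choose t ht htE using fun x : X => stI_isPrincipal h.2.2.1 x
    let s : ∀ z : Z, X.presheaf.stalk (i z) := fun z => t (i z) ^ d
    have hL : ∀ z : Z, stI ((Curv2.idealSheaf A I).comap b) (i z) = Ideal.span {s z} * stI J (i z) := fun z => by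
      rw [← hprod, stI_mul, stI_pow, show stI (exc hy b) (i z) = Ideal.span {t (i z)} from htE _, Ideal.span_singleton_pow]
    haveI : Nontrivial (A ⧸ I) := Ideal.Quotient.nontrivial_iff.2 hIne
    let T : (Spec (CommRingCat.of A)).affineOpens := ⟨⊤, isAffineOpen_top _⟩
    refine length_pi_lt (fun z : Z => X.presheaf.stalk (i z)) s (fun z => pow_mem (ht _) d) (fun z hu => ?_)
      (fun z => stI J (i z)) (A ⧸ I) Ideal.Quotient.mk_surjective (fun a ha z => ?_) (fun w => ?_) hQ
    · have hE : stI (exc hy b) (i z) = ⊤ :=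
        (htE _).trans (Ideal.span_singleton_eq_top.2 ((isUnit_pow_iff (by omega)).1 hu))
      refine (stI_eq_top_iff _ _).1 hE ?_
      rw [← Scheme.IdealSheafData.range_subschemeι, range_exc]
      exact hJy _ (hsupp z)
    · rw [← hL]
      show X.presheaf.germ ⊤ (i z) trivial (b.appTop ((Scheme.ΓSpecIso (CommRingCat.of A)).inv a)) ∈ _
      rw [stI_comap]
      have := Scheme.Hom.germ_stalkMap_apply b ⊤ (i z) trivial ((Scheme.ΓSpecIso (CommRingCat.of A)).inv a)
      refine Eq.subst (motive := (· ∈ _)) this (Ideal.mem_map_of_mem _ (germ_mem_stI _ T trivial ?_))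
      show _ ∈ (Groth.L13.BU.idealOf I).ideal T
      rw [Groth.L13.BU.idealOf_top]
      exact Ideal.mem_map_of_mem _ (Ideal.Quotient.eq_zero_iff_mem.1 ha)
    · obtain ⟨D⟩ := h.echart
      let u : ∀ x : X, X.presheaf.stalk x := fun x =>
        if hx : ∃ z : Z, i z = x then hx.choose_spec ▸ (w hx.choose * s hx.choose) else 0
      have huz : ∀ z : Z, u (i z) = w z * s z := fun z => by
        have hx : ∃ z' : Z, i z' = i z := ⟨z, rfl⟩
        have key : ∀ (z' : Z) (e : i z' = i z), (e ▸ (w z' * s z') : X.presheaf.stalk (i z)) = w z * s z := by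
          intro z' e
          obtain rfl := i.isClosedEmbedding.injective e
          rfl
        simp only [u, dif_pos hx]
        exact key _ _
      have hu : ∀ x, u x ∈ stI (exc hy b ^ d) x := fun x => by
        rw [stI_pow, show stI (exc hy b) x = Ideal.span {t x} from htE x, Ideal.span_singleton_pow]
        by_cases hx : ∃ z : Z, i z = x
        · obtain ⟨z, rfl⟩ := hx
          rw [huz]
          exact Ideal.mem_span_singleton'.2 ⟨_, rfl⟩
        · simp only [u, dif_neg hx]; exact zero_mem _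
      obtain ⟨a', ha⟩ := exists_global h D.U D.f D.ideal_eq hJ d hprod u hu
      have hle : (⊤ : (Spec (CommRingCat.of A)).Opens) ≤ D.U.1 := (htop _ D.mem).ge
      refine ⟨(Scheme.ΓSpecIso (CommRingCat.of A)).hom ((Spec (CommRingCat.of A)).presheaf.map (homOfLE hle).op a'),
        fun z => ?_⟩
      have h1 := ha (i z) (hle trivial) (hsupp z)
      rw [hL, huz] at h1
      refine Eq.subst (motive := fun c => c - w z * s z ∈ _) ?_ h1
      show _ = X.presheaf.germ ⊤ (i z) trivial (b.appTop _)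
      rw [Iso.hom_inv_id_apply]
      show _ = X.presheaf.germ (b ⁻¹ᵁ ⊤) (i z) trivial (b.app ⊤ _)
      refine (Scheme.Hom.germ_stalkMap_apply b D.U.1 (i z) (hle trivial) a').symm.trans ?_
      refine Eq.trans ?_ (Scheme.Hom.germ_stalkMap_apply b ⊤ (i z) trivial _)
      exact congrArg _ (TopCat.Presheaf.germ_res_apply _ (homOfLE hle) (b (i z)) trivial a').symm
  · rw [finsum_eq_sum_of_fintype, Module.length_pi_of_fintype]
    exact Finset.sum_le_sum fun z _ => length_le_restrict


/-- Let (A, m) be a regular local ring of dimension two, X → Spec A (the structure morphism) the blowing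
up in m with exceptional divisor E and its ideal I_E, and I an ideal of A with m^n ⊆ I ⊆ m for some
n. Let d be the largest integer with I O_X ⊆ O_X(-dE) = I_E^d and I' ⊆ O_X the ideal with I O_X = I'
· I_E^d (so I' = I O_X(dE)). Then d > 0, O_X/I' is supported in finitely many closed points x_1, …,
x_r, and length_A(A/I) > length_A Γ(X, O_X/I') ≥ Σ_i length_{O_{X,x_i}}(O_{X,x_i}/I'_{x_i}), the sum
written as a finite sum over the points of the subscheme defined by I'. -/
theorem result (A : Type u) [CommRing A] [IsRegularLocalRing A] (hA : ringKrullDim A = 2)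
    (X : Scheme.{u}) [X.Over (Spec (CommRingCat.of A))]
    (hb : BlowUp.IsBlowUp (X ↘ Spec (CommRingCat.of A)) (Curv2.idealSheaf A (IsLocalRing.maximalIdeal A)))
    (I : Ideal A) (n : ℕ) (hIn : IsLocalRing.maximalIdeal A ^ n ≤ I) (hIm : I ≤ IsLocalRing.maximalIdeal A)
    (d : ℕ) (I' : X.IdealSheafData)
    (hd : (Curv2.idealSheaf A I).comap (X ↘ Spec (CommRingCat.of A)) =
      I' * BlowUp.exceptional (X ↘ Spec (CommRingCat.of A)) (Curv2.idealSheaf A (IsLocalRing.maximalIdeal A)) ^ d)
    (hmax : ¬ (Curv2.idealSheaf A I).comap (X ↘ Spec (CommRingCat.of A)) ≤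
      BlowUp.exceptional (X ↘ Spec (CommRingCat.of A)) (Curv2.idealSheaf A (IsLocalRing.maximalIdeal A)) ^ (d + 1)) :
    0 < d ∧ (I'.support : Set X).Finite ∧ (∀ x ∈ (I'.support : Set X), IsClosed ({x} : Set X)) ∧
      Module.length A (Coh.HH X (ClSub.quotMod I') 0) < Module.length A (A ⧸ I) ∧
      ∑ᶠ x : ↥I'.subscheme, Module.length (I'.subscheme.presheaf.stalk x) (I'.subscheme.presheaf.stalk x) ≤
        Module.length A (Coh.HH X (ClSub.quotMod I') 0) := by
  let b := X ↘ Spec (CommRingCat.of A)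
  let m := IsLocalRing.maximalIdeal A
  let y : Spec (CommRingCat.of A) := IsLocalRing.closedPoint A
  have hy : IsClosed ({y} : Set (Spec (CommRingCat.of A))) :=
    IsLocalRing.isClosed_singleton_closedPoint A
  have hm0 : Curv2.idealSheaf A m = Scheme.IdealSheafData.vanishingIdeal ⟨{y}, hy⟩ := by
    let T : (Spec (CommRingCat.of A)).affineOpens := ⟨⊤, isAffineOpen_top _⟩
    have hm : ((Groth.L13.BU.idealOf m).ideal T).IsMaximal := by
      rw [Groth.L13.BU.idealOf_top]
      exact Ideal.map_isMaximal_of_equiv (Scheme.ΓSpecIso (CommRingCat.of A)).commRingCatIsoToRingEquiv.symm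
    have hle : Groth.L13.BU.idealOf m ≤ Scheme.IdealSheafData.vanishingIdeal ⟨{y}, hy⟩ := by
      rw [← Scheme.IdealSheafData.le_support_iff_le_vanishingIdeal]
      intro q hq
      rw [show q = y from hq]
      exact (mem_support_idealSheaf A m y).2 le_rfl
    exact Scheme.IdealSheafData.ext_of_isAffine
      (hm.eq_of_le (Groth.L03.BlowPt.isMaximal_ptI hy T (Set.mem_univ y)).ne_top (hle T))
  let e : (Spec (CommRingCat.of A)).presheaf.stalk y ≃+* A :=
    ((IsLocalization.atUnits A (IsLocalRing.closedPoint A).asIdeal.primeCompl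
      (fun x hx => by simpa [IsLocalRing.closedPoint, IsUnit.mem_submonoid_iff] using hx)).toRingEquiv.trans
      (Spec.stalkIso (CommRingCat.of A) y).commRingCatIsoToRingEquiv.symm).symm
  haveI : IsNoetherianRing (CommRingCat.of A) := inferInstanceAs (IsNoetherianRing A)
  have h : IsPtBlow b y hy :=
    ⟨IsRegularLocalRing.of_ringEquiv e.symm, by rw [ringKrullDim_eq_of_ringEquiv e, hA]; rfl, by
      show BlowUp.IsBlowUp b (Scheme.IdealSheafData.vanishingIdeal ⟨{y}, hy⟩)
      rw [← hm0]; exact hb⟩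
  haveI := h.isNoetherian
  have hexc : BlowUp.exceptional b (Curv2.idealSheaf A m) = exc hy b :=
    congrArg (fun K : (Spec (CommRingCat.of A)).IdealSheafData => K.comap b) hm0
  rw [show BlowUp.exceptional (X ↘ Spec (CommRingCat.of A)) (Curv2.idealSheaf A (IsLocalRing.maximalIdeal A)) =
    exc hy b from hexc] at hd hmax
  have hIy : ∀ q ∈ ((Curv2.idealSheaf A I).support : Set (Spec (CommRingCat.of A))), q = y := fun q hq => by
    rw [mem_support_idealSheaf] at hq
    refine PrimeSpectrum.ext (le_antisymm (IsLocalRing.le_maximalIdeal q.2.ne_top) ?_)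
    exact q.2.le_of_pow_le (hIn.trans hq)
  have hI : PtSupp (Curv2.idealSheaf A I) := fun q hq => by
    rw [hIy q hq]; exact ⟨hy, h.1, h.2.1⟩
  obtain ⟨d', J, hd1, hprod, hJ, hJsub⟩ :=
    exists_transform h hI ((mem_support_idealSheaf A I y).2 hIm)
  obtain ⟨D⟩ := h.echart
  haveI := D.isIntegral
  obtain ⟨ξ, hξ⟩ := Groth.L22.CartierDecomp.exists_generic (exc hy b)
  have hξcl : ¬ IsClosed ({ξ} : Set X) := fun hcl => by
    haveI : Subsingleton (exc hy b).subscheme := by
      refine ⟨fun a c => (eι hy b).isClosedEmbedding.injective ?_⟩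
      have h1 : ∀ a, eι hy b a = ξ := fun a => by
        have : eι hy b a ∈ closure ({ξ} : Set X) := by
          rw [hξ.def, ← Scheme.IdealSheafData.range_subschemeι]; exact ⟨a, rfl⟩
        rwa [hcl.closure_eq] at this
      rw [h1, h1]
    haveI : DiscreteTopology (exc hy b).subscheme := Subsingleton.discreteTopology
    have h0 := topologicalKrullDim_zero_of_discreteTopology (exc hy b).subscheme
    rw [D.dim_eq] at h0
    exact absurd h0 (by decide)
  have hJξ : ξ ∉ (J.support : Set X) := fun h' => hξcl (hJ ξ h').1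
  have hI'ξ : ξ ∉ (I'.support : Set X) := fun h' => hmax (by
    rw [hd, pow_succ']
    exact fun U => by
      rw [Scheme.IdealSheafData.ideal_mul, Scheme.IdealSheafData.ideal_mul, Pi.mul_apply, Pi.mul_apply]
      exact Ideal.mul_mono_left (Groth.L22.CartierDecomp.le_of_generic_mem hξ h' U))
  obtain ⟨t, ht, htE⟩ := stI_isPrincipal h.2.2.1 ξ
  have htu : ¬ IsUnit t := fun hu => (stI_eq_top_iff (exc hy b) ξ).1
    (htE.trans (Ideal.span_singleton_eq_top.2 hu)) hξ.mem
  have hdd : d' = d := by
    have h1 := congrArg (fun K => stI K ξ) (hprod.trans hd)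
    simp only [stI_mul, stI_pow] at h1
    rw [(stI_eq_top_iff J ξ).2 hJξ, (stI_eq_top_iff I' ξ).2 hI'ξ, Ideal.mul_top, Ideal.top_mul,
      show stI (exc hy b) ξ = Ideal.span {t} from htE, Ideal.span_singleton_pow, Ideal.span_singleton_pow] at h1
    exact eq_of_span_pow ht htu h1
  subst hdd
  have hJI : I' = J := ext_stI fun x => by
    have h1 := congrArg (fun K => stI K x) (hprod.trans hd)
    obtain ⟨t, ht, htE⟩ := stI_isPrincipal h.2.2.1 x
    simp only [stI_mul, stI_pow, show stI (exc hy b) x = Ideal.span {t} from htE, Ideal.span_singleton_pow] at h1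
    rw [mul_comm (stI I' x)] at h1
    exact (eq_of_span_mul (pow_mem ht _) h1).symm
  subst hJI
  have hQ : Module.length A (A ⧸ I) ≠ ⊤ := by
    haveI : Nontrivial (A ⧸ I) := Ideal.Quotient.nontrivial_iff.2 fun e' =>
      (IsLocalRing.maximalIdeal.isMaximal A).ne_top (top_le_iff.1 (e' ▸ hIm))
    haveI : IsLocalRing (A ⧸ I) := IsLocalRing.of_surjective' _ Ideal.Quotient.mk_surjective
    haveI : IsArtinianRing (A ⧸ I) := by
      refine (isArtinianRing_iff_isNilpotent_maximalIdeal _).2 ⟨n, ?_⟩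
      rw [← IsLocalRing.map_maximalIdeal_of_surjective (Ideal.Quotient.mk I) Ideal.Quotient.mk_surjective,
        ← Ideal.map_pow, Ideal.zero_eq_bot, Ideal.map_eq_bot_iff_le_ker, Ideal.mk_ker]
      exact hIn
    rw [Module.length_eq_of_surjective (S := A) (R := A ⧸ I) Ideal.Quotient.mk_surjective]
    exact Module.length_ne_top
  obtain ⟨h4, h5⟩ := core A I b h (fun U hU => top_le_iff.1 fun q _ =>
      (IsLocalRing.specializes_closedPoint q).mem_open U.2 hU) hQ
    (fun e' => (IsLocalRing.maximalIdeal.isMaximal A).ne_top (top_le_iff.1 (e' ▸ hIm))) hd1 I' hJ hprod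
    (fun z hz => hIy _ (hJsub z hz))
  exact ⟨by omega, hJ.finite, fun x hx => (hJ x hx).1, h4, h5⟩

end Groth.Agent.S7360
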