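import Groth.Statements.S7362
import Groth.Agent.L26.NumType.GenusOneMain

set_option autoImplicit false
open Finset
open Models Models.NumericalType

namespace Groth.Agent.S7362

/-- Genus one classification: case n = 2: let T be a minimal numerical type of genus 1 on two indices.
Then for some ordering i, j of the indices and some integers m, w, either m_i = m_j = m, a_ii = a_jj
= -2w, a_ij = 2w, w_i = w_j = w, g_i = g_j = 0; or m_i = 2m, m_j = m, a_ii = -2w, a_ij = 4w, a_jj =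
-8w, w_i = w, w_j = 4w, g_i = g_j = 0. Only the classification direction is stated. -/
theorem result (T : Models.NumericalType 2) (hmin : T.IsMinimal) (hg : T.genus = 1) :
    ∃ (i j : Fin 2) (m w : ℤ), i ≠ j ∧ T.g i = 0 ∧ T.g j = 0 ∧
      ((T.m i = m ∧ T.m j = m ∧ T.a i i = -2 * w ∧ T.a i j = 2 * w ∧ T.a j j = -2 * w ∧ T.w i = w ∧ T.w j = w) ∨
        (T.m i = 2 * m ∧ T.m j = m ∧ T.a i i = -2 * w ∧ T.a i j = 4 * w ∧ T.a j j = -8 * w ∧ T.w i = w ∧ T.w j = 4 * w)) := by
  have hv := Groth.L26.NumType.all_minusTwo T hmin one_lt_two hg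
  have r0 := Groth.L26.NumType.row_sum T 0
  have r1 := Groth.L26.NumType.row_sum T 1
  rw [Fin.sum_univ_two, (hv 0).2] at r0
  rw [Fin.sum_univ_two, (hv 1).2, Groth.L26.NumType.a_symm T 1 0] at r1
  have d0 := (hv 0).2; have d1 := (hv 1).2
  have hs := Groth.L26.NumType.a_symm T 1 0
  obtain ⟨p, hp⟩ := T.w_dvd 0 1
  obtain ⟨q, hq⟩ := T.w_dvd 1 0
  rw [hs] at hq
  have w0 := T.w_pos 0; have w1 := T.w_pos 1
  have m0 := T.m_pos 0; have m1 := T.m_pos 1
  have e0 : p * T.m 1 = 2 * T.m 0 := by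
    rw [hp] at r0; exact mul_left_cancel₀ w0.ne' (by linarith)
  have e1 : q * T.m 0 = 2 * T.m 1 := by
    rw [hq] at r1; exact mul_left_cancel₀ w1.ne' (by linarith)
  have hpq : p * q = 4 := mul_right_cancel₀ m0.ne'
    (show p * q * T.m 0 = 4 * T.m 0 by linear_combination p * e1 + 2 * e0)
  have hp0 : 0 < p := by nlinarith
  have hp4 : p ≤ 4 := Int.le_of_dvd (by norm_num) ⟨q, hpq.symm⟩
  interval_cases p
  · refine ⟨1, 0, T.m 0, T.w 1, by decide, (hv 1).1, (hv 0).1, Or.inr ?_⟩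
    obtain rfl : q = 4 := by omega
    and_intros <;> omega
  · refine ⟨0, 1, T.m 0, T.w 0, by decide, (hv 0).1, (hv 1).1, Or.inl ?_⟩
    obtain rfl : q = 2 := by omega
    and_intros <;> omega
  · omega
  · refine ⟨0, 1, T.m 1, T.w 0, by decide, (hv 0).1, (hv 1).1, Or.inr ?_⟩
    obtain rfl : q = 1 := by omega
    and_intros <;> omega

end Groth.Agent.S7362
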