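import Groth.Statements.S7363
import Groth.Agent.L26.NumType.GenusOneMain
import Mathlib.Tactic.FinCases
import Mathlib.Logic.Equiv.Defs
import Mathlib.Data.Fintype.EquivFin

set_option autoImplicit false
open Finset
open Models Models.NumericalType

namespace Groth.Agent.S7363

/-- Genus one classification: case n = 3: let T be a minimal numerical type of genus 1 on three indices.
Then all g = 0 and, for some ordering i, j, k of the indices and some integers m, w, the data (m; a;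
w) is one of: (m,m,m; a_ii = a_jj = a_kk = -2w, a_ij = a_ik = a_jk = w; w,w,w); (m,2m,m; a_ii = -2w,
a_ij = w, a_ik = 0, a_jj = -2w, a_jk = 3w, a_kk = -6w; w,w,3w); (m,2m,3m; a_ii = -6w, a_ij = 3w,
a_ik = 0, a_jj = -6w, a_jk = 3w, a_kk = -2w; 3w,3w,w); (2m,2m,m; a_ii = -2w, a_ij = 2w, a_ik = 0,
a_jj = -4w, a_jk = 4w, a_kk = -8w; w,2w,4w); (m,m,m; a_ii = -2w, a_ij = 2w, a_ik = 0, a_jj = -4w,
a_jk = 2w, a_kk = -2w; w,2w,w); (m,2m,m; a_ii = -4w, a_ij = 2w, a_ik = 0, a_jj = -2w, a_jk = 2w,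
a_kk = -4w; 2w,w,2w). Only the classification direction is stated. -/
theorem result (T : Models.NumericalType 3) (hmin : T.IsMinimal) (hg : T.genus = 1) :
    ∃ (i j k : Fin 3) (m w : ℤ), i ≠ j ∧ j ≠ k ∧ i ≠ k ∧ T.g i = 0 ∧ T.g j = 0 ∧ T.g k = 0 ∧
      ((T.m i = m ∧ T.m j = m ∧ T.m k = m ∧ T.a i i = -2 * w ∧ T.a j j = -2 * w ∧ T.a k k = -2 * w ∧
          T.a i j = w ∧ T.a i k = w ∧ T.a j k = w ∧ T.w i = w ∧ T.w j = w ∧ T.w k = w) ∨
        (T.m i = m ∧ T.m j = 2 * m ∧ T.m k = m ∧ T.a i i = -2 * w ∧ T.a i j = w ∧ T.a i k = 0 ∧ T.a j j = -2 * w ∧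
          T.a j k = 3 * w ∧ T.a k k = -6 * w ∧ T.w i = w ∧ T.w j = w ∧ T.w k = 3 * w) ∨
        (T.m i = m ∧ T.m j = 2 * m ∧ T.m k = 3 * m ∧ T.a i i = -6 * w ∧ T.a i j = 3 * w ∧ T.a i k = 0 ∧ T.a j j = -6 * w ∧
          T.a j k = 3 * w ∧ T.a k k = -2 * w ∧ T.w i = 3 * w ∧ T.w j = 3 * w ∧ T.w k = w) ∨
        (T.m i = 2 * m ∧ T.m j = 2 * m ∧ T.m k = m ∧ T.a i i = -2 * w ∧ T.a i j = 2 * w ∧ T.a i k = 0 ∧ T.a j j = -4 * w ∧
          T.a j k = 4 * w ∧ T.a k k = -8 * w ∧ T.w i = w ∧ T.w j = 2 * w ∧ T.w k = 4 * w) ∨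
        (T.m i = m ∧ T.m j = m ∧ T.m k = m ∧ T.a i i = -2 * w ∧ T.a i j = 2 * w ∧ T.a i k = 0 ∧ T.a j j = -4 * w ∧
          T.a j k = 2 * w ∧ T.a k k = -2 * w ∧ T.w i = w ∧ T.w j = 2 * w ∧ T.w k = w) ∨
        (T.m i = m ∧ T.m j = 2 * m ∧ T.m k = m ∧ T.a i i = -4 * w ∧ T.a i j = 2 * w ∧ T.a i k = 0 ∧ T.a j j = -2 * w ∧
          T.a j k = 2 * w ∧ T.a k k = -4 * w ∧ T.w i = 2 * w ∧ T.w j = w ∧ T.w k = 2 * w)) := by
  have hn2 : (1:ℕ) < 3 := by omega
  have hv := Groth.L26.NumType.all_minusTwo T hmin hn2 hg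
  rcases Groth.L26.NumType.genus_one_classification T (by omega) hv with h | h | h | h | h | h | h | h | h | h | h | h
  · obtain ⟨u, m, w, hu, hmw, ha⟩ := h
    obtain ⟨M0, W0⟩ := hmw 0 (by omega)
    have D0 := (hv (u 0)).2
    have G0 := (hv (u 0)).1
    obtain ⟨M1, W1⟩ := hmw 1 (by omega)
    have D1 := (hv (u 1)).2
    have G1 := (hv (u 1)).1
    obtain ⟨M2, W2⟩ := hmw 2 (by omega)
    have D2 := (hv (u 2)).2
    have G2 := (hv (u 2)).1
    have A01 := ha 0 1 (by omega) (by omega)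
    have B01 := Groth.L26.NumType.a_symm T (u 1) (u 0)
    have A02 := ha 0 2 (by omega) (by omega)
    have B02 := Groth.L26.NumType.a_symm T (u 2) (u 0)
    have A12 := ha 1 2 (by omega) (by omega)
    have B12 := Groth.L26.NumType.a_symm T (u 2) (u 1)
    norm_num [Groth.L26.NumType.cycA, Groth.L26.NumType.cycM] at M0 W0 M1 W1 M2 W2 A01 A02 A12
    refine ⟨u 0, u 1, u 2, m, w, Groth.L26.NumType.ne_of_injOn hu (show 0 < 3 by omega) (show 1 < 3 by omega) (by omega), Groth.L26.NumType.ne_of_injOn hu (show 1 < 3 by omega) (show 2 < 3 by omega) (by omega), Groth.L26.NumType.ne_of_injOn hu (show 0 < 3 by omega) (show 2 < 3 by omega) (by omega), G0, G1, G2, Or.inl ?_⟩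
    and_intros <;> omega
  · obtain ⟨u, m, w, hu, hmw, ha⟩ := h
    obtain ⟨M0, W0⟩ := hmw 0 (by omega)
    have D0 := (hv (u 0)).2
    have G0 := (hv (u 0)).1
    obtain ⟨M1, W1⟩ := hmw 1 (by omega)
    have D1 := (hv (u 1)).2
    have G1 := (hv (u 1)).1
    obtain ⟨M2, W2⟩ := hmw 2 (by omega)
    have D2 := (hv (u 2)).2
    have G2 := (hv (u 2)).1
    have A01 := ha 0 1 (by omega) (by omega)
    have B01 := Groth.L26.NumType.a_symm T (u 1) (u 0)
    have A02 := ha 0 2 (by omega) (by omega)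
    have B02 := Groth.L26.NumType.a_symm T (u 2) (u 0)
    have A12 := ha 1 2 (by omega) (by omega)
    have B12 := Groth.L26.NumType.a_symm T (u 2) (u 1)
    norm_num [Groth.L26.NumType.upA, Groth.L26.NumType.upM, Groth.L26.NumType.upW] at M0 W0 M1 W1 M2 W2 A01 A02 A12
    refine ⟨u 0, u 1, u 2, m, w, Groth.L26.NumType.ne_of_injOn hu (show 0 < 3 by omega) (show 1 < 3 by omega) (by omega), Groth.L26.NumType.ne_of_injOn hu (show 1 < 3 by omega) (show 2 < 3 by omega) (by omega), Groth.L26.NumType.ne_of_injOn hu (show 0 < 3 by omega) (show 2 < 3 by omega) (by omega), G0, G1, G2, Or.inr (Or.inr (Or.inr (Or.inl ?_)))⟩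
    and_intros <;> omega
  · obtain ⟨u, m, w, hu, hmw, ha⟩ := h
    obtain ⟨M0, W0⟩ := hmw 0 (by omega)
    have D0 := (hv (u 0)).2
    have G0 := (hv (u 0)).1
    obtain ⟨M1, W1⟩ := hmw 1 (by omega)
    have D1 := (hv (u 1)).2
    have G1 := (hv (u 1)).1
    obtain ⟨M2, W2⟩ := hmw 2 (by omega)
    have D2 := (hv (u 2)).2
    have G2 := (hv (u 2)).1
    have A01 := ha 0 1 (by omega) (by omega)
    have B01 := Groth.L26.NumType.a_symm T (u 1) (u 0)
    have A02 := ha 0 2 (by omega) (by omega)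
    have B02 := Groth.L26.NumType.a_symm T (u 2) (u 0)
    have A12 := ha 1 2 (by omega) (by omega)
    have B12 := Groth.L26.NumType.a_symm T (u 2) (u 1)
    norm_num [Groth.L26.NumType.midA, Groth.L26.NumType.midM, Groth.L26.NumType.midW] at M0 W0 M1 W1 M2 W2 A01 A02 A12
    refine ⟨u 0, u 1, u 2, m, w, Groth.L26.NumType.ne_of_injOn hu (show 0 < 3 by omega) (show 1 < 3 by omega) (by omega), Groth.L26.NumType.ne_of_injOn hu (show 1 < 3 by omega) (show 2 < 3 by omega) (by omega), Groth.L26.NumType.ne_of_injOn hu (show 0 < 3 by omega) (show 2 < 3 by omega) (by omega), G0, G1, G2, Or.inr (Or.inr (Or.inr (Or.inr (Or.inl ?_))))⟩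
    and_intros <;> omega
  · obtain ⟨u, m, w, hu, hmw, ha⟩ := h
    obtain ⟨M0, W0⟩ := hmw 0 (by omega)
    have D0 := (hv (u 0)).2
    have G0 := (hv (u 0)).1
    obtain ⟨M1, W1⟩ := hmw 1 (by omega)
    have D1 := (hv (u 1)).2
    have G1 := (hv (u 1)).1
    obtain ⟨M2, W2⟩ := hmw 2 (by omega)
    have D2 := (hv (u 2)).2
    have G2 := (hv (u 2)).1
    have A01 := ha 0 1 (by omega) (by omega)
    have B01 := Groth.L26.NumType.a_symm T (u 1) (u 0)
    have A02 := ha 0 2 (by omega) (by omega)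
    have B02 := Groth.L26.NumType.a_symm T (u 2) (u 0)
    have A12 := ha 1 2 (by omega) (by omega)
    have B12 := Groth.L26.NumType.a_symm T (u 2) (u 1)
    norm_num [Groth.L26.NumType.dnA, Groth.L26.NumType.dnM, Groth.L26.NumType.dnW] at M0 W0 M1 W1 M2 W2 A01 A02 A12
    refine ⟨u 0, u 1, u 2, m, w, Groth.L26.NumType.ne_of_injOn hu (show 0 < 3 by omega) (show 1 < 3 by omega) (by omega), Groth.L26.NumType.ne_of_injOn hu (show 1 < 3 by omega) (show 2 < 3 by omega) (by omega), Groth.L26.NumType.ne_of_injOn hu (show 0 < 3 by omega) (show 2 < 3 by omega) (by omega), G0, G1, G2, Or.inr (Or.inr (Or.inr (Or.inr (Or.inr (?_)))))⟩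
    and_intros <;> omega
  · exact absurd h.1 (by omega)
  · exact absurd h.1 (by omega)
  · exact absurd h.1 (by omega)
  · rcases h.2 with h | h
    · obtain ⟨u, m, w, hu, hmw, ha⟩ := h
      obtain ⟨M0, W0⟩ := hmw 0 (by omega)
      have D0 := (hv (u 0)).2
      have G0 := (hv (u 0)).1
      obtain ⟨M1, W1⟩ := hmw 1 (by omega)
      have D1 := (hv (u 1)).2
      have G1 := (hv (u 1)).1
      obtain ⟨M2, W2⟩ := hmw 2 (by omega)
      have D2 := (hv (u 2)).2
      have G2 := (hv (u 2)).1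
      have A01 := ha 0 1 (by omega) (by omega)
      have B01 := Groth.L26.NumType.a_symm T (u 1) (u 0)
      have A02 := ha 0 2 (by omega) (by omega)
      have B02 := Groth.L26.NumType.a_symm T (u 2) (u 0)
      have A12 := ha 1 2 (by omega) (by omega)
      have B12 := Groth.L26.NumType.a_symm T (u 2) (u 1)
      norm_num [Groth.L26.NumType.G2aA, Groth.L26.NumType.G2aM, Groth.L26.NumType.G2aW] at M0 W0 M1 W1 M2 W2 A01 A02 A12
      refine ⟨u 0, u 1, u 2, m, w, Groth.L26.NumType.ne_of_injOn hu (show 0 < 3 by omega) (show 1 < 3 by omega) (by omega), Groth.L26.NumType.ne_of_injOn hu (show 1 < 3 by omega) (show 2 < 3 by omega) (by omega), Groth.L26.NumType.ne_of_injOn hu (show 0 < 3 by omega) (show 2 < 3 by omega) (by omega), G0, G1, G2, Or.inr (Or.inl ?_)⟩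
      and_intros <;> omega
    · obtain ⟨u, m, w, hu, hmw, ha⟩ := h
      obtain ⟨M0, W0⟩ := hmw 0 (by omega)
      have D0 := (hv (u 0)).2
      have G0 := (hv (u 0)).1
      obtain ⟨M1, W1⟩ := hmw 1 (by omega)
      have D1 := (hv (u 1)).2
      have G1 := (hv (u 1)).1
      obtain ⟨M2, W2⟩ := hmw 2 (by omega)
      have D2 := (hv (u 2)).2
      have G2 := (hv (u 2)).1
      have A01 := ha 0 1 (by omega) (by omega)
      have B01 := Groth.L26.NumType.a_symm T (u 1) (u 0)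
      have A02 := ha 0 2 (by omega) (by omega)
      have B02 := Groth.L26.NumType.a_symm T (u 2) (u 0)
      have A12 := ha 1 2 (by omega) (by omega)
      have B12 := Groth.L26.NumType.a_symm T (u 2) (u 1)
      norm_num [Groth.L26.NumType.G2bA, Groth.L26.NumType.G2bM, Groth.L26.NumType.G2bW] at M0 W0 M1 W1 M2 W2 A01 A02 A12
      refine ⟨u 0, u 1, u 2, m, w, Groth.L26.NumType.ne_of_injOn hu (show 0 < 3 by omega) (show 1 < 3 by omega) (by omega), Groth.L26.NumType.ne_of_injOn hu (show 1 < 3 by omega) (show 2 < 3 by omega) (by omega), Groth.L26.NumType.ne_of_injOn hu (show 0 < 3 by omega) (show 2 < 3 by omega) (by omega), G0, G1, G2, Or.inr (Or.inr (Or.inl ?_))⟩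
      and_intros <;> omega
  · exact absurd h.1 (by omega)
  · exact absurd h.1 (by omega)
  · exact absurd h.1 (by omega)
  · exact absurd h.1 (by omega)

end Groth.Agent.S7363
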