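import Groth.Statements.S7366
import Groth.Agent.L05.PtChain.Geo.Descend
import Groth.Agent.L05.PtChain.Geo.Punct

set_option autoImplicit false
universe u
open CategoryTheory CategoryTheory.Limits AlgebraicGeometry
open Resolve

namespace Groth.Agent.S7366
set_option backward.isDefEq.respectTransparency false
set_option backward.isDefEq.respectTransparency.types false
set_option linter.style.haveILetI false

/-- Let (A, m, κ) be a local normal Nagata domain of dimension two which defines a rational singularity,
whose m-adic completion is a normal domain, and which is Gorenstein. Then Spec A has a resolution of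
singularities: there is a proper morphism X → Spec A from an integral scheme all of whose local
rings are regular, which is an isomorphism over a nonempty open. (The published statement also says
that the resolution is reached by a finite sequence of blowings up in singular closed points through
normal schemes with finitely many singular points of the same kind; this row asserts only that a
resolution exists.) -/
theorem result (A : Type u) [CommRing A] [IsDomain A]
    [IsIntegrallyClosed A] [LocCoh.IsGorensteinLocalRing A] (hN : CAlg.IsNagata A) (hdim : ringKrullDim A = 2) (hA : Curv2.IsRationalSing A)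
    [IsDomain (Curv2.cpl A)] [IsIntegrallyClosed (Curv2.cpl A)] :
    ∃ (X : Scheme.{u}) (f : X ⟶ Spec (CommRingCat.of A)), IsProper f ∧ IsIntegral X ∧
      (∃ U : (Spec (CommRingCat.of A)).Opens, (U : Set (Spec (CommRingCat.of A))).Nonempty ∧ IsIso (f ∣_ U)) ∧
      ∀ x : X, IsRegularLocalRing (X.presheaf.stalk x) := by
  obtain ⟨I, X, b, hI, hb, hp, hreg⟩ := Groth.L05.PtChain.exists_admissible_local A hdim
  have hc : IsIso (b ∣_ I.support.compl) := Groth.L22.Ideals.isIso_restrict_compl hb
  have hne : genericPoint (Spec (CommRingCat.of A)) ∈ FEt.puncturedSpec A := Groth.L05.PtChain.genericPoint_mem_punctured A hdim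
  have hI0 : I ≠ ⊥ := by
    intro h0
    refine (Set.disjoint_left.1 hI.2 (show genericPoint (Spec (CommRingCat.of A)) ∈ (I.support : Set (Spec (CommRingCat.of A))) from ?_)) hne
    rw [h0]; simp
  obtain ⟨hi, -, -⟩ := Groth.L16.Blow.isIntegral_and_birational hb hI0
  exact ⟨X, b, hp, hi, ⟨I.support.compl, ⟨_, fun hh => Set.disjoint_left.1 hI.2 hh hne⟩, hc⟩, hreg⟩

end Groth.Agent.S7366
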