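import Groth.Statements.S7368
import Groth.Agent.L26.NumType.GenusOneMain
import Mathlib.Tactic.FinCases
import Mathlib.Logic.Equiv.Defs
import Mathlib.Data.Fintype.EquivFin

set_option autoImplicit false
open Finset
open Models Models.NumericalType

namespace Groth.Agent.S7368

/-- Genus one classification: case n = 7: let T be a minimal numerical type of genus 1 on 7 indices.
Then all g_i = 0 and, for some permutation σ of the indices and some integers m, w, the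
multiplicities, weights and intersection matrix (m_{σ(i)}, w_{σ(i)}, a_{σ(i)σ(j)}) are those of one
of the following 8 types: [cycle] m = (m, m, m, m, m, m, m), w = (w, w, w, w, w, w, w), a = (-2 * w
w 0 0 0 0 w / w -2 * w w 0 0 0 0 / 0 w -2 * w w 0 0 0 / 0 0 w -2 * w w 0 0 / 0 0 0 w -2 * w w 0 / 0
0 0 0 w -2 * w w / w 0 0 0 0 w -2 * w); [up chain equal up] m = (2 * m, 2 * m, 2 * m, 2 * m, 2 * m,
2 * m, m), w = (w, 2 * w, 2 * w, 2 * w, 2 * w, 2 * w, 4 * w), a = (-2 * w 2 * w 0 0 0 0 0 / 2 * w -4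
* w 2 * w 0 0 0 0 / 0 2 * w -4 * w 2 * w 0 0 0 / 0 0 2 * w -4 * w 2 * w 0 0 / 0 0 0 2 * w -4 * w 2 *
w 0 / 0 0 0 0 2 * w -4 * w 4 * w / 0 0 0 0 0 4 * w -8 * w); [up chain equal down] m = (m, m, m, m,
m, m, m), w = (w, 2 * w, 2 * w, 2 * w, 2 * w, 2 * w, w), a = (-2 * w 2 * w 0 0 0 0 0 / 2 * w -4 * w
2 * w 0 0 0 0 / 0 2 * w -4 * w 2 * w 0 0 0 / 0 0 2 * w -4 * w 2 * w 0 0 / 0 0 0 2 * w -4 * w 2 * w 0
/ 0 0 0 0 2 * w -4 * w 2 * w / 0 0 0 0 0 2 * w -2 * w); [down chain equal up] m = (m, 2 * m, 2 * m,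
2 * m, 2 * m, 2 * m, m), w = (2 * w, w, w, w, w, w, 2 * w), a = (-4 * w 2 * w 0 0 0 0 0 / 2 * w -2 *
w w 0 0 0 0 / 0 w -2 * w w 0 0 0 / 0 0 w -2 * w w 0 0 / 0 0 0 w -2 * w w 0 / 0 0 0 0 w -2 * w 2 * w
/ 0 0 0 0 0 2 * w -4 * w); [D extended up] m = (m, 2 * m, 2 * m, 2 * m, 2 * m, m, m), w = (2 * w, w,
w, w, w, w, w), a = (-4 * w 2 * w 0 0 0 0 0 / 2 * w -2 * w w 0 0 0 0 / 0 w -2 * w w 0 0 0 / 0 0 w -2
* w w 0 0 / 0 0 0 w -2 * w w w / 0 0 0 0 w -2 * w 0 / 0 0 0 0 w 0 -2 * w); [D extended down] m = (2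
* m, 2 * m, 2 * m, 2 * m, 2 * m, m, m), w = (w, 2 * w, 2 * w, 2 * w, 2 * w, 2 * w, 2 * w), a = (-2 *
w 2 * w 0 0 0 0 0 / 2 * w -4 * w 2 * w 0 0 0 0 / 0 2 * w -4 * w 2 * w 0 0 0 / 0 0 2 * w -4 * w 2 * w
0 0 / 0 0 0 2 * w -4 * w 2 * w 2 * w / 0 0 0 0 2 * w -4 * w 0 / 0 0 0 0 2 * w 0 -4 * w); [double
triple] m = (m, m, 2 * m, 2 * m, 2 * m, m, m), w = (w, w, w, w, w, w, w), a = (-2 * w 0 w 0 0 0 0 /
0 -2 * w w 0 0 0 0 / w w -2 * w w 0 0 0 / 0 0 w -2 * w w 0 0 / 0 0 0 w -2 * w w w / 0 0 0 0 w -2 * w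
0 / 0 0 0 0 w 0 -2 * w); [E6 completed] m = (m, 2 * m, 3 * m, m, 2 * m, m, 2 * m), w = (w, w, w, w,
w, w, w), a = (-2 * w w 0 0 0 0 0 / w -2 * w w 0 0 0 0 / 0 w -2 * w 0 w 0 w / 0 0 0 -2 * w w 0 0 / 0
0 w w -2 * w 0 0 / 0 0 0 0 0 -2 * w w / 0 0 w 0 0 w -2 * w). Only the classification direction is
stated. (In the family with weights (w, 2w, …, 2w, w) the consecutive intersection numbers are 2w,
as divisibility by the weights forces; the published list prints w there, and omits m_{n-2} = 2m in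
the two D-type families.) -/
theorem result (T : Models.NumericalType 7) (hmin : T.IsMinimal) (hg : T.genus = 1) :
    (∀ i, T.g i = 0) ∧ ∃ (σ : Equiv.Perm (Fin 7)) (m w : ℤ),
      ((T.m (σ 0) = m ∧ T.m (σ 1) = m ∧ T.m (σ 2) = m ∧ T.m (σ 3) = m ∧ T.m (σ 4) = m ∧ T.m (σ 5) = m ∧ T.m (σ 6) = m ∧ T.w (σ 0) = w ∧ T.w (σ 1) = w ∧ T.w (σ 2) = w ∧ T.w (σ 3) = w ∧ T.w (σ 4) = w ∧ T.w (σ 5) = w ∧ T.w (σ 6) = w ∧ T.a (σ 0) (σ 0) = -2 * w ∧ T.a (σ 0) (σ 1) = w ∧ T.a (σ 0) (σ 2) = 0 ∧ T.a (σ 0) (σ 3) = 0 ∧ T.a (σ 0) (σ 4) = 0 ∧ T.a (σ 0) (σ 5) = 0 ∧ T.a (σ 0) (σ 6) = w ∧ T.a (σ 1) (σ 1) = -2 * w ∧ T.a (σ 1) (σ 2) = w ∧ T.a (σ 1) (σ 3) = 0 ∧ T.a (σ 1) (σ 4) = 0 ∧ T.a (σ 1) (σ 5) = 0 ∧ T.a (σ 1) (σ 6) = 0 ∧ T.a (σ 2) (σ 2) = -2 * w ∧ T.a (σ 2) (σ 3) = w ∧ T.a (σ 2) (σ 4) = 0 ∧ T.a (σ 2) (σ 5) = 0 ∧ T.a (σ 2) (σ 6) = 0 ∧ T.a (σ 3) (σ 3) = -2 * w ∧ T.a (σ 3) (σ 4) = w ∧ T.a (σ 3) (σ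 5) = 0 ∧ T.a (σ 3) (σ 6) = 0 ∧ T.a (σ 4) (σ 4) = -2 * w ∧ T.a (σ 4) (σ 5) = w ∧ T.a (σ 4) (σ 6) = 0 ∧ T.a (σ 5) (σ 5) = -2 * w ∧ T.a (σ 5) (σ 6) = w ∧ T.a (σ 6) (σ 6) = -2 * w) ∨
      (T.m (σ 0) = 2 * m ∧ T.m (σ 1) = 2 * m ∧ T.m (σ 2) = 2 * m ∧ T.m (σ 3) = 2 * m ∧ T.m (σ 4) = 2 * m ∧ T.m (σ 5) = 2 * m ∧ T.m (σ 6) = m ∧ T.w (σ 0) = w ∧ T.w (σ 1) = 2 * w ∧ T.w (σ 2) = 2 * w ∧ T.w (σ 3) = 2 * w ∧ T.w (σ 4) = 2 * w ∧ T.w (σ 5) = 2 * w ∧ T.w (σ 6) = 4 * w ∧ T.a (σ 0) (σ 0) = -2 * w ∧ T.a (σ 0) (σ 1) = 2 * w ∧ T.a (σ 0) (σ 2) = 0 ∧ T.a (σ 0) (σ 3) = 0 ∧ T.a (σ 0) (σ 4) = 0 ∧ T.a (σ 0) (σ 5) = 0 ∧ T.a (σ 0) (σ 6) = 0 ∧ T.a (σ 1) (σ 1) = -4 * w ∧ T.a (σ 1) (σ 2) = 2 * w ∧ T.a (σ 1) (σ 3) = 0 ∧ T.a (σ 1) (σ 4) = 0 ∧ T.a (σ 1) (σ 5) = 0 ∧ T.a (σ 1) (σ 6) = 0 ∧ T.a (σ 2) (σ 2) = -4 * w ∧ T.a (σ 2) (σ 3) = 2 * w ∧ T.a (σ 2) (σ 4) = 0 ∧ T.a (σ 2) (σ 5) = 0 ∧ T.a (σ 2) (σ 6) = 0 ∧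 T.a (σ 3) (σ 3) = -4 * w ∧ T.a (σ 3) (σ 4) = 2 * w ∧ T.a (σ 3) (σ 5) = 0 ∧ T.a (σ 3) (σ 6) = 0 ∧ T.a (σ 4) (σ 4) = -4 * w ∧ T.a (σ 4) (σ 5) = 2 * w ∧ T.a (σ 4) (σ 6) = 0 ∧ T.a (σ 5) (σ 5) = -4 * w ∧ T.a (σ 5) (σ 6) = 4 * w ∧ T.a (σ 6) (σ 6) = -8 * w) ∨
      (T.m (σ 0) = m ∧ T.m (σ 1) = m ∧ T.m (σ 2) = m ∧ T.m (σ 3) = m ∧ T.m (σ 4) = m ∧ T.m (σ 5) = m ∧ T.m (σ 6) = m ∧ T.w (σ 0) = w ∧ T.w (σ 1) = 2 * w ∧ T.w (σ 2) = 2 * w ∧ T.w (σ 3) = 2 * w ∧ T.w (σ 4) = 2 * w ∧ T.w (σ 5) = 2 * w ∧ T.w (σ 6) = w ∧ T.a (σ 0) (σ 0) = -2 * w ∧ T.a (σ 0) (σ 1) = 2 * w ∧ T.a (σ 0) (σ 2) = 0 ∧ T.a (σ 0) (σ 3) = 0 ∧ T.a (σ 0) (σ 4) = 0 ∧ T.a (σ 0) (σ 5) = 0 ∧ T.a (σ 0) (σ 6) = 0 ∧ T.a (σ 1) (σ 1) = -4 * w ∧ T.a (σ 1) (σ 2) = 2 * w ∧ T.a (σ 1) (σ 3) = 0 ∧ T.a (σ 1) (σ 4) = 0 ∧ T.a (σ 1) (σ 5) = 0 ∧ T.a (σ 1) (σ 6) = 0 ∧ T.a (σ 2) (σ 2) = -4 * w ∧ T.a (σ 2) (σ 3) = 2 * w ∧ T.a (σ 2) (σ 4) = 0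 ∧ T.a (σ 2) (σ 5) = 0 ∧ T.a (σ 2) (σ 6) = 0 ∧ T.a (σ 3) (σ 3) = -4 * w ∧ T.a (σ 3) (σ 4) = 2 * w ∧ T.a (σ 3) (σ 5) = 0 ∧ T.a (σ 3) (σ 6) = 0 ∧ T.a (σ 4) (σ 4) = -4 * w ∧ T.a (σ 4) (σ 5) = 2 * w ∧ T.a (σ 4) (σ 6) = 0 ∧ T.a (σ 5) (σ 5) = -4 * w ∧ T.a (σ 5) (σ 6) = 2 * w ∧ T.a (σ 6) (σ 6) = -2 * w) ∨
      (T.m (σ 0) = m ∧ T.m (σ 1) = 2 * m ∧ T.m (σ 2) = 2 * m ∧ T.m (σ 3) = 2 * m ∧ T.m (σ 4) = 2 * m ∧ T.m (σ 5) = 2 * m ∧ T.m (σ 6) = m ∧ T.w (σ 0) = 2 * w ∧ T.w (σ 1) = w ∧ T.w (σ 2) = w ∧ T.w (σ 3) = w ∧ T.w (σ 4) = w ∧ T.w (σ 5) = w ∧ T.w (σ 6) = 2 * w ∧ T.a (σ 0) (σ 0) = -4 * w ∧ T.a (σ 0) (σ 1) = 2 * w ∧ T.a (σ 0) (σ 2) = 0 ∧ T.a (σ 0) (σ 3) = 0 ∧ T.a (σ 0) (σ 4) = 0 ∧ T.a (σ 0) (σ 5) = 0 ∧ T.a (σ 0) (σ 6) = 0 ∧ T.a (σ 1) (σ 1) = -2 * w ∧ T.a (σ 1) (σ 2) = w ∧ T.a (σ 1) (σ 3) = 0 ∧ T.a (σ 1) (σ 4) = 0 ∧ T.a (σ 1) (σ 5) = 0 ∧ T.a (σ 1) (σ 6) = 0 ∧ T.a (σ 2) (σ 2) = -2 *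 w ∧ T.a (σ 2) (σ 3) = w ∧ T.a (σ 2) (σ 4) = 0 ∧ T.a (σ 2) (σ 5) = 0 ∧ T.a (σ 2) (σ 6) = 0 ∧ T.a (σ 3) (σ 3) = -2 * w ∧ T.a (σ 3) (σ 4) = w ∧ T.a (σ 3) (σ 5) = 0 ∧ T.a (σ 3) (σ 6) = 0 ∧ T.a (σ 4) (σ 4) = -2 * w ∧ T.a (σ 4) (σ 5) = w ∧ T.a (σ 4) (σ 6) = 0 ∧ T.a (σ 5) (σ 5) = -2 * w ∧ T.a (σ 5) (σ 6) = 2 * w ∧ T.a (σ 6) (σ 6) = -4 * w) ∨
      (T.m (σ 0) = m ∧ T.m (σ 1) = 2 * m ∧ T.m (σ 2) = 2 * m ∧ T.m (σ 3) = 2 * m ∧ T.m (σ 4) = 2 * m ∧ T.m (σ 5) = m ∧ T.m (σ 6) = m ∧ T.w (σ 0) = 2 * w ∧ T.w (σ 1) = w ∧ T.w (σ 2) = w ∧ T.w (σ 3) = w ∧ T.w (σ 4) = w ∧ T.w (σ 5) = w ∧ T.w (σ 6) = w ∧ T.a (σ 0) (σ 0) = -4 * w ∧ T.a (σ 0) (σ 1) = 2 * w ∧ T.a (σ 0) (σ 2) = 0 ∧ T.a (σ 0) (σ 3) = 0 ∧ T.a (σ 0) (σ 4) = 0 ∧ T.a (σ 0) (σ 5) = 0 ∧ T.a (σ 0) (σ 6) = 0 ∧ T.a (σ 1) (σ 1) = -2 * w ∧ T.a (σ 1) (σ 2) = w ∧ T.a (σ 1) (σ 3) = 0 ∧ T.a (σ 1) (σ 4) = 0 ∧ T.a (σ 1) (σ 5) = 0 ∧ T.a (σ 1) (σ 6)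 = 0 ∧ T.a (σ 2) (σ 2) = -2 * w ∧ T.a (σ 2) (σ 3) = w ∧ T.a (σ 2) (σ 4) = 0 ∧ T.a (σ 2) (σ 5) = 0 ∧ T.a (σ 2) (σ 6) = 0 ∧ T.a (σ 3) (σ 3) = -2 * w ∧ T.a (σ 3) (σ 4) = w ∧ T.a (σ 3) (σ 5) = 0 ∧ T.a (σ 3) (σ 6) = 0 ∧ T.a (σ 4) (σ 4) = -2 * w ∧ T.a (σ 4) (σ 5) = w ∧ T.a (σ 4) (σ 6) = w ∧ T.a (σ 5) (σ 5) = -2 * w ∧ T.a (σ 5) (σ 6) = 0 ∧ T.a (σ 6) (σ 6) = -2 * w) ∨
      (T.m (σ 0) = 2 * m ∧ T.m (σ 1) = 2 * m ∧ T.m (σ 2) = 2 * m ∧ T.m (σ 3) = 2 * m ∧ T.m (σ 4) = 2 * m ∧ T.m (σ 5) = m ∧ T.m (σ 6) = m ∧ T.w (σ 0) = w ∧ T.w (σ 1) = 2 * w ∧ T.w (σ 2) = 2 * w ∧ T.w (σ 3) = 2 * w ∧ T.w (σ 4) = 2 * w ∧ T.w (σ 5) = 2 * w ∧ T.w (σ 6) = 2 * w ∧ T.a (σ 0) (σ 0) = -2 * w ∧ T.a (σ 0) (σ 1) = 2 * w ∧ T.a (σ 0) (σ 2) = 0 ∧ T.a (σ 0) (σ 3) = 0 ∧ T.a (σ 0) (σ 4) = 0 ∧ T.a (σ 0) (σ 5) = 0 ∧ T.a (σ 0) (σ 6) = 0 ∧ T.a (σ 1) (σ 1) = -4 * w ∧ T.a (σ 1) (σ 2) = 2 * w ∧ T.a (σ 1) (σ 3) = 0 ∧ T.a (σ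 1) (σ 4) = 0 ∧ T.a (σ 1) (σ 5) = 0 ∧ T.a (σ 1) (σ 6) = 0 ∧ T.a (σ 2) (σ 2) = -4 * w ∧ T.a (σ 2) (σ 3) = 2 * w ∧ T.a (σ 2) (σ 4) = 0 ∧ T.a (σ 2) (σ 5) = 0 ∧ T.a (σ 2) (σ 6) = 0 ∧ T.a (σ 3) (σ 3) = -4 * w ∧ T.a (σ 3) (σ 4) = 2 * w ∧ T.a (σ 3) (σ 5) = 0 ∧ T.a (σ 3) (σ 6) = 0 ∧ T.a (σ 4) (σ 4) = -4 * w ∧ T.a (σ 4) (σ 5) = 2 * w ∧ T.a (σ 4) (σ 6) = 2 * w ∧ T.a (σ 5) (σ 5) = -4 * w ∧ T.a (σ 5) (σ 6) = 0 ∧ T.a (σ 6) (σ 6) = -4 * w) ∨
      (T.m (σ 0) = m ∧ T.m (σ 1) = m ∧ T.m (σ 2) = 2 * m ∧ T.m (σ 3) = 2 * m ∧ T.m (σ 4) = 2 * m ∧ T.m (σ 5) = m ∧ T.m (σ 6) = m ∧ T.w (σ 0) = w ∧ T.w (σ 1) = w ∧ T.w (σ 2) = w ∧ T.w (σ 3) = w ∧ T.w (σ 4) = w ∧ T.w (σ 5) = w ∧ T.w (σ 6) = w ∧ T.a (σ 0) (σ 0) = -2 * w ∧ T.a (σ 0) (σ 1) = 0 ∧ T.a (σ 0) (σ 2) = w ∧ T.a (σ 0) (σ 3) = 0 ∧ T.a (σ 0) (σ 4) = 0 ∧ T.a (σ 0) (σ 5) = 0 ∧ T.a (σ 0) (σ 6) = 0 ∧ T.a (σ 1) (σ 1) = -2 * w ∧ T.a (σ 1) (σ 2) = w ∧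 T.a (σ 1) (σ 3) = 0 ∧ T.a (σ 1) (σ 4) = 0 ∧ T.a (σ 1) (σ 5) = 0 ∧ T.a (σ 1) (σ 6) = 0 ∧ T.a (σ 2) (σ 2) = -2 * w ∧ T.a (σ 2) (σ 3) = w ∧ T.a (σ 2) (σ 4) = 0 ∧ T.a (σ 2) (σ 5) = 0 ∧ T.a (σ 2) (σ 6) = 0 ∧ T.a (σ 3) (σ 3) = -2 * w ∧ T.a (σ 3) (σ 4) = w ∧ T.a (σ 3) (σ 5) = 0 ∧ T.a (σ 3) (σ 6) = 0 ∧ T.a (σ 4) (σ 4) = -2 * w ∧ T.a (σ 4) (σ 5) = w ∧ T.a (σ 4) (σ 6) = w ∧ T.a (σ 5) (σ 5) = -2 * w ∧ T.a (σ 5) (σ 6) = 0 ∧ T.a (σ 6) (σ 6) = -2 * w) ∨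
      (T.m (σ 0) = m ∧ T.m (σ 1) = 2 * m ∧ T.m (σ 2) = 3 * m ∧ T.m (σ 3) = m ∧ T.m (σ 4) = 2 * m ∧ T.m (σ 5) = m ∧ T.m (σ 6) = 2 * m ∧ T.w (σ 0) = w ∧ T.w (σ 1) = w ∧ T.w (σ 2) = w ∧ T.w (σ 3) = w ∧ T.w (σ 4) = w ∧ T.w (σ 5) = w ∧ T.w (σ 6) = w ∧ T.a (σ 0) (σ 0) = -2 * w ∧ T.a (σ 0) (σ 1) = w ∧ T.a (σ 0) (σ 2) = 0 ∧ T.a (σ 0) (σ 3) = 0 ∧ T.a (σ 0) (σ 4) = 0 ∧ T.a (σ 0) (σ 5) = 0 ∧ T.a (σ 0) (σ 6) = 0 ∧ T.a (σ 1) (σ 1) = -2 * w ∧ T.a (σ 1) (σ 2) = w ∧ T.a (σ 1) (σ 3) = 0 ∧ T.a (σ 1) (σ 4) = 0 ∧ T.a (σ 1) (σ 5) = 0 ∧ T.a (σ 1) (σ 6) = 0 ∧ T.a (σ 2) (σ 2) = -2 * w ∧ T.a (σ 2) (σ 3) = 0 ∧ T.a (σ 2) (σ 4) = w ∧ T.a (σ 2) (σ 5) = 0 ∧ T.a (σ 2) (σ 6) = w ∧ T.a (σ 3) (σ 3) = -2 * w ∧ T.a (σ 3) (σ 4) = w ∧ T.a (σ 3) (σ 5) = 0 ∧ T.a (σ 3) (σ 6) = 0 ∧ T.a (σ 4) (σ 4) = -2 * w ∧ T.a (σ 4) (σ 5) = 0 ∧ T.a (σ 4) (σ 6) = 0 ∧ T.a (σ 5) (σ 5) = -2 * w ∧ T.a (σ 5) (σ 6) = w ∧ T.a (σ 6)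 (σ 6) = -2 * w)) := by
  have hn2 : (1:ℕ) < 7 := by omega
  have hv := Groth.L26.NumType.all_minusTwo T hmin hn2 hg
  refine ⟨fun i => (hv i).1, ?_⟩
  rcases Groth.L26.NumType.genus_one_classification T (by omega) hv with h | h | h | h | h | h | h | h | h | h | h | h
  · obtain ⟨u, m, w, hu, hmw, ha⟩ := h
    obtain ⟨M0, W0⟩ := hmw 0 (by omega)
    have D0 := (hv (u 0)).2
    have G0 := (hv (u 0)).1
    obtain ⟨M1, W1⟩ := hmw 1 (by omega)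
    have D1 := (hv (u 1)).2
    have G1 := (hv (u 1)).1
    obtain ⟨M2, W2⟩ := hmw 2 (by omega)
    have D2 := (hv (u 2)).2
    have G2 := (hv (u 2)).1
    obtain ⟨M3, W3⟩ := hmw 3 (by omega)
    have D3 := (hv (u 3)).2
    have G3 := (hv (u 3)).1
    obtain ⟨M4, W4⟩ := hmw 4 (by omega)
    have D4 := (hv (u 4)).2
    have G4 := (hv (u 4)).1
    obtain ⟨M5, W5⟩ := hmw 5 (by omega)
    have D5 := (hv (u 5)).2
    have G5 := (hv (u 5)).1
    obtain ⟨M6, W6⟩ := hmw 6 (by omega)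
    have D6 := (hv (u 6)).2
    have G6 := (hv (u 6)).1
    have A01 := ha 0 1 (by omega) (by omega)
    have B01 := Groth.L26.NumType.a_symm T (u 1) (u 0)
    have A02 := ha 0 2 (by omega) (by omega)
    have B02 := Groth.L26.NumType.a_symm T (u 2) (u 0)
    have A03 := ha 0 3 (by omega) (by omega)
    have B03 := Groth.L26.NumType.a_symm T (u 3) (u 0)
    have A04 := ha 0 4 (by omega) (by omega)
    have B04 := Groth.L26.NumType.a_symm T (u 4) (u 0)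
    have A05 := ha 0 5 (by omega) (by omega)
    have B05 := Groth.L26.NumType.a_symm T (u 5) (u 0)
    have A06 := ha 0 6 (by omega) (by omega)
    have B06 := Groth.L26.NumType.a_symm T (u 6) (u 0)
    have A12 := ha 1 2 (by omega) (by omega)
    have B12 := Groth.L26.NumType.a_symm T (u 2) (u 1)
    have A13 := ha 1 3 (by omega) (by omega)
    have B13 := Groth.L26.NumType.a_symm T (u 3) (u 1)
    have A14 := ha 1 4 (by omega) (by omega)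
    have B14 := Groth.L26.NumType.a_symm T (u 4) (u 1)
    have A15 := ha 1 5 (by omega) (by omega)
    have B15 := Groth.L26.NumType.a_symm T (u 5) (u 1)
    have A16 := ha 1 6 (by omega) (by omega)
    have B16 := Groth.L26.NumType.a_symm T (u 6) (u 1)
    have A23 := ha 2 3 (by omega) (by omega)
    have B23 := Groth.L26.NumType.a_symm T (u 3) (u 2)
    have A24 := ha 2 4 (by omega) (by omega)
    have B24 := Groth.L26.NumType.a_symm T (u 4) (u 2)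
    have A25 := ha 2 5 (by omega) (by omega)
    have B25 := Groth.L26.NumType.a_symm T (u 5) (u 2)
    have A26 := ha 2 6 (by omega) (by omega)
    have B26 := Groth.L26.NumType.a_symm T (u 6) (u 2)
    have A34 := ha 3 4 (by omega) (by omega)
    have B34 := Groth.L26.NumType.a_symm T (u 4) (u 3)
    have A35 := ha 3 5 (by omega) (by omega)
    have B35 := Groth.L26.NumType.a_symm T (u 5) (u 3)
    have A36 := ha 3 6 (by omega) (by omega)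
    have B36 := Groth.L26.NumType.a_symm T (u 6) (u 3)
    have A45 := ha 4 5 (by omega) (by omega)
    have B45 := Groth.L26.NumType.a_symm T (u 5) (u 4)
    have A46 := ha 4 6 (by omega) (by omega)
    have B46 := Groth.L26.NumType.a_symm T (u 6) (u 4)
    have A56 := ha 5 6 (by omega) (by omega)
    have B56 := Groth.L26.NumType.a_symm T (u 6) (u 5)
    norm_num [Groth.L26.NumType.cycA, Groth.L26.NumType.cycM] at M0 W0 M1 W1 M2 W2 M3 W3 M4 W4 M5 W5 M6 W6 A01 A02 A03 A04 A05 A06 A12 A13 A14 A15 A16 A23 A24 A25 A26 A34 A35 A36 A45 A46 A56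
    have hs : Function.Injective (fun i : Fin 7 => u ((![0, 1, 2, 3, 4, 5, 6] : Fin 7 → ℕ) i)) := fun a b e => by
      have h1 := hu (Set.mem_Iio.2 (by fin_cases a <;> simp)) (Set.mem_Iio.2 (by fin_cases b <;> simp)) e
      fin_cases a <;> fin_cases b <;> simp at h1 ⊢
    refine ⟨Equiv.ofBijective _ (Finite.injective_iff_bijective.1 hs), m, w, Or.inl ?_⟩
    simp only [Equiv.ofBijective_apply, Fin.isValue, Matrix.cons_val]
    and_intros <;> omega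
  · obtain ⟨u, m, w, hu, hmw, ha⟩ := h
    obtain ⟨M0, W0⟩ := hmw 0 (by omega)
    have D0 := (hv (u 0)).2
    have G0 := (hv (u 0)).1
    obtain ⟨M1, W1⟩ := hmw 1 (by omega)
    have D1 := (hv (u 1)).2
    have G1 := (hv (u 1)).1
    obtain ⟨M2, W2⟩ := hmw 2 (by omega)
    have D2 := (hv (u 2)).2
    have G2 := (hv (u 2)).1
    obtain ⟨M3, W3⟩ := hmw 3 (by omega)
    have D3 := (hv (u 3)).2
    have G3 := (hv (u 3)).1
    obtain ⟨M4, W4⟩ := hmw 4 (by omega)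
    have D4 := (hv (u 4)).2
    have G4 := (hv (u 4)).1
    obtain ⟨M5, W5⟩ := hmw 5 (by omega)
    have D5 := (hv (u 5)).2
    have G5 := (hv (u 5)).1
    obtain ⟨M6, W6⟩ := hmw 6 (by omega)
    have D6 := (hv (u 6)).2
    have G6 := (hv (u 6)).1
    have A01 := ha 0 1 (by omega) (by omega)
    have B01 := Groth.L26.NumType.a_symm T (u 1) (u 0)
    have A02 := ha 0 2 (by omega) (by omega)
    have B02 := Groth.L26.NumType.a_symm T (u 2) (u 0)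
    have A03 := ha 0 3 (by omega) (by omega)
    have B03 := Groth.L26.NumType.a_symm T (u 3) (u 0)
    have A04 := ha 0 4 (by omega) (by omega)
    have B04 := Groth.L26.NumType.a_symm T (u 4) (u 0)
    have A05 := ha 0 5 (by omega) (by omega)
    have B05 := Groth.L26.NumType.a_symm T (u 5) (u 0)
    have A06 := ha 0 6 (by omega) (by omega)
    have B06 := Groth.L26.NumType.a_symm T (u 6) (u 0)
    have A12 := ha 1 2 (by omega) (by omega)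
    have B12 := Groth.L26.NumType.a_symm T (u 2) (u 1)
    have A13 := ha 1 3 (by omega) (by omega)
    have B13 := Groth.L26.NumType.a_symm T (u 3) (u 1)
    have A14 := ha 1 4 (by omega) (by omega)
    have B14 := Groth.L26.NumType.a_symm T (u 4) (u 1)
    have A15 := ha 1 5 (by omega) (by omega)
    have B15 := Groth.L26.NumType.a_symm T (u 5) (u 1)
    have A16 := ha 1 6 (by omega) (by omega)
    have B16 := Groth.L26.NumType.a_symm T (u 6) (u 1)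
    have A23 := ha 2 3 (by omega) (by omega)
    have B23 := Groth.L26.NumType.a_symm T (u 3) (u 2)
    have A24 := ha 2 4 (by omega) (by omega)
    have B24 := Groth.L26.NumType.a_symm T (u 4) (u 2)
    have A25 := ha 2 5 (by omega) (by omega)
    have B25 := Groth.L26.NumType.a_symm T (u 5) (u 2)
    have A26 := ha 2 6 (by omega) (by omega)
    have B26 := Groth.L26.NumType.a_symm T (u 6) (u 2)
    have A34 := ha 3 4 (by omega) (by omega)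
    have B34 := Groth.L26.NumType.a_symm T (u 4) (u 3)
    have A35 := ha 3 5 (by omega) (by omega)
    have B35 := Groth.L26.NumType.a_symm T (u 5) (u 3)
    have A36 := ha 3 6 (by omega) (by omega)
    have B36 := Groth.L26.NumType.a_symm T (u 6) (u 3)
    have A45 := ha 4 5 (by omega) (by omega)
    have B45 := Groth.L26.NumType.a_symm T (u 5) (u 4)
    have A46 := ha 4 6 (by omega) (by omega)
    have B46 := Groth.L26.NumType.a_symm T (u 6) (u 4)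
    have A56 := ha 5 6 (by omega) (by omega)
    have B56 := Groth.L26.NumType.a_symm T (u 6) (u 5)
    norm_num [Groth.L26.NumType.upA, Groth.L26.NumType.upM, Groth.L26.NumType.upW] at M0 W0 M1 W1 M2 W2 M3 W3 M4 W4 M5 W5 M6 W6 A01 A02 A03 A04 A05 A06 A12 A13 A14 A15 A16 A23 A24 A25 A26 A34 A35 A36 A45 A46 A56
    have hs : Function.Injective (fun i : Fin 7 => u ((![0, 1, 2, 3, 4, 5, 6] : Fin 7 → ℕ) i)) := fun a b e => by
      have h1 := hu (Set.mem_Iio.2 (by fin_cases a <;> simp)) (Set.mem_Iio.2 (by fin_cases b <;> simp)) e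
      fin_cases a <;> fin_cases b <;> simp at h1 ⊢
    refine ⟨Equiv.ofBijective _ (Finite.injective_iff_bijective.1 hs), m, w, Or.inr (Or.inl ?_)⟩
    simp only [Equiv.ofBijective_apply, Fin.isValue, Matrix.cons_val]
    and_intros <;> omega
  · obtain ⟨u, m, w, hu, hmw, ha⟩ := h
    obtain ⟨M0, W0⟩ := hmw 0 (by omega)
    have D0 := (hv (u 0)).2
    have G0 := (hv (u 0)).1
    obtain ⟨M1, W1⟩ := hmw 1 (by omega)
    have D1 := (hv (u 1)).2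
    have G1 := (hv (u 1)).1
    obtain ⟨M2, W2⟩ := hmw 2 (by omega)
    have D2 := (hv (u 2)).2
    have G2 := (hv (u 2)).1
    obtain ⟨M3, W3⟩ := hmw 3 (by omega)
    have D3 := (hv (u 3)).2
    have G3 := (hv (u 3)).1
    obtain ⟨M4, W4⟩ := hmw 4 (by omega)
    have D4 := (hv (u 4)).2
    have G4 := (hv (u 4)).1
    obtain ⟨M5, W5⟩ := hmw 5 (by omega)
    have D5 := (hv (u 5)).2
    have G5 := (hv (u 5)).1
    obtain ⟨M6, W6⟩ := hmw 6 (by omega)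
    have D6 := (hv (u 6)).2
    have G6 := (hv (u 6)).1
    have A01 := ha 0 1 (by omega) (by omega)
    have B01 := Groth.L26.NumType.a_symm T (u 1) (u 0)
    have A02 := ha 0 2 (by omega) (by omega)
    have B02 := Groth.L26.NumType.a_symm T (u 2) (u 0)
    have A03 := ha 0 3 (by omega) (by omega)
    have B03 := Groth.L26.NumType.a_symm T (u 3) (u 0)
    have A04 := ha 0 4 (by omega) (by omega)
    have B04 := Groth.L26.NumType.a_symm T (u 4) (u 0)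
    have A05 := ha 0 5 (by omega) (by omega)
    have B05 := Groth.L26.NumType.a_symm T (u 5) (u 0)
    have A06 := ha 0 6 (by omega) (by omega)
    have B06 := Groth.L26.NumType.a_symm T (u 6) (u 0)
    have A12 := ha 1 2 (by omega) (by omega)
    have B12 := Groth.L26.NumType.a_symm T (u 2) (u 1)
    have A13 := ha 1 3 (by omega) (by omega)
    have B13 := Groth.L26.NumType.a_symm T (u 3) (u 1)
    have A14 := ha 1 4 (by omega) (by omega)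
    have B14 := Groth.L26.NumType.a_symm T (u 4) (u 1)
    have A15 := ha 1 5 (by omega) (by omega)
    have B15 := Groth.L26.NumType.a_symm T (u 5) (u 1)
    have A16 := ha 1 6 (by omega) (by omega)
    have B16 := Groth.L26.NumType.a_symm T (u 6) (u 1)
    have A23 := ha 2 3 (by omega) (by omega)
    have B23 := Groth.L26.NumType.a_symm T (u 3) (u 2)
    have A24 := ha 2 4 (by omega) (by omega)
    have B24 := Groth.L26.NumType.a_symm T (u 4) (u 2)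
    have A25 := ha 2 5 (by omega) (by omega)
    have B25 := Groth.L26.NumType.a_symm T (u 5) (u 2)
    have A26 := ha 2 6 (by omega) (by omega)
    have B26 := Groth.L26.NumType.a_symm T (u 6) (u 2)
    have A34 := ha 3 4 (by omega) (by omega)
    have B34 := Groth.L26.NumType.a_symm T (u 4) (u 3)
    have A35 := ha 3 5 (by omega) (by omega)
    have B35 := Groth.L26.NumType.a_symm T (u 5) (u 3)
    have A36 := ha 3 6 (by omega) (by omega)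
    have B36 := Groth.L26.NumType.a_symm T (u 6) (u 3)
    have A45 := ha 4 5 (by omega) (by omega)
    have B45 := Groth.L26.NumType.a_symm T (u 5) (u 4)
    have A46 := ha 4 6 (by omega) (by omega)
    have B46 := Groth.L26.NumType.a_symm T (u 6) (u 4)
    have A56 := ha 5 6 (by omega) (by omega)
    have B56 := Groth.L26.NumType.a_symm T (u 6) (u 5)
    norm_num [Groth.L26.NumType.midA, Groth.L26.NumType.midM, Groth.L26.NumType.midW] at M0 W0 M1 W1 M2 W2 M3 W3 M4 W4 M5 W5 M6 W6 A01 A02 A03 A04 A05 A06 A12 A13 A14 A15 A16 A23 A24 A25 A26 A34 A35 A36 A45 A46 A56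
    have hs : Function.Injective (fun i : Fin 7 => u ((![0, 1, 2, 3, 4, 5, 6] : Fin 7 → ℕ) i)) := fun a b e => by
      have h1 := hu (Set.mem_Iio.2 (by fin_cases a <;> simp)) (Set.mem_Iio.2 (by fin_cases b <;> simp)) e
      fin_cases a <;> fin_cases b <;> simp at h1 ⊢
    refine ⟨Equiv.ofBijective _ (Finite.injective_iff_bijective.1 hs), m, w, Or.inr (Or.inr (Or.inl ?_))⟩
    simp only [Equiv.ofBijective_apply, Fin.isValue, Matrix.cons_val]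
    and_intros <;> omega
  · obtain ⟨u, m, w, hu, hmw, ha⟩ := h
    obtain ⟨M0, W0⟩ := hmw 0 (by omega)
    have D0 := (hv (u 0)).2
    have G0 := (hv (u 0)).1
    obtain ⟨M1, W1⟩ := hmw 1 (by omega)
    have D1 := (hv (u 1)).2
    have G1 := (hv (u 1)).1
    obtain ⟨M2, W2⟩ := hmw 2 (by omega)
    have D2 := (hv (u 2)).2
    have G2 := (hv (u 2)).1
    obtain ⟨M3, W3⟩ := hmw 3 (by omega)
    have D3 := (hv (u 3)).2
    have G3 := (hv (u 3)).1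
    obtain ⟨M4, W4⟩ := hmw 4 (by omega)
    have D4 := (hv (u 4)).2
    have G4 := (hv (u 4)).1
    obtain ⟨M5, W5⟩ := hmw 5 (by omega)
    have D5 := (hv (u 5)).2
    have G5 := (hv (u 5)).1
    obtain ⟨M6, W6⟩ := hmw 6 (by omega)
    have D6 := (hv (u 6)).2
    have G6 := (hv (u 6)).1
    have A01 := ha 0 1 (by omega) (by omega)
    have B01 := Groth.L26.NumType.a_symm T (u 1) (u 0)
    have A02 := ha 0 2 (by omega) (by omega)
    have B02 := Groth.L26.NumType.a_symm T (u 2) (u 0)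
    have A03 := ha 0 3 (by omega) (by omega)
    have B03 := Groth.L26.NumType.a_symm T (u 3) (u 0)
    have A04 := ha 0 4 (by omega) (by omega)
    have B04 := Groth.L26.NumType.a_symm T (u 4) (u 0)
    have A05 := ha 0 5 (by omega) (by omega)
    have B05 := Groth.L26.NumType.a_symm T (u 5) (u 0)
    have A06 := ha 0 6 (by omega) (by omega)
    have B06 := Groth.L26.NumType.a_symm T (u 6) (u 0)
    have A12 := ha 1 2 (by omega) (by omega)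
    have B12 := Groth.L26.NumType.a_symm T (u 2) (u 1)
    have A13 := ha 1 3 (by omega) (by omega)
    have B13 := Groth.L26.NumType.a_symm T (u 3) (u 1)
    have A14 := ha 1 4 (by omega) (by omega)
    have B14 := Groth.L26.NumType.a_symm T (u 4) (u 1)
    have A15 := ha 1 5 (by omega) (by omega)
    have B15 := Groth.L26.NumType.a_symm T (u 5) (u 1)
    have A16 := ha 1 6 (by omega) (by omega)
    have B16 := Groth.L26.NumType.a_symm T (u 6) (u 1)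
    have A23 := ha 2 3 (by omega) (by omega)
    have B23 := Groth.L26.NumType.a_symm T (u 3) (u 2)
    have A24 := ha 2 4 (by omega) (by omega)
    have B24 := Groth.L26.NumType.a_symm T (u 4) (u 2)
    have A25 := ha 2 5 (by omega) (by omega)
    have B25 := Groth.L26.NumType.a_symm T (u 5) (u 2)
    have A26 := ha 2 6 (by omega) (by omega)
    have B26 := Groth.L26.NumType.a_symm T (u 6) (u 2)
    have A34 := ha 3 4 (by omega) (by omega)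
    have B34 := Groth.L26.NumType.a_symm T (u 4) (u 3)
    have A35 := ha 3 5 (by omega) (by omega)
    have B35 := Groth.L26.NumType.a_symm T (u 5) (u 3)
    have A36 := ha 3 6 (by omega) (by omega)
    have B36 := Groth.L26.NumType.a_symm T (u 6) (u 3)
    have A45 := ha 4 5 (by omega) (by omega)
    have B45 := Groth.L26.NumType.a_symm T (u 5) (u 4)
    have A46 := ha 4 6 (by omega) (by omega)
    have B46 := Groth.L26.NumType.a_symm T (u 6) (u 4)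
    have A56 := ha 5 6 (by omega) (by omega)
    have B56 := Groth.L26.NumType.a_symm T (u 6) (u 5)
    norm_num [Groth.L26.NumType.dnA, Groth.L26.NumType.dnM, Groth.L26.NumType.dnW] at M0 W0 M1 W1 M2 W2 M3 W3 M4 W4 M5 W5 M6 W6 A01 A02 A03 A04 A05 A06 A12 A13 A14 A15 A16 A23 A24 A25 A26 A34 A35 A36 A45 A46 A56
    have hs : Function.Injective (fun i : Fin 7 => u ((![0, 1, 2, 3, 4, 5, 6] : Fin 7 → ℕ) i)) := fun a b e => by
      have h1 := hu (Set.mem_Iio.2 (by fin_cases a <;> simp)) (Set.mem_Iio.2 (by fin_cases b <;> simp)) e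
      fin_cases a <;> fin_cases b <;> simp at h1 ⊢
    refine ⟨Equiv.ofBijective _ (Finite.injective_iff_bijective.1 hs), m, w, Or.inr (Or.inr (Or.inr (Or.inl ?_)))⟩
    simp only [Equiv.ofBijective_apply, Fin.isValue, Matrix.cons_val]
    and_intros <;> omega
  · obtain ⟨-, u, m, w, hu, hmw, ha⟩ := h
    obtain ⟨M0, W0⟩ := hmw 0 (by omega)
    have D0 := (hv (u 0)).2
    have G0 := (hv (u 0)).1
    obtain ⟨M1, W1⟩ := hmw 1 (by omega)
    have D1 := (hv (u 1)).2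
    have G1 := (hv (u 1)).1
    obtain ⟨M2, W2⟩ := hmw 2 (by omega)
    have D2 := (hv (u 2)).2
    have G2 := (hv (u 2)).1
    obtain ⟨M3, W3⟩ := hmw 3 (by omega)
    have D3 := (hv (u 3)).2
    have G3 := (hv (u 3)).1
    obtain ⟨M4, W4⟩ := hmw 4 (by omega)
    have D4 := (hv (u 4)).2
    have G4 := (hv (u 4)).1
    obtain ⟨M5, W5⟩ := hmw 5 (by omega)
    have D5 := (hv (u 5)).2
    have G5 := (hv (u 5)).1
    obtain ⟨M6, W6⟩ := hmw 6 (by omega)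
    have D6 := (hv (u 6)).2
    have G6 := (hv (u 6)).1
    have A01 := ha 0 1 (by omega) (by omega)
    have B01 := Groth.L26.NumType.a_symm T (u 1) (u 0)
    have A02 := ha 0 2 (by omega) (by omega)
    have B02 := Groth.L26.NumType.a_symm T (u 2) (u 0)
    have A03 := ha 0 3 (by omega) (by omega)
    have B03 := Groth.L26.NumType.a_symm T (u 3) (u 0)
    have A04 := ha 0 4 (by omega) (by omega)
    have B04 := Groth.L26.NumType.a_symm T (u 4) (u 0)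
    have A05 := ha 0 5 (by omega) (by omega)
    have B05 := Groth.L26.NumType.a_symm T (u 5) (u 0)
    have A06 := ha 0 6 (by omega) (by omega)
    have B06 := Groth.L26.NumType.a_symm T (u 6) (u 0)
    have A12 := ha 1 2 (by omega) (by omega)
    have B12 := Groth.L26.NumType.a_symm T (u 2) (u 1)
    have A13 := ha 1 3 (by omega) (by omega)
    have B13 := Groth.L26.NumType.a_symm T (u 3) (u 1)
    have A14 := ha 1 4 (by omega) (by omega)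
    have B14 := Groth.L26.NumType.a_symm T (u 4) (u 1)
    have A15 := ha 1 5 (by omega) (by omega)
    have B15 := Groth.L26.NumType.a_symm T (u 5) (u 1)
    have A16 := ha 1 6 (by omega) (by omega)
    have B16 := Groth.L26.NumType.a_symm T (u 6) (u 1)
    have A23 := ha 2 3 (by omega) (by omega)
    have B23 := Groth.L26.NumType.a_symm T (u 3) (u 2)
    have A24 := ha 2 4 (by omega) (by omega)
    have B24 := Groth.L26.NumType.a_symm T (u 4) (u 2)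
    have A25 := ha 2 5 (by omega) (by omega)
    have B25 := Groth.L26.NumType.a_symm T (u 5) (u 2)
    have A26 := ha 2 6 (by omega) (by omega)
    have B26 := Groth.L26.NumType.a_symm T (u 6) (u 2)
    have A34 := ha 3 4 (by omega) (by omega)
    have B34 := Groth.L26.NumType.a_symm T (u 4) (u 3)
    have A35 := ha 3 5 (by omega) (by omega)
    have B35 := Groth.L26.NumType.a_symm T (u 5) (u 3)
    have A36 := ha 3 6 (by omega) (by omega)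
    have B36 := Groth.L26.NumType.a_symm T (u 6) (u 3)
    have A45 := ha 4 5 (by omega) (by omega)
    have B45 := Groth.L26.NumType.a_symm T (u 5) (u 4)
    have A46 := ha 4 6 (by omega) (by omega)
    have B46 := Groth.L26.NumType.a_symm T (u 6) (u 4)
    have A56 := ha 5 6 (by omega) (by omega)
    have B56 := Groth.L26.NumType.a_symm T (u 6) (u 5)
    norm_num [Groth.L26.NumType.duA, Groth.L26.NumType.duM, Groth.L26.NumType.duW] at M0 W0 M1 W1 M2 W2 M3 W3 M4 W4 M5 W5 M6 W6 A01 A02 A03 A04 A05 A06 A12 A13 A14 A15 A16 A23 A24 A25 A26 A34 A35 A36 A45 A46 A56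
    have hs : Function.Injective (fun i : Fin 7 => u ((![0, 1, 2, 3, 4, 5, 6] : Fin 7 → ℕ) i)) := fun a b e => by
      have h1 := hu (Set.mem_Iio.2 (by fin_cases a <;> simp)) (Set.mem_Iio.2 (by fin_cases b <;> simp)) e
      fin_cases a <;> fin_cases b <;> simp at h1 ⊢
    refine ⟨Equiv.ofBijective _ (Finite.injective_iff_bijective.1 hs), m, w, Or.inr (Or.inr (Or.inr (Or.inr (Or.inl ?_))))⟩
    simp only [Equiv.ofBijective_apply, Fin.isValue, Matrix.cons_val]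
    and_intros <;> omega
  · obtain ⟨-, u, m, w, hu, hmw, ha⟩ := h
    obtain ⟨M0, W0⟩ := hmw 0 (by omega)
    have D0 := (hv (u 0)).2
    have G0 := (hv (u 0)).1
    obtain ⟨M1, W1⟩ := hmw 1 (by omega)
    have D1 := (hv (u 1)).2
    have G1 := (hv (u 1)).1
    obtain ⟨M2, W2⟩ := hmw 2 (by omega)
    have D2 := (hv (u 2)).2
    have G2 := (hv (u 2)).1
    obtain ⟨M3, W3⟩ := hmw 3 (by omega)
    have D3 := (hv (u 3)).2
    have G3 := (hv (u 3)).1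
    obtain ⟨M4, W4⟩ := hmw 4 (by omega)
    have D4 := (hv (u 4)).2
    have G4 := (hv (u 4)).1
    obtain ⟨M5, W5⟩ := hmw 5 (by omega)
    have D5 := (hv (u 5)).2
    have G5 := (hv (u 5)).1
    obtain ⟨M6, W6⟩ := hmw 6 (by omega)
    have D6 := (hv (u 6)).2
    have G6 := (hv (u 6)).1
    have A01 := ha 0 1 (by omega) (by omega)
    have B01 := Groth.L26.NumType.a_symm T (u 1) (u 0)
    have A02 := ha 0 2 (by omega) (by omega)
    have B02 := Groth.L26.NumType.a_symm T (u 2) (u 0)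
    have A03 := ha 0 3 (by omega) (by omega)
    have B03 := Groth.L26.NumType.a_symm T (u 3) (u 0)
    have A04 := ha 0 4 (by omega) (by omega)
    have B04 := Groth.L26.NumType.a_symm T (u 4) (u 0)
    have A05 := ha 0 5 (by omega) (by omega)
    have B05 := Groth.L26.NumType.a_symm T (u 5) (u 0)
    have A06 := ha 0 6 (by omega) (by omega)
    have B06 := Groth.L26.NumType.a_symm T (u 6) (u 0)
    have A12 := ha 1 2 (by omega) (by omega)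
    have B12 := Groth.L26.NumType.a_symm T (u 2) (u 1)
    have A13 := ha 1 3 (by omega) (by omega)
    have B13 := Groth.L26.NumType.a_symm T (u 3) (u 1)
    have A14 := ha 1 4 (by omega) (by omega)
    have B14 := Groth.L26.NumType.a_symm T (u 4) (u 1)
    have A15 := ha 1 5 (by omega) (by omega)
    have B15 := Groth.L26.NumType.a_symm T (u 5) (u 1)
    have A16 := ha 1 6 (by omega) (by omega)
    have B16 := Groth.L26.NumType.a_symm T (u 6) (u 1)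
    have A23 := ha 2 3 (by omega) (by omega)
    have B23 := Groth.L26.NumType.a_symm T (u 3) (u 2)
    have A24 := ha 2 4 (by omega) (by omega)
    have B24 := Groth.L26.NumType.a_symm T (u 4) (u 2)
    have A25 := ha 2 5 (by omega) (by omega)
    have B25 := Groth.L26.NumType.a_symm T (u 5) (u 2)
    have A26 := ha 2 6 (by omega) (by omega)
    have B26 := Groth.L26.NumType.a_symm T (u 6) (u 2)
    have A34 := ha 3 4 (by omega) (by omega)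
    have B34 := Groth.L26.NumType.a_symm T (u 4) (u 3)
    have A35 := ha 3 5 (by omega) (by omega)
    have B35 := Groth.L26.NumType.a_symm T (u 5) (u 3)
    have A36 := ha 3 6 (by omega) (by omega)
    have B36 := Groth.L26.NumType.a_symm T (u 6) (u 3)
    have A45 := ha 4 5 (by omega) (by omega)
    have B45 := Groth.L26.NumType.a_symm T (u 5) (u 4)
    have A46 := ha 4 6 (by omega) (by omega)
    have B46 := Groth.L26.NumType.a_symm T (u 6) (u 4)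
    have A56 := ha 5 6 (by omega) (by omega)
    have B56 := Groth.L26.NumType.a_symm T (u 6) (u 5)
    norm_num [Groth.L26.NumType.ddnA, Groth.L26.NumType.ddnM, Groth.L26.NumType.ddnW] at M0 W0 M1 W1 M2 W2 M3 W3 M4 W4 M5 W5 M6 W6 A01 A02 A03 A04 A05 A06 A12 A13 A14 A15 A16 A23 A24 A25 A26 A34 A35 A36 A45 A46 A56
    have hs : Function.Injective (fun i : Fin 7 => u ((![0, 1, 2, 3, 4, 5, 6] : Fin 7 → ℕ) i)) := fun a b e => by
      have h1 := hu (Set.mem_Iio.2 (by fin_cases a <;> simp)) (Set.mem_Iio.2 (by fin_cases b <;> simp)) e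
      fin_cases a <;> fin_cases b <;> simp at h1 ⊢
    refine ⟨Equiv.ofBijective _ (Finite.injective_iff_bijective.1 hs), m, w, Or.inr (Or.inr (Or.inr (Or.inr (Or.inr (Or.inl ?_)))))⟩
    simp only [Equiv.ofBijective_apply, Fin.isValue, Matrix.cons_val]
    and_intros <;> omega
  · obtain ⟨-, u, m, w, hu, hmw, ha⟩ := h
    obtain ⟨M0, W0⟩ := hmw 0 (by omega)
    have D0 := (hv (u 0)).2
    have G0 := (hv (u 0)).1
    obtain ⟨M1, W1⟩ := hmw 1 (by omega)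
    have D1 := (hv (u 1)).2
    have G1 := (hv (u 1)).1
    obtain ⟨M2, W2⟩ := hmw 2 (by omega)
    have D2 := (hv (u 2)).2
    have G2 := (hv (u 2)).1
    obtain ⟨M3, W3⟩ := hmw 3 (by omega)
    have D3 := (hv (u 3)).2
    have G3 := (hv (u 3)).1
    obtain ⟨M4, W4⟩ := hmw 4 (by omega)
    have D4 := (hv (u 4)).2
    have G4 := (hv (u 4)).1
    obtain ⟨M5, W5⟩ := hmw 5 (by omega)
    have D5 := (hv (u 5)).2
    have G5 := (hv (u 5)).1
    obtain ⟨M6, W6⟩ := hmw 6 (by omega)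
    have D6 := (hv (u 6)).2
    have G6 := (hv (u 6)).1
    have A01 := ha 0 1 (by omega) (by omega)
    have B01 := Groth.L26.NumType.a_symm T (u 1) (u 0)
    have A02 := ha 0 2 (by omega) (by omega)
    have B02 := Groth.L26.NumType.a_symm T (u 2) (u 0)
    have A03 := ha 0 3 (by omega) (by omega)
    have B03 := Groth.L26.NumType.a_symm T (u 3) (u 0)
    have A04 := ha 0 4 (by omega) (by omega)
    have B04 := Groth.L26.NumType.a_symm T (u 4) (u 0)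
    have A05 := ha 0 5 (by omega) (by omega)
    have B05 := Groth.L26.NumType.a_symm T (u 5) (u 0)
    have A06 := ha 0 6 (by omega) (by omega)
    have B06 := Groth.L26.NumType.a_symm T (u 6) (u 0)
    have A12 := ha 1 2 (by omega) (by omega)
    have B12 := Groth.L26.NumType.a_symm T (u 2) (u 1)
    have A13 := ha 1 3 (by omega) (by omega)
    have B13 := Groth.L26.NumType.a_symm T (u 3) (u 1)
    have A14 := ha 1 4 (by omega) (by omega)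
    have B14 := Groth.L26.NumType.a_symm T (u 4) (u 1)
    have A15 := ha 1 5 (by omega) (by omega)
    have B15 := Groth.L26.NumType.a_symm T (u 5) (u 1)
    have A16 := ha 1 6 (by omega) (by omega)
    have B16 := Groth.L26.NumType.a_symm T (u 6) (u 1)
    have A23 := ha 2 3 (by omega) (by omega)
    have B23 := Groth.L26.NumType.a_symm T (u 3) (u 2)
    have A24 := ha 2 4 (by omega) (by omega)
    have B24 := Groth.L26.NumType.a_symm T (u 4) (u 2)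
    have A25 := ha 2 5 (by omega) (by omega)
    have B25 := Groth.L26.NumType.a_symm T (u 5) (u 2)
    have A26 := ha 2 6 (by omega) (by omega)
    have B26 := Groth.L26.NumType.a_symm T (u 6) (u 2)
    have A34 := ha 3 4 (by omega) (by omega)
    have B34 := Groth.L26.NumType.a_symm T (u 4) (u 3)
    have A35 := ha 3 5 (by omega) (by omega)
    have B35 := Groth.L26.NumType.a_symm T (u 5) (u 3)
    have A36 := ha 3 6 (by omega) (by omega)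
    have B36 := Groth.L26.NumType.a_symm T (u 6) (u 3)
    have A45 := ha 4 5 (by omega) (by omega)
    have B45 := Groth.L26.NumType.a_symm T (u 5) (u 4)
    have A46 := ha 4 6 (by omega) (by omega)
    have B46 := Groth.L26.NumType.a_symm T (u 6) (u 4)
    have A56 := ha 5 6 (by omega) (by omega)
    have B56 := Groth.L26.NumType.a_symm T (u 6) (u 5)
    norm_num [Groth.L26.NumType.cycM, Groth.L26.NumType.ffA, Groth.L26.NumType.ffM] at M0 W0 M1 W1 M2 W2 M3 W3 M4 W4 M5 W5 M6 W6 A01 A02 A03 A04 A05 A06 A12 A13 A14 A15 A16 A23 A24 A25 A26 A34 A35 A36 A45 A46 A56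
    have hs : Function.Injective (fun i : Fin 7 => u ((![0, 1, 2, 3, 4, 5, 6] : Fin 7 → ℕ) i)) := fun a b e => by
      have h1 := hu (Set.mem_Iio.2 (by fin_cases a <;> simp)) (Set.mem_Iio.2 (by fin_cases b <;> simp)) e
      fin_cases a <;> fin_cases b <;> simp at h1 ⊢
    refine ⟨Equiv.ofBijective _ (Finite.injective_iff_bijective.1 hs), m, w, Or.inr (Or.inr (Or.inr (Or.inr (Or.inr (Or.inr (Or.inl ?_))))))⟩
    simp only [Equiv.ofBijective_apply, Fin.isValue, Matrix.cons_val]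
    and_intros <;> omega
  · exact absurd h.1 (by omega)
  · exact absurd h.1 (by omega)
  · obtain ⟨-, u, m, w, hu, hmw, ha⟩ := h
    obtain ⟨M0, W0⟩ := hmw 0 (by omega)
    have D0 := (hv (u 0)).2
    have G0 := (hv (u 0)).1
    obtain ⟨M1, W1⟩ := hmw 1 (by omega)
    have D1 := (hv (u 1)).2
    have G1 := (hv (u 1)).1
    obtain ⟨M2, W2⟩ := hmw 2 (by omega)
    have D2 := (hv (u 2)).2
    have G2 := (hv (u 2)).1
    obtain ⟨M3, W3⟩ := hmw 3 (by omega)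
    have D3 := (hv (u 3)).2
    have G3 := (hv (u 3)).1
    obtain ⟨M4, W4⟩ := hmw 4 (by omega)
    have D4 := (hv (u 4)).2
    have G4 := (hv (u 4)).1
    obtain ⟨M5, W5⟩ := hmw 5 (by omega)
    have D5 := (hv (u 5)).2
    have G5 := (hv (u 5)).1
    obtain ⟨M6, W6⟩ := hmw 6 (by omega)
    have D6 := (hv (u 6)).2
    have G6 := (hv (u 6)).1
    have A01 := ha 0 1 (by omega) (by omega)
    have B01 := Groth.L26.NumType.a_symm T (u 1) (u 0)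
    have A02 := ha 0 2 (by omega) (by omega)
    have B02 := Groth.L26.NumType.a_symm T (u 2) (u 0)
    have A03 := ha 0 3 (by omega) (by omega)
    have B03 := Groth.L26.NumType.a_symm T (u 3) (u 0)
    have A04 := ha 0 4 (by omega) (by omega)
    have B04 := Groth.L26.NumType.a_symm T (u 4) (u 0)
    have A05 := ha 0 5 (by omega) (by omega)
    have B05 := Groth.L26.NumType.a_symm T (u 5) (u 0)
    have A06 := ha 0 6 (by omega) (by omega)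
    have B06 := Groth.L26.NumType.a_symm T (u 6) (u 0)
    have A12 := ha 1 2 (by omega) (by omega)
    have B12 := Groth.L26.NumType.a_symm T (u 2) (u 1)
    have A13 := ha 1 3 (by omega) (by omega)
    have B13 := Groth.L26.NumType.a_symm T (u 3) (u 1)
    have A14 := ha 1 4 (by omega) (by omega)
    have B14 := Groth.L26.NumType.a_symm T (u 4) (u 1)
    have A15 := ha 1 5 (by omega) (by omega)
    have B15 := Groth.L26.NumType.a_symm T (u 5) (u 1)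
    have A16 := ha 1 6 (by omega) (by omega)
    have B16 := Groth.L26.NumType.a_symm T (u 6) (u 1)
    have A23 := ha 2 3 (by omega) (by omega)
    have B23 := Groth.L26.NumType.a_symm T (u 3) (u 2)
    have A24 := ha 2 4 (by omega) (by omega)
    have B24 := Groth.L26.NumType.a_symm T (u 4) (u 2)
    have A25 := ha 2 5 (by omega) (by omega)
    have B25 := Groth.L26.NumType.a_symm T (u 5) (u 2)
    have A26 := ha 2 6 (by omega) (by omega)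
    have B26 := Groth.L26.NumType.a_symm T (u 6) (u 2)
    have A34 := ha 3 4 (by omega) (by omega)
    have B34 := Groth.L26.NumType.a_symm T (u 4) (u 3)
    have A35 := ha 3 5 (by omega) (by omega)
    have B35 := Groth.L26.NumType.a_symm T (u 5) (u 3)
    have A36 := ha 3 6 (by omega) (by omega)
    have B36 := Groth.L26.NumType.a_symm T (u 6) (u 3)
    have A45 := ha 4 5 (by omega) (by omega)
    have B45 := Groth.L26.NumType.a_symm T (u 5) (u 4)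
    have A46 := ha 4 6 (by omega) (by omega)
    have B46 := Groth.L26.NumType.a_symm T (u 6) (u 4)
    have A56 := ha 5 6 (by omega) (by omega)
    have B56 := Groth.L26.NumType.a_symm T (u 6) (u 5)
    norm_num [Groth.L26.NumType.E6A, Groth.L26.NumType.E6M, Groth.L26.NumType.cycM] at M0 W0 M1 W1 M2 W2 M3 W3 M4 W4 M5 W5 M6 W6 A01 A02 A03 A04 A05 A06 A12 A13 A14 A15 A16 A23 A24 A25 A26 A34 A35 A36 A45 A46 A56
    have hs : Function.Injective (fun i : Fin 7 => u ((![0, 1, 2, 3, 4, 5, 6] : Fin 7 → ℕ) i)) := fun a b e => by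
      have h1 := hu (Set.mem_Iio.2 (by fin_cases a <;> simp)) (Set.mem_Iio.2 (by fin_cases b <;> simp)) e
      fin_cases a <;> fin_cases b <;> simp at h1 ⊢
    refine ⟨Equiv.ofBijective _ (Finite.injective_iff_bijective.1 hs), m, w, Or.inr (Or.inr (Or.inr (Or.inr (Or.inr (Or.inr (Or.inr (?_)))))))⟩
    simp only [Equiv.ofBijective_apply, Fin.isValue, Matrix.cons_val]
    and_intros <;> omega
  · exact absurd h.1 (by omega)
  · exact absurd h.1 (by omega)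

end Groth.Agent.S7368
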