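import Groth.Statements.S7370
import Groth.Agent.L26.NumType.GenusOneMain
import Mathlib.Tactic.FinCases
import Mathlib.Logic.Equiv.Defs
import Mathlib.Data.Fintype.EquivFin

set_option autoImplicit false
open Finset
open Models Models.NumericalType

namespace Groth.Agent.S7370

/-- Genus one classification: case n = 9: let T be a minimal numerical type of genus 1 on 9 indices.
Then all g_i = 0 and, for some permutation σ of the indices and some integers m, w, the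
multiplicities, weights and intersection matrix (m_{σ(i)}, w_{σ(i)}, a_{σ(i)σ(j)}) are those of one
of the following 8 types: [cycle] m = (m, m, m, m, m, m, m, m, m), w = (w, w, w, w, w, w, w, w, w),
a = (-2 * w w 0 0 0 0 0 0 w / w -2 * w w 0 0 0 0 0 0 / 0 w -2 * w w 0 0 0 0 0 / 0 0 w -2 * w w 0 0 0
0 / 0 0 0 w -2 * w w 0 0 0 / 0 0 0 0 w -2 * w w 0 0 / 0 0 0 0 0 w -2 * w w 0 / 0 0 0 0 0 0 w -2 * w
w / w 0 0 0 0 0 0 w -2 * w); [up chain equal up] m = (2 * m, 2 * m, 2 * m, 2 * m, 2 * m, 2 * m, 2 *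
m, 2 * m, m), w = (w, 2 * w, 2 * w, 2 * w, 2 * w, 2 * w, 2 * w, 2 * w, 4 * w), a = (-2 * w 2 * w 0 0
0 0 0 0 0 / 2 * w -4 * w 2 * w 0 0 0 0 0 0 / 0 2 * w -4 * w 2 * w 0 0 0 0 0 / 0 0 2 * w -4 * w 2 * w
0 0 0 0 / 0 0 0 2 * w -4 * w 2 * w 0 0 0 / 0 0 0 0 2 * w -4 * w 2 * w 0 0 / 0 0 0 0 0 2 * w -4 * w 2
* w 0 / 0 0 0 0 0 0 2 * w -4 * w 4 * w / 0 0 0 0 0 0 0 4 * w -8 * w); [up chain equal down] m = (m,
m, m, m, m, m, m, m, m), w = (w, 2 * w, 2 * w, 2 * w, 2 * w, 2 * w, 2 * w, 2 * w, w), a = (-2 * w 2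
* w 0 0 0 0 0 0 0 / 2 * w -4 * w 2 * w 0 0 0 0 0 0 / 0 2 * w -4 * w 2 * w 0 0 0 0 0 / 0 0 2 * w -4 *
w 2 * w 0 0 0 0 / 0 0 0 2 * w -4 * w 2 * w 0 0 0 / 0 0 0 0 2 * w -4 * w 2 * w 0 0 / 0 0 0 0 0 2 * w
-4 * w 2 * w 0 / 0 0 0 0 0 0 2 * w -4 * w 2 * w / 0 0 0 0 0 0 0 2 * w -2 * w); [down chain equal up]
m = (m, 2 * m, 2 * m, 2 * m, 2 * m, 2 * m, 2 * m, 2 * m, m), w = (2 * w, w, w, w, w, w, w, w, 2 *
w), a = (-4 * w 2 * w 0 0 0 0 0 0 0 / 2 * w -2 * w w 0 0 0 0 0 0 / 0 w -2 * w w 0 0 0 0 0 / 0 0 w -2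
* w w 0 0 0 0 / 0 0 0 w -2 * w w 0 0 0 / 0 0 0 0 w -2 * w w 0 0 / 0 0 0 0 0 w -2 * w w 0 / 0 0 0 0 0
0 w -2 * w 2 * w / 0 0 0 0 0 0 0 2 * w -4 * w); [D extended up] m = (m, 2 * m, 2 * m, 2 * m, 2 * m,
2 * m, 2 * m, m, m), w = (2 * w, w, w, w, w, w, w, w, w), a = (-4 * w 2 * w 0 0 0 0 0 0 0 / 2 * w -2
* w w 0 0 0 0 0 0 / 0 w -2 * w w 0 0 0 0 0 / 0 0 w -2 * w w 0 0 0 0 / 0 0 0 w -2 * w w 0 0 0 / 0 0 0
0 w -2 * w w 0 0 / 0 0 0 0 0 w -2 * w w w / 0 0 0 0 0 0 w -2 * w 0 / 0 0 0 0 0 0 w 0 -2 * w); [D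
extended down] m = (2 * m, 2 * m, 2 * m, 2 * m, 2 * m, 2 * m, 2 * m, m, m), w = (w, 2 * w, 2 * w, 2
* w, 2 * w, 2 * w, 2 * w, 2 * w, 2 * w), a = (-2 * w 2 * w 0 0 0 0 0 0 0 / 2 * w -4 * w 2 * w 0 0 0
0 0 0 / 0 2 * w -4 * w 2 * w 0 0 0 0 0 / 0 0 2 * w -4 * w 2 * w 0 0 0 0 / 0 0 0 2 * w -4 * w 2 * w 0
0 0 / 0 0 0 0 2 * w -4 * w 2 * w 0 0 / 0 0 0 0 0 2 * w -4 * w 2 * w 2 * w / 0 0 0 0 0 0 2 * w -4 * w
0 / 0 0 0 0 0 0 2 * w 0 -4 * w); [double triple] m = (m, m, 2 * m, 2 * m, 2 * m, 2 * m, 2 * m, m,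
m), w = (w, w, w, w, w, w, w, w, w), a = (-2 * w 0 w 0 0 0 0 0 0 / 0 -2 * w w 0 0 0 0 0 0 / w w -2 *
w w 0 0 0 0 0 / 0 0 w -2 * w w 0 0 0 0 / 0 0 0 w -2 * w w 0 0 0 / 0 0 0 0 w -2 * w w 0 0 / 0 0 0 0 0
w -2 * w w w / 0 0 0 0 0 0 w -2 * w 0 / 0 0 0 0 0 0 w 0 -2 * w); [E8 completed] m = (m, 2 * m, 3 *
m, 4 * m, 5 * m, 6 * m, 4 * m, 2 * m, 3 * m), w = (w, w, w, w, w, w, w, w, w), a = (-2 * w w 0 0 0 0
0 0 0 / w -2 * w w 0 0 0 0 0 0 / 0 w -2 * w w 0 0 0 0 0 / 0 0 w -2 * w w 0 0 0 0 / 0 0 0 w -2 * w w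
0 0 0 / 0 0 0 0 w -2 * w w 0 w / 0 0 0 0 0 w -2 * w w 0 / 0 0 0 0 0 0 w -2 * w 0 / 0 0 0 0 0 w 0 0
-2 * w). Only the classification direction is stated. (In the family with weights (w, 2w, …, 2w, w)
the consecutive intersection numbers are 2w, as divisibility by the weights forces; the published
list prints w there, and omits m_{n-2} = 2m in the two D-type families.) -/
theorem result (T : Models.NumericalType 9) (hmin : T.IsMinimal) (hg : T.genus = 1) :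
    (∀ i, T.g i = 0) ∧ ∃ (σ : Equiv.Perm (Fin 9)) (m w : ℤ),
      ((T.m (σ 0) = m ∧ T.m (σ 1) = m ∧ T.m (σ 2) = m ∧ T.m (σ 3) = m ∧ T.m (σ 4) = m ∧ T.m (σ 5) = m ∧ T.m (σ 6) = m ∧ T.m (σ 7) = m ∧ T.m (σ 8) = m ∧ T.w (σ 0) = w ∧ T.w (σ 1) = w ∧ T.w (σ 2) = w ∧ T.w (σ 3) = w ∧ T.w (σ 4) = w ∧ T.w (σ 5) = w ∧ T.w (σ 6) = w ∧ T.w (σ 7) = w ∧ T.w (σ 8) = w ∧ T.a (σ 0) (σ 0) = -2 * w ∧ T.a (σ 0) (σ 1) = w ∧ T.a (σ 0) (σ 2) = 0 ∧ T.a (σ 0) (σ 3) = 0 ∧ T.a (σ 0) (σ 4) = 0 ∧ T.a (σ 0) (σ 5) = 0 ∧ T.a (σ 0) (σ 6) = 0 ∧ T.a (σ 0) (σ 7) = 0 ∧ T.a (σ 0) (σ 8) = w ∧ T.a (σ 1) (σ 1) = -2 * w ∧ T.a (σ 1) (σ 2) = w ∧ T.a (σ 1) (σ 3) = 0 ∧ T.a (σ 1) (σ 4) = 0 ∧ T.a (σ 1) (σ 5) = 0 ∧ T.a (σ 1) (σ 6) = 0 ∧ T.a (σ 1) (σ 7) = 0 ∧ T.a (σ 1) (σ 8) = 0 ∧ T.a (σ 2) (σ 2) = -2 * w ∧ T.a (σ 2) (σ 3) = w ∧ T.a (σ 2) (σ 4) = 0 ∧ T.a (σ 2) (σ 5) = 0 ∧ T.a (σ 2) (σ 6) = 0 ∧ T.a (σ 2) (σ 7) = 0 ∧ T.a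 (σ 2) (σ 8) = 0 ∧ T.a (σ 3) (σ 3) = -2 * w ∧ T.a (σ 3) (σ 4) = w ∧ T.a (σ 3) (σ 5) = 0 ∧ T.a (σ 3) (σ 6) = 0 ∧ T.a (σ 3) (σ 7) = 0 ∧ T.a (σ 3) (σ 8) = 0 ∧ T.a (σ 4) (σ 4) = -2 * w ∧ T.a (σ 4) (σ 5) = w ∧ T.a (σ 4) (σ 6) = 0 ∧ T.a (σ 4) (σ 7) = 0 ∧ T.a (σ 4) (σ 8) = 0 ∧ T.a (σ 5) (σ 5) = -2 * w ∧ T.a (σ 5) (σ 6) = w ∧ T.a (σ 5) (σ 7) = 0 ∧ T.a (σ 5) (σ 8) = 0 ∧ T.a (σ 6) (σ 6) = -2 * w ∧ T.a (σ 6) (σ 7) = w ∧ T.a (σ 6) (σ 8) = 0 ∧ T.a (σ 7) (σ 7) = -2 * w ∧ T.a (σ 7) (σ 8) = w ∧ T.a (σ 8) (σ 8) = -2 * w) ∨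
      (T.m (σ 0) = 2 * m ∧ T.m (σ 1) = 2 * m ∧ T.m (σ 2) = 2 * m ∧ T.m (σ 3) = 2 * m ∧ T.m (σ 4) = 2 * m ∧ T.m (σ 5) = 2 * m ∧ T.m (σ 6) = 2 * m ∧ T.m (σ 7) = 2 * m ∧ T.m (σ 8) = m ∧ T.w (σ 0) = w ∧ T.w (σ 1) = 2 * w ∧ T.w (σ 2) = 2 * w ∧ T.w (σ 3) = 2 * w ∧ T.w (σ 4) = 2 * w ∧ T.w (σ 5) = 2 * w ∧ T.w (σ 6) = 2 * w ∧ T.w (σ 7) = 2 * w ∧ T.w (σ 8) = 4 * w ∧ T.a (σ 0) (σ 0) = -2 * w ∧ T.a (σ 0) (σ 1) = 2 * w ∧ T.a (σ 0) (σ 2) = 0 ∧ T.a (σ 0) (σ 3) = 0 ∧ T.a (σ 0) (σ 4) = 0 ∧ T.a (σ 0) (σ 5) = 0 ∧ T.a (σ 0) (σ 6) = 0 ∧ T.a (σ 0) (σ 7) = 0 ∧ T.a (σ 0) (σ 8) = 0 ∧ T.a (σ 1) (σ 1) = -4 * w ∧ T.a (σ 1) (σ 2) = 2 * w ∧ T.a (σ 1) (σ 3) = 0 ∧ T.a (σ 1) (σ 4) = 0 ∧ T.a (σ 1) (σ 5) = 0 ∧ T.a (σ 1) (σ 6) = 0 ∧ T.a (σ 1) (σ 7) = 0 ∧ T.a (σ 1) (σ 8) = 0 ∧ T.a (σ 2) (σ 2) = -4 * w ∧ T.a (σ 2) (σ 3) = 2 * w ∧ T.a (σ 2) (σ 4) = 0 ∧ T.a (σ 2) (σ 5) = 0 ∧ T.a (σ 2) (σ 6) = 0 ∧ T.a (σ 2)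 (σ 7) = 0 ∧ T.a (σ 2) (σ 8) = 0 ∧ T.a (σ 3) (σ 3) = -4 * w ∧ T.a (σ 3) (σ 4) = 2 * w ∧ T.a (σ 3) (σ 5) = 0 ∧ T.a (σ 3) (σ 6) = 0 ∧ T.a (σ 3) (σ 7) = 0 ∧ T.a (σ 3) (σ 8) = 0 ∧ T.a (σ 4) (σ 4) = -4 * w ∧ T.a (σ 4) (σ 5) = 2 * w ∧ T.a (σ 4) (σ 6) = 0 ∧ T.a (σ 4) (σ 7) = 0 ∧ T.a (σ 4) (σ 8) = 0 ∧ T.a (σ 5) (σ 5) = -4 * w ∧ T.a (σ 5) (σ 6) = 2 * w ∧ T.a (σ 5) (σ 7) = 0 ∧ T.a (σ 5) (σ 8) = 0 ∧ T.a (σ 6) (σ 6) = -4 * w ∧ T.a (σ 6) (σ 7) = 2 * w ∧ T.a (σ 6) (σ 8) = 0 ∧ T.a (σ 7) (σ 7) = -4 * w ∧ T.a (σ 7) (σ 8) = 4 * w ∧ T.a (σ 8) (σ 8) = -8 * w) ∨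
      (T.m (σ 0) = m ∧ T.m (σ 1) = m ∧ T.m (σ 2) = m ∧ T.m (σ 3) = m ∧ T.m (σ 4) = m ∧ T.m (σ 5) = m ∧ T.m (σ 6) = m ∧ T.m (σ 7) = m ∧ T.m (σ 8) = m ∧ T.w (σ 0) = w ∧ T.w (σ 1) = 2 * w ∧ T.w (σ 2) = 2 * w ∧ T.w (σ 3) = 2 * w ∧ T.w (σ 4) = 2 * w ∧ T.w (σ 5) = 2 * w ∧ T.w (σ 6) = 2 * w ∧ T.w (σ 7) = 2 * w ∧ T.w (σ 8) = w ∧ T.a (σ 0) (σ 0) = -2 * w ∧ T.a (σ 0) (σ 1) = 2 * w ∧ T.a (σ 0) (σ 2) = 0 ∧ T.a (σ 0) (σ 3) = 0 ∧ T.a (σ 0) (σ 4) = 0 ∧ T.a (σ 0) (σ 5) = 0 ∧ T.a (σ 0) (σ 6) = 0 ∧ T.a (σ 0) (σ 7) = 0 ∧ T.a (σ 0) (σ 8) = 0 ∧ T.a (σ 1) (σ 1) = -4 * w ∧ T.a (σ 1) (σ 2) = 2 * w ∧ T.a (σ 1) (σ 3) = 0 ∧ T.a (σ 1) (σ 4) = 0 ∧ T.a (σ 1) (σ 5) = 0 ∧ T.a (σ 1) (σ 6) = 0 ∧ T.a (σ 1) (σ 7) = 0 ∧ T.a (σ 1) (σ 8) = 0 ∧ T.a (σ 2) (σ 2) = -4 * w ∧ T.a (σ 2) (σ 3) = 2 * w ∧ T.a (σ 2) (σ 4) = 0 ∧ T.a (σ 2) (σ 5) = 0 ∧ T.a (σ 2) (σ 6) = 0 ∧ T.a (σ 2) (σ 7) = 0 ∧ T.a (σ 2) (σ 8) = 0 ∧ T.a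 (σ 3) (σ 3) = -4 * w ∧ T.a (σ 3) (σ 4) = 2 * w ∧ T.a (σ 3) (σ 5) = 0 ∧ T.a (σ 3) (σ 6) = 0 ∧ T.a (σ 3) (σ 7) = 0 ∧ T.a (σ 3) (σ 8) = 0 ∧ T.a (σ 4) (σ 4) = -4 * w ∧ T.a (σ 4) (σ 5) = 2 * w ∧ T.a (σ 4) (σ 6) = 0 ∧ T.a (σ 4) (σ 7) = 0 ∧ T.a (σ 4) (σ 8) = 0 ∧ T.a (σ 5) (σ 5) = -4 * w ∧ T.a (σ 5) (σ 6) = 2 * w ∧ T.a (σ 5) (σ 7) = 0 ∧ T.a (σ 5) (σ 8) = 0 ∧ T.a (σ 6) (σ 6) = -4 * w ∧ T.a (σ 6) (σ 7) = 2 * w ∧ T.a (σ 6) (σ 8) = 0 ∧ T.a (σ 7) (σ 7) = -4 * w ∧ T.a (σ 7) (σ 8) = 2 * w ∧ T.a (σ 8) (σ 8) = -2 * w) ∨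
      (T.m (σ 0) = m ∧ T.m (σ 1) = 2 * m ∧ T.m (σ 2) = 2 * m ∧ T.m (σ 3) = 2 * m ∧ T.m (σ 4) = 2 * m ∧ T.m (σ 5) = 2 * m ∧ T.m (σ 6) = 2 * m ∧ T.m (σ 7) = 2 * m ∧ T.m (σ 8) = m ∧ T.w (σ 0) = 2 * w ∧ T.w (σ 1) = w ∧ T.w (σ 2) = w ∧ T.w (σ 3) = w ∧ T.w (σ 4) = w ∧ T.w (σ 5) = w ∧ T.w (σ 6) = w ∧ T.w (σ 7) = w ∧ T.w (σ 8) = 2 * w ∧ T.a (σ 0) (σ 0) = -4 * w ∧ T.a (σ 0) (σ 1) = 2 * w ∧ T.a (σ 0) (σ 2) = 0 ∧ T.a (σ 0) (σ 3) = 0 ∧ T.a (σ 0) (σ 4) = 0 ∧ T.a (σ 0) (σ 5) = 0 ∧ T.a (σ 0) (σ 6) = 0 ∧ T.a (σ 0) (σ 7) = 0 ∧ T.a (σ 0) (σ 8) = 0 ∧ T.a (σ 1) (σ 1) = -2 * w ∧ T.a (σ 1) (σ 2) = w ∧ T.a (σ 1) (σ 3) = 0 ∧ T.a (σ 1) (σ 4) = 0 ∧ T.a (σ 1) (σ 5) = 0 ∧ T.a (σ 1) (σ 6) = 0 ∧ T.a (σ 1) (σ 7) = 0 ∧ T.a (σ 1) (σ 8) = 0 ∧ T.a (σ 2) (σ 2) = -2 * w ∧ T.a (σ 2) (σ 3) = w ∧ T.a (σ 2) (σ 4) = 0 ∧ T.a (σ 2) (σ 5) = 0 ∧ T.a (σ 2) (σ 6) = 0 ∧ T.a (σ 2) (σ 7) = 0 ∧ T.a (σ 2) (σ 8) = 0 ∧ T.a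 (σ 3) (σ 3) = -2 * w ∧ T.a (σ 3) (σ 4) = w ∧ T.a (σ 3) (σ 5) = 0 ∧ T.a (σ 3) (σ 6) = 0 ∧ T.a (σ 3) (σ 7) = 0 ∧ T.a (σ 3) (σ 8) = 0 ∧ T.a (σ 4) (σ 4) = -2 * w ∧ T.a (σ 4) (σ 5) = w ∧ T.a (σ 4) (σ 6) = 0 ∧ T.a (σ 4) (σ 7) = 0 ∧ T.a (σ 4) (σ 8) = 0 ∧ T.a (σ 5) (σ 5) = -2 * w ∧ T.a (σ 5) (σ 6) = w ∧ T.a (σ 5) (σ 7) = 0 ∧ T.a (σ 5) (σ 8) = 0 ∧ T.a (σ 6) (σ 6) = -2 * w ∧ T.a (σ 6) (σ 7) = w ∧ T.a (σ 6) (σ 8) = 0 ∧ T.a (σ 7) (σ 7) = -2 * w ∧ T.a (σ 7) (σ 8) = 2 * w ∧ T.a (σ 8) (σ 8) = -4 * w) ∨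
      (T.m (σ 0) = m ∧ T.m (σ 1) = 2 * m ∧ T.m (σ 2) = 2 * m ∧ T.m (σ 3) = 2 * m ∧ T.m (σ 4) = 2 * m ∧ T.m (σ 5) = 2 * m ∧ T.m (σ 6) = 2 * m ∧ T.m (σ 7) = m ∧ T.m (σ 8) = m ∧ T.w (σ 0) = 2 * w ∧ T.w (σ 1) = w ∧ T.w (σ 2) = w ∧ T.w (σ 3) = w ∧ T.w (σ 4) = w ∧ T.w (σ 5) = w ∧ T.w (σ 6) = w ∧ T.w (σ 7) = w ∧ T.w (σ 8) = w ∧ T.a (σ 0) (σ 0) = -4 * w ∧ T.a (σ 0) (σ 1) = 2 * w ∧ T.a (σ 0) (σ 2) = 0 ∧ T.a (σ 0) (σ 3) = 0 ∧ T.a (σ 0) (σ 4) = 0 ∧ T.a (σ 0) (σ 5) = 0 ∧ T.a (σ 0) (σ 6) = 0 ∧ T.a (σ 0) (σ 7) = 0 ∧ T.a (σ 0) (σ 8) = 0 ∧ T.a (σ 1) (σ 1) = -2 * w ∧ T.a (σ 1) (σ 2) = w ∧ T.a (σ 1) (σ 3) = 0 ∧ T.a (σ 1) (σ 4) = 0 ∧ T.a (σ 1) (σ 5) = 0 ∧ T.a (σ 1) (σ 6) = 0 ∧ T.a (σ 1) (σ 7) = 0 ∧ T.a (σ 1) (σ 8) = 0 ∧ T.a (σ 2) (σ 2) = -2 * w ∧ T.a (σ 2) (σ 3) = w ∧ T.a (σ 2) (σ 4) = 0 ∧ T.a (σ 2) (σ 5) = 0 ∧ T.a (σ 2) (σ 6) = 0 ∧ T.a (σ 2) (σ 7) = 0 ∧ T.a (σ 2) (σ 8) = 0 ∧ T.a (σ 3)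 (σ 3) = -2 * w ∧ T.a (σ 3) (σ 4) = w ∧ T.a (σ 3) (σ 5) = 0 ∧ T.a (σ 3) (σ 6) = 0 ∧ T.a (σ 3) (σ 7) = 0 ∧ T.a (σ 3) (σ 8) = 0 ∧ T.a (σ 4) (σ 4) = -2 * w ∧ T.a (σ 4) (σ 5) = w ∧ T.a (σ 4) (σ 6) = 0 ∧ T.a (σ 4) (σ 7) = 0 ∧ T.a (σ 4) (σ 8) = 0 ∧ T.a (σ 5) (σ 5) = -2 * w ∧ T.a (σ 5) (σ 6) = w ∧ T.a (σ 5) (σ 7) = 0 ∧ T.a (σ 5) (σ 8) = 0 ∧ T.a (σ 6) (σ 6) = -2 * w ∧ T.a (σ 6) (σ 7) = w ∧ T.a (σ 6) (σ 8) = w ∧ T.a (σ 7) (σ 7) = -2 * w ∧ T.a (σ 7) (σ 8) = 0 ∧ T.a (σ 8) (σ 8) = -2 * w) ∨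
      (T.m (σ 0) = 2 * m ∧ T.m (σ 1) = 2 * m ∧ T.m (σ 2) = 2 * m ∧ T.m (σ 3) = 2 * m ∧ T.m (σ 4) = 2 * m ∧ T.m (σ 5) = 2 * m ∧ T.m (σ 6) = 2 * m ∧ T.m (σ 7) = m ∧ T.m (σ 8) = m ∧ T.w (σ 0) = w ∧ T.w (σ 1) = 2 * w ∧ T.w (σ 2) = 2 * w ∧ T.w (σ 3) = 2 * w ∧ T.w (σ 4) = 2 * w ∧ T.w (σ 5) = 2 * w ∧ T.w (σ 6) = 2 * w ∧ T.w (σ 7) = 2 * w ∧ T.w (σ 8) = 2 * w ∧ T.a (σ 0) (σ 0) = -2 * w ∧ T.a (σ 0) (σ 1) = 2 * w ∧ T.a (σ 0) (σ 2) = 0 ∧ T.a (σ 0) (σ 3) = 0 ∧ T.a (σ 0) (σ 4) = 0 ∧ T.a (σ 0) (σ 5) = 0 ∧ T.a (σ 0) (σ 6) = 0 ∧ T.a (σ 0) (σ 7) = 0 ∧ T.a (σ 0) (σ 8) = 0 ∧ T.a (σ 1) (σ 1) = -4 * w ∧ T.a (σ 1) (σ 2) = 2 * w ∧ T.a (σ 1) (σ 3) = 0 ∧ T.a (σ 1) (σ 4) = 0 ∧ T.a (σ 1) (σ 5) = 0 ∧ T.a (σ 1) (σ 6) = 0 ∧ T.a (σ 1) (σ 7) = 0 ∧ T.a (σ 1) (σ 8) = 0 ∧ T.a (σ 2) (σ 2) = -4 * w ∧ T.a (σ 2) (σ 3) = 2 * w ∧ T.a (σ 2) (σ 4) = 0 ∧ T.a (σ 2) (σ 5) = 0 ∧ T.a (σ 2) (σ 6) = 0 ∧ T.a (σ 2) (σ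 7) = 0 ∧ T.a (σ 2) (σ 8) = 0 ∧ T.a (σ 3) (σ 3) = -4 * w ∧ T.a (σ 3) (σ 4) = 2 * w ∧ T.a (σ 3) (σ 5) = 0 ∧ T.a (σ 3) (σ 6) = 0 ∧ T.a (σ 3) (σ 7) = 0 ∧ T.a (σ 3) (σ 8) = 0 ∧ T.a (σ 4) (σ 4) = -4 * w ∧ T.a (σ 4) (σ 5) = 2 * w ∧ T.a (σ 4) (σ 6) = 0 ∧ T.a (σ 4) (σ 7) = 0 ∧ T.a (σ 4) (σ 8) = 0 ∧ T.a (σ 5) (σ 5) = -4 * w ∧ T.a (σ 5) (σ 6) = 2 * w ∧ T.a (σ 5) (σ 7) = 0 ∧ T.a (σ 5) (σ 8) = 0 ∧ T.a (σ 6) (σ 6) = -4 * w ∧ T.a (σ 6) (σ 7) = 2 * w ∧ T.a (σ 6) (σ 8) = 2 * w ∧ T.a (σ 7) (σ 7) = -4 * w ∧ T.a (σ 7) (σ 8) = 0 ∧ T.a (σ 8) (σ 8) = -4 * w) ∨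
      (T.m (σ 0) = m ∧ T.m (σ 1) = m ∧ T.m (σ 2) = 2 * m ∧ T.m (σ 3) = 2 * m ∧ T.m (σ 4) = 2 * m ∧ T.m (σ 5) = 2 * m ∧ T.m (σ 6) = 2 * m ∧ T.m (σ 7) = m ∧ T.m (σ 8) = m ∧ T.w (σ 0) = w ∧ T.w (σ 1) = w ∧ T.w (σ 2) = w ∧ T.w (σ 3) = w ∧ T.w (σ 4) = w ∧ T.w (σ 5) = w ∧ T.w (σ 6) = w ∧ T.w (σ 7) = w ∧ T.w (σ 8) = w ∧ T.a (σ 0) (σ 0) = -2 * w ∧ T.a (σ 0) (σ 1) = 0 ∧ T.a (σ 0) (σ 2) = w ∧ T.a (σ 0) (σ 3) = 0 ∧ T.a (σ 0) (σ 4) = 0 ∧ T.a (σ 0) (σ 5) = 0 ∧ T.a (σ 0) (σ 6) = 0 ∧ T.a (σ 0) (σ 7) = 0 ∧ T.a (σ 0) (σ 8) = 0 ∧ T.a (σ 1) (σ 1) = -2 * w ∧ T.a (σ 1) (σ 2) = w ∧ T.a (σ 1) (σ 3) = 0 ∧ T.a (σ 1) (σ 4) = 0 ∧ T.a (σ 1) (σ 5) = 0 ∧ T.a (σ 1) (σ 6) = 0 ∧ T.a (σ 1) (σ 7) = 0 ∧ T.a (σ 1) (σ 8) = 0 ∧ T.a (σ 2) (σ 2) = -2 * w ∧ T.a (σ 2) (σ 3) = w ∧ T.a (σ 2) (σ 4) = 0 ∧ T.a (σ 2) (σ 5) = 0 ∧ T.a (σ 2) (σ 6) = 0 ∧ T.a (σ 2) (σ 7) = 0 ∧ T.a (σ 2) (σ 8) = 0 ∧ T.a (σ 3) (σ 3) = -2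 * w ∧ T.a (σ 3) (σ 4) = w ∧ T.a (σ 3) (σ 5) = 0 ∧ T.a (σ 3) (σ 6) = 0 ∧ T.a (σ 3) (σ 7) = 0 ∧ T.a (σ 3) (σ 8) = 0 ∧ T.a (σ 4) (σ 4) = -2 * w ∧ T.a (σ 4) (σ 5) = w ∧ T.a (σ 4) (σ 6) = 0 ∧ T.a (σ 4) (σ 7) = 0 ∧ T.a (σ 4) (σ 8) = 0 ∧ T.a (σ 5) (σ 5) = -2 * w ∧ T.a (σ 5) (σ 6) = w ∧ T.a (σ 5) (σ 7) = 0 ∧ T.a (σ 5) (σ 8) = 0 ∧ T.a (σ 6) (σ 6) = -2 * w ∧ T.a (σ 6) (σ 7) = w ∧ T.a (σ 6) (σ 8) = w ∧ T.a (σ 7) (σ 7) = -2 * w ∧ T.a (σ 7) (σ 8) = 0 ∧ T.a (σ 8) (σ 8) = -2 * w) ∨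
      (T.m (σ 0) = m ∧ T.m (σ 1) = 2 * m ∧ T.m (σ 2) = 3 * m ∧ T.m (σ 3) = 4 * m ∧ T.m (σ 4) = 5 * m ∧ T.m (σ 5) = 6 * m ∧ T.m (σ 6) = 4 * m ∧ T.m (σ 7) = 2 * m ∧ T.m (σ 8) = 3 * m ∧ T.w (σ 0) = w ∧ T.w (σ 1) = w ∧ T.w (σ 2) = w ∧ T.w (σ 3) = w ∧ T.w (σ 4) = w ∧ T.w (σ 5) = w ∧ T.w (σ 6) = w ∧ T.w (σ 7) = w ∧ T.w (σ 8) = w ∧ T.a (σ 0) (σ 0) = -2 * w ∧ T.a (σ 0) (σ 1) = w ∧ T.a (σ 0) (σ 2) = 0 ∧ T.a (σ 0) (σ 3) = 0 ∧ T.a (σ 0) (σ 4) = 0 ∧ T.a (σ 0) (σ 5) = 0 ∧ T.a (σ 0) (σ 6) = 0 ∧ T.a (σ 0) (σ 7) = 0 ∧ T.a (σ 0) (σ 8) = 0 ∧ T.a (σ 1) (σ 1) = -2 * w ∧ T.a (σ 1) (σ 2) = w ∧ T.a (σ 1) (σ 3) = 0 ∧ T.a (σ 1) (σ 4) = 0 ∧ T.a (σ 1) (σ 5) = 0 ∧ T.a (σ 1) (σ 6) = 0 ∧ T.a (σ 1) (σ 7) = 0 ∧ T.a (σ 1) (σ 8) = 0 ∧ T.a (σ 2) (σ 2) = -2 * w ∧ T.a (σ 2) (σ 3) = w ∧ T.a (σ 2) (σ 4) = 0 ∧ T.a (σ 2) (σ 5) = 0 ∧ T.a (σ 2) (σ 6) = 0 ∧ T.a (σ 2) (σ 7) = 0 ∧ T.a (σ 2) (σ 8) = 0 ∧ T.a (σ 3)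 (σ 3) = -2 * w ∧ T.a (σ 3) (σ 4) = w ∧ T.a (σ 3) (σ 5) = 0 ∧ T.a (σ 3) (σ 6) = 0 ∧ T.a (σ 3) (σ 7) = 0 ∧ T.a (σ 3) (σ 8) = 0 ∧ T.a (σ 4) (σ 4) = -2 * w ∧ T.a (σ 4) (σ 5) = w ∧ T.a (σ 4) (σ 6) = 0 ∧ T.a (σ 4) (σ 7) = 0 ∧ T.a (σ 4) (σ 8) = 0 ∧ T.a (σ 5) (σ 5) = -2 * w ∧ T.a (σ 5) (σ 6) = w ∧ T.a (σ 5) (σ 7) = 0 ∧ T.a (σ 5) (σ 8) = w ∧ T.a (σ 6) (σ 6) = -2 * w ∧ T.a (σ 6) (σ 7) = w ∧ T.a (σ 6) (σ 8) = 0 ∧ T.a (σ 7) (σ 7) = -2 * w ∧ T.a (σ 7) (σ 8) = 0 ∧ T.a (σ 8) (σ 8) = -2 * w)) := by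
  have hn2 : (1:ℕ) < 9 := by omega
  have hv := Groth.L26.NumType.all_minusTwo T hmin hn2 hg
  refine ⟨fun i => (hv i).1, ?_⟩
  rcases Groth.L26.NumType.genus_one_classification T (by omega) hv with h | h | h | h | h | h | h | h | h | h | h | h
  · obtain ⟨u, m, w, hu, hmw, ha⟩ := h
    obtain ⟨M0, W0⟩ := hmw 0 (by omega)
    have D0 := (hv (u 0)).2
    have G0 := (hv (u 0)).1
    obtain ⟨M1, W1⟩ := hmw 1 (by omega)
    have D1 := (hv (u 1)).2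
    have G1 := (hv (u 1)).1
    obtain ⟨M2, W2⟩ := hmw 2 (by omega)
    have D2 := (hv (u 2)).2
    have G2 := (hv (u 2)).1
    obtain ⟨M3, W3⟩ := hmw 3 (by omega)
    have D3 := (hv (u 3)).2
    have G3 := (hv (u 3)).1
    obtain ⟨M4, W4⟩ := hmw 4 (by omega)
    have D4 := (hv (u 4)).2
    have G4 := (hv (u 4)).1
    obtain ⟨M5, W5⟩ := hmw 5 (by omega)
    have D5 := (hv (u 5)).2
    have G5 := (hv (u 5)).1
    obtain ⟨M6, W6⟩ := hmw 6 (by omega)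
    have D6 := (hv (u 6)).2
    have G6 := (hv (u 6)).1
    obtain ⟨M7, W7⟩ := hmw 7 (by omega)
    have D7 := (hv (u 7)).2
    have G7 := (hv (u 7)).1
    obtain ⟨M8, W8⟩ := hmw 8 (by omega)
    have D8 := (hv (u 8)).2
    have G8 := (hv (u 8)).1
    have A01 := ha 0 1 (by omega) (by omega)
    have B01 := Groth.L26.NumType.a_symm T (u 1) (u 0)
    have A02 := ha 0 2 (by omega) (by omega)
    have B02 := Groth.L26.NumType.a_symm T (u 2) (u 0)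
    have A03 := ha 0 3 (by omega) (by omega)
    have B03 := Groth.L26.NumType.a_symm T (u 3) (u 0)
    have A04 := ha 0 4 (by omega) (by omega)
    have B04 := Groth.L26.NumType.a_symm T (u 4) (u 0)
    have A05 := ha 0 5 (by omega) (by omega)
    have B05 := Groth.L26.NumType.a_symm T (u 5) (u 0)
    have A06 := ha 0 6 (by omega) (by omega)
    have B06 := Groth.L26.NumType.a_symm T (u 6) (u 0)
    have A07 := ha 0 7 (by omega) (by omega)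
    have B07 := Groth.L26.NumType.a_symm T (u 7) (u 0)
    have A08 := ha 0 8 (by omega) (by omega)
    have B08 := Groth.L26.NumType.a_symm T (u 8) (u 0)
    have A12 := ha 1 2 (by omega) (by omega)
    have B12 := Groth.L26.NumType.a_symm T (u 2) (u 1)
    have A13 := ha 1 3 (by omega) (by omega)
    have B13 := Groth.L26.NumType.a_symm T (u 3) (u 1)
    have A14 := ha 1 4 (by omega) (by omega)
    have B14 := Groth.L26.NumType.a_symm T (u 4) (u 1)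
    have A15 := ha 1 5 (by omega) (by omega)
    have B15 := Groth.L26.NumType.a_symm T (u 5) (u 1)
    have A16 := ha 1 6 (by omega) (by omega)
    have B16 := Groth.L26.NumType.a_symm T (u 6) (u 1)
    have A17 := ha 1 7 (by omega) (by omega)
    have B17 := Groth.L26.NumType.a_symm T (u 7) (u 1)
    have A18 := ha 1 8 (by omega) (by omega)
    have B18 := Groth.L26.NumType.a_symm T (u 8) (u 1)
    have A23 := ha 2 3 (by omega) (by omega)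
    have B23 := Groth.L26.NumType.a_symm T (u 3) (u 2)
    have A24 := ha 2 4 (by omega) (by omega)
    have B24 := Groth.L26.NumType.a_symm T (u 4) (u 2)
    have A25 := ha 2 5 (by omega) (by omega)
    have B25 := Groth.L26.NumType.a_symm T (u 5) (u 2)
    have A26 := ha 2 6 (by omega) (by omega)
    have B26 := Groth.L26.NumType.a_symm T (u 6) (u 2)
    have A27 := ha 2 7 (by omega) (by omega)
    have B27 := Groth.L26.NumType.a_symm T (u 7) (u 2)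
    have A28 := ha 2 8 (by omega) (by omega)
    have B28 := Groth.L26.NumType.a_symm T (u 8) (u 2)
    have A34 := ha 3 4 (by omega) (by omega)
    have B34 := Groth.L26.NumType.a_symm T (u 4) (u 3)
    have A35 := ha 3 5 (by omega) (by omega)
    have B35 := Groth.L26.NumType.a_symm T (u 5) (u 3)
    have A36 := ha 3 6 (by omega) (by omega)
    have B36 := Groth.L26.NumType.a_symm T (u 6) (u 3)
    have A37 := ha 3 7 (by omega) (by omega)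
    have B37 := Groth.L26.NumType.a_symm T (u 7) (u 3)
    have A38 := ha 3 8 (by omega) (by omega)
    have B38 := Groth.L26.NumType.a_symm T (u 8) (u 3)
    have A45 := ha 4 5 (by omega) (by omega)
    have B45 := Groth.L26.NumType.a_symm T (u 5) (u 4)
    have A46 := ha 4 6 (by omega) (by omega)
    have B46 := Groth.L26.NumType.a_symm T (u 6) (u 4)
    have A47 := ha 4 7 (by omega) (by omega)
    have B47 := Groth.L26.NumType.a_symm T (u 7) (u 4)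
    have A48 := ha 4 8 (by omega) (by omega)
    have B48 := Groth.L26.NumType.a_symm T (u 8) (u 4)
    have A56 := ha 5 6 (by omega) (by omega)
    have B56 := Groth.L26.NumType.a_symm T (u 6) (u 5)
    have A57 := ha 5 7 (by omega) (by omega)
    have B57 := Groth.L26.NumType.a_symm T (u 7) (u 5)
    have A58 := ha 5 8 (by omega) (by omega)
    have B58 := Groth.L26.NumType.a_symm T (u 8) (u 5)
    have A67 := ha 6 7 (by omega) (by omega)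
    have B67 := Groth.L26.NumType.a_symm T (u 7) (u 6)
    have A68 := ha 6 8 (by omega) (by omega)
    have B68 := Groth.L26.NumType.a_symm T (u 8) (u 6)
    have A78 := ha 7 8 (by omega) (by omega)
    have B78 := Groth.L26.NumType.a_symm T (u 8) (u 7)
    norm_num [Groth.L26.NumType.cycA, Groth.L26.NumType.cycM] at M0 W0 M1 W1 M2 W2 M3 W3 M4 W4 M5 W5 M6 W6 M7 W7 M8 W8 A01 A02 A03 A04 A05 A06 A07 A08 A12 A13 A14 A15 A16 A17 A18 A23 A24 A25 A26 A27 A28 A34 A35 A36 A37 A38 A45 A46 A47 A48 A56 A57 A58 A67 A68 A78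
    have hs : Function.Injective (fun i : Fin 9 => u ((![0, 1, 2, 3, 4, 5, 6, 7, 8] : Fin 9 → ℕ) i)) := fun a b e => by
      have h1 := hu (Set.mem_Iio.2 (by fin_cases a <;> simp)) (Set.mem_Iio.2 (by fin_cases b <;> simp)) e
      fin_cases a <;> fin_cases b <;> simp at h1 ⊢
    refine ⟨Equiv.ofBijective _ (Finite.injective_iff_bijective.1 hs), m, w, Or.inl ?_⟩
    simp only [Equiv.ofBijective_apply, Fin.isValue, Matrix.cons_val]
    and_intros <;> omega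
  · obtain ⟨u, m, w, hu, hmw, ha⟩ := h
    obtain ⟨M0, W0⟩ := hmw 0 (by omega)
    have D0 := (hv (u 0)).2
    have G0 := (hv (u 0)).1
    obtain ⟨M1, W1⟩ := hmw 1 (by omega)
    have D1 := (hv (u 1)).2
    have G1 := (hv (u 1)).1
    obtain ⟨M2, W2⟩ := hmw 2 (by omega)
    have D2 := (hv (u 2)).2
    have G2 := (hv (u 2)).1
    obtain ⟨M3, W3⟩ := hmw 3 (by omega)
    have D3 := (hv (u 3)).2
    have G3 := (hv (u 3)).1
    obtain ⟨M4, W4⟩ := hmw 4 (by omega)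
    have D4 := (hv (u 4)).2
    have G4 := (hv (u 4)).1
    obtain ⟨M5, W5⟩ := hmw 5 (by omega)
    have D5 := (hv (u 5)).2
    have G5 := (hv (u 5)).1
    obtain ⟨M6, W6⟩ := hmw 6 (by omega)
    have D6 := (hv (u 6)).2
    have G6 := (hv (u 6)).1
    obtain ⟨M7, W7⟩ := hmw 7 (by omega)
    have D7 := (hv (u 7)).2
    have G7 := (hv (u 7)).1
    obtain ⟨M8, W8⟩ := hmw 8 (by omega)
    have D8 := (hv (u 8)).2
    have G8 := (hv (u 8)).1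
    have A01 := ha 0 1 (by omega) (by omega)
    have B01 := Groth.L26.NumType.a_symm T (u 1) (u 0)
    have A02 := ha 0 2 (by omega) (by omega)
    have B02 := Groth.L26.NumType.a_symm T (u 2) (u 0)
    have A03 := ha 0 3 (by omega) (by omega)
    have B03 := Groth.L26.NumType.a_symm T (u 3) (u 0)
    have A04 := ha 0 4 (by omega) (by omega)
    have B04 := Groth.L26.NumType.a_symm T (u 4) (u 0)
    have A05 := ha 0 5 (by omega) (by omega)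
    have B05 := Groth.L26.NumType.a_symm T (u 5) (u 0)
    have A06 := ha 0 6 (by omega) (by omega)
    have B06 := Groth.L26.NumType.a_symm T (u 6) (u 0)
    have A07 := ha 0 7 (by omega) (by omega)
    have B07 := Groth.L26.NumType.a_symm T (u 7) (u 0)
    have A08 := ha 0 8 (by omega) (by omega)
    have B08 := Groth.L26.NumType.a_symm T (u 8) (u 0)
    have A12 := ha 1 2 (by omega) (by omega)
    have B12 := Groth.L26.NumType.a_symm T (u 2) (u 1)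
    have A13 := ha 1 3 (by omega) (by omega)
    have B13 := Groth.L26.NumType.a_symm T (u 3) (u 1)
    have A14 := ha 1 4 (by omega) (by omega)
    have B14 := Groth.L26.NumType.a_symm T (u 4) (u 1)
    have A15 := ha 1 5 (by omega) (by omega)
    have B15 := Groth.L26.NumType.a_symm T (u 5) (u 1)
    have A16 := ha 1 6 (by omega) (by omega)
    have B16 := Groth.L26.NumType.a_symm T (u 6) (u 1)
    have A17 := ha 1 7 (by omega) (by omega)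
    have B17 := Groth.L26.NumType.a_symm T (u 7) (u 1)
    have A18 := ha 1 8 (by omega) (by omega)
    have B18 := Groth.L26.NumType.a_symm T (u 8) (u 1)
    have A23 := ha 2 3 (by omega) (by omega)
    have B23 := Groth.L26.NumType.a_symm T (u 3) (u 2)
    have A24 := ha 2 4 (by omega) (by omega)
    have B24 := Groth.L26.NumType.a_symm T (u 4) (u 2)
    have A25 := ha 2 5 (by omega) (by omega)
    have B25 := Groth.L26.NumType.a_symm T (u 5) (u 2)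
    have A26 := ha 2 6 (by omega) (by omega)
    have B26 := Groth.L26.NumType.a_symm T (u 6) (u 2)
    have A27 := ha 2 7 (by omega) (by omega)
    have B27 := Groth.L26.NumType.a_symm T (u 7) (u 2)
    have A28 := ha 2 8 (by omega) (by omega)
    have B28 := Groth.L26.NumType.a_symm T (u 8) (u 2)
    have A34 := ha 3 4 (by omega) (by omega)
    have B34 := Groth.L26.NumType.a_symm T (u 4) (u 3)
    have A35 := ha 3 5 (by omega) (by omega)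
    have B35 := Groth.L26.NumType.a_symm T (u 5) (u 3)
    have A36 := ha 3 6 (by omega) (by omega)
    have B36 := Groth.L26.NumType.a_symm T (u 6) (u 3)
    have A37 := ha 3 7 (by omega) (by omega)
    have B37 := Groth.L26.NumType.a_symm T (u 7) (u 3)
    have A38 := ha 3 8 (by omega) (by omega)
    have B38 := Groth.L26.NumType.a_symm T (u 8) (u 3)
    have A45 := ha 4 5 (by omega) (by omega)
    have B45 := Groth.L26.NumType.a_symm T (u 5) (u 4)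
    have A46 := ha 4 6 (by omega) (by omega)
    have B46 := Groth.L26.NumType.a_symm T (u 6) (u 4)
    have A47 := ha 4 7 (by omega) (by omega)
    have B47 := Groth.L26.NumType.a_symm T (u 7) (u 4)
    have A48 := ha 4 8 (by omega) (by omega)
    have B48 := Groth.L26.NumType.a_symm T (u 8) (u 4)
    have A56 := ha 5 6 (by omega) (by omega)
    have B56 := Groth.L26.NumType.a_symm T (u 6) (u 5)
    have A57 := ha 5 7 (by omega) (by omega)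
    have B57 := Groth.L26.NumType.a_symm T (u 7) (u 5)
    have A58 := ha 5 8 (by omega) (by omega)
    have B58 := Groth.L26.NumType.a_symm T (u 8) (u 5)
    have A67 := ha 6 7 (by omega) (by omega)
    have B67 := Groth.L26.NumType.a_symm T (u 7) (u 6)
    have A68 := ha 6 8 (by omega) (by omega)
    have B68 := Groth.L26.NumType.a_symm T (u 8) (u 6)
    have A78 := ha 7 8 (by omega) (by omega)
    have B78 := Groth.L26.NumType.a_symm T (u 8) (u 7)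
    norm_num [Groth.L26.NumType.upA, Groth.L26.NumType.upM, Groth.L26.NumType.upW] at M0 W0 M1 W1 M2 W2 M3 W3 M4 W4 M5 W5 M6 W6 M7 W7 M8 W8 A01 A02 A03 A04 A05 A06 A07 A08 A12 A13 A14 A15 A16 A17 A18 A23 A24 A25 A26 A27 A28 A34 A35 A36 A37 A38 A45 A46 A47 A48 A56 A57 A58 A67 A68 A78
    have hs : Function.Injective (fun i : Fin 9 => u ((![0, 1, 2, 3, 4, 5, 6, 7, 8] : Fin 9 → ℕ) i)) := fun a b e => by
      have h1 := hu (Set.mem_Iio.2 (by fin_cases a <;> simp)) (Set.mem_Iio.2 (by fin_cases b <;> simp)) e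
      fin_cases a <;> fin_cases b <;> simp at h1 ⊢
    refine ⟨Equiv.ofBijective _ (Finite.injective_iff_bijective.1 hs), m, w, Or.inr (Or.inl ?_)⟩
    simp only [Equiv.ofBijective_apply, Fin.isValue, Matrix.cons_val]
    and_intros <;> omega
  · obtain ⟨u, m, w, hu, hmw, ha⟩ := h
    obtain ⟨M0, W0⟩ := hmw 0 (by omega)
    have D0 := (hv (u 0)).2
    have G0 := (hv (u 0)).1
    obtain ⟨M1, W1⟩ := hmw 1 (by omega)
    have D1 := (hv (u 1)).2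
    have G1 := (hv (u 1)).1
    obtain ⟨M2, W2⟩ := hmw 2 (by omega)
    have D2 := (hv (u 2)).2
    have G2 := (hv (u 2)).1
    obtain ⟨M3, W3⟩ := hmw 3 (by omega)
    have D3 := (hv (u 3)).2
    have G3 := (hv (u 3)).1
    obtain ⟨M4, W4⟩ := hmw 4 (by omega)
    have D4 := (hv (u 4)).2
    have G4 := (hv (u 4)).1
    obtain ⟨M5, W5⟩ := hmw 5 (by omega)
    have D5 := (hv (u 5)).2
    have G5 := (hv (u 5)).1
    obtain ⟨M6, W6⟩ := hmw 6 (by omega)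
    have D6 := (hv (u 6)).2
    have G6 := (hv (u 6)).1
    obtain ⟨M7, W7⟩ := hmw 7 (by omega)
    have D7 := (hv (u 7)).2
    have G7 := (hv (u 7)).1
    obtain ⟨M8, W8⟩ := hmw 8 (by omega)
    have D8 := (hv (u 8)).2
    have G8 := (hv (u 8)).1
    have A01 := ha 0 1 (by omega) (by omega)
    have B01 := Groth.L26.NumType.a_symm T (u 1) (u 0)
    have A02 := ha 0 2 (by omega) (by omega)
    have B02 := Groth.L26.NumType.a_symm T (u 2) (u 0)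
    have A03 := ha 0 3 (by omega) (by omega)
    have B03 := Groth.L26.NumType.a_symm T (u 3) (u 0)
    have A04 := ha 0 4 (by omega) (by omega)
    have B04 := Groth.L26.NumType.a_symm T (u 4) (u 0)
    have A05 := ha 0 5 (by omega) (by omega)
    have B05 := Groth.L26.NumType.a_symm T (u 5) (u 0)
    have A06 := ha 0 6 (by omega) (by omega)
    have B06 := Groth.L26.NumType.a_symm T (u 6) (u 0)
    have A07 := ha 0 7 (by omega) (by omega)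
    have B07 := Groth.L26.NumType.a_symm T (u 7) (u 0)
    have A08 := ha 0 8 (by omega) (by omega)
    have B08 := Groth.L26.NumType.a_symm T (u 8) (u 0)
    have A12 := ha 1 2 (by omega) (by omega)
    have B12 := Groth.L26.NumType.a_symm T (u 2) (u 1)
    have A13 := ha 1 3 (by omega) (by omega)
    have B13 := Groth.L26.NumType.a_symm T (u 3) (u 1)
    have A14 := ha 1 4 (by omega) (by omega)
    have B14 := Groth.L26.NumType.a_symm T (u 4) (u 1)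
    have A15 := ha 1 5 (by omega) (by omega)
    have B15 := Groth.L26.NumType.a_symm T (u 5) (u 1)
    have A16 := ha 1 6 (by omega) (by omega)
    have B16 := Groth.L26.NumType.a_symm T (u 6) (u 1)
    have A17 := ha 1 7 (by omega) (by omega)
    have B17 := Groth.L26.NumType.a_symm T (u 7) (u 1)
    have A18 := ha 1 8 (by omega) (by omega)
    have B18 := Groth.L26.NumType.a_symm T (u 8) (u 1)
    have A23 := ha 2 3 (by omega) (by omega)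
    have B23 := Groth.L26.NumType.a_symm T (u 3) (u 2)
    have A24 := ha 2 4 (by omega) (by omega)
    have B24 := Groth.L26.NumType.a_symm T (u 4) (u 2)
    have A25 := ha 2 5 (by omega) (by omega)
    have B25 := Groth.L26.NumType.a_symm T (u 5) (u 2)
    have A26 := ha 2 6 (by omega) (by omega)
    have B26 := Groth.L26.NumType.a_symm T (u 6) (u 2)
    have A27 := ha 2 7 (by omega) (by omega)
    have B27 := Groth.L26.NumType.a_symm T (u 7) (u 2)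
    have A28 := ha 2 8 (by omega) (by omega)
    have B28 := Groth.L26.NumType.a_symm T (u 8) (u 2)
    have A34 := ha 3 4 (by omega) (by omega)
    have B34 := Groth.L26.NumType.a_symm T (u 4) (u 3)
    have A35 := ha 3 5 (by omega) (by omega)
    have B35 := Groth.L26.NumType.a_symm T (u 5) (u 3)
    have A36 := ha 3 6 (by omega) (by omega)
    have B36 := Groth.L26.NumType.a_symm T (u 6) (u 3)
    have A37 := ha 3 7 (by omega) (by omega)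
    have B37 := Groth.L26.NumType.a_symm T (u 7) (u 3)
    have A38 := ha 3 8 (by omega) (by omega)
    have B38 := Groth.L26.NumType.a_symm T (u 8) (u 3)
    have A45 := ha 4 5 (by omega) (by omega)
    have B45 := Groth.L26.NumType.a_symm T (u 5) (u 4)
    have A46 := ha 4 6 (by omega) (by omega)
    have B46 := Groth.L26.NumType.a_symm T (u 6) (u 4)
    have A47 := ha 4 7 (by omega) (by omega)
    have B47 := Groth.L26.NumType.a_symm T (u 7) (u 4)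
    have A48 := ha 4 8 (by omega) (by omega)
    have B48 := Groth.L26.NumType.a_symm T (u 8) (u 4)
    have A56 := ha 5 6 (by omega) (by omega)
    have B56 := Groth.L26.NumType.a_symm T (u 6) (u 5)
    have A57 := ha 5 7 (by omega) (by omega)
    have B57 := Groth.L26.NumType.a_symm T (u 7) (u 5)
    have A58 := ha 5 8 (by omega) (by omega)
    have B58 := Groth.L26.NumType.a_symm T (u 8) (u 5)
    have A67 := ha 6 7 (by omega) (by omega)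
    have B67 := Groth.L26.NumType.a_symm T (u 7) (u 6)
    have A68 := ha 6 8 (by omega) (by omega)
    have B68 := Groth.L26.NumType.a_symm T (u 8) (u 6)
    have A78 := ha 7 8 (by omega) (by omega)
    have B78 := Groth.L26.NumType.a_symm T (u 8) (u 7)
    norm_num [Groth.L26.NumType.midA, Groth.L26.NumType.midM, Groth.L26.NumType.midW] at M0 W0 M1 W1 M2 W2 M3 W3 M4 W4 M5 W5 M6 W6 M7 W7 M8 W8 A01 A02 A03 A04 A05 A06 A07 A08 A12 A13 A14 A15 A16 A17 A18 A23 A24 A25 A26 A27 A28 A34 A35 A36 A37 A38 A45 A46 A47 A48 A56 A57 A58 A67 A68 A78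
    have hs : Function.Injective (fun i : Fin 9 => u ((![0, 1, 2, 3, 4, 5, 6, 7, 8] : Fin 9 → ℕ) i)) := fun a b e => by
      have h1 := hu (Set.mem_Iio.2 (by fin_cases a <;> simp)) (Set.mem_Iio.2 (by fin_cases b <;> simp)) e
      fin_cases a <;> fin_cases b <;> simp at h1 ⊢
    refine ⟨Equiv.ofBijective _ (Finite.injective_iff_bijective.1 hs), m, w, Or.inr (Or.inr (Or.inl ?_))⟩
    simp only [Equiv.ofBijective_apply, Fin.isValue, Matrix.cons_val]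
    and_intros <;> omega
  · obtain ⟨u, m, w, hu, hmw, ha⟩ := h
    obtain ⟨M0, W0⟩ := hmw 0 (by omega)
    have D0 := (hv (u 0)).2
    have G0 := (hv (u 0)).1
    obtain ⟨M1, W1⟩ := hmw 1 (by omega)
    have D1 := (hv (u 1)).2
    have G1 := (hv (u 1)).1
    obtain ⟨M2, W2⟩ := hmw 2 (by omega)
    have D2 := (hv (u 2)).2
    have G2 := (hv (u 2)).1
    obtain ⟨M3, W3⟩ := hmw 3 (by omega)
    have D3 := (hv (u 3)).2
    have G3 := (hv (u 3)).1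
    obtain ⟨M4, W4⟩ := hmw 4 (by omega)
    have D4 := (hv (u 4)).2
    have G4 := (hv (u 4)).1
    obtain ⟨M5, W5⟩ := hmw 5 (by omega)
    have D5 := (hv (u 5)).2
    have G5 := (hv (u 5)).1
    obtain ⟨M6, W6⟩ := hmw 6 (by omega)
    have D6 := (hv (u 6)).2
    have G6 := (hv (u 6)).1
    obtain ⟨M7, W7⟩ := hmw 7 (by omega)
    have D7 := (hv (u 7)).2
    have G7 := (hv (u 7)).1
    obtain ⟨M8, W8⟩ := hmw 8 (by omega)
    have D8 := (hv (u 8)).2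
    have G8 := (hv (u 8)).1
    have A01 := ha 0 1 (by omega) (by omega)
    have B01 := Groth.L26.NumType.a_symm T (u 1) (u 0)
    have A02 := ha 0 2 (by omega) (by omega)
    have B02 := Groth.L26.NumType.a_symm T (u 2) (u 0)
    have A03 := ha 0 3 (by omega) (by omega)
    have B03 := Groth.L26.NumType.a_symm T (u 3) (u 0)
    have A04 := ha 0 4 (by omega) (by omega)
    have B04 := Groth.L26.NumType.a_symm T (u 4) (u 0)
    have A05 := ha 0 5 (by omega) (by omega)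
    have B05 := Groth.L26.NumType.a_symm T (u 5) (u 0)
    have A06 := ha 0 6 (by omega) (by omega)
    have B06 := Groth.L26.NumType.a_symm T (u 6) (u 0)
    have A07 := ha 0 7 (by omega) (by omega)
    have B07 := Groth.L26.NumType.a_symm T (u 7) (u 0)
    have A08 := ha 0 8 (by omega) (by omega)
    have B08 := Groth.L26.NumType.a_symm T (u 8) (u 0)
    have A12 := ha 1 2 (by omega) (by omega)
    have B12 := Groth.L26.NumType.a_symm T (u 2) (u 1)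
    have A13 := ha 1 3 (by omega) (by omega)
    have B13 := Groth.L26.NumType.a_symm T (u 3) (u 1)
    have A14 := ha 1 4 (by omega) (by omega)
    have B14 := Groth.L26.NumType.a_symm T (u 4) (u 1)
    have A15 := ha 1 5 (by omega) (by omega)
    have B15 := Groth.L26.NumType.a_symm T (u 5) (u 1)
    have A16 := ha 1 6 (by omega) (by omega)
    have B16 := Groth.L26.NumType.a_symm T (u 6) (u 1)
    have A17 := ha 1 7 (by omega) (by omega)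
    have B17 := Groth.L26.NumType.a_symm T (u 7) (u 1)
    have A18 := ha 1 8 (by omega) (by omega)
    have B18 := Groth.L26.NumType.a_symm T (u 8) (u 1)
    have A23 := ha 2 3 (by omega) (by omega)
    have B23 := Groth.L26.NumType.a_symm T (u 3) (u 2)
    have A24 := ha 2 4 (by omega) (by omega)
    have B24 := Groth.L26.NumType.a_symm T (u 4) (u 2)
    have A25 := ha 2 5 (by omega) (by omega)
    have B25 := Groth.L26.NumType.a_symm T (u 5) (u 2)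
    have A26 := ha 2 6 (by omega) (by omega)
    have B26 := Groth.L26.NumType.a_symm T (u 6) (u 2)
    have A27 := ha 2 7 (by omega) (by omega)
    have B27 := Groth.L26.NumType.a_symm T (u 7) (u 2)
    have A28 := ha 2 8 (by omega) (by omega)
    have B28 := Groth.L26.NumType.a_symm T (u 8) (u 2)
    have A34 := ha 3 4 (by omega) (by omega)
    have B34 := Groth.L26.NumType.a_symm T (u 4) (u 3)
    have A35 := ha 3 5 (by omega) (by omega)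
    have B35 := Groth.L26.NumType.a_symm T (u 5) (u 3)
    have A36 := ha 3 6 (by omega) (by omega)
    have B36 := Groth.L26.NumType.a_symm T (u 6) (u 3)
    have A37 := ha 3 7 (by omega) (by omega)
    have B37 := Groth.L26.NumType.a_symm T (u 7) (u 3)
    have A38 := ha 3 8 (by omega) (by omega)
    have B38 := Groth.L26.NumType.a_symm T (u 8) (u 3)
    have A45 := ha 4 5 (by omega) (by omega)
    have B45 := Groth.L26.NumType.a_symm T (u 5) (u 4)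
    have A46 := ha 4 6 (by omega) (by omega)
    have B46 := Groth.L26.NumType.a_symm T (u 6) (u 4)
    have A47 := ha 4 7 (by omega) (by omega)
    have B47 := Groth.L26.NumType.a_symm T (u 7) (u 4)
    have A48 := ha 4 8 (by omega) (by omega)
    have B48 := Groth.L26.NumType.a_symm T (u 8) (u 4)
    have A56 := ha 5 6 (by omega) (by omega)
    have B56 := Groth.L26.NumType.a_symm T (u 6) (u 5)
    have A57 := ha 5 7 (by omega) (by omega)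
    have B57 := Groth.L26.NumType.a_symm T (u 7) (u 5)
    have A58 := ha 5 8 (by omega) (by omega)
    have B58 := Groth.L26.NumType.a_symm T (u 8) (u 5)
    have A67 := ha 6 7 (by omega) (by omega)
    have B67 := Groth.L26.NumType.a_symm T (u 7) (u 6)
    have A68 := ha 6 8 (by omega) (by omega)
    have B68 := Groth.L26.NumType.a_symm T (u 8) (u 6)
    have A78 := ha 7 8 (by omega) (by omega)
    have B78 := Groth.L26.NumType.a_symm T (u 8) (u 7)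
    norm_num [Groth.L26.NumType.dnA, Groth.L26.NumType.dnM, Groth.L26.NumType.dnW] at M0 W0 M1 W1 M2 W2 M3 W3 M4 W4 M5 W5 M6 W6 M7 W7 M8 W8 A01 A02 A03 A04 A05 A06 A07 A08 A12 A13 A14 A15 A16 A17 A18 A23 A24 A25 A26 A27 A28 A34 A35 A36 A37 A38 A45 A46 A47 A48 A56 A57 A58 A67 A68 A78
    have hs : Function.Injective (fun i : Fin 9 => u ((![0, 1, 2, 3, 4, 5, 6, 7, 8] : Fin 9 → ℕ) i)) := fun a b e => by
      have h1 := hu (Set.mem_Iio.2 (by fin_cases a <;> simp)) (Set.mem_Iio.2 (by fin_cases b <;> simp)) e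
      fin_cases a <;> fin_cases b <;> simp at h1 ⊢
    refine ⟨Equiv.ofBijective _ (Finite.injective_iff_bijective.1 hs), m, w, Or.inr (Or.inr (Or.inr (Or.inl ?_)))⟩
    simp only [Equiv.ofBijective_apply, Fin.isValue, Matrix.cons_val]
    and_intros <;> omega
  · obtain ⟨-, u, m, w, hu, hmw, ha⟩ := h
    obtain ⟨M0, W0⟩ := hmw 0 (by omega)
    have D0 := (hv (u 0)).2
    have G0 := (hv (u 0)).1
    obtain ⟨M1, W1⟩ := hmw 1 (by omega)
    have D1 := (hv (u 1)).2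
    have G1 := (hv (u 1)).1
    obtain ⟨M2, W2⟩ := hmw 2 (by omega)
    have D2 := (hv (u 2)).2
    have G2 := (hv (u 2)).1
    obtain ⟨M3, W3⟩ := hmw 3 (by omega)
    have D3 := (hv (u 3)).2
    have G3 := (hv (u 3)).1
    obtain ⟨M4, W4⟩ := hmw 4 (by omega)
    have D4 := (hv (u 4)).2
    have G4 := (hv (u 4)).1
    obtain ⟨M5, W5⟩ := hmw 5 (by omega)
    have D5 := (hv (u 5)).2
    have G5 := (hv (u 5)).1
    obtain ⟨M6, W6⟩ := hmw 6 (by omega)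
    have D6 := (hv (u 6)).2
    have G6 := (hv (u 6)).1
    obtain ⟨M7, W7⟩ := hmw 7 (by omega)
    have D7 := (hv (u 7)).2
    have G7 := (hv (u 7)).1
    obtain ⟨M8, W8⟩ := hmw 8 (by omega)
    have D8 := (hv (u 8)).2
    have G8 := (hv (u 8)).1
    have A01 := ha 0 1 (by omega) (by omega)
    have B01 := Groth.L26.NumType.a_symm T (u 1) (u 0)
    have A02 := ha 0 2 (by omega) (by omega)
    have B02 := Groth.L26.NumType.a_symm T (u 2) (u 0)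
    have A03 := ha 0 3 (by omega) (by omega)
    have B03 := Groth.L26.NumType.a_symm T (u 3) (u 0)
    have A04 := ha 0 4 (by omega) (by omega)
    have B04 := Groth.L26.NumType.a_symm T (u 4) (u 0)
    have A05 := ha 0 5 (by omega) (by omega)
    have B05 := Groth.L26.NumType.a_symm T (u 5) (u 0)
    have A06 := ha 0 6 (by omega) (by omega)
    have B06 := Groth.L26.NumType.a_symm T (u 6) (u 0)
    have A07 := ha 0 7 (by omega) (by omega)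
    have B07 := Groth.L26.NumType.a_symm T (u 7) (u 0)
    have A08 := ha 0 8 (by omega) (by omega)
    have B08 := Groth.L26.NumType.a_symm T (u 8) (u 0)
    have A12 := ha 1 2 (by omega) (by omega)
    have B12 := Groth.L26.NumType.a_symm T (u 2) (u 1)
    have A13 := ha 1 3 (by omega) (by omega)
    have B13 := Groth.L26.NumType.a_symm T (u 3) (u 1)
    have A14 := ha 1 4 (by omega) (by omega)
    have B14 := Groth.L26.NumType.a_symm T (u 4) (u 1)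
    have A15 := ha 1 5 (by omega) (by omega)
    have B15 := Groth.L26.NumType.a_symm T (u 5) (u 1)
    have A16 := ha 1 6 (by omega) (by omega)
    have B16 := Groth.L26.NumType.a_symm T (u 6) (u 1)
    have A17 := ha 1 7 (by omega) (by omega)
    have B17 := Groth.L26.NumType.a_symm T (u 7) (u 1)
    have A18 := ha 1 8 (by omega) (by omega)
    have B18 := Groth.L26.NumType.a_symm T (u 8) (u 1)
    have A23 := ha 2 3 (by omega) (by omega)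
    have B23 := Groth.L26.NumType.a_symm T (u 3) (u 2)
    have A24 := ha 2 4 (by omega) (by omega)
    have B24 := Groth.L26.NumType.a_symm T (u 4) (u 2)
    have A25 := ha 2 5 (by omega) (by omega)
    have B25 := Groth.L26.NumType.a_symm T (u 5) (u 2)
    have A26 := ha 2 6 (by omega) (by omega)
    have B26 := Groth.L26.NumType.a_symm T (u 6) (u 2)
    have A27 := ha 2 7 (by omega) (by omega)
    have B27 := Groth.L26.NumType.a_symm T (u 7) (u 2)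
    have A28 := ha 2 8 (by omega) (by omega)
    have B28 := Groth.L26.NumType.a_symm T (u 8) (u 2)
    have A34 := ha 3 4 (by omega) (by omega)
    have B34 := Groth.L26.NumType.a_symm T (u 4) (u 3)
    have A35 := ha 3 5 (by omega) (by omega)
    have B35 := Groth.L26.NumType.a_symm T (u 5) (u 3)
    have A36 := ha 3 6 (by omega) (by omega)
    have B36 := Groth.L26.NumType.a_symm T (u 6) (u 3)
    have A37 := ha 3 7 (by omega) (by omega)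
    have B37 := Groth.L26.NumType.a_symm T (u 7) (u 3)
    have A38 := ha 3 8 (by omega) (by omega)
    have B38 := Groth.L26.NumType.a_symm T (u 8) (u 3)
    have A45 := ha 4 5 (by omega) (by omega)
    have B45 := Groth.L26.NumType.a_symm T (u 5) (u 4)
    have A46 := ha 4 6 (by omega) (by omega)
    have B46 := Groth.L26.NumType.a_symm T (u 6) (u 4)
    have A47 := ha 4 7 (by omega) (by omega)
    have B47 := Groth.L26.NumType.a_symm T (u 7) (u 4)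
    have A48 := ha 4 8 (by omega) (by omega)
    have B48 := Groth.L26.NumType.a_symm T (u 8) (u 4)
    have A56 := ha 5 6 (by omega) (by omega)
    have B56 := Groth.L26.NumType.a_symm T (u 6) (u 5)
    have A57 := ha 5 7 (by omega) (by omega)
    have B57 := Groth.L26.NumType.a_symm T (u 7) (u 5)
    have A58 := ha 5 8 (by omega) (by omega)
    have B58 := Groth.L26.NumType.a_symm T (u 8) (u 5)
    have A67 := ha 6 7 (by omega) (by omega)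
    have B67 := Groth.L26.NumType.a_symm T (u 7) (u 6)
    have A68 := ha 6 8 (by omega) (by omega)
    have B68 := Groth.L26.NumType.a_symm T (u 8) (u 6)
    have A78 := ha 7 8 (by omega) (by omega)
    have B78 := Groth.L26.NumType.a_symm T (u 8) (u 7)
    norm_num [Groth.L26.NumType.duA, Groth.L26.NumType.duM, Groth.L26.NumType.duW] at M0 W0 M1 W1 M2 W2 M3 W3 M4 W4 M5 W5 M6 W6 M7 W7 M8 W8 A01 A02 A03 A04 A05 A06 A07 A08 A12 A13 A14 A15 A16 A17 A18 A23 A24 A25 A26 A27 A28 A34 A35 A36 A37 A38 A45 A46 A47 A48 A56 A57 A58 A67 A68 A78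
    have hs : Function.Injective (fun i : Fin 9 => u ((![0, 1, 2, 3, 4, 5, 6, 7, 8] : Fin 9 → ℕ) i)) := fun a b e => by
      have h1 := hu (Set.mem_Iio.2 (by fin_cases a <;> simp)) (Set.mem_Iio.2 (by fin_cases b <;> simp)) e
      fin_cases a <;> fin_cases b <;> simp at h1 ⊢
    refine ⟨Equiv.ofBijective _ (Finite.injective_iff_bijective.1 hs), m, w, Or.inr (Or.inr (Or.inr (Or.inr (Or.inl ?_))))⟩
    simp only [Equiv.ofBijective_apply, Fin.isValue, Matrix.cons_val]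
    and_intros <;> omega
  · obtain ⟨-, u, m, w, hu, hmw, ha⟩ := h
    obtain ⟨M0, W0⟩ := hmw 0 (by omega)
    have D0 := (hv (u 0)).2
    have G0 := (hv (u 0)).1
    obtain ⟨M1, W1⟩ := hmw 1 (by omega)
    have D1 := (hv (u 1)).2
    have G1 := (hv (u 1)).1
    obtain ⟨M2, W2⟩ := hmw 2 (by omega)
    have D2 := (hv (u 2)).2
    have G2 := (hv (u 2)).1
    obtain ⟨M3, W3⟩ := hmw 3 (by omega)
    have D3 := (hv (u 3)).2
    have G3 := (hv (u 3)).1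
    obtain ⟨M4, W4⟩ := hmw 4 (by omega)
    have D4 := (hv (u 4)).2
    have G4 := (hv (u 4)).1
    obtain ⟨M5, W5⟩ := hmw 5 (by omega)
    have D5 := (hv (u 5)).2
    have G5 := (hv (u 5)).1
    obtain ⟨M6, W6⟩ := hmw 6 (by omega)
    have D6 := (hv (u 6)).2
    have G6 := (hv (u 6)).1
    obtain ⟨M7, W7⟩ := hmw 7 (by omega)
    have D7 := (hv (u 7)).2
    have G7 := (hv (u 7)).1
    obtain ⟨M8, W8⟩ := hmw 8 (by omega)
    have D8 := (hv (u 8)).2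
    have G8 := (hv (u 8)).1
    have A01 := ha 0 1 (by omega) (by omega)
    have B01 := Groth.L26.NumType.a_symm T (u 1) (u 0)
    have A02 := ha 0 2 (by omega) (by omega)
    have B02 := Groth.L26.NumType.a_symm T (u 2) (u 0)
    have A03 := ha 0 3 (by omega) (by omega)
    have B03 := Groth.L26.NumType.a_symm T (u 3) (u 0)
    have A04 := ha 0 4 (by omega) (by omega)
    have B04 := Groth.L26.NumType.a_symm T (u 4) (u 0)
    have A05 := ha 0 5 (by omega) (by omega)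
    have B05 := Groth.L26.NumType.a_symm T (u 5) (u 0)
    have A06 := ha 0 6 (by omega) (by omega)
    have B06 := Groth.L26.NumType.a_symm T (u 6) (u 0)
    have A07 := ha 0 7 (by omega) (by omega)
    have B07 := Groth.L26.NumType.a_symm T (u 7) (u 0)
    have A08 := ha 0 8 (by omega) (by omega)
    have B08 := Groth.L26.NumType.a_symm T (u 8) (u 0)
    have A12 := ha 1 2 (by omega) (by omega)
    have B12 := Groth.L26.NumType.a_symm T (u 2) (u 1)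
    have A13 := ha 1 3 (by omega) (by omega)
    have B13 := Groth.L26.NumType.a_symm T (u 3) (u 1)
    have A14 := ha 1 4 (by omega) (by omega)
    have B14 := Groth.L26.NumType.a_symm T (u 4) (u 1)
    have A15 := ha 1 5 (by omega) (by omega)
    have B15 := Groth.L26.NumType.a_symm T (u 5) (u 1)
    have A16 := ha 1 6 (by omega) (by omega)
    have B16 := Groth.L26.NumType.a_symm T (u 6) (u 1)
    have A17 := ha 1 7 (by omega) (by omega)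
    have B17 := Groth.L26.NumType.a_symm T (u 7) (u 1)
    have A18 := ha 1 8 (by omega) (by omega)
    have B18 := Groth.L26.NumType.a_symm T (u 8) (u 1)
    have A23 := ha 2 3 (by omega) (by omega)
    have B23 := Groth.L26.NumType.a_symm T (u 3) (u 2)
    have A24 := ha 2 4 (by omega) (by omega)
    have B24 := Groth.L26.NumType.a_symm T (u 4) (u 2)
    have A25 := ha 2 5 (by omega) (by omega)
    have B25 := Groth.L26.NumType.a_symm T (u 5) (u 2)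
    have A26 := ha 2 6 (by omega) (by omega)
    have B26 := Groth.L26.NumType.a_symm T (u 6) (u 2)
    have A27 := ha 2 7 (by omega) (by omega)
    have B27 := Groth.L26.NumType.a_symm T (u 7) (u 2)
    have A28 := ha 2 8 (by omega) (by omega)
    have B28 := Groth.L26.NumType.a_symm T (u 8) (u 2)
    have A34 := ha 3 4 (by omega) (by omega)
    have B34 := Groth.L26.NumType.a_symm T (u 4) (u 3)
    have A35 := ha 3 5 (by omega) (by omega)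
    have B35 := Groth.L26.NumType.a_symm T (u 5) (u 3)
    have A36 := ha 3 6 (by omega) (by omega)
    have B36 := Groth.L26.NumType.a_symm T (u 6) (u 3)
    have A37 := ha 3 7 (by omega) (by omega)
    have B37 := Groth.L26.NumType.a_symm T (u 7) (u 3)
    have A38 := ha 3 8 (by omega) (by omega)
    have B38 := Groth.L26.NumType.a_symm T (u 8) (u 3)
    have A45 := ha 4 5 (by omega) (by omega)
    have B45 := Groth.L26.NumType.a_symm T (u 5) (u 4)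
    have A46 := ha 4 6 (by omega) (by omega)
    have B46 := Groth.L26.NumType.a_symm T (u 6) (u 4)
    have A47 := ha 4 7 (by omega) (by omega)
    have B47 := Groth.L26.NumType.a_symm T (u 7) (u 4)
    have A48 := ha 4 8 (by omega) (by omega)
    have B48 := Groth.L26.NumType.a_symm T (u 8) (u 4)
    have A56 := ha 5 6 (by omega) (by omega)
    have B56 := Groth.L26.NumType.a_symm T (u 6) (u 5)
    have A57 := ha 5 7 (by omega) (by omega)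
    have B57 := Groth.L26.NumType.a_symm T (u 7) (u 5)
    have A58 := ha 5 8 (by omega) (by omega)
    have B58 := Groth.L26.NumType.a_symm T (u 8) (u 5)
    have A67 := ha 6 7 (by omega) (by omega)
    have B67 := Groth.L26.NumType.a_symm T (u 7) (u 6)
    have A68 := ha 6 8 (by omega) (by omega)
    have B68 := Groth.L26.NumType.a_symm T (u 8) (u 6)
    have A78 := ha 7 8 (by omega) (by omega)
    have B78 := Groth.L26.NumType.a_symm T (u 8) (u 7)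
    norm_num [Groth.L26.NumType.ddnA, Groth.L26.NumType.ddnM, Groth.L26.NumType.ddnW] at M0 W0 M1 W1 M2 W2 M3 W3 M4 W4 M5 W5 M6 W6 M7 W7 M8 W8 A01 A02 A03 A04 A05 A06 A07 A08 A12 A13 A14 A15 A16 A17 A18 A23 A24 A25 A26 A27 A28 A34 A35 A36 A37 A38 A45 A46 A47 A48 A56 A57 A58 A67 A68 A78
    have hs : Function.Injective (fun i : Fin 9 => u ((![0, 1, 2, 3, 4, 5, 6, 7, 8] : Fin 9 → ℕ) i)) := fun a b e => by
      have h1 := hu (Set.mem_Iio.2 (by fin_cases a <;> simp)) (Set.mem_Iio.2 (by fin_cases b <;> simp)) e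
      fin_cases a <;> fin_cases b <;> simp at h1 ⊢
    refine ⟨Equiv.ofBijective _ (Finite.injective_iff_bijective.1 hs), m, w, Or.inr (Or.inr (Or.inr (Or.inr (Or.inr (Or.inl ?_)))))⟩
    simp only [Equiv.ofBijective_apply, Fin.isValue, Matrix.cons_val]
    and_intros <;> omega
  · obtain ⟨-, u, m, w, hu, hmw, ha⟩ := h
    obtain ⟨M0, W0⟩ := hmw 0 (by omega)
    have D0 := (hv (u 0)).2
    have G0 := (hv (u 0)).1
    obtain ⟨M1, W1⟩ := hmw 1 (by omega)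
    have D1 := (hv (u 1)).2
    have G1 := (hv (u 1)).1
    obtain ⟨M2, W2⟩ := hmw 2 (by omega)
    have D2 := (hv (u 2)).2
    have G2 := (hv (u 2)).1
    obtain ⟨M3, W3⟩ := hmw 3 (by omega)
    have D3 := (hv (u 3)).2
    have G3 := (hv (u 3)).1
    obtain ⟨M4, W4⟩ := hmw 4 (by omega)
    have D4 := (hv (u 4)).2
    have G4 := (hv (u 4)).1
    obtain ⟨M5, W5⟩ := hmw 5 (by omega)
    have D5 := (hv (u 5)).2
    have G5 := (hv (u 5)).1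
    obtain ⟨M6, W6⟩ := hmw 6 (by omega)
    have D6 := (hv (u 6)).2
    have G6 := (hv (u 6)).1
    obtain ⟨M7, W7⟩ := hmw 7 (by omega)
    have D7 := (hv (u 7)).2
    have G7 := (hv (u 7)).1
    obtain ⟨M8, W8⟩ := hmw 8 (by omega)
    have D8 := (hv (u 8)).2
    have G8 := (hv (u 8)).1
    have A01 := ha 0 1 (by omega) (by omega)
    have B01 := Groth.L26.NumType.a_symm T (u 1) (u 0)
    have A02 := ha 0 2 (by omega) (by omega)
    have B02 := Groth.L26.NumType.a_symm T (u 2) (u 0)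
    have A03 := ha 0 3 (by omega) (by omega)
    have B03 := Groth.L26.NumType.a_symm T (u 3) (u 0)
    have A04 := ha 0 4 (by omega) (by omega)
    have B04 := Groth.L26.NumType.a_symm T (u 4) (u 0)
    have A05 := ha 0 5 (by omega) (by omega)
    have B05 := Groth.L26.NumType.a_symm T (u 5) (u 0)
    have A06 := ha 0 6 (by omega) (by omega)
    have B06 := Groth.L26.NumType.a_symm T (u 6) (u 0)
    have A07 := ha 0 7 (by omega) (by omega)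
    have B07 := Groth.L26.NumType.a_symm T (u 7) (u 0)
    have A08 := ha 0 8 (by omega) (by omega)
    have B08 := Groth.L26.NumType.a_symm T (u 8) (u 0)
    have A12 := ha 1 2 (by omega) (by omega)
    have B12 := Groth.L26.NumType.a_symm T (u 2) (u 1)
    have A13 := ha 1 3 (by omega) (by omega)
    have B13 := Groth.L26.NumType.a_symm T (u 3) (u 1)
    have A14 := ha 1 4 (by omega) (by omega)
    have B14 := Groth.L26.NumType.a_symm T (u 4) (u 1)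
    have A15 := ha 1 5 (by omega) (by omega)
    have B15 := Groth.L26.NumType.a_symm T (u 5) (u 1)
    have A16 := ha 1 6 (by omega) (by omega)
    have B16 := Groth.L26.NumType.a_symm T (u 6) (u 1)
    have A17 := ha 1 7 (by omega) (by omega)
    have B17 := Groth.L26.NumType.a_symm T (u 7) (u 1)
    have A18 := ha 1 8 (by omega) (by omega)
    have B18 := Groth.L26.NumType.a_symm T (u 8) (u 1)
    have A23 := ha 2 3 (by omega) (by omega)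
    have B23 := Groth.L26.NumType.a_symm T (u 3) (u 2)
    have A24 := ha 2 4 (by omega) (by omega)
    have B24 := Groth.L26.NumType.a_symm T (u 4) (u 2)
    have A25 := ha 2 5 (by omega) (by omega)
    have B25 := Groth.L26.NumType.a_symm T (u 5) (u 2)
    have A26 := ha 2 6 (by omega) (by omega)
    have B26 := Groth.L26.NumType.a_symm T (u 6) (u 2)
    have A27 := ha 2 7 (by omega) (by omega)
    have B27 := Groth.L26.NumType.a_symm T (u 7) (u 2)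
    have A28 := ha 2 8 (by omega) (by omega)
    have B28 := Groth.L26.NumType.a_symm T (u 8) (u 2)
    have A34 := ha 3 4 (by omega) (by omega)
    have B34 := Groth.L26.NumType.a_symm T (u 4) (u 3)
    have A35 := ha 3 5 (by omega) (by omega)
    have B35 := Groth.L26.NumType.a_symm T (u 5) (u 3)
    have A36 := ha 3 6 (by omega) (by omega)
    have B36 := Groth.L26.NumType.a_symm T (u 6) (u 3)
    have A37 := ha 3 7 (by omega) (by omega)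
    have B37 := Groth.L26.NumType.a_symm T (u 7) (u 3)
    have A38 := ha 3 8 (by omega) (by omega)
    have B38 := Groth.L26.NumType.a_symm T (u 8) (u 3)
    have A45 := ha 4 5 (by omega) (by omega)
    have B45 := Groth.L26.NumType.a_symm T (u 5) (u 4)
    have A46 := ha 4 6 (by omega) (by omega)
    have B46 := Groth.L26.NumType.a_symm T (u 6) (u 4)
    have A47 := ha 4 7 (by omega) (by omega)
    have B47 := Groth.L26.NumType.a_symm T (u 7) (u 4)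
    have A48 := ha 4 8 (by omega) (by omega)
    have B48 := Groth.L26.NumType.a_symm T (u 8) (u 4)
    have A56 := ha 5 6 (by omega) (by omega)
    have B56 := Groth.L26.NumType.a_symm T (u 6) (u 5)
    have A57 := ha 5 7 (by omega) (by omega)
    have B57 := Groth.L26.NumType.a_symm T (u 7) (u 5)
    have A58 := ha 5 8 (by omega) (by omega)
    have B58 := Groth.L26.NumType.a_symm T (u 8) (u 5)
    have A67 := ha 6 7 (by omega) (by omega)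
    have B67 := Groth.L26.NumType.a_symm T (u 7) (u 6)
    have A68 := ha 6 8 (by omega) (by omega)
    have B68 := Groth.L26.NumType.a_symm T (u 8) (u 6)
    have A78 := ha 7 8 (by omega) (by omega)
    have B78 := Groth.L26.NumType.a_symm T (u 8) (u 7)
    norm_num [Groth.L26.NumType.cycM, Groth.L26.NumType.ffA, Groth.L26.NumType.ffM] at M0 W0 M1 W1 M2 W2 M3 W3 M4 W4 M5 W5 M6 W6 M7 W7 M8 W8 A01 A02 A03 A04 A05 A06 A07 A08 A12 A13 A14 A15 A16 A17 A18 A23 A24 A25 A26 A27 A28 A34 A35 A36 A37 A38 A45 A46 A47 A48 A56 A57 A58 A67 A68 A78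
    have hs : Function.Injective (fun i : Fin 9 => u ((![0, 1, 2, 3, 4, 5, 6, 7, 8] : Fin 9 → ℕ) i)) := fun a b e => by
      have h1 := hu (Set.mem_Iio.2 (by fin_cases a <;> simp)) (Set.mem_Iio.2 (by fin_cases b <;> simp)) e
      fin_cases a <;> fin_cases b <;> simp at h1 ⊢
    refine ⟨Equiv.ofBijective _ (Finite.injective_iff_bijective.1 hs), m, w, Or.inr (Or.inr (Or.inr (Or.inr (Or.inr (Or.inr (Or.inl ?_))))))⟩
    simp only [Equiv.ofBijective_apply, Fin.isValue, Matrix.cons_val]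
    and_intros <;> omega
  · exact absurd h.1 (by omega)
  · exact absurd h.1 (by omega)
  · exact absurd h.1 (by omega)
  · exact absurd h.1 (by omega)
  · obtain ⟨-, u, m, w, hu, hmw, ha⟩ := h
    obtain ⟨M0, W0⟩ := hmw 0 (by omega)
    have D0 := (hv (u 0)).2
    have G0 := (hv (u 0)).1
    obtain ⟨M1, W1⟩ := hmw 1 (by omega)
    have D1 := (hv (u 1)).2
    have G1 := (hv (u 1)).1
    obtain ⟨M2, W2⟩ := hmw 2 (by omega)
    have D2 := (hv (u 2)).2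
    have G2 := (hv (u 2)).1
    obtain ⟨M3, W3⟩ := hmw 3 (by omega)
    have D3 := (hv (u 3)).2
    have G3 := (hv (u 3)).1
    obtain ⟨M4, W4⟩ := hmw 4 (by omega)
    have D4 := (hv (u 4)).2
    have G4 := (hv (u 4)).1
    obtain ⟨M5, W5⟩ := hmw 5 (by omega)
    have D5 := (hv (u 5)).2
    have G5 := (hv (u 5)).1
    obtain ⟨M6, W6⟩ := hmw 6 (by omega)
    have D6 := (hv (u 6)).2
    have G6 := (hv (u 6)).1
    obtain ⟨M7, W7⟩ := hmw 7 (by omega)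
    have D7 := (hv (u 7)).2
    have G7 := (hv (u 7)).1
    obtain ⟨M8, W8⟩ := hmw 8 (by omega)
    have D8 := (hv (u 8)).2
    have G8 := (hv (u 8)).1
    have A01 := ha 0 1 (by omega) (by omega)
    have B01 := Groth.L26.NumType.a_symm T (u 1) (u 0)
    have A02 := ha 0 2 (by omega) (by omega)
    have B02 := Groth.L26.NumType.a_symm T (u 2) (u 0)
    have A03 := ha 0 3 (by omega) (by omega)
    have B03 := Groth.L26.NumType.a_symm T (u 3) (u 0)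
    have A04 := ha 0 4 (by omega) (by omega)
    have B04 := Groth.L26.NumType.a_symm T (u 4) (u 0)
    have A05 := ha 0 5 (by omega) (by omega)
    have B05 := Groth.L26.NumType.a_symm T (u 5) (u 0)
    have A06 := ha 0 6 (by omega) (by omega)
    have B06 := Groth.L26.NumType.a_symm T (u 6) (u 0)
    have A07 := ha 0 7 (by omega) (by omega)
    have B07 := Groth.L26.NumType.a_symm T (u 7) (u 0)
    have A08 := ha 0 8 (by omega) (by omega)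
    have B08 := Groth.L26.NumType.a_symm T (u 8) (u 0)
    have A12 := ha 1 2 (by omega) (by omega)
    have B12 := Groth.L26.NumType.a_symm T (u 2) (u 1)
    have A13 := ha 1 3 (by omega) (by omega)
    have B13 := Groth.L26.NumType.a_symm T (u 3) (u 1)
    have A14 := ha 1 4 (by omega) (by omega)
    have B14 := Groth.L26.NumType.a_symm T (u 4) (u 1)
    have A15 := ha 1 5 (by omega) (by omega)
    have B15 := Groth.L26.NumType.a_symm T (u 5) (u 1)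
    have A16 := ha 1 6 (by omega) (by omega)
    have B16 := Groth.L26.NumType.a_symm T (u 6) (u 1)
    have A17 := ha 1 7 (by omega) (by omega)
    have B17 := Groth.L26.NumType.a_symm T (u 7) (u 1)
    have A18 := ha 1 8 (by omega) (by omega)
    have B18 := Groth.L26.NumType.a_symm T (u 8) (u 1)
    have A23 := ha 2 3 (by omega) (by omega)
    have B23 := Groth.L26.NumType.a_symm T (u 3) (u 2)
    have A24 := ha 2 4 (by omega) (by omega)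
    have B24 := Groth.L26.NumType.a_symm T (u 4) (u 2)
    have A25 := ha 2 5 (by omega) (by omega)
    have B25 := Groth.L26.NumType.a_symm T (u 5) (u 2)
    have A26 := ha 2 6 (by omega) (by omega)
    have B26 := Groth.L26.NumType.a_symm T (u 6) (u 2)
    have A27 := ha 2 7 (by omega) (by omega)
    have B27 := Groth.L26.NumType.a_symm T (u 7) (u 2)
    have A28 := ha 2 8 (by omega) (by omega)
    have B28 := Groth.L26.NumType.a_symm T (u 8) (u 2)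
    have A34 := ha 3 4 (by omega) (by omega)
    have B34 := Groth.L26.NumType.a_symm T (u 4) (u 3)
    have A35 := ha 3 5 (by omega) (by omega)
    have B35 := Groth.L26.NumType.a_symm T (u 5) (u 3)
    have A36 := ha 3 6 (by omega) (by omega)
    have B36 := Groth.L26.NumType.a_symm T (u 6) (u 3)
    have A37 := ha 3 7 (by omega) (by omega)
    have B37 := Groth.L26.NumType.a_symm T (u 7) (u 3)
    have A38 := ha 3 8 (by omega) (by omega)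
    have B38 := Groth.L26.NumType.a_symm T (u 8) (u 3)
    have A45 := ha 4 5 (by omega) (by omega)
    have B45 := Groth.L26.NumType.a_symm T (u 5) (u 4)
    have A46 := ha 4 6 (by omega) (by omega)
    have B46 := Groth.L26.NumType.a_symm T (u 6) (u 4)
    have A47 := ha 4 7 (by omega) (by omega)
    have B47 := Groth.L26.NumType.a_symm T (u 7) (u 4)
    have A48 := ha 4 8 (by omega) (by omega)
    have B48 := Groth.L26.NumType.a_symm T (u 8) (u 4)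
    have A56 := ha 5 6 (by omega) (by omega)
    have B56 := Groth.L26.NumType.a_symm T (u 6) (u 5)
    have A57 := ha 5 7 (by omega) (by omega)
    have B57 := Groth.L26.NumType.a_symm T (u 7) (u 5)
    have A58 := ha 5 8 (by omega) (by omega)
    have B58 := Groth.L26.NumType.a_symm T (u 8) (u 5)
    have A67 := ha 6 7 (by omega) (by omega)
    have B67 := Groth.L26.NumType.a_symm T (u 7) (u 6)
    have A68 := ha 6 8 (by omega) (by omega)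
    have B68 := Groth.L26.NumType.a_symm T (u 8) (u 6)
    have A78 := ha 7 8 (by omega) (by omega)
    have B78 := Groth.L26.NumType.a_symm T (u 8) (u 7)
    norm_num [Groth.L26.NumType.E8A, Groth.L26.NumType.E8M, Groth.L26.NumType.cycM] at M0 W0 M1 W1 M2 W2 M3 W3 M4 W4 M5 W5 M6 W6 M7 W7 M8 W8 A01 A02 A03 A04 A05 A06 A07 A08 A12 A13 A14 A15 A16 A17 A18 A23 A24 A25 A26 A27 A28 A34 A35 A36 A37 A38 A45 A46 A47 A48 A56 A57 A58 A67 A68 A78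
    have hs : Function.Injective (fun i : Fin 9 => u ((![0, 1, 2, 3, 4, 5, 6, 7, 8] : Fin 9 → ℕ) i)) := fun a b e => by
      have h1 := hu (Set.mem_Iio.2 (by fin_cases a <;> simp)) (Set.mem_Iio.2 (by fin_cases b <;> simp)) e
      fin_cases a <;> fin_cases b <;> simp at h1 ⊢
    refine ⟨Equiv.ofBijective _ (Finite.injective_iff_bijective.1 hs), m, w, Or.inr (Or.inr (Or.inr (Or.inr (Or.inr (Or.inr (Or.inr (?_)))))))⟩
    simp only [Equiv.ofBijective_apply, Fin.isValue, Matrix.cons_val]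
    and_intros <;> omega

end Groth.Agent.S7370
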