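import Groth.Statements.S7374
import Groth.Agent.L05.PtSeq.Curves

set_option autoImplicit false
set_option linter.style.haveILetI false
set_option backward.isDefEq.respectTransparency false
universe u
open CategoryTheory CategoryTheory.Limits AlgebraicGeometry
open Resolve

namespace Groth.Agent.S7374

open TopologicalSpace Groth.L05.PtSeq
open Groth.L03.BlowPt (ptI exc)

variable {n : ℕ}

/-- The local intersection number of two curves at a point of the first. -/
noncomputable def len {A B W : Scheme.{u}} (φ : A ⟶ W) (ψ : B ⟶ W) (c : A) : ℕ :=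
  (Module.length (A.presheaf.stalk c) (A.presheaf.stalk c ⧸ stI (ψ.ker.comap φ) c)).toNat

/-- The total intersection number. -/
noncomputable def tot {C : Fin n → Scheme.{u}} {W : Scheme.{u}} (f : ∀ i, C i ⟶ W) : ℕ :=
  ∑ i : Fin n, ∑ j : Fin n, if i = j then 0 else ∑ᶠ c, len (f i) (f j) c

theorem exists_regular (X : Scheme.{u}) [AlgebraicGeometry.IsNoetherian X] (Y : Fin n → Scheme.{u})
    [∀ i, IsIntegral (Y i)] [∀ i, AlgebraicGeometry.IsNoetherian (Y i)] (ι : ∀ i, Y i ⟶ X)
    [∀ i, IsClosedImmersion (ι i)]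
    [∀ i, QuasiCompact ((Y i).fromSpecStalk (genericPoint (Y i)))]
    [∀ i, QuasiSeparated ((Y i).fromSpecStalk (genericPoint (Y i)))]
    (hdim : ∀ i, topologicalKrullDim (Y i) = 1) (hfin : ∀ i, IsFinite (Curv2.normalizationι (Y i))) :
    ∀ k : ℕ, ∃ (X' : Scheme.{u}) (G : X' ⟶ X), IsPtBlowupSeq G ∧
      ∀ i : Fin n, ∃ (C : Scheme.{u}) (g : C ⟶ Y i) (f : C ⟶ X'), IsPtBlowupSeq g ∧ IsClosedImmersion f ∧
        f ≫ G = g ≫ ι i ∧ (i.1 < k → ∀ c : C, IsRegularLocalRing (C.presheaf.stalk c)) := by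
  intro k
  induction k with
  | zero =>
    exact ⟨X, 𝟙 X, IsPtBlowupSeq.iso (Iso.refl X), fun i => ⟨Y i, 𝟙 _, ι i, IsPtBlowupSeq.iso (Iso.refl _),
      inferInstance, by simp, fun h => absurd h (Nat.not_lt_zero _)⟩⟩
  | succ k ih =>
    obtain ⟨X', G, hG, hC⟩ := ih
    by_cases hk : k < n
    swap
    · refine ⟨X', G, hG, fun i => ?_⟩
      obtain ⟨C, g, f, hg, hf, hw, hreg⟩ := hC i
      exact ⟨C, g, f, hg, hf, hw, fun _ => hreg (by omega)⟩
    obtain ⟨C, g, f, hg, hf, hw, -⟩ := hC ⟨k, hk⟩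
    haveI := (ptSeq_noetherian hG).1
    haveI := hf
    obtain ⟨hi, hN, hp, -, -, -, hd, hfinC⟩ := seq_curve (hdim _) (hfin _) hg
    haveI := hi; haveI := hN
    haveI : QuasiCompact (C.fromSpecStalk (genericPoint C)) :=
      (quasiCompact_iff _).2 fun U _ _ =>
        haveI : Subsingleton ↥(Spec (C.presheaf.stalk (genericPoint C))) :=
          inferInstanceAs (Subsingleton (PrimeSpectrum C.functionField))
        Set.subsingleton_of_subsingleton.isCompact
    haveI := hfinC
    obtain ⟨C₁, r, hr, hreg₁⟩ := Groth.Agent.S7372.exists_isIso_or_split C hd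
    obtain ⟨X'', B, f₁, hB, -, hf₁, hw₁⟩ := Groth.Agent.S7373.exists_ambient hr inferInstance f inferInstance
    refine ⟨X'', B ≫ G, ptSeq_comp hB hG, fun i => ?_⟩
    obtain ⟨D, gD, fD, hgD, hfD, hwD, hregD⟩ := hC i
    rcases lt_trichotomy i.1 k with h | h | h
    · haveI := hfD
      obtain ⟨hiD, hND, -, -, -, hD0, hdD, -⟩ := seq_curve (hdim _) (hfin _) hgD
      haveI := hiD; haveI := hND
      obtain ⟨fD', hfD'⟩ := exists_lift hB hdD.le (hregD h) fD (gen_not_closed_of_closedImm fD hD0)
      haveI := (ptSeq_noetherian hB).2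
      haveI : IsClosedImmersion (fD' ≫ B) := by rw [hfD']; exact hfD
      exact ⟨D, gD, fD', hgD, IsClosedImmersion.of_comp fD' B,
        by rw [← Category.assoc, hfD', hwD], fun _ => hregD h⟩
    · obtain rfl : i = ⟨k, hk⟩ := Fin.ext h
      exact ⟨C₁, r ≫ g, f₁, ptSeq_comp hr hg, hf₁,
        by rw [← Category.assoc, hw₁, Category.assoc, hw, Category.assoc], fun _ => hreg₁⟩
    · obtain ⟨D', gD', fD', hgD', hfD', hwD'⟩ := exists_strict hB fD hfD
      exact ⟨D', gD' ≫ gD, fD', ptSeq_comp hgD' hgD, hfD',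
        by rw [← Category.assoc, hwD', Category.assoc, hwD, Category.assoc], fun h' => by omega⟩

theorem exists_disjoint (X : Scheme.{u}) [AlgebraicGeometry.IsNoetherian X] (C : Fin n → Scheme.{u})
    [∀ i, IsIntegral (C i)] [∀ i, AlgebraicGeometry.IsNoetherian (C i)]
    (hd : ∀ i, topologicalKrullDim (C i) ≤ 1) (hgen : ∀ i, ¬ IsClosed ({genericPoint (C i)} : Set (C i)))
    (hreg : ∀ i, ∀ c : C i, IsRegularLocalRing ((C i).presheaf.stalk c))
    (φ : ∀ i, C i ⟶ X) (hφ : ∀ i j, φ i (genericPoint (C i)) = φ j (genericPoint (C j)) → i = j) :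
    ∀ (m : ℕ) (X' : Scheme.{u}) (G : X' ⟶ X) (f : ∀ i, C i ⟶ X'), IsPtBlowupSeq G →
      (∀ i, IsClosedImmersion (f i) ∧ f i ≫ G = φ i) → tot f = m →
      ∃ (X'' : Scheme.{u}) (G' : X'' ⟶ X) (f' : ∀ i, C i ⟶ X''), IsPtBlowupSeq G' ∧
        (∀ i, IsClosedImmersion (f' i) ∧ f' i ≫ G' = φ i) ∧
        ∀ i j, i ≠ j → Disjoint (Set.range (f' i)) (Set.range (f' j)) := by
  intro m
  induction m using Nat.strong_induction_on with
  | _ m ih =>
  intro X' G f hG hf hm
  haveI := (ptSeq_noetherian hG).1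
  haveI : ∀ i, IsClosedImmersion (f i) := fun i => (hf i).1
  by_cases hall : ∀ i j, i ≠ j → Disjoint (Set.range (f i)) (Set.range (f j))
  · exact ⟨X', G, f, hG, hf, hall⟩
  push Not at hall
  obtain ⟨i₀, j₀, hij, hnd⟩ := hall
  obtain ⟨x, ⟨c₀, hc₀⟩, hxj⟩ := Set.not_disjoint_iff.1 hnd
  -- generic points do not meet the other curves
  have hη : ∀ i j, i ≠ j → f i (genericPoint (C i)) ∉ Set.range (f j) := by
    rintro i j hne ⟨c, hc⟩
    by_cases hcη : c = genericPoint (C j)
    · subst hcη
      refine hne (hφ i j ?_)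
      rw [← (hf i).2, ← (hf j).2, Scheme.Hom.comp_apply, Scheme.Hom.comp_apply, hc]
    · refine gen_not_closed_of_closedImm (f i) (hgen i) ?_
      rw [← hc, ← Set.image_singleton]
      exact (f j).isClosedMap _ (isClosed_of_ne_generic (hd j) hcη)
  have hsupp : ∀ i j, ∀ c, c ∈ (((f j).ker.comap (f i)).support : Set (C i)) ↔ f i c ∈ Set.range (f j) :=
    fun i j c => mem_support_comap_ker (f i) (f j) c
  have hηs : ∀ i j, i ≠ j → genericPoint (C i) ∉ (((f j).ker.comap (f i)).support : Set (C i)) :=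
    fun i j hne h => hη i j hne ((hsupp i j _).1 h)
  have hc₀η : c₀ ≠ genericPoint (C i₀) := fun e => hη i₀ j₀ hij (by rw [← e, hc₀]; exact hxj)
  have hxc : IsClosed ({x} : Set X') := by
    rw [← hc₀, ← Set.image_singleton]
    exact (f i₀).isClosedMap _ (isClosed_of_ne_generic (hd i₀) hc₀η)
  obtain ⟨X'', b, hb⟩ := Groth.L13.BU.exists_isBlowUp (ptI hxc)
  have hgx : ∀ i, f i (genericPoint (C i)) ≠ x := fun i e =>
    gen_not_closed_of_closedImm (f i) (hgen i) (by rw [e]; exact hxc)
  choose h hh _ using fun i => hb.2 (C i) (f i) (isEffCartier_comap_ptI (hd i) (hreg i) (f i) hxc (hgx i))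
  haveI : IsProper b := Groth.L13.BU.isProper_blowUp hb fun U =>
    haveI : IsNoetherianRing Γ(X', U.1) := IsLocallyNoetherian.component_noetherian U
    IsNoetherian.noetherian _
  haveI : IsLocallyNoetherian X'' := LocallyOfFiniteType.isLocallyNoetherian b
  haveI hci : ∀ i, IsClosedImmersion (h i) := fun i => by
    haveI : IsClosedImmersion (h i ≫ b) := by rw [hh i]; infer_instance
    exact IsClosedImmersion.of_comp (h i) b
  refine ih (tot h) ?_ X'' (b ≫ G) h (.step b G x hxc hb hG)
    (fun i => ⟨hci i, by rw [← Category.assoc, hh i, (hf i).2]⟩) rfl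
  -- the intersection numbers drop
  have hle : ∀ i j, (f j).ker.comap (f i) ≤ (h j).ker.comap (h i) := fun i j => by
    rw [← hh i, Scheme.IdealSheafData.comap_comp]
    refine (Scheme.IdealSheafData.map_gc (h i)).monotone_l ?_
    rw [← Scheme.IdealSheafData.le_map_iff_comap_le, ← Scheme.Hom.ker_comp, hh j]
  have hmono : ∀ i j, i ≠ j → ∀ c, len (h i) (h j) c ≤ len (f i) (f j) c := fun i j hne c => by
    refine ENat.toNat_le_toNat ?_ (finite_length_quot (hd i) c (hreg i c) (stI_ne_bot (hηs i j hne) c))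
    exact Module.length_le_of_surjective _ (Submodule.factor_surjective (stI_mono (hle i j) c))
  have hfin : ∀ i j, i ≠ j → (Function.support fun c => len (f i) (f j) c).Finite := fun i j hne => by
    refine (finite_isolated (((f j).ker.comap (f i)).support.isClosed)).subset fun c hc => ?_
    have hcs : c ∈ (((f j).ker.comap (f i)).support : Set (C i)) := by
      by_contra hcs
      refine hc ?_
      haveI : Subsingleton ((C i).presheaf.stalk c ⧸ stI ((f j).ker.comap (f i)) c) :=
        Ideal.Quotient.subsingleton_iff.2 ((stI_eq_top_iff _ c).2 hcs)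
      show (Module.length _ _).toNat = 0
      rw [Module.length_eq_zero]
      rfl
    refine ⟨hcs, fun w hw hwc => ?_⟩
    exact ((isClosed_of_ne_generic (hd i) fun e => hηs i j hne (e ▸ hw)).closure_eq ▸
      hwc.mem_closure : c ∈ ({w} : Set (C i))).symm
  have hstrict : len (h i₀) (h j₀) c₀ < len (f i₀) (f j₀) c₀ := by
    haveI := hreg i₀ c₀
    haveI := pir_stalk (hd i₀) c₀ (hreg i₀ c₀)
    haveI := Groth.L01.isDomain_of_regular ((C i₀).presheaf.stalk c₀)
    have hJ0 := stI_ne_bot (hηs i₀ j₀ hij) c₀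
    have hfinite := finite_length_quot (hd i₀) c₀ (hreg i₀ c₀) hJ0
    have hcl : IsClosed ({c₀} : Set (C i₀)) := isClosed_of_ne_generic (hd i₀) hc₀η
    have hcomp : (ptI hxc).comap (f i₀) = ptI hcl := Groth.Agent.S7358.comap_ptI (f i₀) hcl hxc hc₀
    obtain ⟨t, ht0, ht⟩ := stI_isPrincipal (isEffCartier_ptI (hd i₀) hcl (Ne.symm hc₀η) (hreg i₀ c₀)) c₀
    rw [stI_ptI] at ht
    have hKE : (f j₀).ker.comap b ≤ exc hxc b := (Scheme.IdealSheafData.map_gc b).monotone_l (by
      show (f j₀).ker ≤ Scheme.IdealSheafData.vanishingIdeal ⟨{x}, hxc⟩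
      rw [← Scheme.IdealSheafData.le_support_iff_le_vanishingIdeal]
      refine Set.singleton_subset_iff.2 ?_
      rw [Scheme.Hom.support_ker, (f j₀).isClosedEmbedding.isClosed_range.closure_eq]
      exact hxj)
    obtain ⟨τ, -, hτ, hτle⟩ := stI_le_span_mul ((f j₀).ker.comap b) (exc hxc b) hb.1 hKE (h i₀ c₀)
    have h2 := Ideal.map_mono (f := ((h i₀).stalkMap c₀).hom)
      (hτle.trans (Ideal.mul_mono le_rfl (stI_mono (satI_le_ker hxc b (f j₀) (h j₀) (hh j₀) (hgx j₀)) (h i₀ c₀))))
    rw [← stI_comap, ← Scheme.IdealSheafData.comap_comp, hh i₀, Ideal.map_mul, ← hτ, ← stI_comap,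
      show (exc hxc b).comap (h i₀) = ptI hcl by
        rw [← hcomp, ← hh i₀, Scheme.IdealSheafData.comap_comp],
      stI_ptI, ht, ← stI_comap] at h2
    have hlt : Module.length ((C i₀).presheaf.stalk c₀) ((C i₀).presheaf.stalk c₀ ⧸ stI ((h j₀).ker.comap (h i₀)) c₀) <
        Module.length ((C i₀).presheaf.stalk c₀) ((C i₀).presheaf.stalk c₀ ⧸ stI ((f j₀).ker.comap (f i₀)) c₀) := by
      by_cases htop : stI ((h j₀).ker.comap (h i₀)) c₀ = ⊤
      · haveI : Subsingleton ((C i₀).presheaf.stalk c₀ ⧸ stI ((h j₀).ker.comap (h i₀)) c₀) :=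
          Ideal.Quotient.subsingleton_iff.2 htop
        haveI : Nontrivial ((C i₀).presheaf.stalk c₀ ⧸ stI ((f j₀).ker.comap (f i₀)) c₀) :=
          Ideal.Quotient.nontrivial_iff.2 fun e =>
            (stI_eq_top_iff _ c₀).1 e ((hsupp _ _ _).2 (by rw [hc₀]; exact hxj))
        rw [Module.length_eq_zero]
        exact Module.length_pos
      · exact Groth.Agent.S7358.length_lt ht (nonZeroDivisors.ne_zero ht0) hJ0 h2 htop
    have h3 := hlt
    rw [← ENat.coe_toNat hfinite, ← ENat.coe_toNat (ne_top_of_lt hlt)] at h3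
    exact_mod_cast h3
  have hfs : ∀ i j (hne : i ≠ j) (φ' : C i → ℕ), (∀ c, φ' c ≤ len (f i) (f j) c) →
      (∑ᶠ c, φ' c) = ∑ c ∈ (hfin i j hne).toFinset, φ' c := fun i j hne φ' hle' => by
    refine finsum_eq_sum_of_support_subset _ fun c hc => ?_
    rw [Finset.mem_coe, Set.Finite.mem_toFinset, Function.mem_support]
    have := hle' c
    have := Function.mem_support.1 hc
    omega
  have hpair : ∀ i j, i ≠ j → (∑ᶠ c, len (h i) (h j) c) ≤ ∑ᶠ c, len (f i) (f j) c := fun i j hne => by
    rw [hfs i j hne _ (hmono i j hne), hfs i j hne _ fun c => le_rfl]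
    exact Finset.sum_le_sum fun c _ => hmono i j hne c
  have hpair₀ : (∑ᶠ c, len (h i₀) (h j₀) c) < ∑ᶠ c, len (f i₀) (f j₀) c := by
    rw [hfs i₀ j₀ hij _ (hmono i₀ j₀ hij), hfs i₀ j₀ hij _ fun c => le_rfl]
    refine Finset.sum_lt_sum (fun c _ => hmono i₀ j₀ hij c) ⟨c₀, ?_, hstrict⟩
    rw [Set.Finite.mem_toFinset, Function.mem_support]
    omega
  rw [← hm]
  refine Finset.sum_lt_sum (fun i _ => Finset.sum_le_sum fun j _ => ?_) ⟨i₀, Finset.mem_univ _,
    Finset.sum_lt_sum (fun j _ => ?_) ⟨j₀, Finset.mem_univ _, ?_⟩⟩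
  · split_ifs with e
    · exact le_rfl
    · exact hpair i j e
  · split_ifs with e
    · exact le_rfl
    · exact hpair i₀ j e
  · rw [if_neg hij, if_neg hij]; exact hpair₀


/-- Let X be a Noetherian scheme and Y_1, …, Y_n ⊂ X integral closed subschemes of dimension one (ideal
sheaves I_i), pairwise distinct, each with finite normalization morphism. Then there is a finite
sequence of blowings up in closed points g : X' → X such that the strict transforms Y'_i ⊂ X' —
integral closed subschemes (ideals I'_i) mapped by g into Y_i, isomorphically over a nonempty open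
of Y_i — are pairwise disjoint and have regular local rings. (The quasi-compactness and
quasi-separatedness binders always hold. The published statement does not say the Y_i are distinct;
for Y_1 = Y_2 the strict transforms coincide and cannot be disjoint, so distinctness is assumed
here, as the proof's use of the intersection multiplicities m_p(Y_i ∩ Y_j) requires.) -/
theorem result (X : Scheme.{u}) [IsNoetherian X] {n : ℕ}
    (I : Fin n → X.IdealSheafData) [∀ i, IsIntegral (I i).subscheme] (hdim : ∀ i, topologicalKrullDim ↥(I i).subscheme = 1)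
    [∀ i, QuasiCompact ((I i).subscheme.fromSpecStalk (genericPoint ↥(I i).subscheme))]
    [∀ i, QuasiSeparated ((I i).subscheme.fromSpecStalk (genericPoint ↥(I i).subscheme))]
    (hfin : ∀ i, IsFinite (Curv2.normalizationι (I i).subscheme)) (hdist : Function.Injective I) :
    ∃ (X' : Scheme.{u}) (g : X' ⟶ X), Resolve.IsPtBlowupSeq g ∧
      ∃ (I' : Fin n → X'.IdealSheafData) (g' : ∀ i, (I' i).subscheme ⟶ (I i).subscheme),
        (∀ i, IsIntegral (I' i).subscheme ∧ g' i ≫ (I i).subschemeι = (I' i).subschemeι ≫ g ∧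
          (∃ V : (I i).subscheme.Opens, (V : Set ↥(I i).subscheme).Nonempty ∧ IsIso (g' i ∣_ V)) ∧
          ∀ y : ↥(I' i).subscheme, IsRegularLocalRing ((I' i).subscheme.presheaf.stalk y)) ∧
        ∀ i j, i ≠ j → Disjoint ((I' i).support : Set X') ((I' j).support : Set X') := by
  haveI : ∀ i, IsLocallyNoetherian (I i).subscheme := fun i =>
    LocallyOfFiniteType.isLocallyNoetherian (I i).subschemeι
  haveI : ∀ i, CompactSpace (I i).subscheme := fun i =>
    QuasiCompact.compactSpace_of_compactSpace (I i).subschemeι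
  haveI : ∀ i, AlgebraicGeometry.IsNoetherian (I i).subscheme := fun i => ⟨⟩
  obtain ⟨X₁, G₁, hG₁, hC⟩ := exists_regular X (fun i => (I i).subscheme) (fun i => (I i).subschemeι) hdim hfin n
  choose C g f hg hf hw hreg using hC
  choose hi hN hp hbir hgg hC0 hdC _ using fun i => seq_curve (hdim i) (hfin i) (hg i)
  haveI := hi; haveI := hN
  have hinj : ∀ i j, (g i ≫ (I i).subschemeι) (genericPoint (C i)) = (g j ≫ (I j).subschemeι) (genericPoint (C j)) →
      i = j := fun i j e => by
    rw [Scheme.Hom.comp_apply, Scheme.Hom.comp_apply, hgg, hgg] at e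
    have key : ∀ k, closure (Set.range (I k).subschemeι) =
        closure {(I k).subschemeι (genericPoint (I k).subscheme)} := fun k => by
      rw [← Set.image_singleton, ← Set.image_univ, ← (genericPoint_spec (I k).subscheme),
        closure_image_closure (I k).subschemeι.continuous]
    refine hdist ?_
    rw [← (I i).ker_subschemeι, ← (I j).ker_subschemeι, Groth.L23.SchKer.ker_eq_vanishingIdeal,
      Groth.L23.SchKer.ker_eq_vanishingIdeal]
    exact congrArg _ (Closeds.ext (((key i).trans (by rw [e])).trans (key j).symm))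
  obtain ⟨X', G, f', hG, hf', hdisj⟩ := exists_disjoint X C (fun i => (hdC i).le) hC0 (fun i => hreg i i.isLt)
    (fun i => g i ≫ (I i).subschemeι) hinj _ X₁ G₁ f hG₁ (fun i => ⟨hf i, hw i⟩) rfl
  haveI : ∀ i, IsClosedImmersion (f' i) := fun i => (hf' i).1
  refine ⟨X', G, hG, fun i => (f' i).ker, fun i => inv (f' i).toImage ≫ g i, fun i => ?_, fun i j hne => ?_⟩
  · haveI : Nonempty (f' i).image := ⟨(f' i).toImage (genericPoint (C i))⟩
    haveI : IsIntegral (f' i).ker.subscheme := isIntegral_of_isOpenImmersion (inv (f' i).toImage)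
    haveI := hp i
    refine ⟨inferInstance, ?_, ?_, fun y => ?_⟩
    · rw [Category.assoc, ← (hf' i).2, IsIso.inv_comp_eq, ← Category.assoc, (f' i).toImage_imageι]
    · exact Groth.L05.MinDesing.isBir_comp (inv (f' i).toImage) (g i)
        (Groth.L05.MinDesing.isBir_of_iso (asIso (f' i).toImage).symm) (hbir i)
    · haveI := hreg i i.isLt (inv (f' i).toImage y)
      exact IsRegularLocalRing.of_ringEquiv (asIso ((inv (f' i).toImage).stalkMap y)).commRingCatIsoToRingEquiv
  · rw [Scheme.Hom.support_ker, Scheme.Hom.support_ker,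
      (f' i).isClosedEmbedding.isClosed_range.closure_eq, (f' j).isClosedEmbedding.isClosed_range.closure_eq]
    exact hdisj i j hne

end Groth.Agent.S7374
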