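import Groth.Statements.S7377
import Groth.Agent.L05.ResNorm.Main
import Groth.Agent.L05.ResNorm.Seq
import Groth.Agent.L05.PtSeq.NormNagata
import Groth.Agent.L19.IntegralHom

set_option autoImplicit false
universe u
open CategoryTheory CategoryTheory.Limits AlgebraicGeometry
open Resolve

namespace Groth.Agent.S7377
set_option backward.isDefEq.respectTransparency false
set_option backward.isDefEq.respectTransparency.types false
set_option backward.isDefEq.respectTransparency false
set_option backward.isDefEq.respectTransparency.types false
set_option linter.style.haveILetI false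

/-- Let Y be a two-dimensional integral Noetherian scheme. Then Y has a resolution of singularities (a
proper morphism X → Y from an integral scheme with regular local rings which is an isomorphism over
a nonempty open) if and only if Y has a resolution of singularities by normalized blowups: a finite
sequence of normalized blowings up in closed points X_n → … → X_1 → Y^ν, Y^ν → Y the normalization,
with X_n regular and the composite X_n → Y proper. (The published definition of such a resolution
asks every scheme of the sequence to be proper over Y; this row asks it of the composite X_n → Y,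
which suffices for the equivalence. Some properness is needed: without it the right-hand side would
hold whenever Y^ν happens to be regular, even when Y^ν → Y is not finite and Y has no resolution.
The quasi-compactness and quasi-separatedness binders on Spec K(Y) → Y always hold.) -/
theorem result (Y : Scheme.{u}) [IsIntegral Y] [IsNoetherian Y]
    (hdim : topologicalKrullDim Y = 2)
    [QuasiCompact (Y.fromSpecStalk (genericPoint Y))] [QuasiSeparated (Y.fromSpecStalk (genericPoint Y))] :
    (∃ (X : Scheme.{u}) (g : X ⟶ Y), IsProper g ∧ IsIntegral X ∧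
        (∃ V : Y.Opens, (V : Set Y).Nonempty ∧ IsIso (g ∣_ V)) ∧ ∀ x : X, IsRegularLocalRing (X.presheaf.stalk x)) ↔
      ∃ (Xn : Scheme.{u}) (g : Xn ⟶ Curv2.normalization Y), Resolve.IsNormPtBlowupSeq g ∧
        IsProper (g ≫ Curv2.normalizationι Y) ∧ ∀ x : Xn, IsRegularLocalRing (Xn.presheaf.stalk x) := by
  haveI : IsIntegralHom (Curv2.normalizationι Y) :=
    inferInstanceAs (IsIntegralHom (Y.fromSpecStalk (genericPoint Y)).fromNormalization)
  obtain ⟨hiN, hnN, -, ⟨eν, -⟩⟩ := Groth.Agent.S2351.result Y
  haveI := hiN
  have hset : IsFinite (Curv2.normalizationι Y) → ∃ (_ : IsNoetherian (Curv2.normalization Y)),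
      topologicalKrullDim (Curv2.normalization Y) ≤ 2 ∧
      Groth.L05.MinDesing.IsBir (Curv2.normalizationι Y) ∧
      ¬ IsClosed ({genericPoint (Curv2.normalization Y)} : Set (Curv2.normalization Y)) := by
    intro hfin
    haveI := hfin
    haveI : IsLocallyNoetherian (Curv2.normalization Y) :=
      LocallyOfFiniteType.isLocallyNoetherian (Curv2.normalizationι Y)
    haveI : CompactSpace (Curv2.normalization Y) := QuasiCompact.compactSpace_of_compactSpace (Curv2.normalizationι Y)
    have hb : Groth.L05.MinDesing.IsBir (Curv2.normalizationι Y) := Groth.L22.BM.exists_isIso_normalizationι Y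
    exact ⟨⟨⟩, (Groth.L19.topologicalKrullDim_le_of_isIntegralHom (Curv2.normalizationι Y)).trans hdim.le, hb,
      Groth.L05.PtSeq.gen_not_closed_of_bir _ hb (Groth.L05.PtSeq.gen_not_closed_of_dim hdim)⟩
  constructor
  · rintro ⟨X, g, hgp, hX, hbir, hreg⟩
    haveI := hgp; haveI := hX
    obtain ⟨V, hV, hiso⟩ := id hbir
    haveI := hiso
    obtain ⟨eg, -⟩ := Groth.L05.PtSeq.birational_data g hbir
    haveI : IsDominant g := ⟨by
      refine dense_iff_closure_eq.mpr (Set.eq_univ_of_univ_subset ?_)
      rw [← (genericPoint_spec Y).def]
      exact closure_mono (Set.singleton_subset_iff.mpr ⟨_, eg⟩)⟩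
    have hfin := Groth.Agent.S7321.isFinite_normalizationι_of_alteration Y g hreg
    haveI := hfin
    obtain ⟨hNN, hdN, hνb, hgenN⟩ := hset hfin
    haveI := hNN
    have hXn : Pi1.IsNormalScheme X := fun x => by
      haveI := hreg x
      haveI := Groth.L01.isDomain_of_regular (X.presheaf.stalk x)
      exact ⟨inferInstance, Groth.L03.RegularNormal.isIntegrallyClosed _⟩
    obtain ⟨k, hk, -⟩ := Groth.Agent.S9690.result Y g hXn fun z hz => by
      rw [irreducibleComponents_eq_singleton, Set.mem_singleton_iff] at hz
      rw [IsGenericPoint.eq (show IsGenericPoint z Set.univ from hz) (genericPoint_spec X)]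
      exact eg
    haveI : IsProper (k ≫ Curv2.normalizationι Y) := by rw [hk]; exact hgp
    haveI : IsProper k := IsProper.of_comp k (Curv2.normalizationι Y)
    have hkb : Groth.L05.MinDesing.IsBir k := Groth.L05.ResNorm.bir_left k _ hνb (by rw [hk]; exact hbir)
    obtain ⟨Xn, g', hg', hr⟩ := Groth.L05.ResNorm.exists_regular_seq hnN hdN hgenN k hreg hkb
    haveI := hg'.proper
    exact ⟨Xn, g', hg'.seq, inferInstance, hr⟩
  · rintro ⟨Xn, g, hseq, hprop, hreg⟩
    haveI := hprop
    obtain ⟨hi, eg, hgi⟩ := Groth.L05.ResNorm.seq_generic hseq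
    haveI := hi
    haveI : IsProper g := IsProper.of_comp g (Curv2.normalizationι Y)
    haveI : IsDominant (g ≫ Curv2.normalizationι Y) := ⟨by
      refine dense_iff_closure_eq.mpr (Set.eq_univ_of_univ_subset ?_)
      rw [← (genericPoint_spec Y).def]
      exact closure_mono (Set.singleton_subset_iff.mpr ⟨genericPoint Xn, by rw [Scheme.Hom.comp_apply, eg, eν]⟩)⟩
    have hfin := Groth.Agent.S7321.isFinite_normalizationι_of_alteration Y (g ≫ Curv2.normalizationι Y) hreg
    obtain ⟨hNN, -, hνb, -⟩ := hset hfin
    haveI := hNN
    haveI := hgi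
    obtain ⟨V, hVi, -, hV⟩ := Groth.Agent.S11555.result g hnN eg
      (ConcreteCategory.bijective_of_isIso (g.stalkMap (genericPoint Xn)))
    have hgb : Groth.L05.MinDesing.IsBir g := ⟨V, ⟨genericPoint _, by
      by_contra hn
      have h := hV _ hn
      rw [Groth.L05.PtSeq.dim_stalk_genericPoint] at h
      exact absurd h (by decide)⟩, hVi⟩
    exact ⟨Xn, g ≫ Curv2.normalizationι Y, hprop, hi, Groth.L05.MinDesing.isBir_comp g _ hgb hνb, hreg⟩

end Groth.Agent.S7377
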