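import Groth.Statements.S7384
import Groth.Agent.L19.Approx.Arrow
import Groth.Agent.S0590

set_option autoImplicit false
set_option backward.isDefEq.respectTransparency.types false
set_option backward.isDefEq.respectTransparency false
set_option linter.style.haveILetI false
universe u
open CategoryTheory AlgebraicGeometry
open Lim

namespace Groth.Agent.S7384

/-- Let `f : X → S` be a morphism of quasi-compact quasi-separated schemes. Then `f` is a limit of
morphisms `f_i : X_i → S_i` indexed by a nonempty directed set: there are inverse systems `X_i`,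
`S_i` of quasi-compact schemes locally of finite type over `ℤ` with affine transition morphisms, a
compatible family of morphisms `f_i`, and limit cones identified with `X` and `S` compatibly with
`f`. -/
theorem result {X S : Scheme.{u}} (f : X ⟶ S) [CompactSpace X]
    [QuasiSeparatedSpace X] [CompactSpace S] [QuasiSeparatedSpace S] :
    ∃ (I : Type u) (_ : Preorder I) (_ : IsDirected I (fun a b => a ≤ b)) (_ : Nonempty I)
      (DX DS : Iᵒᵖ ⥤ Scheme.{u}) (φ : DX ⟶ DS)
      (cX : Limits.Cone DX) (cS : Limits.Cone DS) (_ : Limits.IsLimit cX) (_ : Limits.IsLimit cS)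
      (eX : cX.pt ≅ X) (eS : cS.pt ≅ S),
      (∀ (i j : Iᵒᵖ) (a : i ⟶ j), IsAffineHom (DX.map a) ∧ IsAffineHom (DS.map a)) ∧
      (∀ i, CompactSpace (DX.obj i) ∧ CompactSpace (DS.obj i) ∧
        LocallyOfFiniteType (Limits.IsTerminal.from specULiftZIsTerminal (DX.obj i)) ∧
        LocallyOfFiniteType (Limits.IsTerminal.from specULiftZIsTerminal (DS.obj i))) ∧
      (∀ i, cX.π.app i ≫ φ.app i = eX.hom ≫ f ≫ eS.inv ≫ cS.π.app i) := by
  open Opposite in
  obtain ⟨I, _, _, _, DS, cS, hcS, haffS, hftS, ⟨eS⟩⟩ := Groth.Agent.S0590.result S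
  obtain ⟨J, _, _, _, DX, cX, hcX, haffX, hftX, ⟨eX⟩⟩ := Groth.Agent.S0590.result X
  haveI : IsNoetherianRing (ULift.{u} ℤ) :=
    isNoetherianRing_of_ringEquiv ℤ ULift.ringEquiv.symm
  haveI : IsLocallyNoetherian (Spec (CommRingCat.of (ULift.{u} ℤ))) := inferInstance
  have hS : ∀ i, LocallyOfFinitePresentation (specULiftZIsTerminal.from (DS.obj i)) := fun i =>
    LocallyOfFinitePresentation.iff_locallyOfFiniteType.mpr (hftS i).2
  haveI : ∀ {i j : Jᵒᵖ} (a : i ⟶ j), IsAffineHom (DX.map a) := fun a => haffX _ _ a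
  haveI : ∀ i, CompactSpace (DX.obj i) := fun i => (hftX i).1
  haveI : ∀ i, QuasiSeparatedSpace (DX.obj i) := fun i => by
    haveI := (hftX i).2
    haveI : IsLocallyNoetherian (DX.obj i) :=
      LocallyOfFiniteType.isLocallyNoetherian (specULiftZIsTerminal.from (DX.obj i))
    infer_instance
  obtain ⟨K, _, _, _, pi, hpi, pj, hpj, φ, hφ, ⟨hX⟩, ⟨hS'⟩⟩ :=
    Groth.L19.Approx.Arr.exists_arrow (f := eX.hom ≫ f ≫ eS.inv) hS hcX hcS
  refine ⟨K, inferInstance, inferInstance, inferInstance, hpj.functor.op.comp DX, hpi.functor.op.comp DS,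
    φ, cX.whisker hpj.functor.op, cS.whisker hpi.functor.op, hX, hS', eX, eS,
    fun i j a => ⟨haffX _ _ _, haffS _ _ _⟩,
    fun i => ⟨(hftX _).1, (hftS _).1, (hftX _).2, (hftS _).2⟩, fun i => ?_⟩
  show cX.π.app (op (pj i.unop)) ≫ φ.app i = _
  rw [hφ i]
  simp

end Groth.Agent.S7384
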