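import Groth.Statements.S7385
import Groth.Agent.L19.GenericFinite

set_option autoImplicit false
set_option backward.isDefEq.respectTransparency.types false
set_option backward.isDefEq.respectTransparency false
set_option linter.style.haveILetI false
universe u
open CategoryTheory AlgebraicGeometry
open Mor

namespace Groth.Agent.S7385

/-- Let `X` be a quasi-separated scheme and `η_1, …, η_n` pairwise distinct points, each the generic
point of an irreducible component of `X`. Then there are affine open neighbourhoods `U_i ∋ η_i`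
which are pairwise disjoint, and their union is an affine open containing all the `η_i`. -/
theorem result (X : Scheme.{u}) [QuasiSeparatedSpace X] {n : ℕ}
    (η : Fin n → X) (hη : ∀ i, closure ({η i} : Set X) ∈ irreducibleComponents (X : Type u))
    (hinj : Function.Injective η) :
    ∃ U : Fin n → X.Opens, (∀ i, IsAffineOpen (U i) ∧ η i ∈ U i) ∧
      (∀ i j, i ≠ j → Disjoint (U i) (U j)) ∧ IsAffineOpen (⨆ i, U i) := by
  classical
  have hmin : ∀ i, ∀ y : X, y ⤳ η i → y = η i := fun i y => Groth.L19.GenericIso.eq_of_specializes (hη i)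
  have : ∀ a b : Fin n, ∃ B B' : X.Opens, a ≠ b → η a ∈ B ∧ η b ∈ B' ∧ Disjoint B B' := fun a b => by
    by_cases h : a = b
    · exact ⟨⊤, ⊤, fun h' => (h' h).elim⟩
    · obtain ⟨B, B', -, -, h₁, h₂, h₃⟩ :=
        Groth.L23.Gen.exists_affine_disjoint (hmin a) (hmin b) (fun e => h (hinj e))
      exact ⟨B, B', fun _ => ⟨h₁, h₂, h₃⟩⟩
  choose B B' hB using this
  let O : Fin n → X.Opens := fun a => Finset.univ.inf fun b => if a = b then ⊤ else B a b ⊓ B' b a
  have hO : ∀ a, η a ∈ O a := fun a => by
    show η a ∈ Finset.univ.inf fun b => if a = b then (⊤ : X.Opens) else B a b ⊓ B' b a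
    rw [← SetLike.mem_coe, TopologicalSpace.Opens.coe_finset_inf, Finset.inf_set_eq_iInter, Set.mem_iInter₂]
    intro b _
    simp only [Function.comp_apply]
    split_ifs with h
    · trivial
    · exact ⟨(hB a b h).1, (hB b a (Ne.symm h)).2.1⟩
  have : ∀ a, ∃ V : X.Opens, IsAffineOpen V ∧ η a ∈ V ∧ V ≤ O a := fun a => by
    obtain ⟨_, ⟨V, hV, rfl⟩, hηV, hVO⟩ := X.isBasis_affineOpens.exists_subset_of_mem_open (hO a) (O a).2
    exact ⟨V, hV, hηV, hVO⟩
  choose V hV hηV hVO using this
  have hd : ∀ a b, a ≠ b → Disjoint (V a) (V b) := fun a b hab => by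
    refine ((hB a b hab).2.2).mono ?_ ?_
    · refine (hVO a).trans ((Finset.inf_le (Finset.mem_univ b)).trans ?_)
      simp [hab]
    · refine (hVO b).trans ((Finset.inf_le (Finset.mem_univ a)).trans ?_)
      simp [Ne.symm hab]
  exact ⟨V, fun i => ⟨hV i, hηV i⟩, hd, IsAffineOpen.iSup_of_disjoint hV hd⟩

end Groth.Agent.S7385
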