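import Groth.Statements.S7386
import Mathlib.AlgebraicGeometry.Limits
import Mathlib.AlgebraicGeometry.Morphisms.QuasiSeparated
import Mathlib.RingTheory.Ideal.Maximal
set_option linter.style.haveILetI false
set_option backward.isDefEq.respectTransparency false

set_option autoImplicit false
universe u
open CategoryTheory AlgebraicGeometry
open Mor

namespace Groth.Agent.S7386

/-- Let `X` be a quasi-separated scheme, `η_1, …, η_n` generic points of irreducible components of `X`
and `x` any point of `X`. Then some affine open of `X` contains `x` and all the `η_i`. -/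
theorem result (X : Scheme.{u}) [QuasiSeparatedSpace X] {n : ℕ}
    (η : Fin n → X) (hη : ∀ i, closure ({η i} : Set X) ∈ irreducibleComponents (X : Type u)) (x : X) :
    ∃ U : X.Opens, IsAffineOpen U ∧ x ∈ U ∧ ∀ i, η i ∈ U := by
  classical
  suffices ∀ s : Finset (Fin n), ∃ U : X.Opens, IsAffineOpen U ∧ x ∈ U ∧ ∀ i ∈ s, η i ∈ U by
    obtain ⟨U, hU, hx, h⟩ := this Finset.univ
    exact ⟨U, hU, hx, fun i => h i (Finset.mem_univ i)⟩
  intro s
  induction s using Finset.induction_on with
  | empty =>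
    obtain ⟨_, ⟨U, hU, rfl⟩, hxU, -⟩ :=
      X.isBasis_affineOpens.exists_subset_of_mem_open (Set.mem_univ x) isOpen_univ
    exact ⟨U, hU, hxU, by simp⟩
  | @insert a t _ ih =>
    obtain ⟨U, hU, hxU, ht⟩ := ih
    by_cases ha : η a ∈ U
    · exact ⟨U, hU, hxU, fun i hi => by
        rcases Finset.mem_insert.1 hi with rfl | hi
        exacts [ha, ht i hi]⟩
    obtain ⟨_, ⟨W, hW, rfl⟩, haW, -⟩ :=
      X.isBasis_affineOpens.exists_subset_of_mem_open (Set.mem_univ (η a)) isOpen_univ
    let p := hW.primeIdealOf ⟨η a, haW⟩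
    have hmin : ∀ q : PrimeSpectrum Γ(X, W), q.asIdeal ≤ p.asIdeal → q = p := by
      intro q hq
      have h1 : hW.fromSpec q ⤳ η a := by
        have := ((PrimeSpectrum.le_iff_specializes q p).1 hq).map hW.fromSpec.continuous
        rwa [hW.fromSpec_primeIdealOf] at this
      have h2 : closure ({hW.fromSpec q} : Set X) ⊆ closure {η a} :=
        (hη a).2 (isIrreducible_singleton.closure) (specializes_iff_closure_subset.1 h1)
      have h3 : hW.fromSpec q = η a := (h1.antisymm (specializes_iff_closure_subset.2 h2)).eq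
      exact hW.fromSpec.isOpenEmbedding.injective (h3.trans (hW.fromSpec_primeIdealOf ⟨η a, haW⟩).symm)
    -- every basic open of W missing the generic point is killed near it
    have key : ∀ f : Γ(X, W), η a ∉ X.basicOpen f →
        ∃ g : Γ(X, W), η a ∈ X.basicOpen g ∧ X.basicOpen g ⊓ X.basicOpen f = ⊥ := by
      intro f hf
      have hfp : f ∈ p.asIdeal := by
        by_contra hfp
        refine hf ?_
        have : p ∈ hW.fromSpec ⁻¹ᵁ X.basicOpen f := by
          rw [hW.fromSpec_preimage_basicOpen]; exact hfp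
        have h' : hW.fromSpec p ∈ X.basicOpen f := this
        rwa [hW.fromSpec_primeIdealOf] at h'
      let S : Submonoid Γ(X, W) := p.asIdeal.primeCompl ⊔ Submonoid.powers f
      have hS : (0 : Γ(X, W)) ∈ S := by
        by_contra h0
        obtain ⟨q, hq, -, hdis⟩ := Ideal.exists_le_prime_disjoint (⊥ : Ideal Γ(X, W)) S
          (Set.disjoint_left.2 fun z hz hzS => h0 (by rwa [Ideal.mem_bot.1 hz] at hzS))
        have hle : q ≤ p.asIdeal := fun z hz => by
          by_contra hzp
          exact Set.disjoint_left.1 hdis hz (Submonoid.mem_sup_left (T := Submonoid.powers f) hzp)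
        have := hmin ⟨q, hq⟩ hle
        exact Set.disjoint_left.1 hdis (show f ∈ q by have e : q = p.asIdeal := congrArg PrimeSpectrum.asIdeal this; rw [e]; exact hfp)
          (Submonoid.mem_sup_right (S := p.asIdeal.primeCompl) (Submonoid.mem_powers f))
      obtain ⟨g, hg, _, ⟨k, rfl⟩, hgf⟩ := Submonoid.mem_sup.1 hS
      refine ⟨g, ?_, ?_⟩
      · have : p ∈ hW.fromSpec ⁻¹ᵁ X.basicOpen g := by
          rw [hW.fromSpec_preimage_basicOpen]; exact hg
        have h' : hW.fromSpec p ∈ X.basicOpen g := this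
        rwa [hW.fromSpec_primeIdealOf] at h'
      · have hle : X.basicOpen g ⊓ X.basicOpen f ≤ X.basicOpen (g * f ^ (k + 1)) := by
          rw [X.basicOpen_mul, X.basicOpen_pow f (Nat.succ_pos k)]
        refine le_bot_iff.1 (hle.trans (le_of_eq ?_))
        rw [pow_succ, ← mul_assoc, show g * f ^ k = 0 from hgf, zero_mul, X.basicOpen_zero]
    have hc : IsCompact ((U ⊓ W : X.Opens) : Set X) := by
      exact QuasiSeparatedSpace.inter_isCompact _ _ U.isOpen hU.isCompact W.isOpen hW.isCompact
    choose f hfle hmem using fun z : (U ⊓ W : X.Opens) => hW.exists_basicOpen_le z z.2.2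
    obtain ⟨T, hT⟩ := hc.elim_finite_subcover (fun z => (X.basicOpen (f z) : Set X))
      (fun z => (X.basicOpen (f z)).isOpen) (fun z hz => Set.mem_iUnion.2 ⟨⟨z, hz⟩, hmem ⟨z, hz⟩⟩)
    choose g hga hgf using fun z => key (f z) (fun h => ha (hfle z h).1)
    let G : Γ(X, W) := ∏ z ∈ T, g z
    have hG : ∀ y, y ∈ X.basicOpen G ↔ y ∈ W ∧ ∀ z ∈ T, y ∈ X.basicOpen (g z) := by
      intro y
      refine ⟨fun hy => ⟨X.basicOpen_le _ hy, fun z hz => ?_⟩, fun ⟨hyW, hy⟩ => ?_⟩
      · have : X.basicOpen G = X.basicOpen (g z) ⊓ X.basicOpen (∏ w ∈ T.erase z, g w) := by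
          rw [← X.basicOpen_mul, Finset.mul_prod_erase T g hz]
        exact (this ▸ hy : y ∈ X.basicOpen (g z) ⊓ _).1
      · rw [X.mem_basicOpen (hx := hyW), map_prod]
        exact IsUnit.prod_iff.2 fun z hz => (X.mem_basicOpen (hx := hyW) (g z)).1 (hy z hz)
    have hdis : Disjoint U (X.basicOpen G) := by
      rw [disjoint_iff, eq_bot_iff]
      rintro y ⟨hyU, hyG⟩
      obtain ⟨z, hz, hyz⟩ := Set.mem_iUnion₂.1 (hT ⟨hyU, X.basicOpen_le _ hyG⟩)
      have : y ∈ X.basicOpen (g z) ⊓ X.basicOpen (f z) := ⟨((hG y).1 hyG).2 z hz, hyz⟩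
      rw [hgf z] at this
      exact this
    refine ⟨U ⊔ X.basicOpen G, hU.sup_of_disjoint (hW.basicOpen G) hdis,
      TopologicalSpace.Opens.mem_sup.2 (Or.inl hxU), fun i hi => ?_⟩
    rcases Finset.mem_insert.1 hi with rfl | hi
    · exact TopologicalSpace.Opens.mem_sup.2 (Or.inr ((hG _).2 ⟨haW, fun z _ => hga z⟩))
    · exact TopologicalSpace.Opens.mem_sup.2 (Or.inl (ht i hi))

end Groth.Agent.S7386
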