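import Groth.Statements.S7387
import Groth.Agent.L19.GenericFinite

set_option autoImplicit false
set_option backward.isDefEq.respectTransparency.types false
set_option backward.isDefEq.respectTransparency false
set_option linter.style.haveILetI false
universe u
open CategoryTheory AlgebraicGeometry
open Mor

namespace Groth.Agent.S7387

/-- A quasi-compact scheme has a dense open subscheme which is separated. -/
theorem result (X : Scheme.{u}) [CompactSpace X] :
    ∃ V : X.Opens, Dense (V : Set X) ∧ (V : Scheme.{u}).IsSeparated := by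
  classical
  obtain ⟨s, hs, e⟩ := (isCompact_iff_finite_and_eq_biUnion_affineOpens (U := (⊤ : X.Opens))).mp isCompact_univ
  haveI := hs.fintype
  let n := Fintype.card s
  let ε := (Fintype.equivFin s).symm
  let U : Fin n → X.Opens := fun i => (ε i).1.1
  let P : Fin n → Set X := fun i => ⋃ j, ⋃ (_ : j < i), (U j : Set X)
  let W : Fin n → X.Opens := fun i => U i ⊓ ⟨(closure (P i))ᶜ, isClosed_closure.isOpen_compl⟩
  have hd : ∀ a b, a < b → Disjoint (Set.range (W a).ι) (Set.range (W b).ι) := fun a b hab => by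
    rw [Scheme.Opens.range_ι, Scheme.Opens.range_ι, Set.disjoint_left]
    intro z ha hb
    exact hb.2 (subset_closure (Set.mem_biUnion (t := fun j => (U j : Set X)) hab ha.1))
  have hd' : Pairwise fun a b => Disjoint (Set.range (W a).ι) (Set.range (W b).ι) := fun a b hab => by
    rcases lt_or_gt_of_ne hab with h | h
    exacts [hd a b h, (hd b a h).symm]
  let T : Fin n → Scheme.{u} := fun i => (U i).toScheme
  haveI : ∀ i, IsAffine (T i) := fun i => (ε i).1.2
  let φ : (∐ fun i => (W i).toScheme) ⟶ X := Limits.Sigma.desc fun i => (W i).ι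
  let ψ : (∐ fun i => (W i).toScheme) ⟶ ∐ T :=
    Limits.Sigma.desc fun i => X.homOfLE (inf_le_left : W i ≤ U i) ≫ Limits.Sigma.ι T i
  haveI : IsOpenImmersion φ := isOpenImmersion_sigmaDesc _ _ hd'
  haveI : IsOpenImmersion ψ := isOpenImmersion_sigmaDesc _ _ fun a b hab => by
    show Disjoint (Set.range _) (Set.range _)
    rw [Set.disjoint_left]
    rintro _ ⟨z, rfl⟩ ⟨z', hz'⟩
    have h1 := disjoint_opensRange_sigmaι T a b hab
    exact h1.le_bot (show _ ∈ (Limits.Sigma.ι T a).opensRange ⊓ (Limits.Sigma.ι T b).opensRange from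
      ⟨⟨X.homOfLE inf_le_left z, rfl⟩, ⟨X.homOfLE inf_le_left z', hz'⟩⟩)
  haveI : (∐ fun i => (W i).toScheme).IsSeparated := ⟨by
    rw [show Limits.terminal.from (∐ fun i => (W i).toScheme) = ψ ≫ Limits.terminal.from _ from
      Limits.terminalIsTerminal.hom_ext _ _]
    infer_instance⟩
  refine ⟨φ.opensRange, ?_, ⟨?_⟩⟩
  · rw [dense_iff_inter_open]
    intro O hO ⟨z, hz⟩
    have hzT : z ∈ (⊤ : X.Opens) := trivial
    rw [e] at hzT
    obtain ⟨A, hA⟩ := TopologicalSpace.Opens.mem_iSup.mp hzT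
    obtain ⟨hAs, hzA⟩ := TopologicalSpace.Opens.mem_iSup.mp hA
    have hex : ∃ i, (O ∩ (U i : Set X)).Nonempty :=
      ⟨ε.symm ⟨A, hAs⟩, z, hz, by simpa [U] using hzA⟩
    obtain ⟨i, hi, hmin⟩ := wellFounded_lt.has_min {i : Fin n | (O ∩ (U i : Set X)).Nonempty} hex
    obtain ⟨w, hwO, hwU⟩ := hi
    have hwW : w ∈ W i := ⟨hwU, fun hwc => by
      obtain ⟨v, hv, hvP⟩ := mem_closure_iff.mp hwc O hO hwO
      obtain ⟨j, hj, hvj⟩ := Set.mem_iUnion₂.mp hvP
      exact hmin j ⟨v, hv, hvj⟩ hj⟩
    refine ⟨w, hwO, (Limits.Sigma.ι (fun i => (W i).toScheme) i) ⟨w, hwW⟩, ?_⟩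
    rw [← Scheme.Hom.comp_apply, Limits.Sigma.ι_desc]
    rfl
  · rw [show Limits.terminal.from φ.opensRange.toScheme = φ.isoOpensRange.inv ≫ Limits.terminal.from _ from
      Limits.terminalIsTerminal.hom_ext _ _]
    infer_instance

end Groth.Agent.S7387
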