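import Groth.Statements.S7389
import Mathlib.AlgebraicGeometry.Morphisms.Immersion
import Mathlib.RingTheory.Ideal.Operations

set_option autoImplicit false
set_option backward.isDefEq.respectTransparency.types false
set_option backward.isDefEq.respectTransparency false
set_option linter.style.haveILetI false
universe u
open CategoryTheory AlgebraicGeometry
open Mor

namespace Groth.Agent.S7389

/-- Let `X` be a scheme admitting an immersion into an affine scheme. Then any finite set of points of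
`X` is contained in an affine open of `X`. -/
theorem result {X Y : Scheme.{u}} [IsAffine Y] (ι : X ⟶ Y)
    [IsImmersion ι] (E : Set X) (hE : E.Finite) :
    ∃ U : X.Opens, IsAffineOpen U ∧ E ⊆ U := by
  classical
  let e : Y ≅ Spec Γ(Y, ⊤) := Y.isoSpec
  let j : X ⟶ Spec Γ(Y, ⊤) := ι ≫ e.hom
  let O := j.coborderRange
  obtain ⟨J, hJ⟩ := (PrimeSpectrum.isClosed_iff_zeroLocus_ideal ((O : Set (Spec Γ(Y, ⊤)))ᶜ)).mp
    O.isOpen.isClosed_compl
  have hmem : ∀ a ∈ hE.toFinset, ¬ J ≤ (j a).asIdeal := by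
    intro a _ hle
    have h1 : j a ∈ (O : Set (Spec Γ(Y, ⊤)))ᶜ := by rw [hJ]; exact hle
    apply h1
    rw [show j a = O.ι (j.liftCoborder a) from (congr($(j.liftCoborder_ι) a)).symm]
    exact (j.liftCoborder a).2
  have hns : ¬ ((J : Set Γ(Y, ⊤)) ⊆ ⋃ a ∈ (↑hE.toFinset : Set X), (j a).asIdeal) := by
    intro h
    rcases hE.toFinset.eq_empty_or_nonempty with hempty | ⟨a₀, ha₀⟩
    · rw [hempty] at h
      simpa using h (zero_mem J)
    · obtain ⟨a, ha, hle⟩ := (Ideal.subset_union_prime a₀ a₀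
        fun a _ _ _ => (j a).isPrime).mp h
      exact hmem a ha hle
  obtain ⟨g, hgJ, hg⟩ := Set.not_subset.mp hns
  have hgO : (PrimeSpectrum.basicOpen g : (Spec Γ(Y, ⊤)).Opens) ≤ O := by
    intro p hp
    by_contra hpO
    have h1 : p ∈ PrimeSpectrum.zeroLocus (J : Set Γ(Y, ⊤)) := hJ ▸ hpO
    exact hp (h1 hgJ)
  refine ⟨j ⁻¹ᵁ PrimeSpectrum.basicOpen g, ?_, fun a ha => fun hga => hg (Set.mem_biUnion (hE.mem_toFinset.mpr ha) hga)⟩
  have h2 : j ⁻¹ᵁ PrimeSpectrum.basicOpen g = j.liftCoborder ⁻¹ᵁ (O.ι ⁻¹ᵁ PrimeSpectrum.basicOpen g) := by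
    rw [← Scheme.Hom.comp_preimage, Scheme.Hom.liftCoborder_ι]
  rw [h2]
  refine IsAffineOpen.preimage ?_ j.liftCoborder
  rw [← Scheme.Hom.isAffineOpen_iff_of_isOpenImmersion O.ι,
    Scheme.Hom.image_preimage_eq_opensRange_inf, Scheme.Opens.opensRange_ι, inf_eq_right.mpr hgO]
  exact IsAffineOpen.Spec_basicOpen g

end Groth.Agent.S7389
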