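import Groth.Agent.L18.AmpleOps
import Groth.Statements.S7390
-- import your own Groth.Agent.* helpers here

set_option autoImplicit false
universe u
open CategoryTheory AlgebraicGeometry
open Mor

namespace Groth.Agent.S7390

/-- Let `X` be a scheme such that every point lies in some affine open `X_s`, the locus where a global
section `s` generates an invertible `O_X`-module `L` (both depending on the point). Then the
diagonal of `X` is an affine morphism. -/
theorem result (X : Scheme.{u})
    (h : ∀ x : X, ∃ (L : X.Modules) (s : Coh.structureModule X ⟶ L), PicF.IsInvertible L ∧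
      x ∈ CohB1.genLocus L s ∧ IsAffineOpen (CohB1.genLocus L s)) :
    IsAffineHom (Limits.pullback.diagonal (Limits.terminal.from X)) := by
  rw [isAffineHom_diagonal_iff]
  intro U _ V₁ _ V₂ _ h₁ h₂
  choose L s hL hx ha using h
  haveI : IsAffineHom V₂.ι := by
    refine isAffineHom_of_forall_exists_isAffineOpen _ fun x => ⟨_, hx x, ha x, ?_⟩
    rw [← Scheme.Hom.isAffineOpen_iff_of_isOpenImmersion V₂.ι, Scheme.Hom.image_preimage_eq_opensRange_inf,
      Scheme.Opens.opensRange_ι, inf_comm]
    exact Groth.L18.Ample.isAffineOpen_genLocus_inf (hL x) (s x) h₂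
  have := h₁.preimage V₂.ι
  rwa [← Scheme.Hom.isAffineOpen_iff_of_isOpenImmersion V₂.ι, Scheme.Hom.image_preimage_eq_opensRange_inf,
    Scheme.Opens.opensRange_ι, inf_comm] at this

end Groth.Agent.S7390
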