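import Groth.Statements.S7392
import Groth.Agent.L19.LocProj

set_option autoImplicit false
set_option backward.isDefEq.respectTransparency.types false
set_option backward.isDefEq.respectTransparency false
universe u
open CategoryTheory AlgebraicGeometry
open Opposite
open Mor

namespace Groth.Agent.S7392

/-- For a ring `A` and an `A`-module `M`, the module `M~` on `Spec A` is locally projective (projective
sections over every affine open) if and only if `M` is a projective `A`-module. -/
theorem result (A : CommRingCat.{u}) (M : ModuleCat.{u} A) :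
    (∀ U : (Spec A).Opens, IsAffineOpen U →
      Module.Projective ((Spec A).ringCatSheaf.obj.obj (op U)) ((tilde M).val.obj (op U))) ↔
      Module.Projective A M := by
  let γ := Scheme.ΓSpecIso A
  let σ : A →+* Γ(Spec A, ⊤) := γ.inv.hom
  let σ' : Γ(Spec A, ⊤) →+* A := γ.hom.hom
  haveI : RingHomInvPair σ σ' :=
    ⟨RingHom.ext fun a => congr($(γ.inv_hom_id) a), RingHom.ext fun a => congr($(γ.hom_inv_id) a)⟩
  haveI : RingHomInvPair σ' σ :=
    ⟨RingHom.ext fun a => congr($(γ.hom_inv_id) a), RingHom.ext fun a => congr($(γ.inv_hom_id) a)⟩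
  let L : M →ₛₗ[σ] Γ(tilde M, ⊤) :=
    { toFun := fun m => tilde.toOpen M ⊤ m
      map_add' := fun x y => map_add (tilde.toOpen M ⊤).hom x y
      map_smul' := fun a m => ((tilde.toOpen M ⊤).hom.map_smul a m).trans
        ((Scheme.Modules.smul_Spec_def a _).trans
          (congrArg (· • (show Γ(tilde M, ⊤) from (tilde.toOpen M ⊤).hom m))
            (Groth.L18.Frame.ro_self _ _))) }
  let e : M ≃ₛₗ[σ] Γ(tilde M, ⊤) :=
    LinearEquiv.ofBijective L (ConcreteCategory.bijective_of_isIso (tilde.isoTop M).hom)
  constructor
  · intro h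
    haveI : Module.Projective Γ(Spec A, ⊤) Γ(tilde M, ⊤) := h ⊤ (isAffineOpen_top _)
    exact Module.Projective.of_equiv e.symm
  · intro h U hU
    haveI : Coh.IsQCoh (tilde M) := Groth.L18.TildeF.isQCoh_tilde M
    haveI : Module.Projective Γ(Spec A, ⊤) Γ(tilde M, ⊤) := Module.Projective.of_equiv e
    exact Groth.L19.LocProj.projective_mono (tilde M) hU (isAffineOpen_top _) le_top

end Groth.Agent.S7392
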