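import Groth.Statements.S7393
import Groth.Agent.L06.GRingCrit
import Groth.Agent.L19.ClosedPointLN

set_option autoImplicit false
set_option backward.isDefEq.respectTransparency.types false
set_option backward.isDefEq.respectTransparency false
set_option linter.style.haveILetI false
universe u
open CategoryTheory AlgebraicGeometry
open Mor

namespace Groth.Agent.S7393

/-- A scheme `X` is a G-scheme (every point has an affine open neighbourhood whose coordinate ring is a
G-ring) if and only if `X` is locally Noetherian and, for every closed point `x`, the completion map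
of the local ring `O_{X,x} → O_{X,x}^∧` is a regular ring map. -/
theorem result (X : Scheme.{u}) :
    (∀ x : X, ∃ U : X.Opens, x ∈ U ∧ IsAffineOpen U ∧ CAlg.IsGRing Γ(X, U)) ↔
      IsLocallyNoetherian X ∧ ∀ x : X, IsClosed ({x} : Set X) →
        CAlg.IsRegularHom (X.presheaf.stalk x)
          (AdicCompletion (IsLocalRing.maximalIdeal (X.presheaf.stalk x)) (X.presheaf.stalk x)) := by
  constructor
  · intro h
    have hLN : IsLocallyNoetherian X := by
      choose V hxV hV hG using h
      refine isLocallyNoetherian_of_affine_cover (S := fun x => ⟨V x, hV x⟩) ?_ fun x => (hG x).1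
      rw [eq_top_iff]
      exact fun x _ => TopologicalSpace.Opens.mem_iSup.mpr ⟨x, hxV x⟩
    refine ⟨hLN, fun x _ => ?_⟩
    obtain ⟨U, hxU, hU, hG⟩ := h x
    letI : Algebra Γ(X, U) (X.presheaf.stalk x) :=
      TopCat.Presheaf.algebra_section_stalk X.presheaf ⟨x, hxU⟩
    haveI := hU.isLocalization_stalk ⟨x, hxU⟩
    exact Groth.L06.GRingTransport.isRegularHom_completion_of_ringEquiv
      (IsLocalization.algEquiv (hU.primeIdealOf ⟨x, hxU⟩).asIdeal.primeCompl
        (Localization.AtPrime (hU.primeIdealOf ⟨x, hxU⟩).asIdeal) (X.presheaf.stalk x)).toRingEquiv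
      (hG.2 _)
  · rintro ⟨hLN, h⟩
    haveI := hLN
    intro x₀
    obtain ⟨_, ⟨U, hU, rfl⟩, hx₀, -⟩ :=
      X.isBasis_affineOpens.exists_subset_of_mem_open (Set.mem_univ x₀) isOpen_univ
    refine ⟨U, hx₀, hU, IsLocallyNoetherian.component_noetherian ⟨U, hU⟩, fun p _ => ?_⟩
    have hxU : hU.fromSpec ⟨p, inferInstance⟩ ∈ U := hU.range_fromSpec.le ⟨⟨p, inferInstance⟩, rfl⟩
    obtain ⟨y, hxy, hy⟩ := Groth.L19.ClosedPointLN.exists_closed_specialization (hU.fromSpec ⟨p, inferInstance⟩)
    obtain ⟨_, ⟨V, hV, rfl⟩, hyV, -⟩ :=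
      X.isBasis_affineOpens.exists_subset_of_mem_open (Set.mem_univ y) isOpen_univ
    have hxV : hU.fromSpec ⟨p, inferInstance⟩ ∈ V := hxy.mem_open V.2 hyV
    haveI : IsNoetherianRing Γ(X, V) := IsLocallyNoetherian.component_noetherian ⟨V, hV⟩
    let py := (hV.primeIdealOf ⟨y, hyV⟩).asIdeal
    let px := (hV.primeIdealOf ⟨_, hxV⟩).asIdeal
    have hle : px ≤ py := (Groth.L19.ClosedPointLN.specializes_iff_le hV hxV hyV).1 hxy
    letI : Algebra Γ(X, V) (X.presheaf.stalk y) :=
      TopCat.Presheaf.algebra_section_stalk X.presheaf ⟨y, hyV⟩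
    haveI := hV.isLocalization_stalk ⟨y, hyV⟩
    let A := Localization.AtPrime py
    have hG : CAlg.IsGRing A := by
      haveI : IsNoetherianRing A := IsLocalization.isNoetherianRing py.primeCompl A inferInstance
      refine Groth.L06.GRingCrit.isGRing_of_maximal fun m _ => ?_
      obtain rfl : m = IsLocalRing.maximalIdeal A := IsLocalRing.eq_maximalIdeal ‹_›
      exact Groth.L06.GRingTransport.isRegularHom_completion_of_ringEquiv
        ((IsLocalization.algEquiv py.primeCompl (X.presheaf.stalk y) A).toRingEquiv.trans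
          (IsLocalization.atUnits A (IsLocalRing.maximalIdeal A).primeCompl
            (S := Localization.AtPrime (IsLocalRing.maximalIdeal A))
            (fun a ha => (IsUnit.mem_submonoid_iff a).2 (by simpa using ha))).toRingEquiv)
        (h y hy)
    let P := px.map (algebraMap Γ(X, V) A)
    haveI : P.IsPrime := Ideal.isPrime_map_of_isLocalizationAtPrime py hle
    have hPc : P.comap (algebraMap Γ(X, V) A) = px := Ideal.under_map_of_isLocalizationAtPrime py hle
    haveI : IsLocalization.AtPrime (Localization.AtPrime P) px := by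
      show IsLocalization px.primeCompl _
      rw [show px.primeCompl = (P.comap (algebraMap Γ(X, V) A)).primeCompl from
        Submonoid.ext fun z => not_congr (iff_of_eq (congrArg (fun J : Ideal Γ(X, V) => z ∈ J) hPc.symm))]
      exact IsLocalization.isLocalization_isLocalization_atPrime_isLocalization py.primeCompl
        (Localization.AtPrime P) P
    letI : Algebra Γ(X, U) (X.presheaf.stalk (hU.fromSpec ⟨p, inferInstance⟩)) :=
      TopCat.Presheaf.algebra_section_stalk X.presheaf ⟨_, hxU⟩
    haveI := hU.isLocalization_stalk' ⟨p, inferInstance⟩ hxU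
    letI : Algebra Γ(X, V) (X.presheaf.stalk (hU.fromSpec ⟨p, inferInstance⟩)) :=
      TopCat.Presheaf.algebra_section_stalk X.presheaf ⟨_, hxV⟩
    haveI := hV.isLocalization_stalk ⟨_, hxV⟩
    exact Groth.L06.GRingTransport.isRegularHom_completion_of_ringEquiv
      ((IsLocalization.algEquiv px.primeCompl (Localization.AtPrime P)
          (X.presheaf.stalk (hU.fromSpec ⟨p, inferInstance⟩))).toRingEquiv.trans
        (IsLocalization.algEquiv p.primeCompl
          (X.presheaf.stalk (hU.fromSpec ⟨p, inferInstance⟩)) (Localization.AtPrime p)).toRingEquiv)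
      (hG.2 P)

end Groth.Agent.S7393
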