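import Groth.Statements.S7394
import Groth.Agent.L19.CommonField
import Mathlib.AlgebraicGeometry.ResidueField

set_option autoImplicit false
set_option backward.isDefEq.respectTransparency.types false
set_option backward.isDefEq.respectTransparency false
set_option linter.style.haveILetI false
universe u
open CategoryTheory AlgebraicGeometry
open Lim

namespace Groth.Agent.S7394

/-- Let `S` be a scheme and `T_i → S`, `i ∈ I`, surjective affine morphisms. Then any product of the
`T_i` in the category of schemes over `S` maps surjectively onto `S`. -/
theorem result {S : Scheme.{u}} {I : Type u} (T : I → Over S)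
    (hT : ∀ i, IsAffineHom (T i).hom ∧ Surjective (T i).hom) (c : Limits.Fan T) (hc : Limits.IsLimit c) :
    Surjective c.pt.hom := by
  refine ⟨fun s => ?_⟩
  choose t ht using fun i => (hT i).2.surj s
  letI : ∀ i, Algebra (S.residueField s) ((T i).left.residueField (t i)) := fun i =>
    ((S.residueFieldCongr (ht i).symm).hom ≫ (T i).hom.residueFieldMap (t i)).hom.toAlgebra
  obtain ⟨L, _, _, hL⟩ := Groth.L19.CommonField.exists_algHom_all (S.residueField s)
    fun i => (T i).left.residueField (t i)
  let φ := fun i => (hL i).some
  let p : Over S := Over.mk (Spec.map (CommRingCat.ofHom (algebraMap (S.residueField s) L)) ≫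
    S.fromSpecResidueField s)
  let π : ∀ i, p ⟶ T i := fun i => Over.homMk
    (Spec.map (CommRingCat.ofHom (φ i).toRingHom) ≫ (T i).left.fromSpecResidueField (t i)) (by
      show (_ ≫ _) ≫ (T i).hom = _ ≫ _
      rw [Category.assoc, ← Scheme.Hom.SpecMap_residueFieldMap_fromSpecResidueField,
        ← Scheme.residueFieldCongr_fromSpecResidueField (ht i).symm]
      simp only [← Spec.map_comp_assoc]
      congr 2
      ext a
      exact (φ i).commutes a)
  let l : p ⟶ c.pt := hc.lift (Limits.Fan.mk p π)
  refine ⟨l.left (IsLocalRing.closedPoint L), ?_⟩
  have : l.left ≫ c.pt.hom = p.hom := Over.w l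
  rw [← Scheme.Hom.comp_apply, this]
  exact S.fromSpecResidueField_apply s _

end Groth.Agent.S7394
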