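import Groth.Statements.S7397

set_option autoImplicit false
universe u
open Mor

namespace Groth.Agent.S7397

/-- Let `A ⊆ B` be a ring extension and `b ∈ B`, `b ∉ A`, with `b^n, b^(n+1) ∈ A` for some `n ≥ 2`. Then
some `b' ∈ B` with `b' ∉ A` has `b'^2 ∈ A` and `b'^3 ∈ A`. -/
theorem result {B : Type u} [CommRing B] (A : Subring B) (b : B) (hb : b ∉ A)
    (n : ℕ) (hn : 2 ≤ n) (h1 : b ^ n ∈ A) (h2 : b ^ (n + 1) ∈ A) :
    ∃ b' : B, b' ∉ A ∧ b' ^ 2 ∈ A ∧ b' ^ 3 ∈ A := by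
  classical
  have hex : ∃ m, ∀ k ≥ m, b ^ k ∈ A := by
    refine ⟨n * n, fun k hk => ?_⟩
    have hj : k % n ≤ k / n := by
      have h' : k % n < n := Nat.mod_lt _ (by omega)
      have : n ≤ k / n := (Nat.le_div_iff_mul_le (by omega)).mpr hk
      omega
    obtain ⟨i, hi⟩ := Nat.exists_eq_add_of_le hj
    rw [show k = n * i + (n + 1) * (k % n) by
      conv_lhs => rw [← Nat.div_add_mod k n, hi]
      rw [Nat.mul_add, Nat.succ_mul]; omega, pow_add, pow_mul, pow_mul]
    exact mul_mem (pow_mem h1 _) (pow_mem h2 _)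
  let m := Nat.find hex
  have hm : ∀ k ≥ m, b ^ k ∈ A := Nat.find_spec hex
  have hm2 : 2 ≤ m := by
    by_contra hlt
    exact hb (by simpa using hm 1 (by omega))
  refine ⟨b ^ (m - 1), fun hy => ?_, ?_, ?_⟩
  · refine Nat.find_min hex (show m - 1 < m by omega) fun k hk => ?_
    rcases Nat.eq_or_lt_of_le hk with rfl | h'
    · exact hy
    · exact hm k (by omega)
  · rw [← pow_mul]; exact hm _ (by omega)
  · rw [← pow_mul]; exact hm _ (by omega)

end Groth.Agent.S7397
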