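import Groth.Statements.S7399
import Groth.Agent.L19.Tower.Scheme

set_option autoImplicit false
set_option backward.isDefEq.respectTransparency.types false
set_option backward.isDefEq.respectTransparency false
set_option linter.style.haveILetI false
universe u
open CategoryTheory AlgebraicGeometry
open Mor

namespace Groth.Agent.S7399

/-- Let `A ⊆ B` be a proper ring extension inducing a universal homeomorphism `Spec B → Spec A`. Then
either there is `b ∈ B`, `b ∉ A`, with `b^2, b^3 ∈ A`, or there are a prime number `p` and `b ∈ B`,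
`b ∉ A`, with `p b, b^p ∈ A`. (Here `A → B` is an injective, non-surjective ring map and membership
in `A` means membership in its image.) -/
theorem result {A B : Type u} [CommRing A] [CommRing B]
    (φ : A →+* B) (hinj : Function.Injective φ) (hns : ¬ Function.Surjective φ)
    (hU : FlatMor.IsUnivHomeo (Spec.map (CommRingCat.ofHom φ))) :
    (∃ b : B, b ∉ φ.range ∧ b ^ 2 ∈ φ.range ∧ b ^ 3 ∈ φ.range) ∨
      ∃ (p : ℕ) (b : B), p.Prime ∧ b ∉ φ.range ∧ (p : B) * b ∈ φ.range ∧ b ^ p ∈ φ.range := by
  letI := φ.toAlgebra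
  by_contra hc
  rw [not_or] at hc
  refine hns fun b => ?_
  have h := Groth.L19.Tower.gen_pPr_of_isUnivHomeo (A := A) (B := B) hU ⊥
    fun b hb => by
      by_contra hb'
      have hnot : b ∉ φ.range := fun h => hb' (Algebra.mem_bot.mpr h)
      rcases hb with ⟨h2, h3⟩ | ⟨p, hp, h1, h2⟩
      · exact hc.1 ⟨b, hnot, Algebra.mem_bot.mp h2, Algebra.mem_bot.mp h3⟩
      · exact hc.2 ⟨p, b, hp, hnot, Algebra.mem_bot.mp h1, Algebra.mem_bot.mp h2⟩
  exact Algebra.mem_bot.mp (h.symm ▸ Algebra.mem_top : b ∈ (⊥ : Subalgebra A B))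

end Groth.Agent.S7399
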