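import Groth.Statements.S7400
import Groth.Agent.L19.Tower.Scheme

set_option autoImplicit false
set_option backward.isDefEq.respectTransparency.types false
set_option backward.isDefEq.respectTransparency false
set_option linter.style.haveILetI false
universe u
open CategoryTheory AlgebraicGeometry
open Mor

namespace Groth.Agent.S7400

/-- Let `A ⊆ B` be a ring extension. The morphism `Spec B → Spec A` is a universal homeomorphism with
all residue field extensions trivial exactly when each finite subset of `B` is contained in some
`A[b_1, …, b_n] ⊆ B` such that `b_i^2` and `b_i^3` lie in `A[b_1, …, b_{i-1}]` for every `i`. (Here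
`A → B` is an injective ring map and `A[b_1, …, b_{i-1}]` is the `A`-subalgebra generated by the
earlier entries.) -/
theorem result {A B : Type u} [CommRing A] [CommRing B] [Algebra A B]
    (hinj : Function.Injective (algebraMap A B)) :
    (FlatMor.IsUnivHomeo (Spec.map (CommRingCat.ofHom (algebraMap A B))) ∧
      ∀ x : Spec (CommRingCat.of B),
        Function.Surjective ((Spec.map (CommRingCat.ofHom (algebraMap A B))).residueFieldMap x)) ↔
    ∀ E : Finset B, ∃ l : List B, (↑E : Set B) ⊆ Algebra.adjoin A {b : B | b ∈ l} ∧
      ∀ i : Fin l.length, l.get i ^ 2 ∈ Algebra.adjoin A {b : B | ∃ j : Fin l.length, j < i ∧ b = l.get j} ∧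
        l.get i ^ 3 ∈ Algebra.adjoin A {b : B | ∃ j : Fin l.length, j < i ∧ b = l.get j} := by
  open Groth.L19.Tower in
  constructor
  · rintro ⟨hU, hres⟩ E
    have h := gen_pSq_of_isUnivHomeo hU hres (reach PSq pSq_mono) pSq_closed_reach
    obtain ⟨l, hl, hE⟩ := exists_adm_finset pSq_mono E fun x _ => h.symm ▸ Algebra.mem_top
    exact ⟨l, hE, hl⟩
  · intro h
    have hg : Gen A B PSq := gen_of_covered pSq_mono fun b => by
      obtain ⟨l, hl, hadm⟩ := h {b}
      exact ⟨l, hadm, hl (Finset.mem_coe.mpr (Finset.mem_singleton_self b))⟩
    haveI := isIntegral_of_gen hg.toPPr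
    exact ⟨isUnivHomeo_of_gen hg.toPPr (surjective_spec_of_injective hinj),
      surjective_residueFieldMap_of_gen hg⟩

end Groth.Agent.S7400
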