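import Groth.Statements.S7402
import Groth.Agent.L19.Tower.Scheme

set_option autoImplicit false
set_option backward.isDefEq.respectTransparency.types false
set_option backward.isDefEq.respectTransparency false
set_option linter.style.haveILetI false
universe u
open CategoryTheory AlgebraicGeometry
open Polynomial
open Mor

namespace Groth.Agent.S7402

/-- Let `A` be a ring and `x, y ∈ A` with `x^3 = y^2`. Then `A → B = A[t]/(t^2 - x, t^3 - y)` induces a
universal homeomorphism on spectra and isomorphisms on residue fields. -/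
theorem result (A : Type u) [CommRing A] (x y : A) (h : x ^ 3 = y ^ 2) :
    FlatMor.IsUnivHomeo (Spec.map (CommRingCat.ofHom (algebraMap A
      (A[X] ⧸ Ideal.span ({X ^ 2 - C x, X ^ 3 - C y} : Set A[X]))))) ∧
    ∀ q : Spec (CommRingCat.of (A[X] ⧸ Ideal.span ({X ^ 2 - C x, X ^ 3 - C y} : Set A[X]))),
      Function.Surjective ((Spec.map (CommRingCat.ofHom (algebraMap A
        (A[X] ⧸ Ideal.span ({X ^ 2 - C x, X ^ 3 - C y} : Set A[X]))))).residueFieldMap q) := by
  open Groth.L19.Tower in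
  have hg : Gen A (A[X] ⧸ Ideal.span ({X ^ 2 - C x, X ^ 3 - C y} : Set A[X])) PSq := by
    intro S hS
    have e2 : (Ideal.Quotient.mk _ X : A[X] ⧸ Ideal.span ({X ^ 2 - C x, X ^ 3 - C y} : Set A[X])) ^ 2 =
        algebraMap A _ x := by
      rw [← map_pow, ← Ideal.Quotient.mk_algebraMap, Ideal.Quotient.mk_eq_mk_iff_sub_mem]
      exact Ideal.subset_span (Set.mem_insert _ _)
    have e3 : (Ideal.Quotient.mk _ X : A[X] ⧸ Ideal.span ({X ^ 2 - C x, X ^ 3 - C y} : Set A[X])) ^ 3 =
        algebraMap A _ y := by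
      rw [← map_pow, ← Ideal.Quotient.mk_algebraMap, Ideal.Quotient.mk_eq_mk_iff_sub_mem]
      exact Ideal.subset_span (Set.mem_insert_of_mem _ rfl)
    have ht : (Ideal.Quotient.mk _ X) ∈ S :=
      hS _ ⟨e2 ▸ Subalgebra.algebraMap_mem S x, e3 ▸ Subalgebra.algebraMap_mem S y⟩
    rw [eq_top_iff]
    intro b _
    obtain ⟨f, rfl⟩ := Ideal.Quotient.mk_surjective b
    clear * - ht
    induction f using Polynomial.induction_on with
    | C a => exact Subalgebra.algebraMap_mem S a
    | add f g hf hg => rw [map_add]; exact add_mem hf hg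
    | monomial n a _ =>
      rw [map_mul, map_pow]
      exact mul_mem (Subalgebra.algebraMap_mem S a) (pow_mem ht _)
  refine ⟨isUnivHomeo_of_gen hg.toPPr fun p => ?_, surjective_residueFieldMap_of_gen hg⟩
  let κ := p.asIdeal.ResidueField
  let φ : A →+* κ := algebraMap A κ
  obtain ⟨t, ht2, ht3⟩ : ∃ t : κ, t ^ 2 = φ x ∧ t ^ 3 = φ y := by
    have he : φ x ^ 3 = φ y ^ 2 := by rw [← map_pow, h, map_pow]
    rcases eq_or_ne (φ x) 0 with h0 | h0
    · rw [h0, zero_pow (by norm_num)] at he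
      exact ⟨0, by simp [h0], by simp [pow_eq_zero_iff two_ne_zero |>.mp he.symm]⟩
    · refine ⟨φ y / φ x, ?_, ?_⟩
      · rw [div_pow, div_eq_iff (pow_ne_zero 2 h0), ← he]; ring
      · rw [div_pow, div_eq_iff (pow_ne_zero 3 h0), he]; ring
  let ψ : A[X] ⧸ Ideal.span ({X ^ 2 - C x, X ^ 3 - C y} : Set A[X]) →+* κ :=
    Ideal.Quotient.lift _ (Polynomial.eval₂RingHom φ t) (fun f hf => by
      refine (Ideal.span_le (I := RingHom.ker (Polynomial.eval₂RingHom φ t))).mpr ?_ hf
      rintro g (rfl | rfl) <;> simp [ht2, ht3])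
  refine ⟨⟨RingHom.ker ψ, RingHom.ker_isPrime ψ⟩, PrimeSpectrum.ext ?_⟩
  ext a
  show ψ (algebraMap A _ a) = 0 ↔ a ∈ p.asIdeal
  rw [← Ideal.Quotient.mk_algebraMap, Ideal.Quotient.lift_mk]
  simp [φ, κ]

end Groth.Agent.S7402
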