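import Groth.Statements.S7404
import Groth.Agent.L19.Tower.Colimit
import Groth.Agent.L19.Approx.UnivHomeoAlg

set_option autoImplicit false
set_option backward.isDefEq.respectTransparency.types false
set_option backward.isDefEq.respectTransparency false
set_option linter.style.haveILetI false
universe u
open CategoryTheory AlgebraicGeometry
open Mor

namespace Groth.Agent.S7404

/-- Let `A → B` be a ring map and `B' ⊆ B` an `A`-subalgebra, with `f : Spec B → Spec A` and `f' : Spec
B' → Spec A` the induced morphisms. Each of the following properties passes from `f` to `f'`: being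
a universal homeomorphism; being a universal homeomorphism with trivial residue field extensions;
being universally closed; being both universally closed and universally injective. -/
theorem result {A B : Type u} [CommRing A] [CommRing B] [Algebra A B]
    (B' : Subalgebra A B) :
    (FlatMor.IsUnivHomeo (Spec.map (CommRingCat.ofHom (algebraMap A B))) →
      FlatMor.IsUnivHomeo (Spec.map (CommRingCat.ofHom (algebraMap A B')))) ∧
    ((FlatMor.IsUnivHomeo (Spec.map (CommRingCat.ofHom (algebraMap A B))) ∧
      ∀ x : Spec (CommRingCat.of B),
        Function.Surjective ((Spec.map (CommRingCat.ofHom (algebraMap A B))).residueFieldMap x)) →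
      FlatMor.IsUnivHomeo (Spec.map (CommRingCat.ofHom (algebraMap A B'))) ∧
      ∀ x : Spec (CommRingCat.of B'),
        Function.Surjective ((Spec.map (CommRingCat.ofHom (algebraMap A B'))).residueFieldMap x)) ∧
    (UniversallyClosed (Spec.map (CommRingCat.ofHom (algebraMap A B))) →
      UniversallyClosed (Spec.map (CommRingCat.ofHom (algebraMap A B')))) ∧
    (UniversallyClosed (Spec.map (CommRingCat.ofHom (algebraMap A B))) →
      UniversallyInjective (Spec.map (CommRingCat.ofHom (algebraMap A B))) →
      UniversallyClosed (Spec.map (CommRingCat.ofHom (algebraMap A B'))) ∧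
      UniversallyInjective (Spec.map (CommRingCat.ofHom (algebraMap A B')))) := by
  open Groth.L19.Tower in
  let p : Spec (CommRingCat.of B) ⟶ Spec (CommRingCat.of B') :=
    Spec.map (CommRingCat.ofHom B'.val.toRingHom)
  have e : p ≫ spec A B' = spec A B := (Spec.map_comp _ _).symm
  have hint : UniversallyClosed (spec A B) → Algebra.IsIntegral A B' := fun h => by
    haveI := isIntegral_of_universallyClosed h
    exact ⟨fun x => (isIntegral_algHom_iff B'.val Subtype.val_injective).mp
      (Algebra.IsIntegral.isIntegral _)⟩
  have hp : UniversallyClosed (spec A B) → Function.Surjective p := fun h => by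
    haveI := isIntegral_of_universallyClosed h
    haveI : Algebra.IsIntegral B' B := Algebra.IsIntegral.tower_top (R := A)
    exact surjective_spec_of_injective (A := B') (B := B) Subtype.val_injective
  have uc : UniversallyClosed (spec A B) → UniversallyClosed (spec A B') := fun h =>
    haveI := hint h
    universallyClosed_of_isIntegral
  have ui : UniversallyClosed (spec A B) → UniversallyInjective (spec A B) →
      UniversallyInjective (spec A B') := fun h h' => by
    haveI : Surjective p := ⟨hp h⟩
    exact Groth.L19.Approx.universallyInjective_of_comp_of_surjective p (spec A B') (e ▸ h')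
  have uh : FlatMor.IsUnivHomeo (spec A B) → FlatMor.IsUnivHomeo (spec A B') := fun h => by
    obtain ⟨h1, h2, h3⟩ := (Groth.L20.isUnivHomeo_iff _).mp h
    refine (Groth.L20.isUnivHomeo_iff _).mpr ⟨uc h1, ui h1 h2, ⟨fun y => ?_⟩⟩
    obtain ⟨x, rfl⟩ := h3.surj y
    exact ⟨p x, congr($e x)⟩
  refine ⟨uh, fun ⟨h, hres⟩ => ⟨uh h, ?_⟩, uc, fun h h' => ⟨uc h, ui h h'⟩⟩
  exact Groth.L19.Approx.surjective_residueFieldMap_of_comp p (spec A B') (spec A B) e hres
    (hp ((Groth.L20.isUnivHomeo_iff _).mp h).1)

end Groth.Agent.S7404
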