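import Groth.Statements.S7405
import Groth.Agent.L19.Tower.Colimit

set_option autoImplicit false
set_option backward.isDefEq.respectTransparency.types false
set_option backward.isDefEq.respectTransparency false
set_option linter.style.haveILetI false
universe u
open CategoryTheory AlgebraicGeometry
open Mor

namespace Groth.Agent.S7405

/-- Let `A` be a ring and `B` the colimit of a filtered diagram `j ↦ B_j` of `A`-algebras. Each of the
following properties, when it holds for every `Spec B_j → Spec A`, holds for `Spec B → Spec A`:
being a universal homeomorphism; being a universal homeomorphism with trivial residue field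
extensions; being universally closed; being both universally closed and universally injective. -/
theorem result (A : CommRingCat.{u}) {J : Type u} [SmallCategory J]
    [IsFiltered J] (F : J ⥤ Under A) (c : Limits.Cocone F) (hc : Limits.IsColimit c) :
    ((∀ j, FlatMor.IsUnivHomeo (Spec.map (F.obj j).hom)) → FlatMor.IsUnivHomeo (Spec.map c.pt.hom)) ∧
    ((∀ j, FlatMor.IsUnivHomeo (Spec.map (F.obj j).hom) ∧
        ∀ x : Spec (F.obj j).right, Function.Surjective ((Spec.map (F.obj j).hom).residueFieldMap x)) →
      FlatMor.IsUnivHomeo (Spec.map c.pt.hom) ∧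
        ∀ x : Spec c.pt.right, Function.Surjective ((Spec.map c.pt.hom).residueFieldMap x)) ∧
    ((∀ j, UniversallyClosed (Spec.map (F.obj j).hom)) → UniversallyClosed (Spec.map c.pt.hom)) ∧
    ((∀ j, UniversallyClosed (Spec.map (F.obj j).hom) ∧ UniversallyInjective (Spec.map (F.obj j).hom)) →
      UniversallyClosed (Spec.map c.pt.hom) ∧ UniversallyInjective (Spec.map c.pt.hom)) := by
  open Groth.L19.Tower in
  letI := c.pt.hom.hom.toAlgebra
  have uc : ∀ {j}, FlatMor.IsUnivHomeo (Spec.map (F.obj j).hom) →
      UniversallyClosed (Spec.map (F.obj j).hom) := fun h => ((Groth.L20.isUnivHomeo_iff _).mp h).1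
  have ui : ∀ {j}, FlatMor.IsUnivHomeo (Spec.map (F.obj j).hom) →
      UniversallyInjective (Spec.map (F.obj j).hom) :=
    fun h => ((Groth.L20.isUnivHomeo_iff _).mp h).2.1
  refine ⟨fun h => ?_, fun h => ⟨?_, ?_⟩, universallyClosed_colimit hc, fun h => ⟨?_, ?_⟩⟩
  · exact isUnivHomeo_of_gen (gen_pPr_colimit hc (fun j => uc (h j)) fun j => ui (h j))
      (surjective_colimit hc h)
  · exact isUnivHomeo_of_gen (gen_pSq_colimit hc h).toPPr (surjective_colimit hc fun j => (h j).1)
  · exact surjective_residueFieldMap_of_gen (gen_pSq_colimit hc h)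
  · exact universallyClosed_colimit hc fun j => (h j).1
  · exact universallyInjective_of_gen (gen_pPr_colimit hc (fun j => (h j).1) fun j => (h j).2)

end Groth.Agent.S7405
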