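import Groth.Statements.S7406
import Groth.Agent.L19.EtaleResidue
import Mathlib.AlgebraicGeometry.Fiber

set_option autoImplicit false
set_option backward.isDefEq.respectTransparency.types false
set_option backward.isDefEq.respectTransparency false
set_option linter.style.haveILetI false
universe u
open CategoryTheory AlgebraicGeometry
open Desc

namespace Groth.Agent.S7406
open CategoryTheory.Limits

/-- Consider a commutative square of schemes with horizontal maps `h' : U' → V'`, `h : U → V` and étale
vertical maps `a : U' → U`, `b : V' → V`, and let `v' ∈ V'` with image `v = b(v')`. Then the induced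
morphism of fibres `U'_{v'} → U_v` is étale. (The morphism of fibres is characterised by its
compatibility with `a` and with `Spec κ(v') → Spec κ(v)`.) -/
theorem result {U U' V V' : Scheme.{u}} (h : U ⟶ V) (h' : U' ⟶ V') (a : U' ⟶ U)
    (b : V' ⟶ V) [Etale a] [Etale b] (comm : h' ≫ b = a ≫ h) (v' : V')
    (φ : h'.fiber v' ⟶ h.fiber (b v')) (hφ1 : φ ≫ h.fiberι (b v') = h'.fiberι v' ≫ a)
    (hφ2 : φ ≫ h.fiberToSpecResidueField (b v') = h'.fiberToSpecResidueField v' ≫ Spec.map (b.residueFieldMap v')) :
    Etale φ := by
  haveI : Etale (Spec.map (b.residueFieldMap v')) := Groth.L19.EtaleResidue.etale_residueFieldMap b v'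
  let r := Spec.map (b.residueFieldMap v')
  let m : U' ⟶ pullback h b := pullback.lift a h' comm.symm
  haveI : Etale (pullback.fst h b) := MorphismProperty.pullback_fst (P := @Etale) h b inferInstance
  haveI : Etale (m ≫ pullback.fst h b) := by rw [pullback.lift_fst]; infer_instance
  haveI hm : Etale m := Etale.of_comp m (pullback.fst h b)
  let F := h.fiber (b v')
  let E := pullback (h.fiberToSpecResidueField (b v')) r
  have outer : IsPullback (pullback.fst (h.fiberToSpecResidueField (b v')) r ≫ h.fiberι (b v'))
      (pullback.snd _ r) h (r ≫ V.fromSpecResidueField (b v')) :=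
    (IsPullback.of_hasPullback (h.fiberToSpecResidueField (b v')) r).paste_horiz
      (IsPullback.of_hasPullback h (V.fromSpecResidueField (b v')))
  have hr : r ≫ V.fromSpecResidueField (b v') = V'.fromSpecResidueField v' ≫ b :=
    b.SpecMap_residueFieldMap_fromSpecResidueField v'
  let e : E ⟶ pullback h b := pullback.lift
    (pullback.fst (h.fiberToSpecResidueField (b v')) r ≫ h.fiberι (b v'))
    (pullback.snd _ r ≫ V'.fromSpecResidueField v') (by
      rw [outer.w, hr, Category.assoc])
  have sqR : IsPullback e (pullback.snd (h.fiberToSpecResidueField (b v')) r)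
      (pullback.snd h b) (V'.fromSpecResidueField v') :=
    IsPullback.of_right (by rw [pullback.lift_fst]; exact hr ▸ outer) (pullback.lift_snd _ _ _)
      (IsPullback.of_hasPullback h b)
  let j : h'.fiber v' ⟶ E := pullback.lift φ (h'.fiberToSpecResidueField v') hφ2
  have sqL : IsPullback (h'.fiberι v') j m e := by
    refine IsPullback.of_bot (v₂₁ := pullback.snd _ r) (v₂₂ := pullback.snd h b) ?_ ?_ sqR
    · rw [pullback.lift_snd, pullback.lift_snd]
      exact IsPullback.of_hasPullback h' (V'.fromSpecResidueField v')
    · apply pullback.hom_ext
      · simp only [Category.assoc, m, e, j, pullback.lift_fst, pullback.lift_fst_assoc]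
        exact hφ1.symm
      · simp only [Category.assoc, m, e, j, pullback.lift_snd, pullback.lift_snd_assoc]
        exact pullback.condition
  haveI hj : Etale j := MorphismProperty.of_isPullback (P := @Etale) sqL hm
  have : Etale (pullback.fst (h.fiberToSpecResidueField (b v')) r) :=
    MorphismProperty.pullback_fst (P := @Etale) _ r inferInstance
  rw [show φ = j ≫ pullback.fst _ r from (pullback.lift_fst _ _ _).symm]
  infer_instance

end Groth.Agent.S7406
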