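import Groth.Statements.S7413
import Groth.Agent.L19.LocProj

set_option autoImplicit false
set_option backward.isDefEq.respectTransparency.types false
set_option backward.isDefEq.respectTransparency false
universe u
open CategoryTheory AlgebraicGeometry
open Opposite
open Mor

namespace Groth.Agent.S7413

/-- Let `f : X → Y` be a morphism of schemes and `G` a quasi-coherent, locally projective `O_Y`-module
(projective sections over every affine open). Then `f^* G` is locally projective on `X`. -/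
theorem result {X Y : Scheme.{u}} (f : X ⟶ Y) (G : Y.Modules) [Coh.IsQCoh G]
    (hG : ∀ V : Y.Opens, IsAffineOpen V → Module.Projective (Y.ringCatSheaf.obj.obj (op V)) (G.val.obj (op V)))
    (U : X.Opens) (hU : IsAffineOpen U) :
    Module.Projective (X.ringCatSheaf.obj.obj (op U)) (((Scheme.Modules.pullback f).obj G).val.obj (op U)) := by
  have hx : ∀ x : U, ∃ W : X.Opens, IsAffineOpen W ∧ x.1 ∈ W ∧
      ∃ V : Y.Opens, IsAffineOpen V ∧ W ≤ f ⁻¹ᵁ V := fun x => by
    obtain ⟨_, ⟨V, hV, rfl⟩, hxV, -⟩ :=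
      Y.isBasis_affineOpens.exists_subset_of_mem_open (Set.mem_univ (f x.1)) isOpen_univ
    obtain ⟨_, ⟨W, hW, rfl⟩, hxW, hWU⟩ := X.isBasis_affineOpens.exists_subset_of_mem_open
      (show x.1 ∈ f ⁻¹ᵁ V from hxV) (f ⁻¹ᵁ V).2
    exact ⟨W, hW, hxW, V, hV, fun y hy => hWU hy⟩
  choose W hW hxW hWV using hx
  haveI : Coh.IsQCoh ((Scheme.Modules.pullback f).obj G) := Groth.L16.AffineBC.isQCoh_pullback f G
  refine Groth.L19.LocProj.projective_of_cover _ W hW (fun x => ?_) hU
    fun y hy => TopologicalSpace.Opens.mem_iSup.mpr ⟨⟨y, hy⟩, hxW ⟨y, hy⟩⟩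
  obtain ⟨V, hV, hle⟩ := hWV x
  haveI : Module.Projective Γ(Y, V) Γ(G, V) := hG V hV
  exact Groth.L19.LocProj.projective_pull f G hV (hW x) hle

end Groth.Agent.S7413
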