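import Groth.Statements.S7414
import Groth.Agent.L06.GRingFT

set_option autoImplicit false
set_option backward.isDefEq.respectTransparency.types false
set_option backward.isDefEq.respectTransparency false
set_option linter.style.haveILetI false
universe u
open CategoryTheory AlgebraicGeometry
open Mor

namespace Groth.Agent.S7414

/-- A scheme `X` is a G-scheme (every point has an affine open neighbourhood with G-ring coordinate
ring) if and only if `O_X(U)` is a G-ring for every affine open `U ⊆ X`. -/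
theorem result (X : Scheme.{u}) :
    (∀ x : X, ∃ U : X.Opens, x ∈ U ∧ IsAffineOpen U ∧ CAlg.IsGRing Γ(X, U)) ↔
      ∀ U : X.Opens, IsAffineOpen U → CAlg.IsGRing Γ(X, U) := by
  refine ⟨fun h U hU => ?_, fun h x => ?_⟩
  · haveI : IsLocallyNoetherian X := by
      choose V hxV hV hG using h
      refine isLocallyNoetherian_of_affine_cover (S := fun x => ⟨V x, hV x⟩) ?_ fun x => (hG x).1
      rw [eq_top_iff]
      exact fun x _ => TopologicalSpace.Opens.mem_iSup.mpr ⟨x, hxV x⟩
    refine ⟨IsLocallyNoetherian.component_noetherian ⟨U, hU⟩, fun p _ => ?_⟩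
    have hxU : hU.fromSpec ⟨p, inferInstance⟩ ∈ U := hU.range_fromSpec.le ⟨⟨p, inferInstance⟩, rfl⟩
    obtain ⟨V, hxV, hV, -, hG⟩ := h (hU.fromSpec ⟨p, inferInstance⟩)
    letI : Algebra Γ(X, U) (X.presheaf.stalk (hU.fromSpec ⟨p, inferInstance⟩)) :=
      TopCat.Presheaf.algebra_section_stalk X.presheaf ⟨_, hxU⟩
    haveI := hU.isLocalization_stalk' ⟨p, inferInstance⟩ hxU
    letI : Algebra Γ(X, V) (X.presheaf.stalk (hU.fromSpec ⟨p, inferInstance⟩)) :=
      TopCat.Presheaf.algebra_section_stalk X.presheaf ⟨_, hxV⟩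
    haveI := hV.isLocalization_stalk ⟨_, hxV⟩
    exact Groth.L06.GRingTransport.isRegularHom_completion_of_ringEquiv
      ((IsLocalization.algEquiv (hV.primeIdealOf ⟨_, hxV⟩).asIdeal.primeCompl
          (Localization.AtPrime (hV.primeIdealOf ⟨_, hxV⟩).asIdeal)
          (X.presheaf.stalk (hU.fromSpec ⟨p, inferInstance⟩))).toRingEquiv.trans
        (IsLocalization.algEquiv p.primeCompl
          (X.presheaf.stalk (hU.fromSpec ⟨p, inferInstance⟩)) (Localization.AtPrime p)).toRingEquiv)
      (hG _)
  · obtain ⟨_, ⟨U, hU, rfl⟩, hxU, -⟩ :=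
      X.isBasis_affineOpens.exists_subset_of_mem_open (Set.mem_univ x) isOpen_univ
    exact ⟨U, hxU, hU, h U hU⟩

end Groth.Agent.S7414
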