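import Groth.Statements.S7426
import Groth.Agent.L28.AWN.Local

set_option autoImplicit false
universe u
open CategoryTheory AlgebraicGeometry
open HTop

namespace Groth.Agent.S7426

/-- For a scheme `X` the following are equivalent: `X` is absolutely weakly normal; `X^awn → X` is an
isomorphism (equivalently, the identity of `X` is an absolute weak normalization); every universal
homeomorphism `Y → X` with `Y` reduced is an isomorphism. -/
theorem result (X : Scheme.{u}) :
    (HTop.IsAWN X ↔ HTop.IsAWNormalization (𝟙 X)) ∧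
    (HTop.IsAWN X ↔ ∀ (Y : Scheme.{u}) (π : Y ⟶ X), FlatMor.IsUnivHomeo π → AlgebraicGeometry.IsReduced Y → IsIso π) := by
  refine ⟨⟨Groth.L28.AWN.isAWNormalization_id, Groth.L28.AWN.isAWN_of_isAWNormalization⟩,
    ⟨fun h Y π hπ _ => Groth.L28.AWN.isIso_of_isAWN hπ h, fun h => ?_⟩⟩
  have hW := Groth.L28.AWN.isAWN_awNormalization X
  have := h _ _ (Groth.L28.AWN.isUnivHomeo_toScheme X)
    (Groth.L28.AWN.isReduced_of_isSeminormal (Groth.L28.AWN.isSeminormal_of_isAWN hW))
  exact Groth.L28.AWN.isAWN_of_iso (Groth.L28.AWN.toScheme X) hW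

end Groth.Agent.S7426
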