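import Groth.Statements.S7431
import Mathlib.AlgebraicGeometry.Morphisms.OpenImmersion
import Mathlib.AlgebraicGeometry.AffineScheme
import Mathlib.RingTheory.Localization.Away.Basic
import Mathlib.Algebra.MvPolynomial.Eval
import Mathlib.CategoryTheory.Limits.Shapes.Pullback.IsPullback.Basic

set_option autoImplicit false
set_option backward.isDefEq.respectTransparency.types false
set_option backward.isDefEq.respectTransparency false
set_option linter.style.haveILetI false
universe u
open CategoryTheory AlgebraicGeometry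
open Lim

namespace Groth.Agent.S7431

/-- Let `B' = B ×_R R'` be a cartesian square of rings with maps `s : B → R`, `t : R' → R`, and let `W'
= D(f_1) ∪ … ∪ D(f_n) ⊆ Spec R'` with `t(f_i) = s(g_i)` for elements `g_i ∈ B` such that `B_{g_i} →
R_{s(g_i)}` is an isomorphism for each `i`. Then the composite `W' → Spec R' → Spec B'`, the second
map coming from `B' → R'`, is an open immersion. -/
theorem result {B B' R R' : Type u} [CommRing B] [CommRing B']
    [CommRing R] [CommRing R'] (s : B →+* R) (t : R' →+* R) (p : B' →+* B) (q : B' →+* R')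
    (hsq : IsPullback (CommRingCat.ofHom p) (CommRingCat.ofHom q) (CommRingCat.ofHom s) (CommRingCat.ofHom t))
    {n : ℕ} (f : Fin n → R') (g : Fin n → B) (hfg : ∀ i, t (f i) = s (g i))
    (hiso : ∀ i, Function.Bijective (Localization.awayMap s (g i))) :
    IsOpenImmersion (Scheme.Opens.ι (X := Spec (CommRingCat.of R')) (⨆ i, PrimeSpectrum.basicOpen (f i)) ≫
      Spec.map (CommRingCat.ofHom q)) := by
  have lift : ∀ (b : B) (r : R'), s b = t r → ∃ b' : B', p b' = b ∧ q b' = r := by
    intro b r hbr
    have w : CommRingCat.ofHom (MvPolynomial.eval₂Hom (σ := PUnit.{u+1}) (Int.castRingHom B) (fun _ => b)) ≫ CommRingCat.ofHom s =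
        CommRingCat.ofHom (MvPolynomial.eval₂Hom (σ := PUnit.{u+1}) (Int.castRingHom R') (fun _ => r)) ≫ CommRingCat.ofHom t := by
      ext1
      refine MvPolynomial.ringHom_ext (fun n => by simp) fun i => ?_
      simp [hbr]
    refine ⟨(hsq.lift _ _ w).hom (MvPolynomial.X PUnit.unit), ?_, ?_⟩
    · have := congrArg (fun φ => φ.hom (MvPolynomial.X PUnit.unit)) (hsq.lift_fst _ _ w)
      simp only [CommRingCat.hom_comp, RingHom.comp_apply, CommRingCat.hom_ofHom, MvPolynomial.eval₂Hom_X'] at this
      exact this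
    · have := congrArg (fun φ => φ.hom (MvPolynomial.X PUnit.unit)) (hsq.lift_snd _ _ w)
      simp only [CommRingCat.hom_comp, RingHom.comp_apply, CommRingCat.hom_ofHom, MvPolynomial.eval₂Hom_X'] at this
      exact this
  have inj : ∀ b₁ b₂ : B', p b₁ = p b₂ → q b₁ = q b₂ → b₁ = b₂ := by
    intro b₁ b₂ h1 h2
    have : CommRingCat.ofHom (MvPolynomial.eval₂Hom (σ := PUnit.{u+1}) (Int.castRingHom B') (fun _ => b₁)) =
        CommRingCat.ofHom (MvPolynomial.eval₂Hom (σ := PUnit.{u+1}) (Int.castRingHom B') (fun _ => b₂)) := by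
      apply hsq.hom_ext
      · ext1
        refine MvPolynomial.ringHom_ext (fun n => by simp) fun i => ?_
        simp [h1]
      · ext1
        refine MvPolynomial.ringHom_ext (fun n => by simp) fun i => ?_
        simp [h2]
    simpa using congrArg (fun φ => φ.hom (MvPolynomial.X PUnit.unit)) this
  choose h hp hq using fun i => lift (g i) (f i) (hfg i).symm
  have hbij : ∀ i, Function.Bijective (Localization.awayMap q (h i)) := by
    intro i
    refine ⟨Localization.awayMap_injective_iff.mpr fun a ha => ?_,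
      Localization.awayMap_surjective_iff.mpr fun a => ?_⟩
    · have hsp : s (p a) = t (q a) := congrArg (fun φ => φ.hom a) hsq.w
      obtain ⟨n, hn⟩ := Localization.awayMap_injective_iff.mp (hiso i).1 (p a) (by rw [hsp, ha, map_zero])
      exact ⟨n, inj _ _ (by simpa [hp] using hn) (by simp [ha])⟩
    · obtain ⟨b, m, hb⟩ := Localization.awayMap_surjective_iff.mp (hiso i).2 (t a)
      obtain ⟨b', -, hb'⟩ := lift b (f i ^ m * a) (by rw [hb, map_mul, map_pow, hfg])
      exact ⟨b', m, by rw [hb', hq]⟩
  let U : (Spec (CommRingCat.of R')).Opens := ⨆ i, PrimeSpectrum.basicOpen (f i)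
  refine IsZariskiLocalAtTarget.of_range_subset_iSup (P := @IsOpenImmersion)
    (U := fun i => (PrimeSpectrum.basicOpen (h i) : (Spec (CommRingCat.of B')).Opens)) ?_ fun i => ?_
  · rintro _ ⟨x, rfl⟩
    obtain ⟨i, hi⟩ := TopologicalSpace.Opens.mem_iSup.mp x.2
    refine TopologicalSpace.Opens.mem_iSup.mpr ⟨i, ?_⟩
    show (h i) ∉ Ideal.comap q x.1.asIdeal
    rw [Ideal.mem_comap, hq]
    exact hi
  let c := U.ι ≫ Spec.map (CommRingCat.ofHom q)
  let W : (Spec (CommRingCat.of B')).Opens := PrimeSpectrum.basicOpen (h i)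
  suffices IsOpenImmersion ((c ⁻¹ᵁ W).ι ≫ c) by
    have h' : IsOpenImmersion ((c ∣_ W) ≫ W.ι) := by rwa [morphismRestrict_ι]
    exact IsOpenImmersion.of_comp (c ∣_ W) W.ι
  let loc := Spec.map (CommRingCat.ofHom (algebraMap R' (Localization.Away (q (h i)))))
  have : IsOpenImmersion loc := IsOpenImmersion.of_isLocalization (q (h i))
  have hrange : Set.range ((c ⁻¹ᵁ W).ι ≫ U.ι) = Set.range loc := by
    refine Eq.trans ?_ (PrimeSpectrum.localization_away_comap_range (Localization.Away (q (h i))) (q (h i))).symm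
    ext x
    constructor
    · rintro ⟨y, rfl⟩
      exact y.2
    · intro hx
      have hxU : x ∈ U := TopologicalSpace.Opens.mem_iSup.mpr ⟨i, hq i ▸ hx⟩
      exact ⟨⟨⟨x, hxU⟩, hx⟩, rfl⟩
  let e := IsOpenImmersion.isoOfRangeEq ((c ⁻¹ᵁ W).ι ≫ U.ι) loc hrange
  have he : e.hom ≫ loc = (c ⁻¹ᵁ W).ι ≫ U.ι := IsOpenImmersion.isoOfRangeEq_hom_fac _ _ _
  let a := CommRingCat.ofHom (Localization.awayMap q (h i))
  have : IsIso a := (ConcreteCategory.isIso_iff_bijective a).mpr (hbij i)
  have : IsOpenImmersion (Spec.map (CommRingCat.ofHom (algebraMap B' (Localization.Away (h i))))) :=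
    IsOpenImmersion.of_isLocalization (h i)
  have key : (c ⁻¹ᵁ W).ι ≫ c =
      e.hom ≫ Spec.map a ≫ Spec.map (CommRingCat.ofHom (algebraMap B' (Localization.Away (h i)))) := by
    rw [← Category.assoc, ← he, Category.assoc, ← Spec.map_comp, ← Spec.map_comp]
    congr 2
    ext x
    simp [a, IsLocalization.Away.map, IsLocalization.map_eq]
  rw [key]
  infer_instance

end Groth.Agent.S7431
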