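import Groth.Statements.S7447
import Groth.Agent.L19.Approx.Relative
import Groth.Agent.L19.Approx.FactorSystem

set_option autoImplicit false
set_option backward.isDefEq.respectTransparency.types false
set_option backward.isDefEq.respectTransparency false
set_option linter.style.haveILetI false
universe u
open CategoryTheory AlgebraicGeometry
open Opposite
open Lim

namespace Groth.Agent.S7447

/-- Noetherian approximation relative to a quasi-compact open: let `S` be quasi-compact and
quasi-separated, `V ⊆ S` a quasi-compact open, and `V = lim V_i` the limit of an inverse system,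
over a nonempty directed set `I`, of schemes of finite type over `ℤ` with affine transition
morphisms. Then there are a nonempty directed set `J`, an inverse system `(S_j)` of schemes of
finite type over `ℤ` with affine transition morphisms and `S = lim S_j`, an order preserving map `α
: J → I`, opens `V'_j ⊆ S_j` and isomorphisms `V'_j ≅ V_{α(j)}` such that: the transition maps
satisfy `g_{jj'}⁻¹(V'_{j'}) = V'_j`; `V` is the inverse image of each `V'_j` under `S → S_j` (which
identifies `V` with `lim V'_j`); the composite `V → V'_j → V_{α(j)}` is the projection; and the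
squares `V'_j → V_{α(j)} → V_{α(j')}`, `V'_j → V'_{j'} → V_{α(j')}` commute. -/
theorem result (S : Scheme.{u}) [CompactSpace S] [QuasiSeparatedSpace S]
    (V : S.Opens) (hV : IsCompact (V : Set S)) (I : Type u) [Preorder I] [IsDirected I (fun a b => a ≤ b)] [Nonempty I]
    (DV : Iᵒᵖ ⥤ Scheme.{u}) (haff : ∀ (i i' : Iᵒᵖ) (a : i ⟶ i'), IsAffineHom (DV.map a))
    (hft : ∀ i, CompactSpace (DV.obj i) ∧ LocallyOfFiniteType (Limits.IsTerminal.from specULiftZIsTerminal (DV.obj i)))
    (cV : Limits.Cone DV) (hcV : Limits.IsLimit cV) (eV : cV.pt ≅ (V : Scheme.{u})) :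
    ∃ (J : Type u) (_ : Preorder J) (_ : IsDirected J (fun a b => a ≤ b)) (_ : Nonempty J)
      (DS : Jᵒᵖ ⥤ Scheme.{u}) (cS : Limits.Cone DS) (_ : Limits.IsLimit cS) (eS : cS.pt ≅ S)
      (α : J →o I) (V' : ∀ j : J, (DS.obj (op j)).Opens)
      (φ : ∀ j : J, (V' j : Scheme.{u}) ≅ DV.obj (op (α j))),
      (∀ (j j' : Jᵒᵖ) (a : j ⟶ j'), IsAffineHom (DS.map a)) ∧
      (∀ j, CompactSpace (DS.obj j) ∧ LocallyOfFiniteType (Limits.IsTerminal.from specULiftZIsTerminal (DS.obj j))) ∧
      (∀ (j j' : J) (h : j' ≤ j), (DS.map (homOfLE h).op) ⁻¹ᵁ (V' j') = V' j) ∧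
      (∀ j : J, (eS.inv ≫ cS.π.app (op j)) ⁻¹ᵁ (V' j) = V) ∧
      (∀ j : J, ∃ ρ : (V : Scheme.{u}) ⟶ (V' j : Scheme.{u}),
        ρ ≫ (V' j).ι = V.ι ≫ eS.inv ≫ cS.π.app (op j) ∧ ρ ≫ (φ j).hom = eV.inv ≫ cV.π.app (op (α j))) ∧
      (∀ (j j' : J) (h : j' ≤ j), ∃ τ : (V' j : Scheme.{u}) ⟶ (V' j' : Scheme.{u}),
        τ ≫ (V' j').ι = (V' j).ι ≫ DS.map (homOfLE h).op ∧
        (φ j).hom ≫ DV.map (homOfLE (α.mono h)).op = τ ≫ (φ j').hom) := by
  open Groth.L19.Approx Groth.L19.Approx.Rel Limits Opposite in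
  classical
  haveI : QuasiSeparatedSpace (Spec (CommRingCat.of (ULift.{u} ℤ))) := inferInstance
  haveI : IsNoetherianRing (ULift.{u} ℤ) :=
    isNoetherianRing_of_ringEquiv ℤ ULift.ringEquiv.symm
  haveI : IsLocallyNoetherian (Spec (CommRingCat.of (ULift.{u} ℤ))) := inferInstance
  obtain ⟨M, g, a, hg, hc, hq, ha, hag⟩ := affFactors (Limits.IsTerminal.from specULiftZIsTerminal S)
  haveI := isCofiltered_idx a
  let D := system a (⊤ : MorphismProperty Scheme.{u}) ⋙ Over.forget M
  let c : Cone D := (Over.forget M).mapCone (cone a ⊤)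
  have hlim : IsLimit c := (nonempty_isLimit_forget_cone a).some
  haveI : ∀ {i j} (φ : i ⟶ j), IsAffineHom (D.map φ) := fun φ => isAffineHom_system_map a ⊤ φ
  obtain ⟨i₀, G, hG, hGV⟩ := exists_preimage_eq D c hlim V hV
  obtain ⟨T, hT⟩ : ∃ T, T = D.obj i₀ := ⟨_, rfl⟩
  subst hT
  haveI hTc : CompactSpace (D.obj i₀) := compactSpace_factorSystem a g i₀
  haveI hTq : QuasiSeparatedSpace (D.obj i₀) := quasiSeparatedSpace_factorSystem a g i₀
  haveI hTf : LocallyOfFinitePresentation (specULiftZIsTerminal.from (D.obj i₀)) := by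
    haveI := lfp_factorSystem a g i₀
    exact (specULiftZIsTerminal.hom_ext ((factorSystem a g).obj i₀).hom
      (Limits.IsTerminal.from specULiftZIsTerminal _)) ▸
      (inferInstanceAs (LocallyOfFinitePresentation ((factorSystem a g).obj i₀).hom))
  haveI hTn : IsLocallyNoetherian (D.obj i₀) :=
    LocallyOfFiniteType.isLocallyNoetherian (specULiftZIsTerminal.from (D.obj i₀))
  let f : S ⟶ D.obj i₀ := c.π.app i₀
  haveI : IsAffineHom f := isAffineHom_π_app D c hlim i₀
  change f ⁻¹ᵁ G = V at hGV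
  subst hGV
  haveI : ∀ i, CompactSpace (DV.obj i) := fun i => (hft i).1
  haveI : ∀ i, IsLocallyNoetherian (DV.obj i) := fun i =>
    haveI := (hft i).2
    LocallyOfFiniteType.isLocallyNoetherian (specULiftZIsTerminal.from (DV.obj i))
  haveI : ∀ i, QuasiSeparatedSpace (DV.obj i) := fun i => inferInstance
  let π : ∀ i : I, (f ⁻¹ᵁ G).toScheme ⟶ DV.obj (op i) := fun i => eV.inv ≫ cV.π.app (op i)
  obtain ⟨d⟩ := exists_data f G DV π hG (fun b => haff _ _ b) (fun i => (hft i).2) cV hcV eV.symm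
    (fun i => rfl)
  choose sel hsel using fun s => exists_atom_sec d cV hcV eV.symm (fun i => rfl) s
  haveI := nonempty_ix (hG := hG) (sel := sel)
  haveI := isDirected_ix (hG := hG) (sel := sel)
  obtain ⟨hlimS⟩ := nonempty_isLimit_sysCone (hG := hG) cV hcV eV.symm (fun i => rfl) hsel
  choose l hl using fun i : Ix d hG sel => exists_iso i
  refine ⟨Ix d hG sel, inferInstance, inferInstance, inferInstance, sys d hG sel, sysCone d hG sel,
    hlimS, Iso.refl _, ⟨fun i => i.m, fun _ _ h => h.2⟩,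
    fun j => Groth.L19.Approx.Rel.hom j ⁻¹ᵁ G, fun j => (l j).symm,
    fun _ _ b => isAffineHom_sys_map b, fun j => ⟨?_, ?_⟩, fun j j' h => hom_preimage _,
    fun j => ?_, fun j => ⟨π j.m ≫ (l j).hom, ?_, ?_⟩,
    fun j j' h => ⟨(l j).inv ≫ DV.map (homOfLE h.2).op ≫ (l j').hom, ?_, ?_⟩⟩
  · haveI := isAffineHom_hom j.unop
    exact QuasiCompact.compactSpace_of_compactSpace (Groth.L19.Approx.Rel.hom j.unop)
  · haveI := lft_hom j.unop
    exact (specULiftZIsTerminal.hom_ext
      (Groth.L19.Approx.Rel.hom j.unop ≫ specULiftZIsTerminal.from (D.obj i₀))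
      (Limits.IsTerminal.from specULiftZIsTerminal _)) ▸ inferInstance
  · exact (congrArg (· ⁻¹ᵁ (Groth.L19.Approx.Rel.hom j ⁻¹ᵁ G)) (Category.id_comp _)).trans
      (sysCone_preimage (op j))
  · rw [← cancel_mono (K j).subschemeι]
    simp only [Category.assoc]
    rw [hl j, π_cc]
    show _ = (f ⁻¹ᵁ G).ι ≫ 𝟙 S ≫ (sysCone d hG sel).π.app (op j) ≫ (K (op j).unop).subschemeι
    rw [sysCone_fac, Category.id_comp]
  · simp [π]
  · have e1 := hl j'
    have e2 := hl j
    rw [← cancel_mono (K j').subschemeι]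
    simp only [Category.assoc]
    rw [e1, ← cc_trn h]
    have e3 : (sys d hG sel).map (homOfLE h).op ≫ (K j').subschemeι = (K j).subschemeι ≫ trn h :=
      Scheme.IdealSheafData.subschemeMap_subschemeι (K j) (K j') (trn h) (K_le_map h)
    rw [e3, Iso.inv_comp_eq, reassoc_of% e2]
  · simp

end Groth.Agent.S7447
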