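import Groth.Statements.S7451
import Groth.Agent.L28.ElemAuto.Field
import Mathlib.RingTheory.Spectrum.Prime.Topology
import Mathlib.RingTheory.Ideal.MinimalPrime.Noetherian
import Mathlib.RingTheory.IntegralClosure.IsIntegralClosure.Basic
import Mathlib.RingTheory.Polynomial.Basic

set_option autoImplicit false
universe u
open CategoryTheory AlgebraicGeometry
open Desc

namespace Groth.Agent.S7451

open Groth.L28

set_option backward.isDefEq.respectTransparency.types false

/-- Let `k` be a field and `n ≥ 2`. For `i ≠ j` and `d ≥ 0` let `T_{i,j,d}` be the automorphism of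
`𝔸^n_k` given by `x_i ↦ x_i + x_j^d` and fixing the other coordinates. Let `W ⊆ 𝔸^n_k` be a nonempty
open subscheme with `T_{i,j,d}⁻¹(W) = W` for all `i, j, d`. Then either `W = 𝔸^n_k`, or `k` has
prime characteristic `p` and the complement `𝔸^n_k ∖ W` consists of finitely many closed points,
each of whose coordinates `a` in the residue field satisfies `a^(p^m) = a` for some `m ≥ 1`
(equivalently, is algebraic over `𝔽_p`). -/
theorem result (k : Type u) [Field k] (n : ℕ) (hn : 2 ≤ n)
    (W : (Spec (CommRingCat.of (MvPolynomial (Fin n) k))).Opens)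
    (hW : (W : Set ↥(Spec (CommRingCat.of (MvPolynomial (Fin n) k)))).Nonempty)
    (hinv : ∀ (i j : Fin n), i ≠ j → ∀ d : ℕ,
      (Spec.map (CommRingCat.ofHom (MvPolynomial.aeval (R := k)
        (Function.update MvPolynomial.X i (MvPolynomial.X i + MvPolynomial.X j ^ d) :
          Fin n → MvPolynomial (Fin n) k)).toRingHom)) ⁻¹ᵁ W = W) :
    W = ⊤ ∨ ∃ p : ℕ, p.Prime ∧ CharP k p ∧ ((W : Set ↥(Spec (CommRingCat.of (MvPolynomial (Fin n) k))))ᶜ).Finite ∧
      ∀ x : ↥(Spec (CommRingCat.of (MvPolynomial (Fin n) k))),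
        x ∉ (W : Set ↥(Spec (CommRingCat.of (MvPolynomial (Fin n) k)))) →
        IsClosed ({x} : Set ↥(Spec (CommRingCat.of (MvPolynomial (Fin n) k)))) ∧ ∀ i : Fin n, ∃ m : ℕ, 0 < m ∧
          (algebraMap (MvPolynomial (Fin n) k) x.asIdeal.ResidueField (MvPolynomial.X i)) ^ (p ^ m) =
            algebraMap (MvPolynomial (Fin n) k) x.asIdeal.ResidueField (MvPolynomial.X i) := by
  classical
  let A := MvPolynomial (Fin n) k
  let U : Set (PrimeSpectrum A) := W.carrier
  obtain ⟨I, hIrad, hZ⟩ := (PrimeSpectrum.isClosed_iff_zeroLocus_radical_ideal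
    (Uᶜ)).1 (W.isOpen.isClosed_compl : IsClosed (W.carrier : Set ↥(Spec (CommRingCat.of A)))ᶜ)
  have hmem : ∀ x : PrimeSpectrum A, x ∉ U ↔ I ≤ x.asIdeal := fun x => by
    rw [← Set.mem_compl_iff, hZ, PrimeSpectrum.mem_zeroLocus, SetLike.coe_subset_coe]
  -- invariance on points
  have hinvp : ∀ (κ : Type u) [Field κ] [Algebra k κ] (b : Fin n → κ) (i j : Fin n), i ≠ j →
      ∀ d : ℕ, ElemAuto.Zero I (Function.update b i (b i + b j ^ d)) ↔ ElemAuto.Zero I b := by
    intro κ _ _ b i j hij d
    let pt : (Fin n → κ) → PrimeSpectrum A := fun c =>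
      ⟨RingHom.ker (MvPolynomial.aeval c : A →ₐ[k] κ), RingHom.ker_isPrime _⟩
    have hpt : ∀ c, ElemAuto.Zero I c ↔ pt c ∉ U := fun c => by
      rw [hmem]; rfl
    rw [hpt, hpt]
    refine not_congr ?_
    let σ : A →ₐ[k] A := MvPolynomial.aeval (R := k)
      (Function.update MvPolynomial.X i (MvPolynomial.X i + MvPolynomial.X j ^ d) :
          Fin n → MvPolynomial (Fin n) k)
    have hc : PrimeSpectrum.comap σ.toRingHom (pt b) = pt (Function.update b i (b i + b j ^ d)) := by
      refine PrimeSpectrum.ext ?_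
      ext f
      show MvPolynomial.aeval b (σ f) = 0 ↔ MvPolynomial.aeval _ f = 0
      have e : (MvPolynomial.aeval b).comp σ =
          MvPolynomial.aeval (Function.update b i (b i + b j ^ d)) := by
        refine MvPolynomial.algHom_ext fun l => ?_
        rcases eq_or_ne l i with rfl | hl
        · simp [σ]
        · simp [σ, hl]
      rw [← e]
      rfl
    have h := hinv i j hij d
    constructor <;> intro hm
    · have : pt b ∈ ((Spec.map (CommRingCat.ofHom σ.toRingHom)) ⁻¹ᵁ W) := by
        show PrimeSpectrum.comap σ.toRingHom (pt b) ∈ U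
        rw [hc]; exact hm
      rw [h] at this
      exact this
    · have : pt b ∈ ((Spec.map (CommRingCat.ofHom σ.toRingHom)) ⁻¹ᵁ W) := by rw [h]; exact hm
      rw [← hc]
      exact this
  by_cases hWtop : W = ⊤
  · exact Or.inl hWtop
  right
  have hI0 : I ≠ ⊥ := by
    rintro rfl
    obtain ⟨x, hx⟩ := hW
    exact ((hmem x).2 bot_le) hx
  have hκ : ∀ x : PrimeSpectrum A, x ∉ U → ∀ j : Fin n,
      ¬ ElemAuto.Good (algebraMap A x.asIdeal.ResidueField (MvPolynomial.X j)) := by
    intro x hx j hj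
    refine hI0 (ElemAuto.eq_bot_of_good (hinvp x.asIdeal.ResidueField)
      (b := fun l => algebraMap A x.asIdeal.ResidueField (MvPolynomial.X l)) ?_ hj ?_)
    · intro f hf
      have e : (MvPolynomial.aeval fun l => algebraMap A x.asIdeal.ResidueField (MvPolynomial.X l)) =
          IsScalarTower.toAlgHom k A x.asIdeal.ResidueField :=
        MvPolynomial.algHom_ext fun l => by rw [MvPolynomial.aeval_X]; rfl
      rw [e, IsScalarTower.toAlgHom_apply, Ideal.algebraMap_residueField_eq_zero]
      exact (hmem x).1 hx hf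
    · haveI : Nontrivial (Fin n) := Fin.nontrivial_iff_two_le.2 hn
      exact exists_ne j
  obtain ⟨x₀, hx₀⟩ : ∃ x : PrimeSpectrum A, x ∉ U := by
    by_contra h
    push Not at h
    exact hWtop (TopologicalSpace.Opens.ext (Set.eq_univ_of_forall h))
  obtain ⟨p, -, hp, hcp, -, -⟩ :=
    (ElemAuto.bad_iff _).1 (hκ x₀ hx₀ ⟨0, by omega⟩)
  have hck : CharP k p := (RingHom.charP_iff (algebraMap k x₀.asIdeal.ResidueField)
    (RingHom.injective _) p).2 hcp
  have hpow : ∀ x : PrimeSpectrum A, x ∉ U → ∀ i : Fin n,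
      ∃ m : ℕ, 0 < m ∧ (algebraMap A x.asIdeal.ResidueField (MvPolynomial.X i)) ^ (p ^ m) =
        algebraMap A x.asIdeal.ResidueField (MvPolynomial.X i) := by
    intro x hx i
    obtain ⟨p', m, -, hcp', hm, he⟩ := (ElemAuto.bad_iff _).1 (hκ x hx i)
    obtain rfl : p' = p := CharP.eq k
      ((RingHom.charP_iff (algebraMap k x.asIdeal.ResidueField) (RingHom.injective _) p').2 hcp') hck
    exact ⟨m, hm, he⟩
  have hmax : ∀ x : PrimeSpectrum A, x ∉ U → x.asIdeal.IsMaximal := by
    intro x hx
    have hgen : ∀ i, IsIntegral k (Ideal.Quotient.mkₐ k x.asIdeal (MvPolynomial.X i)) := fun i => by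
      obtain ⟨m, hm, he⟩ := hpow x hx i
      refine ⟨Polynomial.X ^ (p ^ m) - Polynomial.X,
        Polynomial.monic_X_pow_sub (by
          rw [Polynomial.degree_X]; exact_mod_cast Nat.one_lt_pow hm.ne' hp.one_lt), ?_⟩
      simp only [Polynomial.eval₂_sub, Polynomial.eval₂_X_pow, Polynomial.eval₂_X]
      apply x.asIdeal.injective_algebraMap_quotient_residueField
      rw [map_zero, map_sub, map_pow, sub_eq_zero]
      exact he
    haveI : Algebra.IsIntegral k (A ⧸ x.asIdeal) := ⟨fun z => by
      obtain ⟨f, rfl⟩ := Ideal.Quotient.mkₐ_surjective k x.asIdeal z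
      induction f using MvPolynomial.induction_on with
      | C c => exact isIntegral_algebraMap (R := k) (A := A ⧸ x.asIdeal) (x := c)
      | add f g hf hg => rw [map_add]; exact hf.add hg
      | mul_X f i hf => rw [map_mul]; exact hf.mul (hgen i)⟩
    exact Ideal.Quotient.maximal_of_isField _
      (isField_of_isIntegral_of_isField' (R := k) (S := A ⧸ x.asIdeal) (Field.toIsField k))
  refine ⟨p, hp, hck, ?_, fun x hx => ⟨(PrimeSpectrum.isClosed_singleton_iff_isMaximal x).2 (hmax x hx),
    hpow x hx⟩⟩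
  refine Set.Finite.of_finite_image ((I.finite_minimalPrimes_of_isNoetherianRing A).subset ?_)
    (f := PrimeSpectrum.asIdeal) (fun x _ y _ h => PrimeSpectrum.ext h)
  rintro _ ⟨x, hx, rfl⟩
  obtain ⟨q, hq, hqx⟩ := Ideal.exists_minimalPrimes_le ((hmem x).1 hx)
  haveI := hq.1.1
  have hq' : (⟨q, hq.1.1⟩ : PrimeSpectrum A) ∉ U := (hmem _).2 hq.1.2
  rwa [← (hmax _ hq').eq_of_le x.2.ne_top hqx]

end Groth.Agent.S7451
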