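import Groth.Statements.S7455
import Groth.Agent.L24.GrpdField.Fibres
-- import your own Groth.Agent.* helpers here

set_option autoImplicit false
set_option linter.style.haveILetI false
set_option backward.isDefEq.respectTransparency false
set_option backward.isDefEq.respectTransparency.types false
universe u
open CategoryTheory CategoryTheory.Limits AlgebraicGeometry
open Grpd

namespace Groth.Agent.S7455

/-- Let (U, R, s, t, c) be a groupoid scheme over S with U the spectrum of a perfect field, s and t
locally of finite type, and R reduced. Then s and t are smooth. (A groupoid scheme carries U, R, s,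
t, c, e, i over S with the groupoid axioms on T-points; c is defined on the fibre product of s and t
and sends a pair (a, b) with s(a) = t(b) to a composed with b.) -/
theorem result (S : Scheme.{u}) (G : Grpd.GroupoidScheme S) (k : Type u) [Field k] [PerfectField k] (eU : G.U ≅ Spec (CommRingCat.of k)) [LocallyOfFiniteType G.s] [LocallyOfFiniteType G.t] [IsReduced G.R] : Smooth G.s ∧ Smooth G.t := by
  haveI : IsNoetherian (Spec (CommRingCat.of k)) := inferInstance
  haveI : IsLocallyNoetherian G.U := LocallyOfFiniteType.isLocallyNoetherian eU.hom
  haveI : LocallyOfFinitePresentation G.s := inferInstance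
  haveI : LocallyOfFinitePresentation (G.s ≫ eU.hom) := inferInstance
  have hne : (G.s.smoothLocus : Set G.R).Nonempty := by
    haveI : Nonempty G.R := ⟨G.e (eU.inv (IsLocalRing.closedPoint k))⟩
    obtain ⟨r, hr⟩ := (G.s ≫ eU.hom).dense_smoothLocus_of_perfectField.nonempty
    have e := Groth.Agent.S2155.result (G.s ≫ eU.hom) eU.hom G.s (𝟙 _)
      (IsPullback.of_horiz_isIso ⟨(Category.id_comp _)⟩) (Or.inr inferInstance)
    exact ⟨r, by rw [e]; exact hr⟩
  haveI := Groth.L24.GrpdField.smooth_s_of_nonempty_smoothLocus G eU hne
  exact ⟨inferInstance, Groth.L24.GrpdField.smooth_t_of_smooth_s G⟩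

end Groth.Agent.S7455
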