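import Groth.Prelude.Def_Grpd
import Mathlib.AlgebraicGeometry.Morphisms.Finite
import Mathlib.AlgebraicGeometry.Morphisms.Flat
import Mathlib.AlgebraicGeometry.Morphisms.FinitePresentation
import Mathlib.AlgebraicGeometry.AffineScheme
import Mathlib.CategoryTheory.Limits.Shapes.Pullback.IsPullback.Defs
import Groth.Agent.L02.Grpd.Algebra

set_option autoImplicit false
namespace CAlg
end CAlg
universe u
open CategoryTheory CategoryTheory.Limits AlgebraicGeometry
open Grpd

namespace Groth.Agent.S7457

/-- Let (U, R, s, t, c) be a groupoid scheme over S. Let φ : R x_(t,U,t) R -> R x_(s,U,t) R be the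
morphism sending a pair (a, b) with the same target to (a, a^{-1} composed with b), that is, the
morphism whose first component is the first projection and whose second component is c applied to (i
composed after the first projection, second projection). Then φ is an isomorphism and composed with
c it gives the second projection. Moreover the square with sides c, the second projection R
x_(s,U,t) R -> R, s and s is cartesian. (A groupoid scheme carries U, R, s, t, c, e, i over S with
the groupoid axioms on T-points; c is defined on the fibre product of s and t and sends a pair (a,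
b) with s(a) = t(b) to a composed with b.) -/
theorem result (S : Scheme.{u}) (G : Grpd.GroupoidScheme S) : (∀ φ : pullback G.t G.t ⟶ pullback G.s G.t, φ ≫ pullback.fst G.s G.t = pullback.fst G.t G.t → φ ≫ pullback.snd G.s G.t = pullback.lift (pullback.fst G.t G.t ≫ G.i) (pullback.snd G.t G.t) ((Category.assoc _ _ _).trans ((congrArg (fun x => pullback.fst G.t G.t ≫ x) G.i_s).trans pullback.condition)) ≫ G.c → IsIso φ ∧ φ ≫ G.c = pullback.snd G.t G.t) ∧ IsPullback G.c (pullback.snd G.s G.t) G.s G.s := by
  refine ⟨fun φ hf hs => ?_, L02.Grpd.isPullback_c_snd G⟩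
  have hc : φ ≫ G.c = pullback.snd G.t G.t := by
    conv_lhs => rw [← L02.Grpd.c_eq G, L02.Grpd.comp_mul]
    refine (L02.Grpd.mul_congr G hf hs _ ?_).trans
      (L02.Grpd.cancel_left' G (pullback.fst G.t G.t) (pullback.snd G.t G.t) pullback.condition)
    exact (L02.Grpd.mul_t G _ _ _).trans (L02.Grpd.inv_t G _) |>.symm
  refine ⟨⟨pullback.lift (pullback.fst G.s G.t) G.c ?_, ?_, ?_⟩, hc⟩
  · exact (L02.Grpd.isPullback_c_fst G).w.symm
  · apply pullback.hom_ext
    · rw [Category.assoc, pullback.lift_fst, hf, Category.id_comp]
    · rw [Category.assoc, pullback.lift_snd, hc, Category.id_comp]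
  · apply pullback.hom_ext
    · rw [Category.assoc, hf, pullback.lift_fst, Category.id_comp]
    · rw [Category.assoc, hs, Category.id_comp]
      change _ ≫ L02.Grpd.mul G _ _ _ = _
      rw [L02.Grpd.comp_mul]
      refine (L02.Grpd.mul_congr G (by rw [← Category.assoc, pullback.lift_fst]) ?_ _ ?_).trans
        (L02.Grpd.cancel_left G (pullback.fst G.s G.t) (pullback.snd G.s G.t) pullback.condition)
      · rw [pullback.lift_snd, L02.Grpd.c_eq G]
      · exact (L02.Grpd.inv_s G _).trans (L02.Grpd.mul_t G _ _ _).symm

end Groth.Agent.S7457
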