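import Groth.Statements.S7459
import Groth.Agent.L25.GrpBasics
import Mathlib.AlgebraicGeometry.Morphisms.UniversallyOpen

set_option autoImplicit false
universe u
open CategoryTheory MonoidalCategory CartesianMonoidalCategory MonObj GrpObj AlgebraicGeometry
open GrpSch

namespace Groth.Agent.S7459

/-- Let G be a group scheme over a field k, W an open subscheme of G and f : T -> G a morphism of
schemes (T becomes a k-scheme through f). Then the image of the composition T x_k W -> G x_k G -> G,
the second map being the multiplication, is open. -/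
theorem result (K : Type u) [Field K] (G : Over (Spec (CommRingCat.of K))) [GrpObj G] (W : G.left.Opens) (T : Scheme.{u}) (f : T ⟶ G.left) : IsOpen (Set.range ⇑(((Over.homMk f rfl : Over.mk (f ≫ G.hom) ⟶ G) ⊗ₘ (Over.homMk W.ι rfl : Over.mk (W.ι ≫ G.hom) ⟶ G)) ≫ μ[G]).left) := by
  set a : Over.mk (f ≫ G.hom) ⟶ G := Over.homMk f rfl
  set b : Over.mk (W.ι ≫ G.hom) ⟶ G := Over.homMk W.ι rfl
  have e : (a ⊗ₘ b) ≫ μ[G] = (_ ◁ b) ≫ (Groth.L25.GrpBasics.shear a).hom ≫ snd _ G := by
    rw [Groth.L25.GrpBasics.shear_hom_snd, MonoidalCategory.tensorHom_def', Category.assoc]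
  rw [e]
  have hK : UniversallyOpen (Over.mk (f ≫ G.hom)).hom := inferInstance
  have h2 : IsOpenMap (snd (Over.mk (f ≫ G.hom)) G).left := by
    have : UniversallyOpen (Limits.pullback.snd (Over.mk (f ≫ G.hom)).hom G.hom) := UniversallyOpen.snd (hf := hK) _ _
    exact (Limits.pullback.snd (Over.mk (f ≫ G.hom)).hom G.hom).isOpenMap
  have : IsIso (Groth.L25.GrpBasics.shear a).hom.left :=
    inferInstanceAs (IsIso ((Over.forget _).map (Groth.L25.GrpBasics.shear a).hom))
  have hW : IsOpenMap (Over.mk (f ≫ G.hom) ◁ b).left := by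
    have hb : UniversallyOpen ((Over.forget _).map b) := inferInstanceAs (UniversallyOpen W.ι)
    have := MorphismProperty.of_isPullback (P := @UniversallyOpen)
      (((Groth.L25.GrpBasics.isPullback_whiskerLeft (Over.mk (f ≫ G.hom)) b).map (Over.forget _)).flip) hb
    exact this.1 _ _ _ IsPullback.of_id_snd
  simp only [Over.comp_left, Scheme.Hom.comp_base, TopCat.coe_comp]
  exact ((h2.comp ((Groth.L25.GrpBasics.shear a).hom.left.homeomorph.isOpenMap)).comp hW).isOpen_range
end Groth.Agent.S7459
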