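import Groth.Statements.S7464
import Groth.Agent.L24.GrpdPt.Fin

set_option autoImplicit false
universe u
open CategoryTheory CategoryTheory.Limits AlgebraicGeometry
open Grpd

namespace Groth.Agent.S7464

/-- Let (U, R, s, t, c) be a groupoid scheme over S with s and t finite, and let u, u' be distinct
points of U in the same orbit, say u = s(r) and u' = t(r). Then u' does not lie in the closure of u.
(The published statement calls u, u' points of R; this row takes them to be points of U, as the
orbit condition and the proof require.) (A groupoid scheme carries U, R, s, t, c, e, i over S with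
the groupoid axioms on T-points; c is defined on the fibre product of s and t and sends a pair (a,
b) with s(a) = t(b) to a composed with b.) -/
theorem result (S : Scheme.{u}) (G : Grpd.GroupoidScheme S) [IsFinite G.s] [IsFinite G.t] (r : G.R) (hne : G.s r ≠ G.t r) : ¬ (G.s r ⤳ G.t r) := by
  intro hspec
  let O : Set G.U := ⇑G.t '' (⇑G.s ⁻¹' {G.s r})
  have hO : O.Finite := (IsFinite.finite_preimage_singleton G.s _).image _
  have hinv := Groth.L24.GrpdPt.preimage_saturation G {G.s r}
  have key : ∀ w ∈ O, ∃ w' ∈ O, w ⤳ w' ∧ w' ≠ w := by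
    rintro w ⟨q, hq, rfl⟩
    have hq' : G.s q ⤳ G.t r := by rw [show G.s q = G.s r from hq]; exact hspec
    obtain ⟨q', hq₁, hq₂⟩ := G.s.isClosedMap.specializingMap hq'
    refine ⟨G.t q', ?_, hq₁.map G.t.continuous, fun he => ?_⟩
    · show q' ∈ ⇑G.t ⁻¹' O
      rw [← hinv]
      show G.s q' ∈ O
      rw [hq₂]; exact ⟨r, rfl, rfl⟩
    · have h1 : _root_.IsDiscrete (⇑G.t ⁻¹' {G.t q}) := G.t.isDiscrete_preimage_singleton _
      have h2 : q' = q := Groth.L24.GrpdPt.eq_of_specializes_discrete h1 hq₁ rfl he
      subst h2
      exact hne (hq.symm.trans hq₂)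
  exact Groth.L24.GrpdPt.false_of_finite hO (⟨r, rfl, rfl⟩ : G.t r ∈ O) key

end Groth.Agent.S7464
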