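import Groth.Statements.S7486
import Groth.Agent.L24.Quot.Affine
import Groth.Agent.L24.Quot.Basis
-- import your own Groth.Agent.* helpers here

set_option autoImplicit false
universe u
open CategoryTheory CategoryTheory.Limits AlgebraicGeometry
open Grpd

namespace Groth.Agent.S7486

/-- Let (U, R, s, t, c) be a groupoid scheme over S with U = Spec A and R = Spec B affine (A, B the
rings of global functions), and let x_i, i in I, be elements of A such that B is free as an A-module
through s^# with basis the elements t^#(x_i). Let C be the subring of R-invariant functions (those a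
with s^#(a) = t^#(a)). Then the x_i form a basis of A as a C-module, and the C-linear map A (x)_C A
-> B sending a (x) a' to t^#(a) s^#(a') is bijective (B carries the C-module structure through s^#).
(A groupoid scheme carries U, R, s, t, c, e, i over S with the groupoid axioms on T-points; c is
defined on the fibre product of s and t and sends a pair (a, b) with s(a) = t(b) to a composed with
b.) -/
theorem result (S : Scheme.{u}) (G : Grpd.GroupoidScheme S) [IsAffine G.U] [IsAffine G.R] (I : Type u) (x : I → Γ(G.U, ⊤)) (hB : letI := G.s.appTop.hom.toAlgebra; ∃ b : Module.Basis I Γ(G.U, ⊤) Γ(G.R, ⊤), ∀ i, b i = G.t.appTop.hom (x i)) : (∃ b : Module.Basis I G.invariants Γ(G.U, ⊤), ∀ i, b i = x i) ∧ (letI := (G.s.appTop.hom.comp G.invariants.subtype).toAlgebra; ∀ φ : TensorProduct G.invariants Γ(G.U, ⊤) Γ(G.U, ⊤) →ₗ[G.invariants] Γ(G.R, ⊤), (∀ a a' : Γ(G.U, ⊤), φ (a ⊗ₜ[G.invariants] a') = G.t.appTop.hom a * G.s.appTop.hom a') → Function.Bijective φ) := by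
  letI := L24.Quot.algR G
  letI := L24.Quot.algD G
  letI iM : Algebra Γ(G.U, ⊤) Γ(G.R, ⊤) := G.s.appTop.hom.toAlgebra
  obtain ⟨bR, hbR⟩ : ∃ b : @Module.Basis I Γ(G.U, ⊤) Γ(G.R, ⊤) _ _ G.s.appTop.hom.toAlgebra.toModule,
      ∀ i, b i = G.t.appTop.hom (x i) := hB
  have happ : ∀ {P Q : Scheme.{u}} {f g : P ⟶ Q}, f = g → ∀ a, f.appTop.hom a = g.appTop.hom a :=
    fun h a => L24.Quot.appTop_congr h a
  let p1 : Γ(G.R, ⊤) →ₐ[G.invariants] Γ(pullback G.s G.t, ⊤) :=
    ⟨(pullback.fst G.s G.t).appTop.hom, fun c => by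
      have h := happ (pullback.condition (f := G.s) (g := G.t)) (c : Γ(G.U, ⊤))
      simp only [Scheme.Hom.comp_appTop, CommRingCat.hom_comp, RingHom.comp_apply] at h
      show (pullback.fst G.s G.t).appTop.hom (G.s.appTop.hom (c : Γ(G.U, ⊤))) =
        (pullback.snd G.s G.t).appTop.hom (G.s.appTop.hom (c : Γ(G.U, ⊤)))
      rw [h, L24.Quot.inv_st]⟩
  let p2 : Γ(G.R, ⊤) →ₐ[G.invariants] Γ(pullback G.s G.t, ⊤) :=
    ⟨(pullback.snd G.s G.t).appTop.hom, fun _ => rfl⟩
  let m : Γ(G.R, ⊤) →ₐ[G.invariants] Γ(pullback G.s G.t, ⊤) :=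
    ⟨G.c.appTop.hom, fun c => by
      have h := happ (L24.Quot.c_s G) (c : Γ(G.U, ⊤))
      simp only [Scheme.Hom.comp_appTop, CommRingCat.hom_comp, RingHom.comp_apply] at h
      exact h⟩
  let e : Γ(G.R, ⊤) →ₐ[G.invariants] Γ(G.U, ⊤) :=
    ⟨G.e.appTop.hom, fun c => by
      have h := happ G.e_s (c : Γ(G.U, ⊤))
      simp only [Scheme.Hom.comp_appTop, CommRingCat.hom_comp, RingHom.comp_apply] at h
      exact h⟩
  have hlc : ∀ c : I →₀ Γ(G.U, ⊤),
      (c.sum fun i a => G.s.appTop.hom a * G.t.appTop.hom (x i)) = bR.repr.symm c := by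
    intro c
    rw [Module.Basis.repr_symm_apply, Finsupp.linearCombination_apply]
    refine Finsupp.sum_congr fun i _ => ?_
    rw [hbR, Algebra.smul_def]
    rfl
  have hd : L24.Quot.BasisData (L24.Quot.sAlg G) (L24.Quot.tAlg G) e p1 p2 m x := by
    refine
      { p1s := fun a => ?_, ms := fun a => ?_, mt := fun a => ?_, es := fun a => ?_, et := fun a => ?_
        full := fun a ha => ⟨⟨a, ha⟩, rfl⟩, inj := Subtype.val_injective
        surj := fun y => ⟨bR.repr y, (hlc _).trans (bR.repr.symm_apply_apply y)⟩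
        indB := fun c hc => bR.repr.symm.injective ((hlc c).symm.trans (hc.trans (map_zero _).symm))
        indD := fun c hc => ?_ }
    · have h := happ (pullback.condition (f := G.s) (g := G.t)) a
      simp only [Scheme.Hom.comp_appTop, CommRingCat.hom_comp, RingHom.comp_apply] at h
      exact h
    · have h := happ (L24.Quot.c_s G) a
      simp only [Scheme.Hom.comp_appTop, CommRingCat.hom_comp, RingHom.comp_apply] at h
      exact h
    · have h := happ (L24.Quot.c_t G) a
      simp only [Scheme.Hom.comp_appTop, CommRingCat.hom_comp, RingHom.comp_apply] at h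
      exact h
    · have h := happ G.e_s a
      simp only [Scheme.Hom.comp_appTop, CommRingCat.hom_comp, RingHom.comp_apply] at h
      exact h
    · have h := happ G.e_t a
      simp only [Scheme.Hom.comp_appTop, CommRingCat.hom_comp, RingHom.comp_apply] at h
      exact h
    have hpo := (isPushout_appTop_of_isPullback (IsPullback.of_hasPullback G.s G.t)).flip
    letI iAB := G.s.appTop.hom.toAlgebra
    letI iAA' : Algebra Γ(G.U, ⊤) Γ(G.R, ⊤) := G.s.appTop.hom.toAlgebra
    obtain ⟨ψ, hψ1, hψ2⟩ := L24.Quot.exists_functionals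
      (f := G.t.appTop.hom) (s := G.s.appTop.hom) (s' := (pullback.snd G.s G.t).appTop.hom)
      (q := (pullback.fst G.s G.t).appTop.hom) hpo
      (fun i => (bR.coord i).toAddMonoidHom) (fun i a y => (bR.coord i).map_smul a y)
    classical
    ext i
    have h := congrArg (ψ i) hc
    rw [map_zero, map_finsuppSum] at h
    have hterm : ∀ (j : I) (δ : Γ(G.R, ⊤)), ψ i (p2 δ * p1 (G.t.appTop.hom (x j))) =
        if j = i then δ else 0 := by
      intro j δ
      show ψ i ((pullback.snd G.s G.t).appTop.hom δ *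
        (pullback.fst G.s G.t).appTop.hom (G.t.appTop.hom (x j))) = _
      rw [hψ1, hψ2, ← hbR]
      show δ * G.t.appTop.hom (bR.repr (bR j) i) = _
      rw [bR.repr_self, Finsupp.single_apply]
      split_ifs <;> simp
    have h' : (c.sum fun j δ => ψ i (p2 δ * p1 (G.t.appTop.hom (x j)))) = 0 := h
    simp only [hterm, Finsupp.sum_ite_self_eq'] at h'
    simpa using h'
  refine ⟨hd.exists_basis, ?_⟩
  intro φ hφ
  let κ := TensorProduct.comm G.invariants Γ(G.U, ⊤) Γ(G.U, ⊤)
  have hb := hd.bijective_of_tmul (φ ∘ₗ κ.toLinearMap) (fun a a' => by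
    show φ (a' ⊗ₜ a) = _
    rw [hφ, mul_comm]
    rfl)
  exact (Function.Bijective.of_comp_iff φ κ.bijective).1 hb
end Groth.Agent.S7486
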