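import Groth.Statements.S7487
import Groth.Agent.L24.Quot.OfGroupoid
-- import your own Groth.Agent.* helpers here

set_option autoImplicit false
universe u
open CategoryTheory CategoryTheory.Limits AlgebraicGeometry
open Grpd

namespace Groth.Agent.S7487

set_option maxHeartbeats 1600000 in
/-- Let (U, R, s, t, c) be a groupoid scheme over S with U = Spec A and R = Spec B affine and s, t
finite locally free; let C be the subring of R-invariant functions of A and C -> C' a ring map. Put
A' = A (x)_C C' and B' = B (x)_C C' (B a C-algebra through s^#) and let C^1 be the subring of A'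
where the two maps s^# (x) 1, t^# (x) 1 : A' -> B' agree; the structure map C' -> A' lands in C^1,
giving φ : C' -> C^1. Then: (a) for every f in C^1 there are n > 0 and a polynomial P over C' whose
image in A'[x] is (x - f)^n; (b) every element of the kernel of φ is nilpotent; (c) if C -> C' is
flat then φ is bijective, that is C' -> A' is injective with image C^1. (The published statement
also asserts that the base change is again a groupoid scheme; this row omits that clause.) (A
groupoid scheme carries U, R, s, t, c, e, i over S with the groupoid axioms on T-points; c is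
defined on the fibre product of s and t and sends a pair (a, b) with s(a) = t(b) to a composed with
b.) -/
theorem result (S : Scheme.{u}) (G : Grpd.GroupoidScheme S) [IsAffine G.U] [IsAffine G.R] [IsFinite G.s] [Flat G.s] [LocallyOfFinitePresentation G.s] [IsFinite G.t] [Flat G.t] [LocallyOfFinitePresentation G.t] (C' : Type u) [CommRing C'] [Algebra G.invariants C'] : letI : Algebra G.invariants Γ(G.R, ⊤) := (G.s.appTop.hom.comp G.invariants.subtype).toAlgebra; ∀ (sT tT : TensorProduct G.invariants Γ(G.U, ⊤) C' →ₐ[G.invariants] TensorProduct G.invariants Γ(G.R, ⊤) C'), (∀ (a : Γ(G.U, ⊤)) (c : C'), sT (a ⊗ₜ c) = G.s.appTop.hom a ⊗ₜ c) → (∀ (a : Γ(G.U, ⊤)) (c : C'), tT (a ⊗ₜ c) = G.t.appTop.hom a ⊗ₜ c) → (∀ f : TensorProduct G.invariants Γ(G.U, ⊤) C', sT f = tT f → ∃ (n : ℕ) (P : Polynomial C'), 0 < n ∧ Polynomial.map (Algebra.TensorProduct.includeRight : C' →ₐ[G.invariants] TensorProduct G.invariants Γ(G.U, ⊤) C').toRingHom P = (Polynomial.X - Polynomial.C f) ^ n) ∧ (∀ c : C', (Algebra.TensorProduct.includeRight : C' →ₐ[G.invariants]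 TensorProduct G.invariants Γ(G.U, ⊤) C') c = 0 → IsNilpotent c) ∧ (Module.Flat G.invariants C' → Function.Injective (Algebra.TensorProduct.includeRight : C' →ₐ[G.invariants] TensorProduct G.invariants Γ(G.U, ⊤) C') ∧ ∀ f : TensorProduct G.invariants Γ(G.U, ⊤) C', sT f = tT f → f ∈ Set.range (Algebra.TensorProduct.includeRight : C' →ₐ[G.invariants] TensorProduct G.invariants Γ(G.U, ⊤) C')) := by
  letI := L24.Quot.algR G
  letI := L24.Quot.algD G
  obtain ⟨d, hs, ht, hfull⟩ := L24.Quot.exists_dat G
  intro sT tT hsT htT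
  haveI := d.isIntegral (d.lifts_of_full hfull)
  have hinj : Function.Injective (algebraMap G.invariants Γ(G.U, ⊤)) := Subtype.val_injective
  let κ := Algebra.TensorProduct.comm G.invariants Γ(G.U, ⊤) C'
  let κR := Algebra.TensorProduct.comm G.invariants Γ(G.R, ⊤) C'
  have hκs : ∀ f, κR (sT f) = (d.bc C').s (κ f) := by
    intro f
    induction f with
    | zero => simp
    | add x y hx hy => simp only [map_add, hx, hy]
    | tmul a c =>
      rw [hsT]
      (simp [κ, κR, L24.Quot.Dat.bc, hs, L24.Quot.sAlg]) <;> rfl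
  have hκt : ∀ f, κR (tT f) = (d.bc C').t (κ f) := by
    intro f
    induction f with
    | zero => simp
    | add x y hx hy => simp only [map_add, hx, hy]
    | tmul a c =>
      rw [htT]
      (simp [κ, κR, L24.Quot.Dat.bc, ht, L24.Quot.tAlg]) <;> rfl
  have hinc : ∀ c : C', κ.symm (algebraMap C' (TensorProduct G.invariants C' Γ(G.U, ⊤)) c) =
      (Algebra.TensorProduct.includeRight :
        C' →ₐ[G.invariants] TensorProduct G.invariants Γ(G.U, ⊤) C') c := by
    intro c
    apply κ.injective
    simp [κ]
  refine ⟨fun f hf => ?_, fun c hc => ?_, fun hflat => ⟨fun x y hxy => ?_, fun f hf => ?_⟩⟩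
  · have hf' : (d.bc C').s (κ f) = (d.bc C').t (κ f) := by rw [← hκs, ← hκt, hf]
    obtain ⟨N, P, hN, hP⟩ := (d.bc C').exists_pow_lift (d.bc_lifts C' hfull) (d.bc_rkE C' hfull) (κ f) hf'
    refine ⟨N, P, hN, ?_⟩
    have h := congrArg (Polynomial.map (κ.symm.toAlgHom.toRingHom)) hP
    rw [Polynomial.map_map, Polynomial.map_pow, Polynomial.map_sub, Polynomial.map_X,
      Polynomial.map_C] at h
    refine Eq.trans ?_ (h.trans ?_)
    · congr 1
    · simp
  · refine L24.Quot.isNilpotent_of_tmul_eq_zero hinj C' c (κ.symm.injective ?_)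
    rw [hinc, hc, map_zero]
  · rw [← hinc, ← hinc] at hxy
    exact L24.Quot.Dat.bc_injective C' hinj (κ.symm.injective hxy)
  · have hf' : (d.bc C').s (κ f) = (d.bc C').t (κ f) := by rw [← hκs, ← hκt, hf]
    obtain ⟨c, hc⟩ := d.bc_full C' hfull _ hf'
    exact ⟨c, by rw [← hinc, hc, AlgEquiv.symm_apply_apply]⟩

end Groth.Agent.S7487
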