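import Groth.Prelude.Def_QuotSh
import Mathlib.AlgebraicGeometry.Pullbacks
import Groth.Prelude.Def_QuotSh
import Mathlib.CategoryTheory.Sites.RegularEpi
import Mathlib.CategoryTheory.Limits.Shapes.KernelPair
import Mathlib.CategoryTheory.Sites.LeftExact
import Mathlib.CategoryTheory.Limits.Constructions.Over.Connected
import Mathlib.CategoryTheory.Limits.Shapes.Pullback.IsPullback.Basic

set_option autoImplicit false
set_option linter.style.haveILetI false
namespace QuotSh
end QuotSh
open CategoryTheory CategoryTheory.Limits AlgebraicGeometry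
universe u
open QuotSh

namespace Groth.Agent.S7490

/-- Let K be a precoverage on schemes (the topology τ), S a scheme, s, t : R -> U morphisms of schemes
over S (a pre-relation) and q : U -> M a morphism over S such that (1) q coequalizes s and t, (2)
the induced map of τ-sheaves h_U -> h_M is an epimorphism, and (3) the map h_R -> h_(U x_M U)
induced by (t, s) is an epimorphism of τ-sheaves. Then M, through q, represents the quotient sheaf
U/R: the canonical map from the coequalizer of h_s, h_t to h_M is an isomorphism. (The published
statement takes τ to be the Zariski, étale, fppf, smooth or syntomic topology; this row allows the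
topology generated by any precoverage K.) -/
theorem result (K : Precoverage Scheme.{u}) {S : Scheme.{u}} {R U M : Over S} (s t : R ⟶ U) (q : U ⟶ M) (w : s ≫ q = t ≫ q) (w' : t.left ≫ q.left = s.left ≫ q.left) (h₂ : Epi (QuotSh.repMap K q)) (h₃ : Epi (QuotSh.repMap K (Over.homMk (pullback.lift t.left s.left w') (((Category.assoc _ _ _).symm.trans (congrArg (fun k => k ≫ U.hom) (pullback.lift_fst t.left s.left w'))).trans (Over.w t)) : R ⟶ Over.mk (pullback.fst q.left q.left ≫ U.hom)))) : QuotSh.IsQuotient K s t q := by
  let F : Over S ⥤ QuotSh.Sh K S :=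
    (yoneda ⋙ (Functor.whiskeringRight _ _ _).obj uliftFunctor.{u + 1, u}) ⋙ presheafToSheaf (QuotSh.J K S) (Type (u + 1))
  haveI : PreservesFiniteLimits F := by
    haveI : PreservesFiniteLimits (yoneda ⋙ (Functor.whiskeringRight (Over S)ᵒᵖ _ _).obj uliftFunctor.{u + 1, u}) :=
      comp_preservesFiniteLimits _ _
    exact comp_preservesFiniteLimits _ _
  let P : Over S := Over.mk (pullback.fst q.left q.left ≫ U.hom)
  let a : P ⟶ U := Over.homMk (pullback.fst q.left q.left) rfl
  let b : P ⟶ U := Over.homMk (pullback.snd q.left q.left) (by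
    show pullback.snd q.left q.left ≫ U.hom = pullback.fst q.left q.left ≫ U.hom
    rw [← Over.w q, ← Category.assoc, ← pullback.condition, Category.assoc])
  have hP : IsPullback a b q q :=
    IsPullback.of_map (Over.forget S) (by ext; exact pullback.condition)
      (IsPullback.of_hasPullback q.left q.left)
  have hk : IsKernelPair (F.map q) (F.map a) (F.map b) := hP.map F
  haveI : Epi (F.map q) := h₂
  haveI : IsRegularEpiCategory (QuotSh.Sh K S) :=
    inferInstanceAs (IsRegularEpiCategory (Sheaf (QuotSh.J K S) (Type (u + 1))))
  haveI : IsRegularEpi (F.map q) := IsRegularEpiCategory.regularEpiOfEpi _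
  have hcol := IsKernelPair.toCoequalizer' hk
  refine ⟨w, ?_⟩
  have key : F.map a ≫ QuotSh.quotπ K s t = F.map b ≫ QuotSh.quotπ K s t := by
    haveI : Epi (F.map (Over.homMk (pullback.lift t.left s.left w') (((Category.assoc _ _ _).symm.trans (congrArg (fun k => k ≫ U.hom) (pullback.lift_fst t.left s.left w'))).trans (Over.w t)) : R ⟶ P)) := h₃
    let r : R ⟶ P := Over.homMk (pullback.lift t.left s.left w') (((Category.assoc _ _ _).symm.trans (congrArg (fun k => k ≫ U.hom) (pullback.lift_fst t.left s.left w'))).trans (Over.w t))
    haveI : Epi (F.map r) := h₃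
    have ha : F.map r ≫ F.map a = F.map t :=
      (F.map_comp r a).symm.trans (congrArg F.map (Over.OverMorphism.ext (pullback.lift_fst _ _ _)))
    have hb : F.map r ≫ F.map b = F.map s :=
      (F.map_comp r b).symm.trans (congrArg F.map (Over.OverMorphism.ext (pullback.lift_snd _ _ _)))
    apply (cancel_epi (F.map r)).1
    exact ((Category.assoc _ _ _).symm.trans (congrArg (· ≫ QuotSh.quotπ K s t) ha)).trans
      ((QuotSh.quot_condition K s t).symm.trans ((congrArg (· ≫ QuotSh.quotπ K s t) hb).symm.trans (Category.assoc _ _ _)))
  refine ⟨Cofork.IsColimit.desc hcol (QuotSh.quotπ K s t) key, ?_, ?_⟩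
  · apply coequalizer.hom_ext
    dsimp only [QuotSh.quotDesc]
    erw [coequalizer.π_desc_assoc, Category.comp_id]
    exact Cofork.IsColimit.π_desc' hcol _ _
  · apply Cofork.IsColimit.hom_ext hcol
    show F.map q ≫ _ = F.map q ≫ _
    erw [Cofork.IsColimit.π_desc'_assoc hcol, Category.comp_id]
    exact coequalizer.π_desc _ _

end Groth.Agent.S7490
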