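import Groth.Statements.S7494
import Groth.Agent.L25.Actions

set_option autoImplicit false
universe u
open CategoryTheory MonoidalCategory CartesianMonoidalCategory MonObj GrpObj AlgebraicGeometry
open AlgGrp

namespace Groth.Agent.S7494

/-- Let G be a group scheme over S acting on a scheme X over S by a. The action is free, meaning that
for every scheme T over S and all T-points g of G and x of X with g · x = x one has g = 1, if and
only if the morphism G x_S X -> X x_S X, (g, x) ↦ (a(g, x), x), is a monomorphism of schemes. -/
theorem result {S : Scheme.{u}} (G X : Over S) [GrpObj G] (a : AlgGrp.Action G X) : (∀ (T : Over S) (g : T ⟶ G) (x : T ⟶ X), lift g x ≫ a.act = x → g = toUnit T ≫ η[G]) ↔ Mono (lift a.act (snd G X)).left := by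
  constructor
  · intro h
    have : Mono (lift a.act (CartesianMonoidalCategory.snd G X)) := ⟨fun {T} p q hpq => by
      have h1 := congrArg (fun f => f ≫ CartesianMonoidalCategory.fst X X) hpq
      have h2 := congrArg (fun f => f ≫ CartesianMonoidalCategory.snd X X) hpq
      simp only [Category.assoc, lift_fst, lift_snd] at h1 h2
      have e : ∀ r : T ⟶ G ⊗ X, r ≫ a.act = lift (r ≫ CartesianMonoidalCategory.fst G X) (r ≫ CartesianMonoidalCategory.snd G X) ≫ a.act := by
        intro r; rw [← comp_lift, lift_fst_snd, Category.comp_id]
      rw [e p, e q, ← h2] at h1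
      have h3 := h T ((q ≫ CartesianMonoidalCategory.fst G X)⁻¹ * (p ≫ CartesianMonoidalCategory.fst G X)) (p ≫ CartesianMonoidalCategory.snd G X) (by
        rw [Groth.L25.Actions.mul_act, h1, ← Groth.L25.Actions.mul_act, inv_mul_cancel, Groth.L25.Actions.one_act])
      rw [← Hom.one_def, inv_mul_eq_one] at h3
      exact CartesianMonoidalCategory.hom_ext _ _ h3.symm h2⟩
    infer_instance
  · intro h T g x hgx
    have : Mono (lift a.act (CartesianMonoidalCategory.snd G X)) := Over.mono_of_mono_left _
    have : lift g x = lift 1 x := by
      rw [← cancel_mono (lift a.act (CartesianMonoidalCategory.snd G X)), comp_lift, comp_lift, hgx, Groth.L25.Actions.one_act,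
        lift_snd, lift_snd]
    rw [← Hom.one_def]
    simpa using congrArg (fun f => f ≫ CartesianMonoidalCategory.fst G X) this
end Groth.Agent.S7494
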