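import Groth.Statements.S7502
import Groth.Agent.L19.PullChart
import Groth.Agent.L16.CohSupport
import Groth.Agent.L16.QcqsPush
import Groth.Agent.L16.AffineBC.Pullback
import Groth.Agent.L16.Devissage
import Groth.Agent.L17.FlatBase.CxTools
import Groth.Agent.S4348

set_option autoImplicit false
universe u
open CategoryTheory CategoryTheory.Limits AlgebraicGeometry
open Coh

namespace Groth.Agent.S7502

/-- Let f : Y -> X be a morphism of schemes which is quasi-compact, quasi-separated, flat and
surjective, with X and Y locally Noetherian. Let F be a quasi-coherent O_X-module, G a coherent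
O_Y-module and φ : G -> f^*F an injective map of O_Y-modules. Then the O_X-module F ∩ f_*G, defined
as the fibre product of the adjunction unit F -> f_*f^*F with f_*φ : f_*G -> f_*f^*F, is coherent.
('Coherent' is quasi-coherent of finite type, the usual notion on locally Noetherian schemes.) -/
theorem result {X Y : Scheme.{u}} (f : Y ⟶ X) [QuasiCompact f] [QuasiSeparated f] [Flat f] [Surjective f] [IsLocallyNoetherian X] [IsLocallyNoetherian Y] (F : X.Modules) (hF : Coh.IsQCoh F) (G : Y.Modules) (hG : Coh.IsCoh G) (φ : G ⟶ (Scheme.Modules.pullback f).obj F) [Mono φ] : Coh.IsCoh (Limits.pullback ((Scheme.Modules.pullbackPushforwardAdjunction f).unit.app F) ((Scheme.Modules.pushforward f).map φ)) := by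
  haveI := hF
  haveI : Coh.IsQCoh G := hG.1
  haveI hF' : Coh.IsQCoh ((Scheme.Modules.pullback f).obj F) := Groth.L16.AffineBC.isQCoh_pullback f F
  let adj := Scheme.Modules.pullbackPushforwardAdjunction f
  let η := adj.unit.app F
  let g := (Scheme.Modules.pushforward f).map φ
  have hKq : Coh.IsQCoh (Limits.pullback η g) := Groth.Agent.S4348.isQCoh_pullback' η g hF
    (Groth.L16.QcqsPush.isQCoh_push G f) (Groth.L16.QcqsPush.isQCoh_push _ f)
  haveI := hKq
  haveI : Coh.IsQCoh ((Scheme.Modules.pullback f).obj (Limits.pullback η g)) :=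
    Groth.L16.AffineBC.isQCoh_pullback f _
  haveI := Groth.L17.CxTools.preservesFiniteLimits_pullback (f := f)
  haveI : (Scheme.Modules.pushforward f).IsRightAdjoint := adj.isRightAdjoint
  haveI : Mono g := inferInstance
  let ψ := (adj.homEquiv _ _).symm (Limits.pullback.snd η g)
  have hψ : ψ ≫ φ = (Scheme.Modules.pullback f).map (Limits.pullback.fst η g) := by
    have h1 : (adj.homEquiv _ _).symm (Limits.pullback.snd η g ≫ g) = ψ ≫ φ :=
      adj.homEquiv_naturality_right_symm _ _
    have h2 : (adj.homEquiv _ _).symm (Limits.pullback.fst η g ≫ η) =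
        (Scheme.Modules.pullback f).map (Limits.pullback.fst η g) := by
      rw [adj.homEquiv_naturality_left_symm, show (adj.homEquiv _ _).symm η = 𝟙 _ from
        (adj.homEquiv _ _).injective (by simp [η, Adjunction.homEquiv_unit]), Category.comp_id]
    rw [← h1, ← pullback.condition, h2]
  haveI : Mono (ψ ≫ φ) := by rw [hψ]; infer_instance
  haveI : Mono ψ := mono_of_mono ψ φ
  haveI : Coh.IsQCoh (cokernel ψ) := Groth.L16.Devissage.isQCoh_cokernel ψ
  haveI := hKq
  refine Groth.L19.PullChart.isCoh_of_pullback f _ ?_
  exact Groth.L16.CohSupport.isCoh_of_iso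
    (@asIso _ _ _ _ (Abelian.factorThruImage ψ) inferInstance).symm
    (Groth.L16.CohSupport.isCoh_kernel hG (cokernel.π ψ))

end Groth.Agent.S7502
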