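import Groth.Statements.S7509
import Groth.Agent.L24.GrpdField.PairGrpd
-- import your own Groth.Agent.* helpers here

set_option autoImplicit false
set_option linter.style.haveILetI false
set_option backward.isDefEq.respectTransparency false
set_option backward.isDefEq.respectTransparency.types false
universe u
open CategoryTheory CategoryTheory.Limits AlgebraicGeometry
open Grpd

namespace Groth.Agent.S7509

/-- Let (U, R, s, t, c) be a groupoid scheme over S with U the spectrum of a field and R quasi-compact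
(equivalently s, t quasi-compact), and let Z be the scheme-theoretic image of j = (t, s) : R -> U
x_S U. Then (U, Z, pr_0|_Z, pr_1|_Z, pr_02) is a groupoid scheme over S; stated as: there are a
groupoid scheme G' over S and a morphism of groupoid schemes φ : (U, R, s, t, c) -> G' which is an
isomorphism on object schemes, such that j' : G'.R -> G'.U x_S G'.U is a closed immersion whose
kernel ideal sheaf equals the kernel ideal sheaf of j followed by the induced isomorphism U x_S U ->
G'.U x_S G'.U (so G'.R is the scheme-theoretic image of j, transported). (A groupoid scheme carries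
U, R, s, t, c, e, i over S with the groupoid axioms on T-points; c is defined on the fibre product
of s and t and sends a pair (a, b) with s(a) = t(b) to a composed with b.) -/
theorem result (S : Scheme.{u}) (G : Grpd.GroupoidScheme S) (k : Type u) [Field k] (eU : G.U ≅ Spec (CommRingCat.of k)) [CompactSpace G.R] : ∃ (G' : Grpd.GroupoidScheme S) (φ : Grpd.GroupoidScheme.Hom G G'), IsIso φ.fU ∧ IsClosedImmersion G'.j ∧ G'.j.ker = (G.j ≫ pullback.map G.pU G.pU G'.pU G'.pU φ.fU φ.fU (𝟙 S) ((Category.comp_id _).trans φ.fU_over.symm) ((Category.comp_id _).trans φ.fU_over.symm)).ker := by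
  haveI : Subsingleton G.U := eU.hom.homeomorph.toEquiv.subsingleton
  haveI : Nonempty G.U := ⟨eU.inv (IsLocalRing.closedPoint k)⟩
  haveI : AlgebraicGeometry.IsIntegral G.U := isIntegral_of_isOpenImmersion eU.hom
  haveI : Subsingleton (Groth.L24.GrpdField.pairGrpd G.pU).U := eU.hom.homeomorph.toEquiv.subsingleton
  haveI : Nonempty (Groth.L24.GrpdField.pairGrpd G.pU).U := ⟨eU.inv (IsLocalRing.closedPoint k)⟩
  haveI : AlgebraicGeometry.IsIntegral (Groth.L24.GrpdField.pairGrpd G.pU).U := isIntegral_of_isOpenImmersion eU.hom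
  haveI : IsAffine G.U := IsAffine.of_isIso eU.hom
  haveI : QuasiSeparatedSpace ↥(pullback G.pU G.pU) := by
    let m := pullback.map G.pU G.pU (terminal.from G.U) (terminal.from G.U) (𝟙 _) (𝟙 _) (terminal.from S)
      (Subsingleton.elim _ _) (Subsingleton.elim _ _)
    haveI : Mono m := ⟨fun g h w => pullback.hom_ext (by simpa [m] using w =≫ pullback.fst _ _)
      (by simpa [m] using w =≫ pullback.snd _ _)⟩
    refine (quasiSeparatedSpace_iff_quasiSeparated (pullback G.pU G.pU)).mpr ?_
    rw [Subsingleton.elim (terminal.from (pullback G.pU G.pU)) (m ≫ pullback.fst _ _ ≫ terminal.from G.U)]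
    infer_instance
  haveI : QuasiCompact (Groth.L24.GrpdField.jHom G).fR := quasiCompact_of_compactSpace G.j
  obtain ⟨G', ψ, hU, hR, hker⟩ := Groth.L24.GrpdField.exists_image (Groth.L24.GrpdField.jHom G)
  haveI := hU; haveI := hR
  obtain ⟨φ, hφR, hφU⟩ := Groth.L24.GrpdField.exists_factor_hom (Groth.L24.GrpdField.jHom G) ψ
    (IsClosedImmersion.lift ψ.fR _ hker.le) (IsClosedImmersion.lift_fac _ _ _)
  have hφU' : φ.fU = @inv _ _ _ _ ψ.fU hU := hφU.trans (Category.id_comp _)
  haveI hφi : IsIso φ.fU := hφU' ▸ inferInstance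
  have e₁ : G'.pU ≫ 𝟙 S = ψ.fU ≫ G.pU := (Category.comp_id _).trans ψ.fU_over.symm
  have hj := Groth.L24.GrpdField.j_eq (p := G.pU) ψ e₁
  have e₂ : G.pU ≫ 𝟙 S = φ.fU ≫ G'.pU := (Category.comp_id _).trans φ.fU_over.symm
  let m := pullback.map G'.pU G'.pU G.pU G.pU ψ.fU ψ.fU (𝟙 S) e₁ e₁
  have hinv : ψ.fU ≫ φ.fU = 𝟙 G'.U := by rw [hφU']; exact @IsIso.hom_inv_id _ _ _ _ ψ.fU hU
  have hmm : m ≫ pullback.map G.pU G.pU G'.pU G'.pU φ.fU φ.fU (𝟙 S) e₂ e₂ = 𝟙 _ := by
    refine pullback.hom_ext ?_ ?_
    · simp only [m, Category.assoc, pullback.lift_fst, pullback.lift_fst_assoc, hinv, Category.comp_id, Category.id_comp]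
    · simp only [m, Category.assoc, pullback.lift_snd, pullback.lift_snd_assoc, hinv, Category.comp_id, Category.id_comp]
  haveI hm : IsClosedImmersion (G'.j ≫ m) := by
    show IsClosedImmersion (G'.j ≫ pullback.map G'.pU G'.pU G.pU G.pU ψ.fU ψ.fU (𝟙 S) e₁ e₁)
    rw [hj]; exact hR
  refine ⟨G', φ, hφi, IsClosedImmersion.of_comp G'.j m, ?_⟩
  have hcomp : ψ.fR ≫ pullback.map G.pU G.pU G'.pU G'.pU φ.fU φ.fU (𝟙 S) e₂ e₂ = G'.j := by
    conv_rhs => rw [← Category.comp_id G'.j, ← hmm, ← Category.assoc]
    exact congrArg (· ≫ _) hj.symm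
  rw [← hcomp, ← Scheme.IdealSheafData.map_ker ψ.fR, ← Scheme.IdealSheafData.map_ker G.j]
  exact congrArg (fun I : (pullback G.pU G.pU).IdealSheafData => I.map _) hker

end Groth.Agent.S7509
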