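import Groth.Statements.S7514
import Mathlib.AlgebraicGeometry.Morphisms.FormallyUnramified
import Mathlib.AlgebraicGeometry.Morphisms.IsIso
import Mathlib.FieldTheory.IsAlgClosed.AlgebraicClosure
-- import your own Groth.Agent.* helpers here

set_option autoImplicit false
universe u
open CategoryTheory CategoryTheory.Limits AlgebraicGeometry
open Grpd

set_option backward.isDefEq.respectTransparency false
set_option backward.isDefEq.respectTransparency.types false

namespace Groth.Agent.S7514

/-- Let S be a scheme, U a scheme over S and j : R -> U x_S U a pre-relation, with t = pr_0 ∘ j and s =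
pr_1 ∘ j. Assume (1) s and t are unramified (formally unramified and locally of finite type), (2)
for every algebraically closed field k, the map from k-points of R to pairs of k-points of U is
injective with image an equivalence relation, and (3) there are morphisms e : U -> R, i : R -> R and
c : R x_(s,U,t) R -> R such that j ∘ e is the diagonal, j ∘ i is j followed by the flip of the two
factors, and j ∘ c is pr_02 ∘ (j x j) (the arrow c(a, b) has target t(a) and source s(b)). Then j is
an equivalence relation: j is a monomorphism and, for every scheme T, the relation 'there is a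
T-point r of R with t ∘ r = a and s ∘ r = b' on T-points a, b of U is an equivalence relation. -/
theorem result {S U R : Scheme.{u}} (pU : U ⟶ S) (j : R ⟶ pullback pU pU) [FormallyUnramified (j ≫ pullback.fst pU pU)] [LocallyOfFiniteType (j ≫ pullback.fst pU pU)] [FormallyUnramified (j ≫ pullback.snd pU pU)] [LocallyOfFiniteType (j ≫ pullback.snd pU pU)] (h₂ : ∀ (k : Type u) [Field k] [IsAlgClosed k], Function.Injective (fun r : Spec (CommRingCat.of k) ⟶ R => r ≫ j) ∧ Equivalence (fun a b : Spec (CommRingCat.of k) ⟶ U => ∃ r : Spec (CommRingCat.of k) ⟶ R, r ≫ j ≫ pullback.fst pU pU = a ∧ r ≫ j ≫ pullback.snd pU pU = b)) (e : U ⟶ R) (he : e ≫ j = pullback.lift (𝟙 U) (𝟙 U) rfl) (i : R ⟶ R) (hi : i ≫ j = j ≫ (pullbackSymmetry pU pU).hom) (c : pullback (j ≫ pullback.snd pU pU) (j ≫ pullback.fst pU pU) ⟶ R) (hc₁ : c ≫ j ≫ pullback.fst pU pU = pullback.fst (j ≫ pullback.snd pU pU) (j ≫ pullback.fst pU pU) ≫ j ≫ pullback.fst pU pU) (hc₂ : c ≫ j ≫ pullback.snd pU pU = pullback.snd (j ≫ pullback.snd pU pU) (j ≫ pullback.fst pU pU) ≫ j ≫ pullback.snd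 pU pU) : Mono j ∧ ∀ T : Scheme.{u}, Equivalence (fun a b : T ⟶ U => ∃ r : T ⟶ R, r ≫ j ≫ pullback.fst pU pU = a ∧ r ≫ j ≫ pullback.snd pU pU = b) := by
  haveI : FormallyUnramified j := FormallyUnramified.of_comp j (pullback.fst pU pU)
  haveI : LocallyOfFiniteType j := locallyOfFiniteType_of_comp j (pullback.fst pU pU)
  haveI : Surjective (pullback.diagonal j) := ⟨fun z => by
    let K : Type u := AlgebraicClosure ((pullback j j).residueField z)
    let pt : Spec (CommRingCat.of K) ⟶ pullback j j :=
      Spec.map (CommRingCat.ofHom (algebraMap ((pullback j j).residueField z) K)) ≫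
        (pullback j j).fromSpecResidueField z
    have hpt : ∀ w, pt w = z := fun w => by
      rw [Scheme.Hom.comp_apply]; exact Scheme.fromSpecResidueField_apply _ _
    have h := (h₂ K).1 (a₁ := pt ≫ pullback.fst j j) (a₂ := pt ≫ pullback.snd j j)
      (by simp only [Category.assoc, pullback.condition])
    let w : Spec (CommRingCat.of K) := IsLocalRing.closedPoint K
    refine ⟨(pt ≫ pullback.fst j j) w, ?_⟩
    have e : (pt ≫ pullback.fst j j) ≫ pullback.diagonal j = pt := by
      apply pullback.hom_ext
      · simp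
      · simpa using h
    rw [← Scheme.Hom.comp_apply, e, hpt]⟩
  haveI : IsIso (pullback.diagonal j) :=
    (isIso_iff_isOpenImmersion_and_surjective _).2 ⟨inferInstance, inferInstance⟩
  refine ⟨(pullback.isIso_diagonal_iff j).1 inferInstance, fun T => ⟨fun a => ?_, ?_, ?_⟩⟩
  · exact ⟨a ≫ e, by simp [reassoc_of% he], by simp [reassoc_of% he]⟩
  · rintro a b ⟨r, rfl, rfl⟩
    exact ⟨r ≫ i, by simp [reassoc_of% hi], by simp [reassoc_of% hi]⟩
  · rintro a b c' ⟨r, rfl, rfl⟩ ⟨r', hr', rfl⟩
    exact ⟨pullback.lift r r' hr'.symm ≫ c, by simp [hc₁], by simp [hc₂]⟩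

end Groth.Agent.S7514
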