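import Groth.Statements.S7515
import Groth.Agent.S1895
import Groth.Agent.S1878
import Groth.Agent.L24.AffQuot.EtaleStab.Target
import Groth.Agent.L23.ThickSplit
-- import your own Groth.Agent.* helpers here

set_option autoImplicit false
set_option backward.isDefEq.respectTransparency.types false
universe u
open CategoryTheory CategoryTheory.Limits AlgebraicGeometry
open Grpd

namespace Groth.Agent.S7515

/-- Let f : (U', R', s', t', c') -> (U, R, s, t, c) be a morphism of groupoid schemes over S with U, R,
U', R' affine, s, t, s', t' finite locally free, the squares for s and for t cartesian, the induced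
square of stabilizer group schemes cartesian, and f : U' -> U étale. Then for the morphism g : Spec
C' -> Spec C on spectra of invariant rings compatible with U' -> U, the square with sides U' -> U,
U' -> Spec C', g and U -> Spec C is cartesian, that is U' = Spec C' x_(Spec C) U. (The source also
shows that g is étale; that conclusion is not stated here.) (A groupoid scheme carries U, R, s, t,
c, e, i over S with the groupoid axioms on T-points; c is defined on the fibre product of s and t
and sends a pair (a, b) with s(a) = t(b) to a composed with b.) C ⊂ Γ(U) is the ring of functions a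
with s^#(a) = t^#(a). -/
theorem result (S : Scheme.{u}) (G' G : Grpd.GroupoidScheme S) (f : Grpd.GroupoidScheme.Hom G' G) [IsAffine G.U] [IsAffine G.R] [IsAffine G'.U] [IsAffine G'.R] [IsFinite G.s] [Flat G.s] [LocallyOfFinitePresentation G.s] [IsFinite G.t] [Flat G.t] [LocallyOfFinitePresentation G.t] [IsFinite G'.s] [Flat G'.s] [LocallyOfFinitePresentation G'.s] [IsFinite G'.t] [Flat G'.t] [LocallyOfFinitePresentation G'.t] (hs : IsPullback f.fR G'.s G.s f.fU) (ht : IsPullback f.fR G'.t G.t f.fU) (hstab : ∃ g : G'.stabilizer ⟶ G.stabilizer, g ≫ pullback.fst G.j G.diag = pullback.fst G'.j G'.diag ≫ f.fR ∧ IsPullback g G'.stabilizerToU G.stabilizerToU f.fU) [Etale f.fU] : ∀ g : Spec (CommRingCat.of G'.invariants) ⟶ Spec (CommRingCat.of G.invariants), G'.toQuot ≫ g = f.fU ≫ G.toQuot → IsPullback f.fU G'.toQuot G.toQuot g := by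
  intro g hg
  obtain ⟨g₀, hg₀, het⟩ := Groth.Agent.S1895.result S G' G f hs ht hstab
  haveI : Etale g := by
    have h1 : G'.toQuot ≫ g = G'.toQuot ≫ g₀ := hg.trans hg₀.symm
    suffices g = g₀ from this ▸ het
    rw [Grpd.GroupoidScheme.toQuot, Category.assoc, Category.assoc, cancel_epi] at h1
    obtain ⟨r, rfl⟩ := Spec.map_surjective g
    obtain ⟨r₀, rfl⟩ := Spec.map_surjective g₀
    rw [← Spec.map_comp, ← Spec.map_comp] at h1
    congr 1
    refine CommRingCat.hom_ext (RingHom.ext fun c => Subtype.ext ?_)
    exact congr(($(Spec.map_injective h1)).hom c)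
  obtain ⟨-, hk⟩ := Groth.Agent.S1878.result S G
  obtain ⟨-, hk'⟩ := Groth.Agent.S1878.result S G'
  let l : G'.U ⟶ pullback G.toQuot g := pullback.lift f.fU G'.toQuot hg.symm
  have hl₁ : l ≫ pullback.fst G.toQuot g = f.fU := pullback.lift_fst _ _ _
  have hl₂ : l ≫ pullback.snd G.toQuot g = G'.toQuot := pullback.lift_snd _ _ _
  haveI : Etale (l ≫ pullback.fst G.toQuot g) := by rw [hl₁]; infer_instance
  haveI : Etale l := Etale.of_comp l (pullback.fst G.toQuot g)
  have hinj : ∀ (K : Type u) [Field K] [IsAlgClosed K] (a b : Spec (CommRingCat.of K) ⟶ G'.U),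
      a ≫ l = b ≫ l → a = b := by
    intro K _ _ a b hab
    have h1 : a ≫ f.fU = b ≫ f.fU := by rw [← hl₁, reassoc_of% hab]
    have h2 : a ≫ G'.toQuot = b ≫ G'.toQuot := by rw [← hl₂, reassoc_of% hab]
    obtain ⟨r, hrt, hrs⟩ := ((hk' K).2 a b).1 h2
    have h3 := Groth.L24.AffQuot.EtaleStab.target_eq f hs hstab r (b ≫ G'.e)
      (by rw [hrs, Category.assoc, G'.e_s, Category.comp_id])
      (by rw [f.comm_t, reassoc_of% hrt, h1, Category.assoc, reassoc_of% G'.e_t])
    rw [hrt, Category.assoc, G'.e_t, Category.comp_id] at h3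
    exact h3
  haveI : UniversallyInjective l := by
    refine ((tfae_universallyInjective l).out 1 0).1 ?_
    intro K hK a b hab
    letI := hK
    let i := Spec.map (CommRingCat.ofHom (algebraMap K (AlgebraicClosure K)))
    haveI : Surjective i := ⟨fun x => ⟨default, Subsingleton.elim _ _⟩⟩
    haveI : Flat i := (HasRingHomProperty.Spec_iff (P := @Flat)).2
      (RingHom.flat_algebraMap_iff.2 inferInstance)
    haveI : QuasiCompact i := inferInstance
    haveI : Epi i := Flat.epi_of_flat_of_surjective i
    have := hinj (AlgebraicClosure K) (i ≫ a) (i ≫ b) (by simp only [Category.assoc]; exact congrArg (i ≫ ·) hab)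
    exact (cancel_epi i).1 this
  haveI : Surjective l := by
    refine ⟨fun y => ?_⟩
    let K := AlgebraicClosure ((pullback G.toQuot g).residueField y)
    let pt : Spec (CommRingCat.of K) ⟶ pullback G.toQuot g :=
      Spec.map (CommRingCat.ofHom (algebraMap ((pullback G.toQuot g).residueField y) K)) ≫
        (pullback G.toQuot g).fromSpecResidueField y
    let z := pt ≫ pullback.fst G.toQuot g
    obtain ⟨w', hw'⟩ := (hk' K).1 (pt ≫ pullback.snd G.toQuot g)
    obtain ⟨r, hrt, hrs⟩ := ((hk K).2 z (w' ≫ f.fU)).1 (by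
      simp only [z, Category.assoc]
      rw [← hg, reassoc_of% hw', pullback.condition])
    let r' := hs.lift r w' hrs
    have hl : (r' ≫ G'.t) ≫ l = pt := by
      apply pullback.hom_ext
      · rw [Category.assoc, hl₁, Category.assoc, ← f.comm_t, hs.lift_fst_assoc, hrt]
      · rw [Category.assoc, hl₂]
        have := ((hk' K).2 (r' ≫ G'.t) (r' ≫ G'.s)).2 ⟨r', rfl, rfl⟩
        rw [this, hs.lift_snd, hw']
    refine ⟨(r' ≫ G'.t) default, ?_⟩
    rw [← Scheme.Hom.comp_apply, hl]
    show (pullback G.toQuot g).fromSpecResidueField y _ = y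
    rw [Scheme.fromSpecResidueField_apply]
  haveI := Groth.L23.isOpenImmersion_of_etale_univInjective l
  haveI : IsIso l := (isIso_iff_isOpenImmersion_and_surjective l).2 ⟨inferInstance, inferInstance⟩
  exact IsPullback.of_iso_pullback ⟨hg.symm⟩ (asIso l) hl₁ hl₂

end Groth.Agent.S7515
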