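import Groth.Statements.S7522
import Mathlib.AlgebraicGeometry.PullbackCarrier
-- import your own Groth.Agent.* helpers here

set_option autoImplicit false
universe u
open CategoryTheory CategoryTheory.Limits AlgebraicGeometry
open Grpd

namespace Groth.Agent.S7522

/-- Let S be a scheme, U a scheme over S and j : R -> U x_S U a pre-equivalence relation, that is a
morphism such that for every scheme T the image of the T-points of R in pairs of T-points of U is an
equivalence relation; write t = pr_0 ∘ j and s = pr_1 ∘ j. Then the relation on the points of U in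
which x ∼ y when some point r of R has t(r) = x and s(r) = y is an equivalence relation. -/
theorem result {S U R : Scheme.{u}} (pU : U ⟶ S) (j : R ⟶ pullback pU pU) (hj : ∀ T : Scheme.{u}, Equivalence (fun a b : T ⟶ U => ∃ r : T ⟶ R, r ≫ j ≫ pullback.fst pU pU = a ∧ r ≫ j ≫ pullback.snd pU pU = b)) : Equivalence (fun x y : ↥U => ∃ r : R, (j ≫ pullback.fst pU pU) r = x ∧ (j ≫ pullback.snd pU pU) r = y) := by
  let a := j ≫ pullback.fst pU pU
  let b := j ≫ pullback.snd pU pU
  refine ⟨fun x => ?_, fun {x y} ⟨r, h₁, h₂⟩ => ?_, fun {x y z} ⟨r, h₁, h₂⟩ ⟨r', h₁', h₂'⟩ => ?_⟩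
  · obtain ⟨g, hg₁, hg₂⟩ := (hj U).refl (𝟙 U)
    exact ⟨g x, by rw [← Scheme.Hom.comp_apply, hg₁]; rfl, by rw [← Scheme.Hom.comp_apply, hg₂]; rfl⟩
  · obtain ⟨g, hg₁, hg₂⟩ := (hj R).symm (show ∃ g : R ⟶ R, g ≫ a = a ∧ g ≫ b = b from ⟨𝟙 R, Category.id_comp _, Category.id_comp _⟩)
    refine ⟨g r, ?_, ?_⟩
    · rw [← Scheme.Hom.comp_apply, hg₁]; exact h₂
    · rw [← Scheme.Hom.comp_apply, hg₂]; exact h₁
  · obtain ⟨p, hp₁, hp₂⟩ := Scheme.Pullback.exists_preimage_pullback (f := b) (g := a) r r' (h₂.trans h₁'.symm)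
    obtain ⟨g, hg₁, hg₂⟩ := (hj (pullback b a)).trans
      (show ∃ g : pullback b a ⟶ R, g ≫ a = pullback.fst b a ≫ a ∧ g ≫ b = pullback.fst b a ≫ b from
        ⟨pullback.fst b a, rfl, rfl⟩)
      (show ∃ g : pullback b a ⟶ R, g ≫ a = pullback.fst b a ≫ b ∧ g ≫ b = pullback.snd b a ≫ b from
        ⟨pullback.snd b a, pullback.condition.symm, rfl⟩)
    refine ⟨g p, ?_, ?_⟩
    · rw [← Scheme.Hom.comp_apply, hg₁]
      show (pullback.fst b a ≫ a) p = x
      rw [Scheme.Hom.comp_apply, hp₁]; exact h₁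
    · rw [← Scheme.Hom.comp_apply, hg₂]
      show (pullback.snd b a ≫ b) p = z
      rw [Scheme.Hom.comp_apply, hp₂]; exact h₂'

end Groth.Agent.S7522
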