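import Groth.Statements.S7525
import Groth.Agent.L06.Spectral

set_option autoImplicit false
universe u
open SpecSp

namespace Groth.Agent.S7525

/-- Let X be a spectral space and let E ⊆ X be closed in the constructible topology (for instance a
constructible or a closed subset). Then E, with the topology induced from X, is a spectral space. -/
theorem result {X : Type u} [TopologicalSpace X] [SpectralSpace X]
    (E : Set X) (hE : @IsClosed X (constructibleTopology X) E) :
    SpectralSpace E := by
  letI t' : TopologicalSpace E := TopologicalSpace.induced Subtype.val (constructibleTopology X)
  haveI : @CompactSpace E t' := (@isCompact_iff_compactSpace X (constructibleTopology X) E).mp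
    (Groth.L06.Spectral.isCompact_cons_of_isClosed hE)
  refine @Groth.L06.Spectral.spectralSpace_of_finer_compact E instTopologicalSpaceSubtype inferInstance t' _
    (Set.preimage Subtype.val '' {U : Set X | IsOpen U ∧ IsCompact U}) ?_ ?_
  · rw [← induced_generateFrom_eq,
      ← (PrespectralSpace.isTopologicalBasis (X := X)).eq_generateFrom]
    rfl
  · rintro _ ⟨U, ⟨h1, h2⟩, rfl⟩
    exact @IsClopen.preimage E X t' (constructibleTopology X) _
      (Groth.L06.Spectral.isClopen_cons h1 h2) _ (@continuous_induced_dom E X Subtype.val (constructibleTopology X))

end Groth.Agent.S7525
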