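import Groth.Statements.S7527
import Groth.Agent.L06.Spectral

set_option autoImplicit false
universe u
open SpecSp

namespace Groth.Agent.S7527

/-- Let X be a spectral space and x, y ∈ X. Then either there is a third point specializing to both x
and y, or there are disjoint open neighbourhoods of x and of y. -/
theorem result {X : Type u} [TopologicalSpace X] [SpectralSpace X] (x y : X) :
    (∃ z : X, z ⤳ x ∧ z ⤳ y) ∨
    (∃ U V : Set X, IsOpen U ∧ IsOpen V ∧ x ∈ U ∧ y ∈ V ∧ Disjoint U V) := by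
  open Groth.L06.Spectral in
  by_contra! h
  obtain ⟨h1, h2⟩ := h
  let ι := {U : Set X // IsOpen U ∧ IsCompact U ∧ x ∈ U} × {U : Set X // IsOpen U ∧ IsCompact U ∧ y ∈ U}
  obtain ⟨z, hz⟩ := nonempty_iInter_cons (fun p : ι => p.1.1 ∩ p.2.1)
    (fun p q => ⟨(⟨p.1.1 ∩ q.1.1, p.1.2.1.inter q.1.2.1,
        p.1.2.2.1.inter_of_isOpen q.1.2.2.1 p.1.2.1 q.1.2.1, p.1.2.2.2, q.1.2.2.2⟩,
      ⟨p.2.1 ∩ q.2.1, p.2.2.1.inter q.2.2.1,
        p.2.2.2.1.inter_of_isOpen q.2.2.2.1 p.2.2.1 q.2.2.1, p.2.2.2.2, q.2.2.2.2⟩),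
      Set.inter_subset_inter Set.inter_subset_left Set.inter_subset_left,
      Set.inter_subset_inter Set.inter_subset_right Set.inter_subset_right⟩)
    (fun p => Set.not_disjoint_iff_nonempty_inter.mp
      (h2 p.1.1 p.2.1 p.1.2.1 p.2.2.1 p.1.2.2.2 p.2.2.2.2))
    (fun p => @IsClosed.inter _ _ _ (constructibleTopology X)
      (isClopen_cons p.1.2.1 p.1.2.2.1).1 (isClopen_cons p.2.2.1 p.2.2.2.1).1)
  simp only [Set.mem_iInter, Set.mem_inter_iff] at hz
  exact h1 z (specializes_of_mem_qcOpenNhds fun U a b c => (hz (⟨U, a, b, c⟩, Classical.arbitrary _)).1)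
    (specializes_of_mem_qcOpenNhds fun U a b c => (hz (Classical.arbitrary _, ⟨U, a, b, c⟩)).2)

end Groth.Agent.S7527
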