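import Groth.Statements.S7528
import Groth.Agent.L06.Spectral

set_option autoImplicit false
universe u
open SpecSp

namespace Groth.Agent.S7528

/-- For a spectral space X the following are equivalent: (1) X is profinite, i.e. quasi-compact,
Hausdorff and totally disconnected (quasi-compactness being automatic); (2) X is Hausdorff; (3) X is
totally disconnected; (4) every quasi-compact open subset is closed; (5) there are no nontrivial
specializations between points; (6) every point is closed; (7) every point is the generic point of
an irreducible component; (8) the constructible topology coincides with the topology of X. -/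
theorem result (X : Type u) [tX : TopologicalSpace X] [SpectralSpace X] :
    List.TFAE [
      T2Space X ∧ TotallyDisconnectedSpace X,
      T2Space X,
      TotallyDisconnectedSpace X,
      ∀ U : Set X, IsOpen U → IsCompact U → IsClosed U,
      ∀ x y : X, x ⤳ y → x = y,
      ∀ x : X, IsClosed ({x} : Set X),
      ∀ x : X, closure ({x} : Set X) ∈ irreducibleComponents X,
      constructibleTopology X = tX] := by
  open Groth.L06.Spectral in
  tfae_have 1 → 2 := fun h => h.1
  tfae_have 1 → 3 := fun h => h.2
  tfae_have 2 → 4 := fun h U _ hc => hc.isClosed
  tfae_have 4 → 5 := fun h x y hxy => by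
    refine (hxy.antisymm (specializes_of_mem_qcOpenNhds fun U hU hc hx => ?_)).eq
    exact hxy.mem_closed (h U hU hc) hx
  tfae_have 3 → 5 := fun h x y hxy => by
    exact (h.isTotallyDisconnected_univ _ (Set.subset_univ _)
      (isPreconnected_singleton.closure)) (subset_closure (Set.mem_singleton x)) hxy.mem_closure
  tfae_have 5 → 6 := fun h x => by
    refine closure_subset_iff_isClosed.mp fun y hy => ?_
    exact (h x y (specializes_iff_mem_closure.mpr hy)).symm
  tfae_have 6 → 7 := fun h x => by
    rw [(h x).closure_eq]
    refine ⟨isIrreducible_singleton, fun s hs hsub => ?_⟩
    have hg := hs.closure.isGenericPoint_genericPoint isClosed_closure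
    have he : closure s = {hs.closure.genericPoint} := hg.def.symm.trans (h _).closure_eq
    intro z hz
    have h1 : z = hs.closure.genericPoint := he.subset (subset_closure hz)
    have h2 : x = hs.closure.genericPoint := he.subset (subset_closure (hsub (Set.mem_singleton x)))
    exact h1.trans h2.symm
  tfae_have 7 → 5 := fun h x y hxy => by
    have h1 : closure ({y} : Set X) ⊆ closure {x} :=
      closure_minimal (Set.singleton_subset_iff.mpr hxy.mem_closure) isClosed_closure
    have h2 := (h y).2 isIrreducible_singleton.closure h1
    exact (hxy.antisymm (specializes_iff_mem_closure.mpr (h2 (subset_closure (Set.mem_singleton x))))).eq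
  tfae_have 5 → 8 := fun h => le_antisymm cons_le fun U hU =>
    isOpen_of_stableUnderGeneralization hU fun x y hxy hx => by rw [h y x hxy]; exact hx
  tfae_have 8 → 1 := fun h => by
    have h1 := t2Space_cons (X := X)
    have h2 := totallyDisconnected_cons (X := X)
    rw [h] at h1 h2
    exact ⟨h1, h2⟩
  tfae_finish

end Groth.Agent.S7528
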