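import Groth.Statements.S7529
import Groth.Agent.L06.Spectral

set_option autoImplicit false
universe u
open SpecSp

namespace Groth.Agent.S7529

/-- The product X × Y of two spectral spaces X and Y is a spectral space. -/
theorem result (X Y : Type u) [TopologicalSpace X] [TopologicalSpace Y]
    [SpectralSpace X] [SpectralSpace Y] : SpectralSpace (X × Y) := by
  open Groth.L06.Spectral in
  have hgen : (instTopologicalSpaceProd : TopologicalSpace (X × Y)) = TopologicalSpace.generateFrom
      (Set.image2 (· ×ˢ ·) {U : Set X | IsOpen U ∧ IsCompact U} {U : Set Y | IsOpen U ∧ IsCompact U}) :=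
    ((PrespectralSpace.isTopologicalBasis (X := X)).prod
      (PrespectralSpace.isTopologicalBasis (X := Y))).eq_generateFrom
  refine @spectralSpace_of_finer_compact (X × Y) instTopologicalSpaceProd inferInstance
    (@instTopologicalSpaceProd X Y (constructibleTopology X) (constructibleTopology Y))
    (@CompactSpace.mk _ (@instTopologicalSpaceProd X Y (constructibleTopology X) (constructibleTopology Y))
      (Set.univ_prod_univ ▸ @IsCompact.prod X Y (constructibleTopology X) (constructibleTopology Y) _ _
        (@isCompact_univ X (constructibleTopology X) compactSpace_cons)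
        (@isCompact_univ Y (constructibleTopology Y) compactSpace_cons))) _ hgen ?_
  rintro _ ⟨U, ⟨h1, h2⟩, V, ⟨h3, h4⟩, rfl⟩
  exact @IsClopen.prod X Y (constructibleTopology X) (constructibleTopology Y) _ _
    (isClopen_cons h1 h2) (isClopen_cons h3 h4)

end Groth.Agent.S7529
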