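import Groth.Statements.S7530
import Groth.Agent.L06.Spectral

set_option autoImplicit false
universe u
open SpecSp

namespace Groth.Agent.S7530

/-- Let f : X → Y be a map of spectral spaces which is spectral and bijective, and assume that
generalizations lift along f or that specializations lift along f. Then f is a homeomorphism. -/
theorem result {X Y : Type u} [TopologicalSpace X] [TopologicalSpace Y]
    [SpectralSpace X] [SpectralSpace Y] (f : X → Y) (hf : IsSpectralMap f) (hb : Function.Bijective f)
    (hlift : GeneralizingMap f ∨ SpecializingMap f) :
    IsHomeomorph f := by
  open Groth.L06.Spectral in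
  refine isHomeomorph_iff_continuous_isClosedMap_bijective.mpr ⟨hf.continuous, fun Z hZ => ?_, hb⟩
  have key : @IsClosed Y (constructibleTopology Y) (f '' Z) := isClosed_cons_image hf (isClosed_cons_of_isClosed hZ)
  rcases hlift with h | h
  · rw [← isOpen_compl_iff]
    refine isOpen_of_stableUnderGeneralization (@IsClosed.isOpen_compl _ (constructibleTopology Y) _ key) ?_
    rw [← Set.image_compl_eq hb]
    exact h.stableUnderGeneralization_image hZ.isOpen_compl.stableUnderGeneralization
  · exact isClosed_of_stableUnderSpecialization key
      (h.stableUnderSpecialization_image hZ.stableUnderSpecialization)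

end Groth.Agent.S7530
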