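import Groth.Statements.S7532
import Groth.Agent.L06.Sierpinski

set_option autoImplicit false
universe u
open SpecSp

namespace Groth.Agent.S7532

/-- Let W be the two-point space with one closed and one non-closed point (here the Sierpiński topology
on Prop). A topological space X is spectral exactly when, for some index type I, X admits a
topological embedding into the power W^I whose image is a closed set for the constructible topology
on W^I. -/
theorem result (X : Type u) [TopologicalSpace X] :
    SpectralSpace X ↔ ∃ (I : Type u) (f : X → (I → Prop)),
      Topology.IsEmbedding f ∧ @IsClosed (I → Prop) (constructibleTopology (I → Prop)) (Set.range f) := by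
  open Groth.L06.Spectral in
  refine ⟨fun h => ⟨{U : Set X // IsOpen U ∧ IsCompact U}, toPiProp X,
    ⟨isInducing_toPiProp X, (isInducing_toPiProp X).injective⟩, ?_⟩, ?_⟩
  · have := spectralSpace_piProp {U : Set X // IsOpen U ∧ IsCompact U}
    rw [← Set.image_univ]
    exact isClosed_cons_image (isSpectralMap_toPiProp X) (@isClosed_univ X (constructibleTopology X))
  · rintro ⟨I, f, hf, hcl⟩
    haveI := spectralSpace_piProp I
    haveI : SpectralSpace (Set.range f) := by
      letI t' : TopologicalSpace (Set.range f) :=
        TopologicalSpace.induced Subtype.val (constructibleTopology (I → Prop))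
      haveI : @CompactSpace (Set.range f) t' :=
        (@isCompact_iff_compactSpace (I → Prop) (constructibleTopology (I → Prop)) (Set.range f)).mp
          (isCompact_cons_of_isClosed hcl)
      refine @spectralSpace_of_finer_compact (Set.range f) instTopologicalSpaceSubtype inferInstance t' _
        (Set.preimage Subtype.val '' {U : Set (I → Prop) | IsOpen U ∧ IsCompact U}) ?_ ?_
      · rw [← induced_generateFrom_eq,
          ← (PrespectralSpace.isTopologicalBasis (X := I → Prop)).eq_generateFrom]
        rfl
      · rintro _ ⟨U, ⟨h1, h2⟩, rfl⟩
        exact @IsClopen.preimage (Set.range f) (I → Prop) t' (constructibleTopology (I → Prop)) _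
          (isClopen_cons h1 h2) _ (@continuous_induced_dom _ _ Subtype.val (constructibleTopology (I → Prop)))
    exact spectralSpace_of_homeomorph (Set.range f) hf.toHomeomorph.symm

end Groth.Agent.S7532
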