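import Groth.Statements.S7536
import Groth.Agent.L06.SpectralLimit

set_option autoImplicit false
universe u
open CategoryTheory CategoryTheory.Limits
open SpecSp

namespace Groth.Agent.S7536

/-- Let j ↦ X_j be a cofiltered diagram of spectral spaces with spectral transition maps and X its limit
with projections p_j. For every constructible E ⊆ X there are an object i and a constructible E_i ⊆
X_i with p_i⁻¹(E_i) = E; if E is open, resp. closed, then E_i may be chosen open, resp. closed. -/
theorem result {J : Type u} [SmallCategory J] [IsCofiltered J] (F : J ⥤ TopCat.{u})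
    (hF : ∀ j, SpectralSpace (F.obj j))
    (hFm : ∀ {i j : J} (a : i ⟶ j), IsSpectralMap (F.map a : F.obj i → F.obj j))
    (c : Cone F) (hc : IsLimit c)
    (E : Set c.pt) (hE : Topology.IsConstructible E) :
    (∃ (i : J) (Ei : Set (F.obj i)), Topology.IsConstructible Ei ∧ c.π.app i ⁻¹' Ei = E) ∧
    (IsOpen E → ∃ (i : J) (Ei : Set (F.obj i)), Topology.IsConstructible Ei ∧ IsOpen Ei ∧ c.π.app i ⁻¹' Ei = E) ∧
    (IsClosed E → ∃ (i : J) (Ei : Set (F.obj i)), Topology.IsConstructible Ei ∧ IsClosed Ei ∧ c.π.app i ⁻¹' Ei = E) := by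
  open Groth.L06.Spectral in
  haveI hsp := spectralSpace_limit F hF hFm c hc
  have hopen : ∀ U : Set c.pt, IsOpen U → IsCompact U →
      ∃ (i : J) (Ei : Set (F.obj i)), (IsOpen Ei ∧ IsCompact Ei) ∧ c.π.app i ⁻¹' Ei = U := by
    intro U hU hUc
    exact desc_of_compact_open F c (eq_generateFrom_limSubbasis F hF c hc)
      (fun j K => IsOpen K ∧ IsCompact K)
      (fun a K hK => ⟨hK.1.preimage (F.map a).hom.continuous, hK.2.preimage_of_isOpen (hFm a) hK.1⟩)
      (fun j A B hA hB => ⟨hA.1.inter hB.1, have := hF j; hA.2.inter_of_isOpen hB.2 hA.1 hB.1⟩)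
      (fun j A B hA hB => ⟨hA.1.union hB.1, hA.2.union hB.2⟩)
      (fun j => ⟨isOpen_empty, isCompact_empty⟩)
      (fun j => ⟨isOpen_univ, have := hF j; isCompact_univ⟩)
      (by
        intro s hs
        simp only [limSubbasis, Set.mem_iUnion] at hs
        obtain ⟨j, V, hV, rfl⟩ := hs
        exact ⟨j, V, hV, rfl⟩) hU hUc
  refine ⟨?_, fun ho => ?_, fun hcl => ?_⟩
  · induction hE using Topology.IsConstructible.empty_union_induction with
    | open_retrocompact U h1 h2 =>
      obtain ⟨i, K, hK, rfl⟩ := hopen U h1 h2.isCompact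
      exact ⟨i, K, have := hF i; hK.2.isConstructible hK.1, rfl⟩
    | union s hs t ht h1 h2 =>
      obtain ⟨i, A, hA, rfl⟩ := h1
      obtain ⟨j, B, hB, rfl⟩ := h2
      haveI := IsCofiltered.nonempty (C := J)
      refine ⟨_, F.map (IsCofiltered.minToLeft i j) ⁻¹' A ∪ F.map (IsCofiltered.minToRight i j) ⁻¹' B, ?_, ?_⟩
      · have := hF (IsCofiltered.min i j); have := hF i; have := hF j
        rw [isConstructible_iff_isClopen_cons] at hA hB ⊢
        exact @IsClopen.union _ (constructibleTopology _) _ _
          (@IsClopen.preimage _ _ (constructibleTopology _) (constructibleTopology _) _ hA _ (continuous_cons (hFm _)))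
          (@IsClopen.preimage _ _ (constructibleTopology _) (constructibleTopology _) _ hB _ (continuous_cons (hFm _)))
      · rw [Set.preimage_union, preimage_proj_comp, preimage_proj_comp]
    | compl s hs h =>
      obtain ⟨i, A, hA, rfl⟩ := h
      refine ⟨i, Aᶜ, ?_, rfl⟩
      have := hF i
      rw [isConstructible_iff_isClopen_cons] at hA ⊢
      exact @IsClopen.compl _ (constructibleTopology _) _ hA
  · obtain ⟨i, K, hK, hKE⟩ := hopen E ho (isCompact_of_isClosed_cons (isClopen_cons_of_isConstructible hE).1)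
    have := hF i
    exact ⟨i, K, hK.2.isConstructible hK.1, hK.1, hKE⟩
  · obtain ⟨i, K, hK, hKE⟩ := hopen Eᶜ hcl.isOpen_compl (isCompact_of_isClosed_cons
      (@IsClopen.compl _ (constructibleTopology _) _ (isClopen_cons_of_isConstructible hE)).1)
    have := hF i
    refine ⟨i, Kᶜ, ?_, hK.1.isClosed_compl, by rw [Set.preimage_compl, hKE, compl_compl]⟩
    rw [isConstructible_iff_isClopen_cons]
    exact @IsClopen.compl _ (constructibleTopology _) _ (isClopen_cons hK.1 hK.2)

end Groth.Agent.S7536
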