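import Groth.Statements.S7538
import Groth.Agent.L06.SpectralLimit

set_option autoImplicit false
universe u
open CategoryTheory CategoryTheory.Limits
open SpecSp

namespace Groth.Agent.S7538

/-- Let j ↦ X_j be a cofiltered diagram of spectral spaces with spectral transition maps f_a and X its
limit with projections p_j. (1) Any quasi-compact open U ⊆ X is p_i⁻¹(U_i) for some i and some
quasi-compact open U_i ⊆ X_i. (2) If U_i ⊆ X_i and U_j ⊆ X_j are quasi-compact opens with p_i⁻¹(U_i)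
⊆ p_j⁻¹(U_j), there are k and a : k → i, b : k → j with f_a⁻¹(U_i) ⊆ f_b⁻¹(U_j). (3) If U_i and
finitely many U_{l,i} are quasi-compact opens of X_i with p_i⁻¹(U_i) = ⋃_l p_i⁻¹(U_{l,i}), then
f_a⁻¹(U_i) = ⋃_l f_a⁻¹(U_{l,i}) for some a : j → i. (4) The same with intersections. -/
theorem result {J : Type u} [SmallCategory J] [IsCofiltered J] (F : J ⥤ TopCat.{u})
    (hF : ∀ j, SpectralSpace (F.obj j))
    (hFm : ∀ {i j : J} (a : i ⟶ j), IsSpectralMap (F.map a : F.obj i → F.obj j))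
    (c : Cone F) (hc : IsLimit c) :
    (∀ U : Set c.pt, IsOpen U → IsCompact U →
      ∃ (i : J) (Ui : Set (F.obj i)), IsOpen Ui ∧ IsCompact Ui ∧ c.π.app i ⁻¹' Ui = U) ∧
    (∀ (i j : J) (Ui : Set (F.obj i)) (Uj : Set (F.obj j)),
      IsOpen Ui → IsCompact Ui → IsOpen Uj → IsCompact Uj →
      c.π.app i ⁻¹' Ui ⊆ c.π.app j ⁻¹' Uj →
      ∃ (k : J) (a : k ⟶ i) (b : k ⟶ j), F.map a ⁻¹' Ui ⊆ F.map b ⁻¹' Uj) ∧
    (∀ (i : J) (n : ℕ) (Ui : Set (F.obj i)) (V : Fin n → Set (F.obj i)),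
      IsOpen Ui → IsCompact Ui → (∀ l, IsOpen (V l) ∧ IsCompact (V l)) →
      (c.π.app i ⁻¹' Ui = ⋃ l, c.π.app i ⁻¹' V l →
        ∃ (j : J) (a : j ⟶ i), F.map a ⁻¹' Ui = ⋃ l, F.map a ⁻¹' V l) ∧
      (c.π.app i ⁻¹' Ui = ⋂ l, c.π.app i ⁻¹' V l →
        ∃ (j : J) (a : j ⟶ i), F.map a ⁻¹' Ui = ⋂ l, F.map a ⁻¹' V l)) := by
  open Groth.L06.Spectral in
  haveI hsp := spectralSpace_limit F hF hFm c hc
  have hcl : ∀ (i : J) (U : Set (F.obj i)), IsOpen U → IsCompact U →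
      @IsClopen _ (constructibleTopology (F.obj i)) U :=
    fun i U h1 h2 => have := hF i; isClopen_cons h1 h2
  have hpre : ∀ {i k : J} (a : k ⟶ i) (U : Set (F.obj i)), IsOpen U → IsCompact U →
      @IsClopen _ (constructibleTopology (F.obj k)) (F.map a ⁻¹' U) :=
    fun {i k} a U h1 h2 => hcl k _ (h1.preimage (F.map a).hom.continuous) (h2.preimage_of_isOpen (hFm a) h1)
  refine ⟨?_, ?_, ?_⟩
  · intro U hU hUc
    obtain ⟨i, K, hK, hKU⟩ := desc_of_compact_open F c (eq_generateFrom_limSubbasis F hF c hc)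
      (fun j K => IsOpen K ∧ IsCompact K)
      (fun a K hK => ⟨hK.1.preimage (F.map a).hom.continuous, hK.2.preimage_of_isOpen (hFm a) hK.1⟩)
      (fun j A B hA hB => ⟨hA.1.inter hB.1, have := hF j; hA.2.inter_of_isOpen hB.2 hA.1 hB.1⟩)
      (fun j A B hA hB => ⟨hA.1.union hB.1, hA.2.union hB.2⟩)
      (fun j => ⟨isOpen_empty, isCompact_empty⟩)
      (fun j => ⟨isOpen_univ, have := hF j; isCompact_univ⟩)
      (by
        intro s hs
        simp only [limSubbasis, Set.mem_iUnion] at hs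
        obtain ⟨j, V, hV, rfl⟩ := hs
        exact ⟨j, V, hV, rfl⟩) hU hUc
    exact ⟨i, K, hK.1, hK.2, hKU⟩
  · intro i j Ui Uj h1 h2 h3 h4 h
    let k := IsCofiltered.min i j
    obtain ⟨l, a, ha⟩ := exists_preimage_eq F hF hFm c hc (i := k)
      (A := F.map (IsCofiltered.minToLeft i j) ⁻¹' Ui ∩ F.map (IsCofiltered.minToRight i j) ⁻¹' Uj)
      (B := F.map (IsCofiltered.minToLeft i j) ⁻¹' Ui)
      (@IsClopen.inter _ (constructibleTopology _) _ _ (hpre _ Ui h1 h2) (hpre _ Uj h3 h4))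
      (hpre _ Ui h1 h2)
      (by rw [Set.preimage_inter, preimage_proj_comp, preimage_proj_comp, Set.inter_eq_left.mpr h])
    refine ⟨l, a ≫ IsCofiltered.minToLeft i j, a ≫ IsCofiltered.minToRight i j, ?_⟩
    rw [Set.preimage_inter, Set.inter_eq_left] at ha
    simpa only [F.map_comp, TopCat.coe_comp, Set.preimage_comp] using ha
  · intro i n Ui V h1 h2 hV
    refine ⟨fun h => ?_, fun h => ?_⟩
    · obtain ⟨j, a, ha⟩ := exists_preimage_eq F hF hFm c hc (A := Ui) (B := ⋃ l, V l) (hcl i _ h1 h2)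
        (@isClopen_iUnion_of_finite _ (constructibleTopology _) _ _ _ fun l => hcl i _ (hV l).1 (hV l).2)
        (by rw [Set.preimage_iUnion]; exact h)
      exact ⟨j, a, by rw [← Set.preimage_iUnion]; exact ha⟩
    · obtain ⟨j, a, ha⟩ := exists_preimage_eq F hF hFm c hc (A := Ui) (B := ⋂ l, V l) (hcl i _ h1 h2)
        (@isClopen_iInter_of_finite _ (constructibleTopology _) _ _ _ fun l => hcl i _ (hV l).1 (hV l).2)
        (by rw [Set.preimage_iInter]; exact h)
      exact ⟨j, a, by rw [← Set.preimage_iInter]; exact ha⟩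

end Groth.Agent.S7538
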