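import Groth.Statements.S7539
import Groth.Agent.L06.Spectral

set_option autoImplicit false
universe u
open SpecSp

namespace Groth.Agent.S7539

/-- For a subset W of a spectral space X, these five conditions coincide: (1) W can be written as an
intersection of constructible subsets and is stable under generalization; (2) W is quasi-compact and
stable under generalization; (3) for some quasi-compact E ⊆ X, W consists exactly of the points that
specialize to a point of E; (4) W is the intersection of some family of quasi-compact opens; (5)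
there are a nonempty index set I and quasi-compact opens U_i with W = ⋂ U_i such that for all i, j
some U_k is contained in U_i ∩ U_j. -/
theorem result {X : Type u} [TopologicalSpace X] [SpectralSpace X] (W : Set X) :
    List.TFAE [
      (∃ S : Set (Set X), (∀ s ∈ S, Topology.IsConstructible s) ∧ W = ⋂₀ S) ∧ StableUnderGeneralization W,
      IsCompact W ∧ StableUnderGeneralization W,
      ∃ E : Set X, IsCompact E ∧ W = {x | ∃ e ∈ E, x ⤳ e},
      ∃ S : Set (Set X), (∀ s ∈ S, IsOpen s ∧ IsCompact s) ∧ W = ⋂₀ S,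
      ∃ (I : Type u) (_ : Nonempty I) (U : I → Set X), (∀ i, IsOpen (U i) ∧ IsCompact (U i)) ∧
        W = ⋂ i, U i ∧ ∀ i j, ∃ k, U k ⊆ U i ∩ U j] := by
  open Groth.L06.Spectral in
  tfae_have 5 → 4 := fun ⟨I, _, U, hU, hW, _⟩ => ⟨Set.range U, by rintro _ ⟨i, rfl⟩; exact hU i,
    by rw [hW, Set.sInter_range]⟩
  tfae_have 4 → 5 := fun ⟨S, hS, hW⟩ => by
    classical
    refine ⟨{T : Finset (Set X) // (T : Set (Set X)) ⊆ S}, ⟨⟨∅, by simp⟩⟩, fun T => ⋂₀ (T.1 : Set (Set X)),
      fun T => ⟨T.1.finite_toSet.isOpen_sInter fun s hs => (hS s (T.2 hs)).1, ?_⟩, ?_, fun a b => ?_⟩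
    · exact QuasiSeparatedSpace.isCompact_sInter T.1.finite_toSet (fun s hs => Or.inl (hS s (T.2 hs)).1)
        (fun s hs => (hS s (T.2 hs)).2)
    · rw [hW]
      ext x
      simp only [Set.mem_sInter, Set.mem_iInter]
      exact ⟨fun h T s hs => h s (T.2 hs), fun h s hs => h ⟨{s}, by simpa using hs⟩ s (by simp)⟩
    · refine ⟨⟨a.1 ∪ b.1, by simpa using ⟨a.2, b.2⟩⟩, ?_⟩
      simp [Set.sInter_union]
  tfae_have 4 → 1 := fun ⟨S, hS, hW⟩ => ⟨⟨S, fun s hs => (hS s hs).2.isConstructible (hS s hs).1, hW⟩,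
    hW ▸ fun x y hxy hy s hs => hxy.mem_open (hS s hs).1 (hy s hs)⟩
  tfae_have 1 → 2 := fun ⟨⟨S, hS, hW⟩, hgen⟩ => ⟨isCompact_of_isClosed_cons (hW ▸
    @isClosed_sInter X (constructibleTopology X) S fun s hs => (isClopen_cons_of_isConstructible (hS s hs)).1), hgen⟩
  tfae_have 2 → 3 := fun ⟨hc, hgen⟩ => ⟨W, hc, Set.ext fun x => ⟨fun hx => ⟨x, hx, specializes_rfl⟩,
    fun ⟨e, he, hxe⟩ => hgen hxe he⟩⟩
  tfae_have 3 → 4 := fun ⟨E, hEc, hW⟩ => by
    refine ⟨{U | IsOpen U ∧ IsCompact U ∧ E ⊆ U}, fun s hs => ⟨hs.1, hs.2.1⟩, hW.trans ?_⟩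
    ext x
    refine ⟨fun ⟨e, he, hxe⟩ U hU => hxe.mem_open hU.1 (hU.2.2 he), fun h => ?_⟩
    by_contra hne
    obtain ⟨V, hVc, hVo, hEV, hV⟩ := PrespectralSpace.exists_isCompact_and_isOpen_between
      hEc isClosed_closure.isOpen_compl
      (fun e he hm => hne ⟨e, he, specializes_iff_mem_closure.mpr hm⟩ : E ⊆ (closure {x})ᶜ)
    exact hV (h V ⟨hVo, hVc, hEV⟩) (subset_closure (Set.mem_singleton x))
  tfae_finish

end Groth.Agent.S7539
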