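import Groth.Statements.S7541
import Groth.Agent.L06.Spectral

set_option autoImplicit false
universe u
open SpecSp

namespace Groth.Agent.S7541

/-- Let X be a spectral space, E ⊆ X a constructible subset and W the set of points of X that specialize
to a point of E. Then the subspace W minus E is a spectral space. (The description of W minus E as a
limit of the U_i minus E is not recorded here.) -/
theorem result {X : Type u} [TopologicalSpace X] [SpectralSpace X]
    (E : Set X) (hE : Topology.IsConstructible E) :
    SpectralSpace ↥({x : X | ∃ e ∈ E, x ⤳ e} \ E) := by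
  open Groth.L06.Spectral in
  have hEc := isClopen_cons_of_isConstructible hE
  have hW : {x : X | ∃ e ∈ E, x ⤳ e} = ⋂ U : {U : Set X // IsOpen U ∧ IsCompact U ∧ E ⊆ U}, U.1 := by
    ext x
    simp only [Set.mem_setOf_eq, Set.mem_iInter]
    refine ⟨fun ⟨e, he, hxe⟩ U => hxe.mem_open U.2.1 (U.2.2.2 he), fun h => ?_⟩
    by_contra! hne
    obtain ⟨V, hVc, hVo, hEV, hV⟩ := PrespectralSpace.exists_isCompact_and_isOpen_between
      (isCompact_of_isClosed_cons hEc.1) isClosed_closure.isOpen_compl
      (fun e he hm => hne e he (specializes_iff_mem_closure.mpr hm) : E ⊆ (closure {x})ᶜ)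
    exact hV (h ⟨V, hVo, hVc, hEV⟩) (subset_closure (Set.mem_singleton x))
  have hclosed : @IsClosed X (constructibleTopology X) ({x : X | ∃ e ∈ E, x ⤳ e} \ E) := by
    rw [hW]
    rw [Set.sdiff_eq]
    exact @IsClosed.inter _ _ _ (constructibleTopology X)
      (@isClosed_iInter _ _ (constructibleTopology X) _ fun U => (isClopen_cons U.2.1 U.2.2.1).1)
      (@IsOpen.isClosed_compl _ (constructibleTopology X) _ hEc.2)
  generalize ({x : X | ∃ e ∈ E, x ⤳ e} \ E) = W at hclosed ⊢
  letI t' : TopologicalSpace W := TopologicalSpace.induced Subtype.val (constructibleTopology X)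
  haveI : @CompactSpace W t' := (@isCompact_iff_compactSpace X (constructibleTopology X) W).mp
    (isCompact_cons_of_isClosed hclosed)
  refine @spectralSpace_of_finer_compact W instTopologicalSpaceSubtype inferInstance t' _
    (Set.preimage Subtype.val '' {U : Set X | IsOpen U ∧ IsCompact U}) ?_ ?_
  · rw [← induced_generateFrom_eq,
      ← (PrespectralSpace.isTopologicalBasis (X := X)).eq_generateFrom]
    rfl
  · rintro _ ⟨U, ⟨h1, h2⟩, rfl⟩
    exact @IsClopen.preimage W X t' (constructibleTopology X) _
      (isClopen_cons h1 h2) _ (@continuous_induced_dom W X Subtype.val (constructibleTopology X))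

end Groth.Agent.S7541
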