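import Groth.Statements.S7544
import Groth.Agent.L06.Constr

set_option autoImplicit false
universe u
open ConstrTop

namespace Groth.Agent.S7544

/-- Let X be a quasi-compact topological space whose quasi-compact opens form a basis and are closed
under pairwise intersection. Take T ⊆ X to be locally closed, quasi-compact, and with retrocompact
complement. Then T is constructible in X. -/
theorem result {X : Type u} [TopologicalSpace X]
    [CompactSpace X] [PrespectralSpace X] [QuasiSeparatedSpace X]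
    (T : Set X) (hT : IsLocallyClosed T) (hTc : IsCompact T) (hTr : IsRetrocompact Tᶜ) :
    Topology.IsConstructible T := by
  obtain ⟨U₀, C, hU₀, hC, hTeq⟩ := hT
  obtain ⟨U, hUc, hUo, hTU, hUU₀⟩ := PrespectralSpace.exists_isCompact_and_isOpen_between hTc hU₀
    (hTeq.subset.trans Set.inter_subset_left)
  have h1 : Tᶜ ∩ U = U \ C := by
    ext x
    exact ⟨fun hx => ⟨hx.2, fun hxC => hx.1 (hTeq ▸ ⟨hUU₀ hx.2, hxC⟩)⟩,
      fun hx => ⟨fun hxT => hx.2 (hTeq.subset hxT).2, hx.1⟩⟩
  have h2 : T = U \ (U \ C) := by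
    ext x
    exact ⟨fun hx => ⟨hTU hx, fun h => h.2 (hTeq.subset hx).2⟩,
      fun hx => hTeq ▸ ⟨hUU₀ hx.1, by_contra fun hxC => hx.2 ⟨hx.1, hxC⟩⟩⟩
  rw [h2]
  exact (hUc.isConstructible hUo).sdiff
    ((h1 ▸ hTr hUc hUo).isConstructible (hUo.sdiff hC))

end Groth.Agent.S7544
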