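import Groth.Statements.S7548
import Mathlib.Topology.JacobsonSpace

set_option autoImplicit false
set_option linter.style.haveILetI false
universe u
open PtTop

namespace Groth.Agent.S7548

/-- Let X be a Jacobson space and let T = ⋃ T_i be a union of subsets T_i ⊆ X each locally closed in X
(open, closed, locally closed and constructible subsets are of this form). Then T is Jacobson and
every point of T closed in T is closed in X. -/
theorem result {X : Type u} [TopologicalSpace X] [JacobsonSpace X]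
    {ι : Type u} (T : ι → Set X) (hT : ∀ i, IsLocallyClosed (T i)) :
    JacobsonSpace ↥(⋃ i, T i) ∧
      closedPoints ↥(⋃ i, T i) ⊆ (Subtype.val : ↥(⋃ i, T i) → X) ⁻¹' closedPoints X := by
  have key : ∀ Z : Set ↥(⋃ i, T i), Z.Nonempty → IsLocallyClosed Z →
      ∃ z ∈ Z, IsClosed ({z.1} : Set X) := by
    intro Z hZne hZ
    obtain ⟨z, hz⟩ := hZne
    obtain ⟨i, hi⟩ := Set.mem_iUnion.mp z.2
    obtain ⟨Z', hZ', rfl⟩ : ∃ Z' : Set X, IsLocallyClosed Z' ∧ Subtype.val ⁻¹' Z' = Z := by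
      obtain ⟨U, C, hU, hC, rfl⟩ := hZ
      obtain ⟨U', hU', rfl⟩ := isOpen_induced_iff.mp hU
      obtain ⟨C', hC', rfl⟩ := isClosed_induced_iff.mp hC
      exact ⟨U' ∩ C', ⟨U', C', hU', hC', rfl⟩, rfl⟩
    obtain ⟨y, ⟨hyZ, hyT⟩, hy⟩ := nonempty_inter_closedPoints (Z := Z' ∩ T i) ⟨z.1, hz, hi⟩ (hZ'.inter (hT i))
    exact ⟨⟨y, Set.mem_iUnion.mpr ⟨i, hyT⟩⟩, hyZ, hy⟩
  refine ⟨jacobsonSpace_iff_locallyClosed.mpr fun Z hne hZ => ?_, fun y hy => ?_⟩
  · obtain ⟨z, hz, hzc⟩ := key Z hne hZ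
    exact ⟨z, hz, preimage_closedPoints_subset Subtype.val_injective continuous_subtype_val hzc⟩
  · obtain ⟨z, hz, hzc⟩ := key {y} (Set.singleton_nonempty y) hy.isLocallyClosed
    rw [Set.mem_singleton_iff] at hz
    subst hz
    exact hzc

end Groth.Agent.S7548
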