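import Groth.Statements.S7549
import Mathlib.Topology.JacobsonSpace
import Mathlib.Topology.Constructible
import Groth.Agent.L06.Constr

set_option autoImplicit false
set_option linter.style.haveILetI false
universe u
open PtTop

namespace Groth.Agent.S7549

/-- Let X be a Jacobson space and X₀ ⊆ X the subspace of closed points. (a) For U ⊆ X open, U is
quasi-compact if and only if U ∩ X₀ is quasi-compact, and U is retrocompact in X if and only if U ∩
X₀ is retrocompact in X₀. (b) The rule E ↦ E ∩ X₀ is an inclusion-preserving and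
inclusion-reflecting bijection between the constructible subsets of X and the constructible subsets
of X₀. -/
theorem result {X : Type u} [TopologicalSpace X] [JacobsonSpace X] :
    (∀ U : Set X, IsOpen U →
      (IsCompact U ↔ IsCompact ((Subtype.val : closedPoints X → X) ⁻¹' U)) ∧
      (IsRetrocompact U ↔ IsRetrocompact ((Subtype.val : closedPoints X → X) ⁻¹' U))) ∧
    (∀ E : Set X, Topology.IsConstructible E →
      Topology.IsConstructible ((Subtype.val : closedPoints X → X) ⁻¹' E)) ∧
    (∀ E E' : Set X, Topology.IsConstructible E → Topology.IsConstructible E' →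
      ((Subtype.val : closedPoints X → X) ⁻¹' E ⊆ Subtype.val ⁻¹' E' ↔ E ⊆ E')) ∧
    (∀ F : Set (closedPoints X), Topology.IsConstructible F →
      ∃ E : Set X, Topology.IsConstructible E ∧ (Subtype.val : closedPoints X → X) ⁻¹' E = F) := by
  open Topology in
  set ι : closedPoints X → X := Subtype.val with hι
  have key : ∀ Z : Set X, IsLocallyClosed Z → ι ⁻¹' Z = ∅ → Z = ∅ := by
    intro Z hZ h
    by_contra hne
    obtain ⟨z, hz, hzc⟩ := nonempty_inter_closedPoints (Set.nonempty_iff_ne_empty.mpr hne) hZ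
    exact Set.eq_empty_iff_forall_notMem.mp h ⟨z, hzc⟩ hz
  have keyc : ∀ Z : Set X, IsConstructible Z → ι ⁻¹' Z = ∅ → Z = ∅ := by
    intro Z hZ h
    obtain ⟨n, L, hL, rfl⟩ := Groth.L06.Constr.exists_finite_isLocallyClosed hZ
    rw [Set.preimage_iUnion, Set.iUnion_eq_empty] at h
    exact Set.iUnion_eq_empty.mpr fun i => key _ (hL i) (h i)
  have hsub : ∀ U : Set X, IsOpen U → ∀ V : Set X, IsOpen V → ι ⁻¹' U ⊆ ι ⁻¹' V → U ⊆ V := by
    intro U hU V hV h
    rw [← Set.sdiff_eq_empty]
    refine key _ ⟨U, Vᶜ, hU, hV.isClosed_compl, rfl⟩ ?_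
    rw [Set.preimage_sdiff, Set.sdiff_eq_empty]
    exact h
  have hcpt : ∀ U : Set X, IsOpen U → (IsCompact U ↔ IsCompact (ι ⁻¹' U)) := by
    intro U hU
    constructor
    · intro hc
      refine isCompact_of_finite_subcover fun {κ} W hW hcov => ?_
      have hW' : ∀ k, ∃ W' : Set X, IsOpen W' ∧ ι ⁻¹' W' = W k := fun k => isOpen_induced_iff.mp (hW k)
      choose W' hW'o hW'e using hW'
      obtain ⟨t, ht⟩ := hc.elim_finite_subcover W' hW'o (hsub U hU _ (isOpen_iUnion hW'o)
        (by rw [Set.preimage_iUnion]; simp_rw [hW'e]; exact hcov))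
      refine ⟨t, fun x hx => ?_⟩
      obtain ⟨k, hk, hxk⟩ := Set.mem_iUnion₂.mp (ht hx)
      exact Set.mem_iUnion₂.mpr ⟨k, hk, (hW'e k) ▸ hxk⟩
    · intro hc
      refine isCompact_of_finite_subcover fun {κ} W hW hcov => ?_
      obtain ⟨t, ht⟩ := hc.elim_finite_subcover (fun k => ι ⁻¹' W k)
        (fun k => (hW k).preimage continuous_subtype_val)
        (by rw [← Set.preimage_iUnion]; exact Set.preimage_mono hcov)
      refine ⟨t, hsub U hU _ (isOpen_biUnion fun k _ => hW k) ?_⟩
      rw [Set.preimage_iUnion₂]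
      exact ht
  have hretro : ∀ U : Set X, IsOpen U → (IsRetrocompact U ↔ IsRetrocompact (ι ⁻¹' U)) := by
    intro U hU
    constructor
    · intro h W hWc hWo
      obtain ⟨W', hW', rfl⟩ := isOpen_induced_iff.mp hWo
      rw [← Set.preimage_inter]
      exact (hcpt _ (hU.inter hW')).mp (h ((hcpt _ hW').mpr hWc) hW')
    · intro h W hWc hWo
      refine (hcpt _ (hU.inter hWo)).mpr ?_
      rw [Set.preimage_inter]
      exact h ((hcpt _ hWo).mp hWc) (hWo.preimage continuous_subtype_val)
  refine ⟨fun U hU => ⟨hcpt U hU, hretro U hU⟩, fun E hE => ?_, fun E E' hE hE' => ⟨fun h => ?_, fun h => Set.preimage_mono h⟩, fun F hF => ?_⟩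
  · induction hE using IsConstructible.empty_union_induction with
    | open_retrocompact U hU hUc => exact ((hretro U hU).mp hUc).isConstructible (hU.preimage continuous_subtype_val)
    | union s hs t ht h1 h2 => exact h1.union h2
    | compl s hs h1 => exact h1.compl
  · rw [← Set.sdiff_eq_empty]
    refine keyc _ (hE.sdiff hE') ?_
    rw [Set.preimage_sdiff, Set.sdiff_eq_empty]
    exact h
  · induction hF using IsConstructible.empty_union_induction with
    | open_retrocompact V hV hVc =>
      obtain ⟨U, hU, rfl⟩ := isOpen_induced_iff.mp hV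
      exact ⟨U, ((hretro U hU).mpr hVc).isConstructible hU, rfl⟩
    | union s hs t ht h1 h2 =>
      obtain ⟨A, hA, rfl⟩ := h1
      obtain ⟨B, hB, rfl⟩ := h2
      exact ⟨A ∪ B, hA.union hB, rfl⟩
    | compl s hs h1 =>
      obtain ⟨A, hA, rfl⟩ := h1
      exact ⟨Aᶜ, hA.compl, rfl⟩

end Groth.Agent.S7549
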