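import Groth.Statements.S7550
import Mathlib.Topology.NoetherianSpace
import Mathlib.Topology.Sober

set_option autoImplicit false
set_option linter.style.haveILetI false
universe u
open PtTop

namespace Groth.Agent.S7550

/-- Let f : X → Y be a continuous and open map of topological spaces, with X Noetherian, every
irreducible closed subset of X having a generic point, and Y Kolmogorov. Then generalizations lift
along f. (Part (1), closed maps are specializing, is a library fact.) -/
theorem result {X Y : Type u} [TopologicalSpace X] [TopologicalSpace Y]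
    [TopologicalSpace.NoetherianSpace X] [QuasiSober X] [T0Space Y]
    (f : X → Y) (hf : Continuous f) (hfo : IsOpenMap f) :
    GeneralizingMap f := by
  intro x y' hy'
  set S := f ⁻¹' {y'} with hS
  have hx : x ∈ closure S := by
    rw [hS, ← hfo.preimage_closure_eq_closure_preimage hf]
    exact specializes_iff_mem_closure.mp hy'
  obtain ⟨D, hD, hDmin⟩ := (wellFounded_lt (α := TopologicalSpace.Closeds X)).has_min
    {D | x ∈ closure (S ∩ (D : Set X))} ⟨⊤, by simpa using hx⟩
  have hmin : ∀ A : Set X, IsClosed A → x ∈ closure (S ∩ (A ∩ (D : Set X))) → (D : Set X) ⊆ A := by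
    intro A hA h z hz
    by_contra hzA
    refine hDmin (⟨A, hA⟩ ⊓ D) h (lt_of_le_of_ne inf_le_right fun he => hzA ?_)
    have : z ∈ ((⟨A, hA⟩ ⊓ D : TopologicalSpace.Closeds X) : Set X) := by rw [he]; exact hz
    exact this.1
  have hDS : (D : Set X) ⊆ closure (S ∩ (D : Set X)) := by
    refine hmin _ isClosed_closure (closure_mono ?_ hD)
    intro z hz
    exact ⟨hz.1, subset_closure hz, hz.2⟩
  have hxD : x ∈ (D : Set X) := closure_minimal Set.inter_subset_right D.2 hD
  have hirr : IsIrreducible (D : Set X) := by
    refine ⟨⟨x, hxD⟩, isPreirreducible_iff_isClosed_union_isClosed.mpr fun A B hA hB hAB => ?_⟩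
    have : x ∈ closure (S ∩ (A ∩ (D : Set X))) ∪ closure (S ∩ (B ∩ (D : Set X))) := by
      rw [← closure_union]
      refine closure_mono ?_ hD
      intro z hz
      rcases hAB hz.2 with h | h
      · exact Or.inl ⟨hz.1, h, hz.2⟩
      · exact Or.inr ⟨hz.1, h, hz.2⟩
    rcases this with h | h
    · exact Or.inl (hmin A hA h)
    · exact Or.inr (hmin B hB h)
  obtain ⟨η, hη⟩ := QuasiSober.sober hirr D.2
  refine ⟨η, hη.specializes hxD, ?_⟩
  obtain ⟨s, hsS, hsD⟩ : (S ∩ (D : Set X)).Nonempty := by
    rcases Set.eq_empty_or_nonempty (S ∩ (D : Set X)) with h | h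
    · have hD' : x ∈ closure (S ∩ (D : Set X)) := hD
      rw [h, closure_empty] at hD'
      exact hD'.elim
    · exact h
  have h1 : f η ⤳ y' := by
    have := (hη.specializes hsD).map hf
    rwa [show f s = y' from hsS] at this
  have h2 : y' ⤳ f η := by
    rw [specializes_iff_mem_closure]
    have hη' : η ∈ closure S := closure_mono Set.inter_subset_left (hDS hη.mem)
    rw [hS, ← hfo.preimage_closure_eq_closure_preimage hf] at hη'
    exact hη'
  exact (h1.antisymm h2).eq

end Groth.Agent.S7550
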