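import Groth.Statements.S7551
import Mathlib.Topology.Separation.Basic
import Mathlib.Topology.Sober

set_option autoImplicit false
set_option linter.style.haveILetI false
universe u
open PtTop

namespace Groth.Agent.S7551

/-- Let s, t : R → U and π : U → X be continuous maps between topological spaces satisfying: (1) π is an
open map, (2) U is a sober space, (3) s and t have finite fibres, (4) generalizations lift along s
and along t, and (5) the image of (t, s) : R → U × U is an equivalence relation on U and π
identifies X, as a set, with the quotient of U by it. Then X is Kolmogorov. -/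
theorem result {R U X : Type u}
    [TopologicalSpace R] [TopologicalSpace U] [TopologicalSpace X] [QuasiSober U] [T0Space U]
    (s t : R → U) (π : U → X) (hs : Continuous s) (ht : Continuous t) (hπ : Continuous π)
    (hπo : IsOpenMap π) (hsf : ∀ u, (s ⁻¹' {u}).Finite) (htf : ∀ u, (t ⁻¹' {u}).Finite)
    (hsg : GeneralizingMap s) (htg : GeneralizingMap t)
    (hE : Equivalence fun u u' : U => ∃ r, t r = u ∧ s r = u')
    (hπs : Function.Surjective π) (hπq : ∀ u u' : U, π u = π u' ↔ ∃ r, t r = u ∧ s r = u') :
    T0Space X := by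
  constructor
  intro a b hab
  have horb : ∀ u : U, (π ⁻¹' {π u}).Finite := by
    intro u
    refine ((htf u).image s).subset ?_
    intro u' hu'
    obtain ⟨r, hr, hr'⟩ := (hπq u u').mp (Set.mem_singleton_iff.mp hu').symm
    exact ⟨r, hr, hr'⟩
  have lift : ∀ u v : U, π u ⤳ π v → ∃ u', π u' = π u ∧ u' ⤳ v := by
    intro u v h
    have hv : v ∈ closure (π ⁻¹' {π u}) := by
      rw [← hπo.preimage_closure_eq_closure_preimage hπ]
      exact specializes_iff_mem_closure.mp h
    rw [← Set.biUnion_of_singleton (π ⁻¹' {π u}), (horb u).closure_biUnion] at hv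
    obtain ⟨u', hu', h'⟩ := Set.mem_iUnion₂.mp hv
    exact ⟨u', hu', specializes_iff_mem_closure.mpr h'⟩
  obtain ⟨u, rfl⟩ := hπs a
  obtain ⟨v, rfl⟩ := hπs b
  letI : PartialOrder U := specializationOrder U
  obtain ⟨w, hw⟩ := (horb u).exists_maximal ⟨u, rfl⟩
  have hwu : π w = π u := hw.1
  obtain ⟨v', hv', hv'w⟩ := lift v w (by rw [hwu]; exact hab.specializes')
  obtain ⟨u', hu', hu'v⟩ := lift u v' (by rw [hv']; exact hab.specializes)
  have hu'w : u' ⤳ w := hu'v.trans hv'w
  have hwu' : w ⤳ u' := hw.2 hu' hu'w
  have : v' = w := (hv'w.antisymm (hwu'.trans hu'v)).eq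
  rw [← hv', this, hwu]

end Groth.Agent.S7551
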