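import Groth.Statements.S7552
import Mathlib.Topology.KrullDimension
import Mathlib.Topology.Sober

set_option autoImplicit false
set_option linter.style.haveILetI false
universe u
open PtTop

namespace Groth.Agent.S7552

/-- Let f : X → Y be a continuous surjective map of topological spaces with Y sober, and assume that
specializations lift along f or that generalizations lift along f. Then dim X ≥ dim Y (Krull
dimensions as suprema of lengths of chains of irreducible closed subsets). -/
theorem result {X Y : Type u}
    [TopologicalSpace X] [TopologicalSpace Y] [QuasiSober Y] [T0Space Y]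
    (f : X → Y) (hf : Continuous f) (hsurj : Function.Surjective f)
    (hlift : SpecializingMap f ∨ GeneralizingMap f) :
    topologicalKrullDim Y ≤ topologicalKrullDim X := by
  open TopologicalSpace in
  have gspec : ∀ Z : IrreducibleCloseds Y, IsGenericPoint Z.isIrreducible.genericPoint (Z : Set Y) := fun Z =>
    Z.isIrreducible.isGenericPoint_genericPoint Z.isClosed
  let g : IrreducibleCloseds Y → Y := fun Z => Z.isIrreducible.genericPoint
  let cl : X → IrreducibleCloseds X := fun x => ⟨closure {x}, isIrreducible_singleton.closure, isClosed_closure⟩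
  have lt_aux : ∀ {Z W : IrreducibleCloseds Y}, Z < W → g W ⤳ g Z ∧ ¬ g Z ⤳ g W := fun {Z W} h =>
    ⟨(gspec W).specializes (h.le (gspec Z).mem), fun hs => h.not_ge (SetLike.coe_subset_coe.mp (by
      rw [← (gspec W).def]
      exact closure_minimal (Set.singleton_subset_iff.mpr
        ((gspec Z).mem_closed_set_iff Z.isClosed |>.mpr le_rfl |> fun hm => hs.mem_closed Z.isClosed hm)) Z.isClosed))⟩
  have cl_lt : ∀ {a b : X}, b ⤳ a → ¬ f a ⤳ f b → cl a < cl b := by
    intro a b h1 h2
    refine lt_of_le_of_ne (SetLike.coe_subset_coe.mp (closure_minimal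
      (Set.singleton_subset_iff.mpr (specializes_iff_mem_closure.mp h1)) isClosed_closure)) fun he => h2 ?_
    refine Specializes.map (specializes_iff_mem_closure.mpr ?_) hf
    have : b ∈ (cl b : Set X) := subset_closure rfl
    rw [← he] at this
    exact this
  refine iSup_le fun s => ?_
  suffices h : ∃ t : LTSeries (IrreducibleCloseds X), t.length = s.length by
    obtain ⟨t, ht⟩ := h
    exact ht ▸ le_iSup (fun p : LTSeries (IrreducibleCloseds X) => ((p.length : ℕ) : WithBot ℕ∞)) t
  rcases hlift with hsp | hge
  · suffices h : ∃ t : LTSeries (IrreducibleCloseds X), t.length = s.length ∧ ∃ x, f x = g s.head ∧ t.head = cl x from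
      h.imp fun t ht => ht.1
    refine RelSeries.inductionOn (fun s : LTSeries (IrreducibleCloseds Y) =>
      ∃ t : LTSeries (IrreducibleCloseds X), t.length = s.length ∧ ∃ x, f x = g s.head ∧ t.head = cl x)
      (fun Z => ?_) (fun p Z hZ ⟨t, ht, x, hx, htx⟩ => ?_) s
    · obtain ⟨x, hx⟩ := hsurj (g Z)
      exact ⟨RelSeries.singleton _ (cl x), rfl, x, hx, rfl⟩
    · obtain ⟨h1, h2⟩ := lt_aux (show Z < p.head from hZ)
      obtain ⟨x', hxx', hx'⟩ := hsp (a := x) (b := g Z) (by rw [hx]; exact h1)
      refine ⟨RelSeries.cons t (cl x') ?_, by rw [RelSeries.cons_length, ht]; simp, x', by rw [RelSeries.head_cons]; exact hx', RelSeries.head_cons _ _ _⟩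
      show cl x' < t.head
      rw [htx]
      exact cl_lt hxx' (by rw [hx', hx]; exact h2)
  · suffices h : ∃ t : LTSeries (IrreducibleCloseds X), t.length = s.length ∧ ∃ x, f x = g s.last ∧ t.last = cl x from
      h.imp fun t ht => ht.1
    refine RelSeries.inductionOn' (fun s : LTSeries (IrreducibleCloseds Y) =>
      ∃ t : LTSeries (IrreducibleCloseds X), t.length = s.length ∧ ∃ x, f x = g s.last ∧ t.last = cl x)
      (fun Z => ?_) (fun p Z hZ ⟨t, ht, x, hx, htx⟩ => ?_) s
    · obtain ⟨x, hx⟩ := hsurj (g Z)
      exact ⟨RelSeries.singleton _ (cl x), rfl, x, by rw [RelSeries.last_singleton]; exact hx, RelSeries.last_singleton _⟩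
    · obtain ⟨h1, h2⟩ := lt_aux (show p.last < Z from hZ)
      obtain ⟨x', hxx', hx'⟩ := hge (a := x) (b := g Z) (by rw [hx]; exact h1)
      refine ⟨RelSeries.snoc t (cl x') ?_, by rw [RelSeries.snoc_length, ht]; simp, x', by rw [RelSeries.last_snoc]; exact hx', RelSeries.last_snoc _ _ _⟩
      show t.last < cl x'
      rw [htx]
      exact cl_lt hxx' (by rw [hx', hx]; exact h2)

end Groth.Agent.S7552
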