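import Groth.Statements.S7553
import Groth.Agent.L06.Spectral
import Mathlib.Topology.NoetherianSpace

set_option autoImplicit false
set_option linter.style.haveILetI false
universe u
open ConstrTop

namespace Groth.Agent.S7553

/-- Let X be a Noetherian sober topological space and E ⊆ X. (1) A constructible E that is closed under
specialization is a closed subset. (2) A constructible E that is closed under generalization is an
open subset. -/
theorem result {X : Type u} [TopologicalSpace X]
    [TopologicalSpace.NoetherianSpace X] [QuasiSober X] [T0Space X] (E : Set X) (hE : Topology.IsConstructible E) :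
    (StableUnderSpecialization E → IsClosed E) ∧ (StableUnderGeneralization E → IsOpen E) := by
  haveI : PrespectralSpace X :=
    ⟨TopologicalSpace.isTopologicalBasis_of_isOpen_of_nhds (fun U hU => hU.1)
      fun a U ha hU => ⟨U, ⟨hU, TopologicalSpace.NoetherianSpace.isCompact U⟩, ha, subset_rfl⟩⟩
  haveI : QuasiSeparatedSpace X :=
    ⟨fun U V _ _ _ _ => TopologicalSpace.NoetherianSpace.isCompact _⟩
  haveI : SpectralSpace X := ⟨⟩
  have h := Groth.L06.Spectral.isClopen_cons_of_isConstructible hE
  exact ⟨fun hs => Groth.L06.Spectral.isClosed_of_stableUnderSpecialization h.1 hs,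
    fun hs => Groth.L06.Spectral.isOpen_of_stableUnderGeneralization h.2 hs⟩

end Groth.Agent.S7553
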