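import Groth.Statements.S7556
import Mathlib.Topology.ExtremallyDisconnected
import Groth.Agent.S7555

set_option autoImplicit false
set_option linter.style.haveILetI false
universe u
open PtTop

namespace Groth.Agent.S7556

/-- A discrete copy of a type. -/
structure DiscreteCopy (X : Type u) where
  x : X

instance (X : Type u) : TopologicalSpace (DiscreteCopy X) := ⊥

instance (X : Type u) : DiscreteTopology (DiscreteCopy X) := ⟨rfl⟩

theorem aux_eq_id {X E : Type u} [TopologicalSpace E] [T2Space E] (p : E → X) (hp : Function.Surjective p)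
    (hmin : ∀ E₀ : Set E, IsClosed E₀ → E₀ ≠ Set.univ → p '' E₀ ≠ Set.univ)
    (h : E → E) (hh : Continuous h) (hs : Function.Surjective h) (hph : p ∘ h = p) : h = id := by
  by_contra hne
  obtain ⟨E₀, hE₀, hne₀, hcov⟩ := Groth.Agent.S7555.result h hh hs hne
  refine hmin E₀ hE₀ hne₀ (Set.eq_univ_of_forall fun x => ?_)
  obtain ⟨e, rfl⟩ := hp x
  rcases (hcov.symm ▸ Set.mem_univ e : e ∈ E₀ ∪ h '' E₀) with he | ⟨e', he', rfl⟩
  · exact ⟨e, he, rfl⟩
  · exact ⟨e', he', (congrFun hph e').symm⟩

theorem aux_surj {X A B : Type u} [TopologicalSpace A] [CompactSpace A] [TopologicalSpace B] [T2Space B]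
    (p : A → X) (q : B → X) (hp : Function.Surjective p)
    (hmin : ∀ E : Set B, IsClosed E → E ≠ Set.univ → q '' E ≠ Set.univ)
    (h : A → B) (hh : Continuous h) (hqh : q ∘ h = p) : Function.Surjective h := by
  rw [← Set.range_eq_univ]
  by_contra hne
  refine hmin _ (isCompact_range hh).isClosed hne ?_
  rw [← Set.range_comp, hqh, hp.range_eq]

/-- Let X be a quasi-compact Hausdorff space. There is a continuous surjection p : X' → X with X'
quasi-compact, Hausdorff and extremally disconnected such that no proper closed subset of X' maps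
onto X; and if q : X'' → X is a second cover with the same properties, there is a homeomorphism X' ≃
X'' compatible with p and q. -/
theorem result (X : Type u) [TopologicalSpace X] [CompactSpace X] [T2Space X] :
    (∃ (X' : Type u) (_ : TopologicalSpace X') (_ : CompactSpace X') (_ : T2Space X') (_ : ExtremallyDisconnected X')
        (p : X' → X), Continuous p ∧ Function.Surjective p ∧
        ∀ E : Set X', IsClosed E → E ≠ Set.univ → p '' E ≠ Set.univ) ∧
    (∀ (X' X'' : Type u) [TopologicalSpace X'] [CompactSpace X'] [T2Space X'] [ExtremallyDisconnected X']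
        [TopologicalSpace X''] [CompactSpace X''] [T2Space X''] [ExtremallyDisconnected X'']
        (p : X' → X) (q : X'' → X),
        Continuous p → Function.Surjective p → (∀ E : Set X', IsClosed E → E ≠ Set.univ → p '' E ≠ Set.univ) →
        Continuous q → Function.Surjective q → (∀ E : Set X'', IsClosed E → E ≠ Set.univ → q '' E ≠ Set.univ) →
        ∃ h : X' ≃ₜ X'', q ∘ h = p) := by

  constructor
  · let π : StoneCech (DiscreteCopy X) → X := stoneCechExtend (g := DiscreteCopy.x) continuous_of_discreteTopology
    have hπ : Continuous π := continuous_stoneCechExtend _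
    have hπs : Function.Surjective π := fun x =>
      ⟨stoneCechUnit ⟨x⟩, congrFun (stoneCechExtend_extends _) (⟨x⟩ : DiscreteCopy X)⟩
    obtain ⟨E, hEc, hEimg, hEmin⟩ := exists_compact_surjective_zorn_subset hπ hπs
    let p : E → X := fun e => π e.1
    have hp : Continuous p := hπ.comp continuous_subtype_val
    have hps : Function.Surjective p := fun x => by
      obtain ⟨e, he, rfl⟩ := (hEimg.symm ▸ Set.mem_univ x : x ∈ π '' E)
      exact ⟨⟨e, he⟩, rfl⟩
    have hmin : ∀ E₀ : Set E, IsClosed E₀ → E₀ ≠ Set.univ → p '' E₀ ≠ Set.univ :=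
      fun E₀ h1 h2 => hEmin E₀ h2 h1
    obtain ⟨g, hg, hgπ⟩ := StoneCech.projective hπ hp hps
    have hgi : g ∘ Subtype.val = id := by
      refine aux_eq_id p hps hmin _ (hg.comp continuous_subtype_val)
        (aux_surj p p hps hmin _ (hg.comp continuous_subtype_val) ?_) ?_ <;>
      exact funext fun e => congrFun hgπ e.1
    have hproj : CompactT2.Projective E := by
      intro Y Z _ _ _ _ _ _ f k hf hk hks
      obtain ⟨h, hh, hkh⟩ := StoneCech.projective (hf.comp hg) hk hks
      exact ⟨h ∘ Subtype.val, hh.comp continuous_subtype_val, by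
        rw [← Function.comp_assoc, hkh, Function.comp_assoc, hgi, Function.comp_id]⟩
    exact ⟨E, inferInstance, inferInstance, inferInstance, hproj.extremallyDisconnected, p, hp, hps, hmin⟩
  · intro X' X'' _ _ _ _ _ _ _ _ p q hp hps hpmin hq hqs hqmin
    obtain ⟨h, hh, hqh⟩ := CompactT2.ExtremallyDisconnected.projective (A := X') hp hq hqs
    obtain ⟨k, hk, hpk⟩ := CompactT2.ExtremallyDisconnected.projective (A := X'') hq hp hps
    have hs := aux_surj p q hps hqmin h hh hqh
    have ks := aux_surj q p hqs hpmin k hk hpk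
    have e1 : k ∘ h = id := aux_eq_id p hps hpmin _ (hk.comp hh) (ks.comp hs)
      (by rw [← Function.comp_assoc, hpk, hqh])
    have e2 : h ∘ k = id := aux_eq_id q hqs hqmin _ (hh.comp hk) (hs.comp ks)
      (by rw [← Function.comp_assoc, hqh, hpk])
    exact ⟨⟨⟨h, k, congrFun e1, congrFun e2⟩, hh, hk⟩, hqh⟩

end Groth.Agent.S7556
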