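import Groth.Statements.S7557
import Mathlib.Algebra.Category.Ring.Limits
import Mathlib.Topology.Category.TopCat.Limits.Basic
import Mathlib.CategoryTheory.Limits.Preserves.Basic

set_option autoImplicit false
set_option linter.style.haveILetI false
universe u
open CategoryTheory CategoryTheory.Limits
open PtTop

namespace Groth.Agent.S7557

variable {J : Type u} [Category.{u} J] (F : J ⥤ TopCommRingCat.{u})

/-- The underlying diagram of rings. -/
abbrev ringDiag : J ⥤ CommRingCat.{u} := F ⋙ forget₂ TopCommRingCat.{u} CommRingCat.{u}

/-- The projections of the limit ring. -/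
noncomputable abbrev proj (j : J) : (limit (ringDiag F) : CommRingCat.{u}) →+* F.obj j :=
  (limit.π (ringDiag F) j).hom

/-- The topology on the limit ring. -/
noncomputable abbrev limTop : TopologicalSpace (limit (ringDiag F) : CommRingCat.{u}) :=
  ⨅ j, TopologicalSpace.induced (proj F j) (F.obj j).isTopologicalSpace

theorem limTop_isTopologicalRing : @IsTopologicalRing _ (limTop F) _ := by
  letI := limTop F
  have hp : ∀ j, Continuous (proj F j) := fun j => continuous_iInf_dom continuous_induced_dom
  have key : ∀ {A : Type u} [TopologicalSpace A] (g : A → (limit (ringDiag F) : CommRingCat.{u})),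
      (∀ j, Continuous fun a => proj F j (g a)) → Continuous g := fun g h =>
    continuous_iInf_rng.mpr fun j => continuous_induced_rng.mpr (h j)
  exact
    { continuous_add := key _ fun j => by
        simp only [map_add]; exact ((hp j).comp continuous_fst).add ((hp j).comp continuous_snd)
      continuous_mul := key _ fun j => by
        simp only [map_mul]; exact ((hp j).comp continuous_fst).mul ((hp j).comp continuous_snd)
      continuous_neg := key _ fun j => by
        simp only [map_neg]; exact (hp j).neg }

/-- The limit cone. -/
noncomputable def limCone : Cone F where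
  pt :=
    { α := (limit (ringDiag F) : CommRingCat.{u})
      isTopologicalSpace := limTop F
      isTopologicalRing := limTop_isTopologicalRing F }
  π :=
    { app := fun j => ⟨proj F j, continuous_iInf_dom continuous_induced_dom⟩
      naturality := fun i j f => Subtype.ext (congrArg CommRingCat.Hom.hom ((limit.cone (ringDiag F)).π.naturality f)) }

/-- It is a limit. -/
noncomputable def limConeIsLimit : IsLimit (limCone F) where
  lift s := ⟨(limit.lift (ringDiag F) ((forget₂ TopCommRingCat.{u} CommRingCat.{u}).mapCone s)).hom,
    continuous_iInf_rng.mpr fun j => continuous_induced_rng.mpr (by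
      have h := limit.lift_π ((forget₂ TopCommRingCat.{u} CommRingCat.{u}).mapCone s) j
      have e : ∀ x : s.pt, proj F j ((limit.lift (ringDiag F)
          ((forget₂ TopCommRingCat.{u} CommRingCat.{u}).mapCone s)).hom x) = (s.π.app j).1 x :=
        fun x => DFunLike.congr_fun (congrArg CommRingCat.Hom.hom h) x
      exact ((s.π.app j).2).congr fun x => (e x).symm)⟩
  fac s j := Subtype.ext (congrArg CommRingCat.Hom.hom
    (limit.lift_π ((forget₂ TopCommRingCat.{u} CommRingCat.{u}).mapCone s) j))
  uniq s m hm := Subtype.ext (congrArg CommRingCat.Hom.hom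
    ((limit.isLimit (ringDiag F)).uniq ((forget₂ TopCommRingCat.{u} CommRingCat.{u}).mapCone s)
      ((forget₂ TopCommRingCat.{u} CommRingCat.{u}).map m)
      (fun j => congrArg (forget₂ TopCommRingCat.{u} CommRingCat.{u}).map (hm j))))

/-- The category of topological rings (commutative, with continuous ring homomorphisms) has limits, and
limits commute with the forgetful functors to topological spaces and to rings. -/
theorem result :
    HasLimits TopCommRingCat.{u} ∧
    PreservesLimits (forget₂ TopCommRingCat.{u} TopCat.{u}) ∧
    PreservesLimits (forget₂ TopCommRingCat.{u} CommRingCat.{u}) := by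

  refine ⟨⟨fun J _ => ⟨fun F => ⟨⟨⟨limCone F, limConeIsLimit F⟩⟩⟩⟩⟩, ?_, ?_⟩
  · refine ⟨fun {J} _ => ⟨fun {F} => preservesLimit_of_preserves_limit_cone (limConeIsLimit F) ?_⟩⟩
    have hset : IsLimit ((forget TopCat.{u}).mapCone ((forget₂ TopCommRingCat.{u} TopCat.{u}).mapCone (limCone F))) :=
      isLimitOfPreserves (forget CommRingCat.{u}) (limit.isLimit (ringDiag F))
    exact ((TopCat.nonempty_isLimit_iff_eq_induced _ hset).mpr rfl).some
  · refine ⟨fun {J} _ => ⟨fun {F} => preservesLimit_of_preserves_limit_cone (limConeIsLimit F)
      (IsLimit.ofIsoLimit (limit.isLimit (ringDiag F)) (Iso.refl _))⟩⟩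

end Groth.Agent.S7557
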