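import Groth.Statements.S7558
import Mathlib.Algebra.Category.Ring.Colimits
import Mathlib.CategoryTheory.Limits.Preserves.Basic

set_option autoImplicit false
set_option linter.style.haveILetI false
universe u
open CategoryTheory CategoryTheory.Limits Topology
open PtTop

namespace Groth.Agent.S7558

variable {J : Type u} [Category.{u} J] (F : J ⥤ TopCommRingCat.{u})

/-- The underlying diagram of rings. -/
abbrev ringDiag : J ⥤ CommRingCat.{u} := F ⋙ forget₂ TopCommRingCat.{u} CommRingCat.{u}

/-- The coprojections to the colimit ring. -/
noncomputable abbrev incl (j : J) : F.obj j →+* (colimit (ringDiag F) : CommRingCat.{u}) :=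
  (colimit.ι (ringDiag F) j).hom

/-- The finest ring topology making all coprojections continuous. -/
noncomputable def colimTop : RingTopology (colimit (ringDiag F) : CommRingCat.{u}) :=
  sInf {b | ∀ j, Continuous[(F.obj j).isTopologicalSpace, b.toTopologicalSpace] (incl F j)}

theorem continuous_incl (j : J) :
    Continuous[(F.obj j).isTopologicalSpace, (colimTop F).toTopologicalSpace] (incl F j) :=
  continuous_sInf_rng.2 fun _ ht => by
    obtain ⟨b, hb, rfl⟩ := ht
    exact hb j

/-- The colimit cocone. -/
noncomputable def colimCocone : Cocone F where
  pt :=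
    { α := (colimit (ringDiag F) : CommRingCat.{u})
      isTopologicalSpace := (colimTop F).toTopologicalSpace
      isTopologicalRing := (colimTop F).toIsTopologicalRing }
  ι :=
    { app := fun j => ⟨incl F j, continuous_incl F j⟩
      naturality := fun i j f => Subtype.ext (congrArg CommRingCat.Hom.hom ((colimit.cocone (ringDiag F)).ι.naturality f)) }

/-- The underlying map of the descent. -/
noncomputable abbrev descHom (s : Cocone F) : (colimit (ringDiag F) : CommRingCat.{u}) →+* s.pt :=
  (colimit.desc (ringDiag F) ((forget₂ TopCommRingCat.{u} CommRingCat.{u}).mapCocone s)).hom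

/-- The pulled back ring topology. -/
noncomputable def pullTop (s : Cocone F) : RingTopology (colimit (ringDiag F) : CommRingCat.{u}) :=
  letI t := TopologicalSpace.induced (descHom F s) s.pt.isTopologicalSpace
  have hd : Continuous (descHom F s) := continuous_induced_dom
  { t with
    continuous_add := continuous_induced_rng.mpr (by
      simp only [Function.comp_def, map_add]; exact (hd.comp continuous_fst).add (hd.comp continuous_snd))
    continuous_mul := continuous_induced_rng.mpr (by
      simp only [Function.comp_def, map_mul]; exact (hd.comp continuous_fst).mul (hd.comp continuous_snd))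
    continuous_neg := continuous_induced_rng.mpr (by
      simp only [Function.comp_def, map_neg]; exact hd.neg) }

theorem continuous_descHom (s : Cocone F) :
    Continuous[(colimTop F).toTopologicalSpace, s.pt.isTopologicalSpace] (descHom F s) := by
  have h : colimTop F ≤ pullTop F s := sInf_le fun j => continuous_induced_rng.mpr (by
    have e : ∀ x : F.obj j, descHom F s (incl F j x) = (s.ι.app j).1 x := fun x =>
      DFunLike.congr_fun (congrArg CommRingCat.Hom.hom
        (colimit.ι_desc ((forget₂ TopCommRingCat.{u} CommRingCat.{u}).mapCocone s) j)) x
    exact ((s.ι.app j).2).congr fun x => (e x).symm)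
  exact continuous_iff_le_induced.mpr h

/-- It is a colimit. -/
noncomputable def colimCoconeIsColimit : IsColimit (colimCocone F) where
  desc s := ⟨descHom F s, continuous_descHom F s⟩
  fac s j := Subtype.ext (congrArg CommRingCat.Hom.hom
    (colimit.ι_desc ((forget₂ TopCommRingCat.{u} CommRingCat.{u}).mapCocone s) j))
  uniq s m hm := Subtype.ext (congrArg CommRingCat.Hom.hom
    ((colimit.isColimit (ringDiag F)).uniq ((forget₂ TopCommRingCat.{u} CommRingCat.{u}).mapCocone s)
      ((forget₂ TopCommRingCat.{u} CommRingCat.{u}).map m)
      (fun j => congrArg (forget₂ TopCommRingCat.{u} CommRingCat.{u}).map (hm j))))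

/-- The category of topological rings (commutative, with continuous ring homomorphisms) has colimits,
and colimits commute with the forgetful functor to rings. -/
theorem result :
    HasColimits TopCommRingCat.{u} ∧
    PreservesColimits (forget₂ TopCommRingCat.{u} CommRingCat.{u}) := by

  exact ⟨⟨fun J _ => ⟨fun F => ⟨⟨⟨colimCocone F, colimCoconeIsColimit F⟩⟩⟩⟩⟩,
    ⟨fun {J} _ => ⟨fun {F} => preservesColimit_of_preserves_colimit_cocone (colimCoconeIsColimit F)
      (IsColimit.ofIsoColimit (colimit.isColimit (ringDiag F)) (Iso.refl _))⟩⟩⟩

end Groth.Agent.S7558
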