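import Groth.Statements.S7560
import Groth.Agent.L06.Strata
import Mathlib.Topology.Constructible
import Mathlib.Data.Fintype.Sigma

set_option autoImplicit false
set_option linter.style.haveILetI false
universe u
open ConstrTop

namespace Groth.Agent.S7560

open Topology in
theorem aux_gen {X : Type u} [TopologicalSpace X] {s : Set X} (hs : IsConstructible s) :
    ∃ (m : ℕ) (U : Fin m → Set X), (∀ a, IsOpen (U a) ∧ IsRetrocompact (U a)) ∧
      ∀ x y, (∀ a, x ∈ U a ↔ y ∈ U a) → x ∈ s → y ∈ s := by
  induction hs using IsConstructible.empty_union_induction with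
  | open_retrocompact U hU hUc => exact ⟨1, fun _ => U, fun _ => ⟨hU, hUc⟩, fun x y h hx => (h 0).mp hx⟩
  | union s hs t ht h1 h2 =>
    obtain ⟨m, U, hU, hUs⟩ := h1
    obtain ⟨l, V, hV, hVt⟩ := h2
    refine ⟨m + l, Fin.append U V, Fin.addCases (by simpa using hU) (by simpa using hV), ?_⟩
    rintro x y h (hx | hx)
    · exact Or.inl (hUs x y (fun a => by simpa using h (Fin.castAdd l a)) hx)
    · exact Or.inr (hVt x y (fun a => by simpa using h (Fin.natAdd m a)) hx)
  | compl s hs h1 =>
    obtain ⟨m, U, hU, hUs⟩ := h1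
    exact ⟨m, U, hU, fun x y h hx hy => hx (hUs y x (fun a => (h a).symm) hy)⟩

/-- Let X be a topological space written as a finite union X = T_1 ∪ … ∪ T_n of constructible subsets.
Then there is a finite stratification X = ∐ S_i (pairwise disjoint locally closed strata indexed by
a finite partially ordered set, with closure(S_j) ⊆ ⋃_{i ≤ j} S_i) whose strata are constructible
and such that every T_k is a union of strata. -/
theorem result {X : Type u} [TopologicalSpace X]
    {n : ℕ} (T : Fin n → Set X) (hT : ∀ k, Topology.IsConstructible (T k)) (hcov : ⋃ k, T k = Set.univ) :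
    ∃ (I : Type) (_ : Fintype I) (_ : PartialOrder I) (S : I → Set X),
      (∀ i, IsLocallyClosed (S i) ∧ Topology.IsConstructible (S i)) ∧ (⋃ i, S i = Set.univ) ∧
      (∀ i j, i ≠ j → Disjoint (S i) (S j)) ∧
      (∀ j, closure (S j) ⊆ ⋃ i ∈ Set.Iic j, S i) ∧
      (∀ i k, (S i ∩ T k).Nonempty → S i ⊆ T k) := by

  classical
  choose m U hU hUs using fun k => aux_gen (hT k)
  let C : (Σ k, Fin (m k)) → Set X := fun a => (U a.1 a.2)ᶜ
  have hC : ∀ a, IsClosed (C a) := fun a => (hU a.1 a.2).1.isClosed_compl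
  obtain ⟨I, hI, hI', S, h1, h2, h3, h4, h5⟩ := Groth.L06.Strata.exists_stratification hC T
    (fun k x y h hx => hUs k x y (fun a => not_iff_not.mp (h ⟨k, a⟩)) hx)
  refine ⟨I, hI, hI', S, fun i => ⟨(h1 i).1, ?_⟩, h2, h3, h4, h5⟩
  obtain ⟨v, hv⟩ := (h1 i).2
  have hc : ∀ a, Topology.IsConstructible (C a) := fun a => ((hU a.1 a.2).2.isConstructible (hU a.1 a.2).1).compl
  rw [hv, Groth.L06.Strata.atom_eq]
  exact (Topology.IsConstructible.biInter (Set.toFinite _) fun a _ => hc a).inter
    (Topology.IsConstructible.biInter (Set.toFinite _) fun a _ => (hc a).compl)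

end Groth.Agent.S7560
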