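import Groth.Statements.S7561
import Mathlib.Topology.NoetherianSpace
import Mathlib.Topology.LocallyClosed

set_option autoImplicit false
set_option linter.style.haveILetI false
universe u
open PtTop

namespace Groth.Agent.S7561

open TopologicalSpace in
theorem aux_good {X : Type u} [TopologicalSpace X] [NoetherianSpace X] (Z : Closeds X) :
    ∀ 𝒞 : Finset (Set X), (∀ C ∈ 𝒞, IsClosed C) → ∃ 𝒮 : Finset (Set X),
      (∀ S ∈ 𝒮, IsLocallyClosed S ∧ S ⊆ (Z : Set X) ∧ ∀ C ∈ 𝒞, (S ∩ C).Nonempty → S ⊆ C) ∧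
      ((Z : Set X) ⊆ ⋃₀ (𝒮 : Set (Set X))) ∧
      (∀ S ∈ 𝒮, ∀ T ∈ 𝒮, S ≠ T → Disjoint S T) ∧
      (∀ S ∈ 𝒮, ∀ T ∈ 𝒮, (S ∩ closure T).Nonempty → S ⊆ closure T) := by
  classical
  induction Z using (wellFounded_lt (α := Closeds X)).induction with
  | _ Z ih =>
    intro 𝒞 h𝒞
    rcases (Z : Set X).eq_empty_or_nonempty with he | hne
    · exact ⟨∅, by simp, by simp [he], by simp, by simp⟩
    obtain ⟨U, hU, hUne, hUC⟩ : ∃ U : Set X, IsOpen U ∧ (U ∩ (Z : Set X)).Nonempty ∧
        ∀ C ∈ 𝒞, U ∩ (Z : Set X) ⊆ C ∨ Disjoint (U ∩ (Z : Set X)) C := by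
      clear ih
      induction 𝒞 using Finset.induction with
      | empty => exact ⟨Set.univ, isOpen_univ, by simpa using hne, by simp⟩
      | @insert C 𝒟 hC ih' =>
        obtain ⟨U, hU, hUne, hUC⟩ := ih' fun D hD => h𝒞 D (Finset.mem_insert_of_mem hD)
        by_cases hsub : U ∩ (Z : Set X) ⊆ C
        · refine ⟨U, hU, hUne, fun D hD => ?_⟩
          rcases Finset.mem_insert.mp hD with rfl | hD
          · exact Or.inl hsub
          · exact hUC D hD
        · obtain ⟨x, hx, hxC⟩ := Set.not_subset.mp hsub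
          refine ⟨U ∩ Cᶜ, hU.inter (h𝒞 C (Finset.mem_insert_self _ _)).isOpen_compl, ⟨x, ⟨hx.1, hxC⟩, hx.2⟩,
            fun D hD => ?_⟩
          rcases Finset.mem_insert.mp hD with rfl | hD
          · exact Or.inr (Set.disjoint_left.mpr fun y hy hyC => hy.1.2 hyC)
          · have hle : U ∩ Cᶜ ∩ (Z : Set X) ⊆ U ∩ (Z : Set X) :=
              Set.inter_subset_inter_left _ Set.inter_subset_left
            exact (hUC D hD).imp hle.trans (fun h => h.mono_left hle)
    set U0 := U ∩ (Z : Set X) with hU0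
    let Z' : Closeds X := ⟨(Z : Set X) \ U, Z.2.sdiff hU⟩
    have hlt : Z' < Z := lt_of_le_of_ne (fun x hx => hx.1) fun h => by
      obtain ⟨x, hxU, hxZ⟩ := hUne
      exact (show x ∈ (Z' : Set X) from h ▸ hxZ).2 hxU
    obtain ⟨𝒮, h1, h2, h3, h4⟩ := ih Z' hlt (insert (closure U0) 𝒞) fun C hC => by
      rcases Finset.mem_insert.mp hC with rfl | hC
      · exact isClosed_closure
      · exact h𝒞 C hC
    have hdisj : ∀ S ∈ 𝒮, Disjoint U0 S := fun S hS =>
      Set.disjoint_left.mpr fun x hx hxS => ((h1 S hS).2.1 hxS).2 hx.1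
    refine ⟨insert U0 𝒮, fun S hS => ?_, fun x hx => ?_, fun S hS T hT hne' => ?_, fun S hS T hT hne' => ?_⟩
    · rcases Finset.mem_insert.mp hS with rfl | hS
      · refine ⟨⟨U, Z, hU, Z.2, rfl⟩, Set.inter_subset_right, fun C hC hne' => ?_⟩
        exact (hUC C hC).resolve_right fun hd => Set.not_disjoint_iff_nonempty_inter.mpr hne' hd
      · exact ⟨(h1 S hS).1, (h1 S hS).2.1.trans fun x hx => hx.1,
          fun C hC => (h1 S hS).2.2 C (Finset.mem_insert_of_mem hC)⟩
    · by_cases hxU : x ∈ U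
      · exact ⟨U0, Finset.mem_coe.mpr (Finset.mem_insert_self _ _), hxU, hx⟩
      · obtain ⟨S, hS, hxS⟩ := h2 (show x ∈ (Z' : Set X) from ⟨hx, hxU⟩)
        exact ⟨S, Finset.mem_coe.mpr (Finset.mem_insert_of_mem hS), hxS⟩
    · rcases Finset.mem_insert.mp hS with hS | hS <;> rcases Finset.mem_insert.mp hT with hT | hT
      · exact absurd (hS.trans hT.symm) hne'
      · exact hS ▸ hdisj T hT
      · exact hT ▸ (hdisj S hS).symm
      · exact h3 S hS T hT hne'
    · rcases Finset.mem_insert.mp hS with hS | hS <;> rcases Finset.mem_insert.mp hT with hT | hT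
      · rw [hS, hT]; exact subset_closure
      · obtain ⟨x, hx, hx'⟩ := hne'
        rw [hS] at hx
        exact absurd hx.1 (closure_minimal (h1 T hT).2.1 Z'.2 hx').2
      · subst hT
        exact (h1 S hS).2.2 _ (Finset.mem_insert_self _ _) hne'
      · exact h4 S hS T hT hne'

/-- Let X be a Noetherian topological space and X = ∐ P_k a finite partition into locally closed parts.
Then it is refined by a finite good stratification: a finite partition X = ∐ S_i into locally closed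
strata such that S_i ∩ closure(S_j) ≠ ∅ implies S_i ⊆ closure(S_j), with every P_k a union of
strata. -/
theorem result {X : Type u} [TopologicalSpace X]
    [TopologicalSpace.NoetherianSpace X]
    {n : ℕ} (P : Fin n → Set X) (hP : ∀ k, IsLocallyClosed (P k)) (hcov : ⋃ k, P k = Set.univ)
    (hdisj : ∀ k k', k ≠ k' → Disjoint (P k) (P k')) :
    ∃ (m : ℕ) (S : Fin m → Set X),
      (∀ i, IsLocallyClosed (S i)) ∧ (⋃ i, S i = Set.univ) ∧ (∀ i j, i ≠ j → Disjoint (S i) (S j)) ∧
      (∀ i j, (S i ∩ closure (S j)).Nonempty → S i ⊆ closure (S j)) ∧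
      (∀ i k, (S i ∩ P k).Nonempty → S i ⊆ P k) := by

  classical
  obtain ⟨𝒮, h1, h2, h3, h4⟩ := aux_good (X := X) ⊤
    ((Finset.univ.image fun k => closure (P k)) ∪ Finset.univ.image fun k => closure (P k) \ P k)
    (by
      intro C hC
      rcases Finset.mem_union.mp hC with hC | hC <;> obtain ⟨k, -, rfl⟩ := Finset.mem_image.mp hC
      · exact isClosed_closure
      · have := (hP k).isOpen_coborder
        rw [coborder, isOpen_compl_iff] at this
        exact this)
  refine ⟨𝒮.card, fun i => (𝒮.equivFin.symm i).1, fun i => (h1 _ (𝒮.equivFin.symm i).2).1,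
    Set.eq_univ_of_forall fun x => ?_, fun i j hij => ?_, fun i j => h4 _ (𝒮.equivFin.symm i).2 _ (𝒮.equivFin.symm j).2,
    fun i k ⟨x, hxS, hxP⟩ y hy => ?_⟩
  · obtain ⟨S, hS, hxS⟩ := h2 (Set.mem_univ x)
    exact Set.mem_iUnion.mpr ⟨𝒮.equivFin ⟨S, Finset.mem_coe.mp hS⟩, by simpa using hxS⟩
  · exact h3 _ (𝒮.equivFin.symm i).2 _ (𝒮.equivFin.symm j).2
      fun h => hij (𝒮.equivFin.symm.injective (Subtype.ext h))
  · have h := (h1 _ (𝒮.equivFin.symm i).2).2.2
    have hy1 : y ∈ closure (P k) := h _ (Finset.mem_union_left _ (Finset.mem_image.mpr ⟨k, Finset.mem_univ _, rfl⟩))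
      ⟨x, hxS, subset_closure hxP⟩ hy
    by_contra hyP
    exact (h _ (Finset.mem_union_right _ (Finset.mem_image.mpr ⟨k, Finset.mem_univ _, rfl⟩))
      ⟨y, hy, hy1, hyP⟩ hxS).2 hxP

end Groth.Agent.S7561
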