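import Groth.Statements.S7563
import Mathlib.Topology.Irreducible

set_option autoImplicit false
set_option linter.style.haveILetI false
universe u
open PtTop

namespace Groth.Agent.S7563

/-- Let X be a topological space and X = X_1 ∪ … ∪ X_n with each X_i irreducible and closed and no X_i
contained in the union of the others. Then the irreducible components of X are precisely the sets
X_1, …, X_n. -/
theorem result {X : Type u} [TopologicalSpace X]
    {n : ℕ} (Z : Fin n → Set X) (hZ : ∀ i, IsIrreducible (Z i) ∧ IsClosed (Z i))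
    (hcov : ⋃ i, Z i = Set.univ) (hirr : ∀ i, ¬ Z i ⊆ ⋃ j ∈ ({i}ᶜ : Set (Fin n)), Z j) :
    irreducibleComponents X = Set.range Z := by
  have key : ∀ W : Set X, IsIrreducible W → ∃ i, W ⊆ Z i := by
    intro W hW
    classical
    obtain ⟨t, ht, hWt⟩ := isIrreducible_iff_sUnion_isClosed.mp hW (Finset.univ.image Z)
      (by simp only [Finset.mem_image]; rintro z ⟨i, _, rfl⟩; exact (hZ i).2)
      (by intro w _
          have := Set.mem_iUnion.mp (hcov ▸ Set.mem_univ w)
          obtain ⟨i, hi⟩ := this
          exact ⟨Z i, Finset.mem_coe.mpr (Finset.mem_image.mpr ⟨i, Finset.mem_univ _, rfl⟩), hi⟩)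
    obtain ⟨i, _, rfl⟩ := Finset.mem_image.mp ht
    exact ⟨i, hWt⟩
  ext W
  constructor
  · intro hW
    obtain ⟨i, hi⟩ := key W hW.1
    exact ⟨i, (hi.antisymm (hW.2 (hZ i).1 hi)).symm⟩
  · rintro ⟨i, rfl⟩
    refine ⟨(hZ i).1, fun W hW hiW => ?_⟩
    obtain ⟨j, hj⟩ := key W hW
    by_cases hij : j = i
    · exact hij ▸ hj
    · exact absurd ((hiW.trans hj).trans (Set.subset_biUnion_of_mem (u := Z) hij)) (hirr i)

end Groth.Agent.S7563
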