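import Groth.Statements.S7564
import Mathlib.Topology.Irreducible

set_option autoImplicit false
set_option linter.style.haveILetI false
universe u
open PtTop

namespace Groth.Agent.S7564

/-- For a continuous surjection f : X → Y, if X has finitely many irreducible components, say n of them,
then Y has at most n irreducible components. -/
theorem result {X Y : Type u} [TopologicalSpace X] [TopologicalSpace Y]
    (f : X → Y) (hf : Continuous f) (hs : Function.Surjective f) (hfin : (irreducibleComponents X).Finite) :
    (irreducibleComponents Y).Finite ∧ (irreducibleComponents Y).ncard ≤ (irreducibleComponents X).ncard := by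
  classical
  have hsub : irreducibleComponents Y ⊆ (fun Z => closure (f '' Z)) '' irreducibleComponents X := by
    intro W hW
    obtain ⟨t, ht, hWt⟩ := isIrreducible_iff_sUnion_isClosed.mp hW.1
      (hfin.toFinset.image fun Z => closure (f '' Z))
      (by simp only [Finset.mem_image]; rintro z ⟨i, _, rfl⟩; exact isClosed_closure)
      (by intro w _
          obtain ⟨x, rfl⟩ := hs w
          refine ⟨closure (f '' irreducibleComponent x), Finset.mem_coe.mpr (Finset.mem_image.mpr
            ⟨irreducibleComponent x, hfin.mem_toFinset.mpr (irreducibleComponent_mem_irreducibleComponents x), rfl⟩), ?_⟩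
          exact subset_closure ⟨x, mem_irreducibleComponent, rfl⟩)
    obtain ⟨Z, hZ, rfl⟩ := Finset.mem_image.mp ht
    rw [Set.Finite.mem_toFinset] at hZ
    exact ⟨Z, hZ, ((hWt.antisymm (hW.2 ((hZ.1.image f hf.continuousOn).closure) hWt))).symm⟩
  exact ⟨(hfin.image _).subset hsub, (Set.ncard_le_ncard hsub (hfin.image _)).trans (Set.ncard_image_le hfin)⟩

end Groth.Agent.S7564
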