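import Groth.Statements.S7565
import Mathlib.Topology.NoetherianSpace

set_option autoImplicit false
set_option linter.style.haveILetI false
universe u
open PtTop

namespace Groth.Agent.S7565

/-- Let f : X → Y be a continuous open map of topological spaces and assume every point of X has a
Noetherian neighbourhood. Then every point of f(X) (with the induced topology) has a Noetherian
neighbourhood. The published statement also asserts that a continuous image of a Noetherian space is
Noetherian; this row states the part about open maps and locally Noetherian spaces. -/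
theorem result {X Y : Type u} [TopologicalSpace X] [TopologicalSpace Y]
    (f : X → Y) (hf : Continuous f) (hfo : IsOpenMap f)
    (hX : ∀ x : X, ∃ E ∈ nhds x, TopologicalSpace.NoetherianSpace E) :
    ∀ y : Set.range f, ∃ E : Set (Set.range f), E ∈ nhds y ∧ TopologicalSpace.NoetherianSpace E := by
  rintro ⟨_, x, rfl⟩
  obtain ⟨E, hE, hEn⟩ := hX x
  refine ⟨Set.rangeFactorization f '' E, ?_, ?_⟩
  · rw [mem_nhds_subtype]
    refine ⟨f '' E, hfo.image_mem_nhds hE, ?_⟩
    rintro ⟨_, z, rfl⟩ ⟨e, he, hez⟩
    exact ⟨e, he, Subtype.ext hez⟩
  · rw [TopologicalSpace.noetherianSpace_set_iff] at hEn ⊢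
    intro t ht
    have hF : Continuous (Set.rangeFactorization f) := hf.subtype_mk _
    have : t = Set.rangeFactorization f '' (E ∩ Set.rangeFactorization f ⁻¹' t) := by
      refine subset_antisymm (fun z hz => ?_) (by rintro _ ⟨e, he, rfl⟩; exact he.2)
      obtain ⟨e, he, rfl⟩ := ht hz
      exact ⟨e, ⟨he, hz⟩, rfl⟩
    rw [this]
    exact (hEn _ Set.inter_subset_left).image hF

end Groth.Agent.S7565
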