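import Groth.Statements.S7566
import Mathlib.Topology.Spectral.Prespectral
import Mathlib.Topology.QuasiSeparated
import Mathlib.Topology.Connected.Clopen

set_option autoImplicit false
set_option linter.style.haveILetI false
universe u
open PtTop

namespace Groth.Agent.S7566

/-- Let X be a quasi-compact topological space whose quasi-compact opens form a basis, any two of them
meeting in a quasi-compact set. Then for every x ∈ X the connected component of x equals the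
intersection of every clopen subset of X that contains x. -/
theorem result {X : Type u} [TopologicalSpace X]
    [CompactSpace X] [PrespectralSpace X] [QuasiSeparatedSpace X] (x : X) :
    connectedComponent x = ⋂₀ {Z : Set X | IsClopen Z ∧ x ∈ Z} := by
  refine subset_antisymm (Set.subset_sInter fun Z hZ => hZ.1.connectedComponent_subset hZ.2) ?_
  set 𝒵 := {Z : Set X | IsClopen Z ∧ x ∈ Z}
  have hSc : IsClosed (⋂₀ 𝒵) := isClosed_sInter fun Z hZ => hZ.1.1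
  have hxS : x ∈ ⋂₀ 𝒵 := fun Z hZ => hZ.2
  refine IsPreconnected.subset_connectedComponent ?_ hxS
  have small : ∀ K : Set X, IsCompact K → K ∩ ⋂₀ 𝒵 = ∅ → ∃ Z ∈ 𝒵, K ∩ Z = ∅ := by
    intro K hK h
    rw [Set.sInter_eq_iInter] at h
    obtain ⟨t, ht⟩ := hK.elim_finite_subfamily_closed _ (fun Z : 𝒵 => Z.2.1.1) h
    exact ⟨⋂ i ∈ t, (i : Set X), ⟨isClopen_biInter_finset fun i _ => i.2.1,
      Set.mem_iInter₂.mpr fun i _ => i.2.2⟩, ht⟩
  rw [isPreconnected_iff_subset_of_fully_disjoint_closed hSc]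
  intro B C hB hC hBC hdisj
  have sep : ∀ B : Set X, IsClosed B → ∀ C : Set X, IsClosed C → Disjoint B C →
      ∃ U : Set X, IsOpen U ∧ IsCompact U ∧ B ⊆ U ∧ U ⊆ Cᶜ := fun B hB C hC h =>
    PrespectralSpace.exists_isCompact_and_isOpen_between hB.isCompact hC.isOpen_compl
      (Set.subset_compl_iff_disjoint_right.mpr h) |>.imp fun U hU => ⟨hU.2.1, hU.1, hU.2.2.1, hU.2.2.2⟩
  obtain ⟨U, hUo, hUc, hBU, hUC⟩ := sep (B ∩ ⋂₀ 𝒵) (hB.inter hSc) C hC (hdisj.mono_left Set.inter_subset_left)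
  obtain ⟨V, hVo, hVc, hCV, hVB⟩ := sep (C ∩ ⋂₀ 𝒵) (hC.inter hSc) B hB (hdisj.symm.mono_left Set.inter_subset_left)
  obtain ⟨Z₁, hZ₁, h₁⟩ := small (U ∩ V) (QuasiSeparatedSpace.inter_isCompact U V hUo hUc hVo hVc) (by
    rw [Set.eq_empty_iff_forall_notMem]
    rintro z ⟨⟨hzU, hzV⟩, hzS⟩
    rcases hBC hzS with h | h
    · exact hVB hzV h
    · exact hUC hzU h)
  obtain ⟨Z₂, hZ₂, h₂⟩ := small (U ∪ V)ᶜ (hUo.union hVo).isClosed_compl.isCompact (by
    rw [Set.eq_empty_iff_forall_notMem]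
    rintro z ⟨hz, hzS⟩
    rcases hBC hzS with h | h
    · exact hz (Or.inl (hBU ⟨h, hzS⟩))
    · exact hz (Or.inr (hCV ⟨h, hzS⟩)))
  rw [Set.eq_empty_iff_forall_notMem] at h₁ h₂
  have hcl : ∀ {U V : Set X}, IsOpen U → IsOpen V → (∀ z, z ∈ U → z ∈ V → z ∉ Z₁) →
      (∀ z ∈ Z₂, z ∈ U ∨ z ∈ V) → IsClopen (Z₁ ∩ Z₂ ∩ U) := by
    intro U V hU hV hd hc
    refine ⟨⟨?_⟩, (hZ₁.1.2.inter hZ₂.1.2).inter hU⟩
    have : (Z₁ ∩ Z₂ ∩ U)ᶜ = (Z₁ ∩ Z₂)ᶜ ∪ V := by
      ext z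
      constructor
      · intro hz
        by_cases hzz : z ∈ Z₁ ∩ Z₂
        · exact Or.inr ((hc z hzz.2).resolve_left fun h => hz ⟨hzz, h⟩)
        · exact Or.inl hzz
      · rintro (h | h) hz
        · exact h hz.1
        · exact hd z hz.2 h hz.1.1
    rw [this]
    exact (hZ₁.1.inter hZ₂.1).1.isOpen_compl.union hV
  have hUV : ∀ z ∈ Z₂, z ∈ U ∨ z ∈ V := fun z hz => by
    by_contra h
    exact h₂ z ⟨h, hz⟩
  rcases hUV x hZ₂.2 with hx | hx
  · have h := hcl hUo hVo (fun z a b c => h₁ z ⟨⟨a, b⟩, c⟩) hUV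
    refine Or.inl fun z hz => (hBC hz).resolve_right fun hzC => ?_
    exact hUC (hz _ ⟨h, ⟨⟨hZ₁.2, hZ₂.2⟩, hx⟩⟩).2 hzC
  · have h := hcl hVo hUo (fun z a b c => h₁ z ⟨⟨b, a⟩, c⟩) (fun z hz => (hUV z hz).symm)
    refine Or.inr fun z hz => (hBC hz).resolve_left fun hzB => ?_
    exact hVB (hz _ ⟨h, ⟨⟨hZ₁.2, hZ₂.2⟩, hx⟩⟩).2 hzB

end Groth.Agent.S7566
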