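import Groth.Statements.S7567
import Groth.Agent.S7566
import Mathlib.Topology.Connected.Clopen

set_option autoImplicit false
set_option linter.style.haveILetI false
universe u
open PtTop

namespace Groth.Agent.S7567

/-- Let X be a quasi-compact topological space whose quasi-compact opens form a basis, any two of them
meeting in a quasi-compact set. For a subset T ⊆ X these two conditions are equivalent: (a) T can be
written as an intersection of clopen subsets of X; (b) T is closed and is a union of connected
components of X. -/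
theorem result {X : Type u} [TopologicalSpace X]
    [CompactSpace X] [PrespectralSpace X] [QuasiSeparatedSpace X] (T : Set X) :
    (∃ S : Set (Set X), (∀ Z ∈ S, IsClopen Z) ∧ T = ⋂₀ S) ↔
      (IsClosed T ∧ ∀ x ∈ T, connectedComponent x ⊆ T) := by
  constructor
  · rintro ⟨S, hS, rfl⟩
    exact ⟨isClosed_sInter fun Z hZ => (hS Z hZ).1, fun x hx =>
      Set.subset_sInter fun Z hZ => (hS Z hZ).connectedComponent_subset (hx Z hZ)⟩
  · rintro ⟨hT, hTc⟩
    refine ⟨{Z | IsClopen Z ∧ T ⊆ Z}, fun Z hZ => hZ.1, subset_antisymm (Set.subset_sInter fun Z hZ => hZ.2) ?_⟩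
    intro y hy
    by_contra hyT
    have h : T ∩ ⋂₀ {Z : Set X | IsClopen Z ∧ y ∈ Z} = ∅ := by
      rw [← Groth.Agent.S7566.result y, Set.eq_empty_iff_forall_notMem]
      rintro z ⟨hzT, hz⟩
      exact hyT (hTc z hzT (connectedComponent_eq hz ▸ mem_connectedComponent))
    rw [Set.sInter_eq_iInter] at h
    obtain ⟨t, ht⟩ := hT.isCompact.elim_finite_subfamily_closed _
      (fun Z : {Z : Set X | IsClopen Z ∧ y ∈ Z} => Z.2.1.1) h
    refine hy (⋂ i ∈ t, (i : Set X))ᶜ ⟨(isClopen_biInter_finset fun i _ => i.2.1).compl, ?_⟩ ?_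
    · intro z hz hz'
      exact (Set.eq_empty_iff_forall_notMem.mp ht) z ⟨hz, hz'⟩
    · exact Set.mem_iInter₂.mpr fun i _ => i.2.2

end Groth.Agent.S7567
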