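import Groth.Statements.S7568
import Mathlib.Topology.Separation.Regular
import Mathlib.Topology.Compactness.Compact

set_option autoImplicit false
set_option linter.style.haveILetI false
universe u
open PtTop

namespace Groth.Agent.S7568

/-- Let X be a Hausdorff quasi-compact space, X = ⋃ U_i an open covering, p ≥ 0 an integer, and for
every (p+1)-tuple (i_0, …, i_p) an open covering of U_{i_0} ∩ … ∩ U_{i_p} by opens W_{i_0…i_p,k}.
Then there are an open covering X = ⋃_{j ∈ J} V_j and a map α : J → I with closure(V_j) ⊆ U_{α(j)}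
such that each V_{j_0} ∩ … ∩ V_{j_p} is contained in W_{α(j_0)…α(j_p),k} for some k. The published
statement allows a covering of an empty intersection to have no members; this row requires every
covering W_{i_0…i_p} to have at least one member (possibly empty), without which the conclusion
fails. -/
theorem result {X : Type u} [TopologicalSpace X] [CompactSpace X] [T2Space X]
    {ι : Type u} (U : ι → Set X) (hU : ∀ i, IsOpen (U i)) (hcov : ⋃ i, U i = Set.univ) (p : ℕ)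
    (W : (Fin (p + 1) → ι) → Set (Set X)) (hWo : ∀ t, ∀ w ∈ W t, IsOpen w)
    (hWc : ∀ t, ⋃₀ W t = ⋂ l, U (t l)) (hWne : ∀ t, (W t).Nonempty) :
    ∃ (J : Type u) (V : J → Set X) (α : J → ι), (∀ j, IsOpen (V j)) ∧ (⋃ j, V j = Set.univ) ∧
      (∀ j, closure (V j) ⊆ U (α j)) ∧
      (∀ t : Fin (p + 1) → J, ∃ w ∈ W (α ∘ t), (⋂ l, V (t l)) ⊆ w) := by
  classical
  obtain ⟨I₀, hI₀⟩ := isCompact_univ.elim_finite_subcover U hU hcov.ge
  have hpt : ∀ x : X, ∃ (i : ι) (O : Set X), i ∈ I₀ ∧ IsOpen O ∧ x ∈ O ∧ closure O ⊆ U i := fun x => by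
    obtain ⟨i, hi, hxi⟩ := Set.mem_iUnion₂.mp (hI₀ (Set.mem_univ x))
    obtain ⟨C, hC, hCc, hCU⟩ := exists_mem_nhds_isClosed_subset ((hU i).mem_nhds hxi)
    exact ⟨i, interior C, hi, isOpen_interior, mem_interior_iff_mem_nhds.mpr hC,
      (closure_minimal interior_subset hCc).trans hCU⟩
  choose α₀ O hα₀ hOo hxO hOU using hpt
  obtain ⟨T, hT⟩ := isCompact_univ.elim_finite_subcover O hOo fun x _ => Set.mem_iUnion.mpr ⟨x, hxO x⟩
  have hβ : ∀ x : X, ∃ y ∈ T, x ∈ O y := fun x => by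
    obtain ⟨y, hy, hxy⟩ := Set.mem_iUnion₂.mp (hT (Set.mem_univ x)); exact ⟨y, hy, hxy⟩
  choose β hβT hxβ using hβ
  have hN : ∀ x : X, ∃ N : Set X, IsOpen N ∧ x ∈ N ∧ N ⊆ O (β x) ∧
      (∀ y ∈ T, x ∉ closure (O y) → Disjoint N (O y)) ∧
      (∀ t : Fin (p + 1) → T, (∀ l, x ∈ U (α₀ (t l))) → ∃ w ∈ W (fun l => α₀ (t l)), N ⊆ w) := by
    intro x
    have hw : ∀ t : Fin (p + 1) → T, ∃ w : Set X, IsOpen w ∧ x ∈ w ∧
        ((∀ l, x ∈ U (α₀ (t l))) → w ∈ W (fun l => α₀ (t l))) := fun t => by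
      by_cases h : ∀ l, x ∈ U (α₀ (t l))
      · obtain ⟨w, hw, hxw⟩ : x ∈ ⋃₀ W (fun l => α₀ (t l)) := by rw [hWc]; exact Set.mem_iInter.mpr h
        exact ⟨w, hWo _ w hw, hxw, fun _ => hw⟩
      · exact ⟨Set.univ, isOpen_univ, trivial, fun h' => absurd h' h⟩
    choose w hwo hxw hwW using hw
    refine ⟨O (β x) ∩ (⋂ y ∈ T.filter (fun y => x ∉ closure (O y)), (closure (O y))ᶜ) ∩ ⋂ t, w t,
      ((hOo _).inter (isOpen_biInter_finset fun y _ => isClosed_closure.isOpen_compl)).inter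
        (isOpen_iInter_of_finite hwo), ⟨⟨hxβ x, ?_⟩, Set.mem_iInter.mpr hxw⟩,
      fun z hz => hz.1.1, fun y hy hxy => ?_, fun t ht => ⟨w t, hwW t ht, fun z hz => Set.mem_iInter.mp hz.2 t⟩⟩
    · exact Set.mem_iInter₂.mpr fun y hy => (Finset.mem_filter.mp hy).2
    · exact Set.disjoint_left.mpr fun z hz hzy =>
        Set.mem_iInter₂.mp hz.1.2 y (Finset.mem_filter.mpr ⟨hy, hxy⟩) (subset_closure hzy)
  choose N hNo hxN hNO hNd hNW using hN
  refine ⟨X, N, fun x => α₀ (β x), hNo, Set.iUnion_eq_univ_iff.mpr fun x => ⟨x, hxN x⟩,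
    fun x => (closure_mono (hNO x)).trans (hOU _), fun t => ?_⟩
  rcases (⋂ l, N (t l)).eq_empty_or_nonempty with h | ⟨z, hz⟩
  · obtain ⟨w, hw⟩ := hWne ((fun x => α₀ (β x)) ∘ t)
    exact ⟨w, hw, by rw [h]; exact Set.empty_subset _⟩
  · have h0 : ∀ l, t 0 ∈ U (α₀ (β (t l))) := fun l => hOU _ (by
      by_contra hc
      exact Set.disjoint_left.mp (hNd (t 0) (β (t l)) (hβT _) hc) (Set.mem_iInter.mp hz 0)
        (hNO _ (Set.mem_iInter.mp hz l)))
    obtain ⟨w, hw, hsub⟩ := hNW (t 0) (fun l => ⟨β (t l), hβT _⟩) h0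
    exact ⟨w, hw, (Set.iInter_subset _ 0).trans hsub⟩

end Groth.Agent.S7568
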