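import Groth.Statements.S7569
import Groth.Agent.L06.CechShrink
import Mathlib.Topology.Compactness.LocallyCompact
import Mathlib.Topology.Separation.Regular

set_option autoImplicit false
set_option linter.style.haveILetI false
universe u
open PtTop

namespace Groth.Agent.S7569

/-- Let X be a Hausdorff, locally quasi-compact space and Z ⊆ X a quasi-compact subset. Let p ≥ 0, let
U_i ⊆ X be opens with Z ⊆ ⋃ U_i, and for every (p+1)-tuple (i_0, …, i_p) let W_{i_0…i_p} ⊆ U_{i_0} ∩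
… ∩ U_{i_p} be an open with W_{i_0…i_p} ∩ Z = U_{i_0} ∩ … ∩ U_{i_p} ∩ Z. Then there are opens V_i ⊆
X with Z ⊆ ⋃ V_i, closure(V_i) ⊆ U_i for all i, and V_{i_0} ∩ … ∩ V_{i_p} ⊆ W_{i_0…i_p} for all
(p+1)-tuples. -/
theorem result {X : Type u} [TopologicalSpace X]
    [T2Space X] [LocallyCompactSpace X] (Z : Set X) (hZ : IsCompact Z)
    {ι : Type u} (U : ι → Set X) (hU : ∀ i, IsOpen (U i)) (hcov : Z ⊆ ⋃ i, U i) (p : ℕ)
    (W : (Fin (p + 1) → ι) → Set X) (hWo : ∀ t, IsOpen (W t)) (hWU : ∀ t, W t ⊆ ⋂ l, U (t l))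
    (hWZ : ∀ t, W t ∩ Z = (⋂ l, U (t l)) ∩ Z) :
    ∃ V : ι → Set X, (∀ i, IsOpen (V i)) ∧ (Z ⊆ ⋃ i, V i) ∧ (∀ i, closure (V i) ⊆ U i) ∧
      (∀ t : Fin (p + 1) → ι, (⋂ l, V (t l)) ⊆ W t) := by
  obtain ⟨V, K, hVo, hK, hKU, hKV, hKc, hVU, -, hW'⟩ :=
    Groth.L06.CechShrink.exists_shrink (fun z _ z' _ h => t2_separation h) hZ U hU hcov p W hWo hWZ
  have hL : ∀ i, ∃ L : Set X, IsCompact L ∧ K i ⊆ interior L ∧ L ⊆ U i := fun i =>
    exists_compact_between (hK i) (hU i) fun x hx => (hKU i hx).1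
  choose L hLc hKL hLU using hL
  refine ⟨fun i => V i ∩ interior (L i), fun i => (hVo i).inter isOpen_interior,
    hKc.trans (Set.iUnion_mono fun i => Set.subset_inter (hKV i) (hKL i)),
    fun i => (closure_minimal (Set.inter_subset_right.trans interior_subset) (hLc i).isClosed).trans (hLU i),
    fun t => (Set.iInter_mono fun l => Set.inter_subset_left).trans (hW' t)⟩

end Groth.Agent.S7569
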