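import Groth.Statements.S7571
import Mathlib.Topology.Category.TopCat.Limits.Cofiltered
import Mathlib.CategoryTheory.Filtered.Basic

set_option autoImplicit false
set_option linter.style.haveILetI false
universe u
open CategoryTheory CategoryTheory.Limits
open PtTop

namespace Groth.Agent.S7571

/-- Let j ↦ X_j be a diagram of topological spaces over a cofiltered category with limit X and
projections f_j. (1) Every open of X is a union of subsets of the form f_j⁻¹(U_j) with U_j ⊆ X_j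
open. (2) Every quasi-compact open of X equals f_i⁻¹(U_i) for some i and some open U_i ⊆ X_i. -/
theorem result {J : Type u} [SmallCategory J] [IsCofiltered J]
    (F : J ⥤ TopCat.{u}) (c : Cone F) (hc : IsLimit c) :
    (∀ W : Set c.pt, IsOpen W →
      ∃ S : Set (Σ j, Set (F.obj j)), (∀ s ∈ S, IsOpen s.2) ∧ W = ⋃ s ∈ S, c.π.app s.1 ⁻¹' s.2) ∧
    (∀ W : Set c.pt, IsOpen W → IsCompact W →
      ∃ (i : J) (Ui : Set (F.obj i)), IsOpen Ui ∧ W = c.π.app i ⁻¹' Ui) := by
  have hbasis := TopCat.isTopologicalBasis_cofiltered_limit F c hc (fun j => {V | IsOpen V})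
    (fun j => TopologicalSpace.isTopologicalBasis_opens) (fun i => isOpen_univ)
    (fun i U V hU hV => hU.inter hV) (fun i j g V hV => hV.preimage (F.map g).hom.continuous)
  have part1 : ∀ W : Set c.pt, IsOpen W →
      ∃ S : Set (Σ j, Set (F.obj j)), (∀ s ∈ S, IsOpen s.2) ∧ W = ⋃ s ∈ S, c.π.app s.1 ⁻¹' s.2 := by
    intro W hW
    refine ⟨{s | IsOpen s.2 ∧ c.π.app s.1 ⁻¹' s.2 ⊆ W}, fun s hs => hs.1,
      subset_antisymm (fun x hx => ?_) (Set.iUnion₂_subset fun s hs => hs.2)⟩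
    obtain ⟨_, ⟨j, V, hV, rfl⟩, hxV, hVW⟩ := hbasis.exists_subset_of_mem_open hx hW
    exact Set.mem_biUnion (s := {s : Σ j, Set (F.obj j) | IsOpen s.2 ∧ c.π.app s.1 ⁻¹' s.2 ⊆ W}) (x := ⟨j, V⟩) ⟨hV, hVW⟩ hxV
  refine ⟨part1, fun W hW hWc => ?_⟩
  classical
  obtain ⟨S, hS, rfl⟩ := part1 W hW
  obtain ⟨b, hb, hbf, hcov⟩ := hWc.elim_finite_subcover_image
    (fun s hs => (hS s hs).preimage (c.π.app s.1).hom.continuous) subset_rfl
  obtain ⟨i, hi⟩ := IsCofiltered.inf_objs_exists (hbf.toFinset.image Sigma.fst)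
  have hmap : ∀ s ∈ b, ∃ g : i ⟶ s.1, True := fun s hs =>
    ⟨(hi (Finset.mem_image_of_mem _ (hbf.mem_toFinset.mpr hs))).some, trivial⟩
  choose g hg using hmap
  refine ⟨i, ⋃ s, ⋃ hs : s ∈ b, F.map (g s hs) ⁻¹' s.2,
    isOpen_iUnion fun s => isOpen_iUnion fun hs => (hS s (hb hs)).preimage (F.map (g s hs)).hom.continuous, ?_⟩
  have he : ∀ s hs (x : c.pt), F.map (g s hs) (c.π.app i x) = c.π.app s.1 x := fun s hs x => by
    rw [← ConcreteCategory.comp_apply, c.w]
  refine subset_antisymm (hcov.trans ?_) ?_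
  · intro x hx
    obtain ⟨s, hs, hxs⟩ := Set.mem_iUnion₂.mp hx
    refine Set.mem_iUnion₂.mpr ⟨s, hs, ?_⟩
    simp only [Set.mem_preimage] at hxs ⊢
    rwa [he s hs x]
  · intro x hx
    obtain ⟨s, hs, hxs⟩ := Set.mem_iUnion₂.mp hx
    refine Set.mem_iUnion₂.mpr ⟨s, hb hs, ?_⟩
    simp only [Set.mem_preimage] at hxs ⊢
    rwa [he s hs x] at hxs

end Groth.Agent.S7571
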