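import Groth.Statements.S7574
import Groth.Agent.L20.ShEmbed

set_option autoImplicit false
universe u
open CategoryTheory TopologicalSpace
open ShSp

set_option backward.isDefEq.respectTransparency.types false
namespace Groth.Agent.S7574

/-- Let X be a topological space, U ⊆ X open and j_! : Sh(U) → Sh(X) a left adjoint of restriction of
sheaves of sets to U. Then j_! is fully faithful, and a sheaf G on X lies in its essential image if
and only if G_x = ∅ for all x ∈ X not in U. -/
theorem result {X : TopCat.{u}} (U : Opens X)
    (L : (TopCat.of U).Sheaf (Type u) ⥤ X.Sheaf (Type u)) (adj : L ⊣ U.sheafRestrict (C := Type u)) :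
    L.Full ∧ L.Faithful ∧
    ∀ G : X.Sheaf (Type u), L.essImage G ↔ ∀ x : X, x ∉ U → IsEmpty (G.presheaf.stalk x) := by
  exact ⟨(Groth.L20.ShEmbed.fullyFaithful_left U L adj).1, (Groth.L20.ShEmbed.fullyFaithful_left U L adj).2,
    Groth.L20.ShEmbed.essImage_left_iff U L adj⟩

end Groth.Agent.S7574
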