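import Mathlib.CategoryTheory.Limits.Filtered
import Mathlib.CategoryTheory.Limits.Preserves.Filtered
import Mathlib.CategoryTheory.Limits.Preserves.Basic
import Mathlib.CategoryTheory.Functor.ReflectsIso.Basic
import Mathlib.CategoryTheory.Types.Basic
import Mathlib.CategoryTheory.Limits.Types.Pullbacks
import Mathlib.CategoryTheory.Limits.Shapes.Pullback.IsPullback.Basic
import Mathlib.CategoryTheory.Limits.Preserves.Shapes.Pullbacks
import Mathlib.CategoryTheory.Limits.Preserves.Finite

set_option autoImplicit false
set_option linter.style.haveILetI false
namespace ShSp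
end ShSp
universe u
open CategoryTheory CategoryTheory.Limits
open ShSp

namespace Groth.Agent.S7576

/-- Let (C, F) be a type of algebraic structure, i.e. C is a category with limits and filtered colimits
and F : C → Sets is a faithful functor commuting with both and reflecting isomorphisms. Let f : A →
B and g : C' → B be morphisms of C such that F(g) is injective and the image of F(f) is contained in
the image of F(g). Then f = g ∘ t for some morphism t : A → C'. -/
theorem result {C : Type (u + 1)} [LargeCategory C]
    [HasLimits C] [HasFilteredColimitsOfSize.{u, u} C]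
    (F : C ⥤ Type u) [F.Faithful] [F.ReflectsIsomorphisms] [PreservesLimits F] [PreservesFilteredColimits F]
    {A B C' : C} (f : A ⟶ B) (g : C' ⟶ B) (hg : Function.Injective (F.map g))
    (hfg : Set.range (F.map f) ⊆ Set.range (F.map g)) :
    ∃ t : A ⟶ C', t ≫ g = f := by
  have hpb := (IsPullback.of_hasPullback f g).map F
  have hinj : Function.Injective (F.map (pullback.fst f g)) := by
    intro a b hab
    have h1 : F.map f (F.map (pullback.fst f g) a) = F.map f (F.map (pullback.fst f g) b) := by rw [hab]
    have e := congrArg (fun h => (F.map h) a) (pullback.condition (f := f) (g := g))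
    have e' := congrArg (fun h => (F.map h) b) (pullback.condition (f := f) (g := g))
    simp only [Functor.map_comp, types_comp_apply] at e e'
    have h2 : F.map (pullback.snd f g) a = F.map (pullback.snd f g) b := hg (by rw [← e, h1, e'])
    exact Types.ext_of_isPullback hpb hab h2
  have hsurj : Function.Surjective (F.map (pullback.fst f g)) := by
    intro a
    obtain ⟨c, hc⟩ := hfg ⟨a, rfl⟩
    obtain ⟨x, hx, -⟩ := Types.exists_of_isPullback hpb a c hc.symm
    exact ⟨x, hx⟩
  haveI : IsIso (F.map (pullback.fst f g)) := (isIso_iff_bijective _).2 ⟨hinj, hsurj⟩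
  haveI : IsIso (pullback.fst f g) := isIso_of_reflects_iso _ F
  exact ⟨inv (pullback.fst f g) ≫ pullback.snd f g, by rw [Category.assoc, ← pullback.condition, IsIso.inv_hom_id_assoc]⟩

end Groth.Agent.S7576
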