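import Groth.Statements.S7577
import Groth.Agent.L06.Catenary
import Mathlib.Topology.Sober

set_option autoImplicit false
set_option linter.style.haveILetI false
universe u
open PtTop

namespace Groth.Agent.S7577

open TopologicalSpace in
theorem aux_chain {α : Type*} [PartialOrder α] (ψ : α → ℤ) (hmono : StrictMono ψ)
    (hcov : ∀ a b : α, a ⋖ b → ψ b = ψ a + 1) : ∀ (n : ℕ) (a b : α), a ≤ b → (ψ b - ψ a).toNat = n →
      ∃ s : LTSeries α, s.head = a ∧ s.last = b ∧ s.length = n := by
  intro n
  induction n using Nat.strong_induction_on with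
  | _ n ih =>
    intro a b hab hn
    rcases eq_or_lt_of_le hab with rfl | hlt
    · exact ⟨RelSeries.singleton _ a, RelSeries.head_singleton a, RelSeries.last_singleton a,
        by simp [RelSeries.singleton]; omega⟩
    by_cases hc : a ⋖ b
    · have := hcov a b hc
      exact ⟨(RelSeries.singleton _ a).snoc b (by simpa using hlt), by simp, by simp, by simp; omega⟩
    obtain ⟨c, hac, hcb⟩ : ∃ c, a < c ∧ c < b := by
      by_contra h
      push Not at h
      exact hc ⟨hlt, fun c h1 h2 => h c h1 h2⟩
    have h1 := hmono hac
    have h2 := hmono hcb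
    obtain ⟨s, hs1, hs2, hs3⟩ := ih (ψ c - ψ a).toNat (by omega) a c hac.le rfl
    obtain ⟨t, ht1, ht2, ht3⟩ := ih (ψ b - ψ c).toNat (by omega) c b hcb.le rfl
    exact ⟨RelSeries.smash s t (hs2.trans ht1.symm), by simp [hs1], by simp [ht2],
      by rw [RelSeries.smash_length]; omega⟩

theorem aux_len {α : Type*} [PartialOrder α] (ψ : α → ℤ) (hmono : StrictMono ψ) (s : LTSeries α) :
    (s.length : ℤ) ≤ ψ s.last - ψ s.head := by
  refine RelSeries.inductionOn' (fun s : LTSeries α => (s.length : ℤ) ≤ ψ s.last - ψ s.head)
    (fun x => by simp [RelSeries.singleton, RelSeries.last, RelSeries.head]) (fun p x hx hp => ?_) s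
  have := hmono (show p.last < x from hx)
  simp
  omega

/-- Let X be a sober topological space and δ : X → ℤ a dimension function. Then X is catenary, and for
any specialization x ⤳ y the codimension of the closure of {y} in the closure of {x} equals δ(x) −
δ(y). -/
theorem result {X : Type u} [TopologicalSpace X] [QuasiSober X] [T0Space X]
    (δ : X → ℤ) (hδ : PtTop.IsDimensionFunction δ) :
    PtTop.IsCatenarySpace X ∧
    ∀ x y : X, x ⤳ y →
      PtTop.codim (⟨closure {y}, isIrreducible_singleton.closure, isClosed_closure⟩ : TopologicalSpace.IrreducibleCloseds X)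
        (closure {x}) = ((δ x - δ y).toNat : ℕ∞) := by

  open Groth.L06.Catenary TopologicalSpace in
  let ψ : IrreducibleCloseds X → ℤ := fun Z => δ Z.isIrreducible.genericPoint
  have gspec : ∀ Z : IrreducibleCloseds X, IsGenericPoint Z.isIrreducible.genericPoint (Z : Set X) := fun Z =>
    Z.isIrreducible.isGenericPoint_genericPoint Z.isClosed
  have hmono : StrictMono ψ := fun Z W h => by
    refine hδ.1 _ _ ((gspec W).specializes (h.le (gspec Z).mem)) fun he => h.ne ?_
    refine IrreducibleCloseds.ext ?_
    rw [← (gspec Z).def, ← (gspec W).def, he]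
  have hcov : ∀ Z W : IrreducibleCloseds X, Z ⋖ W → ψ W = ψ Z + 1 := fun Z W h => by
    refine hδ.2 _ _ ⟨(gspec W).specializes (h.1.le (gspec Z).mem), fun he => h.1.ne ?_, fun z h1 h2 => ?_⟩
    · refine IrreducibleCloseds.ext ?_
      rw [← (gspec Z).def, ← (gspec W).def, he]
    · by_contra hne
      push Not at hne
      let C : IrreducibleCloseds X := ⟨closure {z}, isIrreducible_singleton.closure, isClosed_closure⟩
      have hC : IsGenericPoint z (C : Set X) := isGenericPoint_closure
      have hZC : Z ≤ C := SetLike.coe_subset_coe.mp (by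
        rw [← (gspec Z).def]
        exact closure_minimal (Set.singleton_subset_iff.mpr (specializes_iff_mem_closure.mp h2)) isClosed_closure)
      have hCW : C ≤ W := SetLike.coe_subset_coe.mp (by
        rw [← (gspec W).def]
        exact closure_minimal (Set.singleton_subset_iff.mpr (specializes_iff_mem_closure.mp h1)) isClosed_closure)
      refine h.2 (lt_of_le_of_ne hZC fun he => hne.2 ?_) (lt_of_le_of_ne hCW fun he => hne.1 ?_)
      · exact (hC.eq (he ▸ gspec Z))
      · exact (hC.eq (he ▸ gspec W))
  have hcodim : ∀ Z W : IrreducibleCloseds X, Z ≤ W → PtTop.codim Z (W : Set X) = ((ψ W - ψ Z).toNat : ℕ∞) := by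
    intro Z W hZW
    refine le_antisymm (codim_le fun s h1 h2 => ?_) ?_
    · have h := aux_len ψ hmono s
      have h' := hmono.monotone (show s.last ≤ W from h2)
      rw [h1] at h
      exact_mod_cast (show s.length ≤ (ψ W - ψ Z).toNat by omega)
    · obtain ⟨s, hs1, hs2, hs3⟩ := aux_chain ψ hmono hcov _ Z W hZW rfl
      rw [← hs3]
      exact le_codim s hs1 (by rw [hs2])
  refine ⟨fun T T' hTT' => ⟨by rw [hcodim T T' hTT']; exact ENat.coe_ne_top _, fun s h1 h2 hs => ?_⟩, fun x y hxy => ?_⟩
  · rw [hcodim T T' hTT']
    have : ∀ i : Fin (s.length + 1), ψ (s i) = ψ (s 0) + (i : ℕ) := by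
      intro i
      induction i using Fin.induction with
      | zero => simp
      | succ i ih => rw [hcov _ _ (hs i), ih]; simp; omega
    have h := this (Fin.last _)
    rw [show s 0 = T from h1, show s (Fin.last _) = T' from h2] at h
    simp at h
    exact_mod_cast (show s.length = (ψ T' - ψ T).toNat by omega)
  · let Z : IrreducibleCloseds X := ⟨closure {y}, isIrreducible_singleton.closure, isClosed_closure⟩
    let W : IrreducibleCloseds X := ⟨closure {x}, isIrreducible_singleton.closure, isClosed_closure⟩
    have hle : Z ≤ W := SetLike.coe_subset_coe.mp (closure_minimal (Set.singleton_subset_iff.mpr (specializes_iff_mem_closure.mp hxy)) isClosed_closure)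
    have hgen : ∀ z : X, (isIrreducible_singleton (x := z)).closure.genericPoint = z := fun z =>
      ((isIrreducible_singleton (x := z)).closure.isGenericPoint_genericPoint isClosed_closure).eq isGenericPoint_closure
    have h := hcodim Z W hle
    have e1 : ψ W = δ x := congrArg δ (hgen x)
    have e2 : ψ Z = δ y := congrArg δ (hgen y)
    rw [e1, e2] at h
    exact h

end Groth.Agent.S7577
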