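import Groth.Statements.S7578
import Mathlib.Topology.Sober
import Mathlib.Topology.NoetherianSpace
import Mathlib.Topology.LocallyConstant.Basic

set_option autoImplicit false
set_option linter.style.haveILetI false
universe u
open PtTop

namespace Groth.Agent.S7578

/-- Let X be a topological space which is locally Noetherian (every point has a Noetherian
neighbourhood) and sober, and let δ, δ' be two dimension functions on X. Then δ − δ' is locally
constant. -/
theorem result {X : Type u} [TopologicalSpace X] [QuasiSober X] [T0Space X]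
    (hX : ∀ x : X, ∃ E ∈ nhds x, TopologicalSpace.NoetherianSpace E)
    (δ δ' : X → ℤ) (hδ : PtTop.IsDimensionFunction δ) (hδ' : PtTop.IsDimensionFunction δ') :
    IsLocallyConstant (fun x => δ x - δ' x) := by
  have key : ∀ (n : ℕ) (a b : X), a ⤳ b → (δ a - δ b).toNat = n → δ a - δ' a = δ b - δ' b := by
    intro n
    induction n using Nat.strong_induction_on with
    | _ n ih =>
      intro a b hab hn
      by_cases he : a = b
      · rw [he]
      by_cases him : PtTop.IsImmediateSpecialization a b
      · have h1 := hδ.2 a b him; have h2 := hδ'.2 a b him; omega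
      obtain ⟨c, hac, hcb, hca, hcb'⟩ : ∃ c, a ⤳ c ∧ c ⤳ b ∧ c ≠ a ∧ c ≠ b := by
        by_contra h
        push Not at h
        exact him ⟨hab, he, fun z h1 h2 => or_iff_not_imp_left.mpr (h z h1 h2)⟩
      have h1 := hδ.1 a c hac (Ne.symm hca)
      have h2 := hδ.1 c b hcb hcb'
      rw [ih (δ a - δ c).toNat (by omega) a c hac rfl, ih (δ c - δ b).toNat (by omega) c b hcb rfl]
  rw [IsLocallyConstant.iff_exists_open]
  intro x
  obtain ⟨E, hE, hEn⟩ := hX x
  have hxE : x ∈ interior E := mem_interior_iff_mem_nhds.mpr hE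
  set V := interior E with hV
  haveI : TopologicalSpace.NoetherianSpace V := TopologicalSpace.NoetherianSpace.of_subset interior_subset
  set G := ⋃₀ {Z ∈ irreducibleComponents V | (⟨x, hxE⟩ : V) ∉ Z} with hG
  have hGc : IsClosed G := by
    rw [hG, Set.sUnion_eq_biUnion]
    exact (TopologicalSpace.NoetherianSpace.finite_irreducibleComponents.subset fun Z hZ => hZ.1).isClosed_biUnion
      fun Z hZ => isClosed_of_mem_irreducibleComponents Z hZ.1
  refine ⟨Subtype.val '' Gᶜ, isOpen_interior.isOpenEmbedding_subtypeVal.isOpenMap _ hGc.isOpen_compl,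
    ⟨⟨x, hxE⟩, fun ⟨Z, hZ, hxZ⟩ => hZ.2 hxZ, rfl⟩, ?_⟩
  rintro _ ⟨y, hy, rfl⟩
  have hxc : (⟨x, hxE⟩ : V) ∈ irreducibleComponent y := by
    by_contra h
    exact hy ⟨_, ⟨irreducibleComponent_mem_irreducibleComponents y, h⟩, mem_irreducibleComponent⟩
  have hirr := (isIrreducible_irreducibleComponent (x := y)).image _ continuous_subtype_val.continuousOn
  obtain ⟨η, hη⟩ := QuasiSober.sober hirr.closure isClosed_closure
  rw [← key _ η y.1 (hη.specializes (subset_closure ⟨y, mem_irreducibleComponent, rfl⟩)) rfl,
    ← key _ η x (hη.specializes (subset_closure ⟨_, hxc, rfl⟩)) rfl]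

end Groth.Agent.S7578
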