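import Groth.Statements.S7579
import Groth.Agent.L06.Spectral

set_option autoImplicit false
universe u
open SpecSp

namespace Groth.Agent.S7579

/-- Let X be a spectral space. Then X with its constructible topology is Hausdorff and totally
disconnected. The published statement also asserts that the constructible topology is quasi-compact;
this row states the Hausdorff and totally disconnected parts. -/
theorem result (X : Type u) [TopologicalSpace X] [SpectralSpace X] :
    T2Space (WithConstructibleTopology X) ∧ TotallyDisconnectedSpace (WithConstructibleTopology X) := by
  have hc : @Continuous (WithConstructibleTopology X) X _ (constructibleTopology X)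
      WithTopology.ofTopology := WithTopology.continuous_ofTopology _
  refine ⟨⟨fun x y hxy => ?_⟩, ?_⟩
  · obtain ⟨u, v, hu, hv, hx, hy, hd⟩ := @t2_separation X (constructibleTopology X)
      Groth.L06.Spectral.t2Space_cons _ _ (fun h => hxy (WithTopology.ofTopology_injective _ h))
    exact ⟨_, _, @IsOpen.preimage _ _ _ (constructibleTopology X) _ hc _ hu,
      @IsOpen.preimage _ _ _ (constructibleTopology X) _ hc _ hv, hx, hy, hd.preimage _⟩
  · refine ⟨fun t _ ht x hx y hy => WithTopology.ofTopology_injective _ ?_⟩
    exact (@TotallyDisconnectedSpace.isTotallyDisconnected_univ X (constructibleTopology X)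
      Groth.L06.Spectral.totallyDisconnected_cons) _ (Set.subset_univ _)
      (@IsPreconnected.image _ X _ (constructibleTopology X) _ ht _ (@Continuous.continuousOn _ _ _ (constructibleTopology X) _ _ hc))
      (Set.mem_image_of_mem _ hx) (Set.mem_image_of_mem _ hy)

end Groth.Agent.S7579
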