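import Groth.Statements.S7580
import Mathlib.Topology.Separation.Hausdorff
import Mathlib.SetTheory.Cardinal.Basic

set_option autoImplicit false
set_option linter.style.haveILetI false
universe u
open PtTop

namespace Groth.Agent.S7580

/-- Let f : X → Y be a continuous map of topological spaces with f(X) dense in Y and Y Hausdorff. Then
the cardinality of Y is at most that of the double power set of X. -/
theorem result {X Y : Type u} [TopologicalSpace X] [TopologicalSpace Y] [T2Space Y]
    (f : X → Y) (hf : Continuous f) (hd : DenseRange f) :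
    Cardinal.mk Y ≤ (2 : Cardinal.{u}) ^ ((2 : Cardinal.{u}) ^ Cardinal.mk X) := by
  have hinj : Function.Injective (fun y : Y => {A : Set X | y ∈ closure (f '' A)}) := by
    intro y y' h
    by_contra hne
    obtain ⟨V, V', hV, hV', hy, hy', hVV⟩ := t2_separation hne
    have h1 : y ∈ closure (f '' (f ⁻¹' V)) := by
      rw [Set.image_preimage_eq_inter_range]
      exact hd.open_subset_closure_inter hV hy
    have h2 : (f ⁻¹' V) ∈ {A : Set X | y' ∈ closure (f '' A)} := by
      simp only at h
      rw [← h]; exact h1
    obtain ⟨z, hz', hz⟩ := mem_closure_iff.mp h2 V' hV' hy'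
    obtain ⟨x, hx, rfl⟩ := hz
    exact Set.disjoint_left.mp hVV hx hz'
  refine (Cardinal.mk_le_of_injective hinj).trans_eq ?_
  rw [Cardinal.mk_set, Cardinal.mk_set]

end Groth.Agent.S7580
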