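import Groth.Statements.S7581
import Groth.Agent.L06.Catenary

set_option autoImplicit false
set_option linter.style.haveILetI false
universe u
open PtTop

namespace Groth.Agent.S7581

/-- Let X be a topological space. Then X is catenary if and only if for every pair of irreducible closed
subsets Y ⊆ Y' the codimension codim(Y, Y') is finite and for every triple Y ⊆ Y' ⊆ Y'' of
irreducible closed subsets codim(Y, Y'') = codim(Y, Y') + codim(Y', Y''). -/
theorem result (X : Type u) [TopologicalSpace X] :
    PtTop.IsCatenarySpace X ↔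
      (∀ Y Y' : TopologicalSpace.IrreducibleCloseds X, Y ≤ Y' → PtTop.codim Y (Y' : Set X) ≠ ⊤) ∧
      (∀ Y Y' Y'' : TopologicalSpace.IrreducibleCloseds X, Y ≤ Y' → Y' ≤ Y'' →
        PtTop.codim Y (Y'' : Set X) = PtTop.codim Y (Y' : Set X) + PtTop.codim Y' (Y'' : Set X)) := by
  open Groth.L06.Catenary TopologicalSpace in
  constructor
  · intro h
    refine ⟨fun Y Y' hY => (h Y Y' hY).1, fun Y Y' Y'' h1 h2 => ?_⟩
    obtain ⟨s, hs1, hs2, hs3, hs4⟩ := exists_saturated_chain h1 (h Y Y' h1).1
    obtain ⟨t, ht1, ht2, ht3, ht4⟩ := exists_saturated_chain h2 (h Y' Y'' h2).1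
    have hc : s.last = t.head := hs2.trans ht1.symm
    rw [← hs4, ← ht4, ← (h Y Y'' (h1.trans h2)).2 (RelSeries.smash s t hc) (by simp [hs1]) (by simp [ht2])
      (saturated_smash hc hs3 ht3), RelSeries.smash_length]
    push_cast; rfl
  · rintro ⟨hfin, hadd⟩ T T' hTT'
    refine ⟨hfin T T' hTT', fun s h1 h2 hs => ?_⟩
    have key : ∀ i : Fin (s.length + 1), PtTop.codim (s 0) (s i : Set X) = (i : ℕ) := by
      intro i
      induction i using Fin.induction with
      | zero => simpa using codim_self (s 0)
      | succ i ih =>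
        rw [hadd (s 0) (s i.castSucc) (s i.succ) (s.monotone (Fin.zero_le _)) (s.step i).le, ih,
          one_eq_codim_of_covBy (hs i)]
        simp
    have := key (Fin.last _)
    rw [show s 0 = T from h1, show s (Fin.last _) = T' from h2] at this
    simpa using this.symm

end Groth.Agent.S7581
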