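import Groth.Statements.S7583
import Groth.Agent.L06.Sob

set_option autoImplicit false
set_option linter.style.haveILetI false
universe u
open PtTop

namespace Groth.Agent.S7583

/-- Let X be a topological space and c : X → X′ the canonical map to its soberification (X′ =
irreducible closed subsets of X, with opens the sets of those meeting a given open of X). (1)
Quasi-compactness of X passes to X′. (2) When X is quasi-compact, its quasi-compact opens form a
basis, and any two quasi-compact opens meet in a quasi-compact set, the soberification X′ is a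
spectral space. (3) When X is Noetherian, X′ is both spectral and Noetherian. -/
theorem result (X : Type u) [TopologicalSpace X] :
    (CompactSpace X → CompactSpace (PtTop.Sob X)) ∧
    (CompactSpace X → PrespectralSpace X → QuasiSeparatedSpace X → SpectralSpace (PtTop.Sob X)) ∧
    (TopologicalSpace.NoetherianSpace X →
      TopologicalSpace.NoetherianSpace (PtTop.Sob X) ∧ SpectralSpace (PtTop.Sob X)) := by
  refine ⟨fun h => Groth.L06.Sob.compactSpace, fun h1 h2 h3 => Groth.L06.Sob.spectralSpace, fun h => ?_⟩
  haveI : PrespectralSpace X :=
    ⟨TopologicalSpace.isTopologicalBasis_of_isOpen_of_nhds (fun U hU => hU.1)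
      fun a U ha hU => ⟨U, ⟨hU, TopologicalSpace.NoetherianSpace.isCompact U⟩, ha, subset_rfl⟩⟩
  haveI : QuasiSeparatedSpace X :=
    ⟨fun U V _ _ _ _ => TopologicalSpace.NoetherianSpace.isCompact _⟩
  refine ⟨TopologicalSpace.noetherianSpace_iff_opens (α := PtTop.Sob X) |>.mpr fun W => ?_,
    Groth.L06.Sob.spectralSpace⟩
  obtain ⟨U, hU, hW⟩ := Groth.L06.Sob.exists_eq_star W.2
  rw [show (W : Set (PtTop.Sob X)) = _ from hW]
  exact (Groth.L06.Sob.isCompact_star_iff hU).mpr (TopologicalSpace.NoetherianSpace.isCompact U)

end Groth.Agent.S7583
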