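import Groth.Statements.S7584
import Mathlib.Topology.Separation.Hausdorff
import Mathlib.Topology.Connected.Clopen

set_option autoImplicit false
set_option linter.style.haveILetI false
universe u
open PtTop

namespace Groth.Agent.S7584

/-- Let X be a quasi-compact topological space in which each connected component equals the intersection
of all clopen sets that contain it. Then π₀(X), the set of connected components with the quotient
topology, is Hausdorff. The published statement concludes that π₀(X) is profinite; this row records
the Hausdorff property, quasi-compactness and total disconnectedness of the quotient being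
automatic. -/
theorem result (X : Type u) [TopologicalSpace X] [CompactSpace X]
    (h : ∀ x : X, connectedComponent x = ⋂₀ {Z : Set X | IsClopen Z ∧ x ∈ Z}) :
    T2Space (ConnectedComponents X) := by
  constructor
  intro a b hab
  obtain ⟨x, rfl⟩ := ConnectedComponents.surjective_coe a
  obtain ⟨y, rfl⟩ := ConnectedComponents.surjective_coe b
  have hy : y ∉ connectedComponent x := fun hy =>
    hab (ConnectedComponents.coe_eq_coe.mpr (connectedComponent_eq hy))
  rw [h x] at hy
  simp only [Set.mem_sInter, Set.mem_ofPred_eq, not_forall] at hy
  obtain ⟨Z, ⟨hZ, hxZ⟩, hyZ⟩ := hy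
  have hop : ∀ Z : Set X, IsClopen Z → IsOpen (ConnectedComponents.mk '' Z) := fun Z hZ => by
    rw [← ConnectedComponents.isQuotientMap_coe.isOpen_preimage, connectedComponents_preimage_image,
      hZ.biUnion_connectedComponent_eq]
    exact hZ.2
  refine ⟨_, _, hop Z hZ, hop Zᶜ hZ.compl, ⟨x, hxZ, rfl⟩, ⟨y, hyZ, rfl⟩, ?_⟩
  rw [Set.disjoint_left]
  rintro _ ⟨u, hu, rfl⟩ ⟨v, hv, huv⟩
  exact hv (hZ.connectedComponent_subset hu (ConnectedComponents.coe_eq_coe'.mp huv))

end Groth.Agent.S7584
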