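import Groth.Statements.S7586
import Groth.Agent.L14.ShBasis

set_option autoImplicit false
universe u
open ShSp

namespace Groth.Agent.S7586

/-- Let X be a topological space and ℬ a basis for its topology such that for U, U′, U″ ∈ ℬ with U′ ⊆ U
and U″ ⊆ U one has U′ ∩ U″ ∈ ℬ. For each U ∈ ℬ let C(U) be a cofinal system of coverings of U by
members of ℬ, and let F be a presheaf of sets on ℬ. Then F is a sheaf on ℬ if and only if for every
U ∈ ℬ, every covering U = ⋃ U_i in C(U) and every family of sections s_i ∈ F(U_i) with s_i and s_j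
having the same restriction to U_i ∩ U_j, there is a unique s ∈ F(U) restricting to s_i on each U_i. -/
theorem result {X : Type u} [TopologicalSpace X] {B : Set (TopologicalSpace.Opens X)}
    (hB : TopologicalSpace.Opens.IsBasis B)
    (hBi : ∀ U ∈ B, ∀ U' ∈ B, ∀ U'' ∈ B, U' ≤ U → U'' ≤ U → U' ⊓ U'' ∈ B)
    (F : ShB.Pre B)
    (C : ∀ U : B, Set (ShB.Cover B)) (hCU : ∀ U, ∀ c ∈ C U, c.U = U)
    (hC : ∀ (U : B) (ι : Type u) (V : ι → B), (∀ i, (V i : TopologicalSpace.Opens X) ≤ (U : TopologicalSpace.Opens X)) →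
      (U : TopologicalSpace.Opens X) ≤ ⨆ i, (V i : TopologicalSpace.Opens X) →
      ∃ c ∈ C U, ∀ i' : c.ι, ∃ i, (c.V i' : TopologicalSpace.Opens X) ≤ (V i : TopologicalSpace.Opens X)) :
    ShB.IsSheaf F ↔ ∀ (U : B), ∀ c ∈ C U, ∀ s : ∀ i, F.obj (c.V i),
      (∀ i j, F.res (U := c.V i) (V := ⟨(c.V i : TopologicalSpace.Opens X) ⊓ c.V j,
          hBi c.U c.U.2 _ (c.V i).2 _ (c.V j).2 (c.V_le i) (c.V_le j)⟩) inf_le_left (s i) =
        F.res (U := c.V j) (V := ⟨(c.V i : TopologicalSpace.Opens X) ⊓ c.V j,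
          hBi c.U c.U.2 _ (c.V i).2 _ (c.V j).2 (c.V_le i) (c.V_le j)⟩) inf_le_right (s j)) →
      ∃! t : F.obj c.U, ∀ i, F.res (c.V_le i) t = s i := by
  constructor
  · intro h U c hc s hs
    refine h c s fun i j k => ?_
    have h1 := congrArg (F.res (le_inf (c.W_le_left i j k) (c.W_le_right i j k))) (hs i j)
    rw [F.res_comp, F.res_comp] at h1
    exact h1
  · intro h
    refine Groth.L14.ShBasis.isSheaf_of_cofinal hB C hCU hC fun U c hc => ?_
    have hsep : Groth.L14.ShBasis.Separated F := by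
      intro U ι V hV hcov t t' htt
      obtain ⟨c, hc, href⟩ := hC U ι V hV hcov
      obtain rfl := hCU U c hc
      obtain ⟨t₀, -, huniq⟩ := h _ c hc (fun i => F.res (c.V_le i) t) (fun i j => by rw [F.res_comp, F.res_comp])
      rw [huniq t (fun i => rfl), huniq t' (fun i => by
        obtain ⟨j, hj⟩ := href i
        have := congrArg (F.res hj) (htt j)
        rw [F.res_comp, F.res_comp] at this
        exact this.symm)]
    intro s hs
    exact h U c hc s fun i j => Groth.L14.ShBasis.agree hB hsep c s hs i j _ _ _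

end Groth.Agent.S7586
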