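import Groth.Statements.S7589
import Groth.Agent.L22.ProductDim
-- import your own Groth.Agent.* helpers here

set_option autoImplicit false
universe u
open CategoryTheory CategoryTheory.Limits AlgebraicGeometry
attribute [local instance] Curv2.stalkAlgebra Curv2.resAlgebra
open Variety

namespace Groth.Agent.S7589

/-- Let X be locally of finite type over a field k, K an extension field of k, y a point of the base
change X_K and x its image in X; write a = trdeg_k κ(x) and a' = trdeg_K κ(y). Then dim O_{X_K, y} +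
a' = dim O_{X, x} + a, and the fibre ring O_{X_K, y} / m_x O_{X_K, y} has Krull dimension a - a' (in
particular a' ≤ a); dimensions in WithBot ℕ∞. -/
theorem result (k : Type u) [Field k] (X : Scheme.{u}) [X.Over (Spec (CommRingCat.of k))] [LocallyOfFiniteType (X ↘ (Spec (CommRingCat.of k)))]
    (K : Type u) [Field K] [Algebra k K] (y : ↥(Curv2.bc k X K)) (a a' : ℕ)
    (ha : Algebra.trdeg k (X.residueField (Curv2.bcFst k X K y)) = a)
    (ha' : letI : (Curv2.bc k X K).Over (Spec (CommRingCat.of K)) := ⟨Curv2.bcSnd k X K⟩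
      Algebra.trdeg K ((Curv2.bc k X K).residueField y) = a') :
    ringKrullDim ((Curv2.bc k X K).presheaf.stalk y) + (a' : WithBot ℕ∞) =
        ringKrullDim (X.presheaf.stalk (Curv2.bcFst k X K y)) + (a : WithBot ℕ∞) ∧
      ringKrullDim (↥((Curv2.bc k X K).presheaf.stalk y) ⧸ Ideal.map ((Curv2.bcFst k X K).stalkMap y).hom (IsLocalRing.maximalIdeal ↥(X.presheaf.stalk (Curv2.bcFst k X K y)))) + (a' : WithBot ℕ∞) =
        (a : WithBot ℕ∞) := by
  letI : (Curv2.bc k X K).Over (Spec (CommRingCat.of K)) := ⟨Curv2.bcSnd k X K⟩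
  haveI : LocallyOfFiniteType ((Curv2.bc k X K) ↘ Spec (CommRingCat.of K)) :=
    inferInstanceAs (LocallyOfFiniteType (pullback.snd (X ↘ Spec (CommRingCat.of k)) (Spec.map (CommRingCat.ofHom (algebraMap k K)))))
  haveI : IsLocallyNoetherian X := LocallyOfFiniteType.isLocallyNoetherian (X ↘ Spec (CommRingCat.of k))
  haveI : IsLocallyNoetherian (Curv2.bc k X K) := LocallyOfFiniteType.isLocallyNoetherian (Curv2.bc k X K ↘ Spec (CommRingCat.of K))
  obtain ⟨A, B, hA, hB, h⟩ := Groth.L22.SchemeDim.exists_localDim k X (Curv2.bcFst k X K y)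
  obtain ⟨A', B', hA', hB', h'⟩ := Groth.L22.SchemeDim.exists_localDim K (Curv2.bc k X K) y
  have e1 : A = a := by exact_mod_cast hA.symm.trans ha
  have e2 : A' = a' := by exact_mod_cast hA'.symm.trans ha'
  have hbc := Groth.L23.localDim_baseChange_field k K (X ↘ Spec (CommRingCat.of k))
    (CommRingCat.ofHom (algebraMap k K)) (Curv2.bcSnd k X K) (Curv2.bcFst k X K) (IsPullback.of_hasPullback _ _) y
  rw [h', h] at hbc
  have e3 : A' + B' = A + B := by exact_mod_cast hbc
  subst e1 e2
  refine ⟨?_, ?_⟩
  · rw [hB', hB]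
    exact_mod_cast (show B' + A' = B + A by omega)
  · haveI : Flat (Spec.map (CommRingCat.ofHom (algebraMap k K))) := by
      rw [HasRingHomProperty.Spec_iff (P := @Flat)]
      exact RingHom.flat_algebraMap_iff.2 inferInstance
    haveI : Flat (Curv2.bcFst k X K) := inferInstanceAs (Flat (pullback.fst _ _))
    letI := ((Curv2.bcFst k X K).stalkMap y).hom.toAlgebra
    haveI : IsLocalHom (algebraMap (X.presheaf.stalk (Curv2.bcFst k X K y)) ((Curv2.bc k X K).presheaf.stalk y)) :=
      inferInstanceAs (IsLocalHom ((Curv2.bcFst k X K).stalkMap y).hom)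
    haveI : Module.Flat (X.presheaf.stalk (Curv2.bcFst k X K y)) ((Curv2.bc k X K).presheaf.stalk y) :=
      Flat.stalkMap (Curv2.bcFst k X K) y
    have hF := Groth.L06.FlatFibre.ringKrullDim_eq (X.presheaf.stalk (Curv2.bcFst k X K y)) ((Curv2.bc k X K).presheaf.stalk y)
    rw [hB', hB] at hF
    generalize hc : ringKrullDim (EGA4.FibRing (X.presheaf.stalk (Curv2.bcFst k X K y)) ((Curv2.bc k X K).presheaf.stalk y)) = c at hF
    induction c using WithBot.recBotCoe with
    | bot => rw [WithBot.add_bot] at hF; exact absurd hF (WithBot.natCast_ne_bot B')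
    | coe c => ?_
    induction c using ENat.recTopCoe with
    | top =>
      exfalso
      have h3 : (B' : ℕ∞) = (B : ℕ∞) + ⊤ := by exact_mod_cast hF
      rw [add_top] at h3
      exact ENat.coe_ne_top B' h3
    | coe c => ?_
    show ((c : ℕ) : WithBot ℕ∞) + (A' : WithBot ℕ∞) = A
    have e4 : B' = B + c := by exact_mod_cast hF
    exact_mod_cast (show c + A' = A by omega)

end Groth.Agent.S7589
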