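
import Groth.Statements.S7591
import Groth.Agent.L22.GeomConn.Irred

set_option autoImplicit false
universe u
open CategoryTheory CategoryTheory.Limits AlgebraicGeometry
open Variety

namespace Groth.Agent.S7591

/-- For a scheme X over a field k, geometric connectedness of X over k holds exactly when, for each
finite separable extension field k' of k, the base change X_{k'} is a connected (so nonempty)
scheme. -/
theorem result (k : Type u) [Field k] (X : Scheme.{u}) [X.Over (Spec (CommRingCat.of k))] :
    GeometricallyConnected (X ↘ (Spec (CommRingCat.of k))) ↔
      ∀ (k' : Type u) [Field k'] [Algebra k k'] [FiniteDimensional k k'] [Algebra.IsSeparable k k'],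
        ConnectedSpace ↥(Curv2.bc k X k') := by
  constructor
  · intro hg k' _ _ _ _
    exact AlgebraicGeometry.geometrically_iff_of_isClosedUnderIsomorphisms.mp
      hg.geometrically_connectedSpace k' _
  · intro h
    let K₀ := SeparableClosure k
    haveI : ConnectedSpace ↥(FBase.bc (X ↘ Spec (CommRingCat.of k)) K₀) :=
      Groth.L22.GeomConn.Sys.connectedSpace (Groth.L22.GeomConn.sys (X ↘ Spec (CommRingCat.of k)) K₀) fun L => by
        haveI := L.2
        haveI : Algebra.IsSeparable k L.1 := Algebra.isSeparable_tower_bot_of_isSeparable k L.1 K₀
        exact h L.1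
    exact Groth.L22.GeomConn.geometricallyConnected_of_sepClosed _ K₀

end Groth.Agent.S7591
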