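
import Groth.Statements.S7592
import Groth.Agent.L22.GeomConn.Irred

set_option autoImplicit false
universe u
open CategoryTheory CategoryTheory.Limits AlgebraicGeometry
open Variety

namespace Groth.Agent.S7592

/-- Let K be a (possibly infinite) Galois extension of a field k and f : T → X a morphism of schemes
over k. If the base change T_K is connected and X_K is not connected, then X is not connected. -/
theorem result (k : Type u) [Field k] (K : Type u) [Field K] [Algebra k K] [IsGalois k K]
    (T X : Scheme.{u}) [T.Over (Spec (CommRingCat.of k))] [X.Over (Spec (CommRingCat.of k))]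
    (f : T ⟶ X) [f.IsOver (Spec (CommRingCat.of k))]
    [ConnectedSpace ↥(Curv2.bc k T K)] (hX : ¬ ConnectedSpace ↥(Curv2.bc k X K)) :
    ¬ ConnectedSpace ↥X := by
  intro hXc
  haveI := hXc
  refine hX ?_
  let m := Limits.pullback.map (T ↘ Spec (CommRingCat.of k)) (Spec.map (CommRingCat.ofHom (algebraMap k K)))
    (X ↘ Spec (CommRingCat.of k)) (Spec.map (CommRingCat.ofHom (algebraMap k K))) f (𝟙 _) (𝟙 _)
    (by rw [Category.comp_id, comp_over]) (by rw [Category.comp_id, Category.id_comp])
  obtain ⟨t'⟩ := (inferInstance : Nonempty ↥(Curv2.bc k T K))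
  have h := Groth.L22.GeomConn.isConnected_preimage_of_fibre (X ↘ Spec (CommRingCat.of k)) K
    (f (Curv2.bcFst k T K t')) (Set.range m)
    (_root_.isPreconnected_range m.continuous) (fun z hz => (Scheme.Pullback.range_map _ _ _ _ _ _ _ _ _).symm.subset
      ⟨⟨_, (show FBase.bcπ (X ↘ Spec (CommRingCat.of k)) K z = _ from hz).symm⟩,
        ⟨(FBase.bcStr (X ↘ Spec (CommRingCat.of k)) K).base z, rfl⟩⟩)
  rw [PreconnectedSpace.connectedComponent_eq_univ, Set.preimage_univ] at h
  exact connectedSpace_iff_univ.2 h

end Groth.Agent.S7592
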