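
import Groth.Statements.S7593
import Groth.Agent.L22.GeomConn.Galois

set_option autoImplicit false
universe u
open CategoryTheory CategoryTheory.Limits AlgebraicGeometry
open Variety

namespace Groth.Agent.S7593

/-- Let k̄ be a separable algebraic closure of a field k, X a scheme over k and t a point of X_{k̄} with
image x in X. The connected component of t is mapped onto itself by the action of every
k-automorphism of k̄ if and only if it equals the full inverse image of the connected component T of
x in X and T is geometrically connected over k (the inverse image of T in X_K is connected for every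
extension field K of k). -/
theorem result (k : Type u) [Field k] (X : Scheme.{u}) [X.Over (Spec (CommRingCat.of k))] (t : ↥(Curv2.bc k X (SeparableClosure k))) :
    (∀ σ : SeparableClosure k ≃ₐ[k] SeparableClosure k,
        (Curv2.galAct k X (SeparableClosure k) σ).base '' connectedComponent t = connectedComponent t) ↔
      ((Curv2.bcFst k X (SeparableClosure k)).base ⁻¹' connectedComponent (Curv2.bcFst k X (SeparableClosure k) t) = connectedComponent t ∧
        ∀ (K : Type u) [Field K] [Algebra k K],
          _root_.IsConnected ((Curv2.bcFst k X K).base ⁻¹' connectedComponent (Curv2.bcFst k X (SeparableClosure k) t))) := by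
  set p := Curv2.bcFst k X (SeparableClosure k) with hp
  have hpσ : ∀ σ : SeparableClosure k ≃ₐ[k] SeparableClosure k, ∀ z,
      p ((Curv2.galAct k X (SeparableClosure k) σ).base z) = p z := fun σ z => by
    have e : Curv2.galAct k X (SeparableClosure k) σ ≫ p = p :=
      by
      rw [hp]; unfold Curv2.galAct Curv2.bcFst
      exact (Limits.pullback.lift_fst _ _ _).trans (Category.comp_id _)
    exact congrArg (fun m : Curv2.bc k X (SeparableClosure k) ⟶ X => m.base z) e
  constructor
  · intro hinv
    have hC : p.base ⁻¹' connectedComponent (p t) = connectedComponent t := by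
      refine subset_antisymm (fun w hw => ?_) (Set.image_subset_iff.1 (p.continuous.image_connectedComponent_subset t))
      obtain ⟨v, hv, hvw⟩ := (Groth.L22.GeomConn.image_component_algebraic (X ↘ Spec (CommRingCat.of k))
        (SeparableClosure k) t).symm.subset hw
      obtain ⟨σ, rfl⟩ := Groth.L22.GeomConn.exists_galAct_eq X v w hvw
      exact (hinv σ).subset ⟨v, hv, rfl⟩
    refine ⟨hC, fun K _ _ => ?_⟩
    let f := X ↘ Spec (CommRingCat.of k)
    let j : SeparableClosure k →ₐ[k] AlgebraicClosure K := IsAlgClosed.lift
    letI := j.toRingHom.toAlgebra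
    haveI : IsScalarTower k (SeparableClosure k) (AlgebraicClosure K) := .of_algebraMap_eq fun x => (j.commutes x).symm
    have := Groth.L22.GeomConn.geometricallyConnected_bcMap f (SeparableClosure k) (AlgebraicClosure K)
    have h0 : _root_.IsConnected (FBase.bcπ f (SeparableClosure k) ⁻¹' connectedComponent (p t)) :=
      hC.symm ▸ isConnected_connectedComponent
    have h' := ((Groth.L22.GeomConn.bcMap f (SeparableClosure k) (AlgebraicClosure K)).isConnected_preimage
      (Scheme.Hom.isOpenMap _) h0 (isClosed_connectedComponent.preimage (FBase.bcπ f _).continuous)).image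
      (Groth.L22.GeomConn.bcMap f K (AlgebraicClosure K)) (Scheme.Hom.continuous _).continuousOn
    refine Eq.subst (motive := fun s : Set ↥(FBase.bc f K) => _root_.IsConnected s) ?_ h'
    symm
    refine (Set.ext fun z => ⟨fun hz => ?_, ?_⟩)
    · obtain ⟨z', rfl⟩ := (Groth.L22.GeomConn.bcMap f K (AlgebraicClosure K)).surjective z
      refine ⟨z', ?_, rfl⟩
      show FBase.bcπ f _ _ ∈ connectedComponent (p t)
      rw [Groth.L22.GeomConn.bcMap_π_apply, ← Groth.L22.GeomConn.bcMap_π_apply f K (AlgebraicClosure K)]
      exact hz
    · rintro ⟨z', hz', rfl⟩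
      show FBase.bcπ f K _ ∈ connectedComponent (p t)
      rw [Groth.L22.GeomConn.bcMap_π_apply, ← Groth.L22.GeomConn.bcMap_π_apply f (SeparableClosure k) (AlgebraicClosure K)]
      exact hz'
  · rintro ⟨hC, -⟩ σ
    have : IsIso (Curv2.galAct k X (SeparableClosure k) σ) := by
      have : IsIso (CommRingCat.ofHom (σ : SeparableClosure k →ₐ[k] SeparableClosure k).toRingHom) :=
        (σ.toRingEquiv.toCommRingCatIso).isIso_hom
      unfold Curv2.galAct
      infer_instance
    rw [← hC]
    have e : (Curv2.galAct k X (SeparableClosure k) σ).base ⁻¹' (p.base ⁻¹' connectedComponent (p t)) =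
        p.base ⁻¹' connectedComponent (p t) := by
      ext z
      simp only [Set.mem_preimage]
      rw [hpσ]
    conv_lhs => rw [← e]
    exact Set.image_preimage_eq _ (Curv2.galAct k X (SeparableClosure k) σ).surjective

end Groth.Agent.S7593
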