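
import Groth.Statements.S7594
import Groth.Agent.L22.GeomConn.Crit
import Groth.Agent.L22.FibreDim

set_option autoImplicit false
universe u
open CategoryTheory CategoryTheory.Limits AlgebraicGeometry
open Variety

namespace Groth.Agent.S7594

/-- A scheme X over a field k is geometrically irreducible over k precisely when the fibre product X ×_k
X of X with itself is an irreducible scheme. -/
theorem result (k : Type u) [Field k] (X : Scheme.{u}) [X.Over (Spec (CommRingCat.of k))] :
    GeometricallyIrreducible (X ↘ (Spec (CommRingCat.of k))) ↔ IrreducibleSpace ↥(pullback (X ↘ (Spec (CommRingCat.of k))) (X ↘ (Spec (CommRingCat.of k)))) := by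
  let f := X ↘ Spec (CommRingCat.of k)
  constructor
  · intro hg
    haveI : IrreducibleSpace X := GeometricallyIrreducible.irreducibleSpace_of_subsingleton (f := f)
    infer_instance
  · intro h
    haveI : IrreducibleSpace ↥(Limits.pullback f f) := h
    haveI : IrreducibleSpace X := by
      refine Function.Surjective.irreducibleSpace (f := Limits.pullback.fst f f) (Scheme.Hom.continuous _) fun x => ?_
      obtain ⟨z, hz, -⟩ := Scheme.Pullback.exists_preimage_pullback (f := f) (g := f) x x rfl
      exact ⟨z, hz⟩
    letI := Curv2.resAlgebra k X (genericPoint X)
    have hψ : Spec.map (CommRingCat.ofHom (algebraMap k (X.residueField (genericPoint X)))) =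
        X.fromSpecResidueField (genericPoint X) ≫ f := Groth.L22.FibreDim.SpecMap_resMap k X (genericPoint X)
    exact Groth.L22.GeomConn.geometricallyIrreducible_of_separable_elements f hψ
      fun a ha => Groth.L22.GeomConn.separable_elements_of_irreducible_prod f hψ a ha

end Groth.Agent.S7594
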