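import Groth.Statements.S7596
import Groth.Agent.L22.FibreDim
-- import your own Groth.Agent.* helpers here

set_option autoImplicit false
universe u
open CategoryTheory CategoryTheory.Limits AlgebraicGeometry
open Variety

namespace Groth.Agent.S7596

/-- Let X be an irreducible scheme over a field k whose k-rational points (points x at which k → κ(x) is
onto) form a dense subset. Then X is geometrically irreducible over k. -/
theorem result (k : Type u) [Field k] (X : Scheme.{u}) [X.Over (Spec (CommRingCat.of k))] [IrreducibleSpace ↥X]
    (hd : Dense {x : ↥X | Function.Surjective (Curv2.resMap k X x)}) :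
    GeometricallyIrreducible (X ↘ (Spec (CommRingCat.of k))) := by
  refine ⟨geometrically_iff_of_isClosedUnderIsomorphisms.mpr fun K _ y => ?_⟩
  let str := X ↘ (Spec (CommRingCat.of k))
  let p := pullback.fst str y
  have : UniversallyOpen y := inferInstance
  have : Surjective y := ⟨fun z => ⟨IsLocalRing.closedPoint K, Subsingleton.elim _ _⟩⟩
  have hsur : Function.Surjective p := (inferInstance : Surjective p).1
  have hop : IsOpenMap p := (inferInstance : UniversallyOpen p) |> fun _ => p.isOpenMap
  have hsub : ∀ x : ↥X, Function.Surjective (Curv2.resMap k X x) →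
      (p ⁻¹' {x}).Subsingleton := by
    intro x hx
    let r := CommRingCat.ofHom (Curv2.resMap k X x)
    have hr : IsIso r := (ConcreteCategory.isIso_iff_bijective r).mpr
      ⟨(Curv2.resMap k X x).injective, hx⟩
    let σ : Spec (CommRingCat.of k) ⟶ X := Spec.map (inv r) ≫ X.fromSpecResidueField x
    have hσ : σ ≫ str = 𝟙 _ := by
      simp only [σ, str, Category.assoc, ← Groth.L22.FibreDim.SpecMap_resMap]
      rw [← Spec.map_comp, IsIso.hom_inv_id, Spec.map_id]
    have hσr : Set.range σ = {x} := by
      simp only [σ, Scheme.Hom.comp_base, TopCat.coe_comp, Set.range_comp]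
      have : Set.range (Spec.map (inv r)) = Set.univ :=
        Set.range_eq_univ.mpr (Spec.map (inv r)).homeomorph.surjective
      rw [this, Set.image_univ]
      exact X.range_fromSpecResidueField x
    have hsq : IsPullback (pullback.snd σ p ≫ pullback.snd str y) (pullback.fst σ p) y (σ ≫ str) :=
      (IsPullback.of_hasPullback σ p).flip.paste_horiz (IsPullback.of_hasPullback str y).flip
    have hiso : IsIso (σ ≫ str) := by rw [hσ]; infer_instance
    have hiso2 : IsIso (pullback.snd σ p ≫ pullback.snd str y) := hsq.isIso_fst_of_isIso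
    have hss : Subsingleton ↥(pullback σ p) :=
      (pullback.snd σ p ≫ pullback.snd str y).homeomorph.subsingleton
    have hr2 : Set.range (pullback.snd σ p) = p ⁻¹' {x} := by
      rw [Scheme.Pullback.range_snd, hσr]
    rw [← hr2]
    exact Set.subsingleton_range _
  have hne : Nonempty ↥(pullback str y) := by
    obtain ⟨x⟩ : Nonempty ↥X := inferInstance
    exact ⟨(hsur x).choose⟩
  refine { toPreirreducibleSpace := ⟨?_⟩, toNonempty := hne }
  intro U V hU hV hUne hVne
  simp only [Set.univ_inter] at hUne hVne ⊢
  have h1 := nonempty_preirreducible_inter (hop U hU) (hop V hV) (hUne.image p) (hVne.image p)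
  obtain ⟨x, ⟨⟨a, ha, hax⟩, ⟨b, hb, hbx⟩⟩, hx⟩ :=
    hd.inter_open_nonempty _ ((hop U hU).inter (hop V hV)) h1
  exact ⟨a, ha, (hsub x hx hax hbx) ▸ hb⟩

end Groth.Agent.S7596
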