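import Groth.Statements.S7597
import Groth.Agent.L22.GeomConn.Galois
import Groth.Agent.L22.GeomConn.Irred

set_option autoImplicit false
universe u
open CategoryTheory CategoryTheory.Limits AlgebraicGeometry
open Variety

namespace Groth.Agent.S7597

/-- Let k̄ be a separable algebraic closure of a field k, X a scheme over k and Z an irreducible
component of X_{k̄}. Then Z is mapped onto itself by the action of every k-automorphism of k̄ if and
only if Z is the full inverse image of some irreducible component T of X which is geometrically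
irreducible over k (the inverse image of T in X_K is irreducible for every extension field K of k). -/
theorem result (k : Type u) [Field k] (X : Scheme.{u}) [X.Over (Spec (CommRingCat.of k))]
    (Z : Set ↥(Curv2.bc k X (SeparableClosure k))) (hZ : Z ∈ irreducibleComponents ↥(Curv2.bc k X (SeparableClosure k))) :
    (∀ σ : SeparableClosure k ≃ₐ[k] SeparableClosure k, (Curv2.galAct k X (SeparableClosure k) σ).base '' Z = Z) ↔
      ∃ T ∈ irreducibleComponents ↥X, (Curv2.bcFst k X (SeparableClosure k)).base ⁻¹' T = Z ∧
        ∀ (K : Type u) [Field K] [Algebra k K], IsIrreducible ((Curv2.bcFst k X K).base ⁻¹' T) := by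
  classical
  let f := X ↘ Spec (CommRingCat.of k)
  let Ks := SeparableClosure k
  let π := FBase.bcπ f Ks
  constructor
  · intro hinv
    have hξ := Groth.L22.GeomConn.isMaxPt_genericPoint Z hZ
    set ξ := hZ.1.genericPoint with hξdef
    have hclZ : closure ({ξ} : Set _) = Z :=
      hZ.1.isGenericPoint_genericPoint (isClosed_of_mem_irreducibleComponents _ hZ)
    have hη : Groth.L22.GeomConn.IsMaxPt (π ξ) := hξ.map π
    let T : Set ↥X := closure {π ξ}
    have hpre : π ⁻¹' T = Z := by
      refine subset_antisymm (fun z hz => ?_) ?_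
      · obtain ⟨w, hw, hwe⟩ := Flat.generalizingMap π (specializes_iff_mem_closure.2 hz)
        obtain ⟨t, ht, htw⟩ := Groth.L22.GeomConn.exists_isMaxPt_specializes w
        have hte : π t = π ξ := hη _ (hwe ▸ htw.map π.continuous)
        obtain ⟨σ, hσ⟩ := Groth.L22.GeomConn.exists_galAct_eq X ξ t hte.symm
        have htZ : t ∈ Z := by
          rw [← hinv σ]
          exact ⟨ξ, hclZ.subset (subset_closure rfl), hσ⟩
        exact (htw.trans hw).mem_closed (isClosed_of_mem_irreducibleComponents _ hZ) htZ
      · rw [← hclZ]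
        exact closure_minimal (Set.singleton_subset_iff.2 (subset_closure (Set.mem_singleton (π ξ))))
          (isClosed_closure.preimage π.continuous)
    refine ⟨T, Groth.L22.GeomConn.closure_mem_irreducibleComponents hη, hpre, fun K _ _ => ?_⟩
    have key := Groth.L22.GeomConn.isIrreducible_preimage_tower f k Ks K (FBase.bcπ f k ⁻¹' T) (by
      have e : Groth.L22.GeomConn.bcMap f k Ks ⁻¹' (FBase.bcπ f k ⁻¹' T) = π ⁻¹' T := by
        ext z
        simp only [Set.mem_preimage, Groth.L22.GeomConn.bcMap_π_apply, π]
      rw [e, hpre]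
      exact hZ.1)
    have e : Groth.L22.GeomConn.bcMap f k K ⁻¹' (FBase.bcπ f k ⁻¹' T) = FBase.bcπ f K ⁻¹' T := by
      ext z
      simp only [Set.mem_preimage, Groth.L22.GeomConn.bcMap_π_apply]
    rw [e] at key
    exact key
  · rintro ⟨T, hT, hTZ, -⟩ σ
    have hfst : ∀ (τ : Ks ≃ₐ[k] Ks) (a : ↥(Curv2.bc k X Ks)),
        Curv2.bcFst k X Ks ((Curv2.galAct k X Ks τ).base a) = Curv2.bcFst k X Ks a := fun τ a => by
      have h : Curv2.galAct k X Ks τ ≫ Curv2.bcFst k X Ks = Curv2.bcFst k X Ks :=
        (pullback.lift_fst _ _ _).trans (Category.comp_id _)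
      exact congrArg (fun m => m.base a) h
    have hsurj : ∀ b, ∃ a, (Curv2.galAct k X Ks σ).base a = b := fun b => by
      refine ⟨(Curv2.galAct k X Ks σ.symm).base b, ?_⟩
      have h : Curv2.galAct k X Ks σ.symm ≫ Curv2.galAct k X Ks σ = 𝟙 _ := by
        apply pullback.hom_ext
        · simp only [Curv2.galAct, Category.assoc, Category.id_comp, pullback.lift_fst, pullback.lift_fst_assoc, Category.comp_id]
        · simp only [Curv2.galAct, Category.assoc, Category.id_comp, pullback.lift_snd]
          rw [pullback.lift_snd_assoc, Category.assoc, ← Spec.map_comp]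
          rw [show CommRingCat.ofHom (σ : Ks →ₐ[k] Ks).toRingHom ≫ CommRingCat.ofHom (σ.symm : Ks →ₐ[k] Ks).toRingHom = 𝟙 _
            from CommRingCat.hom_ext (RingHom.ext fun x => σ.symm_apply_apply x), Spec.map_id, Category.comp_id]
      exact congrArg (fun m => m.base b) h
    rw [← hTZ]
    refine subset_antisymm ?_ fun b hb => ?_
    · rintro _ ⟨a, ha, rfl⟩
      show Curv2.bcFst k X Ks _ ∈ T
      rw [hfst]; exact ha
    · obtain ⟨a, rfl⟩ := hsurj b
      exact ⟨a, by show Curv2.bcFst k X Ks a ∈ T; rw [← hfst σ]; exact hb, rfl⟩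
end Groth.Agent.S7597
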