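import Groth.Statements.S7598
import Groth.Agent.L22.GeomConn.Galois
import Groth.Agent.L24.Galois.Morphism
-- import your own Groth.Agent.* helpers here

set_option autoImplicit false
universe u
open CategoryTheory CategoryTheory.Limits AlgebraicGeometry
open Variety

namespace Groth.Agent.S7598

/-- Let k̄ be a separable algebraic closure of a field k and X a scheme over k. Two irreducible
components Z', Z'' of X_{k̄} have the same image in X if and only if Z'' is the image of Z' under
the action of some k-automorphism of k̄ on X_{k̄} (the fibres of the map on irreducible components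
are the Galois orbits). -/
theorem result (k : Type u) [Field k] (X : Scheme.{u}) [X.Over (Spec (CommRingCat.of k))]
    (Z' Z'' : Set ↥(Curv2.bc k X (SeparableClosure k))) (hZ' : Z' ∈ irreducibleComponents ↥(Curv2.bc k X (SeparableClosure k)))
    (hZ'' : Z'' ∈ irreducibleComponents ↥(Curv2.bc k X (SeparableClosure k))) :
    (Curv2.bcFst k X (SeparableClosure k)).base '' Z' = (Curv2.bcFst k X (SeparableClosure k)).base '' Z'' ↔
      ∃ σ : SeparableClosure k ≃ₐ[k] SeparableClosure k, (Curv2.galAct k X (SeparableClosure k) σ).base '' Z' = Z'' := by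
  let K := SeparableClosure k
  let p := Curv2.bcFst k X K
  have hfst : ∀ (σ : K ≃ₐ[k] K) (a : ↥(Curv2.bc k X K)), p ((Curv2.galAct k X K σ) a) = p a := fun σ a =>
    congrArg (fun m => m.base a) (Groth.L24.Galois.galAct_fst X σ)
  haveI : IsIntegralHom (Spec.map (CommRingCat.ofHom (algebraMap k K))) := by
    rw [IsIntegralHom.SpecMap_iff]
    exact algebraMap_isIntegral_iff.2 inferInstance
  haveI : IsIntegralHom p := inferInstanceAs (IsIntegralHom (pullback.fst _ _))
  have hinv : ∀ (σ : K ≃ₐ[k] K), Curv2.galAct k X K σ ≫ Curv2.galAct k X K σ.symm = 𝟙 _ := fun σ => by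
    apply pullback.hom_ext
    · rw [Category.assoc, Category.id_comp]
      exact (congrArg (Curv2.galAct k X K σ ≫ ·) (Groth.L24.Galois.galAct_fst X σ.symm)).trans (Groth.L24.Galois.galAct_fst X σ)
    · rw [Category.id_comp, Category.assoc]
      have h1 : ∀ τ : K ≃ₐ[k] K, Curv2.galAct k X K τ ≫ pullback.snd _ _ =
          Curv2.bcSnd k X K ≫ Spec.map (CommRingCat.ofHom (τ : K →ₐ[k] K).toRingHom) := fun τ => pullback.lift_snd _ _ _
      rw [h1 σ.symm, ← Category.assoc]
      refine (congrArg (· ≫ _) (h1 σ)).trans ?_
      rw [Category.assoc, ← Spec.map_comp]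
      convert Category.comp_id _ using 2
      rw [← Spec.map_id]
      congr 1
      ext x
      exact congrArg Subtype.val (σ.apply_symm_apply x)
  constructor
  · intro h
    obtain ⟨a, ha⟩ := QuasiSober.sober hZ'.1 (isClosed_of_mem_irreducibleComponents _ hZ')
    obtain ⟨b, hb⟩ := QuasiSober.sober hZ''.1 (isClosed_of_mem_irreducibleComponents _ hZ'')
    have himg : ∀ (c : ↥(Curv2.bc k X K)), p.base '' closure {c} = closure {p c} := fun c => by
      refine Set.Subset.antisymm ?_ (closure_minimal (Set.singleton_subset_iff.2 ⟨c, subset_closure rfl, rfl⟩)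
        (p.isClosedMap _ isClosed_closure))
      rw [← Set.image_singleton]
      exact image_closure_subset_closure_image p.continuous
    rw [← ha.def, ← hb.def, himg, himg] at h
    have hab : p a = p b := ((specializes_iff_mem_closure.2 (h.ge (subset_closure rfl))).antisymm
      (specializes_iff_mem_closure.2 (h.le (subset_closure rfl)))).eq
    obtain ⟨σ, hσ⟩ := Groth.L22.GeomConn.exists_galAct_eq X a b hab
    refine ⟨σ, ?_⟩
    rw [← ha.def, ← hb.def, ← hσ]
    refine Set.Subset.antisymm ?_ fun c hc => ⟨Curv2.galAct k X K σ.symm c, ?_, ?_⟩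
    · rw [← Set.image_singleton]
      exact image_closure_subset_closure_image (Curv2.galAct k X K σ).continuous
    · have := (specializes_iff_mem_closure.2 hc).map (Curv2.galAct k X K σ.symm).continuous
      rw [show (Curv2.galAct k X K σ.symm) ((Curv2.galAct k X K σ) a) = a from congrArg (fun m => m.base a) (hinv σ)] at this
      exact this.mem_closure
    · have := hinv σ.symm
      rw [AlgEquiv.symm_symm] at this
      exact congrArg (fun m => m.base c) this
  · rintro ⟨σ, rfl⟩
    rw [Set.image_image]
    exact (Set.image_congr fun a _ => hfst σ a).symm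

end Groth.Agent.S7598
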