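import Groth.Statements.S7600
import Groth.Agent.L07.FieldCharts

set_option autoImplicit false
set_option maxSynthPendingDepth 3
set_option synthInstance.maxHeartbeats 400000
set_option backward.isDefEq.respectTransparency false
set_option backward.isDefEq.respectTransparency.types false
open scoped TensorProduct
set_option linter.style.haveILetI false
universe u
open CategoryTheory CategoryTheory.Limits AlgebraicGeometry
open Variety

namespace Groth.Agent.S7600

/-- (2) ⇒ (1): let X be a scheme over a field k, k' an extension field of k and x' a point of X_{k'}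
with image x in X. If X_{k'} is geometrically normal at x' over k' (for every extension field k'' of
k' and every point x'' of (X_{k'})_{k''} over x' the local ring at x'' is an integrally closed
domain), then X is geometrically normal at x over k. -/
theorem result (k : Type u) [Field k] (X : Scheme.{u}) [X.Over (Spec (CommRingCat.of k))] (k' : Type u) [Field k'] [Algebra k k'] (x' : ↥(Curv2.bc k X k'))
    (h : letI : (Curv2.bc k X k').Over (Spec (CommRingCat.of k')) := ⟨Curv2.bcSnd k X k'⟩
      ∀ (k'' : Type u) [Field k''] [Algebra k' k''] (x'' : ↥(Curv2.bc k' (Curv2.bc k X k') k'')), Curv2.bcFst k' (Curv2.bc k X k') k'' x'' = x' →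
          IsDomain ↥((Curv2.bc k' (Curv2.bc k X k') k'').presheaf.stalk x'') ∧ IsIntegrallyClosed ↥((Curv2.bc k' (Curv2.bc k X k') k'').presheaf.stalk x'')) :
    ∀ (K : Type u) [Field K] [Algebra k K] (y : ↥(Curv2.bc k X K)), Curv2.bcFst k X K y = (Curv2.bcFst k X k' x') →
          IsDomain ↥((Curv2.bc k X K).presheaf.stalk y) ∧ IsIntegrallyClosed ↥((Curv2.bc k X K).presheaf.stalk y) := by
  intro K _ _ y hy
  letI : (Curv2.bc k X k').Over (Spec (CommRingCat.of k')) := ⟨Curv2.bcSnd k X k'⟩
  let f := X ↘ Spec (CommRingCat.of k)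
  obtain ⟨C, _, _, i, q, hi, hq, w⟩ := Groth.L07.FieldCharts.exists_affine_chart f (Curv2.bcFst k X k' x')
  obtain ⟨c, hc, hc1, hc2, hcr⟩ := Groth.L07.FieldCharts.exists_bc_chart k X i w k'
  obtain ⟨P', hP'⟩ : x' ∈ Set.range c.base := by rw [hcr]; exact ⟨q, hq⟩
  subst hP'
  have hq' : P'.asIdeal.comap (Algebra.TensorProduct.includeRight : C →ₐ[k] k' ⊗[k] C).toRingHom = q.asIdeal := by
    have h1 : i.base q = (c ≫ pullback.fst _ _).base P' := hq
    rw [hc1] at h1
    exact congrArg PrimeSpectrum.asIdeal (i.isOpenEmbedding.injective h1).symm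
  have hG' : Groth.L07.GeomNormalAt.GeomNormAt k' P'.asIdeal := by
    intro L _ _ _ Q hQp hQ
    obtain ⟨d, hd, hd1, -, -⟩ := Groth.L07.FieldCharts.exists_prod_chart
      (Curv2.bcSnd k X k') (Spec.map (CommRingCat.ofHom (algebraMap k' L))) c (𝟙 _) hc2.symm (Category.id_comp _).symm
    refine Groth.L07.FieldCharts.normal_localization d ⟨Q, hQp⟩ (h L _ ?_)
    have h1 := congrArg (fun φ : Spec (CommRingCat.of ((k' ⊗[k] C) ⊗[k'] L)) ⟶ Curv2.bc k X k' =>
      φ ⟨Q, hQp⟩) hd1
    exact h1.trans (congrArg c.base (PrimeSpectrum.ext hQ))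
  have hG : Groth.L07.GeomNormalAt.GeomNormAt k q.asIdeal := by
    have h2 := Groth.L07.GeomNormalAt.geomNormAt_descend (R₀ := k) (R := k') (C₀ := C) P'.asIdeal hG'
    rwa [hq'] at h2
  obtain ⟨d, hd, hd1, -, hdr⟩ := Groth.L07.FieldCharts.exists_prod_chart
    f (Spec.map (CommRingCat.ofHom (algebraMap k K))) i (𝟙 _) w (Category.id_comp _).symm
  obtain ⟨Q, rfl⟩ : y ∈ Set.range d.base := by
    rw [hdr]
    exact ⟨⟨q, hq.trans hy.symm⟩, ⟨_, rfl⟩⟩
  refine Groth.L07.FieldCharts.normal_stalk d Q (hG K ?_ Q.asIdeal ?_)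
  · rw [(RingHom.injective_iff_ker_eq_bot _).mp (algebraMap k K).injective]
    exact ((Ideal.eq_bot_or_top (q.asIdeal.comap (algebraMap k C))).resolve_right
      (Ideal.comap_ne_top _ q.2.ne_top)).symm
  · have h1 : i.base q = (d ≫ pullback.fst _ _).base Q := hq.trans hy.symm
    rw [hd1] at h1
    exact congrArg PrimeSpectrum.asIdeal (i.isOpenEmbedding.injective h1).symm

end Groth.Agent.S7600
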