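import Groth.Statements.S7601
import Groth.Agent.L07.FieldCharts
import Groth.Agent.S9413

set_option autoImplicit false
set_option maxSynthPendingDepth 3
set_option backward.isDefEq.respectTransparency false
set_option backward.isDefEq.respectTransparency.types false
open scoped TensorProduct
set_option linter.style.haveILetI false
universe u
open CategoryTheory CategoryTheory.Limits AlgebraicGeometry
open Variety

namespace Groth.Agent.S7601

/-- Let X be a geometrically normal scheme over a field k (X_K is a normal scheme for every extension
field K of k) and Y a normal scheme over k. Then X ×_k Y is a normal scheme. -/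
theorem result (k : Type u) [Field k] (X : Scheme.{u}) [X.Over (Spec (CommRingCat.of k))] (Y : Scheme.{u}) [Y.Over (Spec (CommRingCat.of k))]
    (hX : ∀ (K : Type u) [Field K] [Algebra k K], Pi1.IsNormalScheme (Curv2.bc k X K)) (hY : Pi1.IsNormalScheme Y) :
    Pi1.IsNormalScheme (pullback (X ↘ (Spec (CommRingCat.of k))) (Y ↘ (Spec (CommRingCat.of k)))) := by
  refine Groth.L07.FieldCharts.isNormalScheme_pullback _ _ fun C B _ _ _ _ i i' _ _ wC wB => ?_
  exact Groth.Agent.S9413.result k C B
    (fun K _ _ _ => Groth.L07.FieldCharts.normalRing_of_bc k X i wC K (hX K))
    (Groth.L07.FieldCharts.normalRing_of_normalScheme hY i')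

end Groth.Agent.S7601
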