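import Groth.Statements.S7603
import Groth.Agent.L16.SecComp.Smooth
import Mathlib.AlgebraicGeometry.Geometrically.Connected
import Mathlib.AlgebraicGeometry.Geometrically.Irreducible
-- import your own Groth.Agent.* helpers here

set_option autoImplicit false
universe u
open CategoryTheory CategoryTheory.Limits AlgebraicGeometry
open Variety

namespace Groth.Agent.S7603

/-- (2) ⇔ (3): let X be a proper scheme over a field k which is geometrically normal (X_K is a normal
scheme for every extension field K of k). Then X is geometrically connected over k exactly when it
is geometrically irreducible over k. (The published statement lists geometric integrality as a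
further equivalent condition; given geometric normality it is equivalent to geometric irreducibility
by a direct argument, so this row omits it.) -/
theorem result (k : Type u) [Field k] (X : Scheme.{u}) [X.Over (Spec (CommRingCat.of k))] [IsProper (X ↘ (Spec (CommRingCat.of k)))]
    (hX : ∀ (K : Type u) [Field K] [Algebra k K], Pi1.IsNormalScheme (Curv2.bc k X K)) :
    GeometricallyConnected (X ↘ (Spec (CommRingCat.of k))) ↔ GeometricallyIrreducible (X ↘ (Spec (CommRingCat.of k))) := by
  constructor
  · intro h
    refine ⟨fun K _ t Z g q sq => ?_⟩
    haveI : ConnectedSpace Z := h.geometrically_connectedSpace _ _ _ sq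
    haveI : LocallyOfFiniteType q := MorphismProperty.of_isPullback (P := @LocallyOfFiniteType) sq inferInstance
    haveI : IsLocallyNoetherian Z := LocallyOfFiniteType.isLocallyNoetherian q
    obtain ⟨ψ, rfl⟩ := Spec.map_surjective t
    letI : Algebra k K := ψ.hom.toAlgebra
    have hd : ∀ z : Z, IsDomain (Z.presheaf.stalk z) := fun z => by
      haveI := (hX K (sq.isoPullback.hom z)).1
      exact MulEquiv.isDomain _ (asIso (sq.isoPullback.hom.stalkMap z)).commRingCatIsoToRingEquiv.symm.toMulEquiv
    obtain ⟨z⟩ := (inferInstance : Nonempty Z)
    have := Groth.L16.SecComp.isIrreducible_connectedComponent hd z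
    rw [PreconnectedSpace.connectedComponent_eq_univ z] at this
    exact irreducibleSpace_def Z |>.2 this
  · intro h
    refine ⟨fun K _ t Z g q sq => ?_⟩
    haveI : IrreducibleSpace Z := h.geometrically_irreducibleSpace _ _ _ sq
    infer_instance


end Groth.Agent.S7603
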