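import Groth.Statements.S7604
import Groth.Agent.L07.FieldStalk
import Groth.Agent.S9634
import Mathlib.RingTheory.LocalProperties.Reduced
import Mathlib.LinearAlgebra.TensorProduct.Basis

set_option autoImplicit false
set_option maxSynthPendingDepth 3
set_option synthInstance.maxHeartbeats 400000
set_option backward.isDefEq.respectTransparency false
set_option backward.isDefEq.respectTransparency.types false
set_option linter.style.haveILetI false
universe u
open CategoryTheory CategoryTheory.Limits AlgebraicGeometry
open Variety

open scoped TensorProduct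
attribute [local instance] Curv2.stalkAlgebra
namespace Groth.Agent.S7604

/-- Let X and Y be schemes over a field k with Y reduced, and let x be a point of X at which X is
geometrically reduced. Then each point of X ×_k Y mapping to x has a reduced local ring. -/
theorem result (k : Type u) [Field k] (X : Scheme.{u}) [X.Over (Spec (CommRingCat.of k))] (Y : Scheme.{u}) [Y.Over (Spec (CommRingCat.of k))] [IsReduced Y]
    (x : ↥X) (hx : Curv2.IsGeomReducedAt k X x) (z : ↥(pullback (X ↘ (Spec (CommRingCat.of k))) (Y ↘ (Spec (CommRingCat.of k)))))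
    (hz : pullback.fst (X ↘ (Spec (CommRingCat.of k))) (Y ↘ (Spec (CommRingCat.of k))) z = x) :
    _root_.IsReduced ↥((pullback (X ↘ (Spec (CommRingCat.of k))) (Y ↘ (Spec (CommRingCat.of k)))).presheaf.stalk z) := by
  let g := Y ↘ Spec (CommRingCat.of k)
  let f := X ↘ Spec (CommRingCat.of k)
  obtain ⟨B, _, _, i', q, hi', hq, wB⟩ := Groth.L07.FieldCharts.exists_affine_chart g (pullback.snd f g z)
  let O := X.presheaf.stalk x
  have h0 : ∀ (k' : Type u) [Field k'] [Algebra k k'] [Module.Finite k k'] [IsPurelyInseparable k k'],
      _root_.IsReduced (k' ⊗[k] O) := by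
    intro k' _ _ _ _
    haveI : Algebra.IsIntegral k k' := Algebra.IsIntegral.of_finite k k'
    refine isReduced_ofLocalizationMaximal (k' ⊗[k] O) fun M hM => ?_
    obtain ⟨z', hz', ⟨e⟩⟩ := Groth.L07.FieldStalk.exists_point_of_prime k X x k' ⟨M, hM.isPrime⟩
      (Groth.L07.FieldStalk.comap_eq_of_isMaximal k k' M)
    haveI := hx k' z' hz'
    exact isReduced_of_injective e.toRingHom e.injective
  have hK : ∀ (K : Type u) [Field K] [Algebra k K], _root_.IsReduced (K ⊗[k] O) :=
    (List.TFAE.out (Groth.Agent.S9634.result (k := k) (S := O)) 0 2 rfl rfl).mp h0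
  haveI : IsReduced (Spec (CommRingCat.of B)) := isReduced_of_isOpenImmersion i'
  haveI : _root_.IsReduced B := (affine_isReduced_iff (CommRingCat.of B)).mp inferInstance
  haveI hBO : _root_.IsReduced (B ⊗[k] O) := by
    refine ⟨fun w hw => ?_⟩
    let b := Module.Free.chooseBasis k O
    let bB := b.baseChange B
    refine bB.repr.injective (Finsupp.ext fun j => ?_)
    rw [map_zero, Finsupp.zero_apply]
    refine IsNilpotent.eq_zero (nilpotent_iff_mem_prime.mpr fun p hp => ?_)
    haveI := hp
    haveI := hK p.ResidueField
    let φ := Algebra.TensorProduct.map (IsScalarTower.toAlgHom k B p.ResidueField) (AlgHom.id k O)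
    have h1 : φ w = 0 := IsNilpotent.eq_zero (hw.map φ)
    have h2 : ∀ v, (b.baseChange p.ResidueField).repr (φ v) j = algebraMap B p.ResidueField (bB.repr v j) := by
      intro v
      induction v using TensorProduct.induction_on with
      | zero => simp
      | add v₁ v₂ e₁ e₂ => simp [map_add, e₁, e₂]
      | tmul c o => simp [bB, φ, Algebra.smul_def, IsScalarTower.algebraMap_apply k B p.ResidueField]
    have h3 := h2 w
    rw [h1, map_zero, Finsupp.zero_apply] at h3
    exact Ideal.algebraMap_residueField_eq_zero.mp h3.symm
  let gB := Spec.map (CommRingCat.ofHom (algebraMap k B))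
  let μ : pullback f gB ⟶ pullback f g :=
    pullback.map f gB f g (𝟙 X) i' (𝟙 _) (by simp) (by rw [Category.comp_id]; exact wB)
  haveI : IsOpenImmersion μ := inferInstance
  obtain ⟨z', rfl⟩ : z ∈ Set.range μ := by
    rw [Scheme.Pullback.range_map]
    exact ⟨⟨_, rfl⟩, ⟨q, hq⟩⟩
  have hz' : (pullback.fst f gB) z' = x := by
    rw [← hz]
    show _ = (μ ≫ pullback.fst f g) z'
    rw [pullback.lift_fst, Category.comp_id]
  obtain ⟨Q, -, ⟨e⟩⟩ := Groth.L07.FieldStalk.exists_point_over k X x B z' hz'
  haveI : _root_.IsReduced (Localization.AtPrime Q.asIdeal) := inferInstance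
  haveI : _root_.IsReduced ((pullback f gB).presheaf.stalk z') :=
    isReduced_of_injective e.symm.toRingHom e.symm.injective
  exact isReduced_of_injective (asIso (μ.stalkMap z')).commRingCatIsoToRingEquiv.toRingHom
    (asIso (μ.stalkMap z')).commRingCatIsoToRingEquiv.injective

end Groth.Agent.S7604
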