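import Groth.Statements.S7605
import Groth.Agent.L07.FieldCharts
import Groth.Agent.L19.FlatComp
import Mathlib.FieldTheory.IntermediateField.Adjoin.Algebra
import Mathlib.RingTheory.RingHom.EssFiniteType

set_option autoImplicit false
set_option maxSynthPendingDepth 3
set_option synthInstance.maxHeartbeats 400000
set_option backward.isDefEq.respectTransparency false
set_option backward.isDefEq.respectTransparency.types false
open scoped TensorProduct
set_option linter.style.haveILetI false
universe u
open CategoryTheory CategoryTheory.Limits AlgebraicGeometry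
open Variety

namespace Groth.Agent.S7605

/-- For a scheme X over a field k and a finitely generated field extension k' of k, local Noetherianity
of X is equivalent to local Noetherianity of its base change X_{k'}. -/
theorem result (k : Type u) [Field k] (X : Scheme.{u}) [X.Over (Spec (CommRingCat.of k))] (k' : Type u) [Field k'] [Algebra k k']
    (hfg : (⊤ : IntermediateField k k').FG) :
    IsLocallyNoetherian X ↔ IsLocallyNoetherian (Curv2.bc k X k') := by
  haveI : Algebra.EssFiniteType k k' := IntermediateField.fg_top_iff.mp hfg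
  have ring_of : ∀ {Z : Scheme.{u}} {R : Type u} [CommRing R] (c : Spec (CommRingCat.of R) ⟶ Z) [IsOpenImmersion c],
      IsLocallyNoetherian Z → IsNoetherianRing R := by
    intro Z R _ c _ hZ
    haveI := hZ
    haveI : IsLocallyNoetherian (Spec (CommRingCat.of R)) := isLocallyNoetherian_of_isOpenImmersion c
    haveI : IsNoetherianRing Γ(Spec (CommRingCat.of R), ⊤) :=
      IsLocallyNoetherian.component_noetherian ⟨⊤, isAffineOpen_top _⟩
    exact isNoetherianRing_of_ringEquiv _ (Scheme.ΓSpecIso (CommRingCat.of R)).commRingCatIsoToRingEquiv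
  have of_rings : ∀ {Z : Scheme.{u}}, (∀ z : Z, ∃ (R : Type u) (_ : CommRing R) (c : Spec (CommRingCat.of R) ⟶ Z),
      IsOpenImmersion c ∧ z ∈ Set.range c.base ∧ IsNoetherianRing R) → IsLocallyNoetherian Z := by
    intro Z hZ
    choose R hR c hc hz hN using hZ
    refine isLocallyNoetherian_of_affine_cover
      (S := fun z : Z => (⟨(c z).opensRange, isAffineOpen_opensRange (c z)⟩ : Z.affineOpens)) ?_ fun z => ?_
    · exact eq_top_iff.mpr fun z _ => TopologicalSpace.Opens.mem_iSup.mpr ⟨z, hz z⟩
    · haveI := hN z
      haveI : IsNoetherianRing Γ(Spec (CommRingCat.of (R z)), ⊤) :=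
        isNoetherianRing_of_ringEquiv _ (Scheme.ΓSpecIso (CommRingCat.of (R z))).commRingCatIsoToRingEquiv.symm
      exact isNoetherianRing_of_ringEquiv _ (IsOpenImmersion.ΓIsoTop (c z)).commRingCatIsoToRingEquiv
  constructor
  · intro hX
    refine of_rings fun z => ?_
    obtain ⟨C, _, _, i, q, hi, hq, w⟩ := Groth.L07.FieldCharts.exists_affine_chart (X ↘ Spec (CommRingCat.of k))
      (Curv2.bcFst k X k' z)
    obtain ⟨c, hc, -, -, hr⟩ := Groth.L07.FieldCharts.exists_bc_chart k X i w k'
    haveI : IsNoetherianRing C := ring_of i hX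
    haveI : Algebra.EssFiniteType C (C ⊗[k] k') := inferInstance
    haveI : IsNoetherianRing (C ⊗[k] k') := Algebra.EssFiniteType.isNoetherianRing C _
    exact ⟨k' ⊗[k] C, inferInstance, c, hc, by rw [hr]; exact ⟨q, hq⟩,
      isNoetherianRing_of_ringEquiv _ (Algebra.TensorProduct.comm k C k').toRingEquiv⟩
  · intro hX
    refine of_rings fun x => ?_
    obtain ⟨C, _, _, i, q, hi, hq, w⟩ := Groth.L07.FieldCharts.exists_affine_chart (X ↘ Spec (CommRingCat.of k)) x
    obtain ⟨c, hc, -, -, -⟩ := Groth.L07.FieldCharts.exists_bc_chart k X i w k'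
    haveI : IsNoetherianRing (C ⊗[k] k') := by
      haveI := ring_of c hX
      exact isNoetherianRing_of_ringEquiv _ (Algebra.TensorProduct.comm k k' C).toRingEquiv
    haveI : Nontrivial k' := inferInstance
    haveI : Module.Free k k' := Module.Free.of_divisionRing k k'
    haveI : Module.FaithfullyFlat k k' :=
      Module.FaithfullyFlat.of_linearEquiv _ _ (Module.Free.chooseBasis k k').repr
    haveI : Module.FaithfullyFlat C (C ⊗[k] k') :=
      inferInstance
    exact ⟨C, inferInstance, i, hi, ⟨q, hq⟩,
      Groth.L19.isNoetherianRing_of_faithfullyFlat C (C ⊗[k] k')⟩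

end Groth.Agent.S7605
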