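import Groth.Statements.S7607
import Groth.Agent.L07.FieldCharts
import Groth.Agent.S0565
import Groth.Agent.L19.FlatComp
import Mathlib.RingTheory.RingHom.Flat
import Mathlib.FieldTheory.IntermediateField.Adjoin.Algebra

set_option autoImplicit false
set_option maxSynthPendingDepth 3
set_option synthInstance.maxHeartbeats 400000
set_option maxHeartbeats 800000
set_option backward.isDefEq.respectTransparency false
set_option backward.isDefEq.respectTransparency.types false
set_option linter.style.haveILetI false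
universe u
open CategoryTheory CategoryTheory.Limits AlgebraicGeometry
open Variety

open scoped TensorProduct
namespace Groth.Agent.S7607

/-- (2) ⇒ (1): let X be a scheme over a field k, k' a finitely generated field extension of k and x' a
point of X_{k'} with image x in X. If X_{k'} is geometrically regular at x' over k', then X is
geometrically regular at x over k. (The published setting defines geometric regularity only for
locally Noetherian schemes; this row allows any scheme X over k.) -/
theorem result (k : Type u) [Field k] (X : Scheme.{u}) [X.Over (Spec (CommRingCat.of k))] (k' : Type u) [Field k'] [Algebra k k'] (hfg : (⊤ : IntermediateField k k').FG)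
    (x' : ↥(Curv2.bc k X k'))
    (h : @Curv2.IsGeomRegularAt k' _ (Curv2.bc k X k') ⟨Curv2.bcSnd k X k'⟩ x') :
    Curv2.IsGeomRegularAt k X (Curv2.bcFst k X k' x') := by
  intro K _ _ hK y hy
  letI : (Curv2.bc k X k').Over (Spec (CommRingCat.of k')) := ⟨Curv2.bcSnd k X k'⟩
  obtain ⟨C, _, _, i, q, hi, hq, w⟩ :=
    Groth.L07.FieldCharts.exists_affine_chart (X ↘ Spec (CommRingCat.of k)) (Curv2.bcFst k X k' x')
  obtain ⟨c, hc, hc1, hc2, hcr⟩ := Groth.L07.FieldCharts.exists_bc_chart k X i w k'
  obtain ⟨P', hP'⟩ : x' ∈ Set.range c.base := by rw [hcr]; exact ⟨q, hq⟩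
  subst hP'
  obtain ⟨d, hd, hd1, -, hdr⟩ := Groth.L07.FieldCharts.exists_bc_chart k X i w K
  obtain ⟨Q, rfl⟩ : y ∈ Set.range d.base := by rw [hdr]; exact ⟨q, hq.trans hy.symm⟩
  have hq1 : P'.asIdeal.comap (Algebra.TensorProduct.includeRight : C →ₐ[k] k' ⊗[k] C).toRingHom = q.asIdeal := by
    have h1 : i.base q = (c ≫ pullback.fst _ _).base P' := hq
    rw [hc1] at h1
    exact congrArg PrimeSpectrum.asIdeal (i.isOpenEmbedding.injective h1).symm
  have hq2 : Q.asIdeal.comap (Algebra.TensorProduct.includeRight : C →ₐ[k] K ⊗[k] C).toRingHom = q.asIdeal := by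
    have h1 : i.base q = (d ≫ pullback.fst _ _).base Q := hq.trans hy.symm
    rw [hd1] at h1
    exact congrArg PrimeSpectrum.asIdeal (i.isOpenEmbedding.injective h1).symm
  haveI := P'.2
  haveI := Q.2
  obtain ⟨M, _, a, b, hab, hka, hkb⟩ := Groth.L07.FlatGeomReduced.exists_common_field
    (Algebra.TensorProduct.includeRight : C →ₐ[k] k' ⊗[k] C).toRingHom
    (Algebra.TensorProduct.includeRight : C →ₐ[k] K ⊗[k] C).toRingHom P'.asIdeal Q.asIdeal (hq1.trans hq2.symm)
  letI : Algebra k M := (a.comp (algebraMap k (k' ⊗[k] C))).toAlgebra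
  have hbk : ∀ r : k, b (algebraMap k K r ⊗ₜ[k] (1 : C)) = algebraMap k M r := fun r => by
    show _ = a (algebraMap k k' r ⊗ₜ[k] (1 : C))
    rw [Algebra.algebraMap_eq_smul_one, Algebra.algebraMap_eq_smul_one, TensorProduct.smul_tmul,
      TensorProduct.smul_tmul]
    exact (RingHom.congr_fun hab (r • (1 : C))).symm
  let ak : k' →ₐ[k] M := { a.comp Algebra.TensorProduct.includeLeftRingHom with commutes' := fun _ => rfl }
  let bK : K →ₐ[k] M := { b.comp Algebra.TensorProduct.includeLeftRingHom with commutes' := hbk }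
  have hrange : ∀ {L : Type u} [Field L] [Algebra k L] (φ : L →ₐ[k] M), (⊤ : IntermediateField k L).FG →
      φ.fieldRange.FG := fun φ h => by
    classical
    obtain ⟨s, hs⟩ := h
    exact ⟨s.image φ, by rw [AlgHom.fieldRange_eq_map, ← hs, IntermediateField.adjoin_map, Finset.coe_image]⟩
  let F : IntermediateField k M := ak.fieldRange ⊔ bK.fieldRange
  haveI hF : Algebra.EssFiniteType k F :=
    IntermediateField.essFiniteType_iff.mpr (IntermediateField.fg_sup (hrange ak hfg) (hrange bK hK))
  let jk : k' →ₐ[k] F := ak.codRestrict F.toSubalgebra fun t => (le_sup_left : ak.fieldRange ≤ F) ⟨t, rfl⟩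
  let jK : K →ₐ[k] F := bK.codRestrict F.toSubalgebra fun t => (le_sup_right : bK.fieldRange ≤ F) ⟨t, rfl⟩
  letI : Algebra k' F := jk.toRingHom.toAlgebra
  haveI : IsScalarTower k k' F := IsScalarTower.of_algebraMap_eq fun r => (jk.commutes r).symm
  haveI : Algebra.EssFiniteType k' F := Algebra.EssFiniteType.of_comp k k' F
  letI : Algebra k' M := ak.toRingHom.toAlgebra
  let Fv : F →ₐ[k'] M := { (F.val : F →ₐ[k] M).toRingHom with commutes' := fun _ => rfl }
  let aA : k' ⊗[k] C →ₐ[k'] M := { a with commutes' := fun _ => rfl }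
  let χ : F ⊗[k'] (k' ⊗[k] C) →ₐ[k'] M := Algebra.TensorProduct.lift Fv aA fun _ _ => Commute.all _ _
  let Q'' : Ideal (F ⊗[k'] (k' ⊗[k] C)) := RingHom.ker χ.toRingHom
  haveI : Q''.IsPrime := RingHom.ker_isPrime _
  obtain ⟨d', hd', hd'1, -, -⟩ :=
    Groth.L07.FieldCharts.exists_bc_chart k' (Curv2.bc k X k') c hc2.symm F
  have hreg : IsRegularLocalRing (Localization.AtPrime Q'') := by
    haveI := h F (IntermediateField.fg_top k' F) (d' ⟨Q'', inferInstance⟩) (by
      rw [← Scheme.Hom.comp_apply]
      refine (congrArg (fun φ : Spec (CommRingCat.of (F ⊗[k'] (k' ⊗[k] C))) ⟶ Curv2.bc k X k' =>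
        φ ⟨Q'', inferInstance⟩) hd'1).trans (congrArg c.base (PrimeSpectrum.ext ?_))
      show Ideal.comap _ Q'' = P'.asIdeal
      rw [← hka]
      ext t
      simp [Q'', χ, aA])
    exact IsRegularLocalRing.of_ringEquiv (((asIso (d'.stalkMap ⟨Q'', inferInstance⟩)).commRingCatIsoToRingEquiv).trans
      (Spec.stalkIso (CommRingCat.of (F ⊗[k'] (k' ⊗[k] C))) ⟨Q'', inferInstance⟩).commRingCatIsoToRingEquiv)
  let σ := Algebra.TensorProduct.cancelBaseChange k k' k' F C
  let ψ : K ⊗[k] C →+* F ⊗[k'] (k' ⊗[k] C) :=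
    σ.symm.toRingEquiv.toRingHom.comp (Algebra.TensorProduct.map jK (AlgHom.id k C)).toRingHom
  have hψ : ψ.Flat := (RingHom.Flat.tensorProductMap (S := k) (f := jK) (g := AlgHom.id k C)
    (by
      letI := jK.toRingHom.toAlgebra
      exact (inferInstance : Module.Flat K F)) (RingHom.Flat.id C)).comp
    (RingHom.Flat.of_bijective σ.symm.toRingEquiv.bijective)
  have hQ : Q.asIdeal = Q''.comap ψ := by
    rw [← hkb, RingHom.comap_ker]
    congr 1
    refine RingHom.ext fun z => ?_
    induction z using TensorProduct.induction_on with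
    | zero => simp
    | add p₁ p₂ hp₁ hp₂ => simp only [map_add, hp₁, hp₂]
    | tmul s e =>
      show b (s ⊗ₜ e) = χ (σ.symm (jK s ⊗ₜ e))
      rw [Algebra.TensorProduct.cancelBaseChange_symm_tmul, Algebra.TensorProduct.lift_tmul]
      show b (s ⊗ₜ e) = b (s ⊗ₜ 1) * a (1 ⊗ₜ e)
      rw [show a ((1 : k') ⊗ₜ[k] e) = b (1 ⊗ₜ e) from RingHom.congr_fun hab e, ← map_mul]
      simp
  letI : Algebra (Localization.AtPrime Q.asIdeal) (Localization.AtPrime Q'') :=
    (Localization.localRingHom Q.asIdeal Q'' ψ hQ).toAlgebra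
  haveI : IsLocalHom (algebraMap (Localization.AtPrime Q.asIdeal) (Localization.AtPrime Q'')) :=
    Localization.isLocalHom_localRingHom _ _ _ _
  haveI : Module.Flat (Localization.AtPrime Q.asIdeal) (Localization.AtPrime Q'') :=
    RingHom.Flat.localRingHom hψ _ Q.asIdeal hQ
  haveI := hreg
  haveI : Module.FaithfullyFlat (Localization.AtPrime Q.asIdeal) (Localization.AtPrime Q'') :=
    Module.FaithfullyFlat.of_flat_of_isLocalHom
  haveI : IsNoetherianRing (Localization.AtPrime Q.asIdeal) :=
    Groth.L19.isNoetherianRing_of_faithfullyFlat _ (Localization.AtPrime Q'')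
  haveI := Groth.Agent.S0565.result (Localization.AtPrime Q.asIdeal) (Localization.AtPrime Q'')
  exact IsRegularLocalRing.of_ringEquiv
    (((asIso (d.stalkMap Q)).commRingCatIsoToRingEquiv).trans
      (Spec.stalkIso (CommRingCat.of (K ⊗[k] C)) Q).commRingCatIsoToRingEquiv).symm

end Groth.Agent.S7607
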