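import Groth.Prelude.Def_Coh
import Groth.Prelude.Def_Pic
import Groth.Prelude.Def_CohB1
import Groth.Prelude.Def_Curv2
import Mathlib.AlgebraicGeometry.Morphisms.Proper
import Mathlib.Topology.KrullDimension
import Mathlib.LinearAlgebra.Dimension.Finrank
import Groth.Prelude.Def_CAlg
import Mathlib.AlgebraicGeometry.Noetherian
import Mathlib.FieldTheory.IntermediateField.Adjoin.Defs
import Groth.Agent.L02.CMMor.BaseChange

set_option autoImplicit false
namespace Variety
end Variety
universe u
open CategoryTheory CategoryTheory.Limits AlgebraicGeometry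
open Variety

namespace Groth.Agent.S7608

/-- Let X be a locally Noetherian scheme over a field k, k' a finitely generated field extension of k
and x' a point of X_{k'} with image x in X. Then the local ring O_{X, x} is Cohen-Macaulay if and
only if O_{X_{k'}, x'} is Cohen-Macaulay. -/
theorem result (k : Type u) [Field k] (X : Scheme.{u}) [X.Over (Spec (CommRingCat.of k))] [IsLocallyNoetherian X] (k' : Type u) [Field k'] [Algebra k k']
    (hfg : (⊤ : IntermediateField k k').FG) (x' : ↥(Curv2.bc k X k')) :
    LocCoh.IsCohenMacaulayLocalRing ↥(X.presheaf.stalk (Curv2.bcFst k X k' x')) ↔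
      LocCoh.IsCohenMacaulayLocalRing ↥((Curv2.bc k X k').presheaf.stalk x') := by
  have hfg' : ∃ s : Finset k', IntermediateField.adjoin k (s : Set k') = ⊤ := hfg
  have sq := IsPullback.of_hasPullback (X ↘ Spec (CommRingCat.of k))
    (Spec.map (CommRingCat.ofHom (algebraMap k k')))
  haveI := Groth.L21.GorensteinBaseChange.isLocallyNoetherian_of_fg hfg' _ sq
  refine (L02.CMMor.cm_iff_of_isPullback _ sq (fun w => ?_) x').symm
  letI := (Spec.preimage (X.fromSpecResidueField w ≫ (X ↘ Spec (CommRingCat.of k)))).hom.toAlgebra
  exact L02.CMMor.cm_tensor_field k (X.residueField w) k' (Or.inr hfg')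

end Groth.Agent.S7608
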