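import Groth.Statements.S7611
import Groth.Agent.L22.FibreDim
import Mathlib.RingTheory.Algebraic.LinearIndependent
import Mathlib.RingTheory.Spectrum.Prime.Jacobson

set_option autoImplicit false
set_option linter.style.haveILetI false
universe u
open CategoryTheory CategoryTheory.Limits AlgebraicGeometry
attribute [local instance] Curv2.resAlgebra
open Variety

namespace Groth.Agent.S7611

section

open Cardinal

theorem algebraic_of_span {K L : Type u} [Field K] [Field L] [Algebra K L] {μ : Cardinal.{u}}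
    (s : Set L) (hs : Submodule.span K s = ⊤) (hμ : Cardinal.mk s ≤ μ) (hK : μ < Cardinal.mk K) :
    Algebra.IsAlgebraic K L := by
  refine ⟨fun x => ?_⟩
  by_contra hx
  have h1 := (Transcendental.linearIndependent_sub_inv (F := K) hx).cardinal_le_rank
  have h2 : Module.rank K L ≤ μ := by
    rw [← rank_top K L, ← hs]
    exact (rank_span_le s).trans hμ
  exact absurd ((h1.trans h2)) (not_le.2 hK)

theorem span_image_eq_top {K A B : Type u} [CommRing K] [CommRing A] [CommRing B] [Algebra K A]
    [Algebra K B] (f : A →ₐ[K] B) (hf : Function.Surjective f) (s : Set A)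
    (hs : Submodule.span K s = ⊤) : Submodule.span K (f.toLinearMap '' s) = ⊤ := by
  rw [Submodule.span_image, hs, Submodule.map_top, LinearMap.range_eq_top]
  exact hf

theorem isJacobsonRing_of_span {K A : Type u} [Field K] [CommRing A] [Algebra K A]
    {μ : Cardinal.{u}} (s : Set A) (hs : Submodule.span K s = ⊤) (hμ : Cardinal.mk s ≤ μ)
    (hω : ℵ₀ ≤ μ) (hK : μ < Cardinal.mk K) : IsJacobsonRing A := by
  refine isJacobsonRing_iff_prime_eq.2 fun P hP => le_antisymm (fun x hx => ?_) Ideal.le_jacobson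
  by_contra hxP
  let Ax := Localization.Away x
  have hdisj : Disjoint (Submonoid.powers x : Set A) (P : Set A) := by
    rw [Set.disjoint_left]
    rintro _ ⟨n, rfl⟩ hn
    exact hxP (hP.mem_of_pow_mem n hn)
  have hP' : (P.map (algebraMap A Ax)).IsPrime :=
    IsLocalization.isPrime_of_isPrime_disjoint (Submonoid.powers x) Ax P hP hdisj
  obtain ⟨M, hM, hPM⟩ := Ideal.exists_le_maximal _ hP'.ne_top
  let one_div : ℕ → Ax := fun n =>
    IsLocalization.mk' Ax (1 : A) (⟨x ^ n, n, rfl⟩ : Submonoid.powers x)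
  let t : Set Ax := Set.range fun p : s × ULift.{u} ℕ => algebraMap A Ax p.1 * one_div p.2.down
  have ht : Submodule.span K t = ⊤ := by
    rw [eq_top_iff]
    intro z _
    obtain ⟨a, ⟨_, n, rfl⟩, rfl⟩ := IsLocalization.exists_mk'_eq (Submonoid.powers x) z
    let ℓ : A →ₗ[K] Ax :=
      (LinearMap.mulRight K (one_div n)) ∘ₗ (IsScalarTower.toAlgHom K A Ax).toLinearMap
    have ha : a ∈ Submodule.span K s := hs ▸ Submodule.mem_top
    have : IsLocalization.mk' Ax a (⟨x ^ n, n, rfl⟩ : Submonoid.powers x) = ℓ a :=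
      IsLocalization.mk'_eq_mul_mk'_one a _
    rw [show (_ : Ax) = ℓ a from this]
    refine Submodule.span_mono (R := K) (s := ℓ '' s) ?_ ?_
    · rintro _ ⟨b, hb, rfl⟩
      exact ⟨(⟨b, hb⟩, ⟨n⟩), rfl⟩
    · rw [Submodule.span_image]
      exact ⟨a, ha, rfl⟩
  have htμ : Cardinal.mk t ≤ μ := Cardinal.mk_range_le.trans <| by
    rw [Cardinal.mk_prod, Cardinal.lift_id, Cardinal.lift_id]
    refine le_trans (mul_le_mul' hμ ?_) (Cardinal.mul_eq_self hω).le
    simpa using hω
  letI := Ideal.Quotient.field M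
  have halg : Algebra.IsAlgebraic K (Ax ⧸ M) :=
    algebraic_of_span _ (span_image_eq_top (Ideal.Quotient.mkₐ K M) Ideal.Quotient.mk_surjective t ht)
      (Cardinal.mk_image_le.trans htμ) hK
  let m : Ideal A := M.comap (algebraMap A Ax)
  let f : (A ⧸ m) →ₐ[K] (Ax ⧸ M) :=
    Ideal.quotientMapₐ M (IsScalarTower.toAlgHom K A Ax) le_rfl
  have hf : Function.Injective f := Ideal.quotientMap_injective
  have : Algebra.IsIntegral K (Ax ⧸ M) := inferInstance
  have : Algebra.IsIntegral K (A ⧸ m) := Algebra.IsIntegral.of_injective f hf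
  have hm : m.IsMaximal := Ideal.Quotient.maximal_of_isField _
    (isField_of_isIntegral_of_isField' (R := K) (Field.toIsField K))
  have hPm : P ≤ m := le_trans Ideal.le_comap_map (Ideal.comap_mono hPM)
  have hxm : x ∈ m := Ideal.mem_sInf.1 hx ⟨hPm, hm⟩
  exact hM.ne_top (Ideal.eq_top_of_isUnit_mem _ hxm (IsLocalization.Away.algebraMap_isUnit x))

/-- `R ⊗ K` is spanned over `K` by `R`. -/
theorem exists_span_tensor (k K R : Type u) [CommRing k] [CommRing K] [CommRing R] [Algebra k K]
    [Algebra k R] :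
    letI : Algebra K (TensorProduct k R K) :=
      (Algebra.TensorProduct.includeRight (R := k) (A := R) (B := K)).toRingHom.toAlgebra
    Submodule.span K (Set.range fun r : R => (r ⊗ₜ[k] (1 : K) : TensorProduct k R K)) = ⊤ := by
  letI : Algebra K (TensorProduct k R K) :=
    (Algebra.TensorProduct.includeRight (R := k) (A := R) (B := K)).toRingHom.toAlgebra
  rw [eq_top_iff]
  rintro z -
  induction z using TensorProduct.induction_on with
  | zero => exact zero_mem _
  | add a b ha hb => exact add_mem ha hb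
  | tmul r t =>
    have : r ⊗ₜ[k] t = t • (r ⊗ₜ[k] (1 : K) : TensorProduct k R K) := by
      rw [Algebra.smul_def]
      show r ⊗ₜ[k] t = ((1 : R) ⊗ₜ[k] t) * (r ⊗ₜ[k] (1 : K))
      rw [Algebra.TensorProduct.tmul_mul_tmul, one_mul, mul_one]
    rw [this]
    exact Submodule.smul_mem _ _ (Submodule.subset_span ⟨r, rfl⟩)

theorem residueField_algebraic (K : Type u) [Field K] (Y : Scheme.{u})
    [Y.Over (Spec (CommRingCat.of K))] (A : Type u) [CommRing A] [Algebra K A]
    (j : Spec (CommRingCat.of A) ⟶ Y) [IsOpenImmersion j]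
    (hj : j ≫ (Y ↘ Spec (CommRingCat.of K)) = Spec.map (CommRingCat.ofHom (algebraMap K A)))
    {μ : Cardinal.{u}} (s : Set A) (hs : Submodule.span K s = ⊤) (hμ : Cardinal.mk s ≤ μ)
    (hK : μ < Cardinal.mk K) (y : Spec (CommRingCat.of A)) (hy : IsClosed ({j y} : Set Y)) :
    Algebra.IsAlgebraic K (Y.residueField (j y)) := by
  have hm : (y : PrimeSpectrum A).asIdeal.IsMaximal := by
    refine (PrimeSpectrum.isClosed_singleton_iff_isMaximal y).1 ?_
    have := hy.preimage j.continuous
    rwa [← Set.image_singleton, Set.preimage_image_eq _ j.isOpenEmbedding.injective] at this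
  let e : Y.residueField (j y) ≃+* (Spec (CommRingCat.of A)).residueField y :=
    RingEquiv.ofBijective _ (Groth.L22.FibreDim.residueFieldMap_bijective j y)
  let q : A →+* (Spec (CommRingCat.of A)).residueField y :=
    (CommRingCat.ofHom (algebraMap A (y : PrimeSpectrum A).asIdeal.ResidueField) ≫
      (Scheme.Spec.residueFieldIso _ y).inv).hom
  have hq : Function.Surjective q := by
    intro z
    obtain ⟨a, ha⟩ := Ideal.algebraMap_residueField_surjective (y : PrimeSpectrum A).asIdeal
      ((Scheme.Spec.residueFieldIso _ y).hom z)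
    refine ⟨a, ?_⟩
    show (Scheme.Spec.residueFieldIso _ y).inv (algebraMap A (y : PrimeSpectrum A).asIdeal.ResidueField a) = z
    rw [ha]
    exact (Scheme.Spec.residueFieldIso _ y).hom_inv_id_apply z
  have key : CommRingCat.ofHom (Curv2.resMap K Y (j y)) ≫ j.residueFieldMap y =
      CommRingCat.ofHom (algebraMap K A) ≫ CommRingCat.ofHom q := by
    apply Spec.map_injective
    rw [Spec.map_comp, Spec.map_comp, Groth.L22.FibreDim.SpecMap_resMap,
      Scheme.Hom.SpecMap_residueFieldMap_fromSpecResidueField_assoc, hj]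
    congr 1
    rw [show CommRingCat.ofHom q = CommRingCat.ofHom (algebraMap A _) ≫
      (Scheme.Spec.residueFieldIso _ y).inv from rfl, Spec.map_comp]
    exact (Scheme.Spec.map_residueFieldIso_inv_eq_fromSpecResidueField _ _).symm
  letI : Algebra K (Y.residueField (j y)) := (Curv2.resMap K Y (j y)).toAlgebra
  let ψ : A →ₐ[K] Y.residueField (j y) :=
    { toRingHom := e.symm.toRingHom.comp q
      commutes' := fun c => by
        have := ConcreteCategory.congr_hom key c
        show e.symm (q (algebraMap K A c)) = Curv2.resMap K Y (j y) c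
        rw [RingEquiv.symm_apply_eq]
        exact this.symm }
  exact algebraic_of_span _ (span_image_eq_top ψ (e.symm.surjective.comp hq) s hs)
    (Cardinal.mk_image_le.trans hμ) hK

end

/-- Let X be a scheme over a field k. There is a cardinal κ such that for every extension field K of k
of cardinality at least κ, the base change X_K is a Jacobson scheme and for every closed point x of
X_K the residue field κ(x) is algebraic over K. -/
theorem result (k : Type u) [Field k] (X : Scheme.{u}) [X.Over (Spec (CommRingCat.of k))] :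
    ∃ κ : Cardinal.{u}, ∀ (K : Type u) [Field K] [Algebra k K], κ ≤ Cardinal.mk K →
      JacobsonSpace ↥(Curv2.bc k X K) ∧
        ∀ x : ↥(Curv2.bc k X K), IsClosed ({x} : Set ↥(Curv2.bc k X K)) →
          letI : (Curv2.bc k X K).Over (Spec (CommRingCat.of K)) := ⟨Curv2.bcSnd k X K⟩
          Algebra.IsAlgebraic K ((Curv2.bc k X K).residueField x) := by
  let 𝒰 := X.affineCover
  let R : 𝒰.I₀ → CommRingCat.{u} := fun i => (X.affineCover.X i).presheaf.obj (Opposite.op ⊤)
  let μ : Cardinal.{u} := Cardinal.sum (fun i => Cardinal.mk (R i)) + Cardinal.aleph0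
  refine ⟨Order.succ μ, fun K _ _ hK => ?_⟩
  replace hK : μ < Cardinal.mk K := (Order.lt_succ μ).trans_le hK
  letI : (Curv2.bc k X K).Over (Spec (CommRingCat.of K)) := ⟨Curv2.bcSnd k X K⟩
  have H : ∀ x : ↥(Curv2.bc k X K), ∃ (A : Type u) (_ : CommRing A) (_ : Algebra K A)
      (j : Spec (CommRingCat.of A) ⟶ Curv2.bc k X K) (_ : IsOpenImmersion j),
      x ∈ Set.range j ∧ IsJacobsonRing A ∧
      j ≫ Curv2.bcSnd k X K = Spec.map (CommRingCat.ofHom (algebraMap K A)) ∧
      ∃ s : Set A, Submodule.span K s = ⊤ ∧ Cardinal.mk s ≤ μ := by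
    intro x
    let 𝒲 := Scheme.Pullback.openCoverOfLeft 𝒰 (X ↘ Spec (CommRingCat.of k))
      (Spec.map (CommRingCat.ofHom (algebraMap k K)))
    obtain ⟨i, x', hx'⟩ := 𝒲.exists_eq x
    obtain ⟨φ, hφ⟩ := Spec.map_surjective
      ((𝒰.X i).isoSpec.inv ≫ 𝒰.f i ≫ (X ↘ Spec (CommRingCat.of k)))
    letI : Algebra k (R i) := φ.hom.toAlgebra
    letI : Algebra K (TensorProduct k (R i) K) :=
      (Algebra.TensorProduct.includeRight (R := k) (A := R i) (B := K)).toRingHom.toAlgebra
    have hl : (𝒰.X i).isoSpec.inv ≫ 𝒰.f i ≫ (X ↘ Spec (CommRingCat.of k)) =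
        Spec.map (CommRingCat.ofHom (algebraMap k (R i))) := hφ.symm
    let e : pullback (Spec.map (CommRingCat.ofHom (algebraMap k (R i))))
        (Spec.map (CommRingCat.ofHom (algebraMap k K))) ⟶ 𝒲.X i :=
      pullback.map _ _ _ _ (𝒰.X i).isoSpec.inv (𝟙 _) (𝟙 _) (by rw [Category.comp_id, ← hl])
        (by rw [Category.comp_id, Category.id_comp])
    have : IsIso e := by
      show IsIso (pullback.map _ _ _ _ _ _ _ _ _)
      infer_instance
    let j := (pullbackSpecIso k (R i) K).inv ≫ e ≫ 𝒲.f i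
    refine ⟨TensorProduct k (R i) K, inferInstance, inferInstance, j, inferInstance, ?_, ?_, ?_,
      _, exists_span_tensor k K (R i), ?_⟩
    · refine ⟨(inv ((pullbackSpecIso k (R i) K).inv ≫ e)) x', ?_⟩
      rw [← hx', ← Scheme.Hom.comp_apply]
      show ((inv ((pullbackSpecIso k (R i) K).inv ≫ e)) ≫ j) x' = _
      rw [show j = ((pullbackSpecIso k (R i) K).inv ≫ e) ≫ 𝒲.f i from (Category.assoc _ _ _).symm,
        IsIso.inv_hom_id_assoc]
    · exact isJacobsonRing_of_span _ (exists_span_tensor k K (R i))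
        (Cardinal.mk_range_le.trans ((Cardinal.le_sum (fun i => Cardinal.mk (R i)) i).trans le_self_add))
        le_add_self hK
    · show ((pullbackSpecIso k (R i) K).inv ≫ e ≫ 𝒲.f i) ≫ Curv2.bcSnd k X K = _
      have e1 : 𝒲.f i ≫ Curv2.bcSnd k X K = pullback.snd _ _ :=
        (pullback.lift_snd _ _ _).trans (Category.comp_id _)
      have e2 : e ≫ (pullback.snd _ _ : 𝒲.X i ⟶ _) = pullback.snd _ _ :=
        (pullback.lift_snd _ _ _).trans (Category.comp_id _)
      rw [Category.assoc, Category.assoc, e1, e2]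
      exact pullbackSpecIso_inv_snd k (R i) K
    · exact Cardinal.mk_range_le.trans
        ((Cardinal.le_sum (fun i => Cardinal.mk (R i)) i).trans le_self_add)
  choose A iA iAl j hj hmem hJac hsnd s hs hsμ using H
  refine ⟨?_, fun x hx => ?_⟩
  · have hU : TopologicalSpace.IsOpenCover (fun x => (j x).opensRange) :=
      TopologicalSpace.IsOpenCover.mk (eq_top_iff.2 fun x _ =>
        TopologicalSpace.Opens.mem_iSup.2 ⟨x, hmem x⟩)
    refine hU.jacobsonSpace_iff.2 fun x => ?_
    have : JacobsonSpace ↥(Spec (CommRingCat.of (A x))) :=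
      PrimeSpectrum.isJacobsonRing_iff_jacobsonSpace.1 (hJac x)
    exact JacobsonSpace.of_isOpenEmbedding
      ((j x).isOpenEmbedding.isEmbedding.toHomeomorph.symm.isOpenEmbedding)
  · obtain ⟨x₀, hx₀⟩ : ∃ x₀, x ∈ Set.range (j x₀) := ⟨x, hmem x⟩
    obtain ⟨y, rfl⟩ := hx₀
    exact residueField_algebraic K _ _ (j x₀) (hsnd _) (s _) (hs _) (hsμ _) hK y hx

end Groth.Agent.S7611
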