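import Groth.Statements.S7613
import Groth.Agent.L22.GeomConn.Crit
import Groth.Agent.L22.FibreDim
import Groth.Agent.Lead.GeomRedVariety
import Groth.Agent.L02.SpRed.OverField
import Groth.Agent.L16.SecComp.Smooth
import Groth.Agent.L07.GeomRk.Reduced
import Groth.Agent.L21.Smooth.Scheme
import Groth.Agent.L03.RegularNormal
-- import your own Groth.Agent.* helpers here

set_option autoImplicit false
universe u
open CategoryTheory CategoryTheory.Limits AlgebraicGeometry
open Variety

namespace Groth.Agent.S7613

/-- Let X be a variety over a field k (integral, separated and of finite type over k) with a k-rational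
point x (k → κ(x) onto) such that X → Spec k is smooth at x. Then every base change of X to an
extension field of k is an integral scheme (X is geometrically integral over k). -/
theorem result (k : Type u) [Field k] (X : Scheme.{u}) [X.Over (Spec (CommRingCat.of k))] [IsIntegral X] [IsSeparated (X ↘ (Spec (CommRingCat.of k)))]
    [LocallyOfFiniteType (X ↘ (Spec (CommRingCat.of k)))] [QuasiCompact (X ↘ (Spec (CommRingCat.of k)))]
    (x : ↥X) (hx : Function.Surjective (Curv2.resMap k X x)) (hsm : x ∈ (X ↘ (Spec (CommRingCat.of k))).smoothLocus) :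
    GeometricallyIntegral (X ↘ (Spec (CommRingCat.of k))) := by
  let f := X ↘ Spec (CommRingCat.of k)
  haveI : IsLocallyNoetherian (Spec (CommRingCat.of k)) := inferInstance
  haveI : LocallyOfFinitePresentation f := inferInstance
  let U := f.smoothLocus
  haveI : LocallyOfFinitePresentation (U.ι ≫ f) := inferInstance
  haveI hUsm : Smooth (U.ι ≫ f) := by
    rw [← Scheme.Hom.smoothLocus_eq_top_iff, ← Scheme.Hom.preimage_smoothLocus_eq]
    ext u
    exact ⟨fun _ => trivial, fun _ => u.2⟩
  let η := genericPoint X
  have hηU : η ∈ U := ((genericPoint_spec X).specializes trivial).mem_open U.2 hsm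
  have h : η ⤳ x := (genericPoint_spec X).specializes trivial
  haveI : GeometricallyReduced f := by
    refine Groth.Lead.GeomRedVariety.geometricallyReduced_of_generic f fun y hy => ?_
    obtain rfl : η = y := hy η ((genericPoint_spec X).specializes trivial)
    have h1 : FBase.IsGeomReducedAt (U.ι ≫ f) ⟨η, hηU⟩ :=
      (Groth.L07.GeomRk.geometricallyReduced_iff (U.ι ≫ f)).1
        (Groth.L16.SecComp.geometricallyReduced_of_smooth _) ⟨η, hηU⟩
    exact (_root_.L02.SpRed.isGeomReducedAt_etale U.ι f rfl ⟨η, hηU⟩).1 h1
  haveI : GeometricallyIrreducible f := by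
    letI := Curv2.resAlgebra k X η
    refine Groth.L22.GeomConn.geometricallyIrreducible_of_separable_elements f
      (Groth.L22.FibreDim.SpecMap_resMap k X η) fun α hα => ?_
    haveI : IsLocallyNoetherian X := LocallyOfFiniteType.isLocallyNoetherian f
    haveI : IsRegularLocalRing (X.presheaf.stalk x) := by
      haveI := Groth.L21.Smooth.regular_stalk (U.ι ≫ f) ⟨x, hsm⟩
      exact IsRegularLocalRing.of_ringEquiv (U.stalkIso ⟨x, hsm⟩).commRingCatIsoToRingEquiv
    haveI := Groth.L03.RegularNormal.isIntegrallyClosed (X.presheaf.stalk x)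
    obtain ⟨p, hpm, hpi, hp⟩ : ∃ p : Polynomial k, p.Monic ∧ Irreducible p ∧ Polynomial.aeval α p = 0 :=
      ⟨_, minpoly.monic hα.isIntegral, minpoly.irreducible hα.isIntegral, minpoly.aeval k α⟩
    obtain ⟨a, rfl⟩ := IsLocalRing.residue_surjective (R := X.presheaf.stalk η) α
    have hinj : Function.Injective (IsLocalRing.residue (X.presheaf.stalk η)) :=
      RingHom.injective (R := X.functionField) (IsLocalRing.residue (X.presheaf.stalk η))
    have hsp : ∀ c : k, algebraMap (X.presheaf.stalk x) X.functionField (Curv2.stalkMap k X x c) =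
        Curv2.stalkMap k X η c := fun c =>
      TopCat.Presheaf.germ_stalkSpecializes_apply X.presheaf (Set.mem_univ x : x ∈ (⊤ : X.Opens)) h
        (Coh.toGlobal f c)
    have hsp' : (algebraMap (X.presheaf.stalk x) X.functionField).comp (Curv2.stalkMap k X x) =
        Curv2.stalkMap k X η := RingHom.ext hsp
    have ha0 : p.eval₂ (Curv2.stalkMap k X η) a = 0 := by
      apply hinj
      rw [map_zero, Polynomial.hom_eval₂]
      exact hp
    have haint : IsIntegral (X.presheaf.stalk x) (a : X.functionField) := by
      refine ⟨p.map (Curv2.stalkMap k X x), hpm.map _, ?_⟩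
      rw [Polynomial.eval₂_map, hsp']
      exact ha0
    obtain ⟨b, hb⟩ := IsIntegrallyClosed.isIntegral_iff.1 haint
    have hb0 : p.eval₂ (Curv2.stalkMap k X x) b = 0 := by
      apply IsFractionRing.injective (X.presheaf.stalk x) X.functionField
      rw [map_zero, Polynomial.hom_eval₂, hsp', hb]
      exact ha0
    obtain ⟨c, hc⟩ := hx (X.residue x b)
    have hroot : p.IsRoot c := by
      apply (Curv2.resMap k X x).injective
      rw [map_zero]
      show Curv2.resMap k X x (p.eval c) = 0
      rw [← Polynomial.eval₂_at_apply, hc]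
      show Polynomial.eval₂ ((X.residue x).hom.comp (Curv2.stalkMap k X x)) ((X.residue x).hom b) p = 0
      rw [← Polynomial.hom_eval₂, hb0, map_zero]
    have hp1 : p = Polynomial.X - Polynomial.C c := by
      obtain ⟨q, hq⟩ := Polynomial.dvd_iff_isRoot.2 hroot
      exact (Polynomial.eq_of_monic_of_associated (Polynomial.monic_X_sub_C c) hpm
        ((Polynomial.irreducible_X_sub_C c).associated_of_dvd hpi ⟨q, hq⟩)).symm
    refine ⟨c, ?_⟩
    rw [hp1, map_sub, Polynomial.aeval_X, Polynomial.aeval_C, sub_eq_zero] at hp
    exact hp.symm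
  exact GeometricallyIntegral.of_geometricallyReduced_of_geometricallyIrreducible f


end Groth.Agent.S7613
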