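import Groth.Statements.S7614
import Groth.Agent.L19.QADescent
-- import your own Groth.Agent.* helpers here

set_option autoImplicit false
universe u
open CategoryTheory CategoryTheory.Limits AlgebraicGeometry
open Variety

namespace Groth.Agent.S7614

/-- Let X be a scheme over a field k and K an extension field of k. If X_K is quasi-affine, then X is
quasi-affine. -/
theorem result (k : Type u) [Field k] (X : Scheme.{u}) [X.Over (Spec (CommRingCat.of k))] (K : Type u) [Field K] [Algebra k K]
    [(Curv2.bc k X K).IsQuasiAffine] : X.IsQuasiAffine := by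
  let t : Spec (CommRingCat.of K) ⟶ Spec (CommRingCat.of k) := Spec.map (CommRingCat.ofHom (algebraMap k K))
  haveI : Surjective t := ⟨fun c => ⟨IsLocalRing.closedPoint K, Subsingleton.elim (α := PrimeSpectrum k) _ _⟩⟩
  haveI : QuasiCompact t := inferInstance
  haveI : Flat t := inferInstance
  have h := Groth.L19.QADescent.descend (iX := X ↘ (Spec (CommRingCat.of k))) (IsPullback.of_hasPullback (X ↘ (Spec (CommRingCat.of k))) t).flip
    ⟨⟨‹Surjective t›, ‹Flat t›⟩, ‹QuasiCompact t›⟩
    (Groth.L19.QADescent.isQuasiAffine_of_source (X := Curv2.bc k X K) _)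
  haveI : (⊤ : X.Opens).toScheme.IsQuasiAffine := h.2 ⊤ (isAffineOpen_top _)
  haveI := h.1
  haveI : CompactSpace X := QuasiCompact.compactSpace_of_compactSpace (X ↘ (Spec (CommRingCat.of k)))
  exact Scheme.IsQuasiAffine.of_isImmersion (Scheme.topIso X).inv

end Groth.Agent.S7614
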