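import Groth.Statements.S7615
import Groth.Agent.L22.ProperSections.Geometric
-- import your own Groth.Agent.* helpers here

set_option autoImplicit false
universe u
open CategoryTheory CategoryTheory.Limits AlgebraicGeometry
open Variety

namespace Groth.Agent.S7615

/-- Let X be a proper variety over a field k (integral, separated, of finite type and proper over k) and
K = H^0(X, O_X), a k-algebra via the structure morphism. Then K is a field, finite over k; K/k is
separable when X is geometrically reduced over k, and purely inseparable when X is geometrically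
irreducible over k. -/
theorem result (k : Type u) [Field k] (X : Scheme.{u}) [X.Over (Spec (CommRingCat.of k))] [IsIntegral X] [IsProper (X ↘ (Spec (CommRingCat.of k)))] :
    letI := ((X ↘ (Spec (CommRingCat.of k))).appTop.hom.comp (Scheme.ΓSpecIso (CommRingCat.of k)).inv.hom : k →+* Γ(X, ⊤)).toAlgebra
    IsField ↑Γ(X, ⊤) ∧ Module.Finite k ↑Γ(X, ⊤) ∧
      (GeometricallyReduced (X ↘ (Spec (CommRingCat.of k))) → Algebra.IsSeparable k ↑Γ(X, ⊤)) ∧
      (GeometricallyIrreducible (X ↘ (Spec (CommRingCat.of k))) → IsPurelyInseparable k ↑Γ(X, ⊤)) := by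
  letI : Algebra k Γ(X, ⊤) := ((X ↘ (Spec (CommRingCat.of k))).appTop.hom.comp
      (Scheme.ΓSpecIso (CommRingCat.of k)).inv.hom).toAlgebra
  let f := X ↘ (Spec (CommRingCat.of k))
  have hF : IsField Γ(X, ⊤) := isField_of_universallyClosed k f
  haveI hfin : Module.Finite k Γ(X, ⊤) := by
    have h := finite_appTop_of_universallyClosed k f
    have h1 : (f.appTop.hom.comp (Scheme.ΓSpecIso (CommRingCat.of k)).inv.hom).Finite :=
      h.comp (RingHom.Finite.of_surjective _
        (Scheme.ΓSpecIso (CommRingCat.of k)).symm.commRingCatIsoToRingEquiv.surjective)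
    exact RingHom.finite_algebraMap.mp h1
  refine ⟨hF, hfin, fun _ => ?_, fun _ => ?_⟩
  · letI := hF.toField
    haveI := Groth.L22.ProperSections.isGeometricallyReduced_sections k f
    exact Groth.L05.TameRoot.isSeparable_of_geomReduced k Γ(X, ⊤)
  · exact Groth.L22.ProperSections.isPurelyInseparable_sections k f hF inferInstance


end Groth.Agent.S7615
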