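import Groth.Statements.S7618
-- import your own Groth.Agent.* helpers here

set_option autoImplicit false
universe u
open CategoryTheory CategoryTheory.Limits AlgebraicGeometry
open Variety

namespace Groth.Agent.S7618

/-- Let X be a connected reduced scheme over a field k. Then the global functions on X that are integral
over k form a field. -/
theorem result (k : Type u) [Field k] (X : Scheme.{u}) [X.Over (Spec (CommRingCat.of k))] [ConnectedSpace ↥X] [IsReduced X] :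
    letI := ((X ↘ (Spec (CommRingCat.of k))).appTop.hom.comp (Scheme.ΓSpecIso (CommRingCat.of k)).inv.hom : k →+* Γ(X, ⊤)).toAlgebra
    IsField ↥(integralClosure k ↑Γ(X, ⊤)) := by
  letI := ((X ↘ (Spec (CommRingCat.of k))).appTop.hom.comp (Scheme.ΓSpecIso (CommRingCat.of k)).inv.hom : k →+* Γ(X, ⊤)).toAlgebra
  have hidem : ∀ e : Γ(X, ⊤), IsIdempotentElem e → e = 0 ∨ e = 1 := fun e he => by
    have hdisj : X.basicOpen e ⊓ X.basicOpen (1 - e) = ⊥ := by
      rw [← Scheme.basicOpen_mul, mul_sub, mul_one, he.eq, sub_self, Scheme.basicOpen_zero]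
    have hcov : ∀ x : X, x ∈ X.basicOpen e ∨ x ∈ X.basicOpen (1 - e) := fun x => by
      simp only [Scheme.mem_basicOpen_top, map_sub, map_one]
      exact IsLocalRing.isUnit_or_isUnit_of_add_one (by ring)
    have hcl : IsClopen (X.basicOpen e : Set X) := by
      refine ⟨?_, (X.basicOpen e).2⟩
      rw [← isOpen_compl_iff, show (X.basicOpen e : Set X)ᶜ = (X.basicOpen (1 - e) : Set X) from ?_]
      · exact (X.basicOpen (1 - e)).2
      ext x
      refine ⟨fun h => (hcov x).resolve_left h, fun h h' => ?_⟩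
      exact (hdisj.le ⟨h', h⟩).elim
    rcases isClopen_iff.mp hcl with h | h
    · exact .inl ((basicOpen_eq_bot_iff e).mp (SetLike.coe_injective h))
    · refine .inr (sub_eq_zero.mp ((basicOpen_eq_bot_iff (1 - e)).mp ?_)).symm
      rw [← hdisj, show X.basicOpen e = ⊤ from SetLike.coe_injective h, top_inf_eq]
  haveI : Nonempty X := inferInstance
  haveI : Nonempty (⊤ : X.Opens) := ⟨⟨Classical.arbitrary X, trivial⟩⟩
  haveI : Nontrivial Γ(X, ⊤) := inferInstance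
  refine ⟨exists_pair_ne _, mul_comm, fun {a} ha => ?_⟩
  let A₀ := Algebra.adjoin k ({(a : Γ(X, ⊤))} : Set Γ(X, ⊤))
  haveI : Module.Finite k A₀ := Module.Finite.iff_fg.mpr (IsIntegral.fg_adjoin_singleton a.2)
  haveI : IsArtinianRing A₀ := IsArtinianRing.of_finite k A₀
  let a₀ : A₀ := ⟨a, Algebra.self_mem_adjoin_singleton k _⟩
  obtain ⟨n, b, hb⟩ := IsArtinian.exists_pow_succ_smul_dvd a₀ (1 : A₀)
  simp only [smul_eq_mul, mul_one] at hb
  have h1 : ∀ m, a₀ ^ (n + 1) = a₀ ^ (n + 1 + m) * b ^ m := fun m => by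
    induction m with
    | zero => simp
    | succ m ih =>
      conv_lhs => rw [ih]
      have : a₀ ^ (n + 1 + m) = a₀ ^ (n + 1 + (m + 1)) * b := by
        calc a₀ ^ (n + 1 + m) = a₀ ^ n * a₀ ^ (m + 1) := by rw [← pow_add]; ring_nf
          _ = a₀ ^ n.succ * b * a₀ ^ (m + 1) := by rw [hb]
          _ = _ := by rw [Nat.succ_eq_add_one]; ring
      rw [this]; ring
  have he : IsIdempotentElem ((a₀ : Γ(X, ⊤)) ^ (n + 1) * (b : Γ(X, ⊤)) ^ (n + 1)) := by
    have h := congrArg (fun t : A₀ => ((t : Γ(X, ⊤)))) (h1 (n + 1))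
    push_cast at h
    rw [IsIdempotentElem]
    calc _ = ((a₀ : Γ(X, ⊤)) ^ (n + 1 + (n + 1)) * (b : Γ(X, ⊤)) ^ (n + 1)) * (b : Γ(X, ⊤)) ^ (n + 1) := by ring
      _ = _ := by rw [← h]
  rcases hidem _ he with h | h
  · exfalso
    have h2 := congrArg (fun t : A₀ => ((t : Γ(X, ⊤)))) (h1 (n + 1))
    push_cast at h2
    have h3 : (a₀ : Γ(X, ⊤)) ^ (n + 1) = (a₀ : Γ(X, ⊤)) ^ (n + 1) * ((a₀ : Γ(X, ⊤)) ^ (n + 1) * (b : Γ(X, ⊤)) ^ (n + 1)) :=
      h2.trans (by ring)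
    rw [h, mul_zero] at h3
    exact ha (Subtype.ext (IsNilpotent.eq_zero (x := (a₀ : Γ(X, ⊤))) ⟨n + 1, h3⟩))
  · have hle : A₀ ≤ integralClosure k Γ(X, ⊤) := Algebra.adjoin_le (Set.singleton_subset_iff.mpr a.2)
    let c : integralClosure k Γ(X, ⊤) := ⟨_, hle (A₀.mul_mem (A₀.pow_mem a₀.2 n) (A₀.pow_mem b.2 (n + 1)))⟩
    refine ⟨c, Subtype.ext ?_⟩
    show (a : Γ(X, ⊤)) * ((a₀ : Γ(X, ⊤)) ^ n * (b : Γ(X, ⊤)) ^ (n + 1)) = 1
    rw [← mul_assoc, ← h]
    show (a : Γ(X, ⊤)) * (a : Γ(X, ⊤)) ^ n * _ = (a : Γ(X, ⊤)) ^ (n + 1) * _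
    rw [pow_succ' (a : Γ(X, ⊤)) n]

end Groth.Agent.S7618
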