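import Groth.Statements.S7619
import Mathlib.RingTheory.LocalRing.Module
import Mathlib.RingTheory.LocalRing.ResidueField.Ideal
import Mathlib.RingTheory.Support
import Mathlib.LinearAlgebra.Basis.VectorSpace
import Mathlib.RingTheory.Kaehler.Basic
import Mathlib.RingTheory.Spectrum.Prime.Module

set_option autoImplicit false
universe u
open CategoryTheory CategoryTheory.Limits AlgebraicGeometry
open scoped TensorProduct
open Variety

namespace Groth.Agent.S7619

/-- Let A → B be a finite type ring map (a finite type morphism of affine schemes), q a prime of B and r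
= dim_{κ(q)} Ω_{B/A} ⊗_B κ(q). Then there is an A-algebra homomorphism A[x_1, …, x_r] → B for which
B is unramified over A[x_1, …, x_r] at q. -/
theorem result (A B : Type u) [CommRing A] [CommRing B] [Algebra A B] [Algebra.FiniteType A B]
    (q : Ideal B) [q.IsPrime] (r : ℕ) (hr : Module.finrank q.ResidueField (q.ResidueField ⊗[B] Ω[B⁄A]) = r) :
    ∃ φ : MvPolynomial (Fin r) A →ₐ[A] B,
      letI := φ.toRingHom.toAlgebra
      Algebra.IsUnramifiedAt (MvPolynomial (Fin r) A) q := by
  classical
  haveI : Module.Finite B Ω[B⁄A] := inferInstance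
  let d : B → TensorProduct B q.ResidueField Ω[B⁄A] := fun b => 1 ⊗ₜ KaehlerDifferential.D A B b
  have hd : Submodule.span q.ResidueField (Set.range d) = ⊤ := by
    rw [eq_top_iff]
    intro z hz
    clear hz
    induction z with
    | zero => exact Submodule.zero_mem _
    | add a b ha hb => exact Submodule.add_mem _ ha hb
    | tmul c ω =>
      have hω : ω ∈ Submodule.span B (Set.range (KaehlerDifferential.D A B)) :=
        (KaehlerDifferential.span_range_derivation A B).symm ▸ Submodule.mem_top
      induction hω using Submodule.span_induction generalizing c with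
      | mem w hw =>
        obtain ⟨b, rfl⟩ := hw
        rw [show c ⊗ₜ[B] KaehlerDifferential.D A B b = c • d b by
          rw [TensorProduct.smul_tmul', smul_eq_mul, mul_one]]
        exact Submodule.smul_mem _ _ (Submodule.subset_span ⟨b, rfl⟩)
      | zero => rw [TensorProduct.tmul_zero]; exact Submodule.zero_mem _
      | add a b _ _ ha hb => rw [TensorProduct.tmul_add]; exact Submodule.add_mem _ (ha c) (hb c)
      | smul s a _ ha =>
        rw [TensorProduct.tmul_smul, TensorProduct.smul_tmul']
        exact ha _
  obtain ⟨t, htsub, htspan, htli⟩ := exists_linearIndependent q.ResidueField (Set.range d)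
  rw [hd] at htspan
  let bas := Module.Basis.mk htli (le_of_eq (by rw [Subtype.range_coe]; exact htspan.symm))
  haveI : Fintype t := FiniteDimensional.fintypeBasisIndex bas
  have hcard : Fintype.card t = r := by rw [← Module.finrank_eq_card_basis bas, hr]
  choose b hb using fun i : t => htsub i.2
  let e : Fin r ≃ t := (finCongr hcard.symm).trans (Fintype.equivFin t).symm
  refine ⟨MvPolynomial.aeval fun i => b (e i), ?_⟩
  letI := (MvPolynomial.aeval fun i => b (e i) : MvPolynomial (Fin r) A →ₐ[A] B).toRingHom.toAlgebra
  haveI : IsScalarTower A (MvPolynomial (Fin r) A) B :=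
    IsScalarTower.of_algebraMap_eq fun a => ((MvPolynomial.aeval fun i => b (e i)).commutes a).symm
  haveI : Algebra.EssFiniteType (MvPolynomial (Fin r) A) B := Algebra.EssFiniteType.of_comp A _ _
  haveI : Module.Finite B Ω[B⁄MvPolynomial (Fin r) A] := inferInstance
  let π := KaehlerDifferential.map A (MvPolynomial (Fin r) A) B B
  have hsub : Subsingleton (TensorProduct B q.ResidueField Ω[B⁄MvPolynomial (Fin r) A]) := by
    refine subsingleton_of_forall_eq 0 fun z => ?_
    obtain ⟨w, rfl⟩ := LinearMap.lTensor_surjective q.ResidueField
      (KaehlerDifferential.map_surjective A (MvPolynomial (Fin r) A) B) z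
    have h0 : (π.baseChange q.ResidueField) w = 0 := by
      have hw : w ∈ Submodule.span q.ResidueField t := htspan ▸ Submodule.mem_top
      refine Submodule.span_le (p := LinearMap.ker (π.baseChange q.ResidueField)).mpr ?_ hw
      intro v hv
      obtain ⟨i, hi⟩ := e.surjective ⟨v, hv⟩
      have hv' : d (b ⟨v, hv⟩) = v := hb ⟨v, hv⟩
      rw [SetLike.mem_coe, LinearMap.mem_ker, ← hv', LinearMap.baseChange_tmul,
        KaehlerDifferential.map_D, Algebra.algebraMap_self, RingHom.id_apply]
      have hX : b ⟨v, hv⟩ = algebraMap (MvPolynomial (Fin r) A) B (MvPolynomial.X i) := by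
        rw [RingHom.algebraMap_toAlgebra, AlgHom.toRingHom_eq_coe, RingHom.coe_coe, MvPolynomial.aeval_X, hi]
      rw [hX, Derivation.map_algebraMap, TensorProduct.tmul_zero]
    exact h0
  have hns : (⟨q, inferInstance⟩ : PrimeSpectrum B) ∉ Module.support B Ω[B⁄MvPolynomial (Fin r) A] := by
    rw [Module.mem_support_iff_nontrivial_residueField_tensorProduct]
    exact not_nontrivial_iff_subsingleton.mpr hsub
  have := (Algebra.unramifiedLocus_eq_compl_support (R := MvPolynomial (Fin r) A) (A := B)).symm.subset hns
  exact this

end Groth.Agent.S7619
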