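import Groth.Statements.S7620
import Mathlib.RingTheory.KrullDimension.Polynomial
import Mathlib.RingTheory.LocalRing.ResidueField.Fiber
import Mathlib.RingTheory.NoetherNormalization
import Groth.Agent.L03.RegularFiniteExt
-- import your own Groth.Agent.* helpers here

set_option autoImplicit false
universe u
open CategoryTheory CategoryTheory.Limits AlgebraicGeometry
open scoped TensorProduct
open Variety

namespace Groth.Agent.S7620

/-- Let A → B be a finite type ring map (a finite type morphism of affine schemes X → S), p a prime of A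
and suppose the fibre ring κ(p) ⊗_A B has Krull dimension d. Then there is an A-algebra homomorphism
π : A[t_1, …, t_d] → B such that the induced map of fibres κ(p) ⊗_A A[t_1, …, t_d] → κ(p) ⊗_A B is
finite. -/
theorem result (A B : Type u) [CommRing A] [CommRing B] [Algebra A B] [Algebra.FiniteType A B]
    (p : Ideal A) [p.IsPrime] (d : ℕ) (hd : ringKrullDim (p.ResidueField ⊗[A] B) = d) :
    ∃ π : MvPolynomial (Fin d) A →ₐ[A] B,
      (Algebra.TensorProduct.map (AlgHom.id p.ResidueField p.ResidueField) π).toRingHom.Finite := by
  classical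
  haveI : Nontrivial (p.ResidueField ⊗[A] B) := by
    by_contra h
    rw [not_nontrivial_iff_subsingleton] at h
    rw [ringKrullDim_eq_bot_of_subsingleton] at hd
    exact absurd hd (by simp)
  obtain ⟨s, g, ginj, gfin⟩ := exists_finite_inj_algHom_of_fg p.ResidueField (p.ResidueField ⊗[A] B)
  have hs : s = d := by
    letI := g.toRingHom.toAlgebra
    haveI : Module.Finite (MvPolynomial (Fin s) p.ResidueField) (p.ResidueField ⊗[A] B) := gfin
    haveI : Algebra.IsIntegral (MvPolynomial (Fin s) p.ResidueField) (p.ResidueField ⊗[A] B) := inferInstance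
    rw [← Groth.L03.RegularFiniteExt.ringKrullDim_eq_of_integral (A := MvPolynomial (Fin s) p.ResidueField) ginj,
      MvPolynomial.ringKrullDim_of_isNoetherianRing, ringKrullDim_eq_zero_of_field, zero_add, Nat.card_fin] at hd
    exact_mod_cast hd
  subst hs
  choose r hr b hb using fun i => Ideal.Fiber.exists_smul_eq_one_tmul (p := p) (S := B) (g (MvPolynomial.X i))
  refine ⟨MvPolynomial.aeval b, ?_⟩
  let h : MvPolynomial (Fin s) p.ResidueField →ₐ[p.ResidueField] p.ResidueField ⊗[A] MvPolynomial (Fin s) A :=
    MvPolynomial.aeval fun i => (algebraMap A p.ResidueField (r i))⁻¹ • ((1 : p.ResidueField) ⊗ₜ[A] MvPolynomial.X i)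
  have hcomp : (Algebra.TensorProduct.map (AlgHom.id p.ResidueField p.ResidueField) (MvPolynomial.aeval b)).comp h = g := by
    refine MvPolynomial.algHom_ext fun i => ?_
    have hne : algebraMap A p.ResidueField (r i) ≠ 0 := fun e =>
      hr i (Ideal.algebraMap_residueField_eq_zero.mp e)
    rw [AlgHom.comp_apply, MvPolynomial.aeval_X, map_smul, Algebra.TensorProduct.map_tmul, AlgHom.id_apply,
      MvPolynomial.aeval_X, ← hb i, ← algebraMap_smul p.ResidueField (r i) (g (MvPolynomial.X i)),
      smul_smul, inv_mul_cancel₀ hne, one_smul]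
  exact RingHom.Finite.of_comp_finite (f := h.toRingHom) (by rw [← hcomp] at gfin; exact gfin)

end Groth.Agent.S7620
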