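import Groth.Statements.S7621
import Mathlib.AlgebraicGeometry.PullbackCarrier
import Mathlib.LinearAlgebra.TensorProduct.Finiteness
import Mathlib.FieldTheory.IntermediateField.Adjoin.Algebra

set_option autoImplicit false
universe u
open CategoryTheory CategoryTheory.Limits AlgebraicGeometry
open Variety

namespace Groth.Agent.S7621

/-- Let K be a (possibly infinite) Galois extension of a field k, X a scheme over k and V a
quasi-compact open subset of X_K. Then there is a subextension k'/k of K, finite over k, such that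
every k-automorphism of K fixing k' pointwise maps V onto itself under its action on X_K (an open
subgroup of the Galois group stabilises V). -/
theorem result (k : Type u) [Field k] (K : Type u) [Field K] [Algebra k K] [IsGalois k K]
    (X : Scheme.{u}) [X.Over (Spec (CommRingCat.of k))] (V : Set ↥(Curv2.bc k X K)) (hV : IsOpen V) (hVc : IsCompact V) :
    ∃ E : IntermediateField k K, FiniteDimensional k ↥E ∧
      ∀ σ : K ≃ₐ[k] K, (∀ a : K, a ∈ E → σ a = a) → (Curv2.galAct k X K σ).base '' V = V := by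
  classical
  have hloc : ∀ x ∈ V, ∃ (O : Set ↥(Curv2.bc k X K)) (s : Finset K), IsOpen O ∧ x ∈ O ∧ O ⊆ V ∧
      ∀ σ : K ≃ₐ[k] K, (∀ a ∈ s, σ a = a) → (Curv2.galAct k X K σ) '' O ⊆ O := by
    intro x hx
    obtain ⟨_, ⟨U, hU, rfl⟩, hxU, -⟩ := X.isBasis_affineOpens.exists_subset_of_mem_open
      (Set.mem_univ ((Curv2.bcFst k X K) x)) isOpen_univ
    obtain ⟨φ, hφ⟩ : ∃ φ : CommRingCat.of k ⟶ Γ(X, U),
        Spec.map φ = hU.fromSpec ≫ (X ↘ Spec (CommRingCat.of k)) := ⟨_, Spec.map_preimage _⟩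
    letI := φ.hom.toAlgebra
    let A : Type u := Γ(X, U)
    have e₁ : Spec.map (CommRingCat.ofHom (algebraMap k A)) ≫ 𝟙 _ =
        hU.fromSpec ≫ (X ↘ Spec (CommRingCat.of k)) := by
      rw [Category.comp_id]; exact hφ
    have e₂ : Spec.map (CommRingCat.ofHom (algebraMap k K)) ≫ 𝟙 _ =
        𝟙 (Spec (CommRingCat.of K)) ≫ Spec.map (CommRingCat.ofHom (algebraMap k K)) := by simp
    let j₀ := pullback.map (Spec.map (CommRingCat.ofHom (algebraMap k A)))
      (Spec.map (CommRingCat.ofHom (algebraMap k K))) (X ↘ Spec (CommRingCat.of k))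
      (Spec.map (CommRingCat.ofHom (algebraMap k K))) hU.fromSpec (𝟙 _) (𝟙 _) e₁ e₂
    haveI : IsOpenImmersion j₀ := inferInstance
    let j : Spec (CommRingCat.of (TensorProduct k A K)) ⟶ Curv2.bc k X K :=
      (pullbackSpecIso k A K).inv ≫ j₀
    haveI : IsOpenImmersion j := inferInstance
    have hj1 : j ≫ Curv2.bcFst k X K =
        Spec.map (CommRingCat.ofHom Algebra.TensorProduct.includeLeftRingHom) ≫ hU.fromSpec := by
      show (_ ≫ j₀) ≫ pullback.fst _ _ = _
      rw [Category.assoc, pullback.lift_fst, pullbackSpecIso_inv_fst_assoc]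
    have hj2 : j ≫ Curv2.bcSnd k X K =
        Spec.map (CommRingCat.ofHom (Algebra.TensorProduct.includeRight (R := k) (A := A) (B := K)).toRingHom) := by
      show (_ ≫ j₀) ≫ pullback.snd _ _ = _
      rw [Category.assoc, pullback.lift_snd, Category.comp_id, pullbackSpecIso_inv_snd]
      rfl
    have hxj : x ∈ Set.range j := by
      have hr : x ∈ Set.range j₀ := by
        rw [Scheme.Pullback.range_map]
        refine ⟨?_, ⟨_, rfl⟩⟩
        show (Curv2.bcFst k X K) x ∈ Set.range hU.fromSpec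
        rw [hU.range_fromSpec]
        exact hxU
      obtain ⟨z, hz⟩ := hr
      refine ⟨(pullbackSpecIso k A K).hom z, ?_⟩
      show ((pullbackSpecIso k A K).inv ≫ j₀) _ = x
      rw [Scheme.Hom.comp_apply, ← Scheme.Hom.comp_apply _ (pullbackSpecIso k A K).inv, Iso.hom_inv_id]
      exact hz
    obtain ⟨y, rfl⟩ := hxj
    obtain ⟨_, ⟨g, rfl⟩, hyg, hgV⟩ :=
      PrimeSpectrum.isTopologicalBasis_basic_opens.exists_subset_of_mem_open
        (show y ∈ j ⁻¹' V from hx) (hV.preimage j.continuous)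
    obtain ⟨S, hS⟩ := TensorProduct.exists_finset (R := k) g
    refine ⟨j '' (PrimeSpectrum.basicOpen g : Set (PrimeSpectrum (TensorProduct k A K))), S.image Prod.snd,
      j.isOpenEmbedding.isOpenMap _ (PrimeSpectrum.basicOpen g).isOpen, ⟨y, hyg, rfl⟩,
      Set.image_subset_iff.2 hgV, fun σ hσ => ?_⟩
    let m : TensorProduct k A K →ₐ[k] TensorProduct k A K :=
      Algebra.TensorProduct.map (AlgHom.id k A) (σ : K →ₐ[k] K)
    have hmg : m g = g := by
      rw [hS, map_sum]
      refine Finset.sum_congr rfl fun q hq => ?_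
      show m (q.1 ⊗ₜ[k] q.2) = q.1 ⊗ₜ[k] q.2
      rw [Algebra.TensorProduct.map_tmul]
      exact congrArg (q.1 ⊗ₜ[k] ·) (hσ _ (Finset.mem_image_of_mem _ hq))
    have hcomm : j ≫ Curv2.galAct k X K σ = Spec.map (CommRingCat.ofHom m.toRingHom) ≫ j := by
      apply pullback.hom_ext
      · rw [Category.assoc, Category.assoc]
        show j ≫ Curv2.galAct k X K σ ≫ pullback.fst _ _ = _ ≫ j ≫ Curv2.bcFst k X K
        rw [show Curv2.galAct k X K σ ≫ pullback.fst _ _ = Curv2.bcFst k X K from
          (pullback.lift_fst _ _ _).trans (Category.comp_id _), hj1, ← Spec.map_comp_assoc]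
        congr 2
        ext a
        show a ⊗ₜ[k] (1 : K) = m (a ⊗ₜ[k] (1 : K))
        simp [m]
      · rw [Category.assoc, Category.assoc]
        show j ≫ Curv2.galAct k X K σ ≫ pullback.snd _ _ = _ ≫ j ≫ Curv2.bcSnd k X K
        rw [show Curv2.galAct k X K σ ≫ pullback.snd _ _ = Curv2.bcSnd k X K ≫
            Spec.map (CommRingCat.ofHom (σ : K →ₐ[k] K).toRingHom) from pullback.lift_snd _ _ _,
          ← Category.assoc, hj2, ← Spec.map_comp, ← Spec.map_comp]
        congr 1
    rintro _ ⟨_, ⟨z, hz, rfl⟩, rfl⟩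
    refine ⟨Spec.map (CommRingCat.ofHom m.toRingHom) z, ?_, ?_⟩
    · show g ∉ Ideal.comap m.toRingHom z.asIdeal
      rw [Ideal.mem_comap]
      show m g ∉ z.asIdeal
      rw [hmg]; exact hz
    · rw [← Scheme.Hom.comp_apply, ← hcomm, Scheme.Hom.comp_apply]
  choose O s hO hxO hOV hinv using hloc
  obtain ⟨t, ht⟩ := hVc.elim_finite_subcover (fun x : V => O x.1 x.2) (fun x => hO _ _)
    (fun x hx => Set.mem_iUnion.2 ⟨⟨x, hx⟩, hxO x hx⟩)
  let T : Finset K := t.biUnion fun x => s x.1 x.2
  refine ⟨IntermediateField.adjoin k (T : Set K),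
    IntermediateField.finiteDimensional_adjoin fun a _ => Algebra.IsIntegral.isIntegral a,
    fun σ hσ => ?_⟩
  have hsub : ∀ τ : K ≃ₐ[k] K, (∀ a : K, a ∈ IntermediateField.adjoin k (T : Set K) → τ a = a) →
      (Curv2.galAct k X K τ).base '' V ⊆ V := by
    rintro τ hτ _ ⟨v, hv, rfl⟩
    obtain ⟨x, hxt, hvx⟩ := Set.mem_iUnion₂.1 (ht hv)
    exact hOV x.1 x.2 (hinv x.1 x.2 τ (fun a ha => hτ a (IntermediateField.subset_adjoin k _
      (Finset.mem_biUnion.2 ⟨x, hxt, ha⟩))) ⟨v, hvx, rfl⟩)
  refine le_antisymm (hsub σ hσ) fun v hv => ⟨(Curv2.galAct k X K σ.symm) v, ?_, ?_⟩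
  · exact hsub σ.symm (fun a ha => σ.injective (by rw [σ.apply_symm_apply, hσ a ha])) ⟨v, hv, rfl⟩
  · have hinvol : Curv2.galAct k X K σ.symm ≫ Curv2.galAct k X K σ = 𝟙 _ := by
      apply pullback.hom_ext
      · rw [Category.assoc, Category.id_comp, show Curv2.galAct k X K σ ≫ pullback.fst _ _ = Curv2.bcFst k X K from
          (pullback.lift_fst _ _ _).trans (Category.comp_id _)]
        exact (pullback.lift_fst _ _ _).trans (Category.comp_id _)
      · rw [Category.assoc, Category.id_comp, show Curv2.galAct k X K σ ≫ pullback.snd _ _ = Curv2.bcSnd k X K ≫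
            Spec.map (CommRingCat.ofHom (σ : K →ₐ[k] K).toRingHom) from pullback.lift_snd _ _ _,
          ← Category.assoc, show Curv2.galAct k X K σ.symm ≫ Curv2.bcSnd k X K = Curv2.bcSnd k X K ≫
            Spec.map (CommRingCat.ofHom (σ.symm : K →ₐ[k] K).toRingHom) from pullback.lift_snd _ _ _,
          Category.assoc, ← Spec.map_comp]
        refine (congrArg (fun q => pullback.snd _ _ ≫ Spec.map q) ?_).trans (by rw [Spec.map_id, Category.comp_id])
        ext b
        exact σ.symm_apply_apply b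
    show (Curv2.galAct k X K σ) ((Curv2.galAct k X K σ.symm) v) = v
    rw [← Scheme.Hom.comp_apply, hinvol]
    rfl

end Groth.Agent.S7621
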