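import Groth.Statements.S7622
import Groth.Agent.L01.CohenRing
import Groth.Agent.L03.GeomReduced
import Mathlib.RingTheory.Smooth.Basic

set_option autoImplicit false
universe u
open CategoryTheory CategoryTheory.Limits AlgebraicGeometry
open Variety

namespace Groth.Agent.S7622

open IsLocalRing

/-- a formally smooth map to the residue field lifts to a complete local algebra -/
theorem exists_algHom_lift {k κ R : Type u} [Field k] [CommRing κ] [Algebra k κ] [Algebra.FormallySmooth k κ]
    [CommRing R] [Algebra k R] [IsLocalRing R] [IsAdicComplete (maximalIdeal R) R]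
    (f : κ →ₐ[k] R ⧸ maximalIdeal R ^ 1) :
    ∃ F : κ →ₐ[k] R, ∀ x, Ideal.Quotient.mk (maximalIdeal R ^ 1) (F x) = f x := by
  let m := maximalIdeal R
  have step : ∀ (n : ℕ) (g : κ →ₐ[k] R ⧸ m ^ (n + 1)), ∃ h : κ →ₐ[k] R ⧸ m ^ (n + 1 + 1),
      ∀ x, Ideal.Quotient.factor (Ideal.pow_le_pow_right (Nat.le_succ (n + 1))) (h x) = g x := fun n g => by
    let π : R ⧸ m ^ (n + 1 + 1) →ₐ[k] R ⧸ m ^ (n + 1) :=
      AlgHom.mk (Ideal.Quotient.factor (Ideal.pow_le_pow_right (Nat.le_succ (n + 1)))) fun _ => rfl
    have hnil : IsNilpotent (RingHom.ker (π : R ⧸ m ^ (n + 1 + 1) →+* R ⧸ m ^ (n + 1))) :=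
      ⟨2, Groth.L01.Cohen.ker_factor_sq n⟩
    have hs : Function.Surjective π :=
      Ideal.Quotient.factor_surjective (Ideal.pow_le_pow_right (Nat.le_succ (n + 1)) : m ^ (n + 1 + 1) ≤ m ^ (n + 1))
    exact ⟨Algebra.FormallySmooth.liftOfSurjective g π hs hnil,
      fun x => Algebra.FormallySmooth.liftOfSurjective_apply g π hs hnil x⟩
  choose h hh using step
  let g : ∀ n, κ →ₐ[k] R ⧸ m ^ (n + 1) := fun n => Nat.rec f (fun n g => h n g) n
  have ha : StrictMono fun n : ℕ => n + 1 := strictMono_nat_of_lt_succ fun n => Nat.lt_succ_self _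
  have hg : ∀ {i : ℕ}, (Ideal.Quotient.factorPow m (ha.monotone i.le_succ)).comp (g (i + 1)).toRingHom =
      (g i).toRingHom := fun {i} => RingHom.ext fun x => hh i (g i) x
  let F := IsAdicComplete.StrictMono.liftRingHom m ha (fun n => (g n).toRingHom) hg
  have hF : ∀ n x, Ideal.Quotient.mk (m ^ (n + 1)) (F x) = g n x := fun n x =>
    IsAdicComplete.StrictMono.mk_liftRingHom m ha _ hg (n := n) x
  refine ⟨AlgHom.mk F fun c => ?_, fun x => hF 0 x⟩
  refine sub_eq_zero.mp (IsHausdorff.haus (I := m) inferInstance _ fun n => ?_)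
  rw [SModEq.zero, smul_eq_mul, Ideal.mul_top]
  refine Ideal.pow_le_pow_right n.le_succ ?_
  rw [← Ideal.Quotient.eq]
  exact (hF n (algebraMap k κ c)).trans ((g n).commutes c)

/-- Let A be a Noetherian local algebra over a field k (such as the local ring of a locally Noetherian
k-scheme at a point) whose residue field κ is a separable extension of k, meaning geometrically
reduced over k; κ need not be algebraic over k. Then there are n ≥ 0, an ideal I of κ[[x_1, …, x_n]]
and a k-algebra isomorphism e from κ[[x_1, …, x_n]]/I onto the completion A^∧ of A at its maximal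
ideal which induces the identity on residue fields: for every a in A, the value of e on the constant
power series whose value is the residue class of a is congruent to the image of a modulo the
extended maximal ideal of A^∧. -/
theorem result (k A : Type u) [Field k] [CommRing A] [Algebra k A]
    [IsNoetherianRing A] [IsLocalRing A] [Algebra.IsGeometricallyReduced k (IsLocalRing.ResidueField A)] :
    ∃ (n : ℕ) (I : Ideal (MvPowerSeries (Fin n) (IsLocalRing.ResidueField A)))
      (e : (MvPowerSeries (Fin n) (IsLocalRing.ResidueField A) ⧸ I) ≃ₐ[k]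
        AdicCompletion (IsLocalRing.maximalIdeal A) A),
      ∀ a : A, e (Ideal.Quotient.mk I (MvPowerSeries.C (IsLocalRing.residue A a))) -
          algebraMap A (AdicCompletion (IsLocalRing.maximalIdeal A) A) a ∈
        (IsLocalRing.maximalIdeal A).map (algebraMap A (AdicCompletion (IsLocalRing.maximalIdeal A) A)) := by
  let R := AdicCompletion (maximalIdeal A) A
  let κ := ResidueField A
  haveI : Algebra.FormallySmooth k κ := (Groth.L03.GeomReduced.formallySmooth_iff k κ).2 inferInstance
  let ρ : κ →+* ResidueField R := ResidueField.map (algebraMap A R)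
  let f : κ →ₐ[k] R ⧸ maximalIdeal R ^ 1 :=
    AlgHom.mk ((Ideal.quotEquivOfEq (pow_one (maximalIdeal R)).symm).toRingHom.comp ρ) fun c => by
      show Ideal.quotEquivOfEq _ (ρ (residue A (algebraMap k A c))) = _
      rw [ResidueField.map_residue, ← IsScalarTower.algebraMap_apply k A R]
      rfl
  obtain ⟨F, hF⟩ := exists_algHom_lift f
  have hres : ∀ x, residue R (F x) = ρ x := fun x => by
    have h := congrArg (Ideal.quotEquivOfEq (pow_one (maximalIdeal R))) (hF x)
    have hsymm : maximalIdeal R = maximalIdeal R ^ 1 := (pow_one _).symm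
    obtain ⟨r, hr⟩ := residue_surjective (ρ x)
    have h2 : f x = Ideal.Quotient.mk _ r := by
      show Ideal.quotEquivOfEq hsymm (ρ x) = _
      rw [← hr]
      rfl
    rw [h2] at h
    rw [← hr]
    exact h
  obtain ⟨n, y, hy⟩ := Submodule.fg_iff_exists_fin_generating_family.mp
    ((maximalIdeal A).fg_of_isNoetherianRing)
  have hx : Ideal.span (Set.range fun i => algebraMap A R (y i)) = maximalIdeal R := by
    have h1 : Ideal.span (Set.range y) = maximalIdeal A := hy
    have h2 := congrArg (Ideal.map (algebraMap A R)) h1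
    rw [Ideal.map_span, ← Set.range_comp] at h2
    exact h2.trans AdicCompletion.maximalIdeal_eq_map.symm
  obtain ⟨φ, hC, -, hsurj⟩ := Groth.L01.Cohen.exists_surjective_powerSeries (A := κ) F.toRingHom (fun y => by
    obtain ⟨z, hz⟩ := (AdicCompletion.residueField_map_bijective_of_fg
      (maximalIdeal A).fg_of_isNoetherianRing).2 y
    exact ⟨z, (hres z).trans hz⟩) _ hx
  let ψ : MvPowerSeries (Fin n) κ →ₐ[k] R := AlgHom.mk φ fun c => by
    change φ (algebraMap k (MvPowerSeries (Fin n) κ) c) = algebraMap k R c
    rw [IsScalarTower.algebraMap_apply k κ (MvPowerSeries (Fin n) κ), MvPowerSeries.algebraMap_apply, Algebra.algebraMap_self_apply]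
    rw [← RingHom.comp_apply, hC]
    exact F.commutes c
  refine ⟨n, RingHom.ker ψ, Ideal.quotientKerAlgEquivOfSurjective (f := ψ) hsurj, fun a => ?_⟩
  rw [← AdicCompletion.maximalIdeal_eq_map, ← residue_eq_zero_iff, map_sub]
  show residue R (φ (MvPowerSeries.C (residue A a))) - residue R (algebraMap A R a) = 0
  rw [← RingHom.comp_apply φ, hC, sub_eq_zero]
  exact (hres _).trans (ResidueField.map_residue _ a)

end Groth.Agent.S7622
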