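import Groth.Statements.S7623
import Groth.Agent.L05.SmoothCrit.Projective
import Groth.Agent.L03.FieldFS

set_option autoImplicit false
universe u
open CategoryTheory CategoryTheory.Limits AlgebraicGeometry
open Variety

namespace Groth.Agent.S7623

/-- Let k be a perfect field and A a reduced finite type k-algebra such that Ω_{A/k} is a projective
A-module (locally free, as it is finitely presented). Then A is smooth over k. The scheme statement,
X reduced and locally of finite type over k with Ω_{X/k} locally free is smooth over k, is this
assertion on affine opens. -/
theorem result (k A : Type u) [Field k] [PerfectField k] [CommRing A] [Algebra k A]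
    [Algebra.FiniteType k A] [_root_.IsReduced A] [Module.Projective A Ω[A⁄k]] : Algebra.Smooth k A := by
  haveI : Algebra.FinitePresentation k A := Algebra.FinitePresentation.of_finiteType.mp ‹Algebra.FiniteType k A›
  refine ⟨(Algebra.smoothLocus_eq_univ_iff (R := k) (A := A)).mp (Set.eq_univ_of_forall fun q => ?_), inferInstance⟩
  exact Groth.L05.SmoothCrit.isSmoothAt_of_projective (fun p _ hp => by
    letI := (Groth.L05.SmoothCrit.isField_atPrime_of_mem_minimalPrimes p hp).toField
    haveI : Algebra.IsGeometricallyReduced k (Localization.AtPrime p) :=
      (Groth.L03.GeomReduced.formallySmooth_iff k (Localization.AtPrime p)).mp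
        (Groth.L03.FieldFS.formallySmooth_of_perfectField k _)
    exact Groth.L05.SmoothCrit.isSmoothAt_of_minimal p hp) q.asIdeal

end Groth.Agent.S7623
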