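import Groth.Statements.S7625
import Groth.Agent.L07.EquidimCrit
import Groth.Agent.L07.FibreDimSemi

set_option autoImplicit false
universe u
open CategoryTheory CategoryTheory.Limits AlgebraicGeometry
open Variety

namespace Groth.Agent.S7625

/-- Let f : X → S be locally of finite type, x a point of X with image s, V an affine open neighbourhood
of s in S, and suppose dim_x(X_s) = d. Then there is an affine open neighbourhood U of x with f(U) ⊆
V and a factorisation of f|_U as U → 𝔸^d_V → V with U → 𝔸^d_V locally quasi-finite and locally of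
finite type (hence quasi-finite, U being affine). -/
theorem result {X S : Scheme.{u}} (f : X ⟶ S) [LocallyOfFiniteType f] (x : ↥X)
    (V : S.Opens) (hV : IsAffineOpen V) (hxV : f x ∈ V) (d : ℕ) (hd : FlatMor.fibreDimAt f x = d) :
    ∃ (U : X.Opens), IsAffineOpen U ∧ x ∈ U ∧
      ∃ (g : (U : Scheme.{u}) ⟶ (V : Scheme.{u})) (π : (U : Scheme.{u}) ⟶ 𝔸(ULift.{u} (Fin d); (V : Scheme.{u}))),
        g ≫ V.ι = U.ι ≫ f ∧ π ≫ (𝔸(ULift.{u} (Fin d); (V : Scheme.{u})) ↘ (V : Scheme.{u})) = g ∧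
          LocallyQuasiFinite π ∧ LocallyOfFiniteType π := by
  classical
  obtain ⟨U₀, hxU₀, hU₀⟩ := (Groth.L07.FibreDim.fibreDimAt_le_iff f x (d : WithBot ℕ∞)).mp hd.le
  let P : X.Opens := f ⁻¹ᵁ V
  let x' : (P : Scheme.{u}) := ⟨x, hxV⟩
  have hres : ∀ w : (P : Scheme.{u}), V.ι ((f ∣_ V) w) = f (P.ι w) := fun w => by
    rw [← Scheme.Hom.comp_apply, ← Scheme.Hom.comp_apply, morphismRestrict_ι]
  have hdim : topologicalKrullDim (((P.ι ⁻¹ᵁ U₀ : (P : Scheme.{u}).Opens) : Set (P : Scheme.{u})) ∩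
      (f ∣_ V) ⁻¹' {(f ∣_ V) x'} : Set (P : Scheme.{u})) ≤ (d : WithBot ℕ∞) := by
    refine le_of_eq_of_le (Groth.L22.SchemeDim.topologicalKrullDim_eq_of_isEmbedding
      (f := fun w : ↥(((P.ι ⁻¹ᵁ U₀ : (P : Scheme.{u}).Opens) : Set (P : Scheme.{u})) ∩
        (f ∣_ V) ⁻¹' {(f ∣_ V) x'}) => P.ι w.1)
      (P.ι.isEmbedding.comp Topology.IsEmbedding.subtypeVal) rfl).symm
      ((Groth.L22.SchemeDim.topologicalKrullDim_mono ?_).trans hU₀)
    rintro _ ⟨⟨w, hw1, hw2⟩, rfl⟩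
    refine ⟨hw1, ?_⟩
    show f (P.ι w) = f x
    rw [← hres, (show (f ∣_ V) w = (f ∣_ V) x' from hw2), hres]
    rfl
  haveI : LocallyOfFiniteType (f ∣_ V) := IsZariskiLocalAtTarget.restrict (P := @LocallyOfFiniteType) inferInstance V
  obtain ⟨D, g₀, hxD, -, hg₀, hqf⟩ :=
    Groth.L07.Equidim.exists_qf_affineSpace (f ∣_ V) (P.ι ⁻¹ᵁ U₀) x' hxU₀ d hdim
  obtain ⟨W, hW, hxW, hWD⟩ := exists_isAffineOpen_mem_and_subset hxD
  let e := P.ι.isoImage W
  haveI : LocallyQuasiFinite g₀ := hqf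
  let π₀ := (P : Scheme.{u}).homOfLE hWD ≫ g₀
  have hπ₀ : π₀ ≫ (𝔸(ULift.{u} (Fin d); (V : Scheme.{u})) ↘ (V : Scheme.{u})) = W.ι ≫ (f ∣_ V) := by
    rw [Category.assoc, hg₀, Scheme.homOfLE_ι_assoc]
  haveI : LocallyOfFiniteType π₀ := by
    haveI : LocallyOfFiniteType (π₀ ≫ (𝔸(ULift.{u} (Fin d); (V : Scheme.{u})) ↘ (V : Scheme.{u}))) := by
      rw [hπ₀]; infer_instance
    exact locallyOfFiniteType_of_comp π₀ (𝔸(ULift.{u} (Fin d); (V : Scheme.{u})) ↘ (V : Scheme.{u}))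
  refine ⟨P.ι ''ᵁ W, hW.image_of_isOpenImmersion _, ⟨x', hxW, rfl⟩, e.inv ≫ W.ι ≫ (f ∣_ V), e.inv ≫ π₀,
    ?_, ?_, inferInstance, inferInstance⟩
  · rw [Category.assoc, Category.assoc, morphismRestrict_ι, ← Scheme.Hom.isoImage_inv_ι P.ι W]
    simp [e, P]
  · rw [Category.assoc, hπ₀]

end Groth.Agent.S7625
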