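import Groth.Statements.S7627
import Groth.Agent.L07.FieldStalk
import Mathlib.RingTheory.Ideal.KrullsHeightTheorem
import Mathlib.LinearAlgebra.TensorProduct.RightExactness
import Mathlib.RingTheory.RingHom.Flat

set_option autoImplicit false
set_option maxSynthPendingDepth 3
set_option synthInstance.maxHeartbeats 400000
set_option maxHeartbeats 800000
set_option backward.isDefEq.respectTransparency false
set_option backward.isDefEq.respectTransparency.types false
set_option linter.style.haveILetI false
universe u
open CategoryTheory CategoryTheory.Limits AlgebraicGeometry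
attribute [local instance] Curv2.resAlgebra
open scoped TensorProduct
open Variety

attribute [local instance] Curv2.stalkAlgebra Algebra.TensorProduct.rightAlgebra
namespace Groth.Agent.S7627

/-- Let X be locally of finite type over a field k, K an extension field of k, y a point of X_K with
image x in X. Assume dim O_{X, x} = dim O_{X_K, y} and that κ(x) ⊗_k K is reduced (for instance
κ(x)/k separable or K/k separable). Then m_x O_{X_K, y} = m_y. -/
theorem result (k : Type u) [Field k] (X : Scheme.{u}) [X.Over (Spec (CommRingCat.of k))] [LocallyOfFiniteType (X ↘ (Spec (CommRingCat.of k)))]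
    (K : Type u) [Field K] [Algebra k K] (y : ↥(Curv2.bc k X K))
    (hdim : ringKrullDim ↥(X.presheaf.stalk (Curv2.bcFst k X K y)) = ringKrullDim ↥((Curv2.bc k X K).presheaf.stalk y))
    (hred : _root_.IsReduced (X.residueField (Curv2.bcFst k X K y) ⊗[k] K)) :
    Ideal.map ((Curv2.bcFst k X K).stalkMap y).hom (IsLocalRing.maximalIdeal ↥(X.presheaf.stalk (Curv2.bcFst k X K y))) =
      IsLocalRing.maximalIdeal ↥((Curv2.bc k X K).presheaf.stalk y) := by
  let p := Curv2.bcFst k X K
  let O := X.presheaf.stalk (p y)
  let B := (Curv2.bc k X K).presheaf.stalk y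
  haveI : IsLocallyNoetherian (Curv2.bc k X K) := LocallyOfFiniteType.isLocallyNoetherian (Curv2.bcSnd k X K)
  haveI : IsLocallyNoetherian X := LocallyOfFiniteType.isLocallyNoetherian (X ↘ Spec (CommRingCat.of k))
  haveI : IsNoetherianRing B := inferInstanceAs (IsNoetherianRing ((Curv2.bc k X K).presheaf.stalk y))
  haveI : IsNoetherianRing O := inferInstanceAs (IsNoetherianRing (X.presheaf.stalk (p y)))
  obtain ⟨Q, e, hQ, he⟩ := Groth.L07.FieldStalk.exists_point_compat k X K y
  let RK := K ⊗[k] O
  letI : Algebra RK B := (e.symm.toRingHom.comp (algebraMap RK (Localization.AtPrime Q.asIdeal))).toAlgebra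
  letI : Algebra O B := (p.stalkMap y).hom.toAlgebra
  haveI : IsScalarTower O RK B := IsScalarTower.of_algebraMap_eq fun o => by
    show (p.stalkMap y).hom o = e.symm (algebraMap RK _ ((Algebra.TensorProduct.includeRight : O →ₐ[k] RK) o))
    rw [← he o]
    exact (e.symm_apply_apply _).symm
  haveI : IsLocalization.AtPrime B Q.asIdeal := IsLocalization.isLocalization_of_algEquiv Q.asIdeal.primeCompl
    (AlgEquiv.ofRingEquiv (f := e.symm) fun r => rfl)
  haveI : IsLocalHom (algebraMap O B) := inferInstanceAs (IsLocalHom (p.stalkMap y).hom)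
  haveI : Module.Flat O B := by
    haveI : Module.Flat RK B := IsLocalization.flat B Q.asIdeal.primeCompl
    haveI : Module.Flat O RK := by
      have h : (Algebra.TensorProduct.includeRight : O →ₐ[k] RK).toRingHom.Flat := by
        have h1 : (algebraMap O (O ⊗[k] K)).Flat := RingHom.flat_algebraMap_iff.mpr inferInstance
        have h2 : (Algebra.TensorProduct.includeRight : O →ₐ[k] RK).toRingHom =
            (Algebra.TensorProduct.comm k O K).toRingEquiv.toRingHom.comp (algebraMap O (O ⊗[k] K)) :=
          RingHom.ext fun o => by simp [RK]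
        rw [h2]
        exact h1.comp (RingHom.Flat.of_bijective (Algebra.TensorProduct.comm k O K).bijective)
      exact h
    exact Module.Flat.trans O RK B
  show (IsLocalRing.maximalIdeal O).map (algebraMap O B) = IsLocalRing.maximalIdeal B
  let I := (IsLocalRing.maximalIdeal O).map (algebraMap O B)
  have hIle : I ≤ IsLocalRing.maximalIdeal B :=
    Ideal.map_le_iff_le_comap.mpr (IsLocalRing.maximalIdeal_comap (algebraMap O B)).ge
  haveI : Algebra.HasGoingDown O B := Algebra.HasGoingDown.of_flat
  have hrad : IsLocalRing.maximalIdeal B ≤ I.radical := by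
    rw [Ideal.radical_eq_sInf]
    refine le_sInf fun P hP => ?_
    haveI := hP.2
    by_contra hne
    have hlt : P < IsLocalRing.maximalIdeal B :=
      lt_of_le_of_ne (IsLocalRing.le_maximalIdeal hP.2.ne_top) fun h => hne h.ge
    haveI : P.LiesOver (IsLocalRing.maximalIdeal O) :=
      ⟨(IsLocalRing.maximalIdeal.isMaximal O).eq_of_le (Ideal.comap_ne_top _ hP.2.ne_top)
        (Ideal.map_le_iff_le_comap.mp hP.1)⟩
    have h1 := Ideal.height_eq_height_add_of_liesOver_of_hasGoingDown (IsLocalRing.maximalIdeal O) P
    have h2 : P.height < (IsLocalRing.maximalIdeal B).height := Ideal.height_strict_mono_of_isPrime hlt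
    have h3 : ((IsLocalRing.maximalIdeal O).height : WithBot ℕ∞) = (IsLocalRing.maximalIdeal B).height := by
      rw [IsLocalRing.maximalIdeal_height_eq_ringKrullDim, IsLocalRing.maximalIdeal_height_eq_ringKrullDim]
      exact hdim
    rw [h1, ← WithBot.coe_inj.mp h3] at h2
    exact absurd h2 (not_lt.mpr le_self_add)
  let res : O →ₐ[k] X.residueField (p y) := { (X.residue (p y)).hom with commutes' := fun c => rfl }
  let ψ : RK →ₐ[k] X.residueField (p y) ⊗[k] K :=
    (Algebra.TensorProduct.comm k K (X.residueField (p y))).toAlgHom.comp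
      (Algebra.TensorProduct.map (AlgHom.id k K) res)
  have hsurj : Function.Surjective res := Ideal.Quotient.mk_surjective
  have hker : RingHom.ker ψ.toRingHom = (IsLocalRing.maximalIdeal O).map (algebraMap O RK) := by
    have h1 : RingHom.ker ψ.toRingHom = RingHom.ker (Algebra.TensorProduct.map (AlgHom.id k K) res) :=
      RingHom.ker_comp_of_injective _ (Algebra.TensorProduct.comm k K (X.residueField (p y))).injective
    rw [h1, Algebra.TensorProduct.lTensor_ker res hsurj]
    congr 1
    exact Ideal.mk_ker
  refine le_antisymm hIle fun b hb => ?_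
  obtain ⟨N, hN⟩ := hrad hb
  obtain ⟨a, s, rfl⟩ := IsLocalization.exists_mk'_eq Q.asIdeal.primeCompl b
  have hI : I = ((IsLocalRing.maximalIdeal O).map (algebraMap O RK)).map (algebraMap RK B) := by
    rw [Ideal.map_map, ← IsScalarTower.algebraMap_eq]
  show _ ∈ I
  rw [hI] at hN ⊢
  rw [IsLocalization.mk'_mem_map_algebraMap_iff]
  rw [← IsLocalization.mk'_pow, IsLocalization.mk'_mem_map_algebraMap_iff] at hN
  obtain ⟨t, ht, htN⟩ := hN
  refine ⟨t, ht, ?_⟩
  rw [← hker, RingHom.mem_ker] at htN ⊢
  refine IsNilpotent.eq_zero ⟨N + 1, ?_⟩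
  rw [← map_pow, mul_pow, show t ^ (N + 1) * a ^ (N + 1) = t ^ N * a * (t * a ^ N) by ring, map_mul, htN, mul_zero]

end Groth.Agent.S7627
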