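import Groth.Statements.S7628
import Groth.Agent.L19.Limit.OverBase
import Groth.Agent.L02.ConsP.FGA

set_option autoImplicit false
set_option backward.isDefEq.respectTransparency.types false
set_option backward.isDefEq.respectTransparency false
set_option linter.style.haveILetI false
universe u
open CategoryTheory CategoryTheory.Limits AlgebraicGeometry
open Variety

namespace Groth.Agent.S7628

/-- Let X be a scheme over a field k, A a k-algebra and V ⊆ X_A = X ×_k Spec A a quasi-compact open
subset. Then there are a finitely generated k-subalgebra A' ⊆ A and a quasi-compact open subset V' ⊆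
X_{A'} such that V is the inverse image of V' under the transition morphism X_A → X_{A'} (any
morphism compatible with the projections to X and with Spec A → Spec A'; it is unique). -/
theorem result (k : Type u) [Field k] (X : Scheme.{u}) [X.Over (Spec (CommRingCat.of k))] (A : Type u) [CommRing A] [Algebra k A]
    (V : Set ↥(pullback (X ↘ (Spec (CommRingCat.of k))) (Spec.map (CommRingCat.ofHom (algebraMap k A))))) (hV : IsOpen V) (hVc : IsCompact V) :
    ∃ (A' : Subalgebra k A), A'.FG ∧
      ∃ (V' : Set ↥(pullback (X ↘ (Spec (CommRingCat.of k))) (Spec.map (CommRingCat.ofHom (algebraMap k ↥A'))))), IsOpen V' ∧ IsCompact V' ∧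
        ∀ π : pullback (X ↘ (Spec (CommRingCat.of k))) (Spec.map (CommRingCat.ofHom (algebraMap k A))) ⟶
            pullback (X ↘ (Spec (CommRingCat.of k))) (Spec.map (CommRingCat.ofHom (algebraMap k ↥A'))),
          π ≫ pullback.fst _ _ = pullback.fst _ _ →
          π ≫ pullback.snd _ _ = pullback.snd _ _ ≫ Spec.map (CommRingCat.ofHom A'.val.toRingHom) →
            π.base ⁻¹' V' = V := by
  obtain ⟨i, W, hW, hWV⟩ := Groth.L19.Limit.exists_stage_open (D := L02.ConsP.FGA.specDiagram k A)
    (c := L02.ConsP.FGA.specCone k A) (X ↘ (Spec (CommRingCat.of k)))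
    (fun i => Spec.map (CommRingCat.ofHom (algebraMap k i.unop.1)))
    (fun φ => by show Spec.map _ ≫ Spec.map _ = _; rw [← Spec.map_comp]; rfl)
    (Spec.map (CommRingCat.ofHom (algebraMap k A)))
    (fun i => by show Spec.map _ ≫ Spec.map _ = _; rw [← Spec.map_comp]; rfl)
    (L02.ConsP.FGA.isLimitSpecCone k A) ⟨V, hV⟩ hVc
  refine ⟨i.unop.1, i.unop.2, (W : Set _), W.2, hW, ?_⟩
  intro π h1 h2
  have hπ : π = pullback.map _ _ _ _ (𝟙 X) ((L02.ConsP.FGA.specCone k A).π.app i) (𝟙 _) (by simp)
      (by rw [Category.comp_id]; show _ = Spec.map _ ≫ Spec.map _; rw [← Spec.map_comp]; rfl) := by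
    apply pullback.hom_ext
    · rw [h1]; simp
    · rw [h2]; simp; rfl
  subst hπ
  exact congrArg (fun U : Scheme.Opens (pullback (X ↘ (Spec (CommRingCat.of k))) (Spec.map (CommRingCat.ofHom (algebraMap k A)))) => (U : Set ↥(pullback (X ↘ (Spec (CommRingCat.of k))) (Spec.map (CommRingCat.ofHom (algebraMap k A)))))) hWV

end Groth.Agent.S7628
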