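import Groth.Statements.S7629
import Groth.Agent.L19.BiratStalk
import Groth.Agent.L07.FieldStalk
-- import your own Groth.Agent.* helpers here

set_option autoImplicit false
universe u
open CategoryTheory CategoryTheory.Limits AlgebraicGeometry
open Variety

namespace Groth.Agent.S7629

/-- (2) ⇒ (3): let X and Y be varieties over a field k (integral, separated, of finite type) and suppose
the function fields k(X) and k(Y) are isomorphic as k-algebras. Then there are nonempty open
subschemes U ⊆ X and V ⊆ Y which are isomorphic as schemes over k. -/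
theorem result (k : Type u) [Field k] (X : Scheme.{u}) [X.Over (Spec (CommRingCat.of k))] [IsIntegral X] [IsSeparated (X ↘ (Spec (CommRingCat.of k)))] [LocallyOfFiniteType (X ↘ (Spec (CommRingCat.of k)))] [QuasiCompact (X ↘ (Spec (CommRingCat.of k)))]
    (Y : Scheme.{u}) [Y.Over (Spec (CommRingCat.of k))] [IsIntegral Y] [IsSeparated (Y ↘ (Spec (CommRingCat.of k)))] [LocallyOfFiniteType (Y ↘ (Spec (CommRingCat.of k)))] [QuasiCompact (Y ↘ (Spec (CommRingCat.of k)))]
    (e : X.functionField ≅ Y.functionField)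
    (he : e.hom.hom.comp (Curv2.stalkMap k X (genericPoint X)) = Curv2.stalkMap k Y (genericPoint Y)) :
    ∃ (U : X.Opens) (V : Y.Opens), (U : Set ↥X).Nonempty ∧
      ∃ φ : (U : Scheme.{u}) ≅ (V : Scheme.{u}), φ.hom ≫ V.ι ≫ (Y ↘ (Spec (CommRingCat.of k))) = U.ι ≫ (X ↘ (Spec (CommRingCat.of k))) := by
  let sX := X ↘ (Spec (CommRingCat.of k))
  let sY := Y ↘ (Spec (CommRingCat.of k))
  have hcomm : CommRingCat.ofHom (Curv2.stalkMap k X (genericPoint X)) ≫ e.hom =
      CommRingCat.ofHom (Curv2.stalkMap k Y (genericPoint Y)) := CommRingCat.hom_ext he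
  have hcomm' : CommRingCat.ofHom (Curv2.stalkMap k Y (genericPoint Y)) ≫ e.inv =
      CommRingCat.ofHom (Curv2.stalkMap k X (genericPoint X)) := by
    rw [← hcomm, Category.assoc, Iso.hom_inv_id, Category.comp_id]
  have h1 : (Spec.map e.inv ≫ Y.fromSpecStalk (genericPoint Y)) ≫ sY = X.fromSpecStalk (genericPoint X) ≫ sX := by
    rw [Category.assoc, ← Groth.L07.FieldStalk.SpecMap_stalkMap, ← Groth.L07.FieldStalk.SpecMap_stalkMap,
      ← Spec.map_comp, hcomm']
  have h2 : (Spec.map e.hom ≫ X.fromSpecStalk (genericPoint X)) ≫ sX = Y.fromSpecStalk (genericPoint Y) ≫ sY := by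
    rw [Category.assoc, ← Groth.L07.FieldStalk.SpecMap_stalkMap, ← Groth.L07.FieldStalk.SpecMap_stalkMap,
      ← Spec.map_comp, hcomm]
  obtain ⟨U, hxU, f, hf, hfS⟩ := spread_out_of_isGermInjective' sX sY _ h1
  obtain ⟨V, hyV, g, hg, hgS⟩ := spread_out_of_isGermInjective' sY sX _ h2
  obtain ⟨U₁, V₁, i, hx₁, -, hi⟩ :=
    Groth.L19.BiratStalk.exists_iso_nhds sX sY e hxU f hf.symm hfS hyV g hg.symm hgS
  exact ⟨U₁, V₁, ⟨_, hx₁⟩, i, hi⟩


end Groth.Agent.S7629
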