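import Groth.Statements.S7630
import Groth.Agent.L19.Limit.AmpleFieldExists

set_option autoImplicit false
set_option backward.isDefEq.respectTransparency.types false
set_option backward.isDefEq.respectTransparency false
set_option linter.style.haveILetI false
universe u
open CategoryTheory CategoryTheory.Limits AlgebraicGeometry
open Variety

namespace Groth.Agent.S7630

/-- Let X be a scheme over a field k and K an extension field of k. If X_K → Spec K is quasi-projective
(of finite type and admitting a relatively ample invertible module), then so is X → Spec k. -/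
theorem result (k : Type u) [Field k] (X : Scheme.{u}) [X.Over (Spec (CommRingCat.of k))] (K : Type u) [Field K] [Algebra k K]
    (h : RelProj.IsQuasiProjective (Curv2.bcSnd k X K)) : RelProj.IsQuasiProjective (X ↘ (Spec (CommRingCat.of k))) := by
  obtain ⟨hlft, hqc, L', hL'⟩ := h
  haveI := hqc
  obtain ⟨hqcp, -, L, hL⟩ := Groth.L19.Limit.exists_isAmple_of_isAmple_baseChange (X ↘ (Spec (CommRingCat.of k))) K L'
    (Groth.L18.Ample.isAmple_of_isRelAmple hL')
  refine ⟨?_, hqcp, L, ?_⟩
  · exact MorphismProperty.of_pullback_snd_of_descendsAlong (P := @LocallyOfFiniteType)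
      (Groth.L19.Limit.fpqc_specMap (k := k) K) hlft
  · haveI := hqcp
    exact Groth.L18.Ample.isRelAmple_of_isAmple hL

end Groth.Agent.S7630
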