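import Groth.Statements.S7631
import Groth.Agent.S4667
import Groth.Agent.L24.GrpdField.SubGrpd
import Mathlib.AlgebraicGeometry.IdealSheaf.Functorial

set_option autoImplicit false
universe u
open CategoryTheory CategoryTheory.Limits AlgebraicGeometry
open Variety

set_option backward.isDefEq.respectTransparency.types false
set_option linter.style.haveILetI false
set_option backward.isDefEq.respectTransparency false
namespace Groth.Agent.S7631
open Scheme
theorem bot_comp {A B C : Scheme.{u}} (f : A ⟶ B) (g : B ⟶ C) [QuasiCompact f] (h : f.ker = ⊥) :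
    (f ≫ g).ker = g.ker := by
  rw [← IdealSheafData.map_bot g, ← h, IdealSheafData.map_ker]

theorem dominant {k : Type u} [Field k] {A A' B : Scheme.{u}} (a' : A' ⟶ Spec (CommRingCat.of k))
    (b : B ⟶ Spec (CommRingCat.of k)) (f : A ⟶ A') [QuasiCompact f] (h : f.ker = ⊥) :
    ∃ e : pullback (f ≫ a') b ⟶ pullback a' b, QuasiCompact e ∧ e.ker = ⊥ ∧
      e ≫ pullback.fst a' b = pullback.fst (f ≫ a') b ≫ f ∧ e ≫ pullback.snd a' b = pullback.snd (f ≫ a') b := by
  haveI : Flat b := inferInstance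
  refine ⟨(pullbackRightPullbackFstIso a' b f).inv ≫ pullback.snd f (pullback.fst a' b), inferInstance, ?_, ?_, ?_⟩
  · rw [Hom.ker_comp_of_isIso, Groth.Agent.S4667.result, h]; simp
  · simp [pullback.condition]
  · simp

theorem closed {S X Y Z W : Scheme.{u}} (x : X ⟶ S) (y : Y ⟶ S) (i : Z ⟶ X) (j : W ⟶ Y)
    [IsClosedImmersion i] [IsClosedImmersion j] :
    (pullback.lift (f := x) (g := y) (pullback.snd (j ≫ y) (i ≫ x) ≫ i) (pullback.fst (j ≫ y) (i ≫ x) ≫ j)
      (by rw [Category.assoc, Category.assoc, pullback.condition])).ker ≤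
      i.ker.comap (pullback.fst x y) ⊔ j.ker.comap (pullback.snd x y) := by
  let K := i.ker.comap (pullback.fst x y) ⊔ j.ker.comap (pullback.snd x y)
  have u1 : i.ker ≤ (K.subschemeι ≫ pullback.fst x y).ker := by
    rw [← IdealSheafData.map_ker, IdealSheafData.ker_subschemeι]
    exact IdealSheafData.le_map_iff_comap_le.mpr le_sup_left
  have u2 : j.ker ≤ (K.subschemeι ≫ pullback.snd x y).ker := by
    rw [← IdealSheafData.map_ker, IdealSheafData.ker_subschemeι]
    exact IdealSheafData.le_map_iff_comap_le.mpr le_sup_right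
  let l₁ := IsClosedImmersion.lift i (K.subschemeι ≫ pullback.fst x y) u1
  let l₂ := IsClosedImmersion.lift j (K.subschemeι ≫ pullback.snd x y) u2
  have c : l₂ ≫ j ≫ y = l₁ ≫ i ≫ x := by
    simp only [l₁, l₂, IsClosedImmersion.lift_fac_assoc, Category.assoc, pullback.condition]
  have hl : pullback.lift l₂ l₁ c ≫ pullback.lift (pullback.snd (j ≫ y) (i ≫ x) ≫ i)
      (pullback.fst (j ≫ y) (i ≫ x) ≫ j) (by rw [Category.assoc, Category.assoc, pullback.condition]) = K.subschemeι := by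
    apply pullback.hom_ext <;> simp [l₁, l₂]
  have := Hom.le_ker_comp (pullback.lift l₂ l₁ c) (pullback.lift (f := x) (g := y) (pullback.snd (j ≫ y) (i ≫ x) ≫ i)
      (pullback.fst (j ≫ y) (i ≫ x) ≫ j) (by rw [Category.assoc, Category.assoc, pullback.condition]))
  rwa [hl, IdealSheafData.ker_subschemeι] at this

theorem key {k : Type u} [Field k] {X Y A B : Scheme.{u}} (x : X ⟶ Spec (CommRingCat.of k))
    (y : Y ⟶ Spec (CommRingCat.of k)) (a : A ⟶ Spec (CommRingCat.of k)) (b : B ⟶ Spec (CommRingCat.of k))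
    (f : A ⟶ X) (g : B ⟶ Y) [QuasiCompact f] [QuasiCompact g] (hf : f ≫ x = a) (hg : g ≫ y = b)
    (F : pullback a b ⟶ pullback x y) (h₁ : F ≫ pullback.fst x y = pullback.fst a b ≫ f)
    (h₂ : F ≫ pullback.snd x y = pullback.snd a b ≫ g) :
    F.ker = f.ker.comap (pullback.fst x y) ⊔ g.ker.comap (pullback.snd x y) := by
  subst hf hg
  refine le_antisymm ?_ (sup_le ?_ ?_)
  · let K := f.ker.comap (pullback.fst x y) ⊔ g.ker.comap (pullback.snd x y)
    obtain ⟨e₁, _, k₁, p₁, q₁⟩ := dominant (f.imageι ≫ x) (g ≫ y) f.toImage (Groth.L24.GrpdField.ker_toImage f)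
    obtain ⟨e₂, _, k₂, p₂, q₂⟩ := dominant (g.imageι ≫ y) (f.imageι ≫ x) g.toImage (Groth.L24.GrpdField.ker_toImage g)
    let t : pullback (g.imageι ≫ y) (f.imageι ≫ x) ⟶ pullback x y :=
      pullback.lift (pullback.snd _ _ ≫ f.imageι) (pullback.fst _ _ ≫ g.imageι)
        (by rw [Category.assoc, Category.assoc, pullback.condition])
    let i₁ : pullback (f ≫ x) (g ≫ y) ⟶ pullback (f.toImage ≫ f.imageι ≫ x) (g ≫ y) :=
      pullback.map _ _ _ _ (𝟙 _) (𝟙 _) (𝟙 _) (by simp) (by simp)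
    let i₂ : pullback (f.imageι ≫ x) (g ≫ y) ⟶ pullback (g.toImage ≫ g.imageι ≫ y) (f.imageι ≫ x) :=
      (pullbackSymmetry _ _).hom ≫ pullback.map _ _ _ _ (𝟙 _) (𝟙 _) (𝟙 _) (by simp) (by simp)
    have hF : F = (i₁ ≫ e₁ ≫ i₂ ≫ e₂) ≫ t := by
      apply pullback.hom_ext
      · simp only [t, Category.assoc, pullback.lift_fst, h₁, reassoc_of% q₂]
        simp [i₁, i₂, reassoc_of% p₁]
      · simp only [t, Category.assoc, pullback.lift_snd, h₂, reassoc_of% p₂]
        simp [i₁, i₂, reassoc_of% q₁]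
    have hk : (i₁ ≫ e₁ ≫ i₂ ≫ e₂).ker = ⊥ := by
      rw [Hom.ker_comp_of_isIso, bot_comp e₁ _ k₁, Hom.ker_comp_of_isIso, k₂]
    haveI : QuasiCompact (i₁ ≫ e₁ ≫ i₂ ≫ e₂) := inferInstance
    rw [hF, bot_comp _ _ hk]
    refine (closed x y f.imageι g.imageι).trans (le_of_eq ?_)
    rw [IdealSheafData.ker_subschemeι, IdealSheafData.ker_subschemeι]
  · refine IdealSheafData.le_map_iff_comap_le.mp ?_
    rw [IdealSheafData.map_ker, h₁]
    exact Hom.le_ker_comp _ _
  · refine IdealSheafData.le_map_iff_comap_le.mp ?_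
    rw [IdealSheafData.map_ker, h₂]
    exact Hom.le_ker_comp _ _
end Groth.Agent.S7631
namespace Groth.Agent.S7631

/-- Let f : A → X and g : B → Y be quasi-compact morphisms of schemes over a field k and F = f × g : A
×_k B → X ×_k Y. Then the scheme-theoretic image of F is Z ×_k Z', where Z ⊆ X and Z' ⊆ Y are the
scheme-theoretic images of f and g: in terms of kernel ideal sheaves, ker F is the sum of the
pullback of ker f along the first projection and of ker g along the second. -/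
theorem result (k : Type u) [Field k] (X : Scheme.{u}) [X.Over (Spec (CommRingCat.of k))] (Y : Scheme.{u}) [Y.Over (Spec (CommRingCat.of k))]
    (A B : Scheme.{u}) [A.Over (Spec (CommRingCat.of k))] [B.Over (Spec (CommRingCat.of k))]
    (f : A ⟶ X) [f.IsOver (Spec (CommRingCat.of k))] [QuasiCompact f] (g : B ⟶ Y) [g.IsOver (Spec (CommRingCat.of k))] [QuasiCompact g]
    (F : pullback (A ↘ (Spec (CommRingCat.of k))) (B ↘ (Spec (CommRingCat.of k))) ⟶ pullback (X ↘ (Spec (CommRingCat.of k))) (Y ↘ (Spec (CommRingCat.of k))))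
    (hF₁ : F ≫ pullback.fst (X ↘ (Spec (CommRingCat.of k))) (Y ↘ (Spec (CommRingCat.of k))) = pullback.fst (A ↘ (Spec (CommRingCat.of k))) (B ↘ (Spec (CommRingCat.of k))) ≫ f)
    (hF₂ : F ≫ pullback.snd (X ↘ (Spec (CommRingCat.of k))) (Y ↘ (Spec (CommRingCat.of k))) = pullback.snd (A ↘ (Spec (CommRingCat.of k))) (B ↘ (Spec (CommRingCat.of k))) ≫ g) :
    F.ker = f.ker.comap (pullback.fst (X ↘ (Spec (CommRingCat.of k))) (Y ↘ (Spec (CommRingCat.of k)))) ⊔ g.ker.comap (pullback.snd (X ↘ (Spec (CommRingCat.of k))) (Y ↘ (Spec (CommRingCat.of k)))) := by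
  exact key _ _ _ _ f g (comp_over f _) (comp_over g _) F hF₁ hF₂

end Groth.Agent.S7631
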