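import Groth.Statements.S7632
import Groth.Agent.L20.SmoothStrat.Field

set_option autoImplicit false
universe u
open CategoryTheory CategoryTheory.Limits AlgebraicGeometry
open Variety

set_option backward.isDefEq.respectTransparency.types false
namespace Groth.Agent.S7632

/-- Let X be a scheme of finite type over a field k. Then one can find a finite purely inseparable field
extension k'/k, some t ≥ 0, and a descending chain Z_0 ⊇ … ⊇ Z_t = ∅ of closed subschemes of X_{k'},
given by an increasing chain of quasi-coherent ideal sheaves I_0 ≤ … ≤ I_t = O on X_{k'}, such that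
Z_0 = (X_{k'})_red (I_0 is the ideal of nilpotents) and the open subscheme Z_i ∖ Z_{i+1} of Z_i is
smooth over k' for every i < t. -/
theorem result (k : Type u) [Field k] (X : Scheme.{u}) [X.Over (Spec (CommRingCat.of k))] [LocallyOfFiniteType (X ↘ (Spec (CommRingCat.of k)))] [QuasiCompact (X ↘ (Spec (CommRingCat.of k)))] :
    ∃ (k' : Type u) (_ : Field k') (_ : Algebra k k') (_ : FiniteDimensional k k') (_ : IsPurelyInseparable k k')
      (t : ℕ) (I : Fin (t + 1) → (Curv2.bc k X k').IdealSheafData),
      Monotone I ∧ I 0 = Scheme.IdealSheafData.vanishingIdeal ⊤ ∧ I (Fin.last t) = ⊤ ∧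
        ∀ i : Fin t,
          Smooth (((I i.castSucc).subschemeι ⁻¹ᵁ (I i.succ).support.compl).ι ≫ (I i.castSucc).subschemeι ≫ Curv2.bcSnd k X k') := by
  obtain ⟨L, hfin, hle, hst⟩ := Groth.L20.SmoothStrat.exists_strat
    (X ↘ Spec (CommRingCat.of k)) (AlgebraicClosure k) ⊤
  obtain ⟨t, I, hmono, h0, hlast, hsm⟩ := hst.exists_chain _ isClosed_univ
  refine ⟨L, inferInstance, inferInstance, hfin, (le_perfectClosure_iff k _ L).1 hle, t, I, hmono,
    h0.trans (congrArg _ (SetLike.coe_injective rfl)), hlast, fun i => ?_⟩
  have := hsm i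
  rwa [Category.assoc] at this

end Groth.Agent.S7632
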