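import Groth.Statements.S7633
import Groth.Agent.L06.ComplBC.Stalk


set_option autoImplicit false
set_option maxSynthPendingDepth 3
set_option linter.style.haveILetI false
universe u
open CategoryTheory CategoryTheory.Limits AlgebraicGeometry
attribute [local instance] Curv2.stalkAlgebra Curv2.resAlgebra
open scoped TensorProduct
open Variety

namespace Groth.Agent.S7633

/-- Let X be locally of finite type over a field k, K an extension field of k, y a point of X_K with
image x in X; assume dim O_{X, x} = dim O_{X_K, y} and that κ(x) is separable over k (Spec κ(x) →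
Spec k geometrically reduced). Let e : κ(x)[[x_1, …, x_n]]/(g_1, …, g_m) ≅ O_{X, x}^∧ be a k-algebra
isomorphism onto the completion inducing the identity on residue fields (for every a in O_{X, x}, e
applied to the constant with value the residue class of a is congruent to a modulo the extended
maximal ideal). Then, viewing the g_j over κ(y) through κ(x) → κ(y), there is a K-algebra
isomorphism κ(y)[[x_1, …, x_n]]/(g_1, …, g_m) ≅ O_{X_K, y}^∧ with the same residue property. -/
theorem result (k : Type u) [Field k] (X : Scheme.{u}) [X.Over (Spec (CommRingCat.of k))] [LocallyOfFiniteType (X ↘ (Spec (CommRingCat.of k)))]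
    (K : Type u) [Field K] [Algebra k K] (y : ↥(Curv2.bc k X K))
    (hdim : ringKrullDim ↥(X.presheaf.stalk (Curv2.bcFst k X K y)) = ringKrullDim ↥((Curv2.bc k X K).presheaf.stalk y))
    (hsep : GeometricallyReduced (Spec.map (CommRingCat.ofHom (Curv2.resMap k X (Curv2.bcFst k X K y)))))
    (n m : ℕ) (g : Fin m → MvPowerSeries (Fin n) ↥(X.residueField (Curv2.bcFst k X K y)))
    (e : (MvPowerSeries (Fin n) ↥(X.residueField (Curv2.bcFst k X K y)) ⧸ Ideal.span (Set.range g)) ≃ₐ[k]
      AdicCompletion (IsLocalRing.maximalIdeal ↥(X.presheaf.stalk (Curv2.bcFst k X K y))) ↥(X.presheaf.stalk (Curv2.bcFst k X K y)))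
    (he : ∀ a : ↥(X.presheaf.stalk (Curv2.bcFst k X K y)),
      e (Ideal.Quotient.mk _ (MvPowerSeries.C ((X.residue (Curv2.bcFst k X K y)).hom a))) -
          algebraMap ↥(X.presheaf.stalk (Curv2.bcFst k X K y)) (AdicCompletion (IsLocalRing.maximalIdeal ↥(X.presheaf.stalk (Curv2.bcFst k X K y))) ↥(X.presheaf.stalk (Curv2.bcFst k X K y))) a ∈
        (IsLocalRing.maximalIdeal ↥(X.presheaf.stalk (Curv2.bcFst k X K y))).map (algebraMap ↥(X.presheaf.stalk (Curv2.bcFst k X K y)) (AdicCompletion (IsLocalRing.maximalIdeal ↥(X.presheaf.stalk (Curv2.bcFst k X K y))) ↥(X.presheaf.stalk (Curv2.bcFst k X K y))))) :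
    letI : (Curv2.bc k X K).Over (Spec (CommRingCat.of K)) := ⟨Curv2.bcSnd k X K⟩
    ∃ e' : (MvPowerSeries (Fin n) ↥((Curv2.bc k X K).residueField y) ⧸ Ideal.span (Set.range (fun j =>
        MvPowerSeries.map (σ := Fin n) ((Curv2.bcFst k X K).residueFieldMap y).hom (g j)))) ≃ₐ[K]
          AdicCompletion (IsLocalRing.maximalIdeal ↥((Curv2.bc k X K).presheaf.stalk y)) ↥((Curv2.bc k X K).presheaf.stalk y),
      ∀ b : ↥((Curv2.bc k X K).presheaf.stalk y),
        e' (Ideal.Quotient.mk _ (MvPowerSeries.C (((Curv2.bc k X K).residue y).hom b))) -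
            algebraMap ↥((Curv2.bc k X K).presheaf.stalk y) (AdicCompletion (IsLocalRing.maximalIdeal ↥((Curv2.bc k X K).presheaf.stalk y)) ↥((Curv2.bc k X K).presheaf.stalk y)) b ∈
          (IsLocalRing.maximalIdeal ↥((Curv2.bc k X K).presheaf.stalk y)).map (algebraMap ↥((Curv2.bc k X K).presheaf.stalk y) (AdicCompletion (IsLocalRing.maximalIdeal ↥((Curv2.bc k X K).presheaf.stalk y)) ↥((Curv2.bc k X K).presheaf.stalk y))) := by
  letI : (Curv2.bc k X K).Over (Spec (CommRingCat.of K)) := ⟨Curv2.bcSnd k X K⟩
  let R := X.presheaf.stalk (Curv2.bcFst k X K y)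
  let R' := (Curv2.bc k X K).presheaf.stalk y
  let φ : R →+* R' := ((Curv2.bcFst k X K).stalkMap y).hom
  letI algRR : Algebra R R' := φ.toAlgebra
  letI algkR : Algebra k R' := (φ.comp (algebraMap k R)).toAlgebra
  haveI : IsScalarTower k R R' := IsScalarTower.of_algebraMap_eq fun _ => rfl
  haveI : IsLocalHom (algebraMap R R') := inferInstanceAs (IsLocalHom ((Curv2.bcFst k X K).stalkMap y).hom)
  obtain ⟨f, hf1, hf2, hfrac, hker⟩ := Groth.L06.ComplBC.exists_eta k X K y
  haveI : IsScalarTower k K R' := IsScalarTower.of_algebraMap_eq fun c => by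
    show φ (algebraMap k R c) = Curv2.stalkMap K (Curv2.bc k X K) y (algebraMap k K c)
    rw [← RingHom.congr_fun hf2, show φ (algebraMap k R c) =
      f ((Algebra.TensorProduct.includeRight : R →ₐ[k] TensorProduct k K R) (algebraMap k R c))
      from (RingHom.congr_fun hf1 _).symm, AlgHom.commutes]
    rfl
  have hη : ∀ a, f a = Groth.L06.ComplBC.eta k K R R' a := fun a => by
    induction a using TensorProduct.induction_on with
    | zero => simp
    | tmul c r =>
      have e1 : (c ⊗ₜ[k] r : TensorProduct k K R) = (c ⊗ₜ[k] (1 : R)) * ((1 : K) ⊗ₜ[k] r) := by simp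
      rw [e1, map_mul, map_mul]
      congr 1
      · exact (RingHom.congr_fun hf2 c).trans (by simp; rfl)
      · exact (RingHom.congr_fun hf1 r).trans (by simp; rfl)
    | add a b ha hb => rw [map_add, map_add, ha, hb]
  simp only [hη] at hfrac hker
  haveI : IsLocallyNoetherian X := LocallyOfFiniteType.isLocallyNoetherian (X ↘ Spec (CommRingCat.of k))
  haveI : IsLocallyNoetherian (Curv2.bc k X K) := LocallyOfFiniteType.isLocallyNoetherian (Curv2.bcSnd k X K)
  haveI : Flat (Spec.map (CommRingCat.ofHom (algebraMap k K))) := by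
    rw [Flat.SpecMap_iff]
    exact RingHom.flat_algebraMap_iff.mpr inferInstance
  haveI : Module.Flat R R' := by
    haveI : Flat (Curv2.bcFst k X K) := MorphismProperty.of_isPullback (P := @Flat)
      (IsPullback.of_hasPullback (X ↘ Spec (CommRingCat.of k)) (Spec.map (CommRingCat.ofHom (algebraMap k K)))).flip inferInstance
    exact Flat.stalkMap (Curv2.bcFst k X K) y
  haveI : _root_.IsReduced (TensorProduct k K (IsLocalRing.ResidueField R)) :=
    Groth.L06.ComplBC.isReduced_tensor k K (κ := IsLocalRing.ResidueField R) hsep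
  have hm := Groth.L06.ComplBC.map_maximalIdeal_eq (k := k) (K := K) hdim hfrac hker
  obtain ⟨e', he1, he2⟩ := Groth.L06.ComplBC.exists_equiv (k := k) (K := K) g e.toRingEquiv he
    (fun c => by
      refine Eq.trans ?_ ((e.commutes c).trans (IsScalarTower.algebraMap_apply k R _ c))
      refine congrArg e ?_
      rw [← Ideal.Quotient.mk_algebraMap, MvPowerSeries.algebraMap_apply]
      rfl) hm hfrac hker
  refine ⟨AlgEquiv.ofRingEquiv (f := e') fun c => ?_, he2⟩
  refine Eq.trans ?_ ((he1 c).trans (IsScalarTower.algebraMap_apply K R' _ c).symm)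
  refine congrArg e' ?_
  show Ideal.Quotient.mk _ (algebraMap K (MvPowerSeries (Fin n) ↥((Curv2.bc k X K).residueField y)) c) = _
  rw [MvPowerSeries.algebraMap_apply]
  rfl

end Groth.Agent.S7633
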