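import Groth.Statements.S7639
import Groth.Agent.S7618
import Groth.Agent.L21.RR.RingSections
import Groth.Agent.L16.NegPow.Gen
import Groth.Agent.L21.RR.Coh
-- import your own Groth.Agent.* helpers here

set_option autoImplicit false
universe u
open CategoryTheory CategoryTheory.Limits AlgebraicGeometry
attribute [local instance] Curv2.resAlgebra
open Variety

namespace Groth.Agent.S7639

/-- Let X be a proper scheme over a field k which is reduced and connected, and let κ = Γ(X, O_X). Then
κ is a field, finite over k, and w = [κ : k] divides (1) the degree of every finite locally free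
module of constant rank, (2) the degree [κ(x) : k] of every closed point x, and (3) the degree dim_k
H^0(X, O_D) of every closed subscheme D of dimension zero (or empty). (The published statement uses
the degree of E, which it defines only for X of dimension at most one; this row states (1) for the
integer χ(E) − n·χ(O_X) with no bound on the dimension of X.) -/
theorem result (k : Type u) [Field k] (X : Scheme.{u}) [X.Over (Spec (CommRingCat.of k))] [IsProper (X ↘ (Spec (CommRingCat.of k)))] [IsReduced X] [ConnectedSpace X] :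
    letI : Algebra k Γ(X, ⊤) := ((X ↘ (Spec (CommRingCat.of k))).appTop.hom.comp
      (Scheme.ΓSpecIso (CommRingCat.of k)).inv.hom).toAlgebra
    IsField Γ(X, ⊤) ∧ Module.Finite k Γ(X, ⊤) ∧
      (∀ (n : ℕ) (E : X.Modules), FlatMod.IsFinLocFreeOfRank n E →
        (Module.finrank k Γ(X, ⊤) : ℤ) ∣ Curv2.deg k X E n) ∧
      (∀ x : X, IsClosed ({x} : Set X) →
        Module.finrank k Γ(X, ⊤) ∣ Module.finrank k (X.residueField x)) ∧
      (∀ D : X.IdealSheafData, topologicalKrullDim D.subscheme ≤ 0 →
        Module.finrank k Γ(X, ⊤) ∣ Module.finrank k (Coh.HH X (ClSub.quotMod D) 0)) := by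
  letI : Algebra k Γ(X, ⊤) := ((X ↘ (Spec (CommRingCat.of k))).appTop.hom.comp
      (Scheme.ΓSpecIso (CommRingCat.of k)).inv.hom).toAlgebra
  haveI : IsLocallyNoetherian X := LocallyOfFiniteType.isLocallyNoetherian (X ↘ Spec (CommRingCat.of k))
  haveI : Module.Finite k (Coh.HH X (Coh.structureModule X) 0) :=
    Groth.L16.ProperFinite.finite_HH k Groth.L16.CohClosedPush.isCoh_structure 0
  let E : Coh.HH X (Coh.structureModule X) 0 →ₗ[k] Γ(X, ⊤) :=
    { toFun := fun x => Groth.L21.RR.e0 (Coh.structureModule X) x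
      map_add' := map_add (Groth.L21.RR.e0 (Coh.structureModule X))
      map_smul' := fun c x => Groth.L21.RR.e0_smul k (Coh.structureModule X) c x }
  haveI hfin : Module.Finite k Γ(X, ⊤) := Module.Finite.of_surjective E (Groth.L21.RR.e0 (Coh.structureModule X)).surjective
  have hfield : IsField Γ(X, ⊤) := by
    have h := Groth.Agent.S7618.result k X
    have htop : integralClosure k Γ(X, ⊤) = ⊤ := eq_top_iff.2 fun a _ => IsIntegral.of_finite k a
    let e : integralClosure k Γ(X, ⊤) ≃ₐ[k] Γ(X, ⊤) := (Subalgebra.equivOfEq _ _ htop).trans Subalgebra.topEquiv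
    exact e.symm.toMulEquiv.isField h
  letI := hfield.toField
  have hdvd : ∀ (M : X.Modules) (i : ℕ), Module.finrank k Γ(X, ⊤) ∣ Module.finrank k (Coh.HH X M i) := fun M i => by
    letI : Module Γ(X, ⊤) (Coh.HH X M i) := Coh.moduleΓtop M i
    haveI : IsScalarTower k Γ(X, ⊤) (Coh.HH X M i) := IsScalarTower.of_algebraMap_smul fun _ _ => rfl
    exact ⟨_, (Module.finrank_mul_finrank k Γ(X, ⊤) (Coh.HH X M i)).symm⟩
  have heuler : ∀ M : X.Modules, (Module.finrank k Γ(X, ⊤) : ℤ) ∣ Curv2.euler k X M := fun M =>
    finsum_induction (fun z : ℤ => (Module.finrank k Γ(X, ⊤) : ℤ) ∣ z) (dvd_zero _) (fun a b ha hb => dvd_add ha hb)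
      fun i => Dvd.dvd.mul_left (Int.natCast_dvd_natCast.2 (hdvd M i)) _
  refine ⟨hfield, hfin, fun n E _ => dvd_sub (heuler E) (Dvd.dvd.mul_left (heuler _) _), fun x _ => ?_, fun D _ => hdvd _ 0⟩
  letI : Algebra Γ(X, ⊤) (X.residueField x) := (X.evaluation ⊤ x trivial).hom.toAlgebra
  haveI : IsScalarTower k Γ(X, ⊤) (X.residueField x) := IsScalarTower.of_algebraMap_eq fun _ => rfl
  exact ⟨_, (Module.finrank_mul_finrank k Γ(X, ⊤) (X.residueField x)).symm⟩

end Groth.Agent.S7639
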