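import Groth.Statements.S7641
import Groth.Agent.L19.CurveSecZero

set_option autoImplicit false
set_option backward.isDefEq.respectTransparency.types false
set_option backward.isDefEq.respectTransparency false
set_option linter.style.haveILetI false
universe u
open CategoryTheory CategoryTheory.Limits AlgebraicGeometry
open Variety

namespace Groth.Agent.S7641

/-- Let X be proper over a field k, reduced and connected, with every irreducible component of dimension
one, and let L be an invertible module whose restriction to each irreducible component C, with its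
reduced induced structure, has degree at most zero. Then H^0(X, L) = 0 or L is isomorphic to O_X. -/
theorem result (k : Type u) [Field k] (X : Scheme.{u}) [X.Over (Spec (CommRingCat.of k))] [IsProper (X ↘ (Spec (CommRingCat.of k)))]
    [IsReduced X] [ConnectedSpace X] [IsNoetherian X]
    (hdim : ∀ (C : Set X), C ∈ irreducibleComponents (X : Type u) → topologicalKrullDim C = 1)
    (L : X.Modules) (hL : PicF.IsInvertible L)
    (hdeg : ∀ (C : Set X) (hC : C ∈ irreducibleComponents (X : Type u)), @Curv2.deg k _ (X.irreducibleComponentIdeal C hC).radical.subscheme ⟨(X.irreducibleComponentIdeal C hC).radical.subschemeι ≫ (X ↘ (Spec (CommRingCat.of k)))⟩ ((Scheme.Modules.pullback (X.irreducibleComponentIdeal C hC).radical.subschemeι).obj L) 1 ≤ 0) :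
    Subsingleton (Coh.HH X L 0) ∨ Nonempty (L ≅ Coh.structureModule X) := by
  refine or_iff_not_imp_left.2 fun h => ?_
  have hnt : Nontrivial (Coh.HH X L 0) := not_subsingleton_iff_nontrivial.1 h
  obtain ⟨x, hx⟩ := exists_ne (0 : Coh.HH X L 0)
  have hs : Groth.L16.homOfSection L (Groth.L21.RR.e0 L x) ≠ 0 := fun h0 => hx (by
    refine (Groth.L21.RR.e0 L).injective ?_
    rw [map_zero, ← Groth.L18.GenLoc.secOf_homOfSection (Groth.L21.RR.e0 L x), h0]
    rfl)
  rcases Groth.L19.CurveSec.eq_zero_or_isIso k hdim hL hdeg (Groth.L16.homOfSection L (Groth.L21.RR.e0 L x)) with h1 | h1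
  · exact absurd h1 hs
  · exact ⟨(asIso (Groth.L16.homOfSection L (Groth.L21.RR.e0 L x))).symm⟩

end Groth.Agent.S7641
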