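import Groth.Statements.S7643
import Groth.Agent.L21.RR.Coh
import Groth.Agent.L22.Adjunction.Seq
import Groth.Agent.L16.NegPow.Gen
import Groth.Agent.L22.Adjunction.ExtTop
-- import your own Groth.Agent.* helpers here

set_option autoImplicit false
universe u
open CategoryTheory CategoryTheory.Limits AlgebraicGeometry
open Variety

namespace Groth.Agent.S7643

/-- Let X be proper of dimension at most one over a field k and let 0 → E₁ → E₂ → E₃ → 0 be a short
exact sequence of finite locally free modules of constant ranks n₁, n₂, n₃. Then deg(E₂) = deg(E₁) +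
deg(E₃). -/
theorem result (k : Type u) [Field k] (X : Scheme.{u}) [X.Over (Spec (CommRingCat.of k))] [IsProper (X ↘ (Spec (CommRingCat.of k)))]
    (hdim : topologicalKrullDim X ≤ 1) (S : ShortComplex X.Modules) (hS : S.ShortExact)
    (n₁ n₂ n₃ : ℕ) (h₁ : FlatMod.IsFinLocFreeOfRank n₁ S.X₁) (h₂ : FlatMod.IsFinLocFreeOfRank n₂ S.X₂)
    (h₃ : FlatMod.IsFinLocFreeOfRank n₃ S.X₃) :
    Curv2.deg k X S.X₂ n₂ = Curv2.deg k X S.X₁ n₁ + Curv2.deg k X S.X₃ n₃ := by
  haveI := Groth.L21.RR.isNoetherian_of_proper (X := X) k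
  have hl : ∀ {E : X.Modules} {r : ℕ}, FlatMod.IsFinLocFreeOfRank r E → FlatMod.IsFinLocFree E :=
    fun {E r} h z => by obtain ⟨U, hz, e⟩ := h z; exact ⟨U, r, hz, e⟩
  have he := Groth.L21.RR.euler_add k hdim hS (Groth.L16.NegPow.isCoh_of_isFinLocFree (hl h₁))
    (Groth.L16.NegPow.isCoh_of_isFinLocFree (hl h₂)) (Groth.L16.NegPow.isCoh_of_isFinLocFree (hl h₃))
  rcases isEmpty_or_nonempty X with hX | hX
  · have hz : ∀ M : X.Modules, Curv2.euler k X M = Curv2.euler k X S.X₁ := fun M =>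
      Groth.L21.RR.euler_congr k ((Groth.L22.Adjunction.isZero_of_isEmpty M).iso
        (Groth.L22.Adjunction.isZero_of_isEmpty S.X₁))
    rw [hz S.X₂, hz S.X₃] at he
    simp only [Curv2.deg]
    rw [hz S.X₂, hz S.X₃, hz (Coh.structureModule X), show Curv2.euler k X S.X₁ = 0 by omega]
    ring
  obtain ⟨z⟩ := hX
  obtain ⟨U, e, hzU, -, heU⟩ := Groth.L22.CurveDeg.Det.exists_affine_basis h₁ z ⊤ trivial
  have hr : n₁ + n₃ = n₂ := Groth.L22.Adjunction.rank_add (w := S.zero) hS heU hzU h₂ h₃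
  simp only [Curv2.deg]
  rw [he, ← hr]
  push_cast
  ring

end Groth.Agent.S7643
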