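import Groth.Statements.S7646
import Groth.Agent.L22.CurveAmple.Affine

set_option autoImplicit false
set_option backward.isDefEq.respectTransparency false
universe u
open CategoryTheory CategoryTheory.Limits AlgebraicGeometry
open Variety

namespace Groth.Agent.S7646

/-- Let X be separated and of finite type over a field k with dim X ≤ 1, and assume that no irreducible
component of X of dimension one, given its reduced induced structure, is proper over k. Then X is
affine. -/
theorem result (k : Type u) [Field k] (X : Scheme.{u}) [X.Over (Spec (CommRingCat.of k))]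
    [IsSeparated (X ↘ (Spec (CommRingCat.of k)))] [LocallyOfFiniteType (X ↘ (Spec (CommRingCat.of k)))]
    [IsNoetherian X] (hdim : topologicalKrullDim X ≤ 1)
    (h : ∀ (C : Set X) (hC : C ∈ irreducibleComponents (X : Type u)), topologicalKrullDim C = 1 →
      ¬ IsProper ((X.irreducibleComponentIdeal C hC).radical.subschemeι ≫ (X ↘ (Spec (CommRingCat.of k))))) :
    IsAffine X := by
  obtain ⟨d, Y, c, j, hc, hj, hjc, hp, hdY, hgen, hdense⟩ :=
    Groth.L22.CurveAmple.exists_completion k X hdim
  haveI := hc
  haveI := hj
  haveI : IsProper (c ≫ CohB1.ProjSpace.toSpec d k) := hp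
  letI : Y.Over (Spec (CommRingCat.of k)) := ⟨c ≫ CohB1.ProjSpace.toSpec d k⟩
  haveI : IsProper (Y ↘ Spec (CommRingCat.of k)) := hp
  have hU : IsAffineOpen j.opensRange :=
    Groth.L22.CurveAmple.isAffineOpen_of_boundary k hdY j.opensRange hgen fun y hy => ?_
  · exact @IsAffine.of_isIso _ _ j.isoOpensRange.hom _ hU
  by_contra hh
  push Not at hh
  obtain ⟨x, rfl⟩ : y ∈ Set.range j.base := hh y specializes_rfl
  have hclU : closure {j x} ⊆ Set.range j.base := fun z hz => hh z (specializes_iff_mem_closure.2 hz)
  have himg : j '' closure {x} = closure {j x} := by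
    refine subset_antisymm ((image_closure_subset_closure_image j.continuous).trans
      (by rw [Set.image_singleton])) fun z hz => ?_
    obtain ⟨w, rfl⟩ := hclU hz
    refine ⟨w, ?_, rfl⟩
    rw [← specializes_iff_mem_closure]
    exact j.isOpenEmbedding.isInducing.specializes_iff.1 (specializes_iff_mem_closure.2 hz)
  have hx : ¬ IsClosed ({x} : Set X) := fun hc' => hy (by
    rw [← closure_eq_iff_isClosed, ← himg, hc'.closure_eq, Set.image_singleton])
  have hspec := fun a b c => Groth.L21.RR.Top.spec_of_dim_le_one (X := X.toTopCat) hdim a b c
  obtain ⟨w, hwx, hxw⟩ : ∃ w, w ≠ x ∧ x ⤳ w := by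
    by_contra hn
    push Not at hn
    exact hx (isClosed_of_closure_subset fun w hw => by
      by_contra hne
      exact hn w hne (specializes_iff_mem_closure.2 hw))
  have hC : closure {x} ∈ irreducibleComponents (X : Type u) := by
    refine ⟨isIrreducible_singleton.closure, fun T hT hle => ?_⟩
    obtain ⟨t, ht⟩ := QuasiSober.sober hT.closure isClosed_closure
    have htx : t ⤳ x := ht.specializes (subset_closure (hle (subset_closure rfl)))
    rcases hspec t x w htx hxw with e | e
    · exact subset_closure.trans_eq (by rw [← ht.def, e])
    · exact absurd e.symm hwx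
  have hd1 : topologicalKrullDim (closure ({x} : Set X)) = 1 := by
    refine le_antisymm ((topologicalKrullDim_subspace_le X _).trans hdim) ?_
    let C : (closure ({x} : Set X)) → TopologicalSpace.IrreducibleCloseds (closure ({x} : Set X)) := fun a =>
      ⟨closure {a}, isIrreducible_singleton.closure, isClosed_closure⟩
    let a : closure ({x} : Set X) := ⟨x, subset_closure rfl⟩
    let b : closure ({x} : Set X) := ⟨w, specializes_iff_mem_closure.1 hxw⟩
    have hab : a ⤳ b := (subtype_specializes_iff _ _).2 hxw
    have hlt : C b < C a := lt_of_le_of_ne (specializes_iff_closure_subset.1 hab) fun e =>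
      hwx (congrArg Subtype.val (hab.antisymm (specializes_iff_closure_subset.2
        (congrArg TopologicalSpace.IrreducibleCloseds.carrier e).ge)).eq).symm
    let l : LTSeries (TopologicalSpace.IrreducibleCloseds (closure ({x} : Set X))) :=
      (RelSeries.singleton _ (C b)).snoc (C a) (by simpa using hlt)
    exact le_iSup_of_le l (by simp [l])
  refine h _ hC hd1 ?_
  let i := (X.irreducibleComponentIdeal (closure {x}) hC).radical.subschemeι
  have hri : Set.range i = closure {x} := by
    rw [Scheme.IdealSheafData.range_subschemeι, Scheme.IdealSheafData.support_radical]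
    rfl
  haveI : IsClosedImmersion (i ≫ j) := IsClosedImmersion.of_isPreimmersion _ (by
    rw [Scheme.Hom.comp_base, TopCat.coe_comp, Set.range_comp, hri, himg]
    exact isClosed_closure)
  show IsProper (i ≫ (X ↘ Spec (CommRingCat.of k)))
  rw [← hjc, ← Category.assoc]
  infer_instance

end Groth.Agent.S7646
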