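import Groth.Statements.S7647
import Groth.Agent.L22.Inter.Top
import Groth.Agent.L22.Inter.Coeff
import Groth.Agent.L22.Inter.Push
import Groth.Agent.L22.Inter.Point

set_option autoImplicit false
universe u
open CategoryTheory CategoryTheory.Limits AlgebraicGeometry
open Variety

namespace Groth.Agent.S7647

/-- Let X be proper over a field k, Z ⊆ X a closed subscheme of dimension ≤ 1 and L an invertible
module. Then the intersection number (L · Z), i.e. the coefficient of n in the polynomial computing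
χ(X, O_Z ⊗ L^{⊗n}), equals the degree of L|_Z on Z. -/
theorem result (k : Type u) [Field k] (X : Scheme.{u}) [X.Over (Spec (CommRingCat.of k))] [IsProper (X ↘ (Spec (CommRingCat.of k)))]
    (D : X.IdealSheafData) (hD : topologicalKrullDim (D.support : Set X) ≤ 1)
    (L : X.Modules) (hL : PicF.IsInvertible L) (P : MvPolynomial (Fin 1) ℚ)
    (hP : ∀ n : Fin 1 → ℕ, (Curv2.euler k X (Curv2.tensorPows (ClSub.quotMod D) 1 (fun _ => L) n) : ℚ) = MvPolynomial.eval (fun i => (n i : ℚ)) P) :
    MvPolynomial.coeff (Finsupp.equivFunOnFinite.symm fun _ : Fin 1 => 1) P =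
      (@Curv2.deg k _ D.subscheme ⟨D.subschemeι ≫ (X ↘ (Spec (CommRingCat.of k)))⟩
        ((Scheme.Modules.pullback D.subschemeι).obj L) 1 : ℚ) := by
  haveI := Groth.L21.RR.isNoetherian_of_proper (X := X) k
  haveI : X.IsSeparated := ⟨by rw [← terminal.comp_from (X ↘ Spec (CommRingCat.of k))]; infer_instance⟩
  letI : D.subscheme.Over (Spec (CommRingCat.of k)) := ⟨D.subschemeι ≫ (X ↘ (Spec (CommRingCat.of k)))⟩
  haveI : IsLocallyNoetherian D.subscheme := LocallyOfFiniteType.isLocallyNoetherian D.subschemeι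
  have hLs : ∀ _ : Fin 1, PicF.IsInvertible L := fun _ => hL
  have hf : Groth.L03.Euler.twEuler k (fun _ : Fin 1 => L) (ClSub.quotMod D) ∈ Groth.L03.Euler.polyFun 1 (1 + 1) :=
    Groth.L03.Euler.twEuler_mem' k hLs (Groth.L21.RR.isCoh_quotMod D)
      ((Groth.L03.Euler.topologicalKrullDim_set_mono (Groth.L22.Inter.support_quotMod_subset D)).trans
        (by exact_mod_cast hD))
  rw [Groth.L22.Inter.coeff_eq_alt hf fun n => (Groth.L03.Euler.euler_tensorPows_eq k _ _ n).symm.trans (hP n),
    Groth.L22.Inter.alt_succ]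
  have hpush : ∀ m : ℕ, Groth.L03.Euler.twEuler k (fun _ : Fin 1 => L) (ClSub.quotMod D) (fun _ => m) =
      (Curv2.euler k D.subscheme (CohB1.tensorPow ((Scheme.Modules.pullback D.subschemeι).obj L) m) : ℚ) := by
    intro m
    refine (Groth.L22.Inter.twEuler_push k D.subschemeι rfl hLs _
      Groth.L16.CohClosedPush.isCoh_structure.1 _).trans ?_
    refine congrArg (Int.cast : ℤ → ℚ) (Groth.L03.Euler.euler_iso ?_)
    exact Groth.L00.Tensor.tensorUnitLeft _ ≪≫ Groth.L00.Tensor.tensorUnitLeft _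
  have halt : ∀ g : (Fin 0 → ℕ) → ℚ, Groth.L22.Inter.alt g = g (fun i => i.elim0) := fun g => by
    rw [Groth.L22.Inter.alt_apply]
    simp [Groth.L22.Inter.sgn]
    exact congrArg g (funext fun i => i.elim0)
  rw [halt, halt]
  have hcons : ∀ m : ℕ, (Fin.cons m fun i : Fin 0 => i.elim0 : Fin 1 → ℕ) = fun _ => m := fun m => by
    funext i
    refine Fin.cases ?_ (fun j => j.elim0) i
    simp
  simp only [hcons, hpush]
  rw [Curv2.deg]
  have e1 : Curv2.euler k D.subscheme (CohB1.tensorPow ((Scheme.Modules.pullback D.subschemeι).obj L) 1) =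
      Curv2.euler k D.subscheme ((Scheme.Modules.pullback D.subschemeι).obj L) :=
    Groth.L03.Euler.euler_iso (Groth.L00.Tensor.tensorUnitLeft _)
  rw [e1]
  simp [CohB1.tensorPow]


end Groth.Agent.S7647
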