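import Groth.Statements.S7649
import Groth.Agent.L22.Inter.Top
import Groth.Agent.L22.Inter.Coeff
import Groth.Agent.L22.Inter.Push
import Groth.Agent.L22.Inter.Point
import Groth.Agent.L03.Euler.Lead
import Groth.Agent.L16.Existence.AmpleVanish

set_option autoImplicit false
universe u
open CategoryTheory CategoryTheory.Limits AlgebraicGeometry
open Variety

namespace Groth.Agent.S7649

/-- The mixed difference of `q(n_1 + ⋯ + n_r)` is `r!` times the coefficient of degree `r`. -/
theorem alt_eval_sum : ∀ {r : ℕ} (q : Polynomial ℚ), q.natDegree ≤ r →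
    Groth.L22.Inter.alt (fun n : Fin r → ℕ => q.eval ((∑ i, n i : ℕ) : ℚ)) = (r.factorial : ℚ) * q.coeff r
  | 0, q, hq => by
    rw [Groth.L22.Inter.alt_apply]
    simp [Groth.L22.Inter.sgn, Polynomial.coeff_zero_eq_eval_zero]
  | r + 1, q, hq => by
    rw [Groth.L22.Inter.alt_succ, ← map_sub]
    have h : ((fun n : Fin r → ℕ => q.eval ((∑ i, (Fin.cons 1 n : Fin (r + 1) → ℕ) i : ℕ) : ℚ)) -
        fun n : Fin r → ℕ => q.eval ((∑ i, (Fin.cons 0 n : Fin (r + 1) → ℕ) i : ℕ) : ℚ)) =
        fun n : Fin r → ℕ => (Polynomial.taylor 1 q - q).eval ((∑ i, n i : ℕ) : ℚ) := by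
      funext n
      simp [Fin.sum_cons, Polynomial.taylor_eval, add_comm]
    have hdeg : (Polynomial.taylor 1 q - q).natDegree ≤ r := by
      refine Polynomial.natDegree_le_iff_coeff_eq_zero.2 fun N hN => ?_
      rcases eq_or_lt_of_le (Nat.succ_le_of_lt hN) with h | h
      · subst h
        rw [Polynomial.coeff_sub, Polynomial.taylor_coeff,
          Polynomial.eval_eq_sum_range' (n := 1)
            (lt_of_le_of_lt (Polynomial.natDegree_hasseDeriv_le _ _) (by omega))]
        simp [Polynomial.hasseDeriv_coeff]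
      · refine Polynomial.coeff_eq_zero_of_natDegree_lt (lt_of_le_of_lt ?_ h)
        refine (Polynomial.natDegree_sub_le _ _).trans (max_le ?_ hq)
        rw [Polynomial.natDegree_taylor]
        exact hq
    rw [h, alt_eval_sum _ hdeg, Groth.L03.Euler.coeff_taylor_sub hq 1, Nat.factorial_succ]
    push_cast
    ring

theorem nonempty_tensorPows_const {X : Scheme.{u}} (L : X.Modules) : ∀ {r : ℕ} (n : Fin r → ℕ),
    Nonempty (Curv2.tensorPows (Coh.structureModule X) r (fun _ => L) n ≅ CohB1.tensorPow L (∑ i, n i))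
  | 0, n => ⟨eqToIso (by simp [Curv2.tensorPows, CohB1.tensorPow])⟩
  | r + 1, n => by
    obtain ⟨e⟩ := nonempty_tensorPows_const L (fun i => n i.castSucc)
    exact ⟨Groth.L00.Tensor.tensorIso e (Iso.refl _) ≪≫ Groth.L00.Tensor.tensorPowAdd L _ _ ≪≫
      eqToIso (congrArg (CohB1.tensorPow L) (Fin.sum_univ_castSucc n).symm)⟩

/-- Let X be proper over a field k of dimension d and L an ample invertible module. With deg_L(X) the
coefficient of n_1⋯n_d in the polynomial computing χ(X, L^{⊗n_1} ⊗ ⋯ ⊗ L^{⊗n_d}) and c =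
deg_L(X)/d!, the constant c is positive and dim_k Γ(X, L^{⊗n}) = c·n^d + lower order terms; here the
lower-order bound is written as |dim_k H^0(X, L^{⊗n}) − c·n^d| ≤ C·(n+1)^{d−1} for a constant C and
all n ≥ 0. -/
theorem result (k : Type u) [Field k] (X : Scheme.{u}) [X.Over (Spec (CommRingCat.of k))] [IsProper (X ↘ (Spec (CommRingCat.of k)))]
    (d : ℕ) (hX : topologicalKrullDim X = d) (L : X.Modules) (hL : CohB1.IsAmple L)
    (P : MvPolynomial (Fin d) ℚ)
    (hP : ∀ n : Fin d → ℕ, (Curv2.euler k X (Curv2.tensorPows (Coh.structureModule X) d (fun _ => L) n) : ℚ) = MvPolynomial.eval (fun i => (n i : ℚ)) P) :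
    0 < MvPolynomial.coeff (Finsupp.equivFunOnFinite.symm fun _ : Fin d => 1) P ∧
      ∃ C : ℚ, ∀ n : ℕ,
        |(Module.finrank k (Coh.HH X (CohB1.tensorPow L n) 0) : ℚ) -
            MvPolynomial.coeff (Finsupp.equivFunOnFinite.symm fun _ : Fin d => 1) P / (d.factorial : ℚ) * (n : ℚ) ^ d| ≤
          C * ((n : ℚ) + 1) ^ (d - 1) := by
  classical
  haveI := Groth.L21.RR.isNoetherian_of_proper (X := X) k
  have hO := Groth.L16.CohClosedPush.isCoh_structure (X := X)
  have hsupp : CohB1.support (Coh.structureModule X) = Set.univ := Set.eq_univ_of_forall fun x hs => by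
    have h := (Groth.L21.RR.bijective_smul_one x).1 (a₁ := (1 : X.presheaf.stalk x)) (a₂ := 0)
      (@Subsingleton.elim _ hs _ _)
    exact one_ne_zero h
  have hdim : topologicalKrullDim (CohB1.support (Coh.structureModule X)) = d := by
    rw [hsupp, ← hX]
    exact IsHomeomorph.topologicalKrullDim_eq _ (Homeomorph.Set.univ X).isHomeomorph
  obtain ⟨q, hqd, hq⟩ := Groth.L03.Euler.exists_isHilbPoly (k := k) (L := L) hL.1 hO hdim.le
  obtain ⟨hdeg, hpos⟩ := Groth.L03.Euler.natDegree_eq_and_coeff_pos hL hO hdim hq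
  have hLs : ∀ _ : Fin d, PicF.IsInvertible L := fun _ => hL.1
  have hval : ∀ n : Fin d → ℕ, Groth.L03.Euler.twEuler k (fun _ : Fin d => L) (Coh.structureModule X) n =
      q.eval ((∑ i, n i : ℕ) : ℚ) := fun n => by
    obtain ⟨e⟩ := nonempty_tensorPows_const L n
    rw [← hq (∑ i, n i)]
    exact congrArg (Int.cast : ℤ → ℚ) (Groth.L03.Euler.euler_iso (Groth.L00.Tensor.tensorIso (Iso.refl _) e))
  have hc : MvPolynomial.coeff (Finsupp.equivFunOnFinite.symm fun _ : Fin d => 1) P =
      (d.factorial : ℚ) * q.coeff d := by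
    rw [Groth.L22.Inter.coeff_eq_alt (Groth.L03.Euler.twEuler_mem' k hLs hO hdim.le)
      fun n => (Groth.L03.Euler.euler_tensorPows_eq k _ _ n).symm.trans (hP n), ← alt_eval_sum q hqd]
    congr 1
    funext n
    exact hval n
  have hfac : (0 : ℚ) < d.factorial := by exact_mod_cast d.factorial_pos
  rw [hc]
  refine ⟨mul_pos hfac hpos, ?_⟩
  rw [mul_div_cancel_left₀ _ hfac.ne']
  obtain ⟨d₀, hd₀⟩ := Groth.L16.Existence.exists_vanishing_of_isAmple (A := k) hL hO
  let h0 : ℕ → ℚ := fun n => (Module.finrank k (Coh.HH X (CohB1.tensorPow L n) 0) : ℚ)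
  have hlarge : ∀ n, d₀ ≤ n → h0 n = q.eval (n : ℚ) := fun n hn => by
    rw [← hq n]
    have e : ShStab.twist X L (Coh.structureModule X) n ≅ CohB1.tensorPow L n := Groth.L00.Tensor.tensorUnitLeft _
    rw [Groth.L03.Euler.euler_iso e, Groth.L03.Euler.euler_eq_sum (k := k) (N := 1) fun i hi => ?_]
    · simp [h0]
    · exact Groth.L16.ProjSpace.subsingleton_of_iso (Groth.L00.Tensor.tensorUnitRight _).symm i (hd₀ n hn i hi)
  refine ⟨(∑ i ∈ Finset.range d, |q.coeff i|) + ∑ n ∈ Finset.range d₀, |h0 n - q.coeff d * (n : ℚ) ^ d|,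
    fun n => ?_⟩
  have hA : 0 ≤ ∑ i ∈ Finset.range d, |q.coeff i| := Finset.sum_nonneg fun i _ => abs_nonneg _
  have hB : 0 ≤ ∑ n ∈ Finset.range d₀, |h0 n - q.coeff d * (n : ℚ) ^ d| := Finset.sum_nonneg fun i _ => abs_nonneg _
  have h1 : (1 : ℚ) ≤ ((n : ℚ) + 1) ^ (d - 1) := one_le_pow₀ (by linarith [(n.cast_nonneg : (0 : ℚ) ≤ n)])
  show |h0 n - q.coeff d * (n : ℚ) ^ d| ≤ _
  by_cases hn : d₀ ≤ n
  · rw [hlarge n hn, Polynomial.eval_eq_sum_range' (n := d + 1) (by omega), Finset.sum_range_succ, add_sub_cancel_right]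
    refine (Finset.abs_sum_le_sum_abs _ _).trans ?_
    rw [add_mul, Finset.sum_mul]
    refine le_add_of_le_of_nonneg (Finset.sum_le_sum fun i hi => ?_) (mul_nonneg hB (zero_le_one.trans h1))
    rw [abs_mul, abs_pow, Nat.abs_cast]
    refine mul_le_mul_of_nonneg_left ?_ (abs_nonneg _)
    exact (pow_le_pow_left₀ n.cast_nonneg (by linarith) i).trans
      (pow_le_pow_right₀ (by linarith [(n.cast_nonneg : (0 : ℚ) ≤ n)]) (by have := Finset.mem_range.1 hi; omega))
  · refine le_trans ?_ (le_mul_of_one_le_right (add_nonneg hA hB) h1)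
    exact le_add_of_nonneg_of_le hA (Finset.single_le_sum (f := fun m : ℕ => |h0 m - q.coeff d * (m : ℚ) ^ d|)
      (fun i _ => abs_nonneg _) (Finset.mem_range.2 (not_le.1 hn)))

end Groth.Agent.S7649
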