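import Groth.Statements.S7650
import Groth.Agent.L22.Inter.Top
import Groth.Agent.L22.Inter.Coeff
import Groth.Agent.L22.Inter.Push
import Groth.Agent.L22.Inter.Point

set_option autoImplicit false
universe u
open CategoryTheory CategoryTheory.Limits AlgebraicGeometry
open Variety

namespace Groth.Agent.S7650

/-- Let X be proper over a field k, F a coherent module with dim Supp(F) = d and L_1, …, L_r invertible
modules. The Euler characteristic of F twisted by L_1^{⊗n_1} ⊗ ⋯ ⊗ L_r^{⊗n_r}, minus the sum over
the d-dimensional irreducible components Z of Supp(F) of the length of F at the generic point of Z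
times the Euler characteristic on Z of the restricted twist, agrees with a rational polynomial in
the exponents each of whose monomials has total degree less than d. Here the sum is written over all
points ξ of X whose closure has dimension d (the term vanishes unless ξ is the generic point of a
d-dimensional component of Supp(F)), and Z_ξ carries its reduced induced structure. (The published
statement lets the exponents range over all integers; this row takes them in ℕ.) -/
theorem result (k : Type u) [Field k] (X : Scheme.{u}) [X.Over (Spec (CommRingCat.of k))] [IsProper (X ↘ (Spec (CommRingCat.of k)))]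
    (F : X.Modules) (hF : Coh.IsCoh F) (d : ℕ) (hd : topologicalKrullDim (CohB1.support F) = d)
    (r : ℕ) (L : Fin r → X.Modules) (hL : ∀ i, PicF.IsInvertible (L i)) :
    ∃ P : MvPolynomial (Fin r) ℚ, (∀ m ∈ P.support, (m.sum fun _ e => e) < d) ∧
      ∀ n : Fin r → ℕ,
        (Curv2.euler k X (Curv2.tensorPows F r L n) : ℚ) -
          ∑ᶠ ξ : X, (if topologicalKrullDim (closure ({ξ} : Set X)) = (d : WithBot ℕ∞) then
            ((Module.length (X.presheaf.stalk ξ) (F.presheaf.stalk ξ)).toNat : ℚ) *
              (@Curv2.euler k _
                (Scheme.IdealSheafData.vanishingIdeal (⟨closure ({ξ} : Set X), isClosed_closure⟩ : TopologicalSpace.Closeds X)).subscheme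
                ⟨(Scheme.IdealSheafData.vanishingIdeal (⟨closure ({ξ} : Set X), isClosed_closure⟩ : TopologicalSpace.Closeds X)).subschemeι ≫ (X ↘ (Spec (CommRingCat.of k)))⟩
                (Curv2.tensorPows
                  (Coh.structureModule (Scheme.IdealSheafData.vanishingIdeal (⟨closure ({ξ} : Set X), isClosed_closure⟩ : TopologicalSpace.Closeds X)).subscheme)
                  r (fun i => (Scheme.Modules.pullback
                    (Scheme.IdealSheafData.vanishingIdeal (⟨closure ({ξ} : Set X), isClosed_closure⟩ : TopologicalSpace.Closeds X)).subschemeι).obj (L i)) n) : ℚ)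
            else 0)
          = MvPolynomial.eval (fun i => (n i : ℚ)) P := by
  classical
  open Groth.L22.Inter Groth.L03.Euler in
  haveI := Groth.L21.RR.isNoetherian_of_proper (X := X) k
  haveI : X.IsSeparated := ⟨by rw [← terminal.comp_from (X ↘ Spec (CommRingCat.of k))]; infer_instance⟩
  have hT := Groth.L16.CohSupport.isClosed_support F hF.2
  let S := (Groth.L22.Inter.finite_top hT hd.le).toFinset
  have hS : ∀ x, x ∈ S ↔ x ∈ CohB1.support F ∧
      topologicalKrullDim (closure ({x} : Set X)) = (d : WithBot ℕ∞) := fun x => Set.Finite.mem_toFinset _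
  have key := Groth.L22.Inter.twEuler_sub_sum_mem k hL hT hd.le S hS (fun y => ClSub.quotMod (Groth.L22.Inter.pt y))
    (fun y _ => Groth.L22.Inter.pt_facts y) hF subset_rfl
  obtain ⟨P, hP, hP', -⟩ := Groth.L22.Inter.exists_mvPolynomial' key
  refine ⟨P, hP, fun n => ?_⟩
  rw [← hP' n, Pi.sub_apply, Finset.sum_apply, Groth.L03.Euler.euler_tensorPows_eq]
  congr 1
  rw [finsum_eq_sum_of_support_subset _ (s := S) ?_]
  · refine Finset.sum_congr rfl fun y hy => ?_
    rw [if_pos ((hS y).1 hy).2, Pi.smul_apply, smul_eq_mul]
    congr 1
    letI : (Groth.L22.Inter.pt y).subscheme.Over (Spec (CommRingCat.of k)) :=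
      ⟨(Groth.L22.Inter.pt y).subschemeι ≫ (X ↘ (Spec (CommRingCat.of k)))⟩
    haveI : IsLocallyNoetherian (Groth.L22.Inter.pt y).subscheme :=
      LocallyOfFiniteType.isLocallyNoetherian (Groth.L22.Inter.pt y).subschemeι
    refine (Groth.L03.Euler.euler_tensorPows_eq k _ _ n).trans ?_
    exact (Groth.L22.Inter.twEuler_push k (Groth.L22.Inter.pt y).subschemeι rfl hL _
      Groth.L16.CohClosedPush.isCoh_structure.1 n).symm
  · intro y hy
    by_contra hnot
    refine hy ?_
    show ite _ _ _ = (0 : ℚ)
    split_ifs with h
    · have h0 : y ∉ CohB1.support F := fun hm => hnot (Finset.mem_coe.2 ((hS y).2 ⟨hm, h⟩))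
      have h1 : Groth.L16.CohSupport.len y F = 0 := (Groth.L16.CohSupport.len_eq_zero_iff y F).2 h0
      change ((Groth.L16.CohSupport.len y F).toNat : ℚ) * _ = 0
      rw [h1]
      simp
    · rfl


end Groth.Agent.S7650
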