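import Groth.Statements.S7651

set_option autoImplicit false
universe u
open CategoryTheory CategoryTheory.Limits AlgebraicGeometry
open Variety

namespace Groth.Agent.S7651

open IsLocalRing

section

variable {A : Type u} [CommRing A] [IsLocalRing A] [IsNoetherianRing A]

theorem maximalIdeal_not_minimal (hdim : ringKrullDim A = 1) :
    maximalIdeal A ∉ minimalPrimes A := fun h => by
  have h0 := Ideal.height_eq_zero_iff.mpr h
  have := IsLocalRing.maximalIdeal_height_eq_ringKrullDim (R := A)
  rw [hdim, h0] at this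
  exact zero_ne_one (α := WithBot ℕ∞) (by exact_mod_cast this)

theorem prime_minimal_or_max (hdim : ringKrullDim A = 1) (p : Ideal A) [p.IsPrime] :
    p ∈ minimalPrimes A ∨ p = maximalIdeal A := by
  by_cases h : p = maximalIdeal A
  · exact Or.inr h
  · left
    have hlt : p < maximalIdeal A :=
      lt_of_le_of_ne (IsLocalRing.le_maximalIdeal Ideal.IsPrime.ne_top') h
    have h1 := Ideal.height_strict_mono_of_isPrime hlt
    have h2 := IsLocalRing.maximalIdeal_height_eq_ringKrullDim (R := A)
    rw [hdim] at h2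
    have h3 : (maximalIdeal A).height = 1 := by exact_mod_cast h2
    rw [h3, Order.lt_one_iff] at h1
    exact Ideal.height_eq_zero_iff.mp h1

theorem exists_avoid (hdim : ringKrullDim A = 1) :
    ∃ f ∈ maximalIdeal A, ∀ p ∈ minimalPrimes A, f ∉ p := by
  by_contra hc
  simp only [not_exists, not_and, not_forall, not_not] at hc
  have hsub : ((maximalIdeal A : Ideal A) : Set A) ⊆ ⋃ p ∈ minimalPrimes A, (p : Set A) := by
    intro f hf
    obtain ⟨p, hp, hfp⟩ := hc f hf
    exact Set.mem_biUnion hp hfp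
  obtain ⟨p, hp, hle⟩ := (Ideal.subset_union_prime_finite
    (minimalPrimes.finite_of_isNoetherianRing A) (f := fun p : Ideal A => p) ⊤ ⊤
    (fun i hi _ _ => hi.1.1)).mp hsub
  haveI := hp.1.1
  exact maximalIdeal_not_minimal hdim
    (((IsLocalRing.maximalIdeal.isMaximal A).eq_of_le Ideal.IsPrime.ne_top' hle) ▸ hp)

theorem radical_iff (hdim : ringKrullDim A = 1) {f : A} (hf : f ∈ maximalIdeal A) :
    maximalIdeal A = (Ideal.span {f}).radical ↔ ∀ p ∈ minimalPrimes A, f ∉ p := by
  constructor
  · intro h p hp hfp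
    haveI := hp.1.1
    have hle : maximalIdeal A ≤ p := by
      rw [h]
      exact Ideal.IsPrime.radical_le_iff inferInstance |>.mpr ((Ideal.span_singleton_le_iff_mem _).mpr hfp)
    exact maximalIdeal_not_minimal hdim
      (((IsLocalRing.maximalIdeal.isMaximal A).eq_of_le Ideal.IsPrime.ne_top' hle) ▸ hp)
  · intro h
    refine le_antisymm ?_ ((Ideal.IsPrime.radical_le_iff inferInstance).mpr
      ((Ideal.span_singleton_le_iff_mem _).mpr hf))
    rw [Ideal.radical_eq_sInf]
    refine le_sInf ?_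
    rintro p ⟨hfp, hp⟩
    haveI := hp
    rcases prime_minimal_or_max hdim p with h1 | h1
    · exact absurd ((Ideal.span_singleton_le_iff_mem _).mp hfp) (h p h1)
    · exact h1.ge

/-- if `s` avoids the minimal primes, then a power of `f ∈ m` is a multiple of `s` -/
theorem exists_pow_eq_mul (hdim : ringKrullDim A = 1) {f s : A} (hf : f ∈ maximalIdeal A)
    (hs : ∀ p ∈ minimalPrimes A, s ∉ p) : ∃ (n : ℕ) (u : A), f ^ n = s * u := by
  by_cases hsm : s ∈ maximalIdeal A
  · have := (radical_iff hdim hsm).mpr hs ▸ hf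
    obtain ⟨n, hn⟩ := this
    obtain ⟨u, hu⟩ := Ideal.mem_span_singleton.mp hn
    exact ⟨n, u, hu⟩
  · have : IsUnit s := by
      simpa [IsLocalRing.mem_maximalIdeal, mem_nonunits_iff] using hsm
    obtain ⟨u, hu⟩ := this.exists_right_inv
    exact ⟨0, u, by rw [pow_zero, hu]⟩

theorem isUnit_atPrime_iff {A : Type u} [CommRing A] (p : Ideal A) [p.IsPrime] (x : A) :
    IsUnit (algebraMap A (Localization.AtPrime p) x) ↔ x ∉ p :=
  IsLocalization.AtPrime.isUnit_to_map_iff (Localization.AtPrime p) p x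

/-- the product of the localizations at the minimal primes is `A_f` -/
theorem isLocalization_pi (hdim : ringKrullDim A = 1) {f : A} (hf : f ∈ maximalIdeal A)
    (hav : ∀ p ∈ minimalPrimes A, f ∉ p) :
    IsLocalization.Away f
      (∀ p : {p : PrimeSpectrum A // p.asIdeal ∈ minimalPrimes A},
        Localization.AtPrime p.1.asIdeal) := by
  classical
  set ι := {p : PrimeSpectrum A // p.asIdeal ∈ minimalPrimes A}
  haveI : Finite ι := by
    haveI := (minimalPrimes.finite_of_isNoetherianRing A).to_subtype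
    refine Finite.of_injective (fun p : ι => (⟨p.1.asIdeal, p.2⟩ : minimalPrimes A)) ?_
    intro a b h
    exact Subtype.ext (PrimeSpectrum.ext (Subtype.ext_iff.mp h))
  haveI : Fintype ι := Fintype.ofFinite ι
  -- separating elements
  have sep : ∀ p q : ι, p ≠ q → ∃ c, c ∉ p.1.asIdeal ∧
      algebraMap A (Localization.AtPrime q.1.asIdeal) c = 0 := by
    intro p q hpq
    have hnle : ¬ q.1.asIdeal ≤ p.1.asIdeal := by
      intro hle
      apply hpq
      have := p.2.2 ⟨q.1.2, bot_le⟩ hle
      exact Subtype.ext (PrimeSpectrum.ext (le_antisymm this hle))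
    obtain ⟨x, hxq, hxp⟩ := SetLike.not_le_iff_exists.mp hnle
    have hx : algebraMap A (Localization.AtPrime q.1.asIdeal) x ∈
        q.1.asIdeal.map (algebraMap A (Localization.AtPrime q.1.asIdeal)) :=
      Ideal.mem_map_of_mem _ hxq
    rw [← IsLocalization.AtPrime.radical_map_of_mem_minimalPrimes (Localization.AtPrime q.1.asIdeal) q.1.asIdeal ⊥ q.2,
      Ideal.map_bot] at hx
    obtain ⟨n, hn⟩ := hx
    refine ⟨x ^ n, fun h => hxp (p.1.2.mem_of_pow_mem n h), ?_⟩
    rw [map_pow]
    simpa using hn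
  choose c hc1 hc2 using sep
  let C : ι → A := fun p => ∏ q : ι, if h : p = q then 1 else c p q h
  have hC1 : ∀ p, C p ∉ p.1.asIdeal := by
    intro p h
    obtain ⟨q, -, hq⟩ := (p.1.2.prod_mem_iff).mp h
    by_cases hpq : p = q
    · rw [dif_pos hpq] at hq
      exact p.1.2.ne_top ((Ideal.eq_top_iff_one _).mpr hq)
    · rw [dif_neg hpq] at hq
      exact hc1 p q hpq hq
  have hC2 : ∀ p q : ι, p ≠ q → algebraMap A (Localization.AtPrime q.1.asIdeal) (C p) = 0 := by
    intro p q hpq
    rw [map_prod]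
    refine Finset.prod_eq_zero (Finset.mem_univ q) ?_
    rw [dif_neg hpq]
    exact hc2 p q hpq
  refine (isLocalization_iff _ _).mpr ⟨?_, ?_, ?_⟩
  · rintro ⟨_, n, rfl⟩
    rw [map_pow]
    refine IsUnit.pow n ?_
    have h : ∀ p : ι, IsUnit (algebraMap A (Localization.AtPrime p.1.asIdeal) f) :=
      fun p => (isUnit_atPrime_iff p.1.asIdeal f).mpr (hav _ p.2)
    exact isUnit_iff_exists_inv.mpr ⟨fun p => ((h p).unit⁻¹ : _), funext fun p => (h p).mul_val_inv⟩
  · intro x
    choose a s hs using fun p : ι =>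
      IsLocalization.exists_mk'_eq p.1.asIdeal.primeCompl (x p)
    let d : A := ∑ p : ι, C p * (s p).1
    have hd : ∀ q : ι, algebraMap A (Localization.AtPrime q.1.asIdeal) d =
        algebraMap A _ (C q * (s q).1) := by
      intro q
      rw [map_sum]
      refine Finset.sum_eq_single q (fun p _ hpq => ?_) (fun h => absurd (Finset.mem_univ q) h)
      rw [map_mul, hC2 p q hpq, zero_mul]
    have hdav : ∀ p ∈ minimalPrimes A, d ∉ p := by
      intro p hp hdp
      haveI := hp.1.1
      let q : ι := ⟨⟨p, hp.1.1⟩, hp⟩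
      have h1 : IsUnit (algebraMap A (Localization.AtPrime q.1.asIdeal) d) := by
        rw [hd q]
        exact (isUnit_atPrime_iff q.1.asIdeal _).mpr (q.1.2.mul_notMem (hC1 q) (s q).2)
      exact (isUnit_atPrime_iff q.1.asIdeal d).mp h1 hdp
    obtain ⟨n, u, hu⟩ := exists_pow_eq_mul hdim hf hdav
    refine ⟨(u * ∑ p : ι, C p * a p, ⟨f ^ n, n, rfl⟩), ?_⟩
    funext q
    have hsum : algebraMap A (Localization.AtPrime q.1.asIdeal) (∑ p : ι, C p * a p) =
        algebraMap A _ (C q * a q) := by
      rw [map_sum]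
      refine Finset.sum_eq_single q (fun p _ hpq => ?_) (fun h => absurd (Finset.mem_univ q) h)
      rw [map_mul, hC2 p q hpq, zero_mul]
    show x q * algebraMap A (Localization.AtPrime q.1.asIdeal) (f ^ n) =
      algebraMap A (Localization.AtPrime q.1.asIdeal) (u * ∑ p : ι, C p * a p)
    rw [map_mul, hsum, hu, map_mul, hd, ← hs q, map_mul, map_mul,
      ← IsLocalization.mk'_spec (Localization.AtPrime q.1.asIdeal) (a q) (s q)]
    ring
  · intro a b hab
    let J : Ideal A := LinearMap.ker (LinearMap.toSpanSingleton A A (a - b))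
    have hJ : ∀ p ∈ minimalPrimes A, ¬ J ≤ p := by
      intro p hp hle
      haveI := hp.1.1
      let q : ι := ⟨⟨p, hp.1.1⟩, hp⟩
      have h := congr_fun hab q
      obtain ⟨t, ht⟩ := (IsLocalization.eq_iff_exists q.1.asIdeal.primeCompl _).mp h
      refine t.2 (hle ?_)
      show (t : A) • (a - b) = 0
      rw [smul_eq_mul, mul_sub, ht, sub_self]
    have : f ∈ J.radical := by
      rw [Ideal.radical_eq_sInf, Submodule.mem_sInf]
      rintro p ⟨hle, hp⟩
      haveI := hp
      rcases prime_minimal_or_max hdim p with h1 | h1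
      · exact absurd hle (hJ p h1)
      · exact h1 ▸ hf
    obtain ⟨n, hn⟩ := this
    refine ⟨⟨f ^ n, n, rfl⟩, ?_⟩
    have h0 : f ^ n * (a - b) = 0 := hn
    rwa [mul_sub, sub_eq_zero] at h0

theorem atPrime_isField_of_reduced {A : Type u} [CommRing A] [IsReduced A] (p : Ideal A)
    [p.IsPrime] (hp : p ∈ minimalPrimes A) :
    Function.Bijective (algebraMap (Localization.AtPrime p) p.ResidueField) := by
  refine ⟨?_, IsLocalRing.residue_surjective⟩
  rw [injective_iff_map_eq_zero]
  intro x hx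
  have hx' : x ∈ maximalIdeal (Localization.AtPrime p) :=
    Ideal.Quotient.eq_zero_iff_mem.mp hx
  rw [← IsLocalization.AtPrime.map_eq_maximalIdeal p (Localization.AtPrime p),
    ← IsLocalization.AtPrime.radical_map_of_mem_minimalPrimes (Localization.AtPrime p) p ⊥ hp, Ideal.map_bot] at hx'
  obtain ⟨n, hn⟩ := hx'
  exact _root_.IsReduced.eq_zero x ⟨n, by simpa using hn⟩

theorem nzd_of_avoid_reduced {A : Type u} [CommRing A] [IsReduced A] {f : A}
    (h : ∀ p ∈ minimalPrimes A, f ∉ p) : f ∈ nonZeroDivisors A := by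
  rw [mem_nonZeroDivisors_iff_right]
  intro a ha
  have : a ∈ nilradical A := by
    rw [nilradical, ← Ideal.sInf_minimalPrimes, Submodule.mem_sInf]
    intro (p : Ideal A) hp
    have hp' : p.IsPrime := hp.1.1
    exact (hp'.mem_or_mem (show a * f ∈ p from ha.symm ▸ (Ideal.zero_mem p))).resolve_right (h p hp)
  exact _root_.IsReduced.eq_zero a (mem_nilradical.mp this)

theorem nzd_of_avoid (hdim : ringKrullDim A = 1) (h : LocCoh.depth A A = 1 ∨ IsReduced A) {f : A}
    (hav : ∀ p ∈ minimalPrimes A, f ∉ p) : f ∈ nonZeroDivisors A := by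
  rcases h with h | h
  · -- a regular element of `m`
    obtain ⟨g, hg, hreg⟩ : ∃ g ∈ maximalIdeal A, IsSMulRegular A g := by
      by_contra hc
      simp only [not_exists, not_and] at hc
      have hle : LocCoh.depth A A ≤ 0 := by
        rw [LocCoh.depth, LocCoh.idealDepth, if_neg]
        · refine iSup₂_le fun rs hrs => ?_
          cases rs with
          | nil => simp
          | cons r rs =>
            exfalso
            exact hc r (hrs.2 r List.mem_cons_self)
              ((RingTheory.Sequence.isWeaklyRegular_cons_iff A r rs).mp hrs.1).1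
        · intro htop
          rw [Ideal.smul_eq_mul, Ideal.mul_top] at htop
          exact (IsLocalRing.maximalIdeal.isMaximal A).ne_top htop
      rw [h] at hle
      simp at hle
    have hgn : g ∈ nonZeroDivisors A := by
      rw [mem_nonZeroDivisors_iff_right]
      intro a ha
      exact hreg.right_eq_zero_of_smul (by rw [smul_eq_mul, mul_comm]; exact ha)
    obtain ⟨n, u, hu⟩ := exists_pow_eq_mul hdim hg hav
    have : g ^ n ∈ nonZeroDivisors A := pow_mem hgn n
    rw [hu] at this
    exact (mul_mem_nonZeroDivisors.mp this).1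
  · haveI := h
    exact nzd_of_avoid_reduced hav

end

theorem result (A : Type u) [CommRing A] [IsLocalRing A]
    [IsNoetherianRing A] (hdim : ringKrullDim A = 1) :
    (∃ f ∈ IsLocalRing.maximalIdeal A, ∀ p ∈ minimalPrimes A, f ∉ p) ∧
    ∀ f ∈ IsLocalRing.maximalIdeal A,
      ((IsLocalRing.maximalIdeal A = (Ideal.span {f}).radical) ↔ (∀ p ∈ minimalPrimes A, f ∉ p)) ∧
      ((∀ p ∈ minimalPrimes A, f ∉ p) ↔
        Nonempty (Localization.Away f ≃ₐ[A] (∀ p : {p : PrimeSpectrum A // p.asIdeal ∈ minimalPrimes A}, Localization.AtPrime p.1.asIdeal))) ∧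
      ((LocCoh.depth A A = 1 ∨ IsReduced A) →
        ((∀ p ∈ minimalPrimes A, f ∉ p) ↔ f ∈ nonZeroDivisors A) ∧
        ((∀ p ∈ minimalPrimes A, f ∉ p) ↔ IsLocalization (nonZeroDivisors A) (Localization.Away f))) ∧
      (IsReduced A →
        ((∀ p ∈ minimalPrimes A, f ∉ p) ↔
          Nonempty (Localization.Away f ≃ₐ[A] (∀ p : {p : PrimeSpectrum A // p.asIdeal ∈ minimalPrimes A}, p.1.asIdeal.ResidueField)))) := by
  refine ⟨exists_avoid hdim, fun f hf => ?_⟩
  have hiso : (∀ p ∈ minimalPrimes A, f ∉ p) →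
      Nonempty (Localization.Away f ≃ₐ[A] (∀ p : {p : PrimeSpectrum A // p.asIdeal ∈ minimalPrimes A}, Localization.AtPrime p.1.asIdeal)) := by
    intro hav
    haveI := isLocalization_pi hdim hf hav
    exact ⟨IsLocalization.algEquiv (Submonoid.powers f) _ _⟩
  have hnav : ∀ {p : Ideal A}, p ∈ minimalPrimes A → f ∈ nonZeroDivisors A → f ∉ p :=
    fun hp hfn hfp => notMem_nonZeroDivisors_of_mem_mem_minimalPrimes hfp hp hfn
  refine ⟨radical_iff hdim hf, ⟨hiso, ?_⟩, fun hd => ⟨⟨fun hav => nzd_of_avoid hdim hd hav,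
    fun hfn p hp => hnav hp hfn⟩, ⟨?_, ?_⟩⟩, fun hr => ⟨?_, ?_⟩⟩
  · rintro ⟨e⟩ p hp
    haveI := hp.1.1
    let q : {p : PrimeSpectrum A // p.asIdeal ∈ minimalPrimes A} := ⟨⟨p, hp.1.1⟩, hp⟩
    have hu := (IsLocalization.Away.algebraMap_isUnit (S := Localization.Away f) f).map e
    rw [AlgEquiv.commutes] at hu
    replace hu := fun i => hu.map (Pi.evalRingHom (fun p : {p : PrimeSpectrum A // p.asIdeal ∈ minimalPrimes A} => _) i)
    simp only [Pi.evalRingHom_apply, Pi.algebraMap_apply] at hu
    exact (isUnit_atPrime_iff q.1.asIdeal f).mp (hu q)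
  · intro hav
    have hfn := nzd_of_avoid hdim hd hav
    refine (isLocalization_iff _ _).mpr ⟨?_, ?_, ?_⟩
    · rintro ⟨s, hs⟩
      obtain ⟨n, u, hu⟩ := exists_pow_eq_mul hdim hf
        (fun p hp hsp => notMem_nonZeroDivisors_of_mem_mem_minimalPrimes hsp hp hs)
      have hu' := (IsLocalization.Away.algebraMap_isUnit (S := Localization.Away f) f).pow n
      rw [← map_pow, hu, map_mul] at hu'
      exact isUnit_of_mul_isUnit_left hu'
    · intro z
      obtain ⟨⟨a, s⟩, h⟩ := IsLocalization.surj (Submonoid.powers f) z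
      obtain ⟨n, hn⟩ := s.2
      exact ⟨(a, ⟨s.1, hn ▸ pow_mem hfn n⟩), h⟩
    · intro a b h
      obtain ⟨⟨s, n, hn⟩, hs⟩ := (IsLocalization.eq_iff_exists (Submonoid.powers f) _).mp h
      exact ⟨⟨s, hn ▸ pow_mem hfn n⟩, hs⟩
  · intro hloc p hp
    refine hnav hp ?_
    rw [mem_nonZeroDivisors_iff_right]
    intro a ha
    refine IsLocalization.injective (Localization.Away f) (le_refl (nonZeroDivisors A)) ?_
    rw [map_zero]
    refine (IsLocalization.Away.algebraMap_isUnit (S := Localization.Away f) f).mul_left_eq_zero.mp ?_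
    rw [← map_mul, ha, map_zero]
  · intro hav
    obtain ⟨e⟩ := hiso hav
    haveI := hr
    refine ⟨e.trans (AlgEquiv.piCongrRight fun p => AlgEquiv.ofBijective
      (IsScalarTower.toAlgHom A (Localization.AtPrime p.1.asIdeal) p.1.asIdeal.ResidueField)
      (atPrime_isField_of_reduced p.1.asIdeal p.2))⟩
  · rintro ⟨e⟩ p hp hfp
    haveI := hp.1.1
    let q : {p : PrimeSpectrum A // p.asIdeal ∈ minimalPrimes A} := ⟨⟨p, hp.1.1⟩, hp⟩
    have hu := (IsLocalization.Away.algebraMap_isUnit (S := Localization.Away f) f).map e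
    rw [AlgEquiv.commutes] at hu
    replace hu := fun i => hu.map (Pi.evalRingHom (fun p : {p : PrimeSpectrum A // p.asIdeal ∈ minimalPrimes A} => _) i)
    simp only [Pi.evalRingHom_apply, Pi.algebraMap_apply] at hu
    have := hu q
    exact this.ne_zero (Ideal.algebraMap_residueField_eq_zero.mpr hfp)

end Groth.Agent.S7651
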