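
import Groth.Statements.S7653
import Groth.Agent.L22.Norm.Reduced

set_option autoImplicit false
universe u
open CategoryTheory CategoryTheory.Limits AlgebraicGeometry
open Variety

namespace Groth.Agent.S7653

/-- For a reduced local Nagata ring A of Krull dimension one, the δ-invariant of A is zero exactly when
A is a DVR (in particular a domain). -/
theorem result (A : Type u) [CommRing A] [IsLocalRing A]
    [IsReduced A] (hN : CAlg.IsNagata A) (hdim : ringKrullDim A = 1) :
    Curv2.deltaInv A = 0 ↔ ∃ _ : IsDomain A, IsDiscreteValuationRing A := by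
  haveI : IsNoetherianRing A := hN.1
  constructor
  · intro h
    have hsurj : Function.Surjective (algebraMap A (integralClosure A (FractionRing A))) := by
      have hs : Subsingleton (↥(integralClosure A (FractionRing A)) ⧸
          LinearMap.range (Algebra.linearMap A ↥(integralClosure A (FractionRing A)))) :=
        Module.length_eq_zero_iff.1 h
      intro z
      have : Submodule.Quotient.mk (p := LinearMap.range
          (Algebra.linearMap A ↥(integralClosure A (FractionRing A)))) z = 0 := Subsingleton.elim _ _
      exact (Submodule.Quotient.mk_eq_zero _).1 this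
    have hinj : Function.Injective (algebraMap A (integralClosure A (FractionRing A))) :=
      fun a b h => IsFractionRing.injective A (FractionRing A) (congrArg Subtype.val h)
    let e := RingEquiv.ofBijective _ ⟨hinj, hsurj⟩
    haveI : IsLocalRing (integralClosure A (FractionRing A)) := e.isLocalRing
    let q := IsLocalRing.maximalIdeal (integralClosure A (FractionRing A))
    obtain ⟨hdom, hic⟩ := Groth.L22.Norm.isDomain_isIntegrallyClosed_localization A q
    let φ := e.trans (IsLocalization.atUnits _ q.primeCompl (S := Localization.AtPrime q)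
      fun x hx => not_not.1 fun hu => hx ((IsLocalRing.mem_maximalIdeal x).2 hu)).toRingEquiv
    haveI : IsDomain A := φ.toMulEquiv.isDomain
    haveI : IsIntegrallyClosed A := IsIntegrallyClosed.of_equiv (R := Localization.AtPrime q) (S := A) φ.symm
    haveI : Ring.KrullDimLE 1 A := by rw [Ring.krullDimLE_iff, hdim]; rfl
    haveI : Ring.DimensionLEOne A := ⟨fun {P} hP0 hP => hP.isMaximal_of_ne_bot hP0⟩
    haveI : IsDedekindRing A := (isDedekindRing_iff A (FractionRing A)).mpr
      ⟨inferInstance, inferInstance, fun {x} hx => IsIntegrallyClosed.isIntegral_iff.1 hx⟩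
    haveI : IsDedekindDomain A := {}
    have hf : ¬ IsField A := fun hf => by
      rw [ringKrullDim_eq_zero_of_isField hf] at hdim
      exact zero_ne_one hdim
    have hiff : IsDiscreteValuationRing A ↔ IsDedekindDomain A :=
      (IsDiscreteValuationRing.TFAE A hf).out 0 2
    exact ⟨inferInstance, hiff.2 inferInstance⟩
  · rintro ⟨_, _⟩
    refine Module.length_eq_zero_iff.2 ⟨fun x y => ?_⟩
    obtain ⟨x, rfl⟩ := Submodule.Quotient.mk_surjective _ x
    obtain ⟨y, rfl⟩ := Submodule.Quotient.mk_surjective _ y
    refine (Submodule.Quotient.eq _).2 ?_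
    obtain ⟨a, ha⟩ := IsIntegrallyClosed.isIntegral_iff.1 (x - y).2
    exact ⟨a, Subtype.ext ha⟩

end Groth.Agent.S7653
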