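import Groth.Statements.S7656
import Groth.Agent.L22.Branches.FieldExtBC
import Groth.Agent.L07.FieldStalk
-- import your own Groth.Agent.* helpers here

set_option autoImplicit false
universe u
open CategoryTheory CategoryTheory.Limits AlgebraicGeometry
open Variety

namespace Groth.Agent.S7656

/-- For X locally of finite type over a field k, a field extension K/k and a point y of X_K over x ∈ X,
the local rings of X at x and of X_K at y have the same number of geometric branches. -/
theorem result (k : Type u) [Field k] (X : Scheme.{u}) [X.Over (Spec (CommRingCat.of k))]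
    [LocallyOfFiniteType (X ↘ (Spec (CommRingCat.of k)))] (K : Type u) [Field K] [Algebra k K]
    (y : ↥(Curv2.bc k X K)) :
    Brnch.numGeomBranchesAt X ((Curv2.bcFst k X K).base y) =
      Brnch.numGeomBranchesAt (Curv2.bc k X K) y := by
  classical
  letI := Curv2.stalkAlgebra k X ((Curv2.bcFst k X K).base y)
  obtain ⟨Q, hQ, ⟨e⟩⟩ := Groth.L07.FieldStalk.exists_point_over k X ((Curv2.bcFst k X K).base y) K y rfl
  unfold Brnch.numGeomBranchesAt
  let O := X.presheaf.stalk ((Curv2.bcFst k X K).base y)
  let c : TensorProduct k O K ≃ₐ[k] TensorProduct k K O := Algebra.TensorProduct.comm k O K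
  let q : Ideal (TensorProduct k O K) := Q.asIdeal.comap c.toRingEquiv.toRingHom
  letI : Algebra (TensorProduct k O K) ((Curv2.bc k X K).presheaf.stalk y) :=
    ((e.toRingHom.comp (algebraMap (TensorProduct k K O) (Localization.AtPrime Q.asIdeal))).comp
      c.toRingEquiv.toRingHom).toAlgebra
  haveI : IsLocalization.AtPrime ((Curv2.bc k X K).presheaf.stalk y) q := by
    letI : Algebra (TensorProduct k K O) ((Curv2.bc k X K).presheaf.stalk y) :=
      (e.toRingHom.comp (algebraMap (TensorProduct k K O) (Localization.AtPrime Q.asIdeal))).toAlgebra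
    haveI h1 : IsLocalization Q.asIdeal.primeCompl ((Curv2.bc k X K).presheaf.stalk y) :=
      IsLocalization.isLocalization_of_algEquiv Q.asIdeal.primeCompl
        (AlgEquiv.ofRingEquiv (f := e) (fun _ => rfl) :
          Localization.AtPrime Q.asIdeal ≃ₐ[TensorProduct k K O] _)
    have h2 := IsLocalization.isLocalization_of_base_ringEquiv Q.asIdeal.primeCompl
      ((Curv2.bc k X K).presheaf.stalk y) c.symm.toRingEquiv
    have hM : Q.asIdeal.primeCompl.map (c.symm.toRingEquiv : TensorProduct k K O →* TensorProduct k O K) =
        q.primeCompl := by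
      ext z
      constructor
      · rintro ⟨w, hw, rfl⟩
        show c (c.symm w) ∉ Q.asIdeal
        rwa [AlgEquiv.apply_symm_apply]
      · intro hz
        exact ⟨c z, hz, c.symm_apply_apply z⟩
    show IsLocalization q.primeCompl _
    rw [← hM]
    exact h2
  refine (Groth.L22.Branches.numGeomBranches_eq k K O q ?_ _).symm
  rw [← hQ, Ideal.comap_comap]
  congr 1

end Groth.Agent.S7656
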