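
import Groth.Statements.S7658
import Groth.Agent.L22.FinAff.Images
import Mathlib.AlgebraicGeometry.Morphisms.Separated

set_option autoImplicit false
universe u
open CategoryTheory CategoryTheory.Limits AlgebraicGeometry
open Variety

namespace Groth.Agent.S7658

variable {X Y : Scheme.{u}} (f : X ⟶ Y) (U U' : X.Opens)
  [IsOpenImmersion (U.ι ≫ f)] [IsOpenImmersion (U'.ι ≫ f)]

theorem isOpenImmersion_chart :
    IsOpenImmersion ((pullback.fst f f ⁻¹ᵁ U ⊓ pullback.snd f f ⁻¹ᵁ U').ι ≫ pullback.fst f f ≫ f) := by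
  let m := pullback.map (U.ι ≫ f) (U'.ι ≫ f) f f U.ι U'.ι (𝟙 Y) (Category.comp_id _) (Category.comp_id _)
  have hm : m.opensRange = pullback.fst f f ⁻¹ᵁ U ⊓ pullback.snd f f ⁻¹ᵁ U' := by
    ext z
    show z ∈ Set.range m ↔ _
    rw [Scheme.Pullback.range_map]
    simp
  rw [← hm]
  have hc : m ≫ pullback.fst f f ≫ f = pullback.fst (U.ι ≫ f) (U'.ι ≫ f) ≫ U.ι ≫ f := by
    rw [pullback.lift_fst_assoc, Category.assoc]
  have : m.opensRange.ι ≫ pullback.fst f f ≫ f =
      m.isoOpensRange.inv ≫ pullback.fst (U.ι ≫ f) (U'.ι ≫ f) ≫ U.ι ≫ f := by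
    rw [← hc, Scheme.Hom.isoOpensRange_inv_comp_assoc]
  rw [this]
  infer_instance

theorem inj_on_chart {a b : ↥(pullback f f)} (ha : a ∈ pullback.fst f f ⁻¹ᵁ U ⊓ pullback.snd f f ⁻¹ᵁ U')
    (hb : b ∈ pullback.fst f f ⁻¹ᵁ U ⊓ pullback.snd f f ⁻¹ᵁ U')
    (h : pullback.fst f f a = pullback.fst f f b) : a = b := by
  haveI := isOpenImmersion_chart f U U'
  have := ((pullback.fst f f ⁻¹ᵁ U ⊓ pullback.snd f f ⁻¹ᵁ U').ι ≫ pullback.fst f f ≫ f).isOpenEmbedding.injective
    (a₁ := ⟨a, ha⟩) (a₂ := ⟨b, hb⟩) (show f (pullback.fst f f a) = f (pullback.fst f f b) by rw [h])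
  exact congrArg Subtype.val this

theorem exists_lift_gen (ζ : ↥(pullback f f))
    (hζ : ζ ∈ pullback.fst f f ⁻¹ᵁ U ⊓ pullback.snd f f ⁻¹ᵁ U') (y : Y)
    (hy : y ⤳ f (pullback.fst f f ζ)) :
    ∃ w, w ⤳ ζ ∧ w ∈ pullback.fst f f ⁻¹ᵁ U ⊓ pullback.snd f f ⁻¹ᵁ U' ∧
      f (pullback.fst f f w) = y := by
  haveI := isOpenImmersion_chart f U U'
  set c := (pullback.fst f f ⁻¹ᵁ U ⊓ pullback.snd f f ⁻¹ᵁ U').ι ≫ pullback.fst f f ≫ f
  obtain ⟨w, hw⟩ := hy.mem_open c.isOpenEmbedding.isOpen_range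
    (⟨⟨ζ, hζ⟩, rfl⟩ : f (pullback.fst f f ζ) ∈ Set.range c)
  refine ⟨_, ((c.isOpenEmbedding.isInducing.specializes_iff (x := w) (y := ⟨ζ, hζ⟩)).1
    (hw ▸ hy)).map continuous_subtype_val, w.2, hw⟩

theorem exists_lift (ζ : ↥(pullback f f))
    (hζ : ζ ∈ pullback.fst f f ⁻¹ᵁ U ⊓ pullback.snd f f ⁻¹ᵁ U') (w : X)
    (hw : w ⤳ pullback.fst f f ζ) : ∃ w', w' ⤳ ζ ∧ pullback.fst f f w' = w := by
  obtain ⟨w', hs, hm, he⟩ := exists_lift_gen f U U' ζ hζ (f w) (hw.map f.continuous)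
  refine ⟨w', hs, ?_⟩
  have := (U.ι ≫ f).isOpenEmbedding.injective (a₁ := ⟨pullback.fst f f w', hm.1⟩)
    (a₂ := ⟨w, hw.mem_open U.isOpen hζ.1⟩) he
  exact congrArg Subtype.val this

theorem exists_lift' (ζ : ↥(pullback f f))
    (hζ : ζ ∈ pullback.fst f f ⁻¹ᵁ U ⊓ pullback.snd f f ⁻¹ᵁ U') (w : X)
    (hw : w ⤳ pullback.snd f f ζ) : ∃ w', w' ⤳ ζ ∧ pullback.snd f f w' = w := by
  have hc : ∀ z, f (pullback.fst f f z) = f (pullback.snd f f z) := fun z =>
    congr($(pullback.condition (f := f) (g := f)) z)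
  obtain ⟨w', hs, hm, he⟩ := exists_lift_gen f U U' ζ hζ (f w) (hc ζ ▸ hw.map f.continuous)
  refine ⟨w', hs, ?_⟩
  have := (U'.ι ≫ f).isOpenEmbedding.injective (a₁ := ⟨pullback.snd f f w', hm.2⟩)
    (a₂ := ⟨w, hw.mem_open U'.isOpen hζ.2⟩) ((hc w').symm.trans he)
  exact congrArg Subtype.val this


/-- A separated morphism of schemes f : X → Y such that X has an open covering on whose members f
restricts to open immersions, and such that no two distinct generic points of irreducible components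
of X have the same image under f, is an open immersion. -/
theorem result {X Y : Scheme.{u}}
    (f : X ⟶ Y) [IsSeparated f]
    (hloc : ∀ x : X, ∃ U : X.Opens, x ∈ U ∧ IsOpenImmersion (U.ι ≫ f))
    (hinj : ∀ ξ ξ' : X, closure ({ξ} : Set X) ∈ irreducibleComponents (X : Type u) → closure ({ξ'} : Set X) ∈ irreducibleComponents (X : Type u) →
      f.base ξ = f.base ξ' → ξ = ξ') :
    IsOpenImmersion f := by
  classical
  haveI hloc' : ∀ x : X, ∃ U : X.Opens, x ∈ U ∧ IsOpenImmersion (U.ι ≫ f) := hloc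
  have hinjf : Function.Injective f := by
    intro x x' hxx
    obtain ⟨U, hxU, hU⟩ := hloc x
    obtain ⟨U', hxU', hU'⟩ := hloc x'
    obtain ⟨z, hz₁, hz₂⟩ := Scheme.Pullback.exists_preimage_pullback (f := f) (g := f) x x' hxx
    set O : (pullback f f).Opens := pullback.fst f f ⁻¹ᵁ U ⊓ pullback.snd f f ⁻¹ᵁ U' with hO
    have hzO : z ∈ O := ⟨show pullback.fst f f z ∈ U from hz₁ ▸ hxU,
      show pullback.snd f f z ∈ U' from hz₂ ▸ hxU'⟩
    -- a generic point above `z` in the two charts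
    obtain ⟨ζ, hζ, hζz⟩ := Groth.L22.FinAff.exists_isGen_specializes z
    have hζO : ζ ∈ O := hζz.mem_open O.isOpen hzO
    have hg₁ : Groth.L22.FinAff.IsGen (pullback.fst f f ζ) := by
      intro w hw
      -- lift the generization `w` of the first projection to one of `ζ`
      obtain ⟨w', hw', he⟩ := exists_lift f U U' ζ hζO w hw
      rw [hζ w' hw'] at he
      exact he.symm
    have hg₂ : Groth.L22.FinAff.IsGen (pullback.snd f f ζ) := by
      intro w hw
      obtain ⟨w', hw', he⟩ := exists_lift' f U U' ζ hζO w hw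
      rw [hζ w' hw'] at he
      exact he.symm
    have heq : pullback.fst f f ζ = pullback.snd f f ζ :=
      hinj _ _ (Groth.L22.FinAff.closure_mem_of_isGen hg₁)
        (Groth.L22.FinAff.closure_mem_of_isGen hg₂)
        (congr($(pullback.condition (f := f) (g := f)) ζ))
    have hdiag : ζ = pullback.diagonal f (pullback.fst f f ζ) := by
      refine inj_on_chart f U U' hζO ?_ ?_
      · refine ⟨?_, ?_⟩
        · show pullback.fst f f (pullback.diagonal f _) ∈ U
          rw [← Scheme.Hom.comp_apply, pullback.diagonal_fst]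
          exact hζO.1
        · show pullback.snd f f (pullback.diagonal f _) ∈ U'
          rw [← Scheme.Hom.comp_apply, pullback.diagonal_snd, heq]
          exact hζO.2
      · rw [← Scheme.Hom.comp_apply (pullback.diagonal f), pullback.diagonal_fst]
        rfl
    haveI : IsClosedImmersion (pullback.diagonal f) := IsSeparated.diagonal_isClosedImmersion
    obtain ⟨v, hv⟩ : z ∈ Set.range (pullback.diagonal f) :=
      hζz.mem_closed (pullback.diagonal f).isClosedEmbedding.isClosed_range ⟨_, hdiag.symm⟩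
    rw [← hz₁, ← hz₂, ← hv, ← Scheme.Hom.comp_apply, ← Scheme.Hom.comp_apply,
      pullback.diagonal_fst, pullback.diagonal_snd]
  refine IsOpenImmersion.iff_isIso_stalkMap.mpr ⟨?_, fun x => ?_⟩
  · refine Topology.IsOpenEmbedding.of_continuous_injective_isOpenMap f.continuous hinjf fun W hW => ?_
    refine isOpen_iff_forall_mem_open.2 ?_
    rintro _ ⟨x, hx, rfl⟩
    obtain ⟨U, hxU, hU⟩ := hloc x
    refine ⟨(U.ι ≫ f) '' (U.ι ⁻¹' W), ?_, (U.ι ≫ f).isOpenEmbedding.isOpenMap _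
      (hW.preimage U.ι.continuous), ⟨x, hxU⟩, hx, rfl⟩
    rintro _ ⟨w, hw, rfl⟩
    exact ⟨U.ι w, hw, rfl⟩
  · obtain ⟨U, hxU, hU⟩ := hloc x
    have h : IsIso ((U.ι ≫ f).stalkMap ⟨x, hxU⟩) := inferInstance
    rw [Scheme.Hom.stalkMap_comp] at h
    haveI hiso : ∀ p : (U : Scheme), IsIso (U.ι.stalkMap p) := fun p => inferInstance
    exact @IsIso.of_isIso_comp_right _ _ _ _ _ (f.stalkMap x) _ (hiso ⟨x, hxU⟩) h

end Groth.Agent.S7658
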