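
import Groth.Statements.S7659
import Groth.Agent.L22.FinAff.Images

set_option autoImplicit false
universe u
open CategoryTheory CategoryTheory.Limits AlgebraicGeometry
open Variety

namespace Groth.Agent.S7659

/-- The algebra behind the statement. -/
theorem exists_away {A B K : Type u} [CommRing A] [CommRing B] [CommRing K] [Algebra A B]
    [Algebra.FiniteType A B] (P : Ideal A) [P.IsPrime] (q : Ideal B) [q.IsPrime]
    (γ : A →+* K) (hγ : Function.Injective γ) (ε : B →+* K) (hε : ∀ a, ε (algebraMap A B a) = γ a)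
    (hfrac : ∀ z : K, ∃ a σ : A, σ ∉ P ∧ z * γ σ = γ a)
    (hzero : ∀ b : B, ε b = 0 → ∃ g : B, g ∉ q ∧ g * b = 0)
    (hPq : ∀ a, algebraMap A B a ∈ q ↔ a ∈ P) (hunit : ∀ b ∉ q, IsUnit (ε b)) :
    ∃ (e : A) (G : B), e ∉ P ∧ G ∉ q ∧
      IsUnit (algebraMap B (Localization.Away G) (algebraMap A B e)) ∧
      ∀ (L : Type u) [CommRing L] [Algebra B L] [IsLocalization.Away G L] [Algebra A L]
        [IsScalarTower A B L], IsLocalization.Away e L := by
  classical
  obtain ⟨s, hs⟩ := (inferInstance : Algebra.FiniteType A B).out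
  set φ := algebraMap A B
  have hden : ∀ t : Finset B, ∃ (σ : A) (g : B), σ ∉ P ∧ g ∉ q ∧
      ∀ b ∈ t, ∃ a, g * (φ σ * b) = g * φ a := by
    intro t
    induction t using Finset.induction_on with
    | empty => exact ⟨1, 1, fun h => Ideal.IsPrime.ne_top ‹_› ((Ideal.eq_top_iff_one _).2 h),
        fun h => Ideal.IsPrime.ne_top ‹_› ((Ideal.eq_top_iff_one _).2 h), by simp⟩
    | @insert b t _ ih =>
      obtain ⟨σ, g, hσ, hg, ht⟩ := ih
      obtain ⟨a, τ, hτ, ha⟩ := hfrac (ε b)
      obtain ⟨h, hh, he⟩ := hzero (φ τ * b - φ a) (by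
        rw [map_sub, map_mul, hε, hε, sub_eq_zero, mul_comm]; exact ha)
      rw [mul_sub, sub_eq_zero] at he
      refine ⟨σ * τ, g * h, Ideal.IsPrime.mul_notMem ‹_› hσ hτ, Ideal.IsPrime.mul_notMem ‹_› hg hh,
        fun c hc => ?_⟩
      rcases Finset.mem_insert.1 hc with rfl | hc
      · refine ⟨σ * a, ?_⟩
        simp only [map_mul]
        linear_combination g * φ σ * he
      · obtain ⟨a', ha'⟩ := ht c hc
        refine ⟨a' * τ, ?_⟩
        simp only [map_mul]
        linear_combination h * φ τ * ha'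
  obtain ⟨σ, g, hσ, hg, hgen⟩ := hden s
  have hQ : ∀ b : B, ∃ (n : ℕ) (a : A), g * (φ σ ^ n * b) = g * φ a := by
    intro b
    have hb : b ∈ Algebra.adjoin A (s : Set B) := hs ▸ trivial
    induction hb using Algebra.adjoin_induction with
    | mem b hb =>
      obtain ⟨a, ha⟩ := hgen b hb
      exact ⟨1, a, by rw [pow_one]; exact ha⟩
    | algebraMap a => exact ⟨0, a, by rw [pow_zero, one_mul]⟩
    | add b b' _ _ h h' =>
      obtain ⟨n, a, ha⟩ := h
      obtain ⟨m, a', ha'⟩ := h'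
      refine ⟨n + m, a * σ ^ m + a' * σ ^ n, ?_⟩
      simp only [map_add, map_mul, map_pow]
      linear_combination φ σ ^ m * ha + φ σ ^ n * ha'
    | mul b b' _ _ h h' =>
      obtain ⟨n, a, ha⟩ := h
      obtain ⟨m, a', ha'⟩ := h'
      refine ⟨n + m, a * a', ?_⟩
      simp only [map_mul]
      linear_combination φ σ ^ m * b' * ha + φ a * ha'
  obtain ⟨n₀, a₀, ha₀⟩ := hQ g
  have hφσ : φ σ ∉ q := fun h => hσ ((hPq σ).1 h)
  have hφa₀ : φ a₀ ∉ q := fun h => by
    have : g * (φ σ ^ n₀ * g) ∈ q := ha₀ ▸ q.mul_mem_left g h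
    rcases (Ideal.IsPrime.mem_or_mem ‹_› this) with h | h
    · exact hg h
    · rcases (Ideal.IsPrime.mem_or_mem ‹_› h) with h | h
      · exact hφσ ((Ideal.IsPrime.mem_of_pow_mem ‹_› _ h))
      · exact hg h
  refine ⟨σ * a₀, g * φ σ, fun h => ?_, Ideal.IsPrime.mul_notMem ‹_› hg hφσ, ?_, ?_⟩
  · rcases (Ideal.IsPrime.mem_or_mem ‹_› h) with h | h
    · exact hσ h
    · exact hφa₀ ((hPq a₀).2 h)
  all_goals
    have key : ∀ (L : Type u) [CommRing L] [Algebra B L] [IsLocalization.Away (g * φ σ) L],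
        IsUnit (algebraMap B L g) ∧ IsUnit (algebraMap B L (φ σ)) ∧
        algebraMap B L (φ a₀) = algebraMap B L (φ σ) ^ n₀ * algebraMap B L g := by
      intro L _ _ _
      have hu : IsUnit (algebraMap B L g * algebraMap B L (φ σ)) := by
        rw [← map_mul]; exact IsLocalization.Away.algebraMap_isUnit _
      obtain ⟨hu₁, hu₂⟩ := IsUnit.mul_iff.1 hu
      refine ⟨hu₁, hu₂, hu₁.mul_left_cancel ?_⟩
      rw [← map_pow, ← map_mul, ← map_mul, ← map_mul, ha₀]
  · obtain ⟨h1, h2, h3⟩ := key (Localization.Away (g * φ σ))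
    rw [map_mul, map_mul, h3]
    exact h2.mul ((h2.pow _).mul h1)
  · intro L _ _ _ _ _
    obtain ⟨h1, h2, h3⟩ := key L
    have hAL : ∀ a, algebraMap A L a = algebraMap B L (φ a) := fun a =>
      IsScalarTower.algebraMap_apply A B L a
    have he : IsUnit (algebraMap A L (σ * a₀)) := by
      rw [hAL, map_mul, map_mul, h3]
      exact h2.mul ((h2.pow _).mul h1)
    refine ⟨⟨?_, ?_, ?_⟩⟩
    · rintro ⟨_, k, rfl⟩
      simp only [map_pow]
      exact he.pow k
    · intro z
      obtain ⟨⟨b, _, m, rfl⟩, hz⟩ := IsLocalization.surj (Submonoid.powers (g * φ σ)) z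
      obtain ⟨n, a, ha⟩ := hQ b
      have hb : algebraMap B L (φ σ) ^ n * algebraMap B L b = algebraMap B L (φ a) := by
        refine h1.mul_left_cancel ?_
        rw [← map_pow, ← map_mul, ← map_mul, ← map_mul, ha]
      simp only [map_pow, map_mul] at hz
      refine ⟨⟨a * σ ^ (n₀ * m) * a₀ ^ n, (σ * a₀) ^ (m + n), _, rfl⟩, ?_⟩
      simp only [hAL, map_mul, map_pow, h3]
      linear_combination (algebraMap B L (φ σ) ^ (n₀ * m + n₀ * n) * algebraMap B L (φ σ) ^ n *
        algebraMap B L g ^ n) * hz + (algebraMap B L (φ σ) ^ (n₀ * m + n₀ * n) *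
        algebraMap B L g ^ n) * hb
    · intro a a' h
      refine ⟨1, ?_⟩
      suffices a = a' by rw [this]
      apply hγ
      rw [hAL, hAL] at h
      obtain ⟨⟨_, k, rfl⟩, hk⟩ := (IsLocalization.eq_iff_exists (Submonoid.powers (g * φ σ)) L).1 h
      have h0 := congrArg ε hk
      simp only [map_mul, hε] at h0
      exact (hunit ((g * φ σ) ^ k) fun hm =>
        Ideal.IsPrime.mul_notMem ‹_› hg hφσ (Ideal.IsPrime.mem_of_pow_mem ‹_› _ hm)).mul_left_cancel h0


/-- Let f : X → S be a morphism of schemes and x a point with image s such that O_{S,s} → O_{X,x} is an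
isomorphism, S is reduced with finitely many irreducible components, and f is locally of finite
type. Then f restricted to some open neighbourhood of x is an open immersion. (The published
statement assumes f of finite type; this row assumes only that f is locally of finite type.) -/
theorem result {X S : Scheme.{u}} (f : X ⟶ S)
    [LocallyOfFiniteType f] [IsReduced S] (hS : (irreducibleComponents (S : Type u)).Finite)
    (x : X) (hx : IsIso (f.stalkMap x)) :
    ∃ U : X.Opens, x ∈ U ∧ IsOpenImmersion (U.ι ≫ f) := by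
  classical
  haveI := hx
  obtain ⟨G₀, hG₀, hgen⟩ := Groth.L22.FinAff.exists_nhd_isGen_specializes hS (f x)
  obtain ⟨V, hV, hsV, hVG⟩ :=
    TopologicalSpace.Opens.isBasis_iff_nbhd.1 S.isBasis_affineOpens hG₀
  obtain ⟨U, hU, hxU, hUV⟩ := TopologicalSpace.Opens.isBasis_iff_nbhd.1 X.isBasis_affineOpens
    (show x ∈ f ⁻¹ᵁ V from hsV)
  algebraize [(f.appLE V U hUV).hom]
  haveI : Algebra.FiniteType Γ(S, V) Γ(X, U) := f.finiteType_appLE hV hU hUV
  let γ : Γ(S, V) →+* X.presheaf.stalk x :=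
    (S.presheaf.germ V (f x) hsV ≫ f.stalkMap x).hom
  let ε : Γ(X, U) →+* X.presheaf.stalk x := (X.presheaf.germ U x hxU).hom
  let P := hV.primeIdealOf ⟨f x, hsV⟩
  let q := hU.primeIdealOf ⟨x, hxU⟩
  letI : Algebra Γ(S, V) (S.presheaf.stalk (f x)) := (S.presheaf.germ V (f x) hsV).hom.toAlgebra
  letI : Algebra Γ(X, U) (X.presheaf.stalk x) := (X.presheaf.germ U x hxU).hom.toAlgebra
  haveI : IsLocalization.AtPrime (S.presheaf.stalk (f x)) P.asIdeal := hV.isLocalization_stalk ⟨f x, hsV⟩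
  haveI : IsLocalization.AtPrime (X.presheaf.stalk x) q.asIdeal := hU.isLocalization_stalk ⟨x, hxU⟩
  have hbij := ConcreteCategory.bijective_of_isIso (f.stalkMap x)
  have hgermV : Function.Injective (S.presheaf.germ V (f x) hsV) := by
    rw [RingHom.injective_iff_ker_eq_bot, RingHom.ker_eq_bot_iff_eq_zero]
    intro d hd
    obtain ⟨O, hfO, iV, iV', hO⟩ := S.presheaf.germ_eq (f x) hsV hsV d 0
      (hd.trans (map_zero _).symm)
    rw [map_zero] at hO
    rw [← basicOpen_eq_bot_iff, eq_bot_iff]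
    intro y hy
    obtain ⟨ξ, hξ, hξy⟩ := Groth.L22.FinAff.exists_isGen_specializes y
    have hξd : ξ ∈ S.basicOpen d := hξy.mem_open (S.basicOpen d).isOpen hy
    have hξO : ξ ∈ O := (hgen ξ hξ (hVG (S.basicOpen_le d hξd))).mem_open O.isOpen hfO
    have : ξ ∈ S.basicOpen (S.presheaf.map iV.op d) := by
      rw [Scheme.basicOpen_res]; exact ⟨hξO, hξd⟩
    rw [hO, Scheme.basicOpen_zero] at this
    exact this.elim
  have hεφ : ∀ a, ε (algebraMap Γ(S, V) Γ(X, U) a) = γ a := fun a => by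
    show X.presheaf.germ U x hxU (f.appLE V U hUV a) = f.stalkMap x (S.presheaf.germ V (f x) hsV a)
    rw [Scheme.Hom.germ_stalkMap_apply, Scheme.Hom.appLE, CommRingCat.comp_apply,
      TopCat.Presheaf.germ_res_apply]
  have hqunit : ∀ b, b ∉ q.asIdeal ↔ IsUnit (ε b) := fun b =>
    (IsLocalization.AtPrime.isUnit_to_map_iff (X.presheaf.stalk x) q.asIdeal b).symm
  have hPunit : ∀ a, a ∉ P.asIdeal ↔ IsUnit (S.presheaf.germ V (f x) hsV a) := fun a =>
    (IsLocalization.AtPrime.isUnit_to_map_iff (S.presheaf.stalk (f x)) P.asIdeal a).symm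
  obtain ⟨e, G, heP, hGq, -, haway⟩ := exists_away P.asIdeal q.asIdeal γ
    (hbij.1.comp hgermV) ε hεφ
    (fun z => by
      obtain ⟨z', rfl⟩ := hbij.2 z
      obtain ⟨⟨a, σ⟩, h⟩ := IsLocalization.surj P.asIdeal.primeCompl z'
      refine ⟨a, σ.1, σ.2, ?_⟩
      show f.stalkMap x z' * f.stalkMap x (S.presheaf.germ V (f x) hsV σ.1) =
        f.stalkMap x (S.presheaf.germ V (f x) hsV a)
      rw [← map_mul]
      exact congrArg _ h)
    (fun b hb => by
      obtain ⟨⟨g, hg⟩, h⟩ := (IsLocalization.map_eq_zero_iff q.asIdeal.primeCompl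
        (X.presheaf.stalk x) b).1 hb
      exact ⟨g, hg, h⟩)
    (fun a => by
      rw [← not_iff_not, hqunit, hPunit, hεφ]
      exact isUnit_map_iff (f.stalkMap x).hom _)
    (fun b hb => (hqunit b).1 hb)
  refine ⟨X.basicOpen G, (X.mem_basicOpen G x hxU).2 ((hqunit G).1 hGq), ?_⟩
  have hW : IsAffineOpen (X.basicOpen G) := hU.basicOpen G
  have hWV : X.basicOpen G ≤ f ⁻¹ᵁ V := (X.basicOpen_le G).trans hUV
  haveI hL : IsLocalization.Away G Γ(X, X.basicOpen G) := hU.isLocalization_basicOpen G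
  letI : Algebra Γ(S, V) Γ(X, X.basicOpen G) := (f.appLE V (X.basicOpen G) hWV).hom.toAlgebra
  haveI : IsScalarTower Γ(S, V) Γ(X, U) Γ(X, X.basicOpen G) := IsScalarTower.of_algebraMap_eq'
    (congrArg CommRingCat.Hom.hom (f.appLE_map hUV (homOfLE (X.basicOpen_le G)).op).symm)
  haveI := haway Γ(X, X.basicOpen G)
  haveI : IsOpenImmersion (Spec.map (f.appLE V (X.basicOpen G) hWV)) :=
    IsOpenImmersion.of_isLocalization (R := Γ(S, V)) (S := Γ(X, X.basicOpen G)) e
  have : (X.basicOpen G).ι ≫ f =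
      hW.isoSpec.hom ≫ Spec.map (f.appLE V (X.basicOpen G) hWV) ≫ hV.fromSpec := by
    rw [hV.SpecMap_appLE_fromSpec f hW, hW.isoSpec_hom_fromSpec_assoc]
  rw [this]
  infer_instance

end Groth.Agent.S7659
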