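
import Groth.Statements.S7660
import Groth.Agent.L22.FinAff.Images

set_option autoImplicit false
universe u
open CategoryTheory CategoryTheory.Limits AlgebraicGeometry
open Variety

namespace Groth.Agent.S7660

open Groth.L22.FinAff in
/-- Reduce to the reduced target. -/
theorem core {T X : Scheme.{u}} (f : T ⟶ X) [IsAffine T] [QuasiSeparatedSpace X]
    (hX : (irreducibleComponents (X : Type u)).Finite)
    (hinj : ∀ η η' : T, IsGen η → IsGen η' → f η = f η' → η = η')
    (s : Finset T) (hsurj : ∀ t ∈ s, Function.Surjective (f.stalkMap t))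
    (hgen : ∀ t ∈ s, ∀ y, y ⤳ f t → ∃ t', t' ⤳ t ∧ f t' = y) :
    ∃ U : X.Opens, IsAffineOpen U ∧ ∀ t ∈ s, f t ∈ U := by
  classical
  let KT : TopologicalSpace.Closeds T := ⊤
  let KX : TopologicalSpace.Closeds X := ⊤
  let i := redι KT
  let π := redι KX
  haveI : IsAffine (Scheme.IdealSheafData.vanishingIdeal KT).subscheme :=
    isAffine_of_isAffineHom i
  have hπ : ∀ x : X, ∃ x', π x' = x := fun x =>
    (range_redι KX).ge (show x ∈ (KX : Set X) from trivial)
  have hi : ∀ x : T, ∃ x', i x' = x := fun x =>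
    (range_redι KT).ge (show x ∈ (KT : Set T) from trivial)
  have hle : π.ker ≤ (i ≫ f).ker := by
    rw [Scheme.IdealSheafData.ker_subschemeι]
    exact Groth.L18.vanishingIdeal_le_ker _ _ (Set.subset_univ _)
  let f' := IsClosedImmersion.lift π (i ≫ f) hle
  have hf' : f' ≫ π = i ≫ f := IsClosedImmersion.lift_fac _ _ _
  have hf'x : ∀ x, π (f' x) = f (i x) := fun x => by
    rw [← Scheme.Hom.comp_apply, hf', Scheme.Hom.comp_apply]
  haveI : QuasiSeparatedSpace (Scheme.IdealSheafData.vanishingIdeal KX).subscheme :=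
    quasiSeparatedSpace_of_quasiSeparated π
  have iπ := π.isClosedEmbedding
  have ii := i.isClosedEmbedding
  have hY : (irreducibleComponents (Scheme.IdealSheafData.vanishingIdeal KX).subscheme).Finite := by
    let e : _ ≃ₜ (X : Type u) :=
      (isHomeomorph_iff_isEmbedding_surjective.mpr ⟨iπ.isEmbedding, hπ⟩).homeomorph
    exact (hX.image fun Z => e ⁻¹' Z).subset fun Z hZ => by
      obtain ⟨g, hg⟩ : ∃ g, IsGenericPoint g Z :=
        QuasiSober.sober hZ.1 (isClosed_of_mem_irreducibleComponents Z hZ)
      have hgG : IsGen g := fun z hz => by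
        have hle : Z ⊆ closure {z} := hg ▸
          closure_minimal (Set.singleton_subset_iff.2 hz.mem_closure) isClosed_closure
        exact (show IsGenericPoint z Z from
          (subset_antisymm hle (hZ.2 isIrreducible_singleton.closure hle)).symm).eq hg
      have hG : IsGen (π g) := fun z hz => by
        obtain ⟨z', rfl⟩ := hπ z
        rw [hgG z' (iπ.isInducing.specializes_iff.1 hz)]
      refine ⟨closure {π g}, closure_mem_of_isGen hG, ?_⟩
      rw [← hg, iπ.isInducing.closure_eq_preimage_closure_image, Set.image_singleton]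
      rfl
  have hgen' : ∀ (t : T) x, i x = t → t ∈ s → ∀ y, y ⤳ f' x → ∃ x', x' ⤳ x ∧ f' x' = y := by
    intro t x hx ht y hy
    obtain ⟨t', ht', he⟩ := hgen t ht (π y) (hx ▸ hf'x x ▸ hy.map π.continuous)
    obtain ⟨x', rfl⟩ := hi t'
    exact ⟨x', ii.isInducing.specializes_iff.1 (hx ▸ ht'), iπ.injective (by rw [hf'x, he])⟩
  have hsurj' : ∀ (t : T) x, i x = t → t ∈ s → Function.Surjective (f'.stalkMap x) := by
    intro t x hx ht
    have h : Function.Surjective ((f' ≫ π).stalkMap x) := by
      rw [Scheme.Hom.stalkMap_congr_hom _ _ hf', Scheme.Hom.stalkMap_comp]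
      simp only [CommRingCat.hom_comp, RingHom.coe_comp]
      exact ((i.stalkMap_surjective x).comp (hsurj _ (hx ▸ ht))).comp
        (ConcreteCategory.bijective_of_isIso _).2
    rw [Scheme.Hom.stalkMap_comp] at h
    exact Function.Surjective.of_comp (g := π.stalkMap _) h
  let s' : Finset (Scheme.IdealSheafData.vanishingIdeal KT).subscheme :=
    s.preimage i ii.injective.injOn
  obtain ⟨V, hV, hsV⟩ := exists_affineOpen_images_reduced f' hY s'
    (fun x hx => hsurj' _ x rfl (Finset.mem_preimage.1 hx))
    (fun x hx => hgen' _ x rfl (Finset.mem_preimage.1 hx))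
    (fun η η' hη hη' he => ii.injective (hinj _ _
      (fun z hz => by
        obtain ⟨z', rfl⟩ := hi z
        rw [hη z' (ii.isInducing.specializes_iff.1 hz)])
      (fun z hz => by
        obtain ⟨z', rfl⟩ := hi z
        rw [hη' z' (ii.isInducing.specializes_iff.1 hz)])
      (by rw [← hf'x, ← hf'x, he])))
  let U : X.Opens := ⟨(π '' (V : Set _)ᶜ)ᶜ,
    (iπ.isClosedMap _ V.isOpen.isClosed_compl).isOpen_compl⟩
  have hU : π ⁻¹ᵁ U = V := by
    ext x
    refine ⟨fun hx => ?_, fun hx => ?_⟩
    · by_contra h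
      exact hx ⟨x, h, rfl⟩
    · rintro ⟨y, hy, he⟩
      exact hy (iπ.injective he ▸ hx)
  refine ⟨U, ?_, fun t ht => ?_⟩
  · haveI : IsAffine (π ⁻¹ᵁ U : Scheme) := by rw [hU]; exact hV
    haveI : IsClosedImmersion (π ∣_ U) :=
      IsZariskiLocalAtTarget.restrict (P := @IsClosedImmersion) inferInstance U
    refine Groth.Agent.S9203.result (U : Scheme) (κ := PUnit.{u + 1})
      (fun _ => (π ⁻¹ᵁ U : Scheme)) (fun _ => π ∣_ U) fun x => ?_
    obtain ⟨z, hz⟩ := hπ (U.ι x)
    refine ⟨⟨⟩, ⟨z, show π z ∈ U from hz ▸ x.2⟩, ?_⟩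
    apply U.ι.isOpenEmbedding.injective
    rw [← Scheme.Hom.comp_apply, morphismRestrict_ι]
    exact hz
  · obtain ⟨x, rfl⟩ := hi t
    rw [← hf'x]
    exact hU.ge (hsV x (Finset.mem_preimage.2 ht))


/-- For a morphism of schemes f : T → X with T affine and X quasi-separated with finitely many
irreducible components, assume f sends the generic point of each irreducible component of T to the
generic point of an irreducible component of X, and distinct such points to distinct points, and let
t_1, …, t_m ∈ T be points at which O_{X, f(t_j)} → O_{T, t_j} is an isomorphism. Then there is an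
affine open of X containing f(t_1), …, f(t_m). -/
theorem result {T X : Scheme.{u}} (f : T ⟶ X)
    [IsAffine T] [QuasiSeparatedSpace X] (hX : (irreducibleComponents (X : Type u)).Finite)
    (hgen : ∀ η : T, closure ({η} : Set T) ∈ irreducibleComponents (T : Type u) → closure ({(f.base η)} : Set X) ∈ irreducibleComponents (X : Type u))
    (hinj : ∀ η η' : T, closure ({η} : Set T) ∈ irreducibleComponents (T : Type u) → closure ({η'} : Set T) ∈ irreducibleComponents (T : Type u) → f.base η = f.base η' → η = η')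
    (s : Finset T) (hs : ∀ t ∈ s, IsIso (f.stalkMap t)) :
    ∃ U : X.Opens, IsAffineOpen U ∧ ∀ t ∈ s, f.base t ∈ U := by
  refine core f hX (fun η η' hη hη' => hinj η η' (Groth.L22.FinAff.closure_mem_of_isGen hη)
    (Groth.L22.FinAff.closure_mem_of_isGen hη')) s
    (fun t ht => by
      haveI := hs t ht
      exact (ConcreteCategory.bijective_of_isIso _).2)
    (fun t ht y hy => ?_)
  haveI := hs t ht
  obtain ⟨q, rfl⟩ : y ∈ Set.range (X.fromSpecStalk (f.base t)) := by
    rw [Scheme.range_fromSpecStalk]; exact hy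
  obtain ⟨q', rfl⟩ := (Spec.map (f.stalkMap t)).homeomorph.surjective q
  refine ⟨T.fromSpecStalk t q', ?_, ?_⟩
  · have : T.fromSpecStalk t q' ∈ Set.range (T.fromSpecStalk t) := ⟨q', rfl⟩
    rwa [Scheme.range_fromSpecStalk] at this
  · rw [← Scheme.Hom.comp_apply, ← Scheme.SpecMap_stalkMap_fromSpecStalk]
    rfl

end Groth.Agent.S7660
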