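
import Groth.Statements.S7661
import Mathlib.RingTheory.Ideal.Operations

set_option autoImplicit false
universe u
open CategoryTheory CategoryTheory.Limits AlgebraicGeometry
open Variety

namespace Groth.Agent.S7661

/-- Let A be a ring, I an ideal, p_1, …, p_r prime ideals with I ⊄ p_i for all i, and let f̄ ∈ A/I. Then
f̄ lifts to an element f ∈ A with f ∉ p_i for all i. -/
theorem result (A : Type u) [CommRing A] (I : Ideal A)
    (s : Finset (Ideal A)) (hs : ∀ p ∈ s, p.IsPrime) (hI : ∀ p ∈ s, ¬ I ≤ p) (fbar : A ⧸ I) :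
    ∃ f : A, Ideal.Quotient.mk I f = fbar ∧ ∀ p ∈ s, f ∉ p := by
  classical
  obtain ⟨f₀, hf₀⟩ := Ideal.Quotient.mk_surjective fbar
  -- only the maximal members of `s` matter
  set t := s.filter fun p => ∀ q ∈ s, p ≤ q → q ≤ p with ht
  have hcov : ∀ p ∈ s, ∃ q ∈ t, p ≤ q := by
    intro p hp
    obtain ⟨q, hpq, hq⟩ := Finset.exists_le_maximal s hp
    exact ⟨q, Finset.mem_filter.2 ⟨hq.1, fun r hr h => hq.2 hr h⟩, hpq⟩
  set a := t.filter fun p => f₀ ∉ p with ha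
  set b := t.filter fun p => f₀ ∈ p with hb
  have hJ : ∀ p ∈ b, ¬ (I * ∏ q ∈ a, q : Ideal A) ≤ p := by
    intro p hp h
    rw [hb, Finset.mem_filter, ht, Finset.mem_filter] at hp
    have := hs p hp.1.1
    rcases this.mul_le.1 h with h | h
    · exact hI p hp.1.1 h
    · obtain ⟨q, hq, hqp⟩ := (Ideal.IsPrime.prod_le this).1 h
      rw [ha, Finset.mem_filter, ht, Finset.mem_filter] at hq
      exact hq.2 (hq.1.2 p hp.1.1 hqp hp.2)
  have : ¬ ((I * ∏ q ∈ a, q : Ideal A) : Set A) ⊆ ⋃ p ∈ (b : Set (Ideal A)), (p : Set A) := by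
    intro h
    obtain ⟨p, hp, hle⟩ := (Ideal.subset_union_prime ⊤ ⊤ (fun p hp _ _ =>
      hs p (Finset.filter_subset _ _ (Finset.filter_subset _ _ hp)))).1 h
    exact hJ p hp hle
  obtain ⟨i, hi, hi'⟩ := Set.not_subset.1 this
  refine ⟨f₀ + i, ?_, fun p hp hfi => ?_⟩
  · have hiI : i ∈ I := Ideal.mul_le_left hi
    rw [map_add, hf₀, Ideal.Quotient.eq_zero_iff_mem.2 hiI, add_zero]
  · obtain ⟨q, hq, hpq⟩ := hcov p hp
    have hfq : f₀ + i ∈ q := hpq hfi
    by_cases h : f₀ ∈ q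
    · apply hi'
      simp only [Set.mem_iUnion]
      exact ⟨q, Finset.mem_coe.2 (Finset.mem_filter.2 ⟨hq, h⟩),
        (q.add_mem_iff_right h).1 hfq⟩
    · have hqa : q ∈ a := Finset.mem_filter.2 ⟨hq, h⟩
      have hdvd : q ∣ I * ∏ q ∈ a, q :=
        dvd_mul_of_dvd_right (Finset.dvd_prod_of_mem (fun x => x) hqa) I
      have : i ∈ q := Ideal.le_of_dvd hdvd hi
      exact h ((q.add_mem_iff_left this).1 hfq)

end Groth.Agent.S7661
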