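
import Groth.Statements.S7662
import Groth.Agent.L22.FinAff.Glue

set_option autoImplicit false
universe u
open CategoryTheory CategoryTheory.Limits AlgebraicGeometry
open Variety

namespace Groth.Agent.S7662

/-- Let X be a scheme with finitely many irreducible components Z_1, …, Z_t and T ⊆ X a finite set of
points such that, for each i, some affine open of Z_i with its reduced closed subscheme structure
contains the points of T on Z_i. Then some affine open of X contains every point of T. -/
theorem result (X : Scheme.{u})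
    (hX : (irreducibleComponents (X : Type u)).Finite) (T : Finset X)
    (h : ∀ (Z : Set X) (hZ : Z ∈ irreducibleComponents (X : Type u)),
      ∃ V : (Scheme.IdealSheafData.vanishingIdeal
          (⟨Z, isClosed_of_mem_irreducibleComponents Z hZ⟩ : TopologicalSpace.Closeds X)).subscheme.Opens,
        IsAffineOpen V ∧ ∀ t ∈ T, t ∈ Z → t ∈ (Scheme.IdealSheafData.vanishingIdeal
          (⟨Z, isClosed_of_mem_irreducibleComponents Z hZ⟩ : TopologicalSpace.Closeds X)).subschemeι.base '' (V : Set _)) :
    ∃ U : X.Opens, IsAffineOpen U ∧ ∀ t ∈ T, t ∈ U := by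
  classical
  obtain ⟨U, hU, hTU⟩ := Groth.L22.FinAff.exists_affineOpen_of_cover (X := X) (T : Set X)
    T.finite_toSet
    (hX.toFinset.attach.image fun Z => (⟨Z.1, isClosed_of_mem_irreducibleComponents Z.1
      (hX.mem_toFinset.1 Z.2)⟩ : TopologicalSpace.Closeds X))
    (fun x => ⟨⟨irreducibleComponent x, isClosed_irreducibleComponent⟩, Finset.mem_image.2
      ⟨⟨irreducibleComponent x, hX.mem_toFinset.2 (irreducibleComponent_mem_irreducibleComponents x)⟩,
        Finset.mem_attach _ _, rfl⟩, mem_irreducibleComponent⟩)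
    (fun K hK => by
      obtain ⟨⟨Z, hZ⟩, -, rfl⟩ := Finset.mem_image.1 hK
      obtain ⟨V, hV, hVT⟩ := h Z (hX.mem_toFinset.1 hZ)
      refine ⟨V, hV, fun z hz => ?_⟩
      obtain ⟨z', hz', he⟩ := hVT _ hz
        ((Groth.L22.FinAff.range_redι (X := X) _).le ⟨z, rfl⟩)
      exact (Groth.L22.FinAff.redι (X := X) _).isClosedEmbedding.injective he ▸ hz')
  exact ⟨U, hU, fun t ht => hTU ht⟩

end Groth.Agent.S7662
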