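
import Groth.Statements.S7663
import Groth.Agent.L22.GlueVal

set_option autoImplicit false
universe u
open CategoryTheory CategoryTheory.Limits AlgebraicGeometry
open Variety

namespace Groth.Agent.S7663

/-- Let K be a field and A, B ⊆ K subrings with fraction field K, with A Noetherian of dimension one.
Then A ⊗ B → K is not surjective (equivalently, the subring generated by A and B is not K) if and
only if some discrete valuation ring O ⊆ K with fraction field K contains both A and B. -/
theorem result (K : Type u) [Field K]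
    (A : Subring K) [IsFractionRing A K] (B : Subring K) [IsFractionRing B K] [IsNoetherianRing A] (hdim : ringKrullDim A = 1) :
    A ⊔ B ≠ ⊤ ↔ ∃ O : ValuationSubring K, IsDiscreteValuationRing O ∧ A ≤ O.toSubring ∧ B ≤ O.toSubring := by
  constructor
  · intro hne
    haveI : IsFractionRing A K := inferInstance
    obtain ⟨P, hP, hP0⟩ : ∃ P : Ideal ↥(A ⊔ B), P ≠ ⊤ ∧ P ≠ ⊥ := by
      by_contra h
      push Not at h
      refine hne (eq_top_iff.2 fun x _ => ?_)
      obtain ⟨a, b, hb, rfl⟩ := Groth.L22.Glue.exists_div (A := A) x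
      let b' : ↥(A ⊔ B) := ⟨b, le_sup_left (a := A) (b := B) b.2⟩
      have hb' : Ideal.span {b'} = ⊤ := by
        by_contra hne'
        exact hb (congrArg Subtype.val
          (Ideal.span_singleton_eq_bot.1 (h _ hne')) : ((b' : ↥(A ⊔ B)) : K) = 0)
      obtain ⟨w, hw⟩ := Ideal.mem_span_singleton'.1 (hb' ▸ Submodule.mem_top : (1 : ↥(A ⊔ B)) ∈ _)
      have hw' : (w : K) * b = 1 := congrArg Subtype.val hw
      rw [div_eq_mul_inv, ← eq_inv_of_mul_eq_one_left hw']
      exact (A ⊔ B).mul_mem (le_sup_left (a := A) (b := B) a.2) w.2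
    obtain ⟨c, hc, hc0⟩ := Submodule.exists_mem_ne_zero_of_ne_bot hP0
    obtain ⟨V, hV, hVP⟩ := Ideal.image_subset_nonunits_valuationSubring P hP
    have hVc : V.valuation (c : K) < 1 := V.mem_nonunits_iff.1 (hVP ⟨c, hc, rfl⟩)
    have hVtop : V ≠ ⊤ := by
      rintro rfl
      have h2 : ((c : K))⁻¹ ∈ (⊤ : ValuationSubring K) := trivial
      rw [← ValuationSubring.valuation_le_one_iff, map_inv₀, inv_le_one₀ (zero_lt_iff.2
        ((map_ne_zero _).2 fun e => hc0 (Subtype.ext e)))] at h2
      exact absurd h2 (not_le.2 hVc)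
    exact ⟨V, Groth.L22.Glue.isDVR_of_mem_over (A := A) hdim ⟨hVtop, le_sup_left.trans hV⟩,
      le_sup_left.trans hV, le_sup_right.trans hV⟩
  · rintro ⟨O, hO, hA, hB⟩ htop
    exact Groth.L22.Glue.ne_top_of_dvr O (ValuationSubring.ext _ _ fun x =>
      ⟨fun _ => trivial, fun _ => (htop.ge.trans (sup_le hA hB)) (Subring.mem_top x)⟩)

end Groth.Agent.S7663
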