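
import Groth.Statements.S7687
import Groth.Agent.L22.Glue

set_option autoImplicit false
universe u
open CategoryTheory CategoryTheory.Limits AlgebraicGeometry
open Variety

namespace Groth.Agent.S7687

/-- The glueing datum of two subrings. -/
noncomputable def pairData {K : Type u} [Field K] (A B : Subring K) [hA : IsFractionRing A K]
    [hB : IsFractionRing B K] [hA' : IsNoetherianRing A] [hB' : IsNoetherianRing B]
    (hdimA : ringKrullDim A = 1) (hdimB : ringKrullDim B = 1)
    (hslA : Finite (MaximalSpectrum A)) (hslB : Finite (MaximalSpectrum B)) (hgen : A ⊔ B = ⊤) :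
    Groth.L22.Glue.Data K where
  r := 2
  pos := one_le_two
  A := ![A, B]
  R := A ⊓ B
  mem_iff x := Subring.mem_inf.trans (Fin.forall_fin_two (p := fun i => x ∈ ![A, B] i)).symm
  noeth := Fin.forall_fin_two.2 ⟨hA', hB'⟩
  frac := Fin.forall_fin_two.2 ⟨hA, hB⟩
  dim := Fin.forall_fin_two.2 ⟨hdimA, hdimB⟩
  semilocal := Fin.forall_fin_two.2 ⟨hslA, hslB⟩
  gen := Fin.forall_fin_two.2 ⟨Fin.forall_fin_two.2 ⟨fun h => absurd rfl h, fun _ => hgen⟩,
    Fin.forall_fin_two.2 ⟨fun _ => (sup_comm B A).trans hgen, fun h => absurd rfl h⟩⟩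


/-- Let K be a field and A, B ⊆ K Noetherian semi-local domains of dimension one with fraction field K
such that A ⊗ B → K is surjective, and R = A ∩ B. Then Spec A and Spec B each map to Spec R by an
open immersion, Spec R is the union of the two images, and the natural map A ⊗_R B → K is an
isomorphism. -/
theorem result (K : Type u) [Field K]
    (A : Subring K) [IsFractionRing A K] (B : Subring K) [IsFractionRing B K] [IsNoetherianRing A] [IsNoetherianRing B]
    (hdimA : ringKrullDim A = 1) (hdimB : ringKrullDim B = 1)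
    (hslA : Finite (MaximalSpectrum A)) (hslB : Finite (MaximalSpectrum B)) (hgen : A ⊔ B = ⊤) :
    IsOpenImmersion (Spec.map (CommRingCat.ofHom (Subring.inclusion (inf_le_left : A ⊓ B ≤ A)))) ∧
      IsOpenImmersion (Spec.map (CommRingCat.ofHom (Subring.inclusion (inf_le_right : A ⊓ B ≤ B)))) ∧
      Set.range (Spec.map (CommRingCat.ofHom (Subring.inclusion (inf_le_left : A ⊓ B ≤ A)))).base ∪
        Set.range (Spec.map (CommRingCat.ofHom (Subring.inclusion (inf_le_right : A ⊓ B ≤ B)))).base = Set.univ ∧
      IsPushout (CommRingCat.ofHom (Subring.inclusion (inf_le_left : A ⊓ B ≤ A)))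
        (CommRingCat.ofHom (Subring.inclusion (inf_le_right : A ⊓ B ≤ B)))
        (CommRingCat.ofHom A.subtype) (CommRingCat.ofHom B.subtype) := by
  let D := pairData A B hdimA hdimB hslA hslB hgen
  refine ⟨D.isOpenImmersion (0 : Fin 2), D.isOpenImmersion (1 : Fin 2), ?_,
    D.isPushout (0 : Fin 2) (1 : Fin 2) (fun h => absurd (congrArg Fin.val h) one_ne_zero)⟩
  refine Set.eq_univ_of_forall fun P => ?_
  obtain ⟨i, hi⟩ := Set.mem_iUnion.1 (D.iUnion_range.ge (Set.mem_univ P))
  have key : ∀ i : Fin 2,
      P ∈ Set.range (Spec.map (CommRingCat.ofHom (Subring.inclusion (D.le i)))).base →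
      P ∈ Set.range (Spec.map (CommRingCat.ofHom (Subring.inclusion (D.le (0 : Fin 2))))).base ∨
      P ∈ Set.range (Spec.map (CommRingCat.ofHom (Subring.inclusion (D.le (1 : Fin 2))))).base :=
    Fin.forall_fin_two.2 ⟨fun h => Or.inl h, fun h => Or.inr h⟩
  exact key i hi

end Groth.Agent.S7687
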