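
import Groth.Statements.S7664
import Groth.Agent.L22.Glue
import Groth.Agent.S7687
import Mathlib.RingTheory.KrullDimension.PID

set_option autoImplicit false
universe u
open CategoryTheory CategoryTheory.Limits AlgebraicGeometry
open Variety

namespace Groth.Agent.S7664

/-- Let K be a field, A ⊆ K a Noetherian semi-local domain of dimension one and B ⊆ K a discrete
valuation ring, both with fraction field K, and R = A ∩ B. (a) If some unit of A does not lie in R,
then Spec A and Spec B each map to Spec R by an open immersion, Spec R is the union of the two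
images, and the natural map A ⊗_R B → K is an isomorphism. (b) If every unit of A lies in R, then B
dominates the local ring of A at one of its maximal ideals (A ⊆ B and the maximal ideal of B
contracts to a maximal ideal of A) and A ⊗ B → K is not surjective. -/
theorem result (K : Type u) [Field K]
    (A : Subring K) [IsFractionRing A K] [IsNoetherianRing A] (hdim : ringKrullDim A = 1) (hsl : Finite (MaximalSpectrum A))
    (B : ValuationSubring K) [IsDiscreteValuationRing B] :
    ((∃ u : A, IsUnit u ∧ (u : K) ∉ B) →
      IsOpenImmersion (Spec.map (CommRingCat.ofHom (Subring.inclusion (inf_le_left : A ⊓ B.toSubring ≤ A)))) ∧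
      IsOpenImmersion (Spec.map (CommRingCat.ofHom (Subring.inclusion (inf_le_right : A ⊓ B.toSubring ≤ B.toSubring)))) ∧
      Set.range (Spec.map (CommRingCat.ofHom (Subring.inclusion (inf_le_left : A ⊓ B.toSubring ≤ A)))).base ∪
        Set.range (Spec.map (CommRingCat.ofHom (Subring.inclusion (inf_le_right : A ⊓ B.toSubring ≤ B.toSubring)))).base = Set.univ ∧
      IsPushout (CommRingCat.ofHom (Subring.inclusion (inf_le_left : A ⊓ B.toSubring ≤ A)))
        (CommRingCat.ofHom (Subring.inclusion (inf_le_right : A ⊓ B.toSubring ≤ B.toSubring)))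
        (CommRingCat.ofHom A.subtype) (CommRingCat.ofHom B.toSubring.subtype)) ∧
    ((∀ u : A, IsUnit u → (u : K) ∈ B) →
      (∃ h : A ≤ B.toSubring,
        (Ideal.comap (Subring.inclusion h) (IsLocalRing.maximalIdeal B)).IsMaximal) ∧ A ⊔ B.toSubring ≠ ⊤) := by
  haveI : IsFractionRing B.toSubring K := inferInstanceAs (IsFractionRing B K)
  haveI : IsNoetherianRing B.toSubring := inferInstanceAs (IsNoetherianRing B)
  constructor
  · rintro ⟨v, -, hv⟩
    have hdimB : ringKrullDim B.toSubring = 1 :=
      show ringKrullDim B = 1 from IsPrincipalIdealRing.ringKrullDim_eq_one B (fun h =>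
        IsDiscreteValuationRing.not_a_field B (IsLocalRing.isField_iff_maximalIdeal_eq.1 h))
    have hslB : Finite (MaximalSpectrum B.toSubring) := by
      haveI : Subsingleton (MaximalSpectrum B) := ⟨fun M N => MaximalSpectrum.ext
        ((IsLocalRing.eq_maximalIdeal M.isMaximal).trans
          (IsLocalRing.eq_maximalIdeal N.isMaximal).symm)⟩
      exact inferInstanceAs (Finite (MaximalSpectrum B))
    have hgen : A ⊔ B.toSubring = ⊤ := by
      let W : ValuationSubring K :=
        ⟨A ⊔ B.toSubring, fun x => (B.mem_or_inv_mem x).imp (fun h => le_sup_right (a := A) h)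
          (fun h => le_sup_right (a := A) h)⟩
      haveI : Ring.KrullDimLE 1 B := Ring.krullDimLE_one_iff_of_noZeroDivisors.2
        fun I hI hP => IsPrime.to_maximal_ideal (hpi := hP) hI
      rcases ValuationSubring.eq_self_or_eq_top_of_le (A := B) (B := W)
        (fun x hx => le_sup_right (a := A) hx) with h | h
      · exact absurd (h.ge (le_sup_left (b := B.toSubring) v.2 : (v : K) ∈ W)) hv
      · exact congrArg ValuationSubring.toSubring h
    exact Groth.Agent.S7687.result K A B.toSubring hdim hdimB hsl hslB hgen
  · intro hu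
    have hle : A ≤ B.toSubring := by
      intro x hx
      by_contra hxB
      classical
      haveI := Fintype.ofFinite (MaximalSpectrum A)
      let S := Finset.univ.filter (fun m : MaximalSpectrum A => (⟨x, hx⟩ : A) ∉ m.asIdeal)
      obtain ⟨e, he, heS⟩ : ∃ e : A, (∀ m : MaximalSpectrum A, (⟨x, hx⟩ : A) ∈ m.asIdeal →
          e ∉ m.asIdeal) ∧ ∀ m ∈ S, e ∈ m.asIdeal := by
        have hf : ∀ m : MaximalSpectrum A, (⟨x, hx⟩ : A) ∈ m.asIdeal →
            ¬ (∏ m' ∈ S, m'.asIdeal) ≤ m.asIdeal := by
          intro m hm hle'
          obtain ⟨m', hm', hle''⟩ := (Ideal.IsPrime.prod_le m.isMaximal.isPrime).1 hle'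
          have := MaximalSpectrum.ext (m'.isMaximal.eq_of_le m.isMaximal.ne_top hle'')
          exact (Finset.mem_filter.1 hm').2 (this ▸ hm)
        let T := Finset.univ.filter (fun m : MaximalSpectrum A => (⟨x, hx⟩ : A) ∈ m.asIdeal)
        have hsub : ¬ ((∏ m' ∈ S, m'.asIdeal : Ideal A) : Set A) ⊆
            ⋃ m ∈ (T : Set (MaximalSpectrum A)), (m.asIdeal : Set A) := by
          intro hsub
          rcases T.eq_empty_or_nonempty with hT | ⟨m₀, hm₀⟩
          · simpa [hT] using hsub (Ideal.zero_mem (∏ m' ∈ S, m'.asIdeal))
          · obtain ⟨m, hm, hmle⟩ := (Ideal.subset_union_prime m₀ m₀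
              (fun m _ _ _ => m.isMaximal.isPrime)).1 hsub
            exact hf m (Finset.mem_filter.1 hm).2 hmle
        obtain ⟨e, he, he'⟩ := Set.not_subset.1 hsub
        refine ⟨e, fun m hm hem => he' (Set.mem_biUnion
          (Finset.mem_coe.2 (Finset.mem_filter.2 ⟨Finset.mem_univ m, hm⟩)) hem), fun m hm => ?_⟩
        exact (Finset.inf_le (f := MaximalSpectrum.asIdeal) hm) (Ideal.prod_le_inf he)
      have hunit : ∀ k : ℕ, k ≠ 0 → x + (e : K) ^ k ∈ B := by
        intro k hk
        refine hu (⟨x, hx⟩ + e ^ k) ?_
        by_contra hnu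
        obtain ⟨M, hM, hmem⟩ := exists_max_ideal_of_mem_nonunits hnu
        by_cases hxM : (⟨x, hx⟩ : A) ∈ M
        · exact he ⟨M, hM⟩ hxM (hM.isPrime.mem_of_pow_mem k
            ((Submodule.add_mem_iff_right M hxM).1 hmem))
        · refine hxM ((Submodule.add_mem_iff_left M ?_).1 hmem)
          exact M.pow_mem_of_mem (heS ⟨M, hM⟩
            (Finset.mem_filter.2 ⟨Finset.mem_univ _, hxM⟩)) k (Nat.pos_of_ne_zero hk)
      have h1 := hunit 1 one_ne_zero
      rw [pow_one] at h1
      by_cases heB : (e : K) ∈ B
      · exact hxB (by simpa using B.toSubring.sub_mem h1 heB)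
      · have h2 := hunit 2 two_ne_zero
        have hv := Groth.L22.Glue.one_lt_iff.2 heB
        have e1 : B.valuation x = B.valuation (e : K) := by
          by_contra hne
          have := B.valuation.map_add_of_distinct_val hne
          rw [← ValuationSubring.valuation_le_one_iff, this] at h1
          exact absurd (le_trans (le_max_right _ _) h1) (not_le.2 hv)
        have e2 : B.valuation x = B.valuation ((e : K) ^ 2) := by
          by_contra hne
          have := B.valuation.map_add_of_distinct_val hne
          rw [← ValuationSubring.valuation_le_one_iff, this, map_pow] at h2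
          exact absurd (le_trans (le_max_right _ _) h2) (not_le.2 (one_lt_pow₀ hv two_ne_zero))
        rw [e1, map_pow, pow_two] at e2
        exact absurd e2 ((lt_mul_iff_one_lt_right (lt_trans zero_lt_one hv)).2 hv).ne
    refine ⟨⟨hle, ?_⟩, ?_⟩
    · haveI := Ideal.IsPrime.comap (Subring.inclusion hle) (K := IsLocalRing.maximalIdeal B)
      refine Groth.L22.Glue.isMaximal_of_ne_bot hdim fun hbot => ?_
      refine Groth.L22.Glue.ne_top_of_dvr B (ValuationSubring.ext _ _ fun z =>
        ⟨fun _ => trivial, fun _ => ?_⟩)
      obtain ⟨a, b, hb, rfl⟩ := Groth.L22.Glue.exists_div (A := A) z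
      have hvb : B.valuation (b : K) = 1 := by
        refine (B.valuation_lt_one_or_eq_one ⟨_, hle b.2⟩).resolve_left fun h => hb ?_
        have : b ∈ Ideal.comap (Subring.inclusion hle) (IsLocalRing.maximalIdeal B) :=
          (B.valuation_lt_one_iff ⟨(b : K), hle b.2⟩).2 h
        rw [hbot, Ideal.mem_bot] at this
        simp [this]
      rw [← B.valuation_le_one_iff, map_div₀, hvb, div_one]
      exact (B.valuation_le_one_iff _).2 (hle a.2)
    · rw [sup_eq_right.2 hle]
      intro htop
      exact Groth.L22.Glue.ne_top_of_dvr B (ValuationSubring.toSubring_injective htop)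

end Groth.Agent.S7664
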