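
import Groth.Statements.S7666
import Groth.Agent.L22.Punctured
import Mathlib.Algebra.Field.GeomSum

set_option autoImplicit false
universe u
open CategoryTheory CategoryTheory.Limits AlgebraicGeometry
open Variety

namespace Groth.Agent.S7666

theorem eq_zero_of_forall {A : Type u} [CommRing A] [IsLocalRing A] [IsNoetherianRing A]
    (hdim : ringKrullDim A = 1) {d : A}
    (h : ∀ p : {p : PrimeSpectrum A // p.asIdeal ∈ minimalPrimes A},
      algebraMap A (Localization.AtPrime p.1.asIdeal) d = 0) :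
    ∃ N : ℕ, ∀ z ∈ IsLocalRing.maximalIdeal A ^ N, z * d = 0 := by
  let K : Ideal A := LinearMap.ker (LinearMap.mulRight A d)
  have hK : IsLocalRing.maximalIdeal A ≤ K.radical := by
    rw [Ideal.radical_eq_sInf]
    refine le_sInf ?_
    rintro P ⟨hle, hP⟩
    haveI := hP
    obtain ⟨p, hp, hpP⟩ := Ideal.exists_minimalPrimes_le (bot_le : (⊥ : Ideal A) ≤ P)
    haveI := hp.1.1
    obtain ⟨s, hs⟩ := (IsLocalization.map_eq_zero_iff p.primeCompl
      (Localization.AtPrime p) d).1 (h ⟨⟨p, hp.1.1⟩, hp⟩)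
    rcases eq_or_lt_of_le hpP with rfl | hlt
    · exact absurd (hle (LinearMap.mem_ker.2 hs : (s : A) ∈ K)) s.2
    · exact (Groth.L22.Punctured.eq_maximal_of_dim_le_one hdim.le hlt).ge
  obtain ⟨N, hN⟩ := Ideal.exists_pow_le_of_le_radical_of_fg hK (IsNoetherian.noetherian _)
  exact ⟨N, fun z hz => LinearMap.mem_ker.1 (hN hz)⟩


/-- Let A be a one-dimensional Noetherian local ring and L = ∏ A_p, the product over the minimal primes
of A. If a_1, a_2 ∈ m_A have the same image in L, then a_1 and a_2 have equal n-th powers for some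
positive integer n. -/
theorem result (A : Type u) [CommRing A]
    [IsLocalRing A] [IsNoetherianRing A] (hdim : ringKrullDim A = 1)
    (a₁ a₂ : A) (h₁ : a₁ ∈ IsLocalRing.maximalIdeal A) (h₂ : a₂ ∈ IsLocalRing.maximalIdeal A)
    (heq : ∀ p : {p : PrimeSpectrum A // p.asIdeal ∈ minimalPrimes A},
      algebraMap A (Localization.AtPrime p.1.asIdeal) a₁ = algebraMap A (Localization.AtPrime p.1.asIdeal) a₂) :
    ∃ n : ℕ, 0 < n ∧ a₁ ^ n = a₂ ^ n := by
  obtain ⟨N, hN⟩ := eq_zero_of_forall hdim (d := a₁ - a₂) fun p => by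
    rw [map_sub, heq p, sub_self]
  refine ⟨N + 1, Nat.succ_pos N, sub_eq_zero.1 ?_⟩
  rw [← geom_sum₂_mul]
  refine hN _ (Ideal.sum_mem _ fun i hi => ?_)
  have hi' := Finset.mem_range.1 hi
  have h := Ideal.mul_mem_mul (Ideal.pow_mem_pow h₁ i) (Ideal.pow_mem_pow h₂ (N + 1 - 1 - i))
  rw [← pow_add, show i + (N + 1 - 1 - i) = N by omega] at h
  exact h

end Groth.Agent.S7666
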