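
import Groth.Statements.S7667
import Groth.Agent.L22.Punctured

set_option autoImplicit false
universe u
open CategoryTheory CategoryTheory.Limits AlgebraicGeometry
open Variety

namespace Groth.Agent.S7667

theorem exists_pow_mul_mem_range {A : Type u} [CommRing A] [IsLocalRing A] [IsNoetherianRing A]
    (hdim : ringKrullDim A = 1) {a : A} (ha : a ∈ IsLocalRing.maximalIdeal A)
    (y : ∀ p : {p : PrimeSpectrum A // p.asIdeal ∈ minimalPrimes A},
      Localization.AtPrime p.1.asIdeal) :
    ∃ N : ℕ, algebraMap A _ (a ^ N) * y ∈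
      (algebraMap A (∀ p : {p : PrimeSpectrum A // p.asIdeal ∈ minimalPrimes A},
        Localization.AtPrime p.1.asIdeal)).range := by
  classical
  let L := ∀ p : {p : PrimeSpectrum A // p.asIdeal ∈ minimalPrimes A}, Localization.AtPrime p.1.asIdeal
  let T : Ideal A := Submodule.comap ((LinearMap.id (R := A) (M := A)).smulRight (y : L))
    (LinearMap.range (Algebra.linearMap A L))
  have hT : ∀ z : A, z ∈ T ↔ algebraMap A L z * y ∈ (algebraMap A L).range := by
    intro z
    change z • (y : L) ∈ LinearMap.range (Algebra.linearMap A L) ↔ _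
    rw [Algebra.smul_def]
    rfl
  suffices h : a ∈ T.radical by
    obtain ⟨N, hN⟩ := h
    exact ⟨N, (hT _).1 hN⟩
  rw [Ideal.radical_eq_sInf, Submodule.mem_sInf]
  rintro P ⟨hle, hP⟩
  haveI := hP
  obtain ⟨p0, hp0, hpP⟩ := Ideal.exists_minimalPrimes_le (bot_le : (⊥ : Ideal A) ≤ P)
  haveI := hp0.1.1
  rcases eq_or_lt_of_le hpP with rfl | hlt
  swap
  · rw [Groth.L22.Punctured.eq_maximal_of_dim_le_one hdim.le hlt]; exact ha
  exfalso
  have hfin : Finite {p : PrimeSpectrum A // p.asIdeal ∈ minimalPrimes A} := by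
    haveI := (minimalPrimes.finite_of_isNoetherianRing A).to_subtype
    exact Finite.of_injective
      (fun p => (⟨p.1.asIdeal, p.2⟩ : {I : Ideal A // I ∈ minimalPrimes A}))
      (fun p q h => Subtype.ext (PrimeSpectrum.ext (congrArg Subtype.val h)))
  haveI := Fintype.ofFinite {p : PrimeSpectrum A // p.asIdeal ∈ minimalPrimes A}
  have key : ∀ q : {p : PrimeSpectrum A // p.asIdeal ∈ minimalPrimes A}, q.1.asIdeal ≠ p0 →
      ∃ w : A, w ∉ p0 ∧ algebraMap A (Localization.AtPrime q.1.asIdeal) w = 0 := by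
    intro q hq
    obtain ⟨u, huq, hup⟩ := SetLike.not_le_iff_exists.1
      (fun hle : q.1.asIdeal ≤ p0 => hq (le_antisymm hle (hp0.2 q.2.1 hle)))
    have hnil : IsNilpotent (algebraMap A (Localization.AtPrime q.1.asIdeal) u) := by
      rw [← mem_nilradical, nilradical_eq_sInf, Submodule.mem_sInf]
      intro (Q : Ideal (Localization.AtPrime q.1.asIdeal)) hQ
      haveI : Q.IsPrime := hQ
      have hcomap : Q.comap (algebraMap A (Localization.AtPrime q.1.asIdeal)) ≤ q.1.asIdeal := by
        intro z hz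
        by_contra hzq
        exact (hQ : Q.IsPrime).ne_top (Ideal.eq_top_of_isUnit_mem Q hz
          (IsLocalization.map_units _ (⟨z, hzq⟩ : q.1.asIdeal.primeCompl)))
      exact q.2.2 ⟨Ideal.comap_isPrime _ Q, bot_le⟩ hcomap huq
    obtain ⟨M, hM⟩ := hnil
    exact ⟨u ^ M, fun h => hup (hp0.1.1.mem_of_pow_mem M h), by rw [map_pow, hM]⟩
  choose! w hwp hw0 using key
  let p0' : {p : PrimeSpectrum A // p.asIdeal ∈ minimalPrimes A} := ⟨⟨p0, hp0.1.1⟩, hp0⟩
  let e := ∏ q ∈ Finset.univ.filter (fun q => q ≠ p0'), w q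
  obtain ⟨⟨b, s⟩, hbs⟩ := IsLocalization.surj p0.primeCompl (y p0')
  have he : e ∉ p0 := fun h => by
    obtain ⟨q, hq, hwq⟩ := Ideal.IsPrime.prod_mem_iff.1 h
    exact hwp q (fun h' => (Finset.mem_filter.1 hq).2 (Subtype.ext (PrimeSpectrum.ext h'))) hwq
  have hmem : (s : A) * e ∈ T := by
    rw [hT]
    refine ⟨e * b, funext fun q => ?_⟩
    rw [Pi.mul_apply, Pi.algebraMap_apply, Pi.algebraMap_apply]
    rcases eq_or_ne q p0' with rfl | hne
    · rw [map_mul, map_mul]
      dsimp only at hbs
      rw [← hbs]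
      ring
    · have he0 : algebraMap A (Localization.AtPrime q.1.asIdeal) e = 0 := by
        refine eq_zero_of_zero_dvd ?_
        rw [← hw0 q fun h' => hne (Subtype.ext (PrimeSpectrum.ext h'))]
        exact map_dvd _ (Finset.dvd_prod_of_mem w (Finset.mem_filter.2 ⟨Finset.mem_univ q, hne⟩))
      simp [map_mul, he0]
  rcases hp0.1.1.mem_or_mem (hle hmem) with h | h
  · exact s.2 h
  · exact he h


/-- Let A be a one-dimensional Noetherian local ring, L the product of the localizations A_p over its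
minimal primes p, and I the intersection of those primes (the nilradical of A). If f ∈ L equals i +
a with a in the maximal ideal of A and i ∈ I·L, then for some positive integer n, f^n belongs to the
subring of L obtained as the image of the structure map from A. -/
theorem result (A : Type u) [CommRing A]
    [IsLocalRing A] [IsNoetherianRing A] (hdim : ringKrullDim A = 1)
    (a : A) (ha : a ∈ IsLocalRing.maximalIdeal A)
    (i : ∀ p : {p : PrimeSpectrum A // p.asIdeal ∈ minimalPrimes A}, Localization.AtPrime p.1.asIdeal)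
    (hi : i ∈ (nilradical A).map (algebraMap A (∀ p : {p : PrimeSpectrum A // p.asIdeal ∈ minimalPrimes A}, Localization.AtPrime p.1.asIdeal))) :
    ∃ n : ℕ, 0 < n ∧ (i + algebraMap A (∀ p : {p : PrimeSpectrum A // p.asIdeal ∈ minimalPrimes A}, Localization.AtPrime p.1.asIdeal) a) ^ n ∈
      (algebraMap A (∀ p : {p : PrimeSpectrum A // p.asIdeal ∈ minimalPrimes A}, Localization.AtPrime p.1.asIdeal)).range := by
  have hnil : IsNilpotent i := by
    obtain ⟨M, hM⟩ := IsNoetherianRing.isNilpotent_nilradical A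
    refine ⟨M, ?_⟩
    have h := Ideal.pow_mem_pow hi M
    rwa [← Ideal.map_pow, hM, Ideal.zero_eq_bot, Ideal.map_bot, Ideal.mem_bot] at h
  obtain ⟨M, hM⟩ := hnil
  choose N hN using fun j : ℕ => exists_pow_mul_mem_range hdim ha (i ^ j)
  refine ⟨M + ∑ j ∈ Finset.range M, N j + 1, Nat.succ_pos _, ?_⟩
  rw [add_pow]
  refine Subring.sum_mem _ fun j _ => ?_
  rcases le_or_gt M j with hj | hj
  · rw [pow_eq_zero_of_le hj hM, zero_mul, zero_mul]
    exact Subring.zero_mem _
  · refine Subring.mul_mem _ ?_ (natCast_mem _ _)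
    have hle : N j ≤ ∑ j ∈ Finset.range M, N j :=
      Finset.single_le_sum (fun _ _ => Nat.zero_le _) (Finset.mem_range.2 hj)
    obtain ⟨d, hd⟩ := Nat.exists_eq_add_of_le
      (show N j ≤ M + ∑ j ∈ Finset.range M, N j + 1 - j by omega)
    rw [hd, mul_comm, pow_add, mul_comm (algebraMap A _ a ^ N j), mul_assoc, ← map_pow, ← map_pow]
    exact Subring.mul_mem _ ⟨a ^ d, rfl⟩ (hN j)

end Groth.Agent.S7667
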