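
import Groth.Statements.S7668
import Mathlib.RingTheory.Localization.Ideal
import Mathlib.RingTheory.Spectrum.Maximal.Basic

set_option autoImplicit false
universe u
open CategoryTheory CategoryTheory.Limits AlgebraicGeometry
open Variety

namespace Groth.Agent.S7668

/-- Let A be a ring, p_1, …, p_r primes of A and S = A ∖ ⋃ p_i. Then S is a multiplicative subset, S⁻¹A
is semi-local, and contraction to A is a bijection from the maximal ideals of S⁻¹A onto the maximal
elements of {p_1, …, p_r}. -/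
theorem result (A : Type u) [CommRing A]
    (r : ℕ) (p : Fin r → PrimeSpectrum A) :
    Finite (MaximalSpectrum (Localization (⨅ i, (p i).asIdeal.primeCompl))) ∧
      Set.BijOn (fun m : Ideal (Localization (⨅ i, (p i).asIdeal.primeCompl)) =>
          m.comap (algebraMap A (Localization (⨅ i, (p i).asIdeal.primeCompl))))
        {m | m.IsMaximal}
        {q | q ∈ Set.range (fun i => (p i).asIdeal) ∧
          ∀ j, q ≤ (p j).asIdeal → q = (p j).asIdeal} := by
  let S : Submonoid A := ⨅ i, (p i).asIdeal.primeCompl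
  let L := Localization S
  have hmemS : ∀ a : A, a ∈ S ↔ ∀ i, a ∉ (p i).asIdeal := fun a => Submonoid.mem_iInf
  have hbelow : ∀ P : Ideal L, P.IsPrime → ∃ i, P.comap (algebraMap A L) ≤ (p i).asIdeal := by
    intro P hP
    have hdisj := ((IsLocalization.isPrime_iff_isPrime_disjoint S L P).1 hP).2
    have hsub : ((P.comap (algebraMap A L) : Ideal A) : Set A) ⊆
        ⋃ i ∈ ((Finset.univ : Finset (Fin r)) : Set (Fin r)), ((p i).asIdeal : Set A) := by
      intro a ha
      by_contra hnot
      refine Set.disjoint_left.1 hdisj (show a ∈ (S : Set A) from (hmemS a).2 fun i hai => ?_) ha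
      exact hnot (Set.mem_biUnion (Finset.mem_coe.2 (Finset.mem_univ i)) hai)
    rcases Nat.eq_zero_or_pos r with hr | hr
    · subst hr
      have h1 : (0 : A) ∈ ⋃ i ∈ ((Finset.univ : Finset (Fin 0)) : Set (Fin 0)),
          ((p i).asIdeal : Set A) := hsub (Ideal.zero_mem _)
      simp at h1
    · obtain ⟨i, -, hi⟩ := (Ideal.subset_union_prime (f := fun i => (p i).asIdeal)
        ⟨0, hr⟩ ⟨0, hr⟩ (fun i _ _ _ => (p i).2)).1 hsub
      exact ⟨i, hi⟩
  have hdisjp : ∀ i, Disjoint (S : Set A) ((p i).asIdeal : Set A) := fun i =>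
    Set.disjoint_left.2 fun a ha => (hmemS a).1 ha i
  have hmap : ∀ i, ((p i).asIdeal.map (algebraMap A L)).IsPrime ∧
      ((p i).asIdeal.map (algebraMap A L)).comap (algebraMap A L) = (p i).asIdeal := fun i =>
    ⟨IsLocalization.isPrime_of_isPrime_disjoint S L _ (p i).2 (hdisjp i),
      IsLocalization.under_map_of_isPrime_disjoint S L (p i).2 (hdisjp i)⟩
  have hmc : ∀ P : Ideal L, (P.comap (algebraMap A L)).map (algebraMap A L) = P :=
    fun P => IsLocalization.map_under S L P
  have hinj : ∀ P Q : Ideal L, P.comap (algebraMap A L) = Q.comap (algebraMap A L) → P = Q :=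
    fun P Q h => by rw [← hmc P, h, hmc Q]
  have hmax : ∀ P : Ideal L, P.IsMaximal → ∃ i, P.comap (algebraMap A L) = (p i).asIdeal := by
    intro P hP
    obtain ⟨i, hi⟩ := hbelow P hP.isPrime
    refine ⟨i, ?_⟩
    have h1 : P ≤ (p i).asIdeal.map (algebraMap A L) := (hmc P).ge.trans (Ideal.map_mono hi)
    have h2 := congrArg (Ideal.comap (algebraMap A L)) (hP.eq_of_le (hmap i).1.ne_top h1)
    rwa [(hmap i).2] at h2
  refine ⟨?_, fun P hP => ?_, fun P _ Q _ h => hinj P Q h, ?_⟩
  · refine Finite.of_injective (fun P : MaximalSpectrum L => (hmax P.asIdeal P.isMaximal).choose)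
      fun P Q h => ?_
    refine MaximalSpectrum.ext (hinj _ _ ?_)
    rw [(hmax P.asIdeal P.isMaximal).choose_spec, (hmax Q.asIdeal Q.isMaximal).choose_spec]
    exact congrArg (fun i => (p i).asIdeal) h
  · obtain ⟨i, hi⟩ := hmax P hP
    refine ⟨⟨i, hi.symm⟩, fun j hj => ?_⟩
    have h1 : P ≤ (p j).asIdeal.map (algebraMap A L) := (hmc P).ge.trans (Ideal.map_mono hj)
    have h2 := congrArg (Ideal.comap (algebraMap A L))
      ((hP : P.IsMaximal).eq_of_le (hmap j).1.ne_top h1)
    rwa [(hmap j).2] at h2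
  · rintro q ⟨⟨i, rfl⟩, hq⟩
    obtain ⟨M, hM, hle⟩ := Ideal.exists_le_maximal _ (hmap i).1.ne_top
    refine ⟨M, hM, ?_⟩
    obtain ⟨j, hj⟩ := hmax M hM
    have h2 : (p i).asIdeal ≤ M.comap (algebraMap A L) := Ideal.le_comap_of_map_le hle
    change M.comap (algebraMap A L) = (p i).asIdeal
    rw [hj] at h2 ⊢
    exact (hq j h2).symm

end Groth.Agent.S7668
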