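
import Groth.Statements.S7669
import Groth.Agent.L22.PicGlue.Points
import Groth.Agent.L18.GenLocus

set_option autoImplicit false
universe u
open CategoryTheory CategoryTheory.Limits AlgebraicGeometry
open Variety

namespace Groth.Agent.S7669

/-- Let X be a scheme and U ⊆ X a retrocompact open such that X ∖ U is discrete and O_{X,x} is
Noetherian of dimension ≤ 1 for every x ∈ X ∖ U. Then (1) there are an invertible module L and a
global section s with U = X_s, and (2) Pic(X) → Pic(U) is surjective. -/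
theorem result (X : Scheme.{u}) (U : X.Opens)
    [QuasiCompact U.ι] (hdisc : DiscreteTopology ↥((U : Set X)ᶜ))
    (hloc : ∀ x : X, x ∉ U → IsNoetherianRing (X.presheaf.stalk x) ∧ ringKrullDim (X.presheaf.stalk x) ≤ 1) :
    (∃ (L : X.Modules) (s : Coh.structureModule X ⟶ L), PicF.IsInvertible L ∧ CohB1.genLocus L s = U) ∧
      ∀ N : (↑U : Scheme.{u}).Modules, PicF.IsInvertible N →
        ∃ L : X.Modules, PicF.IsInvertible L ∧ Nonempty (L.restrict U.ι ≅ N) := by
  classical
  open Groth.L21.Extend Groth.L22.PicGlue in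
  have hiso : ∀ z : {x : X // x ∉ U}, ∃ O : X.Opens, z.1 ∈ O ∧ ∀ y ∈ O, y ∉ U → y = z.1 :=
    fun z => Groth.L22.PicGlue.exists_isolating hdisc z.1 z.2
  choose O hxO hO using hiso
  refine ⟨?_, fun N hN => ?_⟩
  · -- the invertible module with a section vanishing exactly on the complement
    have hp : ∀ z : {x : X // x ∉ U}, ∃ (V : X.Opens) (f : Γ(X, V)),
        IsAffineOpen V ∧ z.1 ∈ V ∧ V ≤ O z ∧ X.basicOpen f = V ⊓ U := fun z => by
      haveI := (hloc z.1 z.2).1
      exact Groth.L22.PicGlue.exists_puncture U z.1 z.2 (O z) (hxO z) (hO z) (hloc z.1 z.2).2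
    choose V f hV hxV hVO hf using hp
    let M : X.Modules := (Scheme.Modules.pushforward U.ι).obj (Coh.structureModule (↑U : Scheme.{u}))
    have hs := Groth.L21.Extend.supportedOn_pushforward (le_refl U) (Coh.structureModule (↑U : Scheme.{u}))
    have hgen := Groth.L21.Extend.genOn_pushforward (O := U) _
      (Groth.L21.Extend.isInvertible_structureModule (↑U : Scheme.{u}))
    let m : Γ(M, U) := (1 : Γ((↑U : Scheme.{u}), U.ι ⁻¹ᵁ U))
    have hm : Groth.L21.Extend.IsGen M U m := fun W hW => by
      have hb : Function.Bijective (U.ι.app W) := by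
        haveI : IsIso (U.ι.app W) := U.ι.isIso_app W (by rwa [Scheme.Opens.opensRange_ι])
        exact ConcreteCategory.bijective_of_isIso _
      have key : ∀ a : Γ(X, W),
          (show Γ((↑U : Scheme.{u}), U.ι ⁻¹ᵁ W) from a • Groth.L21.Extend.rs M hW m) = U.ι.app W a := fun a => by
        show U.ι.app W a * Groth.L21.Extend.rO (↑U : Scheme.{u}) (U.ι.preimage_mono hW)
          (1 : Γ((↑U : Scheme.{u}), U.ι ⁻¹ᵁ U)) = U.ι.app W a
        erw [Groth.L22.PicGlue.rO_one, mul_one]
      exact ⟨fun a b h => hb.1 ((key a).symm.trans (h.trans (key b))),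
        fun t => (hb.2 t).imp fun a ha => (key a).trans ha⟩
    have hu : ∀ z, IsUnit (Groth.L21.Extend.rO X (inf_le_left : V z ⊓ U ≤ V z) (f z)) := fun z => by
      have h := (RingedSpace.isUnit_res_basicOpen _ (f z)).map
        (X.presheaf.map (homOfLE (hf z).ge).op).hom
      convert h using 1
      exact (Groth.L21.Extend.rO_rO (hf z).ge (X.basicOpen_le (f z)) (f z)).symm
    let D : Groth.L22.PicGlue.ExtInput U M :=
      { κ := {x : X // x ∉ U}
        N := V
        e := fun z => (((hu z).unit⁻¹ : Γ(X, V z ⊓ U)ˣ) : Γ(X, V z ⊓ U)) • Groth.L21.Extend.rs M inf_le_right m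
        isGen := fun z => Groth.L21.Extend.IsGen.smul_unit (hm.restrict M inf_le_right) (Units.isUnit _)
        inter := fun z w hzw y hy => by
          by_contra hn
          exact hzw (Subtype.ext ((hO z y (hVO z hy.1) hn).symm.trans (hO w y (hVO w hy.2) hn)))
        cover := fun x hx => ⟨⟨x, hx⟩, hxV _⟩ }
    obtain ⟨s, hsN, hsU⟩ := Groth.L22.PicGlue.exists_globalSection hgen D hs m f (fun z => by
      show _ • _ • _ = _
      rw [smul_smul, IsUnit.mul_val_inv, one_smul])
    refine ⟨Groth.L22.PicGlue.extension hgen D, Groth.L16.homOfSection _ s,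
      Groth.L22.PicGlue.isInvertible_extension hgen D, le_antisymm ?_ ?_⟩
    · intro x hx
      by_contra hn
      obtain ⟨z, hz⟩ : ∃ z : {x : X // x ∉ U}, x ∈ V z := ⟨⟨x, hn⟩, hxV _⟩
      have h := Groth.L18.GenLoc.genLocus_inf_eq (Groth.L16.homOfSection _ s) (W := V z)
        (e := Groth.L22.PicGlue.extGen hgen D z) (Groth.L22.PicGlue.isGen_extGen hgen D z) (a := f z)
        (by rw [Groth.L18.GenLoc.secOf_homOfSection]; exact (hsN z).symm)
      exact hn ((hf z).le (h.le ⟨hx, hz⟩)).2
    · refine Groth.L18.GenLoc.le_genLocus _ ?_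
      rw [Groth.L18.GenLoc.secOf_homOfSection]
      intro W hW
      have hb := Groth.L22.PicGlue.bijective_comp_app hgen D hs hW
      have key : ∀ a : Γ(X, W), (Groth.L22.PicGlue.comp hgen D hs).app W
          (a • Groth.L21.Extend.rs _ hW (Groth.L21.Extend.rs _ (le_top : U ≤ ⊤) s)) =
            a • Groth.L21.Extend.rs M hW m := fun a => by
        rw [Scheme.Modules.Hom.app_smul, Groth.L21.Extend.rs_app, hsU]
      exact ⟨fun a b h => (hm W hW).1 ((key a).symm.trans
          ((congrArg ((Groth.L22.PicGlue.comp hgen D hs).app W) h).trans (key b))),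
        fun t => by
          obtain ⟨a, ha⟩ := (hm W hW).2 ((Groth.L22.PicGlue.comp hgen D hs).app W t)
          exact ⟨a, hb.1 ((key a).trans ha)⟩⟩
  · -- extending an invertible module
    let M : X.Modules := (Scheme.Modules.pushforward U.ι).obj N
    have hs := Groth.L21.Extend.supportedOn_pushforward (le_refl U) N
    have hgen := Groth.L21.Extend.genOn_pushforward (O := U) N hN
    have hp : ∀ z : {x : X // x ∉ U}, ∃ (V : X.Opens) (e : Γ(M, V ⊓ U)),
        z.1 ∈ V ∧ V ≤ O z ∧ Groth.L21.Extend.IsGen M (V ⊓ U) e := fun z => by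
      haveI := (hloc z.1 z.2).1
      exact Groth.L22.PicGlue.exists_puncture_gen U M hgen z.1 z.2 (O z) (hxO z) (hO z) (hloc z.1 z.2).2
    choose V e hxV hVO he using hp
    let D : Groth.L22.PicGlue.ExtInput U M :=
      { κ := {x : X // x ∉ U}
        N := V
        e := e
        isGen := he
        inter := fun z w hzw y hy => by
          by_contra hn
          exact hzw (Subtype.ext ((hO z y (hVO z hy.1) hn).symm.trans (hO w y (hVO w hy.2) hn)))
        cover := fun x hx => ⟨⟨x, hx⟩, hxV _⟩ }
    obtain ⟨φ⟩ := Groth.L22.PicGlue.nonempty_iso_restrict hgen D hs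
    exact ⟨Groth.L22.PicGlue.extension hgen D, Groth.L22.PicGlue.isInvertible_extension hgen D,
      ⟨φ ≪≫ (Scheme.Modules.restrictFunctorAdjCounitIso U.ι).app N⟩⟩

end Groth.Agent.S7669
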