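
import Groth.Statements.S7674
import Groth.Agent.L22.TensorDim
import Groth.Agent.L22.SchemeDim
import Mathlib.AlgebraicGeometry.AffineSpace

set_option autoImplicit false
universe u
open CategoryTheory CategoryTheory.Limits AlgebraicGeometry
open Variety

namespace Groth.Agent.S7674

theorem dim_closure_eq {R : Type*} [CommRing R] (p : PrimeSpectrum R) :
    topologicalKrullDim (closure ({p} : Set (PrimeSpectrum R))) = ringKrullDim (R ⧸ p.asIdeal) := by
  have hemb := PrimeSpectrum.isClosedEmbedding_comap_of_surjective (R := R)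
    (R ⧸ p.asIdeal) (Ideal.Quotient.mk p.asIdeal) Ideal.Quotient.mk_surjective
  rw [Groth.L22.SchemeDim.topologicalKrullDim_eq_of_isEmbedding hemb.isEmbedding]
  · exact PrimeSpectrum.topologicalKrullDim_eq_ringKrullDim _
  rw [range_comap_of_surjective _ _ Ideal.Quotient.mk_surjective, Ideal.mk_ker,
    PrimeSpectrum.closure_singleton]

theorem le_of_component {T : Type u} [TopologicalSpace T] [QuasiSober T] [T0Space T] {k : Type u}
    [Field k] {n r s : ℕ} (h : T ≃ₜ PrimeSpectrum (MvPolynomial (Fin n) k)) {X Y : Set T}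
    (hX : IsClosed X) (hY : IsClosed Y)
    (hXr : ∀ Z ∈ irreducibleComponents X, topologicalKrullDim Z = r)
    (hYs : ∀ Z ∈ irreducibleComponents Y, topologicalKrullDim Z = s)
    {Z : Set ↥(X ∩ Y)} (hZ : Z ∈ irreducibleComponents ↥(X ∩ Y)) :
    ((r + s : ℕ) : WithBot ℕ∞) ≤ topologicalKrullDim Z + (n : WithBot ℕ∞) := by
  have hcl : ∀ t : T, topologicalKrullDim (closure ({t} : Set T)) =
      ringKrullDim (MvPolynomial (Fin n) k ⧸ (h t).asIdeal) := by
    intro t
    rw [← dim_closure_eq, ← Set.image_singleton, ← h.image_closure]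
    exact (Groth.L22.SchemeDim.topologicalKrullDim_eq_of_isEmbedding
      (f := fun w : (closure ({t} : Set T)) => h w.1)
      (h.isEmbedding.comp Topology.IsEmbedding.subtypeVal)
      (by rw [Set.range_comp', Subtype.range_coe])).symm
  have hcomp : ∀ {A : Set T}, IsClosed A → ∀ C ∈ irreducibleComponents A, ∃ x : T,
      Subtype.val '' C = closure {x} ∧ topologicalKrullDim C =
        topologicalKrullDim (closure ({x} : Set T)) := by
    intro A hA C hC
    obtain ⟨x, hx⟩ := QuasiSober.sober (hC.1.image _ continuous_subtype_val.continuousOn)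
      (hA.isClosedEmbedding_subtypeVal.isClosedMap _ (isClosed_of_mem_irreducibleComponents C hC))
    refine ⟨x, hx.def.symm, (Groth.L22.SchemeDim.topologicalKrullDim_eq_of_isEmbedding
      (f := fun w : C => w.1.1)
      (Topology.IsEmbedding.subtypeVal.comp Topology.IsEmbedding.subtypeVal) ?_).symm⟩
    rw [Set.range_comp', Subtype.range_coe, hx.def]
  obtain ⟨z, hz, hzd⟩ := hcomp (hX.inter hY) Z hZ
  have hzm : z ∈ X ∩ Y := by
    obtain ⟨w, -, hw⟩ := hz.ge (subset_closure rfl)
    exact hw ▸ w.2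
  obtain ⟨x, hx, hxd⟩ := hcomp hX _ (irreducibleComponent_mem_irreducibleComponents (⟨z, hzm.1⟩ : X))
  obtain ⟨y, hy, hyd⟩ := hcomp hY _ (irreducibleComponent_mem_irreducibleComponents (⟨z, hzm.2⟩ : Y))
  rw [hXr _ (irreducibleComponent_mem_irreducibleComponents _), hcl] at hxd
  rw [hYs _ (irreducibleComponent_mem_irreducibleComponents _), hcl] at hyd
  have hle : ∀ {a b : T}, b ∈ closure ({a} : Set T) ↔ (h a).asIdeal ≤ (h b).asIdeal := by
    intro a b
    rw [← specializes_iff_mem_closure]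
    change _ ↔ h a ≤ h b
    rw [PrimeSpectrum.le_iff_specializes, h.isEmbedding.isInducing.specializes_iff]
  have hxz : z ∈ closure ({x} : Set T) := hx.le ⟨_, mem_irreducibleComponent, rfl⟩
  have hyz : z ∈ closure ({y} : Set T) := hy.le ⟨_, mem_irreducibleComponent, rfl⟩
  have hmin : (h z).asIdeal ∈ ((h x).asIdeal ⊔ (h y).asIdeal).minimalPrimes := by
    refine ⟨⟨(h z).2, sup_le (hle.1 hxz) (hle.1 hyz)⟩, fun W hW hWz => ?_⟩
    obtain ⟨w, hw⟩ := h.surjective ⟨W, hW.1⟩
    have hw' : (h w).asIdeal = W := by rw [hw]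
    have hwz : z ∈ closure ({w} : Set T) := hle.2 (hw' ▸ hWz)
    have hwX : w ∈ X := by
      have h1 : w ∈ closure ({x} : Set T) := hle.2 (hw' ▸ le_sup_left.trans hW.2)
      obtain ⟨u, -, hu⟩ := hx.ge h1
      exact hu ▸ u.2
    have hwY : w ∈ Y := by
      have h1 : w ∈ closure ({y} : Set T) := hle.2 (hw' ▸ le_sup_right.trans hW.2)
      obtain ⟨u, -, hu⟩ := hy.ge h1
      exact hu ▸ u.2
    have hsub : Z ⊆ closure ({(⟨w, hwX, hwY⟩ : ↥(X ∩ Y))} : Set ↥(X ∩ Y)) := fun c hc => by
      rw [Topology.IsEmbedding.subtypeVal.isInducing.closure_eq_preimage_closure_image,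
        Set.image_singleton]
      exact closure_minimal (Set.singleton_subset_iff.2 hwz) isClosed_closure
        (hz.le ⟨c, hc, rfl⟩)
    have hwZ := hZ.2 isIrreducible_singleton.closure hsub (subset_closure rfl)
    have : w ∈ closure ({z} : Set T) := hz.le ⟨_, hwZ, rfl⟩
    rw [← hw']
    exact hle.1 this
  have := Groth.L22.TensorDim.dim_add_dim_le k (h x).asIdeal (h y).asIdeal (h z).asIdeal hmin
  rw [← hxd, ← hyd, ← hcl, ← hzd] at this
  exact_mod_cast this

/-- Let k be a field, n ≥ 0, and X, Y ⊆ A^n_k closed subsets which are equidimensional of dimensions r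
and s. Then each irreducible component Z of the intersection X ∩ Y satisfies dim Z ≥ r + s − n. -/
theorem result (k : Type u) [Field k] (n r s : ℕ)
    (X Y : Set ↥(𝔸(ULift.{u} (Fin n); Spec (CommRingCat.of k)))) (hX : IsClosed X) (hY : IsClosed Y)
    (hXr : ∀ Z ∈ irreducibleComponents X, topologicalKrullDim Z = r)
    (hYs : ∀ Z ∈ irreducibleComponents Y, topologicalKrullDim Z = s)
    (Z : Set ↥(X ∩ Y)) (hZ : Z ∈ irreducibleComponents ↥(X ∩ Y)) :
    ((r + s : ℕ) : WithBot ℕ∞) ≤ topologicalKrullDim Z + (n : WithBot ℕ∞) := by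
  exact le_of_component
    ((AffineSpace.SpecIso (ULift.{u} (Fin n)) (CommRingCat.of k)).hom.homeomorph.trans
      (PrimeSpectrum.homeomorphOfRingEquiv
        (MvPolynomial.renameEquiv k (Equiv.ulift : ULift.{u} (Fin n) ≃ Fin n)).toRingEquiv))
    hX hY hXr hYs hZ

end Groth.Agent.S7674
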