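
import Groth.Statements.S7675
import Groth.Agent.L22.ProjInter

set_option autoImplicit false
universe u
open CategoryTheory CategoryTheory.Limits AlgebraicGeometry
open Variety

namespace Groth.Agent.S7675

/-- Let k be a field, n ≥ 0 and X, Y ⊆ P^n_k nonempty closed subsets of dimensions r and s with r + s ≥
n. Then X ∩ Y is nonempty and dim(X ∩ Y) ≥ r + s − n. -/
theorem result (k : Type u) [Field k] (n r s : ℕ)
    (X Y : Set ↥(CohB1.ProjSpace n k)) (hX : IsClosed X) (hY : IsClosed Y)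
    (hXne : X.Nonempty) (hYne : Y.Nonempty)
    (hXr : topologicalKrullDim X = r) (hYs : topologicalKrullDim Y = s) (hrs : n ≤ r + s) :
    (X ∩ Y).Nonempty ∧ ((r + s : ℕ) : WithBot ℕ∞) ≤ topologicalKrullDim ↥(X ∩ Y) + (n : WithBot ℕ∞) := by
  obtain ⟨x, hxX, hx⟩ := Groth.L22.ProjDict.exists_mem_dim_le (Z := X) hX hXr.ge
  obtain ⟨y, hyY, hy⟩ := Groth.L22.ProjDict.exists_mem_dim_le (Z := Y) hY hYs.ge
  obtain ⟨ex, hex, -⟩ := Groth.L22.ProjDict.exists_dim_closure x
  obtain ⟨ey, hey, -⟩ := Groth.L22.ProjDict.exists_dim_closure y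
  have h1 : r ≤ ex := by exact_mod_cast hx.trans_eq hex
  have h2 : s ≤ ey := by exact_mod_cast hy.trans_eq hey
  obtain ⟨z, ez, hzx, hzy, hez, hle⟩ :=
    Groth.L22.ProjDict.exists_inter x y hex hey (by omega)
  have hzXY : z ∈ X ∩ Y :=
    ⟨closure_minimal (Set.singleton_subset_iff.2 hxX) hX hzx,
      closure_minimal (Set.singleton_subset_iff.2 hyY) hY hzy⟩
  refine ⟨⟨z, hzXY⟩, ?_⟩
  have h3 := Groth.L22.ProjDict.dim_closure_mono (hX.inter hY) hzXY
  rw [hez] at h3
  refine le_trans ?_ (add_le_add h3 le_rfl)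
  exact_mod_cast (show r + s ≤ ez + n by omega)

end Groth.Agent.S7675
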