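import Groth.Statements.S7677
import Groth.Agent.L16.ProjSpace.SerreVanishing
import Groth.Agent.L03.Euler.Basic

set_option autoImplicit false
universe u
open CategoryTheory CategoryTheory.Limits AlgebraicGeometry
open Variety

namespace Groth.Agent.S7677

/-- Let k be a field, n ≥ 0 and F a coherent module on P^n_k with Hilbert polynomial P, i.e. χ(P^n_k,
F(d)) = P(d) for all d. Then P(d) = dim_k H^0(P^n_k, F(d)) for all d ≫ 0. -/
theorem result (k : Type u) [Field k] (n : ℕ)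
    (F : (CohB1.ProjSpace n k).Modules) (hF : Coh.IsCoh F) (P : Polynomial ℚ)
    (hP : ∀ d : ℤ, (Curv2.euler k (CohB1.ProjSpace n k)
      (CohB1.tensorMod F (Twist.twistProjSpace n k d)) : ℚ) = P.eval (d : ℚ)) :
    ∃ d₀ : ℤ, ∀ d : ℤ, d₀ ≤ d →
      P.eval (d : ℚ) = (Module.finrank k (Coh.HH (CohB1.ProjSpace n k)
        (CohB1.tensorMod F (Twist.twistProjSpace n k d)) 0) : ℚ) := by
  letI : (CohB1.ProjSpace n k).Over (Spec (CommRingCat.of k)) := inferInstance
  haveI : IsProper (CohB1.ProjSpace n k ↘ Spec (CommRingCat.of k)) :=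
    inferInstanceAs (IsProper (CohB1.ProjSpace.toSpec n k))
  obtain ⟨d₀, hd₀⟩ := Groth.L16.ProjSpace.exists_vanishing n k F hF
  refine ⟨d₀, fun d hd => ?_⟩
  obtain ⟨m, rfl⟩ : ∃ m : ℕ, d = (m : ℤ) := ⟨d.toNat, by omega⟩
  rw [← hP, Groth.L03.Euler.euler_eq_sum (k := k) (N := 1) fun q hq =>
    Groth.L16.ProjSpace.subsingleton_of_iso (Groth.L00.Tensor.tensorComm _ _) q (hd₀ m (by omega) q hq)]
  simp

end Groth.Agent.S7677
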