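import Groth.Statements.S7678
import Groth.Agent.L15.Frob.GeomRed
import Mathlib.AlgebraicGeometry.Geometrically.Reduced
import Mathlib.AlgebraicGeometry.Pullbacks
-- import your own Groth.Agent.* helpers here

set_option autoImplicit false
universe u
open CategoryTheory CategoryTheory.Limits AlgebraicGeometry
open Variety

namespace Groth.Agent.S7678

/-- For a field k of positive characteristic p and a k-scheme X, the base change of X along the p-th
power map of k is a reduced scheme exactly when X is geometrically reduced over k. -/
theorem result (k : Type u) [Field k] (X : Scheme.{u}) [X.Over (Spec (CommRingCat.of k))]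
    (p : ℕ) [Fact p.Prime] [CharP k p] :
    GeometricallyReduced (X ↘ (Spec (CommRingCat.of k))) ↔
      IsReduced ↑(pullback (X ↘ (Spec (CommRingCat.of k))) (Spec.map (CommRingCat.ofHom (frobenius k p)))) := by
  set f := X ↘ Spec (CommRingCat.of k)
  constructor
  · intro h
    exact pullback_of_geometrically h.geometrically_isReduced k _
  · intro hred
    refine ⟨geometrically_iff_of_commRing_of_isClosedUnderIsomorphisms.2 fun K _ _ => ?_⟩
    apply +allowSynthFailures @IsReduced.of_openCover
      (𝒰 := Scheme.Pullback.openCoverOfLeft X.affineCover f (Spec.map (CommRingCat.ofHom (algebraMap k K))))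
    intro i
    change IsReduced (pullback (X.affineCover.f i ≫ f) (Spec.map (CommRingCat.ofHom (algebraMap k K))))
    have key : ∀ (A : CommRingCat.{u}) (j : Spec A ⟶ X) [IsOpenImmersion j],
        IsReduced (pullback (j ≫ f) (Spec.map (CommRingCat.ofHom (algebraMap k K)))) := by
      intro A j hj
      obtain ⟨φ, hφ⟩ := Spec.map_surjective (j ≫ f)
      letI : Algebra k A := φ.hom.toAlgebra
      rw [← hφ]
      have hφ' : Spec.map φ = Spec.map (CommRingCat.ofHom (algebraMap k A)) := rfl
      have hP' : IsReduced (pullback (Spec.map φ) (Spec.map (CommRingCat.ofHom (frobenius k p)))) := by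
        let m := pullback.map (Spec.map φ) (Spec.map (CommRingCat.ofHom (frobenius k p))) f
          (Spec.map (CommRingCat.ofHom (frobenius k p))) j (𝟙 _) (𝟙 _)
          (by rw [Category.comp_id, hφ]) (by simp)
        haveI : IsOpenImmersion m := inferInstance
        haveI := hred
        exact isReduced_of_isOpenImmersion m
      haveI hP : IsReduced (pullback (Spec.map (CommRingCat.ofHom (algebraMap k A)))
          (Spec.map (CommRingCat.ofHom (algebraMap k (FrobAlg.Twist p k))))) :=
        hP'
      haveI : IsReduced (Spec (CommRingCat.of (TensorProduct k A (FrobAlg.Twist p k)))) :=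
        isReduced_of_isOpenImmersion (pullbackSpecIso k A (FrobAlg.Twist p k)).inv
      haveI : _root_.IsReduced (TensorProduct k A (FrobAlg.Twist p k)) := (affine_isReduced_iff (CommRingCat.of (TensorProduct k A (FrobAlg.Twist p k)))).1 inferInstance
      haveI := Groth.L15.Frob.isGeometricallyReduced_of_frobenius p k A
      haveI : _root_.IsReduced (TensorProduct k A K) :=
        haveI := Groth.L03.GeomReduced2.isReduced_of_isGeometricallyReduced (k := k) (S := A) K
        isReduced_of_injective (Algebra.TensorProduct.comm k A K) (Algebra.TensorProduct.comm k A K).injective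
      rw [hφ']
      exact isReduced_of_isOpenImmersion (pullbackSpecIso k A K).hom
    exact @key _ (X.affineCover.f i) (X.affineCover.map_prop i)

end Groth.Agent.S7678
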