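import Groth.Statements.S7682
import Groth.Agent.L22.Inter.PullNum
import Groth.Agent.L22.Inter.Point
import Groth.Agent.L22.Cyc.FiniteDeg
import Groth.Agent.L20.Chevalley.Birat
-- import your own Groth.Agent.* helpers here

set_option autoImplicit false
universe u
open CategoryTheory CategoryTheory.Limits AlgebraicGeometry
open Variety

namespace Groth.Agent.S7682

/-- Let f : Y → X be a morphism of proper schemes over a field k, Z ⊆ Y an integral closed subscheme of
dimension d and L_1, …, L_d invertible modules on X. Then (f^*L_1 ⋯ f^*L_d · Z) = deg(Z → f(Z)) ·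
(L_1 ⋯ L_d · f(Z)), f(Z) being the scheme-theoretic image and deg the degree of the function field
extension, read as 0 when dim f(Z) < d (equivalently when that extension is infinite). Both
intersection numbers are the n_1⋯n_d-coefficients of the polynomials computing the corresponding
Euler characteristics. -/
theorem result (k : Type u) [Field k] (X Y : Scheme.{u})
    [X.Over (Spec (CommRingCat.of k))] [Y.Over (Spec (CommRingCat.of k))]
    [IsProper (X ↘ (Spec (CommRingCat.of k)))] [IsProper (Y ↘ (Spec (CommRingCat.of k)))]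
    (f : Y ⟶ X) (hf : f ≫ (X ↘ (Spec (CommRingCat.of k))) = Y ↘ (Spec (CommRingCat.of k)))
    (Z : Y.IdealSheafData) [IsIntegral Z.subscheme] (d : ℕ)
    (hZ : topologicalKrullDim (Z.support : Set Y) = d)
    (L : Fin d → X.Modules) (hL : ∀ i, PicF.IsInvertible (L i))
    (PY PX : MvPolynomial (Fin d) ℚ)
    (hPY : ∀ n : Fin d → ℕ, (Curv2.euler k Y (Curv2.tensorPows (ClSub.quotMod Z) d (fun i => (Scheme.Modules.pullback f).obj (L i)) n) : ℚ) = MvPolynomial.eval (fun i => (n i : ℚ)) PY)
    (hPX : ∀ n : Fin d → ℕ, (Curv2.euler k X (Curv2.tensorPows (ClSub.quotMod (Z.subschemeι ≫ f).ker) d L n) : ℚ) = MvPolynomial.eval (fun i => (n i : ℚ)) PX) :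
    MvPolynomial.coeff (Finsupp.equivFunOnFinite.symm fun _ : Fin d => 1) PY =
      ((Z.subschemeι ≫ f).residueDegree (genericPoint Z.subscheme) : ℚ) *
        MvPolynomial.coeff (Finsupp.equivFunOnFinite.symm fun _ : Fin d => 1) PX := by
  classical
  haveI := Groth.L21.RR.isNoetherian_of_proper (X := X) k
  haveI := Groth.L21.RR.isNoetherian_of_proper (X := Y) k
  haveI : X.IsSeparated := ⟨by rw [← terminal.comp_from (X ↘ Spec (CommRingCat.of k))]; infer_instance⟩
  haveI : Y.IsSeparated := ⟨by rw [← terminal.comp_from (Y ↘ Spec (CommRingCat.of k))]; infer_instance⟩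
  haveI : IsProper f := by
    haveI : IsProper (f ≫ (X ↘ Spec (CommRingCat.of k))) := by rw [hf]; infer_instance
    exact IsProper.of_comp f (X ↘ Spec (CommRingCat.of k))
  let g := Z.subschemeι ≫ f
  let J := g.ker
  let p : Z.subscheme ⟶ J.subscheme := g.toImage
  have hp : p ≫ J.subschemeι = g := g.toImage_imageι
  haveI : IsReduced J.subscheme := Groth.L20.Chevalley.isReduced_image g
  haveI : IrreducibleSpace J.subscheme := by
    have hd : DenseRange p := (inferInstance : IsDominant g.toImage).denseRange
    have hp0 := (PreirreducibleSpace.isPreirreducible_univ (X := Z.subscheme)).image p p.continuous.continuousOn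
    rw [Set.image_univ] at hp0
    have hp1 := hp0.closure
    rw [hd.closure_range] at hp1
    haveI : PreirreducibleSpace J.subscheme := ⟨hp1⟩
    exact { toNonempty := ⟨p (Classical.arbitrary Z.subscheme)⟩ }
  haveI : IsIntegral J.subscheme := isIntegral_of_irreducibleSpace_of_isReduced _
  letI oZ : Z.subscheme.Over (Spec (CommRingCat.of k)) := ⟨Z.subschemeι ≫ (Y ↘ Spec (CommRingCat.of k))⟩
  letI oJ : J.subscheme.Over (Spec (CommRingCat.of k)) := ⟨J.subschemeι ≫ (X ↘ Spec (CommRingCat.of k))⟩
  haveI : IsProper (Z.subscheme ↘ Spec (CommRingCat.of k)) :=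
    inferInstanceAs (IsProper (Z.subschemeι ≫ (Y ↘ Spec (CommRingCat.of k))))
  haveI : IsProper (J.subscheme ↘ Spec (CommRingCat.of k)) :=
    inferInstanceAs (IsProper (J.subschemeι ≫ (X ↘ Spec (CommRingCat.of k))))
  haveI : IsProper p := by
    haveI : IsProper (p ≫ J.subschemeι) := by rw [hp]; infer_instance
    exact IsProper.of_comp p J.subschemeι
  haveI := Groth.L21.RR.isNoetherian_of_proper (X := Z.subscheme) k
  haveI := Groth.L21.RR.isNoetherian_of_proper (X := J.subscheme) k
  have hpk : p ≫ (J.subscheme ↘ Spec (CommRingCat.of k)) = Z.subscheme ↘ Spec (CommRingCat.of k) := by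
    show p ≫ J.subschemeι ≫ _ = Z.subschemeι ≫ _
    rw [← Category.assoc, hp, Category.assoc, hf]
  have hξ : p (genericPoint Z.subscheme) = genericPoint J.subscheme := by
    have h1 := (genericPoint_spec Z.subscheme).image p.continuous
    rw [Set.image_univ, (inferInstance : IsDominant g.toImage).denseRange.closure_range] at h1
    exact h1.eq (genericPoint_spec J.subscheme)
  have hdZ : topologicalKrullDim Z.subscheme = (d : WithBot ℕ∞) := by
    rw [← hZ, ← Z.range_subschemeι]
    exact (Groth.L22.SchemeDim.topologicalKrullDim_eq_of_isEmbedding Z.subschemeι.isEmbedding rfl).symm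
  have hdJ : topologicalKrullDim (J.support : Set X) ≤ (d : WithBot ℕ∞) := by
    rw [← J.range_subschemeι,
      Groth.L22.SchemeDim.topologicalKrullDim_eq_of_isEmbedding J.subschemeι.isEmbedding rfl]
    obtain ⟨a, b, ha, -, hab⟩ := Groth.L22.FibreDim.exists_dim_closure_add k p hpk (genericPoint Z.subscheme)
    rw [hξ, show closure ({genericPoint J.subscheme} : Set J.subscheme) = Set.univ from
      genericPoint_spec J.subscheme, (Homeomorph.Set.univ J.subscheme).isHomeomorph.topologicalKrullDim_eq] at ha
    rw [show closure ({genericPoint Z.subscheme} : Set Z.subscheme) = Set.univ from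
      genericPoint_spec Z.subscheme, (Homeomorph.Set.univ Z.subscheme).isHomeomorph.topologicalKrullDim_eq,
      hdZ] at hab
    rw [ha]
    have : d = a + b := by exact_mod_cast hab
    exact_mod_cast (show a ≤ d by omega)
  have hL' : ∀ i, PicF.IsInvertible ((Scheme.Modules.pullback f).obj (L i)) :=
    fun i => Groth.L18.Ample.isInvertible_pullback f (hL i)
  have hmY := Groth.L03.Euler.twEuler_mem' k hL' (Groth.L21.RR.isCoh_quotMod Z)
    ((Groth.L03.Euler.topologicalKrullDim_set_mono (Groth.L22.Inter.support_quotMod_subset Z)).trans hZ.le)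
  have hmX := Groth.L03.Euler.twEuler_mem' k hL (Groth.L21.RR.isCoh_quotMod J)
    ((Groth.L03.Euler.topologicalKrullDim_set_mono (Groth.L22.Inter.support_quotMod_subset J)).trans hdJ)
  rw [Groth.L22.Inter.coeff_eq_alt hmY fun n => (Groth.L03.Euler.euler_tensorPows_eq k _ _ n).symm.trans (hPY n),
    Groth.L22.Inter.coeff_eq_alt hmX fun n => (Groth.L03.Euler.euler_tensorPows_eq k _ _ n).symm.trans (hPX n)]
  have h := Groth.L22.Inter.altT_pullback k p hpk hξ hdZ
    (L := fun i => (Scheme.Modules.pullback J.subschemeι).obj (L i))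
    (fun i => Groth.L18.Ample.isInvertible_pullback _ (hL i))
  have hdeg : g.residueDegree (genericPoint Z.subscheme) = p.residueDegree (genericPoint Z.subscheme) := by
    rw [Groth.L22.Cyc.residueDegree_congr g hp.symm, Groth.L22.Cyc.residueDegree_comp,
      Groth.L22.Cyc.residueDegree_eq_one J.subschemeι _ (Groth.L22.FibreDim.residueFieldMap_bijective _ _),
      one_mul]
  have hYe : Groth.L03.Euler.twEuler k (fun i => (Scheme.Modules.pullback f).obj (L i)) (ClSub.quotMod Z) =
      Groth.L03.Euler.twEuler k (fun i => (Scheme.Modules.pullback p).obj ((Scheme.Modules.pullback J.subschemeι).obj (L i)))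
        (Coh.structureModule Z.subscheme) := by
    funext n
    refine (Groth.L22.Inter.twEuler_push k Z.subschemeι rfl hL' (Coh.structureModule Z.subscheme)
      Groth.L16.CohClosedPush.isCoh_structure.1 n).trans ?_
    obtain ⟨e⟩ := Groth.L22.Inter.nonempty_tensorPows_congr (F := Coh.structureModule Z.subscheme)
      (fun i => (⟨(Scheme.Modules.pullbackComp Z.subschemeι f).app (L i) ≪≫
        (Scheme.Modules.pullbackCongr hp.symm).app (L i) ≪≫
        ((Scheme.Modules.pullbackComp p J.subschemeι).app (L i)).symm⟩ :
        Nonempty ((Scheme.Modules.pullback Z.subschemeι).obj ((Scheme.Modules.pullback f).obj (L i)) ≅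
          (Scheme.Modules.pullback p).obj ((Scheme.Modules.pullback J.subschemeι).obj (L i))))) n
    exact congrArg (Int.cast : ℤ → ℚ) (Groth.L03.Euler.euler_iso
      (Groth.L00.Tensor.tensorIso (Iso.refl _) e))
  have hXe : Groth.L03.Euler.twEuler k L (ClSub.quotMod J) =
      Groth.L03.Euler.twEuler k (fun i => (Scheme.Modules.pullback J.subschemeι).obj (L i))
        (Coh.structureModule J.subscheme) :=
    funext fun n => Groth.L22.Inter.twEuler_push k J.subschemeι rfl hL (Coh.structureModule J.subscheme)
      Groth.L16.CohClosedPush.isCoh_structure.1 n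
  rw [hYe, hXe, hdeg]
  exact h

end Groth.Agent.S7682
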