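import Groth.Statements.S7683
import Groth.Agent.L22.Norm.DeltaFieldExtScheme
-- import your own Groth.Agent.* helpers here

set_option autoImplicit false
universe u
open CategoryTheory CategoryTheory.Limits AlgebraicGeometry
open Variety

namespace Groth.Agent.S7683

/-- Let X be locally of finite type over a field k with normalization ν : X^ν → X, K/k a field
extension, y ∈ X_K a point with image x ∈ X. Assume O_{X,x} is reduced of dimension one, κ(x')/k is
separable for every x' ∈ X^ν over x, and dim O_{X_K,y} = 1. Then the δ-invariant of X at x equals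
the δ-invariant of X_K at y. (The published statement needs only O_{X,x} reduced; this row takes X
integral so that X^ν is the normalization of an integral scheme.) -/
theorem result (k : Type u) [Field k] (X : Scheme.{u}) [X.Over (Spec (CommRingCat.of k))]
    [IsIntegral X] [LocallyOfFiniteType (X ↘ (Spec (CommRingCat.of k)))]
    [QuasiCompact (X.fromSpecStalk (genericPoint X))] [QuasiSeparated (X.fromSpecStalk (genericPoint X))]
    (K : Type u) [Field K] [Algebra k K] (y : ↥(Curv2.bc k X K))
    (hdx : ringKrullDim (X.presheaf.stalk ((Curv2.bcFst k X K).base y)) = 1)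
    (hsep : letI : (Curv2.normalization X).Over (Spec (CommRingCat.of k)) :=
        ⟨Curv2.normalizationι X ≫ (X ↘ (Spec (CommRingCat.of k)))⟩
      ∀ x' : ↥(Curv2.normalization X), (Curv2.normalizationι X).base x' = (Curv2.bcFst k X K).base y →
        GeometricallyReduced (Spec.map (CommRingCat.ofHom (Curv2.resMap k (Curv2.normalization X) x'))))
    (hdy : ringKrullDim ((Curv2.bc k X K).presheaf.stalk y) = 1) :
    Curv2.deltaInv (X.presheaf.stalk ((Curv2.bcFst k X K).base y)) =
      Curv2.deltaInv ((Curv2.bc k X K).presheaf.stalk y) := by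
  classical
  letI := Curv2.stalkAlgebra k X ((Curv2.bcFst k X K).base y)
  haveI : IsLocallyNoetherian X := LocallyOfFiniteType.isLocallyNoetherian (X ↘ Spec (CommRingCat.of k))
  haveI : LocallyOfFiniteType (Curv2.bcSnd k X K) := MorphismProperty.pullback_snd _ _ inferInstance
  haveI : IsLocallyNoetherian (Curv2.bc k X K) := LocallyOfFiniteType.isLocallyNoetherian (Curv2.bcSnd k X K)
  obtain ⟨Q, hQ, ⟨e⟩⟩ := Groth.L07.FieldStalk.exists_point_over k X ((Curv2.bcFst k X K).base y) K y rfl
  let O := X.presheaf.stalk ((Curv2.bcFst k X K).base y)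
  let c : TensorProduct k O K ≃ₐ[k] TensorProduct k K O := Algebra.TensorProduct.comm k O K
  let q : Ideal (TensorProduct k O K) := Q.asIdeal.comap c.toRingEquiv.toRingHom
  letI : Algebra (TensorProduct k O K) ((Curv2.bc k X K).presheaf.stalk y) :=
    ((e.toRingHom.comp (algebraMap (TensorProduct k K O) (Localization.AtPrime Q.asIdeal))).comp
      c.toRingEquiv.toRingHom).toAlgebra
  haveI : IsLocalization.AtPrime ((Curv2.bc k X K).presheaf.stalk y) q := by
    letI : Algebra (TensorProduct k K O) ((Curv2.bc k X K).presheaf.stalk y) :=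
      (e.toRingHom.comp (algebraMap (TensorProduct k K O) (Localization.AtPrime Q.asIdeal))).toAlgebra
    haveI h1 : IsLocalization Q.asIdeal.primeCompl ((Curv2.bc k X K).presheaf.stalk y) :=
      IsLocalization.isLocalization_of_algEquiv Q.asIdeal.primeCompl
        (AlgEquiv.ofRingEquiv (f := e) (fun _ => rfl) :
          Localization.AtPrime Q.asIdeal ≃ₐ[TensorProduct k K O] _)
    have h2 := IsLocalization.isLocalization_of_base_ringEquiv Q.asIdeal.primeCompl
      ((Curv2.bc k X K).presheaf.stalk y) c.symm.toRingEquiv
    have hM : Q.asIdeal.primeCompl.map (c.symm.toRingEquiv : TensorProduct k K O →* TensorProduct k O K) =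
        q.primeCompl := by
      ext z
      constructor
      · rintro ⟨w, hw, rfl⟩
        show c (c.symm w) ∉ Q.asIdeal
        rwa [AlgEquiv.apply_symm_apply]
      · intro hz
        exact ⟨c z, hz, c.symm_apply_apply z⟩
    show IsLocalization q.primeCompl _
    rw [← hM]
    exact h2
  have hN := Groth.L22.Norm.FlatInvariance.isNagata_stalk k X ((Curv2.bcFst k X K).base y)
  haveI : IsNoetherianRing O := hN.1
  refine (Groth.L22.Norm.FlatInvariance.deltaInv_fieldExt k K O (Groth.L22.Norm.finite_integralClosure O hN) hdx q ?_
    _ hdy.le fun n _ => Groth.L22.Norm.FlatInvariance.isReduced_residue_tensor k X _ K hsep n).symm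
  rw [← hQ, Ideal.comap_comap]
  congr 1

end Groth.Agent.S7683
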