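import Groth.Statements.S7686
import Groth.Agent.L22.Inter.Top
import Groth.Agent.L22.Inter.Coeff
import Groth.Agent.L22.Inter.Push
import Groth.Agent.L22.Inter.Point

set_option autoImplicit false
universe u
open CategoryTheory CategoryTheory.Limits AlgebraicGeometry
open Variety

namespace Groth.Agent.S7686

/-- Let X be proper over a field k, Z ⊆ X a closed subscheme of dimension d with irreducible components
Z_i of dimension d (reduced induced structure, generic points ξ_i, multiplicities m_i = length of
O_{Z,ξ_i} over O_{X,ξ_i}) and L_1, …, L_d invertible modules. Then (L_1 ⋯ L_d · Z) = Σ m_i (L_1 ⋯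
L_d · Z_i). Intersection numbers are the n_1⋯n_d-coefficients of the polynomials computing the Euler
characteristics; the sum is written over all points ξ whose closure has dimension d (other terms
vanish). -/
theorem result (k : Type u) [Field k] (X : Scheme.{u}) [X.Over (Spec (CommRingCat.of k))] [IsProper (X ↘ (Spec (CommRingCat.of k)))]
    (D : X.IdealSheafData) (d : ℕ) (hD : topologicalKrullDim (D.support : Set X) = d)
    (L : Fin d → X.Modules) (hL : ∀ i, PicF.IsInvertible (L i)) (P : MvPolynomial (Fin d) ℚ)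
    (hP : ∀ n : Fin d → ℕ, (Curv2.euler k X (Curv2.tensorPows (ClSub.quotMod D) d L n) : ℚ) = MvPolynomial.eval (fun i => (n i : ℚ)) P)
    (Q : X → MvPolynomial (Fin d) ℚ)
    (hQ : ∀ ξ : X, topologicalKrullDim (closure ({ξ} : Set X)) = (d : WithBot ℕ∞) →
      ∀ n : Fin d → ℕ, (Curv2.euler k X (Curv2.tensorPows (ClSub.quotMod (Scheme.IdealSheafData.vanishingIdeal (⟨closure ({ξ} : Set X), isClosed_closure⟩ : TopologicalSpace.Closeds X))) d L n) : ℚ) = MvPolynomial.eval (fun i => (n i : ℚ)) (Q ξ)) :
    MvPolynomial.coeff (Finsupp.equivFunOnFinite.symm fun _ : Fin d => 1) P =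
      ∑ᶠ ξ : X, (if topologicalKrullDim (closure ({ξ} : Set X)) = (d : WithBot ℕ∞) then
        ((Module.length (X.presheaf.stalk ξ) ((ClSub.quotMod D).presheaf.stalk ξ)).toNat : ℚ) *
          MvPolynomial.coeff (Finsupp.equivFunOnFinite.symm fun _ : Fin d => 1) (Q ξ) else 0) := by
  classical
  haveI := Groth.L21.RR.isNoetherian_of_proper (X := X) k
  have hT : IsClosed (D.support : Set X) := D.support.isClosed
  have hc := Groth.L21.RR.isCoh_quotMod D
  have hs := Groth.L22.Inter.support_quotMod_subset D
  have hf : Groth.L03.Euler.twEuler k L (ClSub.quotMod D) ∈ Groth.L03.Euler.polyFun d (d + 1) :=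
    Groth.L03.Euler.twEuler_mem' k hL hc ((Groth.L03.Euler.topologicalKrullDim_set_mono hs).trans hD.le)
  let S := (Groth.L22.Inter.finite_top hT hD.le).toFinset
  have hS : ∀ x, x ∈ S ↔ x ∈ (D.support : Set X) ∧
      topologicalKrullDim (closure ({x} : Set X)) = (d : WithBot ℕ∞) := fun x => Set.Finite.mem_toFinset _
  have key := Groth.L22.Inter.alt_eq_zero le_rfl (Groth.L22.Inter.twEuler_sub_sum_mem k hL hT hD.le S hS
    (fun y => ClSub.quotMod (Groth.L22.Inter.pt y)) (fun y _ => Groth.L22.Inter.pt_facts y) hc hs)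
  rw [map_sub, map_sum, sub_eq_zero] at key
  rw [Groth.L22.Inter.coeff_eq_alt hf fun n => (Groth.L03.Euler.euler_tensorPows_eq k L _ n).symm.trans (hP n),
    key, finsum_eq_sum_of_support_subset _ (s := S) ?_]
  · refine Finset.sum_congr rfl fun y hy => ?_
    rw [if_pos ((hS y).1 hy).2, map_smul, smul_eq_mul]
    congr 1
    refine (Groth.L22.Inter.coeff_eq_alt (Groth.L03.Euler.twEuler_mem' k hL (Groth.L22.Inter.pt_facts y).1
      ((Groth.L03.Euler.topologicalKrullDim_set_mono (Groth.L22.Inter.pt_facts y).2.1).trans ((hS y).1 hy).2.le))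
      fun n => (Groth.L03.Euler.euler_tensorPows_eq k L _ n).symm.trans (hQ y ((hS y).1 hy).2 n)).symm
  · intro y hy
    by_contra hnot
    refine hy ?_
    show ite _ _ _ = (0 : ℚ)
    split_ifs with h
    · have h0 : y ∉ CohB1.support (ClSub.quotMod D) := fun hm => hnot (Finset.mem_coe.2 ((hS y).2 ⟨hs hm, h⟩))
      have h1 := (Groth.L16.CohSupport.len_eq_zero_iff y _).2 h0
      change ((Groth.L16.CohSupport.len y (ClSub.quotMod D)).toNat : ℚ) * _ = 0
      rw [h1]
      simp
    · rfl


end Groth.Agent.S7686
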