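
import Groth.Statements.S7689
import Groth.Agent.L22.Norm.Coker
import Groth.Agent.L22.SchemeDim

set_option autoImplicit false
universe u
open CategoryTheory CategoryTheory.Limits AlgebraicGeometry
open Variety

namespace Groth.Agent.S7689

/-- For an integral X: let X be an integral Nagata scheme of dimension one (every affine open has a
Nagata coordinate ring) with normalization ν : X^ν → X. Then ν is finite and birational (an
isomorphism over a dense open), O_X ⊆ ν_*O_{X^ν}, and the quotient ν_*O_{X^ν}/O_X is supported at
closed points, its stalk at a closed point x having length equal to the δ-invariant of O_{X,x}. (The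
published statement is for reduced Nagata schemes of dimension one; it also says that ν is
surjective and that the quotient is nonzero exactly at the singular points, and it describes the
stalk A' of ν_*O_{X^ν} at x, namely the integral closure of O_{X,x} in its total fraction ring, a
semi-local ring that is a finite product of Dedekind domains, together with the completions of
O_{X,x} and A'. This row takes X integral, does not restate surjectivity, which holds for the
normalization of every integral scheme, and keeps the finiteness, birationality, injectivity and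
length clauses.) -/
theorem result (X : Scheme.{u}) [IsIntegral X]
    [QuasiCompact (X.fromSpecStalk (genericPoint X))] [QuasiSeparated (X.fromSpecStalk (genericPoint X))]
    (hN : ∀ U : X.affineOpens, CAlg.IsNagata Γ(X, (U : X.Opens))) (hdim : topologicalKrullDim X = 1) :
    IsFinite (Curv2.normalizationι X) ∧
      (∃ U : X.Opens, Dense ((U : Set X)) ∧ IsIso (Curv2.normalizationι X ∣_ U)) ∧
      Mono (ClSub.unitToPush (Curv2.normalizationι X)) ∧
      (∀ x : X, IsClosed ({x} : Set X) →
        Module.length (X.presheaf.stalk x) ((cokernel (ClSub.unitToPush (Curv2.normalizationι X))).presheaf.stalk x) =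
          Curv2.deltaInv (X.presheaf.stalk x)) ∧
      (∀ x : X, ¬ IsClosed ({x} : Set X) →
        Subsingleton ((cokernel (ClSub.unitToPush (Curv2.normalizationι X))).presheaf.stalk x)) := by
  haveI hfin := Groth.L22.Norm.isFinite_normalizationι X hN
  haveI : IsLocallyNoetherian X := ⟨fun U => (hN U).1⟩
  refine ⟨hfin, ?_, Groth.L22.Norm.mono_unitToPush X,
    fun x _ => Groth.L22.Norm.length_stalk_cokernel X x, fun x hx => ?_⟩
  · obtain ⟨W, hW, hiso⟩ := Groth.L22.BM.exists_isIso_normalizationι X
    exact ⟨W, W.isOpen.dense hW, hiso⟩
  · have hη : x = genericPoint X := by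
      by_contra hne
      obtain ⟨y, hy, hyx⟩ : ∃ y ∈ closure ({x} : Set X), y ≠ x := by
        by_contra! h
        exact hx (closure_subset_iff_isClosed.1 fun z hz => h z hz)
      obtain ⟨U, hU, hyU, -⟩ := exists_isAffineOpen_mem_and_subset (TopologicalSpace.Opens.mem_top y)
      have hsp : x ⤳ y := specializes_iff_mem_closure.2 hy
      have hxU : x ∈ U := hsp.mem_open U.2 hyU
      haveI : Nonempty U := ⟨⟨y, hyU⟩⟩
      haveI : Ring.KrullDimLE 1 Γ(X, U) := by
        rw [Ring.krullDimLE_iff, ← Groth.L22.SchemeDim.topologicalKrullDim_affineOpen hU]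
        exact ((Topology.IsEmbedding.subtypeVal (p := fun z : X => z ∈ (U : Set X))).isInducing.topologicalKrullDim_le).trans hdim.le
      let p : Spec Γ(X, U) := hU.primeIdealOf ⟨x, hxU⟩
      let q : Spec Γ(X, U) := hU.primeIdealOf ⟨y, hyU⟩
      have hp : hU.fromSpec p = x := hU.fromSpec_primeIdealOf ⟨x, hxU⟩
      have hq : hU.fromSpec q = y := hU.fromSpec_primeIdealOf ⟨y, hyU⟩
      have hpq : p ⤳ q := by
        rw [← hU.fromSpec.isOpenEmbedding.isInducing.specializes_iff, hp, hq]
        exact hsp
      have hle : p.asIdeal ≤ q.asIdeal := (PrimeSpectrum.le_iff_specializes p q).2 hpq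
      by_cases hp0 : p.asIdeal = ⊥
      · refine hne ?_
        rw [← hp]
        refine ((genericPoint_spec X).eq ?_).symm
        rw [isGenericPoint_def, Set.eq_univ_iff_forall]
        intro z
        refine closure_minimal (s := (U : Set X)) ?_ isClosed_closure
          ((U.isOpen.dense ⟨y, hyU⟩).closure_eq.symm ▸ Set.mem_univ z : z ∈ closure (U : Set X)) |>
            fun h => h
        intro w hw
        obtain ⟨r, rfl⟩ := hU.range_fromSpec.ge hw
        refine (Specializes.map ((PrimeSpectrum.le_iff_specializes p r).1 ?_) hU.fromSpec.continuous).mem_closure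
        show p.asIdeal ≤ r.asIdeal
        rw [hp0]
        exact bot_le
      · refine hyx ?_
        have hmax := p.2.isMaximal_of_ne_bot hp0
        rw [← hp, ← hq]
        exact congrArg hU.fromSpec (PrimeSpectrum.ext (hmax.eq_of_le q.2.ne_top hle)).symm
    subst hη
    have h0 : Curv2.deltaInv (X.presheaf.stalk (genericPoint X)) = 0 := by
      refine Module.length_eq_zero_iff.2 ⟨fun a b => ?_⟩
      obtain ⟨a, rfl⟩ := Submodule.Quotient.mk_surjective _ a
      obtain ⟨b, rfl⟩ := Submodule.Quotient.mk_surjective _ b
      refine (Submodule.Quotient.eq _).2 ?_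
      obtain ⟨n, d, hd⟩ := IsLocalization.exists_mk'_eq
        (nonZeroDivisors (X.presheaf.stalk (genericPoint X))) (a - b).1
      have hu : IsUnit (d : X.presheaf.stalk (genericPoint X)) :=
        (isUnit_iff_ne_zero (a := (show X.functionField from d.1))).2 (nonZeroDivisors.ne_zero d.2)
      obtain ⟨e, he⟩ := hu.exists_left_inv
      refine ⟨n * e, Subtype.ext ?_⟩
      show algebraMap _ _ (n * e) = (a - b).1
      rw [← hd, IsLocalization.eq_mk'_iff_mul_eq, ← map_mul, mul_assoc, he, mul_one]
    exact Module.length_eq_zero_iff.1 ((Groth.L22.Norm.length_stalk_cokernel X (genericPoint X)).trans h0)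

end Groth.Agent.S7689
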