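import Groth.Statements.S8267
import Groth.Agent.L18.SymGraded
import Groth.Agent.L20.ModStalk

set_option autoImplicit false
universe u
open CategoryTheory CategoryTheory.Limits AlgebraicGeometry Opposite TopologicalSpace
open EGA2

namespace Groth.Agent.S8267

/-- Let E be a quasi-coherent O_S-module of finite type and A (through j : E → A) its symmetric algebra.
Then the vector bundle V(E) = Spec(A) is of finite type over S, i.e. its (affine) structure morphism
is locally of finite type. -/
theorem result {S : Scheme.{u}} (E : S.Modules) (hE : Coh.IsCoh E)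
    (A : RelSpec.QCAlg S) (j : E ⟶ A.toModule) (hA : RelSpec.IsSymAlg E A j) :
    LocallyOfFiniteType A.π := by
  classical
  haveI : Coh.IsQCoh E := hE.1
  obtain ⟨Φ, hΦ, -, -⟩ := Groth.L18.SymSheaf.exists_equiv hA
  refine (IsZariskiLocalAtSource.iff_of_openCover (P := @LocallyOfFiniteType) (f := A.π) A.glueData.cover).2 ?_
  rintro ⟨U, hU⟩
  show LocallyOfFiniteType (A.ι U hU ≫ A.π)
  rw [RelSpec.QCAlg.ι_π]
  haveI : LocallyOfFiniteType (Spec.map (A.str.app (op U))) := by
    rw [HasRingHomProperty.Spec_iff (P := @LocallyOfFiniteType)]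
    haveI := Groth.L20.ModStalk.finite_sections E hE hU
    obtain ⟨s, hs⟩ := Module.Finite.fg_top (R := Γ(S, U)) (M := Γ(E, U))
    haveI hft : Algebra.FiniteType Γ(S, U) (Groth.L18.SymSheaf.Sym E U) := by
      refine ⟨⟨s.image (SymmetricAlgebra.ι Γ(S, U) Γ(E, U)), eq_top_iff.2 fun x _ => ?_⟩⟩
      rw [Finset.coe_image]
      let T := Algebra.adjoin Γ(S, U) (SymmetricAlgebra.ι Γ(S, U) Γ(E, U) '' (s : Set Γ(E, U)))
      have hmem : ∀ m, SymmetricAlgebra.ι Γ(S, U) Γ(E, U) m ∈ T := fun m => by
        have hle : Submodule.span Γ(S, U) (s : Set Γ(E, U)) ≤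
            (Subalgebra.toSubmodule T).comap (SymmetricAlgebra.ι Γ(S, U) Γ(E, U)) :=
          Submodule.span_le.2 fun a ha => Algebra.subset_adjoin ⟨a, ha, rfl⟩
        exact hle (hs ▸ Submodule.mem_top)
      let l : Γ(E, U) →ₗ[Γ(S, U)] T :=
        LinearMap.codRestrict (Subalgebra.toSubmodule T) (SymmetricAlgebra.ι Γ(S, U) Γ(E, U)) hmem
      have hF : T.val.comp (SymmetricAlgebra.lift l) = AlgHom.id _ _ := SymmetricAlgebra.algHom_ext
        (LinearMap.ext fun m => congrArg Subtype.val (SymmetricAlgebra.lift_ι_apply l m))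
      rw [← AlgHom.id_apply (R := Γ(S, U)) x, ← hF]
      exact (SymmetricAlgebra.lift l x).2
    have h1 : (algebraMap Γ(S, U) (Groth.L18.SymSheaf.Sym E U)).FiniteType :=
      RingHom.finiteType_algebraMap.2 hft
    have e : (A.str.app (op U)).hom = (Φ U hU).toRingHom.comp (algebraMap Γ(S, U) (Groth.L18.SymSheaf.Sym E U)) :=
      RingHom.ext fun r => (hΦ U hU r).symm
    rw [e]
    exact RingHom.finiteType_respectsIso.1 _ (Φ U hU) h1
  infer_instance
end Groth.Agent.S8267
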