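import Groth.Statements.S8268
import Groth.Agent.L18.SymGraded
import Groth.Agent.L16.AffineBC.Pullback
import Groth.Agent.L16.SymTop.Basic

set_option autoImplicit false
universe u
open CategoryTheory CategoryTheory.Limits AlgebraicGeometry Opposite TopologicalSpace
open EGA2

namespace Groth.Agent.S8268

/-- A surjective homomorphism E → F of quasi-coherent O_S-modules induces a closed immersion V(F) → V(E)
of the associated vector bundles (relative spectra of the symmetric algebras; the algebra map A → B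
is the one extending E → F). -/
theorem result {S : Scheme.{u}} (E F : S.Modules) (hE : Coh.IsQCoh E)
    (hF : Coh.IsQCoh F) (u : E ⟶ F) [Epi u]
    (A B : RelSpec.QCAlg S) (j : E ⟶ A.toModule) (k : F ⟶ B.toModule)
    (hA : RelSpec.IsSymAlg E A j) (hB : RelSpec.IsSymAlg F B k)
    (ψ : A ⟶ B) (hψ : j ≫ RelSpec.QCAlg.Hom.toModuleMap ψ = u ≫ k) :
    IsClosedImmersion (RelSpec.QCAlg.specMap ψ) := by
  haveI := hE
  haveI := hF
  obtain ⟨Φ, hΦ, hΦk, -⟩ := Groth.L18.SymSheaf.exists_equiv hB
  refine (IsZariskiLocalAtTarget.iff_of_openCover (P := @IsClosedImmersion) (f := RelSpec.QCAlg.specMap ψ)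
    A.glueData.cover).2 ?_
  rintro ⟨U, hU⟩
  show IsClosedImmersion (pullback.snd (RelSpec.QCAlg.specMap ψ) (A.ι U hU))
  have hpb : IsPullback (Spec.map (ψ.hom.app (op U))) (B.ι U hU) (A.ι U hU) (RelSpec.QCAlg.specMap ψ) :=
    IsOpenImmersion.isPullback _ _ _ _ (RelSpec.QCAlg.ι_specMap U hU ψ) (by
      rw [← RelSpec.QCAlg.π_preimage, ← RelSpec.QCAlg.π_preimage, ← Scheme.Hom.comp_preimage,
        RelSpec.QCAlg.specMap_π])
  rw [← hpb.flip.isoPullback_inv_snd, MorphismProperty.cancel_left_of_respectsIso (P := @IsClosedImmersion)]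
  refine IsClosedImmersion.spec_of_surjective _ fun y => ?_
  let ψU : A.presheaf.obj (op U) →+* B.presheaf.obj (op U) := (ψ.hom.app (op U)).hom
  let T : Subalgebra Γ(S, U) (Groth.L18.SymSheaf.Sym F U) :=
    { toSubsemiring := ψU.rangeS.comap (Φ U hU).toRingHom
      algebraMap_mem' := fun r => ⟨(A.str.app (op U)).hom r, by
        show ψU _ = Φ U hU _
        rw [hΦ]
        exact ConcreteCategory.congr_hom (NatTrans.congr_app ψ.comm (op U)) r⟩ }
  have hT : T = ⊤ := Groth.L16.SymTop.eq_top_of_ι_mem fun m => by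
    obtain ⟨m', rfl⟩ := Groth.L16.AffineBC.surjective_app_of_epi u hU m
    refine ⟨j.app U m', ?_⟩
    show ψU _ = Φ U hU _
    rw [hΦk]
    exact congrArg (fun g : E ⟶ B.toModule => g.app U m') hψ
  obtain ⟨z, rfl⟩ := (Φ U hU).surjective y
  exact (show z ∈ T by rw [hT]; exact Algebra.mem_top)
end Groth.Agent.S8268
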