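import Groth.Agent.L18.RelSpecGlue
import Groth.Statements.S8281
-- import your own Groth.Agent.* helpers here

set_option autoImplicit false
universe u
open CategoryTheory CategoryTheory.Limits AlgebraicGeometry Opposite TopologicalSpace
open EGA2

namespace Groth.Agent.S8281

/-- Let q : S' → S be a morphism, B and B' quasi-coherent algebras over O_S and O_{S'}, and u : B →
q_*B' a q-morphism (compatible with the structure maps). Then u induces a unique morphism v =
Spec(u) : Spec(B') → Spec(B) which on the charts over affine opens U ⊆ S, U' ⊆ q⁻¹(U) is Spec of the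
ring map B(U) → B'(U') given by u and restriction; it lies over q. -/
theorem result {S S' : Scheme.{u}} (q : S' ⟶ S) (B : RelSpec.QCAlg S)
    (B' : RelSpec.QCAlg S') (u : B.presheaf ⟶ q.base _* B'.presheaf)
    (hu : B.str ≫ u = q.c ≫ (TopCat.Presheaf.pushforward CommRingCat.{u} q.base).map B'.str) :
    (∃! v : B'.spec ⟶ B.spec,
        ∀ (U : S.Opens) (hU : IsAffineOpen U) (U' : S'.Opens) (hU' : IsAffineOpen U') (hle : U' ≤ q ⁻¹ᵁ U),
          B'.ι U' hU' ≫ v =
            Spec.map ((u.app (op U) : B.presheaf.obj (op U) ⟶ B'.presheaf.obj (op (q ⁻¹ᵁ U))) ≫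
              B'.presheaf.map (homOfLE hle).op) ≫ B.ι U hU) ∧
      ∀ v : B'.spec ⟶ B.spec,
        (∀ (U : S.Opens) (hU : IsAffineOpen U) (U' : S'.Opens) (hU' : IsAffineOpen U') (hle : U' ≤ q ⁻¹ᵁ U),
          B'.ι U' hU' ≫ v =
            Spec.map ((u.app (op U) : B.presheaf.obj (op U) ⟶ B'.presheaf.obj (op (q ⁻¹ᵁ U))) ≫
              B'.presheaf.map (homOfLE hle).op) ≫ B.ι U hU) →
        v ≫ B.π = B'.π ≫ q := by
  have key : ∀ (p p' : Groth.L18.RSGlue.Pair q) (hU : p'.U ≤ p.U) (h' : p'.U' ≤ p.U'),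
      Spec.map (B'.presheaf.map (homOfLE h').op) ≫
        (Spec.map ((u.app (op p.U) : B.presheaf.obj (op p.U) ⟶ B'.presheaf.obj (op (q ⁻¹ᵁ p.U))) ≫
              B'.presheaf.map (homOfLE p.hle).op) ≫ B.ι p.U p.hU) =
      Spec.map ((u.app (op p'.U) : B.presheaf.obj (op p'.U) ⟶ B'.presheaf.obj (op (q ⁻¹ᵁ p'.U))) ≫
              B'.presheaf.map (homOfLE p'.hle).op) ≫ B.ι p'.U p'.hU := by
    intro p p' hU h'
    have nat : B.presheaf.map (homOfLE hU).op ≫ u.app (op p'.U) =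
        u.app (op p.U) ≫ B'.presheaf.map (homOfLE (q.preimage_mono hU)).op :=
      u.naturality (homOfLE hU).op
    rw [← Groth.L18.RSGlue.ι_res B p.hU p'.hU hU, ← Category.assoc, ← Category.assoc, ← Spec.map_comp,
      ← Spec.map_comp]
    congr 2
    rw [Category.assoc, Groth.L18.RSGlue.map_map, reassoc_of% nat]
    exact congrArg (u.app (op p.U) ≫ ·) (Groth.L18.RSGlue.map_map B' _ _).symm
  obtain ⟨v, hv, huniq⟩ := Groth.L18.RSGlue.existsUnique_hom q B' _ key
  refine ⟨⟨v, fun U hU U' hU' hle => hv ⟨U, hU, U', hU', hle⟩,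
    fun w hw => huniq w fun p => hw p.U p.hU p.U' p.hU' p.hle⟩, fun w hw => ?_⟩
  refine (Groth.L18.RSGlue.pairCover q B').hom_ext _ _ fun p => ?_
  show B'.ι p.U' p.hU' ≫ w ≫ B.π = B'.ι p.U' p.hU' ≫ B'.π ≫ q
  rw [← Category.assoc, hw p.U p.hU p.U' p.hU' p.hle, Category.assoc, B.ι_π, ← Category.assoc, ← Spec.map_comp]
  refine Eq.trans ?_ ((congrArg (· ≫ q) (B'.ι_π p.U' p.hU')).symm.trans (Category.assoc _ _ _))
  refine Eq.trans ?_ (Category.assoc _ _ _).symm
  rw [← p.hU.SpecMap_appLE_fromSpec q p.hU' p.hle]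
  refine Eq.trans ?_ (Category.assoc _ _ _)
  rw [← Spec.map_comp]
  congr 2
  have h1 : B.str.app (op p.U) ≫ (u.app (op p.U) : B.presheaf.obj (op p.U) ⟶ B'.presheaf.obj (op (q ⁻¹ᵁ p.U))) =
      q.app p.U ≫ B'.str.app (op (q ⁻¹ᵁ p.U)) := NatTrans.congr_app hu (op p.U)
  rw [reassoc_of% h1, Scheme.Hom.appLE, Category.assoc]
  exact congrArg (q.app p.U ≫ ·) (B'.str.naturality (homOfLE p.hle).op).symm

end Groth.Agent.S8281
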