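import Groth.Agent.L18.RelTilde.GlobalFrame
import Groth.Statements.S8290
-- import your own Groth.Agent.* helpers here

set_option autoImplicit false
universe u
open CategoryTheory CategoryTheory.Limits AlgebraicGeometry Opposite TopologicalSpace
open scoped HomogeneousIdeal
noncomputable section
open EGA2

namespace Groth.Agent.S8290

/-- Let 𝒮 be a quasi-coherent positively graded O_Y-algebra, X = Proj(𝒮), and U a quasi-compact open
subset of X. There is an integer d > 0 such that for every n divisible by d the twisting sheaf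
O_X(n) restricted to U is invertible. (The published statement adds that its inverse is O_X(-n)|U.) -/
theorem result {Y X : Scheme.{u}} (𝒮 : RelProj.QCGrAlg Y) (q : X ⟶ Y)
    (chart : ∀ (U : Y.Opens) (hU : IsAffineOpen U), (((q ⁻¹ᵁ U : X.Opens) : Scheme.{u}) ≅ Proj (𝒮.deg U hU)))
    (hX : RelProj.IsRelProj 𝒮 q chart) (U : X.Opens) (hU : IsCompact (U : Set X)) :
    ∃ d : ℕ, 0 < d ∧ ∀ (n : ℤ), (d : ℤ) ∣ n →
      ∀ (L : X.Modules)
        (lam : ∀ (V : Y.Opens) (hV : IsAffineOpen V),
          L ⟶ (Scheme.Modules.pushforward (RelProj.emb q chart V hV)).obj (GrTwist.twist (𝒮.deg V hV) n)),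
        RelProj.IsRelTwist 𝒮 q chart n L lam → PicF.IsInvertible (L.restrict U.ι) := by
  obtain ⟨d, hd, h⟩ := Groth.L18.RelTilde.exists_period (𝒮 := 𝒮) q (chart := chart) hU
  refine ⟨d, hd, fun n hn L lam hL => Groth.L18.RelTilde.isInvertible_restrict_of_frames fun x hx => ?_⟩
  obtain ⟨V, hV, d', f, hf, hd', hxf⟩ := h x hx
  obtain ⟨e, he⟩ := Groth.L18.RelTilde.exists_frame_of_dvd hL hV hf ((Int.natCast_dvd_natCast.2 hd').trans hn)
  exact ⟨_, e, hxf, he⟩

end Groth.Agent.S8290
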