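import Groth.Statements.S8304
import Groth.Agent.L16.SymBiprod.Basic
import Groth.Agent.L18.SymSheaf

set_option autoImplicit false
universe u
open CategoryTheory CategoryTheory.Limits AlgebraicGeometry Opposite TopologicalSpace
open scoped HomogeneousIdeal
noncomputable section
open EGA2

namespace Groth.Agent.S8304

/-- At the level of graded algebras: let E be a quasi-coherent O_Y-module and 𝒮 = Sym(E) its graded
symmetric algebra (j : E → 𝒮 landing in degree one), and let Ŝ = 𝒮[z] be given through a graded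
homomorphism ι : 𝒮 → Ŝ and a global section z of degree one with 𝒮(U)[X] → Ŝ(U), X ↦ z, bijective
over every affine open U. If k : O_Y → Ŝ is a module homomorphism sending the unit section to z over
every open, then Ŝ together with the map E ⊕ O_Y → Ŝ whose components are j followed by ι, and k, is
the graded symmetric algebra of E ⊕ O_Y. Consequently the projective cone of V(E) = Spec(Sym E),
which is Proj(Ŝ), is the projective bundle P(E ⊕ O_Y), and its locus at infinity Proj(𝒮) is P(E). -/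
theorem result {Y : Scheme.{u}} (E : Y.Modules) (hE : Coh.IsQCoh E)
    (𝒮 𝒮h : RelProj.QCGrAlg Y) (j : E ⟶ 𝒮.toModule) (hS : RelProj.IsGrSymAlg E 𝒮 j)
    (ι : 𝒮.toQCAlg ⟶ 𝒮h.toQCAlg) (z : 𝒮h.presheaf.obj (op ⊤)) (hz : RelCone.IsPolyOver 𝒮 𝒮h ι z)
    (k : Coh.structureModule Y ⟶ 𝒮h.toModule)
    (hk : ∀ U : Y.Opens, (k.app U) (1 : Γ(Y, U)) = RelCone.restrictTop 𝒮h z U) :
    RelProj.IsGrSymAlg (E ⊞ Coh.structureModule Y) 𝒮h
      (biprod.desc (j ≫ RelSpec.QCAlg.Hom.toModuleMap ι) k) := by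
  classical
  let J : E ⟶ 𝒮h.toModule := j ≫ RelSpec.QCAlg.Hom.toModuleMap ι
  let z' : ∀ U : Y.Opens, 𝒮h.presheaf.obj (op U) := fun U => RelCone.restrictTop 𝒮h z U
  have hkr : ∀ (U : Y.Opens) (r : Γ(Y, U)), (k.app U) r = (𝒮h.str.app (op U)).hom r * z' U := fun U r => by
    have h1 := Scheme.Modules.Hom.app_smul k (U := U) r (1 : Γ(Y, U))
    rw [Groth.L18.SymSheaf.smul_toModule, hk U] at h1
    exact (congrArg (k.app U) (mul_one r).symm).trans h1
  refine ⟨fun B φ => ?_, fun U hU x => ?_⟩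
  swap
  · rw [← Groth.L16.SymBiprod.biprod_app_total U x, map_add]
    refine add_mem ?_ ?_
    · refine (congrArg (fun g : E ⟶ 𝒮h.toModule => g.app U _) (biprod.inl_desc J k)).symm ▸ ?_
      exact hz.graded U hU 1 _ (hS.2 U hU _)
    · refine (congrArg (fun g : Coh.structureModule Y ⟶ 𝒮h.toModule => g.app U _) (biprod.inr_desc J k)).symm ▸ ?_
      rw [hkr U]
      have h := SetLike.mul_mem_graded (A := 𝒮h.deg U hU) (𝒮h.str_mem U hU ((biprod.snd : E ⊞ Coh.structureModule Y ⟶ _).app U x)) (hz.deg_z U hU)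
      rw [zero_add] at h
      exact h
  obtain ⟨ψ₀, hψ₀, huniq⟩ := hS.1 B (biprod.inl ≫ φ)
  let φ₁ : Coh.structureModule Y ⟶ B.toModule := biprod.inr ≫ φ
  let b : ∀ U : Y.Opens, B.presheaf.obj (op U) := fun U => φ₁.app U (1 : Γ(Y, U))
  have hb : ∀ {U V : Y.Opens} (h : V ≤ U), (B.presheaf.map (homOfLE h).op).hom (b U) = b V := fun {U V} h => by
    refine (ConcreteCategory.congr_hom (φ₁.mapPresheaf.naturality (homOfLE h).op) (1 : Γ(Y, U))).symm.trans ?_
    exact congrArg (φ₁.app V) (map_one (Y.presheaf.map (homOfLE h).op).hom)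
  have hφ₁ : ∀ (U : Y.Opens) (r : Γ(Y, U)), φ₁.app U r = (B.str.app (op U)).hom r * b U := fun U r => by
    have h1 := Scheme.Modules.Hom.app_smul φ₁ (U := U) r (1 : Γ(Y, U))
    rw [Groth.L18.SymSheaf.smul_toModule] at h1
    exact (congrArg (φ₁.app U) (mul_one r).symm).trans h1
  let L : ∀ U : Y.Opens, IsAffineOpen U → (𝒮h.presheaf.obj (op U) →+* B.presheaf.obj (op U)) := fun U hU =>
    (Polynomial.eval₂RingHom (ψ₀.hom.app (op U)).hom (b U)).comp (hz.polyEquiv U hU).symm.toRingHom
  have hC : ∀ U hU s, (hz.polyEquiv U hU).symm ((ι.hom.app (op U)).hom s) = Polynomial.C s := fun U hU s => by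
    rw [RingEquiv.symm_apply_eq, RelCone.IsPolyOver.polyEquiv_apply, Polynomial.eval₂_C]
  have hX : ∀ U hU, (hz.polyEquiv U hU).symm (z' U) = Polynomial.X := fun U hU => by
    rw [RingEquiv.symm_apply_eq, RelCone.IsPolyOver.polyEquiv_apply, Polynomial.eval₂_X]
  have Lι : ∀ U hU s, L U hU ((ι.hom.app (op U)).hom s) = (ψ₀.hom.app (op U)).hom s := fun U hU s => by
    show Polynomial.eval₂ _ _ ((hz.polyEquiv U hU).symm _) = _
    rw [hC, Polynomial.eval₂_C]
  have Lz : ∀ U hU, L U hU (z' U) = b U := fun U hU => by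
    show Polynomial.eval₂ _ _ ((hz.polyEquiv U hU).symm _) = _
    rw [hX, Polynomial.eval₂_X]
  have hext : ∀ (U : Y.Opens) (hU : IsAffineOpen U) {T : CommRingCat.{u}} (α β : 𝒮h.presheaf.obj (op U) →+* T),
      (∀ s, α ((ι.hom.app (op U)).hom s) = β ((ι.hom.app (op U)).hom s)) → α (z' U) = β (z' U) → α = β := by
    intro U hU T α β h1 h2
    refine RingHom.ext fun a => ?_
    obtain ⟨q, rfl⟩ := (hz.polyEquiv U hU).surjective a
    refine RingHom.congr_fun (Polynomial.ringHom_ext (f := α.comp (hz.polyEquiv U hU).toRingHom)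
      (g := β.comp (hz.polyEquiv U hU).toRingHom) (fun s => ?_) ?_) q
    · show α (hz.polyEquiv U hU _) = β (hz.polyEquiv U hU _)
      rw [RelCone.IsPolyOver.polyEquiv_apply, Polynomial.eval₂_C]
      exact h1 s
    · show α (hz.polyEquiv U hU _) = β (hz.polyEquiv U hU _)
      rw [RelCone.IsPolyOver.polyEquiv_apply, Polynomial.eval₂_X]
      exact h2
  obtain ⟨ψ, hψ⟩ := Groth.L18.SymSheaf.exists_algHom (A := 𝒮h.toQCAlg) (B := B)
    (fun U hU => CommRingCat.ofHom (L U hU))
    (fun U V hU hV h => CommRingCat.hom_ext (hext U hU _ _ (fun s => by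
        show L V hV ((𝒮h.presheaf.map (homOfLE h).op).hom ((ι.hom.app (op U)).hom s)) =
          (B.presheaf.map (homOfLE h).op).hom (L U hU ((ι.hom.app (op U)).hom s))
        rw [Lι]
        refine Eq.trans ?_ (ConcreteCategory.congr_hom (ψ₀.hom.naturality (homOfLE h).op) s)
        refine Eq.trans ?_ (Lι V hV _)
        exact congrArg (L V hV) (ConcreteCategory.congr_hom (ι.hom.naturality (homOfLE h).op) s).symm) (by
        show L V hV ((𝒮h.presheaf.map (homOfLE h).op).hom (z' U)) =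
          (B.presheaf.map (homOfLE h).op).hom (L U hU (z' U))
        rw [Lz, hb h]
        refine Eq.trans (congrArg (L V hV) ?_) (Lz V hV)
        show _ = RelCone.restrictTop 𝒮h z V
        rw [← CategoryTheory.comp_apply, ← Functor.map_comp]
        rfl)))
    (fun U hU => CommRingCat.hom_ext (RingHom.ext fun r => by
      show L U hU ((𝒮h.str.app (op U)).hom r) = (B.str.app (op U)).hom r
      rw [← ConcreteCategory.congr_hom (NatTrans.congr_app ψ₀.comm (op U)) r]
      refine Eq.trans ?_ (Lι U hU _)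
      exact congrArg (L U hU) (ConcreteCategory.congr_hom (NatTrans.congr_app ι.comm (op U)) r).symm))
  refine ⟨ψ, biprod.hom_ext' _ _ ?_ ?_, fun ψ' hψ' => ?_⟩
  · rw [biprod.inl_desc_assoc]
    refine Groth.L16.AffineBC.hom_ext_affine _ _ fun U hU m => ?_
    show (ψ.hom.app (op U)).hom ((ι.hom.app (op U)).hom (j.app U m)) = _
    rw [hψ U hU]
    exact (Lι U hU _).trans (congrArg (fun g : E ⟶ B.toModule => g.app U m) hψ₀)
  · rw [biprod.inr_desc_assoc]
    refine Groth.L16.AffineBC.hom_ext_affine _ _ fun U hU m => ?_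
    show (ψ.hom.app (op U)).hom (k.app U m) = φ₁.app U m
    rw [hkr U m, hφ₁ U m, hψ U hU]
    show L U hU (_ * _) = _
    rw [map_mul, Lz]
    refine congrArg (· * b U) ?_
    rw [← ConcreteCategory.congr_hom (NatTrans.congr_app ψ₀.comm (op U)) m]
    refine Eq.trans ?_ (Lι U hU _)
    exact congrArg (L U hU) (ConcreteCategory.congr_hom (NatTrans.congr_app ι.comm (op U)) m).symm
  · have hιψ : ι ≫ ψ' = ψ₀ := huniq _ (by
      rw [← hψ', biprod.inl_desc_assoc]
      rfl)
    refine Groth.L18.SymSheaf.algHom_ext _ _ fun U hU => ?_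
    rw [hψ U hU]
    refine CommRingCat.hom_ext (hext U hU _ _ (fun s => ?_) ?_)
    · show _ = L U hU _
      rw [Lι, ← hιψ]
      rfl
    · show _ = L U hU _
      rw [Lz]
      refine (congrArg (ψ'.hom.app (op U)).hom (hk U).symm).trans ?_
      show _ = φ₁.app U _
      have h3 : k ≫ RelSpec.QCAlg.Hom.toModuleMap ψ' = φ₁ := by
        show _ = biprod.inr ≫ φ
        rw [← hψ', biprod.inr_desc_assoc]
      exact congrArg (fun g : Coh.structureModule Y ⟶ B.toModule => g.app U (1 : Γ(Y, U))) h3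
end Groth.Agent.S8304
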