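import Groth.Statements.S8307
import Groth.Agent.L18.ConeSymData
import Groth.Agent.L18.ComplBundle
import Groth.Agent.L18.RelProj.Exists
-- import your own Groth.Agent.* helpers here

set_option autoImplicit false
set_option backward.isDefEq.respectTransparency.types false
set_option backward.isDefEq.respectTransparency false
universe u
open CategoryTheory CategoryTheory.Limits AlgebraicGeometry Opposite TopologicalSpace
open scoped HomogeneousIdeal
noncomputable section
open EGA2

namespace Groth.Agent.S8307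

/-- The identification of the pointed projective cone of a line bundle: let L be an invertible
O_Y-module and L' an inverse of L (invertible, with L ⊗ L' isomorphic to O_Y); let 𝒮 = Sym(L) be the
graded symmetric algebra of L, C = V(L) = Spec(𝒮) the line bundle, Ŝ = 𝒮[z] (given through a graded
homomorphism ι : 𝒮 → Ŝ and a global section z of degree one, polynomial over every affine open), Ĉ =
Proj(Ŝ) the projective closure of V(L) with its charts, and Ê ⊆ Ĉ its pointed projective cone (the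
union of the chart images of the opens where the morphism induced by ι(U) is defined); let 𝒮' =
Sym(L') and V(L') = Spec(𝒮'). Then V(L') and Ê are isomorphic as schemes over Y: there is an
isomorphism V(L') ≅ Ê whose composite with the inclusion of Ê and the projection Ĉ → Y is the
structure morphism of V(L') (existence of an isomorphism; the published isomorphism is a canonical
one). -/
theorem result {Y PC : Scheme.{u}} (L L' : Y.Modules)
    (hL : PicF.IsInvertible L) (hL' : PicF.IsInvertible L') (hLq : Coh.IsQCoh L) (hL'q : Coh.IsQCoh L')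
    (hLL' : Nonempty (CohB1.tensorMod L L' ≅ Coh.structureModule Y))
    (𝒮 𝒮h : RelProj.QCGrAlg Y) (j : L ⟶ 𝒮.toModule) (hS : RelProj.IsGrSymAlg L 𝒮 j) (h0 : RelCone.StrZeroBij 𝒮)
    (ι : 𝒮.toQCAlg ⟶ 𝒮h.toQCAlg) (z : 𝒮h.presheaf.obj (op ⊤)) (hz : RelCone.IsPolyOver 𝒮 𝒮h ι z)
    (pC : PC ⟶ Y)
    (chartC : ∀ (U : Y.Opens) (hU : IsAffineOpen U), (((pC ⁻¹ᵁ U : PC.Opens) : Scheme.{u}) ≅ Proj (𝒮h.deg U hU)))
    (hPC : RelProj.IsRelProj 𝒮h pC chartC)
    (𝒮' : RelSpec.QCAlg Y) (j' : L' ⟶ 𝒮'.toModule) (hS' : RelSpec.IsSymAlg L' 𝒮' j') :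
    ∃ e : 𝒮'.spec ≅ ((RelCone.pointedProjCone 𝒮 hz pC chartC : PC.Opens) : Scheme.{u}),
      e.hom ≫ (RelCone.pointedProjCone 𝒮 hz pC chartC).ι ≫ pC = 𝒮'.π := by
  haveI := hLq
  haveI := hL'q
  haveI : Coh.IsQCoh (Coh.structureModule Y) :=
    Groth.L21.Extend.isQCoh_of_isInvertible (Groth.L18.GenLoc.isInvertible_of_frames
      fun _ => ⟨⊤, _, trivial, Groth.L19.ProjBdl.isFrame_one1 ⊤⟩)
  haveI : Coh.IsQCoh (L' ⊞ Coh.structureModule Y) := Groth.L17.QCohExtension.isQCoh_extension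
    (ShortComplex.mk biprod.inl biprod.snd (by simp))
    (ShortComplex.Splitting.shortExact
      { r := biprod.fst, s := biprod.inr, f_r := biprod.inl_fst, s_g := biprod.inr_snd, id := biprod.total })
    hL'q inferInstance
  obtain ⟨θ₀⟩ := hLL'
  obtain ⟨aug, haug⟩ := Groth.L18.ConeSymData.exists_aug hS
  obtain ⟨ε, hε, -⟩ := Groth.L18.Cone.existsUnique_isVertex 𝒮 aug
  obtain ⟨i, hi, -⟩ := Groth.L18.PConeImm.existsUnique (Groth.L18.PConeImm.data_of_polyOver hz) hPC
  have hT := Groth.L18.SymSheaf.isGrSymAlg L'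
  obtain ⟨aug', haug'⟩ := Groth.L18.ConeSymData.exists_aug hT
  obtain ⟨ε', hε', -⟩ := Groth.L18.Cone.existsUnique_isVertex (Groth.L18.SymSheaf.symGr L') aug'
  obtain ⟨ι', z', hz'⟩ := Groth.L18.ConeSymData.exists_isPolyOver hT
  obtain ⟨PC', pC', chartC', hPC'⟩ := Groth.L18.RP.exists_isRelProj
    (Groth.L18.SymSheaf.symGr (L' ⊞ Coh.structureModule Y))
  obtain ⟨i', hi', -⟩ := Groth.L18.PConeImm.existsUnique (Groth.L18.PConeImm.data_of_polyOver hz') hPC'
  obtain ⟨Φ, hΦ, h1, -⟩ := Groth.L18.ConeExchange.exists_exchange (i := i) (i' := i') hL hL' hLq hL'q θ₀ hS h0 hz hPC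
    haug hε hi hT (Groth.L18.ConeSymData.strZeroBij hT) hz' hPC' haug' hε' hi'
  haveI := Groth.L18.PConeImm.isOpenImmersion (Groth.L18.PConeImm.data_of_polyOver hz') hPC' hi'
  obtain ⟨θ, hθ, -⟩ := hS' (Groth.L18.SymSheaf.symGr L').toQCAlg (Groth.L18.SymSheaf.j L')
  haveI : IsIso (RelSpec.QCAlg.specMap θ) := by
    obtain ⟨Φ', h0', h1', -⟩ := Groth.L18.SymSheaf.exists_equiv hS'
    refine Groth.L18.ComplBundle.isIso_specMap θ (fun U : Y.affineOpens => U.1) (fun U => U.2) (fun x => ?_)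
      fun U => ?_
    · obtain ⟨U, hU, hxU, -⟩ := exists_isAffineOpen_mem_and_subset (x := x) (U := ⊤) trivial
      exact ⟨⟨U, hU⟩, hxU⟩
    · have e : ((θ.hom.app (op U.1)).hom).comp (Φ' U.1 U.2).toRingHom =
          (Groth.L18.SymSheaf.secEquiv L' U.1 U.2).symm.toRingHom := Groth.L18.SymRing.ringHom_ext (fun r => by
          show (θ.hom.app (op U.1)).hom (Φ' U.1 U.2 _) = (Groth.L18.SymSheaf.secEquiv L' U.1 U.2).symm _
          rw [h0']
          refine (RingEquiv.eq_symm_apply _).2 (Eq.trans ?_ (Groth.L18.SymSheaf.secEquiv_str L' U.1 U.2 r))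
          exact congrArg _ (ConcreteCategory.congr_hom (NatTrans.congr_app θ.comm (op U.1)) r)) fun m => by
          show (θ.hom.app (op U.1)).hom (Φ' U.1 U.2 _) = (Groth.L18.SymSheaf.secEquiv L' U.1 U.2).symm _
          rw [h1']
          refine (RingEquiv.eq_symm_apply _).2 (Eq.trans ?_ (Groth.L18.SymSheaf.secEquiv_j L' U.1 U.2 m))
          exact congrArg _ (congr($(hθ).app U.1 m))
      have hb : Function.Bijective ((θ.hom.app (op U.1)).hom ∘ Φ' U.1 U.2) := by
        rw [show ((θ.hom.app (op U.1)).hom ∘ Φ' U.1 U.2) = (Groth.L18.SymSheaf.secEquiv L' U.1 U.2).symm from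
          funext fun x => RingHom.congr_fun e x]
        exact (Groth.L18.SymSheaf.secEquiv L' U.1 U.2).symm.bijective
      exact (Function.Bijective.of_comp_iff _ (Φ' U.1 U.2).bijective).1 hb
  let g : 𝒮'.spec ⟶ PC := inv (RelSpec.QCAlg.specMap θ) ≫ i' ≫ Φ.inv
  have hrange : Set.range g.base = Set.range (RelCone.pointedProjCone 𝒮 hz pC chartC).ι.base := by
    rw [Scheme.Opens.range_ι, Groth.L18.PConeImm.pointedProjCone_eq_compl hz hPC hi h0 haug hε]
    ext x
    rw [Set.mem_compl_iff]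
    have hx : x = Φ.inv.base (Φ.hom.base x) := by rw [← Scheme.Hom.comp_apply, Iso.hom_inv_id]; rfl
    constructor
    · rintro ⟨t, rfl⟩ hmem
      have hm : Φ.hom.base (g.base t) ∈ (Set.range i'.base)ᶜ := h1 ▸ ⟨_, hmem, rfl⟩
      refine hm ⟨(inv (RelSpec.QCAlg.specMap θ)).base t, ?_⟩
      rw [← Scheme.Hom.comp_apply, ← Scheme.Hom.comp_apply]
      congr 2
      simp [g]
    · intro hxn
      have hm : Φ.hom.base x ∈ Set.range i'.base := by
        by_contra hc
        obtain ⟨t, ht, htx⟩ : Φ.hom.base x ∈ Φ.hom.base '' Set.range (ε ≫ i).base := h1.symm ▸ hc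
        exact hxn (Φ.hom.isOpenEmbedding.injective htx ▸ ht)
      obtain ⟨s, hs⟩ := hm
      refine ⟨(RelSpec.QCAlg.specMap θ).base s, ?_⟩
      conv_rhs => rw [hx, ← hs]
      rw [← Scheme.Hom.comp_apply, ← Scheme.Hom.comp_apply]
      congr 2
      simp [g]
  refine ⟨IsOpenImmersion.isoOfRangeEq g (RelCone.pointedProjCone 𝒮 hz pC chartC).ι hrange, ?_⟩
  rw [IsOpenImmersion.isoOfRangeEq_hom_fac_assoc]
  simp only [g, Category.assoc]
  rw [← hΦ, Iso.inv_hom_id_assoc, Groth.L18.PConeImm.comp_base (Groth.L18.PConeImm.data_of_polyOver hz') hPC' hi',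
    IsIso.inv_comp_eq, RelSpec.QCAlg.specMap_π]

end Groth.Agent.S8307
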