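import Groth.Statements.S8310
import Mathlib.RingTheory.GradedAlgebra.Basic
import Mathlib.RingTheory.Nilpotent.Basic

set_option autoImplicit false
universe u
open CategoryTheory AlgebraicGeometry
open scoped HomogeneousIdeal
open EGA2

namespace Groth.Agent.S8310

/-- Let S be a positively graded ring (an ℕ-graded R-algebra), S♮ the graded ring with S♮_n = S_[n] =
⊕_{m ≥ n} S_m (presented as a graded ring S' with an injective algebra homomorphism φ : S' → S[X]
carrying S'_n onto S_[n]·X^n), and T = S♮ ⊗_S S_0 = ⊕_n S_[n]/S_+S_[n] (presented as a graded ring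
with a surjective graded homomorphism π : S' → T whose kernel is the ideal generated by the elements
of S' corresponding to the constants in S_+); let ρ : T → S be the surjective graded homomorphism
sending the class of a ∈ S_[n] (in degree n) to the degree-n component of a, and Proj S → Proj T the
morphism it induces (a closed immersion, ρ being surjective). Then this morphism Proj S → Proj T is
bijective. -/
theorem result {R A B C : Type u} [CommRing R] [CommRing A] [Algebra R A]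
    (𝒜 : ℕ → Submodule R A) [GradedAlgebra 𝒜] [CommRing B] [Algebra R B] (ℬ : ℕ → Submodule R B) [GradedAlgebra ℬ]
    (φ : B →ₐ[R] Polynomial A) (hφ : Function.Injective φ)
    (hdeg : ∀ n : ℕ, Submodule.map φ.toLinearMap (ℬ n) =
      Submodule.map ((Polynomial.monomial n : A →ₗ[A] Polynomial A).restrictScalars R) (⨆ (m : ℕ) (_ : n ≤ m), 𝒜 m))
    [CommRing C] [Algebra R C] (𝒞 : ℕ → Submodule R C) [GradedAlgebra 𝒞]
    (π : ℬ →+*ᵍ 𝒞) (hπ : Function.Surjective π)
    (hker : RingHom.ker π.toRingHom =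
      Ideal.span (⇑φ ⁻¹' (⇑(Polynomial.C : A →+* Polynomial A) '' ((HomogeneousIdeal.irrelevant 𝒜).toIdeal : Set A))))
    (ρ : 𝒞 →+*ᵍ 𝒜) (hρ : ∀ (n : ℕ) (b : B), b ∈ ℬ n → ρ (π b) = GradedRing.proj 𝒜 n ((φ b).coeff n))
    (hirr : HomogeneousIdeal.irrelevant 𝒜 ≤ (HomogeneousIdeal.irrelevant 𝒞).map ρ) :
    Function.Bijective (Proj.map ρ hirr).base := by
  classical
  let L : ℕ → Submodule R A := fun n => ⨆ (m : ℕ) (_ : n ≤ m), 𝒜 m
  have hLmul : ∀ p q, L p * L q ≤ L (p + q) := fun p q => by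
    simp only [L, Submodule.iSup_mul, Submodule.mul_iSup, iSup_le_iff]
    refine fun m hm m' hm' => le_trans (Submodule.mul_le.2 fun x hx y hy => SetLike.mul_mem_graded hx hy) ?_
    exact le_iSup₂_of_le (f := fun (k : ℕ) (_ : p + q ≤ k) => 𝒜 k) (m' + m) (by omega) le_rfl
  have hLpow : ∀ p k a, a ∈ L p → a ^ k ∈ L (k * p) := fun p k a ha => by
    induction k with
    | zero => rw [pow_zero, zero_mul]; exact le_iSup₂_of_le (f := fun (m : ℕ) (_ : 0 ≤ m) => 𝒜 m) 0 le_rfl le_rfl (SetLike.one_mem_graded 𝒜)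
    | succ k ih => rw [pow_succ, Nat.succ_mul]; exact hLmul _ _ (Submodule.mul_mem_mul ih ha)
  have hLanti : ∀ p q, p ≤ q → L q ≤ L p := fun p q h => iSup₂_le fun m hm =>
    le_iSup₂_of_le (f := fun (k : ℕ) (_ : p ≤ k) => 𝒜 k) m (h.trans hm) le_rfl
  have hirrL : ∀ a ∈ L 1, a ∈ (HomogeneousIdeal.irrelevant 𝒜).toIdeal := fun a ha => by
    have h1 : L 1 ≤ ((HomogeneousIdeal.irrelevant 𝒜).toIdeal).restrictScalars R :=
      iSup₂_le fun m hm x hx => (HomogeneousIdeal.mem_irrelevant_iff 𝒜 x).2 (by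
        rw [GradedRing.proj_apply, DirectSum.decompose_of_mem_ne 𝒜 hx (by omega)])
    exact h1 ha
  have hb : ∀ n a, a ∈ L n → ∃ b ∈ ℬ n, φ b = Polynomial.monomial n a := fun n a ha => by
    have : Polynomial.monomial n a ∈ Submodule.map φ.toLinearMap (ℬ n) := by
      rw [hdeg n]
      exact Submodule.mem_map_of_mem (f := (Polynomial.monomial n : A →ₗ[A] Polynomial A).restrictScalars R) ha
    obtain ⟨b, hb, hbe⟩ := Submodule.mem_map.1 this
    exact ⟨b, hb, hbe⟩
  have hL : ∀ n b, b ∈ ℬ n → ∃ a ∈ L n, φ b = Polynomial.monomial n a := fun n b h => by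
    have : φ b ∈ Submodule.map φ.toLinearMap (ℬ n) := Submodule.mem_map_of_mem h
    rw [hdeg n] at this
    obtain ⟨a, ha, hae⟩ := Submodule.mem_map.1 this
    exact ⟨a, ha, hae.symm⟩
  -- elements of the kernel of `ρ` are nilpotent
  have hnilh : ∀ n b, b ∈ ℬ n → ρ (π b) = 0 → IsNilpotent (π b) := by
    intro n b hbn h0
    obtain ⟨a, ha, hae⟩ := hL n b hbn
    have ha0 : GradedRing.proj 𝒜 n a = 0 := by
      rw [← h0, hρ n b hbn, hae, Polynomial.coeff_monomial_same]
    have ha1 : a ∈ L (n + 1) := by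
      have hle : L n ≤ 𝒜 n ⊔ L (n + 1) := iSup₂_le fun m hm => by
        rcases eq_or_lt_of_le hm with rfl | hlt
        · exact le_sup_left
        · exact le_sup_of_le_right (le_iSup₂_of_le (f := fun (k : ℕ) (_ : n + 1 ≤ k) => 𝒜 k) m hlt le_rfl)
      obtain ⟨y, hy, z, hz, rfl⟩ := Submodule.mem_sup.1 (hle ha)
      have hz0 : GradedRing.proj 𝒜 n z = 0 := by
        have hk : L (n + 1) ≤ LinearMap.ker (GradedAlgebra.proj 𝒜 n) := iSup₂_le fun m hm x hx => by
          rw [LinearMap.mem_ker, GradedAlgebra.proj_apply, DirectSum.decompose_of_mem_ne 𝒜 hx (by omega)]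
        exact hk hz
      rw [map_add, hz0, add_zero, GradedRing.proj_apply, DirectSum.decompose_of_mem_same 𝒜 hy] at ha0
      rw [ha0, zero_add]
      exact hz
    have hn : a ^ n ∈ L (n * (n + 1)) := hLpow _ n a ha1
    obtain ⟨b', -, hb'⟩ := hb (n * (n + 1)) (a ^ n) hn
    obtain ⟨b₀, -, hb₀⟩ := hb 0 a (hLanti 0 (n + 1) (Nat.zero_le _) ha1)
    have hpow : b ^ (n + 1) = b₀ * b' := hφ (by
      rw [map_pow, map_mul, hae, hb₀, hb', Polynomial.monomial_pow, Polynomial.monomial_mul_monomial,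
        zero_add, ← pow_succ'])
    refine ⟨n + 1, ?_⟩
    rw [← map_pow, hpow, map_mul]
    have hk : b₀ ∈ RingHom.ker π.toRingHom := by
      rw [hker]
      refine Ideal.subset_span ⟨a, hirrL a (hLanti 1 (n + 1) (by omega) ha1), ?_⟩
      rw [hb₀]
      rfl
    have hk0 : π b₀ = 0 := RingHom.mem_ker.1 hk
    rw [hk0, zero_mul]
  have hcomp : ∀ n (x : C), x ∈ 𝒞 n → ∃ b ∈ ℬ n, π b = x := by
    intro n x hx
    obtain ⟨b, rfl⟩ := hπ x
    refine ⟨DirectSum.decompose ℬ b n, SetLike.coe_mem _, ?_⟩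
    rw [π.map_directSumDecompose, DirectSum.decompose_of_mem_same 𝒞 hx]
  have hnil : ∀ x : C, ρ x = 0 → IsNilpotent x := by
    intro x hx
    rw [← DirectSum.sum_support_decompose 𝒞 x]
    refine isNilpotent_sum fun n _ => ?_
    obtain ⟨b, hbn, hbe⟩ := hcomp n (DirectSum.decompose 𝒞 x n) (SetLike.coe_mem _)
    rw [← hbe]
    refine hnilh n b hbn ?_
    rw [hbe, ρ.map_directSumDecompose, hx, DirectSum.decompose_zero]
    rfl
  have hρs : Function.Surjective ρ := by
    intro a
    rw [← DirectSum.sum_support_decompose 𝒜 a]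
    suffices h : ∀ i, ∃ c, ρ c = (DirectSum.decompose 𝒜 a i : A) by
      choose c hc using h
      exact ⟨∑ i ∈ (DirectSum.decompose 𝒜 a).support, c i, by simp only [map_sum, hc]⟩
    intro n
    obtain ⟨b, hbn, hbe⟩ := hb n (DirectSum.decompose 𝒜 a n : A)
      (le_iSup₂_of_le (f := fun (k : ℕ) (_ : n ≤ k) => 𝒜 k) n le_rfl le_rfl (SetLike.coe_mem _))
    refine ⟨π b, ?_⟩
    rw [hρ n b hbn, hbe, Polynomial.coeff_monomial_same, GradedRing.proj_apply,
      DirectSum.decompose_of_mem_same 𝒜 (SetLike.coe_mem _)]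
  refine ⟨fun P Q h => ?_, fun P => ?_⟩
  · apply ProjectiveSpectrum.ext
    have h' : P.asHomogeneousIdeal.comap ρ = Q.asHomogeneousIdeal.comap ρ :=
      congrArg ProjectiveSpectrum.asHomogeneousIdeal h
    have h'' := congrArg HomogeneousIdeal.toIdeal h'
    rw [HomogeneousIdeal.toIdeal_comap, HomogeneousIdeal.toIdeal_comap] at h''
    exact HomogeneousIdeal.toIdeal_injective (Ideal.comap_injective_of_surjective _ hρs h'')
  · have hk : RingHom.ker ρ ≤ P.asHomogeneousIdeal.toIdeal := fun x hx =>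
      (hnil x (RingHom.mem_ker.1 hx)).elim fun k hk => P.isPrime.mem_of_pow_mem k (by rw [hk]; exact zero_mem _)
    have hcm : (P.asHomogeneousIdeal.toIdeal.map ρ).comap ρ = P.asHomogeneousIdeal.toIdeal := by
      rw [Ideal.comap_map_of_surjective _ hρs, sup_eq_left]
      exact hk
    haveI := P.isPrime
    refine ⟨⟨P.asHomogeneousIdeal.map ρ, Ideal.map_isPrime_of_surjective hρs hk, fun hle => P.not_irrelevant_le ?_⟩, ?_⟩
    · refine (HomogeneousIdeal.irrelevant_le _).2 fun i hi x hx => ?_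
      show x ∈ P.asHomogeneousIdeal.toIdeal
      rw [← hcm, Ideal.mem_comap]
      refine hle ((HomogeneousIdeal.mem_irrelevant_iff 𝒜 _).2 ?_)
      rw [GradedRing.proj_apply, ← ρ.map_directSumDecompose, DirectSum.decompose_of_mem_ne 𝒞 hx (by omega),
        map_zero]
    · apply ProjectiveSpectrum.ext
      exact HomogeneousIdeal.toIdeal_injective hcm

end Groth.Agent.S8310
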