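import Groth.Statements.S8311
import Groth.Agent.L24.ProjEvent.Basic
import Mathlib.RingTheory.GradedAlgebra.Basic

set_option autoImplicit false
universe u
open CategoryTheory AlgebraicGeometry
open scoped HomogeneousIdeal
open EGA2

namespace Groth.Agent.S8311

/-- Let S be a positively graded ring (an ℕ-graded R-algebra), S♮ the graded ring with S♮_n = S_[n] =
⊕_{m ≥ n} S_m (presented as a graded ring S' with an injective algebra homomorphism φ : S' → S[X]
carrying S'_n onto S_[n]·X^n), and T = S♮ ⊗_S S_0 = ⊕_n S_[n]/S_+S_[n] (presented as a graded ring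
with a surjective graded homomorphism π : S' → T whose kernel is the ideal generated by the elements
of S' corresponding to the constants in S_+); let ρ : T → S be the surjective graded homomorphism
sending the class of a ∈ S_[n] (in degree n) to the degree-n component of a, and Proj S → Proj T the
morphism it induces (a closed immersion, ρ being surjective). If there is n₀ such that S_{n+1} = S_1
S_n for every n ≥ n₀ (products of graded pieces as submodules), then the morphism Proj S → Proj T is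
an isomorphism. (The published statement also asserts the converse when S is Noetherian; that
converse is not correct as published: for S = k[y] with y of degree 2 the morphism is an isomorphism
of one-point schemes Spec k while S_{2m} ≠ S_1 S_{2m−1} = 0 for all m, so only the direct
implication is stated here.) -/
theorem result {R A B C : Type u} [CommRing R] [CommRing A] [Algebra R A]
    (𝒜 : ℕ → Submodule R A) [GradedAlgebra 𝒜] [CommRing B] [Algebra R B] (ℬ : ℕ → Submodule R B) [GradedAlgebra ℬ]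
    (φ : B →ₐ[R] Polynomial A) (hφ : Function.Injective φ)
    (hdeg : ∀ n : ℕ, Submodule.map φ.toLinearMap (ℬ n) =
      Submodule.map ((Polynomial.monomial n : A →ₗ[A] Polynomial A).restrictScalars R) (⨆ (m : ℕ) (_ : n ≤ m), 𝒜 m))
    [CommRing C] [Algebra R C] (𝒞 : ℕ → Submodule R C) [GradedAlgebra 𝒞]
    (π : ℬ →+*ᵍ 𝒞) (hπ : Function.Surjective π)
    (hker : RingHom.ker π.toRingHom =
      Ideal.span (⇑φ ⁻¹' (⇑(Polynomial.C : A →+* Polynomial A) '' ((HomogeneousIdeal.irrelevant 𝒜).toIdeal : Set A))))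
    (ρ : 𝒞 →+*ᵍ 𝒜) (hρ : ∀ (n : ℕ) (b : B), b ∈ ℬ n → ρ (π b) = GradedRing.proj 𝒜 n ((φ b).coeff n))
    (hirr : HomogeneousIdeal.irrelevant 𝒜 ≤ (HomogeneousIdeal.irrelevant 𝒞).map ρ)
    (hgen : ∃ n₀ : ℕ, ∀ n : ℕ, n₀ ≤ n → 𝒜 (n + 1) = 𝒜 1 * 𝒜 n) :
    IsIso (Proj.map ρ hirr) := by
  classical
  let L : ℕ → Submodule R A := fun n => ⨆ (m : ℕ) (_ : n ≤ m), 𝒜 m
  have hLmul : ∀ p q, L p * L q ≤ L (p + q) := fun p q => by
    simp only [L, Submodule.iSup_mul, Submodule.mul_iSup, iSup_le_iff]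
    refine fun m hm m' hm' => le_trans (Submodule.mul_le.2 fun x hx y hy => SetLike.mul_mem_graded hx hy) ?_
    exact le_iSup₂_of_le (f := fun (k : ℕ) (_ : p + q ≤ k) => 𝒜 k) (m' + m) (by omega) le_rfl
  have hLpow : ∀ p k a, a ∈ L p → a ^ k ∈ L (k * p) := fun p k a ha => by
    induction k with
    | zero => rw [pow_zero, zero_mul]; exact le_iSup₂_of_le (f := fun (m : ℕ) (_ : 0 ≤ m) => 𝒜 m) 0 le_rfl le_rfl (SetLike.one_mem_graded 𝒜)
    | succ k ih => rw [pow_succ, Nat.succ_mul]; exact hLmul _ _ (Submodule.mul_mem_mul ih ha)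
  have hLanti : ∀ p q, p ≤ q → L q ≤ L p := fun p q h => iSup₂_le fun m hm =>
    le_iSup₂_of_le (f := fun (k : ℕ) (_ : p ≤ k) => 𝒜 k) m (h.trans hm) le_rfl
  have hirrL : ∀ a ∈ L 1, a ∈ (HomogeneousIdeal.irrelevant 𝒜).toIdeal := fun a ha => by
    have h1 : L 1 ≤ ((HomogeneousIdeal.irrelevant 𝒜).toIdeal).restrictScalars R :=
      iSup₂_le fun m hm x hx => (HomogeneousIdeal.mem_irrelevant_iff 𝒜 x).2 (by
        rw [GradedRing.proj_apply, DirectSum.decompose_of_mem_ne 𝒜 hx (by omega)])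
    exact h1 ha
  have hb : ∀ n a, a ∈ L n → ∃ b ∈ ℬ n, φ b = Polynomial.monomial n a := fun n a ha => by
    have : Polynomial.monomial n a ∈ Submodule.map φ.toLinearMap (ℬ n) := by
      rw [hdeg n]
      exact Submodule.mem_map_of_mem (f := (Polynomial.monomial n : A →ₗ[A] Polynomial A).restrictScalars R) ha
    obtain ⟨b, hb, hbe⟩ := Submodule.mem_map.1 this
    exact ⟨b, hb, hbe⟩
  have hL : ∀ n b, b ∈ ℬ n → ∃ a ∈ L n, φ b = Polynomial.monomial n a := fun n b h => by
    have : φ b ∈ Submodule.map φ.toLinearMap (ℬ n) := Submodule.mem_map_of_mem h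
    rw [hdeg n] at this
    obtain ⟨a, ha, hae⟩ := Submodule.mem_map.1 this
    exact ⟨a, ha, hae.symm⟩
  have hcomp : ∀ n (x : C), x ∈ 𝒞 n → ∃ b ∈ ℬ n, π b = x := by
    intro n x hx
    obtain ⟨b, rfl⟩ := hπ x
    refine ⟨DirectSum.decompose ℬ b n, SetLike.coe_mem _, ?_⟩
    rw [π.map_directSumDecompose, DirectSum.decompose_of_mem_same 𝒞 hx]
  have hρs : Function.Surjective ρ := by
    intro a
    rw [← DirectSum.sum_support_decompose 𝒜 a]
    suffices h : ∀ i, ∃ c, ρ c = (DirectSum.decompose 𝒜 a i : A) by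
      choose c hc using h
      exact ⟨∑ i ∈ (DirectSum.decompose 𝒜 a).support, c i, by simp only [map_sum, hc]⟩
    intro n
    obtain ⟨b, hbn, hbe⟩ := hb n (DirectSum.decompose 𝒜 a n : A)
      (le_iSup₂_of_le (f := fun (k : ℕ) (_ : n ≤ k) => 𝒜 k) n le_rfl le_rfl (SetLike.coe_mem _))
    refine ⟨π b, ?_⟩
    rw [hρ n b hbn, hbe, Polynomial.coeff_monomial_same, GradedRing.proj_apply,
      DirectSum.decompose_of_mem_same 𝒜 (SetLike.coe_mem _)]
  obtain ⟨n₀, hgen⟩ := hgen
  refine Groth.Agent.L24.ProjEvent.isIso_map ρ hirr hρs n₀ fun n hn x hx h0 => ?_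
  obtain ⟨b, hbn, rfl⟩ := hcomp n x hx
  obtain ⟨a, ha, hae⟩ := hL n b hbn
  have ha0 : GradedRing.proj 𝒜 n a = 0 := by
    rw [← h0, hρ n b hbn, hae, Polynomial.coeff_monomial_same]
  have hdec : L n ≤ 𝒜 n ⊔ L (n + 1) := iSup₂_le fun m hm => by
    rcases eq_or_lt_of_le hm with rfl | hlt
    · exact le_sup_left
    · exact le_sup_of_le_right (le_iSup₂_of_le (f := fun (k : ℕ) (_ : n + 1 ≤ k) => 𝒜 k) m hlt le_rfl)
  obtain ⟨y, hy, z, hz, rfl⟩ := Submodule.mem_sup.1 (hdec ha)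
  have hz0 : GradedRing.proj 𝒜 n z = 0 := by
    have hk : L (n + 1) ≤ LinearMap.ker (GradedAlgebra.proj 𝒜 n) := iSup₂_le fun m hm x hx => by
      rw [LinearMap.mem_ker, GradedAlgebra.proj_apply, DirectSum.decompose_of_mem_ne 𝒜 hx (by omega)]
    exact hk hz
  rw [map_add, hz0, add_zero, GradedRing.proj_apply, DirectSum.decompose_of_mem_same 𝒜 hy] at ha0
  rw [ha0, zero_add] at hae
  have hle : L (n + 1) ≤ L 1 * L n := iSup₂_le fun m hm => by
    obtain ⟨m, rfl⟩ : ∃ m', m = m' + 1 := ⟨m - 1, by omega⟩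
    rw [hgen m (by omega)]
    exact mul_le_mul'
      (le_iSup₂_of_le (f := fun (k : ℕ) (_ : 1 ≤ k) => 𝒜 k) 1 le_rfl le_rfl)
      (le_iSup₂_of_le (f := fun (k : ℕ) (_ : n ≤ k) => 𝒜 k) m (by omega) le_rfl)
  have key : ∀ c ∈ L 1 * L n, ∃ b' ∈ RingHom.ker π.toRingHom, φ b' = Polynomial.monomial n c := by
    intro c hc
    induction hc using Submodule.mul_induction_on' with
    | mem_mul_mem c hc d hd =>
      obtain ⟨b₁, -, h₁⟩ := hb 0 c (hLanti 0 1 (Nat.zero_le _) hc)
      obtain ⟨b₂, -, h₂⟩ := hb n d hd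
      refine ⟨b₁ * b₂, Ideal.mul_mem_right _ _ ?_, by rw [map_mul, h₁, h₂, Polynomial.monomial_mul_monomial, zero_add]⟩
      rw [hker]
      refine Ideal.subset_span ⟨c, hirrL c hc, ?_⟩
      rw [h₁]
      rfl
    | add c _ d _ hc hd =>
      obtain ⟨b₁, k₁, e₁⟩ := hc
      obtain ⟨b₂, k₂, e₂⟩ := hd
      exact ⟨b₁ + b₂, add_mem k₁ k₂, by rw [map_add, map_add, e₁, e₂]⟩
  obtain ⟨b', hk, hbe⟩ := key z (hle hz)
  rw [← hφ (hbe.trans hae.symm)]
  exact RingHom.mem_ker.1 hk

end Groth.Agent.S8311
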