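import Groth.Agent.L18.LineBundleNormal
import Groth.Agent.L18.Contract.Cone
import Mathlib.AlgebraicGeometry.Morphisms.QuasiSeparated
import Groth.Statements.S8317
-- import your own Groth.Agent.* helpers here

set_option autoImplicit false
universe u
open CategoryTheory CategoryTheory.Limits AlgebraicGeometry Opposite TopologicalSpace
open scoped HomogeneousIdeal
noncomputable section
open EGA2

namespace Groth.Agent.S8317

/-- Let f : X → Y be a separated quasi-compact morphism such that f^♯ : O_Y → f_*O_X is an isomorphism,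
L an invertible O_X-module, V = V(L) = Spec(Sym L) its line bundle with projection π : V → X, and C
= Spec((f∘π)_*O_V) the relative spectrum over Y of the direct-image algebra of f∘π. (The published
statement takes C to be the affine cone Spec(O_Y ⊕ ⊕_{n≥1} f_*(L^{⊗n})); when f^♯ is an isomorphism
that cone is this relative spectrum.) Then: if X is integral, C is integral; and if X is locally
integral (every point has an integral open neighbourhood) and normal (all local rings integrally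
closed domains), then C is normal. -/
theorem result {X Y : Scheme.{u}} (f : X ⟶ Y) [IsSeparated f] [QuasiCompact f]
    (hlam : IsIso f.c) (L : X.Modules) (hL : PicF.IsInvertible L) (hLq : Coh.IsQCoh L)
    (𝒜 : RelSpec.QCAlg X) (jL : L ⟶ 𝒜.toModule) (hA : RelSpec.IsSymAlg L 𝒜 jL) :
    (IsIntegral X → IsIntegral (RelSpec.QCAlg.directImage (𝒜.π ≫ f)).spec) ∧
      ((∀ x : X, ∃ U : X.Opens, x ∈ U ∧ IsIntegral (U : Scheme.{u})) → Pi1.IsNormalScheme X →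
        Pi1.IsNormalScheme (RelSpec.QCAlg.directImage (𝒜.π ≫ f)).spec) := by
  haveI := hLq
  let C := RelSpec.QCAlg.directImage (𝒜.π ≫ f)
  have hgf : ∀ W : Y.Opens, Nonempty (Γ(C.spec, C.π ⁻¹ᵁ W) ≃+* Γ(𝒜.spec, (𝒜.π ≫ f) ⁻¹ᵁ W)) := fun W =>
    ⟨((Groth.L18.RelSpecAlg.gammaIso C).app (op W)).commRingCatIsoToRingEquiv⟩
  refine ⟨fun hX => ?_, fun hXloc hXn => ?_⟩
  · haveI := hX
    haveI : Nonempty (⊤ : X.Opens).toScheme := ⟨⟨(Classical.arbitrary X), trivial⟩⟩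
    haveI : IsIntegral (⊤ : X.Opens).toScheme := isIntegral_of_isOpenImmersion (⊤ : X.Opens).ι
    haveI hVtop := Groth.L18.LBNormal.isIntegral_preimage hL hA (⊤ : X.Opens)
    haveI : IsIntegral 𝒜.spec := by
      haveI : IsIntegral (⊤ : 𝒜.spec.Opens).toScheme := hVtop
      obtain ⟨v0⟩ : Nonempty (⊤ : 𝒜.spec.Opens).toScheme := IsIntegral.nonempty
      haveI : Nonempty 𝒜.spec := ⟨v0.1⟩
      exact isIntegral_of_isOpenImmersion 𝒜.spec.topIso.inv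
    obtain ⟨q', hq', -⟩ := Groth.L18.Contract.exists_hom_to_spec C (𝒜.π ≫ f) (𝟙 _) (Category.comp_id _)
    have hdom : ∀ W : Y.Opens, Nonempty (C.π ⁻¹ᵁ W : C.spec.Opens) → IsAffineOpen W →
        IsDomain Γ(C.spec, C.π ⁻¹ᵁ W) ∧ ∃ v : 𝒜.spec, q'.base v ∈ C.π ⁻¹ᵁ W := fun W hne hW => by
      obtain ⟨E⟩ := hgf W
      haveI := hne
      haveI : IsAffine (C.π ⁻¹ᵁ W).toScheme := hW.preimage _
      haveI : Nontrivial Γ(C.spec, C.π ⁻¹ᵁ W) := by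
        obtain ⟨c, hc⟩ := hne
        exact RingHom.domain_nontrivial (C.spec.presheaf.germ _ c hc).hom
      haveI : Nonempty ((𝒜.π ≫ f) ⁻¹ᵁ W : 𝒜.spec.Opens) := by
        by_contra h
        have hb : (𝒜.π ≫ f) ⁻¹ᵁ W = ⊥ := le_bot_iff.1 fun z hz => (h ⟨⟨z, hz⟩⟩).elim
        haveI : Subsingleton Γ(𝒜.spec, (𝒜.π ≫ f) ⁻¹ᵁ W) := by rw [hb]; infer_instance
        haveI := E.injective.subsingleton
        exact false_of_nontrivial_of_subsingleton Γ(C.spec, C.π ⁻¹ᵁ W)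
      refine ⟨MulEquiv.isDomain Γ(𝒜.spec, (𝒜.π ≫ f) ⁻¹ᵁ W) E.toMulEquiv, ?_⟩
      obtain ⟨v, hv⟩ := ‹Nonempty ((𝒜.π ≫ f) ⁻¹ᵁ W : 𝒜.spec.Opens)›
      exact ⟨v, by rw [← hq', Scheme.Hom.comp_preimage] at hv; exact hv⟩
    have hint : ∀ W : Y.Opens, Nonempty (C.π ⁻¹ᵁ W : C.spec.Opens) → IsAffineOpen W →
        IsIntegral (C.π ⁻¹ᵁ W).toScheme := fun W hne hW => by
      haveI := (hdom W hne hW).1
      haveI : IsAffine (C.π ⁻¹ᵁ W).toScheme := hW.preimage _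
      haveI : IsDomain Γ((C.π ⁻¹ᵁ W).toScheme, ⊤) :=
        MulEquiv.isDomain Γ(C.spec, C.π ⁻¹ᵁ W) (C.π ⁻¹ᵁ W).topIso.commRingCatIsoToRingEquiv.toMulEquiv
      haveI := hne
      exact isIntegral_of_isAffine_of_isDomain _
    have hcov : ∀ c : C.spec, ∃ W : Y.Opens, IsAffineOpen W ∧ c ∈ C.π ⁻¹ᵁ W := fun c => by
      obtain ⟨W, hW, hcW, -⟩ := exists_isAffineOpen_mem_and_subset (Opens.mem_top (C.π.base c))
      exact ⟨W, hW, hcW⟩
    haveI : IsReduced C.spec := by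
      haveI : ∀ c : C.spec, _root_.IsReduced (C.spec.presheaf.stalk c) := fun c => by
        obtain ⟨W, hW, hcW⟩ := hcov c
        haveI := hint W ⟨⟨c, hcW⟩⟩ hW
        exact isReduced_of_injective ((C.π ⁻¹ᵁ W).stalkIso ⟨c, hcW⟩).inv.hom
          ((C.π ⁻¹ᵁ W).stalkIso ⟨c, hcW⟩).symm.commRingCatIsoToRingEquiv.injective
      exact isReduced_of_isReduced_stalk _
    haveI : IrreducibleSpace C.spec := by
      haveI : Nonempty C.spec := ⟨q'.base (Classical.arbitrary 𝒜.spec)⟩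
      have hirr : ∀ W : Y.Opens, IsAffineOpen W → Nonempty (C.π ⁻¹ᵁ W : C.spec.Opens) →
          IsPreirreducible ((C.π ⁻¹ᵁ W : C.spec.Opens) : Set C.spec) := fun W hW hne => by
        haveI := hint W hne hW
        rw [← Scheme.Opens.range_ι, ← Set.image_univ]
        exact (PreirreducibleSpace.isPreirreducible_univ).image _ (Scheme.Hom.continuous _).continuousOn
      rw [irreducibleSpace_def]
      refine ⟨Set.univ_nonempty, fun O O' hO hO' ⟨a, _, ha⟩ ⟨b, _, hb⟩ => ?_⟩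
      obtain ⟨i, hiW, hi⟩ := hcov a
      obtain ⟨j, hjW, hj⟩ := hcov b
      obtain ⟨v, hvi, hvj⟩ : (((q' ⁻¹ᵁ (C.π ⁻¹ᵁ i) : 𝒜.spec.Opens) : Set 𝒜.spec) ∩
          (q' ⁻¹ᵁ (C.π ⁻¹ᵁ j) : 𝒜.spec.Opens)).Nonempty :=
        nonempty_preirreducible_inter (q' ⁻¹ᵁ (C.π ⁻¹ᵁ i)).2 (q' ⁻¹ᵁ (C.π ⁻¹ᵁ j)).2
          (hdom i ⟨⟨a, hi⟩⟩ hiW).2 (hdom j ⟨⟨b, hj⟩⟩ hjW).2
      obtain ⟨c, hci, hcO, hcj⟩ := hirr i hiW ⟨⟨a, hi⟩⟩ O _ hO (C.π ⁻¹ᵁ j).2 ⟨a, hi, ha⟩ ⟨q'.base v, hvi, hvj⟩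
      obtain ⟨d, -, ⟨hdO, -⟩, hdO'⟩ := hirr j hjW ⟨⟨b, hj⟩⟩ (O ∩ (C.π ⁻¹ᵁ i : C.spec.Opens)) O'
        (hO.inter (C.π ⁻¹ᵁ i).2) hO' ⟨c, hcj, hcO, hci⟩ ⟨b, hj, hb⟩
      exact ⟨d, trivial, hdO, hdO'⟩
    exact isIntegral_of_irreducibleSpace_of_isReduced _
  · intro c
    obtain ⟨W, hW, hcW, -⟩ := exists_isAffineOpen_mem_and_subset (Opens.mem_top (C.π.base c))
    obtain ⟨s, Ω, hΩ, hcov, hdisj⟩ :=
      Groth.L18.LBNormal.exists_partition hXloc (f ⁻¹ᵁ W) (f.isCompact_preimage hW.isCompact)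
    obtain ⟨E⟩ := hgf W
    have hA' := hW.preimage C.π
    letI := (C.spec.presheaf.germ (C.π ⁻¹ᵁ W) c hcW).hom.toAlgebra
    haveI := hA'.isLocalization_stalk ⟨c, hcW⟩
    set P := (hA'.primeIdealOf ⟨c, hcW⟩).asIdeal
    let T : 𝒜.spec.Opens := (𝒜.π ≫ f) ⁻¹ᵁ W
    -- the idempotent of each piece
    have hex : ∀ η ∈ s, ∃ e : Γ(𝒜.spec, T), 𝒜.spec.basicOpen e = 𝒜.π ⁻¹ᵁ Ω η ∧
        ∀ η' ∈ s, ∀ hle : 𝒜.π ⁻¹ᵁ Ω η' ≤ T,
          𝒜.spec.presheaf.map (homOfLE hle).op e = (open Classical in if η' = η then 1 else 0) := by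
      classical
      intro η hη
      have hcompat : TopCat.Presheaf.IsCompatible 𝒜.spec.sheaf.obj (fun η' : s => 𝒜.π ⁻¹ᵁ Ω η'.1)
          (fun η' => if η'.1 = η then 1 else 0) := fun a b => by
        by_cases h : a.1 = b.1
        · obtain rfl : a = b := Subtype.ext h
          rfl
        · have hb : (𝒜.π ⁻¹ᵁ Ω a.1) ⊓ (𝒜.π ⁻¹ᵁ Ω b.1) = ⊥ :=
            le_bot_iff.1 fun v hv => (hdisj a.1 a.2 b.1 b.2 h).le (show 𝒜.π.base v ∈ Ω a.1 ⊓ Ω b.1 from hv)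
          haveI : Subsingleton Γ(𝒜.spec, (𝒜.π ⁻¹ᵁ Ω a.1) ⊓ (𝒜.π ⁻¹ᵁ Ω b.1)) := by rw [hb]; infer_instance
          exact Subsingleton.elim (α := Γ(𝒜.spec, (𝒜.π ⁻¹ᵁ Ω a.1) ⊓ (𝒜.π ⁻¹ᵁ Ω b.1))) _ _
      have hle : ∀ η' : s, 𝒜.π ⁻¹ᵁ Ω η'.1 ≤ T := fun η' => 𝒜.π.preimage_mono (hΩ _ η'.2).2
      obtain ⟨e, he, -⟩ := TopCat.Sheaf.existsUnique_gluing' 𝒜.spec.sheaf (fun η' : s => 𝒜.π ⁻¹ᵁ Ω η'.1) T
        (fun η' => homOfLE (hle η')) (fun v hv => by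
          obtain ⟨η', hη', hv'⟩ := hcov (𝒜.π.base v) hv
          exact Opens.mem_iSup.2 ⟨⟨η', hη'⟩, hv'⟩) _ hcompat
      refine ⟨e, le_antisymm (fun v hv => ?_) (fun v hv => ?_), fun η' hη' hle' => he ⟨η', hη'⟩⟩
      · obtain ⟨η', hη', hv'⟩ := hcov (𝒜.π.base v) (𝒜.spec.basicOpen_le e hv)
        by_contra hne
        have h1 : v ∈ 𝒜.spec.basicOpen (𝒜.spec.presheaf.map (homOfLE (hle ⟨η', hη'⟩)).op e) := by
          rw [Scheme.basicOpen_res]; exact ⟨hv', hv⟩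
        have h2 : 𝒜.spec.presheaf.map (homOfLE (hle ⟨η', hη'⟩)).op e = 0 :=
          (he ⟨η', hη'⟩).trans (if_neg fun (h : η' = η) => hne (show 𝒜.π.base v ∈ Ω η by rw [← h]; exact hv'))
        rw [h2, Scheme.basicOpen_zero] at h1
        exact h1
      · have h1 : v ∈ 𝒜.spec.basicOpen (𝒜.spec.presheaf.map (homOfLE (hle ⟨η, hη⟩)).op e) := by
          have h2 : 𝒜.spec.presheaf.map (homOfLE (hle ⟨η, hη⟩)).op e = 1 := (he ⟨η, hη⟩).trans (if_pos rfl)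
          rw [h2, Scheme.basicOpen_of_isUnit _ isUnit_one]; exact hv
        rw [Scheme.basicOpen_res] at h1
        exact h1.2
    classical
    choose e he he' using hex
    have hsum : ∑ η : s, e η.1 η.2 = 1 := by
      refine TopCat.Sheaf.eq_of_locally_eq' 𝒜.spec.sheaf (fun η' : s => 𝒜.π ⁻¹ᵁ Ω η'.1) T
        (fun η' => homOfLE (𝒜.π.preimage_mono (hΩ _ η'.2).2)) (fun v hv => ?_) _ _ fun η' => ?_
      · obtain ⟨η', hη', hv'⟩ := hcov (𝒜.π.base v) hv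
        exact Opens.mem_iSup.2 ⟨⟨η', hη'⟩, hv'⟩
      · change (𝒜.spec.presheaf.map (homOfLE _).op).hom _ = (𝒜.spec.presheaf.map (homOfLE _).op).hom 1
        rw [map_sum, map_one, Finset.sum_eq_single η']
        · exact (he' η'.1 η'.2 η'.1 η'.2 (𝒜.π.preimage_mono (hΩ _ η'.2).2)).trans (if_pos rfl)
        · exact fun b _ hb => (he' b.1 b.2 η'.1 η'.2 (𝒜.π.preimage_mono (hΩ _ η'.2).2)).trans
            (if_neg fun h => hb (Subtype.ext h.symm))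
        · exact fun h => absurd (Finset.mem_univ _) h
    obtain ⟨η, hη⟩ : ∃ η : s, E.symm (e η.1 η.2) ∉ P := by
      by_contra h
      push Not at h
      refine (hA'.primeIdealOf ⟨c, hcW⟩).isPrime.ne_top (P.eq_top_iff_one.2 ?_)
      rw [← map_one E.symm, ← hsum, map_sum]
      exact P.sum_mem fun η _ => h η
    haveI : IsIntegral (Ω η.1).toScheme := (hΩ _ η.2).1
    haveI := Groth.L18.LBNormal.isIntegral_preimage hL hA (Ω η.1)
    haveI : Nonempty (𝒜.π ⁻¹ᵁ Ω η.1 : 𝒜.spec.Opens) := ⟨Classical.arbitrary (𝒜.π ⁻¹ᵁ Ω η.1).toScheme⟩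
    obtain ⟨hd, hi⟩ := Groth.L18.LBNormal.domain_sections (Z := 𝒜.spec) (O := 𝒜.π ⁻¹ᵁ Ω η.1) (U := 𝒜.π ⁻¹ᵁ Ω η.1) le_rfl
      (Groth.L18.LBNormal.normal_of_open _ (Groth.L18.LBNormal.isIntegrallyClosed_stalk hL hA (Ω η.1) hXn))
    haveI := hd
    haveI := hi
    let ψ : Γ(C.spec, C.π ⁻¹ᵁ W) →+* Γ(𝒜.spec, 𝒜.π ⁻¹ᵁ Ω η.1) :=
      ((𝒜.spec.presheaf.map (homOfLE (𝒜.π.preimage_mono (hΩ _ η.2).2)).op).hom).comp E.toRingHom
    letI := ψ.toAlgebra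
    haveI : IsLocalization.Away (E.symm (e η.1 η.2)) Γ(𝒜.spec, 𝒜.π ⁻¹ᵁ Ω η.1) := by
      have hqc : IsCompact (T : Set 𝒜.spec) := (𝒜.π ≫ f).isCompact_preimage hW.isCompact
      have hqs : IsQuasiSeparated (T : Set 𝒜.spec) := (𝒜.π ≫ f).isQuasiSeparated_preimage hW.isQuasiSeparated
      letI a2 : Algebra Γ(𝒜.spec, T) Γ(𝒜.spec, 𝒜.π ⁻¹ᵁ Ω η.1) :=
        ((𝒜.spec.presheaf.map (homOfLE (𝒜.π.preimage_mono (hΩ _ η.2).2)).op).hom).toAlgebra
      haveI : IsLocalization.Away (e η.1 η.2) Γ(𝒜.spec, 𝒜.π ⁻¹ᵁ Ω η.1) := by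
        have key : ∀ (O : 𝒜.spec.Opens) (hO : O = 𝒜.spec.basicOpen (e η.1 η.2)) (hle : O ≤ T),
            letI := (𝒜.spec.presheaf.map (homOfLE hle).op).hom.toAlgebra
            IsLocalization.Away (e η.1 η.2) Γ(𝒜.spec, O) := by
          intro O hO hle
          subst hO
          exact isLocalization_basicOpen_of_qcqs hqc hqs _
        exact key _ (he η.1 η.2).symm _
      have h := IsLocalization.isLocalization_of_base_ringEquiv (Submonoid.powers (e η.1 η.2))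
        Γ(𝒜.spec, 𝒜.π ⁻¹ᵁ Ω η.1) E.symm
      rw [Submonoid.map_powers] at h
      exact h
    exact Groth.L18.LBNormal.good_atPrime P (E.symm (e η.1 η.2)) hη (D := Γ(𝒜.spec, 𝒜.π ⁻¹ᵁ Ω η.1))
      (C.spec.presheaf.stalk c)

end Groth.Agent.S8317
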