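import Groth.Agent.L18.Contract.Factor
import Groth.Statements.S8318
-- import your own Groth.Agent.* helpers here

set_option autoImplicit false
universe u
open CategoryTheory CategoryTheory.Limits AlgebraicGeometry Opposite TopologicalSpace
open scoped HomogeneousIdeal
noncomputable section
open EGA2

namespace Groth.Agent.S8318

/-- Let p : X → Y be a proper morphism with p^♯ : O_Y → p_*O_X an isomorphism, L an invertible
O_X-module ample relative to p, V = V(L) = Spec(Sym L) with projection π and zero section j0 (the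
vertex section), C a scheme over Y (structure morphism g) with a section ε and a Y-morphism q : V →
C with j0 ≫ q = p ≫ ε; let C' = Spec(𝒮') with 𝒮' = ⊕_{n≥0} p_*(L^{⊗n}) = (p∘π)_*O_V (the relative
spectrum over Y of the direct-image algebra of p∘π) and q' : V → C' the canonical Y-morphism (the
one corresponding to the identity of (p∘π)_*O_V under the universal property of the relative
spectrum). Then there exists a unique morphism u : C' → C over Y such that q = q' ≫ u. -/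
theorem result {X Y C : Scheme.{u}} (p : X ⟶ Y) [IsProper p] (hθ : IsIso p.c)
    (L : X.Modules) (hL : PicF.IsInvertible L) (hLq : Coh.IsQCoh L) (hamp : RelAmple.IsRelAmple p L)
    (𝒜 : RelProj.QCGrAlg X) (jL : L ⟶ 𝒜.toModule) (hA : RelProj.IsGrSymAlg L 𝒜 jL) (h0 : RelCone.StrZeroBij 𝒜)
    (aug : 𝒜.toQCAlg ⟶ RelSpec.QCAlg.unit X) (haug : RelCone.IsAugmentation 𝒜 aug)
    (j0 : X ⟶ 𝒜.toQCAlg.spec) (hj0 : RelCone.IsVertex 𝒜 aug j0)
    (g : C ⟶ Y) (ε : Y ⟶ C) (hε : ε ≫ g = 𝟙 Y) (q : 𝒜.toQCAlg.spec ⟶ C)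
    (hqg : q ≫ g = 𝒜.toQCAlg.π ≫ p) (hjq : j0 ≫ q = p ≫ ε)
    (q' : 𝒜.toQCAlg.spec ⟶ (RelSpec.QCAlg.directImage (𝒜.toQCAlg.π ≫ p)).spec)
    (hq'π : q' ≫ (RelSpec.QCAlg.directImage (𝒜.toQCAlg.π ≫ p)).π = 𝒜.toQCAlg.π ≫ p)
    (hq' : AffAlg.algHom (RelSpec.QCAlg.directImage (𝒜.toQCAlg.π ≫ p)).π (𝒜.toQCAlg.π ≫ p) q' hq'π = (RelSpec.QCAlg.directImage (𝒜.toQCAlg.π ≫ p)).gammaMap) :
    ∃! u : (RelSpec.QCAlg.directImage (𝒜.toQCAlg.π ≫ p)).spec ⟶ C, u ≫ g = (RelSpec.QCAlg.directImage (𝒜.toQCAlg.π ≫ p)).π ∧ q' ≫ u = q := by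
  haveI := hLq
  let V0 : 𝒜.toQCAlg.spec.Opens := ⟨(Set.range j0.base)ᶜ, by
    haveI : IsClosedImmersion j0 := by
      haveI : IsClosedImmersion (j0 ≫ 𝒜.toQCAlg.π) := by rw [hj0.comp_π]; infer_instance
      exact IsClosedImmersion.of_comp j0 𝒜.toQCAlg.π
    exact j0.isClosedEmbedding.isClosed_range.isOpen_compl⟩
  obtain ⟨ε', hε', hjq', hp', hopen, hr, himg, hsur, hbij⟩ :=
    Groth.L18.Contract.directImage_props p hL hA h0 haug hj0 V0 rfl hθ hamp q' hq'π hq'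
  haveI := hp'
  haveI := hsur
  haveI := hopen
  haveI : Epi q' := Groth.Agent.S2913.result q' fun U => (hbij U).1
  have hinjε : Function.Injective ε'.base := by
    intro a b hab
    have := congrArg (RelSpec.QCAlg.directImage (𝒜.toQCAlg.π ≫ p)).π.base hab
    rwa [← Scheme.Hom.comp_apply, ← Scheme.Hom.comp_apply, hε'] at this
  obtain ⟨u, hu, huniq⟩ := Groth.L18.FactorDesc.existsUnique_desc q' q'.isClosedMap hbij q fun a b hab => by
    by_cases ha : a ∈ V0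
    · by_cases hb : b ∈ V0
      · exact congrArg (fun v : V0.toScheme => q.base v.1)
          ((V0.ι ≫ q').isOpenEmbedding.injective (a₁ := ⟨a, ha⟩) (a₂ := ⟨b, hb⟩) hab)
      · exfalso
        obtain ⟨x, rfl⟩ : b ∈ Set.range j0.base := by_contra hb
        have h1 : q'.base a ∈ (Set.range ε'.base)ᶜ := hr.le ⟨⟨a, ha⟩, rfl⟩
        exact h1 (hab ▸ himg.le ⟨_, ⟨x, rfl⟩, rfl⟩)
    · obtain ⟨x, rfl⟩ : a ∈ Set.range j0.base := by_contra ha
      by_cases hb : b ∈ V0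
      · exfalso
        have h1 : q'.base b ∈ (Set.range ε'.base)ᶜ := hr.le ⟨⟨b, hb⟩, rfl⟩
        exact h1 (hab ▸ himg.le ⟨_, ⟨x, rfl⟩, rfl⟩)
      · obtain ⟨x', rfl⟩ : b ∈ Set.range j0.base := by_contra hb
        rw [← Scheme.Hom.comp_apply, ← Scheme.Hom.comp_apply, hjq', Scheme.Hom.comp_apply, Scheme.Hom.comp_apply] at hab
        rw [← Scheme.Hom.comp_apply, ← Scheme.Hom.comp_apply, hjq, Scheme.Hom.comp_apply, Scheme.Hom.comp_apply,
          hinjε hab]
  refine ⟨u, ⟨?_, hu⟩, fun u' hu' => huniq u' hu'.2⟩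
  rw [← cancel_epi q', reassoc_of% hu, hqg, hq'π]

end Groth.Agent.S8318
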