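import Groth.Agent.L18.Contract.Factor
import Groth.Statements.S8319
-- import your own Groth.Agent.* helpers here

set_option autoImplicit false
universe u
open CategoryTheory CategoryTheory.Limits AlgebraicGeometry Opposite TopologicalSpace
open scoped HomogeneousIdeal
noncomputable section
open EGA2

namespace Groth.Agent.S8319

/-- Let p : X → Y be a proper morphism with p^♯ : O_Y → p_*O_X an isomorphism, L an invertible
O_X-module ample relative to p, V = V(L) = Spec(Sym L) with projection π and zero section j0 (the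
vertex section), C a scheme over Y (structure morphism g) with a section ε and a Y-morphism q : V →
C with j0 ≫ q = p ≫ ε; let C' = Spec(𝒮') with 𝒮' = ⊕_{n≥0} p_*(L^{⊗n}) = (p∘π)_*O_V (the relative
spectrum over Y of the direct-image algebra of p∘π) and q' : V → C' the canonical Y-morphism (the
one corresponding to the identity of (p∘π)_*O_V under the universal property of the relative
spectrum); suppose moreover that q is proper and that the restriction of q to V0 = V − j0(X) is an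
open immersion whose image is exactly C − ε(Y). Then every morphism u : C' → C over Y with q = q' ≫
u is universally closed, surjective and radicial (universally injective), and its restriction to the
open complement of q'(j0(X)) — the vertex section of C' — is an open immersion whose image is
exactly C − ε(Y). -/
theorem result {X Y C : Scheme.{u}} (p : X ⟶ Y) [IsProper p] (hθ : IsIso p.c)
    (L : X.Modules) (hL : PicF.IsInvertible L) (hLq : Coh.IsQCoh L) (hamp : RelAmple.IsRelAmple p L)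
    (𝒜 : RelProj.QCGrAlg X) (jL : L ⟶ 𝒜.toModule) (hA : RelProj.IsGrSymAlg L 𝒜 jL) (h0 : RelCone.StrZeroBij 𝒜)
    (aug : 𝒜.toQCAlg ⟶ RelSpec.QCAlg.unit X) (haug : RelCone.IsAugmentation 𝒜 aug)
    (j0 : X ⟶ 𝒜.toQCAlg.spec) (hj0 : RelCone.IsVertex 𝒜 aug j0)
    (g : C ⟶ Y) (ε : Y ⟶ C) (hε : ε ≫ g = 𝟙 Y) (q : 𝒜.toQCAlg.spec ⟶ C)
    (hqg : q ≫ g = 𝒜.toQCAlg.π ≫ p) (hjq : j0 ≫ q = p ≫ ε)
    (q' : 𝒜.toQCAlg.spec ⟶ (RelSpec.QCAlg.directImage (𝒜.toQCAlg.π ≫ p)).spec)
    (hq'π : q' ≫ (RelSpec.QCAlg.directImage (𝒜.toQCAlg.π ≫ p)).π = 𝒜.toQCAlg.π ≫ p)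
    (hq' : AffAlg.algHom (RelSpec.QCAlg.directImage (𝒜.toQCAlg.π ≫ p)).π (𝒜.toQCAlg.π ≫ p) q' hq'π = (RelSpec.QCAlg.directImage (𝒜.toQCAlg.π ≫ p)).gammaMap)
    [IsProper q] (V0 : 𝒜.toQCAlg.spec.Opens) (hV0 : (V0 : Set 𝒜.toQCAlg.spec) = (Set.range j0.base)ᶜ)
    (hqo : IsOpenImmersion (V0.ι ≫ q)) (hqr : Set.range (V0.ι ≫ q).base = (Set.range ε.base)ᶜ)
    (u : (RelSpec.QCAlg.directImage (𝒜.toQCAlg.π ≫ p)).spec ⟶ C) (hug : u ≫ g = (RelSpec.QCAlg.directImage (𝒜.toQCAlg.π ≫ p)).π) (hu : q' ≫ u = q) :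
    UniversallyClosed u ∧ Function.Surjective u.base ∧ UniversallyInjective u ∧
      ∀ W : (RelSpec.QCAlg.directImage (𝒜.toQCAlg.π ≫ p)).spec.Opens, (W : Set (RelSpec.QCAlg.directImage (𝒜.toQCAlg.π ≫ p)).spec) = (q'.base '' Set.range j0.base)ᶜ →
        IsOpenImmersion (W.ι ≫ u) ∧ Set.range (W.ι ≫ u).base = (Set.range ε.base)ᶜ := by
  haveI := hLq
  obtain ⟨ε', hε', hjq', hp', hopen, hr, himg, hsur, hbij⟩ :=
    Groth.L18.Contract.directImage_props p hL hA h0 haug hj0 V0 hV0 hθ hamp q' hq'π hq'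
  haveI := hp'
  haveI := hsur
  haveI := hopen
  haveI := hqo
  haveI := Groth.L18.Contract.surjective_of_isIso_c p hθ
  haveI : Epi p := Groth.Agent.S2913.result p fun U =>
    haveI : IsIso (p.app U) := NatIso.isIso_app_of_isIso p.c _
    ((ConcreteCategory.isIso_iff_bijective (p.app U)).1 inferInstance).1
  have hεu : ε' ≫ u = ε := by
    rw [← cancel_epi p, ← hjq, ← hu, reassoc_of% hjq']
  haveI : UniversallyClosed u := by
    haveI : UniversallyClosed (q' ≫ u) := by rw [hu]; infer_instance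
    exact UniversallyClosed.of_comp_surjective q' u
  have hopen' : ∀ v ∈ V0, q.base v ∈ (Set.range ε.base)ᶜ := fun v hv => hqr.le ⟨⟨v, hv⟩, rfl⟩
  have hVu : ∀ v ∈ V0, u.base (q'.base v) = q.base v := fun v _ => by rw [← Scheme.Hom.comp_apply, hu]
  have hZu : ∀ y, u.base (ε'.base y) = ε.base y := fun y => by rw [← Scheme.Hom.comp_apply, hεu]
  have hinjε : Function.Injective ε.base := by
    intro a b hab
    have := congrArg g.base hab
    rwa [← Scheme.Hom.comp_apply, ← Scheme.Hom.comp_apply, hε] at this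
  have hcase : ∀ z, (∃ v ∈ V0, q'.base v = z) ∨ ∃ y, ε'.base y = z := fun z => by
    by_cases hz : z ∈ Set.range ε'.base
    · exact Or.inr hz
    · obtain ⟨v, hv⟩ := hr.ge hz
      exact Or.inl ⟨v.1, v.2, hv⟩
  have hinj : Function.Injective u.base := by
    intro z z' hzz
    rcases hcase z with ⟨v, hv, rfl⟩ | ⟨y, rfl⟩ <;> rcases hcase z' with ⟨v', hv', rfl⟩ | ⟨y', rfl⟩
    · rw [hVu v hv, hVu v' hv'] at hzz
      exact congrArg (fun v : V0.toScheme => q'.base v.1)
        ((V0.ι ≫ q).isOpenEmbedding.injective (a₁ := ⟨v, hv⟩) (a₂ := ⟨v', hv'⟩) hzz)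
    · rw [hVu v hv, hZu] at hzz
      exact (hopen' v hv ⟨y', hzz.symm⟩).elim
    · rw [hVu v' hv', hZu] at hzz
      exact (hopen' v' hv' ⟨y, hzz⟩).elim
    · rw [hZu, hZu] at hzz
      rw [hinjε hzz]
  have hsurj : Function.Surjective u.base := fun c => by
    by_cases hc : c ∈ Set.range ε.base
    · obtain ⟨y, rfl⟩ := hc
      exact ⟨_, hZu y⟩
    · obtain ⟨v, hv⟩ := hqr.ge hc
      exact ⟨_, (hVu v.1 v.2).trans hv⟩
  refine ⟨inferInstance, hsurj, Groth.L18.FactorDesc.universallyInjective_of u hinj fun z => ?_, fun W hW => ?_⟩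
  · rcases hcase z with ⟨v, hv, rfl⟩ | ⟨y, rfl⟩
    · refine Groth.L18.FactorDesc.residue_surjective (V0.ι ≫ q') u ⟨v, hv⟩ ?_
      have h : IsIso (((V0.ι ≫ q') ≫ u).residueFieldMap ⟨v, hv⟩) := by
        rw [Category.assoc, hu]
        infer_instance
      exact ((ConcreteCategory.isIso_iff_bijective _).1 h).2
    · refine Groth.L18.FactorDesc.residue_surjective ε' u y ?_
      rw [hεu]
      exact Groth.L18.FactorDesc.residue_surjective_section ε g hε y
  · have hWr : Set.range W.ι.base = Set.range (V0.ι ≫ q').base := by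
      rw [Scheme.Opens.range_ι, hW, himg, hr]
    let e := IsOpenImmersion.isoOfRangeEq W.ι (V0.ι ≫ q') hWr
    have he : W.ι ≫ u = e.hom ≫ V0.ι ≫ q := by
      rw [← IsOpenImmersion.isoOfRangeEq_hom_fac W.ι (V0.ι ≫ q') hWr, Category.assoc, Category.assoc, hu]
    refine ⟨he ▸ inferInstance, ?_⟩
    rw [he, Scheme.Hom.comp_base, TopCat.coe_comp, (show Function.Surjective e.hom.base from e.hom.homeomorph.surjective).range_comp, hqr]

end Groth.Agent.S8319
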