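import Groth.Agent.L18.Contract.Factor
import Groth.Agent.S8319
import Mathlib.AlgebraicGeometry.Morphisms.Proper
import Groth.Statements.S8320
-- import your own Groth.Agent.* helpers here

set_option autoImplicit false
universe u
open CategoryTheory CategoryTheory.Limits AlgebraicGeometry Opposite TopologicalSpace
open scoped HomogeneousIdeal
noncomputable section
open EGA2

namespace Groth.Agent.S8320

/-- Let p : X → Y be a proper morphism with p^♯ : O_Y → p_*O_X an isomorphism, L an invertible
O_X-module ample relative to p, V = V(L) = Spec(Sym L) with projection π and zero section j0 (the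
vertex section), C a scheme over Y (structure morphism g) with a section ε and a Y-morphism q : V →
C with j0 ≫ q = p ≫ ε; let C' = Spec(𝒮') with 𝒮' = ⊕_{n≥0} p_*(L^{⊗n}) = (p∘π)_*O_V (the relative
spectrum over Y of the direct-image algebra of p∘π) and q' : V → C' the canonical Y-morphism (the
one corresponding to the identity of (p∘π)_*O_V under the universal property of the relative
spectrum); suppose moreover that X is integral, that C is normal (all its local rings are integrally
closed domains), that q is proper and that the restriction of q to V0 = V − j0(X) is an open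
immersion with image exactly C − ε(Y). Then every morphism u : C' → C over Y with q = q' ≫ u is an
isomorphism. (The published statement assumes only the commutativity j0 ≫ q = p ≫ ε; this row also
assumes q proper and q restricted to V − j0(X) an open immersion onto C − ε(Y), without which the
conclusion fails: for C = Y, ε the identity and q the structure morphism of V, the morphism u is the
structure morphism C' → Y, which is not an isomorphism in general (X the projective line over a
field k, Y = C = Spec k, L of degree one: C' is the affine plane).) -/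
theorem result {X Y C : Scheme.{u}} (p : X ⟶ Y) [IsProper p] (hθ : IsIso p.c)
    (L : X.Modules) (hL : PicF.IsInvertible L) (hLq : Coh.IsQCoh L) (hamp : RelAmple.IsRelAmple p L)
    (𝒜 : RelProj.QCGrAlg X) (jL : L ⟶ 𝒜.toModule) (hA : RelProj.IsGrSymAlg L 𝒜 jL) (h0 : RelCone.StrZeroBij 𝒜)
    (aug : 𝒜.toQCAlg ⟶ RelSpec.QCAlg.unit X) (haug : RelCone.IsAugmentation 𝒜 aug)
    (j0 : X ⟶ 𝒜.toQCAlg.spec) (hj0 : RelCone.IsVertex 𝒜 aug j0)
    (g : C ⟶ Y) (ε : Y ⟶ C) (hε : ε ≫ g = 𝟙 Y) (q : 𝒜.toQCAlg.spec ⟶ C)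
    (hqg : q ≫ g = 𝒜.toQCAlg.π ≫ p) (hjq : j0 ≫ q = p ≫ ε)
    (q' : 𝒜.toQCAlg.spec ⟶ (RelSpec.QCAlg.directImage (𝒜.toQCAlg.π ≫ p)).spec)
    (hq'π : q' ≫ (RelSpec.QCAlg.directImage (𝒜.toQCAlg.π ≫ p)).π = 𝒜.toQCAlg.π ≫ p)
    (hq' : AffAlg.algHom (RelSpec.QCAlg.directImage (𝒜.toQCAlg.π ≫ p)).π (𝒜.toQCAlg.π ≫ p) q' hq'π = (RelSpec.QCAlg.directImage (𝒜.toQCAlg.π ≫ p)).gammaMap)
    [IsIntegral X] (hC : Pi1.IsNormalScheme C)
    [IsProper q] (V0 : 𝒜.toQCAlg.spec.Opens) (hV0 : (V0 : Set 𝒜.toQCAlg.spec) = (Set.range j0.base)ᶜ)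
    (hqo : IsOpenImmersion (V0.ι ≫ q)) (hqr : Set.range (V0.ι ≫ q).base = (Set.range ε.base)ᶜ)
    (u : (RelSpec.QCAlg.directImage (𝒜.toQCAlg.π ≫ p)).spec ⟶ C) (hug : u ≫ g = (RelSpec.QCAlg.directImage (𝒜.toQCAlg.π ≫ p)).π) (hu : q' ≫ u = q) :
    IsIso u := by
  haveI := hLq
  obtain ⟨huc, hsurj, hui, -⟩ := Groth.Agent.S8319.result p hθ L hL hLq hamp 𝒜 jL hA h0 aug haug j0 hj0 g ε hε q hqg hjq
    q' hq'π hq' V0 hV0 hqo hqr u hug hu
  haveI := huc
  haveI := hui
  obtain ⟨ε', hε', hjq', hp', hopen, hr, himg, hsur, hbij⟩ :=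
    Groth.L18.Contract.directImage_props p hL hA h0 haug hj0 V0 hV0 hθ hamp q' hq'π hq'
  haveI := hqo
  haveI := Groth.L18.Contract.isIntegral_spec hL hA hj0
  haveI : Surjective q := by
    haveI := hsur
    haveI : Surjective u := ⟨hsurj⟩
    rw [← hu]
    infer_instance
  haveI : IrreducibleSpace C := by
    rw [irreducibleSpace_def, Set.top_eq_univ, ← Set.image_univ_of_surjective q.surjective]
    exact (IrreducibleSpace.isIrreducible_univ _).image _ q.continuous.continuousOn
  haveI : IsReduced C := by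
    haveI : ∀ c : C, _root_.IsReduced (C.presheaf.stalk c) := fun c => by
      haveI := (hC c).1
      infer_instance
    exact isReduced_of_isReduced_stalk _
  haveI : IsIntegral C := isIntegral_of_irreducibleSpace_of_isReduced _
  set η := genericPoint 𝒜.toQCAlg.spec
  have hηV : η ∈ V0 := by
    have hne : (V0 : Set 𝒜.toQCAlg.spec).Nonempty := by
      obtain ⟨x⟩ : Nonempty X := inferInstance
      obtain ⟨U, hU, e, hxU, -, he⟩ := Groth.L18.SymInv.exists_affine_frame (L := L) hL x ⊤ trivial
      by_contra h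
      have hb := Groth.L18.Contract.basicOpen_lin jL hA h0 haug hj0 V0 hV0 he
      rw [show V0 = ⊥ from Opens.ext (Set.not_nonempty_iff_eq_empty.1 h), bot_inf_eq] at hb
      have hb2 : Groth.L18.Contract.lin jL e = 0 := (basicOpen_eq_bot_iff _).1 hb
      haveI : Nonempty U := ⟨⟨x, hxU⟩⟩
      have h1 : Groth.L18.Contract.polyHom jL e Polynomial.X = Groth.L18.Contract.polyHom jL e 0 := by
        refine ((ConcreteCategory.isIso_iff_bijective
          ((Groth.L18.RelSpecAlg.gammaIso 𝒜.toQCAlg).inv.app (op U))).1 inferInstance).1 ?_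
        rw [map_zero, map_zero, ← hb2]
        exact congrArg _ (Polynomial.eval₂_X _ _)
      exact Polynomial.X_ne_zero ((Groth.L18.Contract.polyHom_bijective hA hU he).1 h1)
    exact ((genericPoint_spec 𝒜.toQCAlg.spec).mem_open_set_iff V0.2).2 (by simpa using hne)
  have hqη : q.base η = genericPoint C := by
    refine ((genericPoint_spec C).eq ?_).symm
    have := (genericPoint_spec 𝒜.toQCAlg.spec).image q.continuous
    rwa [Set.image_univ_of_surjective q.surjective, closure_univ] at this
  haveI : IsIso (q.stalkMap η) := by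
    haveI : IsIso ((V0.ι ≫ q).stalkMap ⟨η, hηV⟩) := inferInstance
    rw [Scheme.Hom.stalkMap_comp] at this
    exact @IsIso.of_isIso_comp_right _ _ _ _ _ (q.stalkMap η) _
      (LocallyRingedSpace.IsOpenImmersion.stalk_iso V0.ι.toLRSHom _) this
  have hU : ∀ U : C.Opens, IsAffineOpen U → Function.Bijective (q.app U) := by
    intro U hU
    by_cases hne : Nonempty U
    swap
    · have hbot : U = ⊥ := le_bot_iff.1 fun c hc => (hne ⟨⟨c, hc⟩⟩).elim
      subst hbot
      haveI : Subsingleton Γ(C, (⊥ : C.Opens)) := inferInstance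
      haveI : Subsingleton Γ(𝒜.toQCAlg.spec, q ⁻¹ᵁ (⊥ : C.Opens)) := by
        rw [show q ⁻¹ᵁ (⊥ : C.Opens) = ⊥ from rfl]; infer_instance
      exact ⟨fun a b _ => Subsingleton.elim a b, fun b => ⟨0, Subsingleton.elim _ b⟩⟩
    haveI := hne
    have hηU : genericPoint C ∈ U := ((genericPoint_spec C).mem_open_set_iff U.2).2
      (by obtain ⟨c, hc⟩ := hne; exact ⟨c, trivial, hc⟩)
    have key : ∀ z : C, z = genericPoint C → ∀ hz : z ∈ U, ∀ k : C.presheaf.stalk z,
        (∃ P : Polynomial Γ(C, U), P.Monic ∧ P.eval₂ (C.presheaf.germ U z hz).hom k = 0) →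
          ∃ x, C.presheaf.germ U z hz x = k := by
      rintro z rfl hz k ⟨P, hP, hP0⟩
      haveI := functionField_isFractionRing_of_isAffineOpen C U hU
      haveI := Groth.L18.isIntegrallyClosed_of_isNormalScheme hC hU
      exact IsIntegrallyClosed.isIntegral_iff.1 (show IsIntegral Γ(C, U) (k : C.functionField) from ⟨P, hP, hP0⟩)
    have hη : η ∈ q ⁻¹ᵁ U := show q.base η ∈ U from hqη ▸ hηU
    let ψ : Γ(𝒜.toQCAlg.spec, q ⁻¹ᵁ U) →+* C.presheaf.stalk (q.base η) :=
      (inv (q.stalkMap η)).hom.comp (𝒜.toQCAlg.spec.presheaf.germ (q ⁻¹ᵁ U) η hη).hom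
    have hψinj : Function.Injective ψ :=
      ((ConcreteCategory.isIso_iff_bijective (inv (q.stalkMap η))).1 inferInstance).1.comp
        (germ_injective_of_isIntegral _ η hη)
    have hψ : ∀ x, ψ (q.app U x) = C.presheaf.germ U (q.base η) hη x := fun x => by
      have h := q.germ_stalkMap_apply U η hη x
      show inv (q.stalkMap η) (𝒜.toQCAlg.spec.presheaf.germ (q ⁻¹ᵁ U) η hη (q.app U x)) = _
      rw [← h, ← CommRingCat.comp_apply, IsIso.hom_inv_id]
      rfl
    refine ⟨fun x x' hxx => germ_injective_of_isIntegral _ (q.base η) hη ((hψ x).symm.trans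
      ((congrArg ψ hxx).trans (hψ x'))), fun y => ?_⟩
    haveI : IsAffine U.toScheme := hU
    have hint := isIntegral_appTop_of_universallyClosed (q ∣_ U)
    obtain ⟨P, hP, hP0⟩ : ∃ P : Polynomial Γ(C, U), P.Monic ∧ P.eval₂ (q.app U).hom y = 0 := by
      have : (q.app U).hom.IsIntegral := by
        rw [morphismRestrict_appTop] at hint
        have h2 : ∀ (O : C.Opens) (e : O = U), (q.app O).hom.IsIntegral → (q.app U).hom.IsIntegral :=
          fun O e h => e ▸ h
        refine h2 _ U.ι_image_top ?_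
        intro z
        obtain ⟨P, hP, hP0⟩ := hint ((𝒜.toQCAlg.spec.presheaf.map (eqToHom (image_morphismRestrict_preimage q U ⊤)).op) z)
        refine ⟨P, hP, ?_⟩
        refine ((ConcreteCategory.isIso_iff_bijective (𝒜.toQCAlg.spec.presheaf.map
          (eqToHom (image_morphismRestrict_preimage q U ⊤)).op)).1 inferInstance).1 ?_
        rw [map_zero, Polynomial.hom_eval₂]
        exact hP0
      exact this y
    obtain ⟨x, hx⟩ := key _ hqη hη (ψ y) ⟨P, hP, by
      rw [show (C.presheaf.germ U (q.base η) hη).hom = ψ.comp (q.app U).hom from RingHom.ext fun x => (hψ x).symm,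
        ← Polynomial.hom_eval₂, hP0, map_zero]⟩
    exact ⟨x, hψinj ((hψ x).trans hx)⟩
  have happ : ∀ O : C.Opens, Function.Bijective (q.app O) :=
    fun O => Groth.L18.FactorDesc.app_bijective_of_affine q (𝟙 C) hU O
  have hub : ∀ O, Function.Bijective (u.app O) := fun O => by
    have h := happ O
    subst hu
    have h' : Function.Bijective (fun a => q'.app _ (u.app O a)) := h
    exact ⟨fun a b hab => h'.1 (congrArg (fun t => q'.app _ t) hab), fun z => by
      obtain ⟨x, hx⟩ := h'.2 (q'.app _ z)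
      exact ⟨x, (hbij _).1 hx⟩⟩
  haveI : Surjective u := ⟨hsurj⟩
  obtain ⟨w, hw, -⟩ := Groth.L18.FactorDesc.existsUnique_desc u u.isClosedMap hub (𝟙 _)
    (fun a b hab => u.injective hab)
  haveI : Epi u := Groth.Agent.S2913.result u fun U => (hub U).1
  exact ⟨w, hw, by rw [← cancel_epi u, reassoc_of% hw, Category.comp_id]⟩

end Groth.Agent.S8320
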