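import Groth.Statements.S8346
import Groth.Agent.L06.Constr

set_option autoImplicit false
universe u
open ConstrTop

namespace Groth.Agent.S8346

open TopologicalSpace in
/-- Let X be a topological space admitting a basis of open subsets which are retrocompact in X. Then
every locally constructible subset T of X is retrocompact in X. -/
theorem result {X : Type u} [TopologicalSpace X]
    {B : Set (Set X)} (hB : IsTopologicalBasis B) (hBr : ∀ U ∈ B, IsRetrocompact U) {T : Set X}
    (hT : Topology.IsLocallyConstructible T) : IsRetrocompact T := by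
  intro W hWc hWo
  have h : ∀ x, ∃ B' ∈ B, x ∈ B' ∧ Topology.IsConstructible ((Subtype.val : B' → X) ⁻¹' T) := by
    intro x
    obtain ⟨U, hxU, hU, hUT⟩ := hT x
    obtain ⟨B', hB', hxB', hsub⟩ := hB.exists_subset_of_mem_open (mem_of_mem_nhds hxU) hU
    exact ⟨B', hB', hxB', (hUT.preimage_of_isOpenEmbedding
      (Topology.IsOpenEmbedding.id.restrict hsub (hB.isOpen hB')) :)⟩
  choose b hb hxb hbT using h
  obtain ⟨σ, -, hσ⟩ := hWc.elim_nhds_subcover b (fun x _ => (hB.isOpen (hb x)).mem_nhds (hxb x))
  have heq : T ∩ W = ⋃ x ∈ σ, Subtype.val '' ((Subtype.val : b x → X) ⁻¹' T ∩ Subtype.val ⁻¹' W) := by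
    ext y
    simp only [Set.mem_iUnion, ← Set.preimage_inter, Subtype.image_preimage_coe, Set.mem_inter_iff]
    exact ⟨fun hy => by obtain ⟨x, hx, hyx⟩ := Set.mem_iUnion₂.mp (hσ hy.2); exact ⟨x, hx, hyx, hy⟩,
      fun ⟨_, _, _, hy⟩ => hy⟩
  rw [heq]
  refine σ.finite_toSet.isCompact_biUnion fun x _ => IsCompact.image ?_ continuous_subtype_val
  refine Groth.L06.Constr.isRetrocompact (hbT x) ?_ (hWo.preimage continuous_subtype_val)
  rw [Subtype.isCompact_iff, Subtype.image_preimage_coe]
  exact hBr _ (hb x) hWc hWo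

end Groth.Agent.S8346
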