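import Groth.Statements.S8347
import Groth.Agent.L10.SpSeq.Abstract

set_option autoImplicit false
set_option backward.defeqAttrib.useBackward true
set_option backward.isDefEq.respectTransparency false
universe v u
open CategoryTheory CategoryTheory.Limits
open SpSeq

namespace Groth.Agent.S8347

/-- Let E be a spectral sequence in an abelian category with abutment data (H^m), and suppose that for
some page r and every total degree m there is an integer q(m) such that E_r^{m-q,q} = 0 for every q
other than q(m). Let n be a total degree such that the filtration of H^n is discrete (some step is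
zero) and exhaustive (H^n is the supremum of the steps), and such that the position (n - q(n), q(n))
is stationary from page r on. Then H^n is isomorphic to E_r^{n-q(n), q(n)}. (The published statement
asserts this without any condition on the differentials at the surviving positions; that version
fails when a differential d_r links the surviving terms of two consecutive total degrees, for
instance a spectral sequence whose only nonzero page-2 terms are E_2^{0,1} and E_2^{2,0} with d_2 an
isomorphism between them and zero abutment. The stationarity assumed here is automatic when q(m)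
does not depend on m and r ≥ 2.) -/
theorem result {C : Type u} [Category.{v} C] [Abelian C] {r₀ : ℤ}
    (E : CohomologicalSpectralSequence C r₀) {H : ℤ → C} (a : SpSeq.Abutment E H)
    (r : ℤ) (hr : r₀ ≤ r) (q : ℤ → ℤ)
    (hdeg : ∀ m q' : ℤ, q' ≠ q m → IsZero ((E.page r hr).X (m - q', q')))
    (n : ℤ) (hdisc : (a.filObj n).IsDiscrete) (hexh : a.IsExhaustive n)
    (hst : SpSeq.StationaryAt E (n - q n, q n) r) :
    Nonempty (H n ≅ (E.page r hr).X (n - q n, q n)) := by
  have hz : ∀ p : ℤ, p ≠ n - q n → IsZero ((a.filObj n).gr p) := fun p hp => by
    refine Groth.L10.SpSeqAbs.isZero_filObj_gr a n p r hr ?_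
    have := hdeg n (n - p) (by omega)
    rwa [sub_sub_cancel] at this
  have htop : (a.filObj n).fil (n - q n) = ⊤ :=
    Groth.L10.SpSeqAbs.fil_eq_top_of_exhaustive _ hexh _ fun p hp => hz p (by omega)
  have hbot : (a.filObj n).fil (n - q n + 1) = ⊥ :=
    Groth.L10.SpSeqAbs.fil_eq_bot _ hdisc _ fun p hp => hz p (by omega)
  have := Groth.L10.SpSeqAbs.isIso_gr_π (a.filObj n) (n - q n) hbot
  have : IsIso ((a.filObj n).fil (n - q n)).arrow := (Subobject.isIso_arrow_iff_eq_top _).2 htop
  obtain ⟨e⟩ := Groth.L10.SpSeqAbs.β' a n (n - q n)
  have hst' : SpSeq.StationaryAt E (n - q n, n - (n - q n)) r := by rwa [sub_sub_cancel]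
  obtain ⟨e'⟩ := Groth.L10.SpSeqAbs.nonempty_iso E (a.stat (n - q n, n - (n - q n))) hst'
  exact ⟨(asIso ((a.filObj n).fil (n - q n)).arrow).symm ≪≫
    asIso (cokernel.π (((a.filObj n).fil (n - q n + 1)).ofLE ((a.filObj n).fil (n - q n))
      ((a.filObj n).anti (Int.le_add_one le_rfl)))) ≪≫ e.symm ≪≫ e' ≪≫ eqToIso (congrArg (fun z => (E.page r hr).X (n - q n, z)) (sub_sub_cancel n (q n)))⟩

end Groth.Agent.S8347
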