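import Groth.Statements.S8348
import Mathlib.Algebra.Homology.ShortComplex.Exact
import Mathlib.Algebra.Homology.ShortComplex.ShortExact

set_option autoImplicit false
universe v u
open CategoryTheory CategoryTheory.Limits
open HomAlg3

namespace Groth.Agent.S8348

theorem injective_of_split {C : Type u} [Category.{v} C] [Abelian C] (Q : CochainComplex C ℕ)
    (hinj : ∀ i : ℕ, Injective (Q.X i)) (hac : ∀ i : ℕ, IsZero (Q.homology (i + 1)))
    (hsplit : ∀ i : ℕ, IsSplitMono (Q.iCycles i)) : Injective Q := by
  let r : ∀ i, Q.X i ⟶ Q.cycles i := fun i => haveI := hsplit i; retraction (Q.iCycles i)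
  have hr : ∀ i, Q.iCycles i ≫ r i = 𝟙 _ := fun i => haveI := hsplit i; IsSplitMono.id (Q.iCycles i)
  have hepi : ∀ i, Epi (Q.toCycles i (i + 1)) := fun i => by
    have h := Preadditive.epi_of_isZero_cokernel'
      (CokernelCofork.ofπ (Q.homologyπ (i + 1)) (Q.toCycles_comp_homologyπ i (i + 1)))
      (Q.homologyIsCokernel i (i + 1) (CochainComplex.prev_nat_succ i)) (hac i)
    exact h
  haveI : ∀ i, Injective (Q.cycles i) := fun i => by
    haveI := hinj i
    exact Retract.injective ⟨Q.iCycles i, r i, hr i⟩
  let sc : ∀ i, ShortComplex C := fun i => ShortComplex.mk (Q.iCycles i) (Q.toCycles i (i + 1)) (by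
    rw [← cancel_mono (Q.iCycles (i + 1)), Category.assoc, Q.toCycles_i, Q.iCycles_d, zero_comp])
  have hsc : ∀ i, (sc i).Exact := fun i => by
    refine ShortComplex.exact_of_f_is_kernel _ (KernelFork.IsLimit.ofι' _ _ fun {W} k hk => ?_)
    change k ≫ Q.toCycles i (i + 1) = 0 at hk
    refine ⟨Q.liftCycles k (i + 1) (CochainComplex.next ℕ i) ?_, Q.liftCycles_i _ _ _ _⟩
    rw [← Q.toCycles_i i (i + 1), ← Category.assoc, hk, zero_comp]
  let sp : ∀ i, (sc i).Splitting := fun i =>
    haveI := hepi i
    ShortComplex.Splitting.ofExactOfRetraction (sc i) (hsc i) (r i) (hr i) (show Epi (Q.toCycles i (i + 1)) from hepi i)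
  have hid : ∀ i, r i ≫ Q.iCycles i + Q.toCycles i (i + 1) ≫ (sp i).s = 𝟙 _ := fun i => (sp i).id
  refine ⟨fun {X Y} g f _ => ?_⟩
  let φ : ∀ i, Y.X i ⟶ Q.cycles i := fun i => Injective.factorThru (g.f i ≫ r i) (f.f i)
  have hφ : ∀ i, f.f i ≫ φ i = g.f i ≫ r i := fun i => Injective.comp_factorThru _ _
  have hs : ∀ i, (sp i).s ≫ Q.d i (i + 1) = Q.iCycles (i + 1) := fun i => by
    rw [← Q.toCycles_i i (i + 1), ← Category.assoc,
      show (sp i).s ≫ Q.toCycles i (i + 1) = 𝟙 _ from (sp i).s_g, Category.id_comp]
  refine ⟨{ f := fun i => φ i ≫ Q.iCycles i + Y.d i (i + 1) ≫ φ (i + 1) ≫ (sp i).s, comm' := ?_ }, ?_⟩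
  · rintro i j (rfl : i + 1 = j)
    simp [hs]
  · ext i
    show f.f i ≫ (φ i ≫ Q.iCycles i + Y.d i (i + 1) ≫ φ (i + 1) ≫ (sp i).s) = g.f i
    rw [Preadditive.comp_add, reassoc_of% (hφ i), f.comm_assoc, reassoc_of% (hφ (i + 1))]
    have hd : X.d i (i + 1) ≫ g.f (i + 1) ≫ r (i + 1) = g.f i ≫ Q.toCycles i (i + 1) := by
      rw [← g.comm_assoc]
      congr 1
      rw [← Q.toCycles_i i (i + 1), Category.assoc, hr, Category.comp_id]
    rw [reassoc_of% hd, ← Preadditive.comp_add, hid, Category.comp_id]

/-- Let C be an abelian category and Q a cochain complex of objects of C in degrees 0, 1, 2, ... such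
that every Q^i is injective, every homology object H^i(Q) with i ≥ 1 is zero, and every inclusion of
the cycles Z^i(Q) into Q^i (i ≥ 0) is a split monomorphism. Then Q is an injective object of the
category of cochain complexes of C indexed by the natural numbers. (The published statement is for
the narrower class of complexes with Z^i(Q) = B^i(Q) for every i ≥ 0, which in degree 0, where there
is no incoming differential, forces Z^0(Q) = 0; this row allows a nonzero Z^0(Q), so that it pairs
with the embedding of an arbitrary complex into such a Q. Such a Q is the direct sum of Z^0(Q)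
placed in degree 0 and of the two-term complexes with Z^{i+1}(Q) in degrees i and i+1 and the
identity as differential, and the published argument carries over with Z^i(Q) in place of B^i(Q) as
the first summand of Q^i.) -/
theorem result {C : Type u} [Category.{v} C] [Abelian C]
    (Q : CochainComplex C ℕ) (hinj : ∀ i : ℕ, Injective (Q.X i)) (hac : ∀ i : ℕ, IsZero (Q.homology (i + 1)))
    (hsplit : ∀ i : ℕ, IsSplitMono (Q.iCycles i)) : Injective Q := by

    exact injective_of_split Q hinj hac hsplit

end Groth.Agent.S8348
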