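import Groth.Statements.S8349
import Mathlib.Algebra.Homology.ShortComplex.Exact
import Mathlib.CategoryTheory.Abelian.Refinements

set_option autoImplicit false
universe v u
open CategoryTheory CategoryTheory.Limits
open HomAlg3

namespace Groth.Agent.S8349

theorem exists_embedding {C : Type u} [Category.{v} C] [Abelian C] [EnoughInjectives C] (A : CochainComplex C ℕ) :
    ∃ (Q : CochainComplex C ℕ) (f : A ⟶ Q), Mono f ∧ (∀ i : ℕ, Injective (Q.X i)) ∧
      (∀ i : ℕ, IsZero (Q.homology (i + 1))) ∧ ∀ i : ℕ, IsSplitMono (Q.iCycles i) := by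
  let J : ℕ → C := fun i => Injective.under (A.X i)
  let Q : CochainComplex C ℕ := CochainComplex.of (fun i => J i ⊞ J (i + 1))
    (fun i => biprod.snd ≫ biprod.inl) (fun i => by simp)
  have hQd : ∀ i, Q.d i (i + 1) = (biprod.snd ≫ biprod.inl : J i ⊞ J (i + 1) ⟶ J (i + 1) ⊞ J (i + 1 + 1)) :=
    fun i => (CochainComplex.of_d (fun i => J i ⊞ J (i + 1)) (fun i => biprod.snd ≫ biprod.inl) i :)
  let f : A ⟶ Q :=
    { f := fun i => biprod.lift (Injective.ι (A.X i)) (A.d i (i + 1) ≫ Injective.ι (A.X (i + 1)))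
      comm' := by
        rintro i j (rfl : i + 1 = j)
        rw [hQd]
        ext <;> simp [J] }
  refine ⟨Q, f, ?_, fun i => (inferInstance : Injective (J i ⊞ J (i + 1))), fun i => ?_, fun i => ?_⟩
  · haveI : ∀ i, Mono (f.f i) := fun i => mono_of_mono_fac (h := Injective.ι (A.X i))
      (show f.f i ≫ (biprod.fst : J i ⊞ J (i + 1) ⟶ J i) = _ from biprod.lift_fst _ _)
    exact HomologicalComplex.mono_of_mono_f f inferInstance
  · rw [← HomologicalComplex.exactAt_iff_isZero_homology, HomologicalComplex.exactAt_iff' _ i (i + 1) (i + 1 + 1)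
      (CochainComplex.prev_nat_succ i) (CochainComplex.next ℕ (i + 1))]
    rw [ShortComplex.exact_iff_exact_up_to_refinements]
    intro W x hx
    obtain ⟨x', rfl⟩ : ∃ x' : W ⟶ J (i + 1) ⊞ J (i + 1 + 1), x' = x := ⟨x, rfl⟩
    change x' ≫ Q.d (i + 1) (i + 1 + 1) = 0 at hx
    rw [hQd] at hx
    have hx' : x' ≫ biprod.snd = 0 := by
      have := congrArg (fun z => z ≫ (biprod.fst : J (i + 1 + 1) ⊞ J (i + 1 + 1 + 1) ⟶ J (i + 1 + 1))) hx
      simpa using this
    refine ⟨W, 𝟙 _, inferInstance, (x' ≫ biprod.fst ≫ biprod.inr : W ⟶ J i ⊞ J (i + 1)), ?_⟩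
    have key : x' = (x' ≫ biprod.fst ≫ (biprod.inr : J (i + 1) ⟶ J i ⊞ J (i + 1))) ≫
        ((biprod.snd : J i ⊞ J (i + 1) ⟶ J (i + 1)) ≫ (biprod.inl : J (i + 1) ⟶ J (i + 1) ⊞ J (i + 1 + 1))) := by
      ext
      · simp
      · simp [hx']
    refine (Category.id_comp _).trans ?_
    show x' = (x' ≫ biprod.fst ≫ biprod.inr : W ⟶ J i ⊞ J (i + 1)) ≫ Q.d i (i + 1)
    rw [hQd]
    exact key
  · refine ⟨⟨⟨Q.liftCycles ((biprod.fst : J i ⊞ J (i + 1) ⟶ J i) ≫ biprod.inl) (i + 1) (CochainComplex.next ℕ i) ?_, ?_⟩⟩⟩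
    · rw [hQd]
      simp
    · rw [← cancel_mono (Q.iCycles i), Category.assoc, HomologicalComplex.liftCycles_i, Category.id_comp]
      have h : Q.iCycles i ≫ (biprod.snd : J i ⊞ J (i + 1) ⟶ J (i + 1)) = 0 := by
        rw [← cancel_mono (biprod.inl : J (i + 1) ⟶ J (i + 1) ⊞ J (i + 1 + 1)), zero_comp, Category.assoc, ← hQd]
        exact Q.iCycles_d i (i + 1)
      ext
      · simp
      · rw [Category.assoc, Category.assoc, biprod.inl_snd, comp_zero, comp_zero]
        exact h.symm

/-- Let C be an abelian category in which every object embeds in an injective object, and let A be a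
cochain complex of objects of C in degrees 0, 1, 2, .... Then there are a cochain complex Q, with
every Q^i injective, H^i(Q) = 0 for every i ≥ 1 and every cycle inclusion Z^i(Q) ⟶ Q^i (i ≥ 0) a
split monomorphism, and a monomorphism of complexes A ⟶ Q. (The published statement asks Z^i(Q) =
B^i(Q) for every i ≥ 0; in degree 0, where there is no incoming differential, this makes Z^0(Q) = 0,
and then no complex with nonzero degree-0 cycles, for instance a nonzero object placed in degree 0,
embeds in such a Q, because the degree-0 component of a chain map into Q factors through Z^0(Q).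
This row asks vanishing homology in positive degrees only; the published construction, which embeds
each A^i in an injective I^i and takes Q^i = I^i ⊕ I^{i+1}, proves that version once an injective
I^0 containing A^0 is used in degree 0 as well.) -/
theorem result {C : Type u} [Category.{v} C] [Abelian C]
    [EnoughInjectives C] (A : CochainComplex C ℕ) :
    ∃ (Q : CochainComplex C ℕ) (f : A ⟶ Q), Mono f ∧ (∀ i : ℕ, Injective (Q.X i)) ∧
      (∀ i : ℕ, IsZero (Q.homology (i + 1))) ∧ ∀ i : ℕ, IsSplitMono (Q.iCycles i) := by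

    exact exists_embedding A

end Groth.Agent.S8349
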