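import Groth.Statements.S8350
import Groth.Agent.L10.RDer.Horseshoe

set_option autoImplicit false
universe v u
open CategoryTheory CategoryTheory.Limits
open HomAlg3

namespace Groth.Agent.S8350

section

variable {C : Type u} [Category.{v} C] [Abelian C]

/-- Transport a resolution along an isomorphism. -/
noncomputable def resOfIso {A B : C} (I : InjectiveResolution A) (e : B ≅ A) : InjectiveResolution B where
  cocomplex := I.cocomplex
  injective := I.injective
  ι := (CochainComplex.single₀ C).map e.hom ≫ I.ι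
  quasiIso := inferInstance

variable [EnoughInjectives C]

theorem exists_extend {A B : C} (m : A ⟶ B) [Mono m] (I : InjectiveResolution A) :
    ∃ (J : InjectiveResolution B) (φ : I.cocomplex ⟶ J.cocomplex), Mono φ ∧
      I.ι ≫ φ = (CochainComplex.single₀ C).map m ≫ J.ι ∧ (IsIso m → IsIso φ) := by
  by_cases hm : IsIso m
  · refine ⟨resOfIso I (asIso m).symm, 𝟙 I.cocomplex, mono_of_mono (𝟙 I.cocomplex) (𝟙 _), ?_, fun _ => IsIso.id _⟩
    show I.ι ≫ 𝟙 I.cocomplex = _ ≫ (CochainComplex.single₀ C).map (inv m) ≫ I.ι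
    rw [← Category.assoc _ _ I.ι, ← Functor.map_comp, IsIso.hom_inv_id, CategoryTheory.Functor.map_id,
      Category.id_comp, Category.comp_id]
  · have hS : (ShortComplex.mk m (cokernel.π m) (cokernel.condition m)).ShortExact :=
      ⟨ShortComplex.exact_cokernel m⟩
    let T := Groth.L10.RDerSES.sesRes hS I (injectiveResolution (cokernel m))
    exact ⟨T.I₂, T.f, T.shortExact.mono_f, T.ι_f, fun h => absurd h hm⟩

theorem isIso_ofLE {A : C} {S S' : Subobject A} (h : S ≤ S') (e : S = S') : IsIso (S.ofLE S' h) := by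
  subst e
  rw [Subobject.ofLE_refl]
  infer_instance

/-- The conditions on the pieces of a filtered resolution down to the level `p`. -/
def Piece (K : SpSeq.FilObj C) (p : ℤ) (X : InjectiveResolution (K.step p)) (G : ℤ → Subobject X.cocomplex) : Prop :=
  Antitone G ∧ (K.fil p = ⊥ → IsZero X.cocomplex) ∧ (∀ i ≤ p, G i = ⊤) ∧ ∀ (i : ℤ) (h : p ≤ i),
    (K.fil i = ⊥ → G i = ⊥) ∧ (K.fil i = K.fil p → G i = ⊤) ∧
    (∀ j : ℕ, Injective ((G i : CochainComplex C ℕ).X j)) ∧
      ∃ ι : (CochainComplex.single₀ C).obj (K.step i) ⟶ (G i : CochainComplex C ℕ),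
        ι ≫ (G i).arrow = (CochainComplex.single₀ C).map ((K.fil i).ofLE (K.fil p) (K.anti h)) ≫ X.ι ∧ QuasiIso ι

theorem top_eq_bot {D : CochainComplex C ℕ} (h : IsZero D) : (⊤ : Subobject D) = ⊥ :=
  (Subobject.mk_eq_bot_iff_zero (f := 𝟙 D)).2 (h.eq_of_src _ _) ▸ (Subobject.top_eq_id D)

theorem top_piece (K : SpSeq.FilObj C) (p : ℤ) (X : InjectiveResolution (K.step p)) :
    (∀ j : ℕ, Injective (((⊤ : Subobject X.cocomplex) : CochainComplex C ℕ).X j)) ∧
      ∀ {A : C} (a : A ⟶ K.step p), IsIso a →
      ∃ ι : (CochainComplex.single₀ C).obj A ⟶ ((⊤ : Subobject X.cocomplex) : CochainComplex C ℕ),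
        ι ≫ (⊤ : Subobject X.cocomplex).arrow = (CochainComplex.single₀ C).map a ≫ X.ι ∧ QuasiIso ι := by
  refine ⟨fun j => Injective.of_iso ((HomologicalComplex.eval C _ j).mapIso (asIso (⊤ : Subobject X.cocomplex).arrow)).symm
    (X.injective j), fun {A} a ha => ⟨(CochainComplex.single₀ C).map a ≫ X.ι ≫ inv (⊤ : Subobject X.cocomplex).arrow,
      by simp, inferInstance⟩⟩

theorem exists_piece (K : SpSeq.FilObj C) (b : ℤ) (hb : K.fil b = ⊥) :
    ∀ k : ℕ, ∃ (X : InjectiveResolution (K.step (b - k))) (G : ℤ → Subobject X.cocomplex), Piece K (b - k) X G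
  | 0 => by
    suffices H : ∀ p : ℤ, p = b → ∃ (X : InjectiveResolution (K.step p)) (G : ℤ → Subobject X.cocomplex),
        Piece K p X G from H _ (by omega)
    rintro p rfl
    have hz : IsZero (K.step p) :=
      (isZero_zero C).of_iso ((Subobject.isoOfEq _ _ hb).trans Subobject.botCoeIsoZero)
    have : Injective (K.step p) := hz.injective
    let X := InjectiveResolution.self (K.step p)
    have hX : IsZero X.cocomplex := (CochainComplex.single₀ C).map_isZero hz
    refine ⟨X, fun _ => ⊤, fun _ _ _ => le_rfl, fun _ => hX, fun _ _ => rfl, fun i hi => ?_⟩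
    have hi' : K.fil i = K.fil p := le_antisymm (K.anti hi) (by rw [hb]; exact bot_le)
    haveI := isIso_ofLE (K.anti hi) hi'
    exact ⟨fun _ => top_eq_bot hX, fun _ => rfl, (top_piece K p X).1,
      (top_piece K p X).2 ((K.fil i).ofLE (K.fil p) (K.anti hi)) this⟩
  | k + 1 => by
    obtain ⟨X, G, hanti, hzero, htop, hG⟩ := exists_piece K b hb k
    let p : ℤ := b - ((k + 1 : ℕ) : ℤ)
    have hpk : b - (k : ℤ) = p + 1 := by simp only [p]; omega
    have hle : K.fil (b - k) ≤ K.fil p := K.anti (by lia)
    obtain ⟨J, φ, hφ, hι, hiso⟩ := exists_extend ((K.fil (b - k)).ofLE (K.fil p) hle) X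
    have hzero' : K.fil p = ⊥ → IsZero J.cocomplex := fun h => by
      have he : K.fil (b - k) = K.fil p := le_antisymm hle (by rw [h]; exact bot_le)
      have := hiso (isIso_ofLE hle he)
      exact (hzero (he.trans h)).of_iso (asIso φ).symm
    refine ⟨J, fun i => if i ≤ p then ⊤ else (Subobject.map φ).obj (G i), ?_, hzero', fun i hi => if_pos hi, ?_⟩
    · intro i i' h
      by_cases hi : i ≤ p
      · simp [hi]
      · have hi' : ¬ i' ≤ p := by lia
        simp only [hi, hi', if_false]
        exact ((Subobject.map φ).map (homOfLE (hanti h))).le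
    · intro i hi
      suffices H : ∀ T : Subobject J.cocomplex,
          T = (if i ≤ p then ⊤ else (Subobject.map φ).obj (G i)) →
          (K.fil i = ⊥ → T = ⊥) ∧ (K.fil i = K.fil p → T = ⊤) ∧
            (∀ j : ℕ, Injective ((T : CochainComplex C ℕ).X j)) ∧
            ∃ ι : (CochainComplex.single₀ C).obj (K.step i) ⟶ (T : CochainComplex C ℕ),
              ι ≫ T.arrow = (CochainComplex.single₀ C).map ((K.fil i).ofLE (K.fil p) (K.anti hi)) ≫ J.ι ∧
                QuasiIso ι from H _ rfl
      intro T hT
      by_cases hip : i ≤ p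
      · obtain rfl : i = p := le_antisymm hip hi
        rw [if_pos le_rfl] at hT
        subst hT
        refine ⟨fun h => top_eq_bot (hzero' h), fun _ => rfl, (top_piece K p J).1, ?_⟩
        exact (top_piece K p J).2 _ (isIso_ofLE _ rfl)
      · rw [if_neg hip] at hT
        subst hT
        have hki : b - (k : ℤ) ≤ i := by lia
        obtain ⟨hbot, htop', hinj, ι, hι', hq⟩ := hG i hki
        let e : (((Subobject.map φ).obj (G i) : Subobject J.cocomplex) : CochainComplex C ℕ) ≅
            (G i : CochainComplex C ℕ) :=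
          Subobject.isoOfEq _ (Subobject.mk ((G i).arrow ≫ φ))
            (by rw [← Subobject.map_mk, Subobject.mk_arrow]) ≪≫ Subobject.underlyingIso _
        have he : e.inv ≫ ((Subobject.map φ).obj (G i)).arrow = (G i).arrow ≫ φ := by simp [e]
        refine ⟨fun h => by rw [hbot h, Subobject.map_bot], fun h => ?_, fun j => ?_, ι ≫ e.inv, ?_, inferInstance⟩
        · have h1 : K.fil (b - k) = K.fil p := le_antisymm hle (h.symm.le.trans (K.anti hki))
          have := hiso (isIso_ofLE hle h1)
          rw [htop' (h.trans h1.symm), Subobject.map_top]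
          exact (Subobject.isIso_iff_mk_eq_top φ).1 this
        · exact Injective.of_iso ((HomologicalComplex.eval C _ j).mapIso e).symm (hinj j)
        · rw [Category.assoc, he, reassoc_of% hι', hι, ← Functor.map_comp_assoc, Subobject.ofLE_comp_ofLE]

end


/-- Let C be an abelian category in which every object embeds in an injective object, and let A be an
object of C with a finite decreasing filtration (F^i A). Then there are an injective resolution X of
A and a decreasing filtration of X by subcomplexes F^i X such that F^i X = X when F^i A = A, F^i X =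
0 when F^i A = 0, and, for every i, F^i X is a complex of injective objects into which F^i A (placed
in degree 0) maps, compatibly with the augmentation A ⟶ X, by a quasi-isomorphism; thus F^i X is an
injective resolution of F^i A. -/
theorem result {C : Type u} [Category.{v} C] [Abelian C] [EnoughInjectives C]
    (K : SpSeq.FilObj C) (hK : K.IsFinite) :
    ∃ (X : InjectiveResolution K.obj) (G : ℤ → Subobject X.cocomplex), Antitone G ∧
      (∀ i : ℤ, K.fil i = ⊤ → G i = ⊤) ∧ (∀ i : ℤ, K.fil i = ⊥ → G i = ⊥) ∧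
      ∀ i : ℤ, (∀ j : ℕ, Injective ((G i : CochainComplex C ℕ).X j)) ∧
        ∃ ι : (CochainComplex.single₀ C).obj (K.step i) ⟶ (G i : CochainComplex C ℕ),
          ι ≫ (G i).arrow = (CochainComplex.single₀ C).map (K.fil i).arrow ≫ X.ι ∧ QuasiIso ι := by
  obtain ⟨⟨a₀, ha₀⟩, b, hb⟩ := hK
  let a := min a₀ b
  have ha : K.fil a = ⊤ := top_unique (ha₀.symm.le.trans (K.anti (min_le_left _ _)))
  obtain ⟨X, G, hanti, hzero, htop, hG⟩ := exists_piece K b hb (b - a).toNat
  have hp : b - ((b - a).toNat : ℤ) = a := by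
    rw [Int.toNat_of_nonneg (by simp [a])]; omega
  generalize b - ((b - a).toNat : ℤ) = p at X G hanti hzero htop hG hp
  subst hp
  have : IsIso (K.fil (min a₀ b)).arrow := (Subobject.isIso_arrow_iff_eq_top _).2 ha
  let e : K.obj ≅ K.step (min a₀ b) := (asIso (K.fil (min a₀ b)).arrow).symm
  refine ⟨resOfIso X e, G, hanti, fun i hi => ?_, fun i hi => ?_, fun i => ?_⟩
  · rcases le_total i (min a₀ b) with h | h
    · exact htop i h
    · exact (hG i h).2.1 (hi.trans ha.symm)
  · rcases le_total i (min a₀ b) with h | h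
    · have h0 : K.fil (min a₀ b) = ⊥ := le_bot_iff.1 ((K.anti h).trans hi.le)
      exact (htop i h).trans (top_eq_bot (hzero h0))
    · exact (hG i h).1 hi
  · rcases le_total i (min a₀ b) with h | h
    · have hi : IsIso (K.fil i).arrow :=
        (Subobject.isIso_arrow_iff_eq_top _).2 (top_unique (ha.symm.le.trans (K.anti h)))
      obtain ⟨ι, hι, hq⟩ := (top_piece K (min a₀ b) X).2 ((K.fil i).arrow ≫ e.hom) inferInstance
      rw [htop i h]
      refine ⟨(top_piece K (min a₀ b) X).1, ι, ?_, hq⟩
      refine hι.trans ?_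
      rw [Functor.map_comp, Category.assoc]
      rfl
    · obtain ⟨-, -, hinj, ι, hι, hq⟩ := hG i h
      refine ⟨hinj, ι, hι.trans ?_, hq⟩
      show _ = _ ≫ (CochainComplex.single₀ C).map e.hom ≫ X.ι
      rw [← Functor.map_comp_assoc]
      congr 2
      rw [← cancel_mono (K.fil (min a₀ b)).arrow]
      simp [e]
      exact Subobject.ofLE_arrow _

end Groth.Agent.S8350
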