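import Groth.Statements.S8352
import Groth.Agent.L04.MLSys
import Mathlib.Tactic.Abel

set_option autoImplicit false
universe u
open CategoryTheory CategoryTheory.Limits Opposite
open HomAlg3

namespace Groth.Agent.S8352

open Groth.L04.MLSys CategoryTheory CategoryTheory.Limits Opposite

/-- Category of abelian groups, system indexed by the natural numbers: Let (A_k) be an inverse system of
abelian groups satisfying the Mittag-Leffler condition, A = lim A_k with projections π_p : A ⟶ A_p.
Filter A and each A_k by the kernels of the maps to A_{p-1} (with A_{-1} = 0); the graded piece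
gr^p(A) is identified with Im(π_p) ∩ Ker(A_p ⟶ A_{p-1}) and gr^p(A_k), k ≥ p, with Im(A_k ⟶ A_p) ∩
Ker(A_p ⟶ A_{p-1}), a decreasing family of subgroups of A_p. The statement gr^p(A) ≅ lim_k gr^p(A_k)
then reads: Im(π_0) = ⋂_k Im(A_k ⟶ A_0), and for every p, Im(π_{p+1}) ∩ Ker(A_{p+1} ⟶ A_p) = ⋂_{k ≥
p+1} (Im(A_k ⟶ A_{p+1}) ∩ Ker(A_{p+1} ⟶ A_p)). -/
theorem result (F : ℕᵒᵖ ⥤ AddCommGrpCat.{u})
    (hF : (F ⋙ forget AddCommGrpCat).IsMittagLeffler) :
    (limit.π F (op 0)).hom.range = ⨅ k : ℕ, (F.map (homOfLE (Nat.zero_le k)).op).hom.range ∧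
      ∀ p : ℕ, (limit.π F (op (p + 1))).hom.range ⊓ (F.map (homOfLE (Nat.le_succ p)).op).hom.ker =
        ⨅ (k : ℕ) (hk : p + 1 ≤ k),
          (F.map (homOfLE hk).op).hom.range ⊓ (F.map (homOfLE (Nat.le_succ p)).op).hom.ker := by
  rw [isML_iff] at hF
  have key : ∀ p (x : F.obj (op p)), (∀ k (h : p ≤ k), x ∈ (res F h).range) → x ∈ (limit.π F (op p)).hom.range := by
    intro p x hx
    let P : ∀ n, F.obj (op (p + n)) → Prop := fun n y => ∀ k (h : p + n ≤ k), y ∈ (res F h).range
    obtain ⟨b, hb0, -, hb⟩ := exists_seq (E := fun n => (F.obj (op (p + n)) : Type u)) P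
      (fun n => res F (Nat.le_succ (p + n))) (fun n y hy => by
        obtain ⟨k, hnk, hk⟩ := hF (p + n + 1)
        obtain ⟨w, rfl⟩ := hy k (Nat.le_of_succ_le hnk)
        refine ⟨res F hnk w, fun m hm => ?_, res_res F _ hnk w⟩
        exact hk m hm w) x hx
    have hchain : ∀ n m (h : n ≤ m), res F (Nat.add_le_add_left h p) (b m) = b n := by
      intro n m h
      induction m, h using Nat.le_induction with
      | base => exact res_refl F _
      | succ m h ih => rw [← ih, ← hb m, res_res]
    obtain ⟨l, hl⟩ := exists_limit F (fun i => res F (Nat.le_add_left i p) (b i)) (fun i j h => by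
      show res F h (res F _ (b j)) = _
      rw [res_res, ← hchain i j h, res_res])
    refine ⟨l, (hl p).trans ?_⟩
    rw [← hb0, ← hchain 0 p (Nat.zero_le _)]
  have hle : ∀ p k (h : p ≤ k), (limit.π F (op p)).hom.range ≤ (res F h).range := by
    rintro p k h _ ⟨l, rfl⟩
    exact ⟨_, res_limit F l h⟩
  refine ⟨le_antisymm (le_iInf fun k => hle 0 k _) (fun x hx => key 0 x fun k h => ?_), fun p => le_antisymm ?_ ?_⟩
  · exact (AddSubgroup.mem_iInf.mp hx k :)
  · exact le_iInf fun k => le_iInf fun hk => inf_le_inf_right _ (hle _ k hk)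
  · intro x hx
    simp only [AddSubgroup.mem_iInf, AddSubgroup.mem_inf] at hx
    exact ⟨key _ x fun k h => (hx k h).1, (hx (p + 1) le_rfl).2⟩

end Groth.Agent.S8352
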