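import Groth.Statements.S8353
import Mathlib.RingTheory.AdicCompletion.Basic
import Mathlib.RingTheory.Noetherian.Basic
import Mathlib.RingTheory.Finiteness.Finsupp

set_option autoImplicit false
universe u
open HomAlg3

namespace Groth.Agent.S8353

/-- Let S be a Noetherian ring which is separated and complete for the adic topology of an ideal J, and
let M be an S-module with a decreasing filtration (F^p M)_{p ∈ ℤ} by submodules such that F^p M = M
for some p, J·F^p M ⊆ F^{p+1} M for all p, and ⋂_p F^p M = 0. Then the following are equivalent: (a)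
M is a finitely generated S-module and J·F^p M = F^{p+1} M for all large p; (c) every F^p M /
F^{p+1} M is a finitely generated S-module and, for all large p, the map J ⊗ (F^p M/F^{p+1} M) ⟶
F^{p+1} M/F^{p+2} M is surjective, that is F^{p+1} M = J·F^p M + F^{p+2} M. (The published statement
also lists a third equivalent condition, finite generation of the associated graded module over the
associated graded ring; this row states the equivalence of the other two.) -/
theorem result {S : Type u} [CommRing S] [IsNoetherianRing S]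
    (J : Ideal S) [IsAdicComplete J S] {M : Type u} [AddCommGroup M] [Module S M]
    (F : ℤ → Submodule S M) (hF : Antitone F) (hcod : ∃ p₀ : ℤ, F p₀ = ⊤)
    (hJ : ∀ p : ℤ, J • F p ≤ F (p + 1)) (hsep : ⨅ p : ℤ, F p = ⊥) :
    (Module.Finite S M ∧ ∃ p₁ : ℤ, ∀ p : ℤ, p₁ ≤ p → J • F p = F (p + 1)) ↔
      ((∀ p : ℤ, (Submodule.map (F (p + 1)).mkQ (F p)).FG) ∧
        ∃ p₁ : ℤ, ∀ p : ℤ, p₁ ≤ p → F (p + 1) = J • F p ⊔ F (p + 2)) := by

    constructor
    · rintro ⟨hfin, p₁, hp₁⟩
      refine ⟨fun p => (IsNoetherian.noetherian (F p)).map _, p₁, fun p hp => ?_⟩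
      rw [hp₁ p hp, eq_comm, sup_eq_left]
      exact hF (by omega)
    rintro ⟨hgr, p₁, hp₁⟩
    obtain ⟨G, hG⟩ := hgr p₁
    classical
    choose! g hg hgq using fun y (hy : y ∈ (G : Set (M ⧸ F (p₁ + 1)))) => Submodule.mem_map.1 (hG ▸ Submodule.subset_span hy)
    let v : ↥G → M := fun y => g y.1
    set N := Submodule.span S (Set.range v) with hN
    have hNF : N ≤ F p₁ := Submodule.span_le.2 (by rintro _ ⟨y, rfl⟩; exact hg y y.2)
    have hpow : ∀ (n : ℕ), J ^ n • F p₁ ≤ F (p₁ + n) := by
      intro n
      induction n with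
      | zero => simp
      | succ n ih =>
        rw [pow_succ', mul_smul]
        exact (smul_mono_right J ih).trans ((hJ _).trans_eq (congrArg F (by push_cast; ring)))
    have hbase : F p₁ ≤ N ⊔ F (p₁ + 1) := by
      intro x hx
      have h : (F (p₁ + 1)).mkQ x ∈ N.map (F (p₁ + 1)).mkQ := by
        have hmem : (F (p₁ + 1)).mkQ x ∈ Submodule.span S (G : Set (M ⧸ F (p₁ + 1))) := hG ▸ Submodule.mem_map_of_mem hx
        refine Submodule.span_le.2 ?_ hmem
        exact fun y hy => ⟨g y, Submodule.subset_span ⟨⟨y, hy⟩, rfl⟩, hgq y hy⟩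
      have h' : x ∈ (N.map (F (p₁ + 1)).mkQ).comap (F (p₁ + 1)).mkQ := h
      rw [Submodule.comap_map_mkQ, sup_comm] at h'
      exact h'
    have hstep : ∀ m : ℕ, F (p₁ + m) ≤ J ^ m • N ⊔ F (p₁ + m + 1) := by
      intro m
      induction m with
      | zero => simpa using hbase
      | succ m ih =>
        rw [show p₁ + ((m + 1 : ℕ) : ℤ) = (p₁ + m) + 1 by push_cast; ring, hp₁ (p₁ + m) (by omega)]
        refine sup_le ?_ (le_sup_of_le_right (le_of_eq (congrArg F (by ring))))
        refine (smul_mono_right J ih).trans ?_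
        rw [Submodule.smul_sup, ← mul_smul, ← pow_succ']
        exact sup_le_sup_left ((hJ _).trans_eq (congrArg F (by ring))) _
    have hcoef : ∀ (m : ℕ) (x : M), x ∈ F (p₁ + m) →
        ∃ a : ↥G → S, (∀ y, a y ∈ J ^ m) ∧ x - ∑ y, a y • v y ∈ F (p₁ + m + 1) := by
      intro m x hx
      obtain ⟨z, hz, w, hw, rfl⟩ := Submodule.mem_sup.1 (hstep m hx)
      obtain ⟨a, ha, rfl⟩ := (Submodule.mem_ideal_smul_span_iff_exists_sum _ v z).1 hz
      refine ⟨a, ha, ?_⟩
      rw [Finsupp.sum_fintype a (fun i c => c • v i) (fun i => zero_smul S _), add_sub_cancel_left]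
      exact hw
    choose! c hc hc' using hcoef
    have hexact : ∀ m : ℕ, F (p₁ + m) = J ^ m • N := by
      intro m
      refine le_antisymm (fun x hx => ?_) ((smul_mono_right _ hNF).trans (hpow m))
      let s : ℕ → ↥G → S :=
        fun n => Nat.rec 0 (fun n t => t + c (m + n) (x - ∑ y, t y • v y)) n
      have hs : ∀ n, x - ∑ y, s n y • v y ∈ F (p₁ + (m + n : ℕ)) := by
        intro n
        induction n with
        | zero => simpa [s] using hx
        | succ n ih =>
          have h := hc' (m + n) _ ih
          have e1 : x - ∑ y, s (n + 1) y • v y = x - ∑ y, s n y • v y - ∑ y, c (m + n) (x - ∑ y, s n y • v y) y • v y := by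
            change x - ∑ y, (s n + c (m + n) (x - ∑ y, s n y • v y)) y • v y = _
            simp only [Pi.add_apply, add_smul, Finset.sum_add_distrib, sub_sub]
          rw [e1, show p₁ + ((m + (n + 1) : ℕ) : ℤ) = p₁ + ((m + n : ℕ) : ℤ) + 1 by push_cast; ring]
          exact h
      have hsJ : ∀ n y, s n y ∈ J ^ m := by
        intro n
        induction n with
        | zero => intro y; exact zero_mem _
        | succ n ih => exact fun y => add_mem (ih y) (Ideal.pow_le_pow_right (Nat.le_add_right m n) (hc _ _ (hs n) y))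
      have hsd : ∀ {a b : ℕ}, a ≤ b → ∀ y, s b y - s a y ∈ J ^ a := by
        intro a b hab y
        induction b, hab using Nat.le_induction with
        | base => rw [sub_self]; exact zero_mem _
        | succ b hab ih =>
          change s b y + c (m + b) (x - ∑ y, s b y • v y) y - s a y ∈ _
          rw [add_sub_right_comm]
          exact add_mem ih (Ideal.pow_le_pow_right (le_add_left hab) (hc _ _ (hs b) y))
      have hlim : ∀ y, ∃ L : S, ∀ n, s n y ≡ L [SMOD (J ^ n • ⊤ : Submodule S S)] := fun y =>
        IsPrecomplete.prec inferInstance fun {a b} hab => by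
          rw [SModEq.sub_mem, smul_eq_mul, Ideal.mul_top]
          exact neg_sub (s b y) (s a y) ▸ neg_mem (hsd hab y)
      choose L hL using hlim
      have hL' : ∀ n y, s n y - L y ∈ J ^ n := fun n y => by
        have h := hL y n
        rw [SModEq.sub_mem, smul_eq_mul, Ideal.mul_top] at h
        exact h
      have hxe : x = ∑ y, L y • v y := by
        refine sub_eq_zero.1 ((Submodule.mem_bot S).1 (hsep ▸ Submodule.mem_iInf _ |>.2 fun q => ?_))
        refine hF (show q ≤ p₁ + ((q - p₁).toNat : ℤ) by omega) ?_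
        generalize (q - p₁).toNat = n
        have h1 : x - ∑ y, s n y • v y ∈ F (p₁ + n) := hF (by omega) (hs n)
        have h2 : ∑ y, (s n y - L y) • v y ∈ F (p₁ + n) := hpow n (Submodule.sum_mem _ fun y _ =>
          Submodule.smul_mem_smul (hL' n y) (hNF (Submodule.subset_span ⟨y, rfl⟩)))
        convert add_mem h1 h2 using 1
        simp only [sub_smul, Finset.sum_sub_distrib]
        abel
      rw [hxe]
      refine Submodule.sum_mem _ fun y _ => Submodule.smul_mem_smul ?_ (Submodule.subset_span ⟨y, rfl⟩)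
      have h := sub_mem (hsJ m y) (hL' m y)
      rwa [sub_sub_cancel] at h
    have hfg : ∀ k : ℕ, (F (p₁ - k)).FG := by
      intro k
      induction k with
      | zero =>
        have h := hexact 0
        rw [pow_zero, Ideal.one_eq_top, Submodule.top_smul] at h
        rw [Nat.cast_zero, sub_zero, ← add_zero p₁]
        exact (Nat.cast_zero (R := ℤ)) ▸ h ▸ Submodule.fg_span (Set.finite_range v)
      | succ k ih =>
        refine Submodule.fg_of_fg_map_of_fg_inf_ker (F (p₁ - k)).mkQ ?_ ?_
        · have h := hgr (p₁ - (k + 1 : ℕ))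
          rwa [show p₁ - ((k + 1 : ℕ) : ℤ) + 1 = p₁ - k by push_cast; ring] at h
        · rw [Submodule.ker_mkQ, inf_eq_right.2 (hF (by omega))]
          exact ih
    obtain ⟨p₀, hp₀⟩ := hcod
    refine ⟨⟨?_⟩, p₁, fun p hp => ?_⟩
    · have h : F (p₁ - (p₁ - p₀).toNat) = ⊤ := top_le_iff.1 (hp₀ ▸ hF (by omega))
      exact h ▸ hfg _
    · obtain ⟨m, rfl⟩ : ∃ m : ℕ, p = p₁ + m := ⟨(p - p₁).toNat, by omega⟩
      rw [show p₁ + (m : ℤ) + 1 = p₁ + ((m + 1 : ℕ) : ℤ) by push_cast; ring, hexact, hexact, ← mul_smul, pow_succ']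

end Groth.Agent.S8353
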