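import Groth.Statements.S8354
import Groth.Agent.L17.RightDerivedPlus
import Mathlib.Algebra.Homology.DerivedCategory.ShortExact
-- import your own Groth.Agent.* helpers here

set_option autoImplicit false
universe w w' v v' u u'
open CategoryTheory CategoryTheory.Limits
open HomAlg3

namespace Groth.Agent.S8354

/-- Bounded-below case, exactness at the middle term. Let T : C ⥤ D be an additive functor of abelian
categories, C having enough injectives, and 0 ⟶ K₁ ⟶ K₂ ⟶ K₃ ⟶ 0 a short exact sequence of bounded
below cochain complexes of C. Let R^n T(K) denote the n-th cohomology object of R⁺T(K), where R⁺T is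
the right derived functor of T on the bounded below derived category (computed with injective
resolutions). Then R^n T(K₁) ⟶ R^n T(K₂) ⟶ R^n T(K₃) is exact for every n. (The published statement
asserts a long exact sequence with connecting morphisms; this row states exactness at the middle
term only, with the vanishing of the composite carried as a hypothesis.) -/
theorem result {C : Type u} [Category.{v} C] [Abelian C]
    [EnoughInjectives C] [HasDerivedCategory.{w} C] {D : Type u'} [Category.{v'} D] [Abelian D]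
    [HasDerivedCategory.{w'} D] (T : C ⥤ D) [T.Additive] {K₁ K₂ K₃ : CochainComplex.Plus C}
    (φ : K₁ ⟶ K₂) (ψ : K₂ ⟶ K₃) (hφψ : φ.hom ≫ ψ.hom = 0)
    (hS : (ShortComplex.mk φ.hom ψ.hom hφψ).ShortExact) (n : ℤ)
    (hz : (HomotopyCategory.Plus.quotient C ⋙ DerivedCategory.Plus.Qh ⋙ T.rightDerivedFunctorPlus ⋙
          DerivedCategory.Plus.homologyFunctor D n).map φ ≫
      (HomotopyCategory.Plus.quotient C ⋙ DerivedCategory.Plus.Qh ⋙ T.rightDerivedFunctorPlus ⋙
          DerivedCategory.Plus.homologyFunctor D n).map ψ = 0) :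
    (ShortComplex.mk ((HomotopyCategory.Plus.quotient C ⋙ DerivedCategory.Plus.Qh ⋙ T.rightDerivedFunctorPlus ⋙
          DerivedCategory.Plus.homologyFunctor D n).map φ)
      ((HomotopyCategory.Plus.quotient C ⋙ DerivedCategory.Plus.Qh ⋙ T.rightDerivedFunctorPlus ⋙
          DerivedCategory.Plus.homologyFunctor D n).map ψ) hz).Exact := by
  open CategoryTheory.Pretriangulated in
  let Φ := HomotopyCategory.Plus.quotient C ⋙ DerivedCategory.Plus.Qh ⋙ T.rightDerivedFunctorPlus ⋙
          DerivedCategory.Plus.homologyFunctor D n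
  let P : CochainComplex.Plus C ⥤ DerivedCategory.Plus C :=
    HomotopyCategory.Plus.quotient C ⋙ DerivedCategory.Plus.Qh
  let δ : P.obj K₃ ⟶ (P.obj K₁)⟦(1 : ℤ)⟧ :=
    DerivedCategory.Plus.ι.preimage (DerivedCategory.triangleOfSESδ hS ≫
      (DerivedCategory.Plus.ι.commShiftIso (1 : ℤ)).inv.app (P.obj K₁))
  have hd : Triangle.mk (P.map φ) (P.map ψ) δ ∈ distTriang (DerivedCategory.Plus C) := by
    change DerivedCategory.Plus.ι.mapTriangle.obj (Triangle.mk (P.map φ) (P.map ψ) δ) ∈
      distTriang (DerivedCategory C)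
    refine isomorphic_distinguished _ (DerivedCategory.triangleOfSES_distinguished hS) _ ?_
    refine Triangle.isoMk _ _ (Iso.refl _) (Iso.refl _) (Iso.refl _) ?_ ?_ ?_
    · exact (Category.comp_id _).trans (Category.id_comp _).symm
    · exact (Category.comp_id _).trans (Category.id_comp _).symm
    · refine ((congrArg (_ ≫ ·) (CategoryTheory.Functor.map_id _ _)).trans
        (Category.comp_id _)).trans (Eq.trans ?_ (Category.id_comp _).symm)
      change DerivedCategory.Plus.ι.map δ ≫
        (DerivedCategory.Plus.ι.commShiftIso (1 : ℤ)).hom.app (P.obj K₁) =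
        DerivedCategory.triangleOfSESδ hS
      rw [Functor.map_preimage, Category.assoc]
      exact (congrArg (DerivedCategory.triangleOfSESδ hS ≫ ·) (Iso.inv_hom_id_app
        (DerivedCategory.Plus.ι.commShiftIso (1 : ℤ)) (P.obj K₁))).trans (Category.comp_id _)
  let Tr := (Groth.L17.GrothSS.RK T).mapTriangle.obj (Triangle.mk (P.map φ) (P.map ψ) δ)
  have hTr : Tr ∈ distTriang _ := (Groth.L17.GrothSS.RK T).map_distinguished _ hd
  let H := HomotopyCategory.homologyFunctor D (.up ℤ) 0
  let eΦ : Φ ≅ P ⋙ Groth.L17.GrothSS.HH T n :=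
    Functor.isoWhiskerLeft P (Groth.L17.GrothSS.homologyRightDerivedPlusIso T n)
  have nΦ : ∀ {A B : CochainComplex.Plus C} (a : A ⟶ B), eΦ.hom.app A ≫
      (Groth.L17.GrothSS.HH T n).map (P.map a) = Φ.map a ≫ eΦ.hom.app B :=
    fun a => (eΦ.hom.naturality a).symm
  have h₂ := H.homologySequence_exact₂ Tr hTr n
  refine (ShortComplex.exact_iff_of_iso (ShortComplex.isoMk (eΦ.app K₁) (eΦ.app K₂) (eΦ.app K₃) ?_ ?_)).2 h₂
  · exact nΦ φ
  · exact nΦ ψ

end Groth.Agent.S8354
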