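import Groth.Statements.S8359
import Groth.Agent.L25.DiagIso
import Groth.Agent.L25.NilAction
import Groth.Prelude.Def_ActBC

set_option autoImplicit false
universe u
open CategoryTheory MonObj AlgebraicGeometry
open Red

namespace Groth.Agent.S8359

set_option backward.isDefEq.respectTransparency.types false
set_option linter.style.haveILetI false

open Groth.L25 MonoidalCategory CartesianMonoidalCategory CategoryTheory.Limits MonObj in
theorem aux (R : Type u) [CommRing R] (I : Ideal R) (hI : IsNilpotent I)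
    (M : Type) [AddCommGroup M] (X : Over (Spec (CommRingCat.of R))) [GrpObj X]
    (f : Red.diag R M ⟶ X) [IsMonHom f]
    (h : (Over.pullback (Spec.map (CommRingCat.ofHom (Ideal.Quotient.mk I)))).map f = 1) :
    f = 1 := by
  let T := Spec (CommRingCat.of R)
  let i₀ := Spec.map (CommRingCat.ofHom (Ideal.Quotient.mk I))
  haveI : IsClosedImmersion i₀ := IsClosedImmersion.spec_of_surjective _ Ideal.Quotient.mk_surjective
  let em := DiagIso.isoOver R M
  haveI : IsMonHom em.hom := DiagIso.isMonHom_theta R M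
  haveI : IsMonHom em.inv := (DiagIso.iso R M).inv.hom.isMonHom_hom
  let v : Red.DS T M ⟶ X := em.inv ≫ f
  haveI : IsMonHom v := inferInstance
  have hnil : ∀ x : T, ∃ U : T.affineOpens, x ∈ (U : T.Opens) ∧ IsNilpotent (i₀.ker.ideal U) := by
    intro x
    obtain ⟨n, hn⟩ := hI
    refine ⟨⟨⊤, isAffineOpen_top _⟩, trivial, n, ?_⟩
    let e := (Scheme.ΓSpecIso (CommRingCat.of R)).commRingCatIsoToRingEquiv
    have hle : (i₀.ker.ideal ⟨⊤, isAffineOpen_top _⟩).map (e : Γ(T, ⊤) →+* R) ≤ I := by
      rw [Ideal.map_le_iff_le_comap]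
      intro a ha
      rw [Scheme.Hom.ker_apply, RingHom.mem_ker] at ha
      have h1 : (Scheme.ΓSpecIso (CommRingCat.of (R ⧸ I))).hom (i₀.appTop a) = 0 := by
        erw [ha, map_zero]
      have h2 := congrArg (fun m => m.hom a) (Scheme.ΓSpecIso_naturality (CommRingCat.ofHom (Ideal.Quotient.mk I)))
      show (Scheme.ΓSpecIso (CommRingCat.of R)).hom a ∈ I
      exact Ideal.Quotient.eq_zero_iff_mem.1 (h2.symm.trans h1)
    have h3 := Ideal.pow_right_mono hle n
    rw [← Ideal.map_pow, hn, Ideal.zero_eq_bot, le_bot_iff] at h3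
    rw [Ideal.zero_eq_bot]
    exact (Ideal.map_eq_bot_iff_of_injective (f := (e : Γ(T, ⊤) →+* R)) e.injective).1 h3
  let a : AlgGrp.Action (Red.DS T M) X :=
    { act := (fst (Red.DS T M) X ≫ v) * snd _ _
      one_act := by
        rw [MonObj.comp_mul, ← Category.assoc, whiskerRight_fst, whiskerRight_snd, Category.assoc,
          IsMonHom.one_hom, leftUnitor_hom,
          show fst (𝟙_ (Over T)) X ≫ η[X] = 1 by
            rw [Hom.one_def, toUnit_unique (fst (𝟙_ (Over T)) X) (toUnit _)],
          _root_.one_mul]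
      mul_act := by
        simp only [MonObj.comp_mul, MonObj.mul_eq_mul, whiskerRight_fst_assoc, whiskerRight_snd,
          whiskerLeft_fst_assoc, whiskerLeft_snd, associator_hom_fst_assoc, associator_hom_snd_fst_assoc,
          associator_hom_snd_snd, MonObj.mul_comp]
        exact _root_.mul_assoc _ _ _ }
  have h0 : ∀ (Y : Over T) (_ : Y ⟶ Over.mk i₀) (g : Y ⟶ Red.DS T M) (x : Y ⟶ X),
      lift g x ≫ a.act = x := by
    intro Y q g x
    let q' : Over.mk ((Over.mk q.left).hom ≫ i₀) ⟶ Y := Over.homMk (𝟙 _) (by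
      show 𝟙 _ ≫ Y.hom = q.left ≫ i₀
      rw [Category.id_comp]; exact (Over.w q).symm)
    haveI : Epi q'.left := inferInstanceAs (Epi (𝟙 Y.left))
    haveI : Epi q' := Over.epi_of_epi_left q'
    have h2 : g ≫ v = 1 := by
      refine (cancel_epi q').1 ?_
      rw [MonObj.comp_one, ← Category.assoc, ← Category.assoc]
      conv_lhs => rw [← NilAction.toBase_ofBase i₀ (_ ≫ f), ← NilAction.ofBase_comp, h,
        MonObj.comp_one, NilAction.toBase_one]
    show lift g x ≫ ((fst _ _ ≫ v) * snd _ _) = x
    rw [MonObj.comp_mul, lift_fst_assoc, lift_snd, h2, _root_.one_mul]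
  let eT : Grp.mk (Red.bc (𝟙 T) (Red.DS T M)) ≅ Grp.mk (Red.DS T M) :=
    Grp.mkIso' (ActBC.bcCompIso (𝟙 T) (specULiftZIsTerminal.from T) (Red.diag (ULift.{u} ℤ) M)
      (Category.id_comp _))
  let Y := Red.DS T M
  let c : Over.mk (Y.hom ≫ 𝟙 T) ⟶ Y := Over.homMk (𝟙 Y.left) ((Category.id_comp _).trans (Category.comp_id _).symm)
  have h3 := NilAction.smul_eq_of_split i₀ hnil a h0 (𝟙 T) eT (Y := Y) (c ≫ 𝟙 Y) (c ≫ 1)
  change lift (c ≫ 𝟙 Y) (c ≫ 1) ≫ ((fst _ _ ≫ v) * snd _ _) = c ≫ 1 at h3
  rw [MonObj.comp_mul, lift_fst_assoc, lift_snd, Category.assoc, Category.id_comp, MonObj.comp_one, _root_.mul_one] at h3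
  haveI : Epi c.left := inferInstanceAs (Epi (𝟙 Y.left))
  haveI : Epi c := Over.epi_of_epi_left c
  have h4 : v = 1 := (cancel_epi c).1 (h3.trans (MonObj.comp_one c).symm)
  rw [← cancel_epi em.inv, MonObj.comp_one]
  exact h4

/-- Over an affine base S = Spec R with S₀ = Spec (R/I) for a nilpotent ideal I: for a commutative group
M, the diagonalisable group D(M) = Spec R[M] over S, a group scheme X locally of finite presentation
over S and a homomorphism f from D(M) to X, if the base change of f to S₀ is the unit homomorphism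
then f is the unit homomorphism. (The published statement is over an arbitrary base scheme with S₀
defined by a nilpotent quasi-coherent ideal; this row is its case of an affine base.) -/
theorem result (R : Type u) [CommRing R] (I : Ideal R) (hI : IsNilpotent I)
    (M : Type) [AddCommGroup M] (X : Over (Spec (CommRingCat.of R))) [GrpObj X]
    [LocallyOfFinitePresentation X.hom] (f : Red.diag R M ⟶ X) [IsMonHom f]
    (h : (Over.pullback (Spec.map (CommRingCat.ofHom (Ideal.Quotient.mk I)))).map f = 1) :
    f = 1 := by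
  exact aux R I hI M X f h

end Groth.Agent.S8359
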