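import Groth.Statements.S8360
import Groth.Agent.L25.DiagIso
import Groth.Agent.L25.HomSmooth.Main
import Groth.Agent.L25.NilAction
import Groth.Prelude.Def_ActBC

set_option autoImplicit false
universe u
open CategoryTheory MonObj AlgebraicGeometry
open Red

namespace Groth.Agent.S8360

set_option backward.isDefEq.respectTransparency.types false
set_option linter.style.haveILetI false

open Groth.L25 MonoidalCategory CartesianMonoidalCategory CategoryTheory.Limits MonObj in
theorem aux (R : Type u) [CommRing R] (I : Ideal R)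
    (hI : IsNilpotent I) (M : Type) [AddCommGroup M] (X : Over (Spec (CommRingCat.of R))) [GrpObj X]
    [Smooth X.hom]
    (f₀ : Red.bc (Spec.map (CommRingCat.ofHom (Ideal.Quotient.mk I))) (Red.diag R M) ⟶
      Red.bc (Spec.map (CommRingCat.ofHom (Ideal.Quotient.mk I))) X) [IsMonHom f₀] :
    ∃ f : Red.diag R M ⟶ X, IsMonHom f ∧
      (Over.pullback (Spec.map (CommRingCat.ofHom (Ideal.Quotient.mk I)))).map f = f₀ := by
  let T := Spec (CommRingCat.of R)
  let H := Red.diag R M
  let i := Spec.map (CommRingCat.ofHom (Ideal.Quotient.mk I))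
  let em := DiagIso.iso R M
  have hH : TwC.Locally T TwC.Topology.fpqc (fun S' f => ∃ (M' : Type) (_ : AddCommGroup M'),
      Nonempty (Grp.mk (Red.bc f H) ≅ Grp.mk (Red.DS S' M'))) := by
    refine ⟨T, 𝟙 T, inferInstance, inferInstance, fun U hU => ⟨U, hU.isCompact, by simp⟩,
      fun s => ⟨⊤, trivial, M, inferInstance, ?_⟩⟩
    exact ⟨(Over.pullback ((⊤ : T.Opens).ι ≫ 𝟙 T)).mapGrp.mapIso em ≪≫
      Grp.mkIso' (ActBC.bcCompIso ((⊤ : T.Opens).ι ≫ 𝟙 T) (specULiftZIsTerminal.from T)
        (Red.diag (ULift.{u} ℤ) M) (specULiftZIsTerminal.hom_ext _ _))⟩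
  let ZI := Groth.L25.Cocycle.Z I
  have w0 : (fst H ZI).left ≫ H.hom = (snd H ZI).left ≫ i := (Over.w (fst H ZI)).trans (Over.w (snd H ZI)).symm
  let l : (H ⊗ ZI).left ⟶ (Red.bc i H).left := pullback.lift (fst H ZI).left (snd H ZI).left w0
  let g₀ : H ⊗ ZI ⟶ X := Over.homMk (l ≫ f₀.left ≫ pullback.fst X.hom i) (by
    rw [Category.assoc, Category.assoc, pullback.condition]
    show l ≫ f₀.left ≫ (Red.bc i X).hom ≫ i = _
    rw [← Category.assoc f₀.left, Over.w f₀]
    show l ≫ pullback.snd H.hom i ≫ i = _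
    rw [← Category.assoc, pullback.lift_snd]
    exact Over.w (snd H ZI))
  have hval : ∀ (Y : Over T) (p : Y ⟶ ZI) (a : Y ⟶ H) (c : Over.mk ((Over.mk p.left).hom ≫ i) ⟶ Y),
      c.left = 𝟙 _ → c ≫ lift a p ≫ g₀ = NilAction.toBase i (NilAction.ofBase i (c ≫ a) ≫ f₀) := by
    intro Y p a c hc
    refine Over.OverMorphism.ext ?_
    simp only [NilAction.toBase, Over.comp_left, Over.homMk_left, Category.assoc]
    show c.left ≫ (lift a p).left ≫ l ≫ f₀.left ≫ pullback.fst X.hom i = _
    rw [← Category.assoc (lift a p).left, ← Category.assoc c.left]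
    congr 1
    refine pullback.hom_ext ?_ ?_
    · rw [Category.assoc, Category.assoc, pullback.lift_fst, ← Over.comp_left, lift_fst]
      simp [NilAction.ofBase]
      exact (pullback.lift_fst _ _ _).symm
    · rw [Category.assoc, Category.assoc, pullback.lift_snd, ← Over.comp_left, lift_snd, hc]
      simp [NilAction.ofBase]
      exact (pullback.lift_snd _ _ _).symm
  have hc : ∀ (Y : Over T) (p : Y ⟶ ZI), ∃ c : Over.mk ((Over.mk p.left).hom ≫ i) ⟶ Y, c.left = 𝟙 _ ∧ Epi c := by
    intro Y p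
    let c : Over.mk ((Over.mk p.left).hom ≫ i) ⟶ Y := Over.homMk (𝟙 _) (by
      show 𝟙 _ ≫ Y.hom = p.left ≫ i
      rw [Category.id_comp]; exact (Over.w p).symm)
    haveI : Epi c.left := inferInstanceAs (Epi (𝟙 Y.left))
    exact ⟨c, rfl, Over.epi_of_epi_left c⟩
  have ofBase_mul : ∀ {W : Over (Spec (CommRingCat.of (R ⧸ I)))} (x y : Over.mk (W.hom ≫ i) ⟶ H),
      NilAction.ofBase i (x * y) = NilAction.ofBase i x * NilAction.ofBase i y := fun x y => by
    have e : NilAction.toBase i (NilAction.ofBase i x * NilAction.ofBase i y) = x * y :=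
      (NilAction.toBase_mul i _ _).trans (congrArg₂ (· * ·) (NilAction.toBase_ofBase i x) (NilAction.toBase_ofBase i y))
    rw [← e, NilAction.ofBase_toBase]
  have hmul : HomSmooth.MulOn g₀ := by
    intro Y p a b
    obtain ⟨c, hc1, _⟩ := hc Y p
    rw [← cancel_epi c, MonObj.comp_mul, hval Y p _ c hc1, hval Y p _ c hc1, hval Y p _ c hc1,
      MonObj.comp_mul, ofBase_mul, MonObj.mul_comp, NilAction.toBase_mul]
  obtain ⟨φ, hφm, hφ⟩ := HomSmooth.exists_hom_lift_smooth hH hI g₀ hmul
  refine ⟨φ, hφm, ?_⟩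
  let W := Red.bc i H
  let Y : Over T := Over.mk (W.hom ≫ i)
  let p : Y ⟶ ZI := Over.homMk W.hom rfl
  let a : Y ⟶ H := NilAction.toBase i (𝟙 W)
  let c : Over.mk ((Over.mk p.left).hom ≫ i) ⟶ Y := Over.homMk (𝟙 _) (Category.id_comp _)
  have h1 := hval Y p a c rfl
  rw [← hφ, lift_fst_assoc] at h1
  have h2 : a ≫ φ = NilAction.toBase i f₀ := by
    have hca : c ≫ a = a := Over.OverMorphism.ext (Category.id_comp a.left)
    rw [← Category.assoc, hca] at h1
    refine h1.trans ?_
    show NilAction.toBase i (NilAction.ofBase i (NilAction.toBase i (𝟙 W)) ≫ f₀) = _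
    rw [NilAction.ofBase_toBase, Category.id_comp]
  have h3 := NilAction.ofBase_comp i a φ
  rw [h2, NilAction.ofBase_toBase, NilAction.ofBase_toBase, Category.id_comp] at h3
  exact h3

/-- Over the affine base S = Spec R with S₀ = Spec (R/I) for a nilpotent ideal I, for a commutative
group M, the diagonalisable group D(M) = Spec R[M] over S and a group scheme X smooth over S, every
homomorphism of S₀-group schemes from D(M) ×_S S₀ to X ×_S S₀ is the base change of a homomorphism
of S-group schemes from D(M) to X. -/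
theorem result (R : Type u) [CommRing R] (I : Ideal R)
    (hI : IsNilpotent I) (M : Type) [AddCommGroup M] (X : Over (Spec (CommRingCat.of R))) [GrpObj X]
    [Smooth X.hom]
    (f₀ : Red.bc (Spec.map (CommRingCat.ofHom (Ideal.Quotient.mk I))) (Red.diag R M) ⟶ Red.bc (Spec.map (CommRingCat.ofHom (Ideal.Quotient.mk I))) X) [IsMonHom f₀] :
    ∃ f : Red.diag R M ⟶ X, IsMonHom f ∧ (Over.pullback (Spec.map (CommRingCat.ofHom (Ideal.Quotient.mk I)))).map f = f₀ := by
  exact aux R I hI M X f₀

end Groth.Agent.S8360
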