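import Groth.Statements.S8362
import Mathlib.AlgebraicGeometry.Morphisms.ClosedImmersion
import Mathlib.CategoryTheory.Comma.Over.Pullback
import Mathlib.AlgebraicGeometry.Morphisms.IsIso

set_option autoImplicit false
universe u
open CategoryTheory AlgebraicGeometry
open SGA3

namespace Groth.Agent.S8362

theorem bijective_of_sq_zero {R B : Type u} [CommRing R] [CommRing B] [Algebra R B] (J : Ideal R)
    (hJ : J * J = ⊥) (φ : B →+* B) (hφ : ∀ r, φ (algebraMap R B r) = algebraMap R B r)
    (hd : ∀ b, φ b - b ∈ J.map (algebraMap R B)) : Function.Bijective φ := by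
  have hfix : ∀ b ∈ J.map (algebraMap R B), φ b = b := by
    intro b hb
    suffices h : ∀ c, φ (c * b) = c * b by simpa using h 1
    induction hb using Submodule.span_induction with
    | mem x hx =>
      obtain ⟨j, hj, rfl⟩ := hx
      intro c
      rw [map_mul, hφ, ← sub_eq_zero, ← sub_mul]
      have : (φ c - c) * algebraMap R B j ∈ J.map (algebraMap R B) * J.map (algebraMap R B) :=
        Ideal.mul_mem_mul (hd c) (Ideal.mem_map_of_mem _ hj)
      rwa [← Ideal.map_mul, hJ, Ideal.map_bot, Ideal.mem_bot] at this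
    | zero => intro c; simp
    | add x y _ _ hx hy => intro c; rw [mul_add, map_add, hx, hy]
    | smul a x _ hx => intro c; rw [smul_eq_mul, ← mul_assoc]; exact hx _
  refine ⟨(injective_iff_map_eq_zero φ).mpr fun b hb => ?_, fun b => ⟨b - (φ b - b), ?_⟩⟩
  · have h := hd b
    rw [hb, zero_sub, neg_mem_iff] at h
    rw [← hfix b h, hb]
  · rw [map_sub, hfix _ (hd b), sub_sub_cancel]

open CategoryTheory.Limits in
theorem isIso_of_sq_zero {R : Type u} [CommRing R] (J : Ideal R) (hJ : J * J = ⊥) {X : Scheme.{u}}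
    (f : X ⟶ Spec (.of R)) (v : X ⟶ X) (hv : v ≫ f = f)
    (h : pullback.fst f (Spec.map (CommRingCat.ofHom (Ideal.Quotient.mk J))) ≫ v =
      pullback.fst f (Spec.map (CommRingCat.ofHom (Ideal.Quotient.mk J)))) : IsIso v := by
  set i := Spec.map (CommRingCat.ofHom (Ideal.Quotient.mk J)) with hi
  have hrad : ∀ p : PrimeSpectrum R, J ≤ p.asIdeal := fun p j hj => p.isPrime.mul_mem_iff_mem_or_mem.mp
    (show j * j ∈ p.asIdeal by
      have : j * j ∈ J * J := Ideal.mul_mem_mul hj hj
      rw [hJ, Ideal.mem_bot] at this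
      simp [this]) |>.elim id id
  have : Surjective i := ⟨by
    intro p
    have : p ∈ Set.range (PrimeSpectrum.comap (Ideal.Quotient.mk J)) := by
      rw [_root_.range_comap_of_surjective _ _ Ideal.Quotient.mk_surjective]
      refine (PrimeSpectrum.mem_zeroLocus _ _).mpr ?_
      rw [Ideal.mk_ker]
      exact hrad p
    exact this⟩
  have hbase : ∀ x, v x = x := fun x => by
    obtain ⟨x₀, rfl⟩ := (pullback.fst f i).surjective x
    exact congr(($h) x₀)
  refine (IsZariskiLocalAtTarget.iff_of_iSup_eq_top (P := MorphismProperty.isomorphisms Scheme.{u}) _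
    (iSup_affineOpens_eq_top X)).mpr fun U => ?_
  obtain ⟨U, hU⟩ := U
  have hpre : v ⁻¹ᵁ U = U := TopologicalSpace.Opens.ext (Set.ext fun x =>
    show v x ∈ U ↔ x ∈ U by rw [hbase])
  let φ : Γ(X, U) ⟶ Γ(X, U) := v.appLE U U hpre.ge
  let α : CommRingCat.of R ⟶ Γ(X, U) := (Scheme.ΓSpecIso (.of R)).inv ≫ f.appLE ⊤ U le_top
  letI : Algebra R Γ(X, U) := α.hom.toAlgebra
  have hf : hU.fromSpec ≫ f = Spec.map α := by
    rw [← (isAffineOpen_top _).SpecMap_appLE_fromSpec f hU le_top, Spec.map_comp,
      IsAffineOpen.fromSpec_top, Scheme.isoSpec_Spec_inv]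
  have : IsOpenImmersion hU.fromSpec := hU.isOpenImmersion_fromSpec
  have hφ : Spec.map φ ≫ hU.fromSpec = hU.fromSpec ≫ v := hU.SpecMap_appLE_fromSpec v hU _
  let I : Ideal Γ(X, U) := J.map (algebraMap R Γ(X, U))
  let π : Γ(X, U) ⟶ CommRingCat.of (Γ(X, U) ⧸ I) := CommRingCat.ofHom (Ideal.Quotient.mk I)
  let β : CommRingCat.of (R ⧸ J) ⟶ CommRingCat.of (Γ(X, U) ⧸ I) :=
    CommRingCat.ofHom (Ideal.quotientMap I α.hom Ideal.le_comap_map)
  have hw : (Spec.map π ≫ hU.fromSpec) ≫ f = Spec.map β ≫ i := by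
    rw [Category.assoc, hf, hi, ← Spec.map_comp, ← Spec.map_comp]
    congr 1
  have hj : (Spec.map π ≫ hU.fromSpec) ≫ v = Spec.map π ≫ hU.fromSpec := by
    rw [← pullback.lift_fst _ _ hw, Category.assoc, h]
  have hπ : φ ≫ π = π := by
    apply Spec.map_injective
    rw [Spec.map_comp, ← cancel_mono hU.fromSpec, Category.assoc, hφ, ← Category.assoc, hj]
  have hα : α ≫ φ = α := by
    apply Spec.map_injective
    rw [Spec.map_comp, ← hf, ← Category.assoc, hφ, Category.assoc, hv]
  have hbij : Function.Bijective φ.hom := bijective_of_sq_zero J hJ φ.hom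
    (fun r => congr(($hα).hom r)) fun b => by
      rw [← Ideal.Quotient.mk_eq_mk_iff_sub_mem]
      exact congr(($hπ).hom b)
  have hiso : IsIso φ := (ConcreteCategory.isIso_iff_bijective φ).mpr hbij
  have happ : IsIso (v.app U) := by
    have e : φ = v.app U ≫ X.presheaf.map (homOfLE hpre.ge).op := rfl
    have : IsIso (homOfLE hpre.ge) := ⟨⟨homOfLE hpre.le, rfl, rfl⟩⟩
    rw [e] at hiso
    exact @IsIso.of_isIso_comp_right _ _ _ _ _ _ _ inferInstance hiso
  have : IsAffine U.toScheme := hU
  have : IsAffine (v ⁻¹ᵁ U).toScheme := hpre.symm ▸ hU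
  have : IsIso (v ∣_ U).appTop := by
    rw [Scheme.Hom.appTop, morphismRestrict_app, eqToHom_op, eqToHom_map]
    have hall : ∀ V, U = V → IsIso (v.app V) := fun V e => e ▸ happ
    refine @IsIso.comp_isIso _ _ _ _ _ _ _ (hall _ U.ι_image_top.symm) ?_
    have heq : ∀ {A B : CommRingCat.{u}} (e : A = B), IsIso (eqToHom e) := fun e => by
      subst e; exact inferInstanceAs (IsIso (𝟙 _))
    exact heq _
  exact ((MorphismProperty.isomorphisms Scheme.{u}).arrow_mk_iso_iff (arrowIsoSpecΓOfIsAffine (v ∣_ U))).mpr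
    (inferInstanceAs (IsIso (Spec.map (v ∣_ U).appTop)))


/-- Over an affine base S = Spec R with S₀ = Spec (R/J) for an ideal J of square zero: for an arbitrary
S-scheme X, every S-endomorphism of X inducing the identity on X ×_S S₀ is an automorphism. (The
published statement is over an arbitrary base scheme with a quasi-coherent ideal of square zero;
this row is its case of an affine base, to which it reduces since being an isomorphism is local on
the base.) -/
theorem result (R : Type u) [CommRing R] (J : Ideal R) (hJ : J * J = ⊥)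
    (X : Over (Spec (CommRingCat.of R))) (u : X ⟶ X)
    (h : (Over.pullback (Spec.map (CommRingCat.ofHom (Ideal.Quotient.mk J)))).map u = 𝟙 _) :
    IsIso u := by
  have hl := congrArg (fun m => m.left ≫ Limits.pullback.fst X.hom
    (Spec.map (CommRingCat.ofHom (Ideal.Quotient.mk J)))) h
  simp [Over.pullback] at hl
  have : IsIso u.left := isIso_of_sq_zero J hJ X.hom u.left (Over.w u)
    ((Limits.pullback.lift_fst _ _ _).symm.trans hl)
  have : IsIso ((Over.forget _).map u) := this
  exact isIso_of_reflects_iso u (Over.forget _)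
end Groth.Agent.S8362
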