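import Groth.Statements.S8363
import Groth.Agent.L25.NilAction
import Mathlib.Algebra.TrivSqZeroExt.Basic
import Mathlib.RingTheory.Ideal.Maps

set_option autoImplicit false
universe u
open CategoryTheory MonObj AlgebraicGeometry
open SGA3

namespace Groth.Agent.S8363

section

variable {R : Type u} [CommRing R] {X : Over (Spec (CommRingCat.of R))} [GrpObj X]

/-- the test object of an `R`-ring -/
noncomputable abbrev tst (C : Type u) [CommRing C] [Algebra R C] : Over (Spec (CommRingCat.of R)) :=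
  Over.mk (Spec.map (CommRingCat.ofHom (algebraMap R C)))

/-- the map of test objects of an algebra map -/
noncomputable def tmap {C D : Type u} [CommRing C] [Algebra R C] [CommRing D] [Algebra R D] (φ : C →ₐ[R] D) :
    (tst D : Over (Spec (CommRingCat.of R))) ⟶ tst C :=
  Over.homMk (Spec.map (CommRingCat.ofHom φ.toRingHom)) (by
    show Spec.map _ ≫ Spec.map _ = Spec.map _
    rw [← Spec.map_comp, ← CommRingCat.ofHom_comp]
    exact congrArg (fun f => Spec.map (CommRingCat.ofHom f)) φ.comp_algebraMap)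

/-- a point landing in an affine open as a ring map -/
noncomputable def toRing {U : X.left.Opens} (hU : IsAffineOpen U) {D : Type u} [CommRing D] [Algebra R D]
    (z : (tst D : Over (Spec (CommRingCat.of R))) ⟶ X) (hz : Set.range z.left ⊆ U) : Γ(X.left, U) ⟶ CommRingCat.of D :=
  Spec.preimage (IsOpenImmersion.lift hU.fromSpec z.left (by rw [hU.range_fromSpec]; exact hz))

theorem hfac {U : X.left.Opens} (hU : IsAffineOpen U) {D : Type u} [CommRing D] [Algebra R D]
    (z : (tst D : Over (Spec (CommRingCat.of R))) ⟶ X) (hz : Set.range z.left ⊆ U) :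
    Spec.map (toRing hU z hz) ≫ hU.fromSpec = z.left := by
  rw [toRing, Spec.map_preimage, IsOpenImmersion.lift_fac]

theorem hnat {U : X.left.Opens} (hU : IsAffineOpen U) {D D' : Type u} [CommRing D] [Algebra R D] [CommRing D']
    [Algebra R D'] (φ : D →ₐ[R] D')
    (z : (tst D : Over (Spec (CommRingCat.of R))) ⟶ X) (hz : Set.range z.left ⊆ U)
    (hz' : Set.range (tmap φ ≫ z).left ⊆ U) :
    toRing hU (tmap φ ≫ z) hz' = toRing hU z hz ≫ CommRingCat.ofHom φ.toRingHom := by
  refine Spec.map_injective ?_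
  rw [← cancel_mono hU.fromSpec, hfac hU _ hz', Spec.map_comp, Category.assoc, hfac hU _ hz]
  rfl

theorem toRing_congr {U : X.left.Opens} (hU : IsAffineOpen U) {D : Type u} [CommRing D] [Algebra R D]
    {z z' : (tst D : Over (Spec (CommRingCat.of R))) ⟶ X} (h : z = z') (hz : Set.range z.left ⊆ U)
    (hz' : Set.range z'.left ⊆ U) : toRing hU z hz = toRing hU z' hz' := by
  subst h; rfl

theorem toRing_eval {U : X.left.Opens} (hU : IsAffineOpen U) {D D' : Type u} [CommRing D] [Algebra R D]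
    [CommRing D'] [Algebra R D'] (q : D →ₐ[R] D') (z z' : (tst D : Over (Spec (CommRingCat.of R))) ⟶ X)
    (hz : Set.range z.left ⊆ U) (hz' : Set.range z'.left ⊆ U) (h : tmap q ≫ z = tmap q ≫ z')
    (b : Γ(X.left, U)) : q (toRing hU z hz b) = q (toRing hU z' hz' b) := by
  have h1 : Set.range (tmap q ≫ z).left ⊆ U := by
    rintro _ ⟨w, rfl⟩; exact hz ⟨(tmap q).left w, rfl⟩
  have h2 : Set.range (tmap q ≫ z').left ⊆ U := h ▸ h1
  have e := toRing_congr hU h h1 h2
  rw [hnat hU q z hz h1, hnat hU q z' hz' h2] at e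
  exact ConcreteCategory.congr_hom e b

variable {C : Type u} [CommRing C] [Algebra R C]

/-- the two step thickening -/
abbrev Two (I : Ideal C) : Type u := TrivSqZeroExt C (I × I)

/-- a projection of the thickening -/
noncomputable def proj (I : Ideal C) (hI : I * I = ⊥) (f : I × I →ₗ[C] I) : Two I →ₐ[R] C :=
  TrivSqZeroExt.lift (Algebra.ofId C C |>.restrictScalars R) ((I.subtype ∘ₗ f).restrictScalars R)
    (fun x y => by
      have : ((f x : I) : C) * (f y : I) ∈ I * I := Ideal.mul_mem_mul (f x).2 (f y).2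
      rw [hI, Ideal.mem_bot] at this
      exact this)
    (fun r x => by simp) (fun r x => by simp [mul_comm])

theorem proj_apply (I : Ideal C) (hI : I * I = ⊥) (f : I × I →ₗ[C] I) (x : Two I) :
    proj (R := R) I hI f x = x.fst + (f x.snd : C) := by
  simp [proj, TrivSqZeroExt.lift]

/-- a point congruent to one lifts to the thickening along any `k` -/
theorem lift_point {I : Ideal C} (hI : I * I = ⊥) (U : X.left.Opens) (hU : IsAffineOpen U)
    (hr : Set.range (1 : (tst C : Over (Spec (CommRingCat.of R))) ⟶ X).left ⊆ U)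
    {g : (tst C : Over (Spec (CommRingCat.of R))) ⟶ X} (hg : tmap (Ideal.Quotient.mkₐ R I) ≫ g = 1)
    (k : I →ₗ[C] I × I) :
    ∃ z : (tst (Two I) : Over (Spec (CommRingCat.of R))) ⟶ X,
      tmap ((Ideal.Quotient.mkₐ R I).comp (proj I hI 0)) ≫ z = 1 ∧
        ∀ f : I × I →ₗ[C] I, (f.comp k = LinearMap.id → tmap (proj I hI f) ≫ z = g) ∧
          (f.comp k = 0 → tmap (proj I hI f) ≫ z = 1) := by
  let p₀ : Two I →ₐ[R] C := proj I hI 0
  let π : C →ₐ[R] C ⧸ I := Ideal.Quotient.mkₐ R I
  have hone : tmap π ≫ (1 : (tst C : Over (Spec (CommRingCat.of R))) ⟶ X) = 1 := MonObj.comp_one _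
  have hgr : Set.range g.left ⊆ U := by
    rintro _ ⟨(q : PrimeSpectrum C), rfl⟩
    obtain ⟨q', hq'⟩ : q ∈ Set.range (PrimeSpectrum.comap π.toRingHom) := by
      rw [range_comap_of_surjective _ _ (show Function.Surjective π.toRingHom from Ideal.Quotient.mk_surjective)]
      intro a ha
      have h1 : a ∈ I := Ideal.Quotient.eq_zero_iff_mem.1 ha
      have h2 := Ideal.mul_mem_mul h1 h1
      rw [hI, Ideal.mem_bot] at h2
      exact q.isPrime.mem_of_pow_mem 2 (by rw [pow_two, h2]; exact zero_mem _)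
    have e : g.left q = (tmap π ≫ g).left q' := by rw [← hq']; rfl
    rw [e, hg, ← hone]
    exact hr ⟨(tmap π).left q', rfl⟩
  let φ := toRing hU g hgr
  let e := toRing hU 1 hr
  have hd : ∀ b, φ b - e b ∈ I := fun b => by
    rw [← Ideal.Quotient.eq_zero_iff_mem, map_sub, sub_eq_zero]
    have hz0 : Set.range (tmap π ≫ g).left ⊆ U := by
      rintro _ ⟨q, rfl⟩; exact hgr ⟨(tmap π).left q, rfl⟩
    have hz1 : Set.range (tmap π ≫ (1 : (tst C : Over (Spec (CommRingCat.of R))) ⟶ X)).left ⊆ U := by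
      rintro _ ⟨q, rfl⟩; exact hr ⟨(tmap π).left q, rfl⟩
    have := congrArg (fun m => m b) ((hnat hU π g hgr hz0).symm.trans
      ((show toRing hU (tmap π ≫ g) hz0 = toRing hU (tmap π ≫ 1) hz1 by congr 1; rw [hg, hone]).trans (hnat hU π 1 hr hz1)))
    exact this
  let ψ : Γ(X.left, U) →+* Two I :=
    { toFun := fun b => TrivSqZeroExt.inl (e b) + TrivSqZeroExt.inr (k ⟨φ b - e b, hd b⟩)
      map_one' := by
        ext : 1
        · simp
        · simp only [TrivSqZeroExt.snd_add, TrivSqZeroExt.snd_inl, TrivSqZeroExt.snd_inr, zero_add,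
            TrivSqZeroExt.snd_one]
          rw [show (⟨φ 1 - e 1, hd 1⟩ : I) = 0 from Subtype.ext (by simp), map_zero]
      map_zero' := by
        ext : 1
        · simp
        · simp only [TrivSqZeroExt.snd_add, TrivSqZeroExt.snd_inl, TrivSqZeroExt.snd_inr, zero_add,
            TrivSqZeroExt.snd_zero]
          rw [show (⟨φ 0 - e 0, hd 0⟩ : I) = 0 from Subtype.ext (by simp), map_zero]
      map_add' := fun a b => by
        ext : 1
        · simp
        · simp only [TrivSqZeroExt.snd_add, TrivSqZeroExt.snd_inl, TrivSqZeroExt.snd_inr, zero_add]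
          rw [← map_add]
          congr 1
          exact Subtype.ext (by simp only [map_add, Submodule.coe_add]; ring)
      map_mul' := fun a b => by
        ext : 1
        · simp
        · simp only [TrivSqZeroExt.snd_add, TrivSqZeroExt.snd_inl, TrivSqZeroExt.snd_inr, zero_add,
            TrivSqZeroExt.snd_mul, TrivSqZeroExt.fst_add, TrivSqZeroExt.fst_inl, TrivSqZeroExt.fst_inr, add_zero,
            op_smul_eq_smul]
          rw [← map_smul, ← map_smul, ← map_add]
          congr 1
          refine Subtype.ext ?_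
          have h0 := Ideal.mul_mem_mul (hd a) (hd b)
          rw [hI, Ideal.mem_bot] at h0
          simp only [map_mul, Submodule.coe_add, Submodule.coe_smul, smul_eq_mul]
          linear_combination h0 }
  let zl : Spec (CommRingCat.of (Two I)) ⟶ X.left := Spec.map (CommRingCat.ofHom ψ) ≫ hU.fromSpec
  have hw : zl ≫ X.hom = Spec.map (CommRingCat.ofHom (algebraMap R (Two I))) := by
    let ρ : CommRingCat.of R ⟶ Γ(X.left, U) := Spec.preimage (hU.fromSpec ≫ X.hom)
    have hρ : Spec.map ρ = hU.fromSpec ≫ X.hom := Spec.map_preimage _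
    have alg : ∀ {D : Type u} [CommRing D] [Algebra R D] (z : (tst D : Over (Spec (CommRingCat.of R))) ⟶ X)
        (hz : Set.range z.left ⊆ U), ρ ≫ toRing hU z hz = CommRingCat.ofHom (algebraMap R D) := fun z hz =>
      Spec.map_injective (by rw [Spec.map_comp, hρ, ← Category.assoc, hfac hU _ hz, Over.w]; rfl)
    simp only [zl]
    rw [Category.assoc, ← hρ, ← Spec.map_comp]
    congr 1
    refine CommRingCat.hom_ext (RingHom.ext fun r => ?_)
    have h1 : φ (ρ r) = algebraMap R C r := congr($(alg g hgr) r)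
    have h2 : e (ρ r) = algebraMap R C r := congr($(alg 1 hr) r)
    show ψ (ρ r) = algebraMap R (Two I) r
    simp only [ψ, RingHom.coe_mk, MonoidHom.coe_mk, OneHom.coe_mk, h2]
    rw [show (⟨φ (ρ r) - algebraMap R C r, (by rw [h1, sub_self]; exact zero_mem _)⟩ : I) = 0 from
      Subtype.ext (by simp [h1]), map_zero, TrivSqZeroExt.inr_zero, add_zero]
    rfl
  let z : (tst (Two I) : Over (Spec (CommRingCat.of R))) ⟶ X := Over.homMk zl hw
  have hproj : ∀ (f : I × I →ₗ[C] I) (b), proj (R := R) I hI f (ψ b) = e b + f (k ⟨φ b - e b, hd b⟩) := fun f b => by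
    simp [ψ, proj_apply]
  have eq_of : ∀ {D : Type u} [CommRing D] [Algebra R D] (q : Two I →ₐ[R] D)
      (w : (tst D : Over (Spec (CommRingCat.of R))) ⟶ X) (hw' : Set.range w.left ⊆ U),
      (∀ b, q (ψ b) = toRing hU w hw' b) → tmap q ≫ z = w := fun q w hw' h => by
    refine Over.OverMorphism.ext ?_
    rw [← hfac hU w hw']
    show Spec.map _ ≫ Spec.map (CommRingCat.ofHom ψ) ≫ hU.fromSpec = _
    rw [← Category.assoc, ← Spec.map_comp]
    congr 2
    exact CommRingCat.hom_ext (RingHom.ext h)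
  have h0 : tmap p₀ ≫ z = 1 := eq_of p₀ 1 hr fun b => by rw [hproj]; simp [e]
  refine ⟨z, ?_, fun f => ⟨fun hf => eq_of _ g hgr fun b => ?_, fun hf => eq_of _ 1 hr fun b => ?_⟩⟩
  · rw [show tmap (π.comp p₀) = tmap π ≫ tmap p₀ from Over.OverMorphism.ext (by
      show Spec.map _ = Spec.map _ ≫ Spec.map _
      rw [← Spec.map_comp]; rfl), Category.assoc, h0, hone]
  · rw [hproj, ← LinearMap.comp_apply, hf]
    show e b + (φ b - e b) = φ b
    ring
  · rw [hproj, ← LinearMap.comp_apply, hf]
    simp [e]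

/-- every point of the thickening congruent to one lands in `U` -/
theorem range_thick {I : Ideal C} (hI : I * I = ⊥) (U : X.left.Opens)
    (hr : Set.range (1 : (tst C : Over (Spec (CommRingCat.of R))) ⟶ X).left ⊆ U)
    (z : (tst (Two I) : Over (Spec (CommRingCat.of R))) ⟶ X)
    (hz : tmap ((Ideal.Quotient.mkₐ R I).comp (proj I hI 0)) ≫ z = 1) : Set.range z.left ⊆ U := by
  let p₀ : Two I →ₐ[R] C := proj I hI 0
  let π : C →ₐ[R] C ⧸ I := Ideal.Quotient.mkₐ R I
  let inl : C →ₐ[R] Two I := (TrivSqZeroExt.inlAlgHom C C (I × I)).restrictScalars R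
  rintro _ ⟨(q : PrimeSpectrum (Two I)), rfl⟩
  have hker : ∀ a : Two I, (π.comp p₀) a = 0 → IsNilpotent a := by
    intro a ha
    have h1 : p₀ a ∈ I := Ideal.Quotient.eq_zero_iff_mem.1 ha
    rw [proj_apply, LinearMap.zero_apply, ZeroMemClass.coe_zero, add_zero] at h1
    have h2 : a.fst * a.fst = 0 := by
      have := Ideal.mul_mem_mul h1 h1
      rwa [hI, Ideal.mem_bot] at this
    refine TrivSqZeroExt.isNilpotent_iff_isNilpotent_fst.2 ⟨2, by rw [pow_two]; exact h2⟩
  have hs : Function.Surjective (π.comp p₀) := fun c => by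
    obtain ⟨c, rfl⟩ := Ideal.Quotient.mk_surjective c
    exact ⟨inl c, congrArg π (by simp [p₀, inl, proj_apply])⟩
  obtain ⟨q', hq'⟩ : q ∈ Set.range (PrimeSpectrum.comap (π.comp p₀).toRingHom) := by
    rw [range_comap_of_surjective _ _ hs]
    intro a ha
    obtain ⟨n, hn⟩ := hker a ha
    exact q.isPrime.mem_of_pow_mem n (hn ▸ zero_mem _)
  have e : z.left q = (tmap (π.comp p₀) ≫ z).left q' := by
    show z.left q = z.left ((tmap (π.comp p₀)).left q')
    rw [← hq']
    rfl
  have e1 : (1 : (tst (C ⧸ I) : Over (Spec (CommRingCat.of R))) ⟶ X) = tmap π ≫ 1 := (MonObj.comp_one _).symm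
  rw [e, hz, e1]
  exact hr ⟨(tmap π).left q', rfl⟩

/-- commutativity on an affine test object -/
theorem comm_core (J : Ideal R) (hJ : J * J = ⊥) (U : X.left.Opens) (hU : IsAffineOpen U)
    (g g' : (tst C : Over (Spec (CommRingCat.of R))) ⟶ X)
    (hg : tmap (Ideal.Quotient.mkₐ R (J.map (algebraMap R C))) ≫ g = 1)
    (hg' : tmap (Ideal.Quotient.mkₐ R (J.map (algebraMap R C))) ≫ g' = 1)
    (hr : Set.range (1 : (tst C : Over (Spec (CommRingCat.of R))) ⟶ X).left ⊆ U) : g * g' = g' * g := by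
  let I : Ideal C := J.map (algebraMap R C)
  have hI : I * I = ⊥ := by rw [← Ideal.map_mul, hJ, Ideal.map_bot]
  let p₁ : Two I →ₐ[R] C := proj I hI (LinearMap.fst C I I)
  let p₂ : Two I →ₐ[R] C := proj I hI (LinearMap.snd C I I)
  let pa : Two I →ₐ[R] C := proj I hI (LinearMap.fst C I I + LinearMap.snd C I I)
  let p₀ : Two I →ₐ[R] C := proj I hI 0
  let π : C →ₐ[R] C ⧸ I := Ideal.Quotient.mkₐ R I
  let inl : C →ₐ[R] Two I := (TrivSqZeroExt.inlAlgHom C C (I × I)).restrictScalars R
  -- every point of the thickening lands in `U`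
  have hE := range_thick hI U hr
  -- the two points of the thickening
  have lift_pt := fun g hg k => lift_point hI U hU hr (g := g) hg k
  obtain ⟨G₁, hG₁, hG₁f⟩ := lift_pt g hg (LinearMap.inl C I I)
  obtain ⟨G₂, hG₂, hG₂f⟩ := lift_pt g' hg' (LinearMap.inr C I I)
  have a1 := (hG₁f (LinearMap.fst C I I)).1 (LinearMap.fst_comp_inl ..)
  have a2 := (hG₁f (LinearMap.snd C I I)).2 (LinearMap.snd_comp_inl ..)
  have a3 := (hG₁f (LinearMap.fst C I I + LinearMap.snd C I I)).1 (by
    rw [LinearMap.add_comp, LinearMap.fst_comp_inl, LinearMap.snd_comp_inl, add_zero])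
  have b1 := (hG₂f (LinearMap.fst C I I)).2 (LinearMap.fst_comp_inr ..)
  have b2 := (hG₂f (LinearMap.snd C I I)).1 (LinearMap.snd_comp_inr ..)
  have b3 := (hG₂f (LinearMap.fst C I I + LinearMap.snd C I I)).1 (by
    rw [LinearMap.add_comp, LinearMap.fst_comp_inr, LinearMap.snd_comp_inr, zero_add])
  have r12 := hE (G₁ * G₂) (by rw [MonObj.comp_mul, hG₁, hG₂, _root_.mul_one])
  have r21 := hE (G₂ * G₁) (by rw [MonObj.comp_mul, hG₁, hG₂, _root_.mul_one])
  have key : G₁ * G₂ = G₂ * G₁ := by
    have h1 : tmap p₁ ≫ (G₁ * G₂) = tmap p₁ ≫ (G₂ * G₁) := by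
      rw [MonObj.comp_mul, MonObj.comp_mul, a1, b1, _root_.mul_one, _root_.one_mul]
    have h2 : tmap p₂ ≫ (G₁ * G₂) = tmap p₂ ≫ (G₂ * G₁) := by
      rw [MonObj.comp_mul, MonObj.comp_mul, a2, b2, _root_.mul_one, _root_.one_mul]
    have h3 : tmap p₀ ≫ (G₁ * G₂) = tmap p₀ ≫ (G₂ * G₁) := by
      have c1 := (hG₁f 0).2 (LinearMap.zero_comp _)
      have c2 := (hG₂f 0).2 (LinearMap.zero_comp _)
      rw [MonObj.comp_mul, MonObj.comp_mul, c1, c2]
    refine Over.OverMorphism.ext ?_
    rw [← hfac hU _ r12, ← hfac hU _ r21]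
    congr 2
    refine CommRingCat.hom_ext (RingHom.ext fun b => ?_)
    have hp : ∀ q : Two I →ₐ[R] C, tmap q ≫ (G₁ * G₂) = tmap q ≫ (G₂ * G₁) →
        q (toRing hU _ r12 b) = q (toRing hU _ r21 b) := fun q hq => toRing_eval hU q _ _ r12 r21 hq b
    have e0 := hp p₀ h3
    have e1 := hp p₁ h1
    have e2 := hp p₂ h2
    simp only [p₀, p₁, p₂, proj_apply, LinearMap.zero_apply, LinearMap.fst_apply, LinearMap.snd_apply,
      ZeroMemClass.coe_zero, add_zero] at e0 e1 e2
    rw [e0, add_right_inj] at e1 e2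
    ext1
    · exact e0
    · exact Prod.ext (Subtype.ext e1) (Subtype.ext e2)
  have := congrArg (tmap pa ≫ ·) key
  simpa [MonObj.comp_mul, pa, a3, b3] using this

end

/-- a point over the closed subscheme of a point reducing to one is one -/
theorem red_one {S P : Scheme.{u}} (j : P ⟶ S) {X Y : Over S} [GrpObj X] (g : Y ⟶ X)
    (hg : (Over.pullback j).map g = 1) (T : Over S) (t : T.left ⟶ P) (ht : t ≫ j = T.hom) (c : T ⟶ Y) :
    c ≫ g = 1 := by
  let q : Over.mk ((Over.mk t).hom ≫ j) ⟶ T := Over.homMk (𝟙 _) (by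
    show 𝟙 _ ≫ T.hom = t ≫ j
    rw [Category.id_comp, ht])
  haveI : Epi q.left := inferInstanceAs (Epi (𝟙 T.left))
  haveI : Epi q := Over.epi_of_epi_left q
  refine (cancel_epi q).1 ?_
  rw [MonObj.comp_one, ← Category.assoc]
  conv_lhs => rw [← Groth.L25.NilAction.toBase_ofBase j (_ ≫ g), ← Groth.L25.NilAction.ofBase_comp, hg,
    MonObj.comp_one, Groth.L25.NilAction.toBase_one]

/-- The kernel of the reduction map is commutative: over an affine base S = Spec R with S₀ = Spec (R/J)
for an ideal J of square zero: for a group scheme X over S and an arbitrary S-scheme Y, the kernel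
of the reduction map from X(Y) to X(Y ×_S S₀) = X₀(Y₀) is a commutative group: two Y-valued points
of X whose base changes to S₀ are the unit commute. (The published statement identifies this kernel,
as a group functor, with the commutative functor of homomorphisms from the pulled-back invariant
differentials of X₀ to J·O_Y, over an arbitrary base with a quasi-coherent ideal of square zero;
this row states only the resulting commutativity, over an affine base.) -/
theorem result (R : Type u) [CommRing R] (J : Ideal R) (hJ : J * J = ⊥)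
    (X : Over (Spec (CommRingCat.of R))) [GrpObj X] (Y : Over (Spec (CommRingCat.of R))) (g g' : Y ⟶ X)
    (hg : (Over.pullback (Spec.map (CommRingCat.ofHom (Ideal.Quotient.mk J)))).map g = 1)
    (hg' : (Over.pullback (Spec.map (CommRingCat.ofHom (Ideal.Quotient.mk J)))).map g' = 1) :
    g * g' = g' * g := by
  refine Over.OverMorphism.ext ((Y.left.openCoverOfIsOpenCover
    (fun W : {W : Y.left.Opens // ∃ U : X.left.Opens, IsAffineOpen U ∧
      IsAffineOpen W ∧ (W : Set Y.left) ⊆ (1 : Y ⟶ X).left ⁻¹' (U : Set X.left)} => W.1)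
    (TopologicalSpace.IsOpenCover.mk (top_le_iff.1 ?_))).hom_ext _ _ fun W => ?_)
  · intro y _
    obtain ⟨U, hU, hyU, -⟩ := exists_isAffineOpen_mem_and_subset (x := (1 : Y ⟶ X).left y) (U := ⊤) trivial
    obtain ⟨W, hW, hyW, hWU⟩ := exists_isAffineOpen_mem_and_subset (x := y) (U := (1 : Y ⟶ X).left ⁻¹ᵁ U) hyU
    exact TopologicalSpace.Opens.mem_iSup.2 ⟨⟨W, U, hU, hW, hWU⟩, hyW⟩
  obtain ⟨W, U, hU, hW, hWU⟩ := W
  let θ : CommRingCat.of R ⟶ Γ(Y.left, W) := Spec.preimage (hW.fromSpec ≫ Y.hom)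
  have hθ : Spec.map θ = hW.fromSpec ≫ Y.hom := Spec.map_preimage _
  letI : Algebra R Γ(Y.left, W) := θ.hom.toAlgebra
  let c : (tst Γ(Y.left, W) : Over (Spec (CommRingCat.of R))) ⟶ Y := Over.homMk hW.fromSpec hθ.symm
  let j₀ := Spec.map (CommRingCat.ofHom (Ideal.Quotient.mk J))
  have hred : ∀ g : Y ⟶ X, (Over.pullback j₀).map g = 1 →
      tmap (Ideal.Quotient.mkₐ R (J.map (algebraMap R Γ(Y.left, W)))) ≫ c ≫ g = 1 := by
    intro g hg
    rw [← Category.assoc]
    refine red_one j₀ g hg _ (Spec.map (CommRingCat.ofHom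
      (Ideal.quotientMap _ (algebraMap R Γ(Y.left, W)) Ideal.le_comap_map))) ?_ _
    show Spec.map _ ≫ Spec.map _ = Spec.map _
    rw [← Spec.map_comp, ← CommRingCat.ofHom_comp, Ideal.quotientMap_comp_mk]
  have key := comm_core J hJ U hU (c ≫ g) (c ≫ g') (hred g hg) (hred g' hg') (by
    rw [← MonObj.comp_one c]
    rintro _ ⟨q, rfl⟩
    show (1 : Y ⟶ X).left (hW.fromSpec q) ∈ U
    exact hWU (hW.range_fromSpec ▸ Set.mem_range_self q))
  rw [← MonObj.comp_mul, ← MonObj.comp_mul] at key
  have h2 := congrArg (fun m => hW.isoSpec.hom ≫ m.left) key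
  simp only [Over.comp_left, c, Over.homMk_left] at h2
  rw [IsAffineOpen.fromSpec, ← Category.assoc, ← Category.assoc] at h2
  have h3 : W.ι ≫ (g * g').left = W.ι ≫ (g' * g).left := by simpa using h2
  exact h3

end Groth.Agent.S8363
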