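import Groth.Statements.S8364

set_option autoImplicit false
universe u
open SGA3

namespace Groth.Agent.S8364

/-- For a commutative ring R, an ideal J of R of square zero, a smooth R-algebra A and the extended
ideal I = J·A, every R-algebra automorphism of A/I lifts to an R-algebra automorphism of A. (The
published statement concerns the automorphism functor of a smooth affine S-scheme E and affine test
schemes Y; this row is the case Y = S = Spec R, E = Spec A, which gives the general one after
replacing R by the ring of Y.) -/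
theorem result (R A : Type u) [CommRing R] [CommRing A] [Algebra R A]
    [Algebra.Smooth R A] (J : Ideal R) (hJ : J * J = ⊥)
    (φ₀ : (A ⧸ Ideal.map (algebraMap R A) J) ≃ₐ[R] (A ⧸ Ideal.map (algebraMap R A) J)) :
    ∃ φ : A ≃ₐ[R] A,
      (Ideal.Quotient.mkₐ R (Ideal.map (algebraMap R A) J)).comp φ.toAlgHom =
        φ₀.toAlgHom.comp (Ideal.Quotient.mkₐ R (Ideal.map (algebraMap R A) J)) := by
  let I := Ideal.map (algebraMap R A) J
  have hII : I * I = ⊥ := by
    show Ideal.map (algebraMap R A) J * Ideal.map (algebraMap R A) J = ⊥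
    rw [← Ideal.map_mul, hJ, Ideal.map_bot]
  have hI : IsNilpotent I := ⟨2, by rw [pow_two, hII]; rfl⟩
  let φ := Algebra.FormallySmooth.lift I hI (φ₀.toAlgHom.comp (Ideal.Quotient.mkₐ R I))
  let ψ := Algebra.FormallySmooth.lift I hI (φ₀.symm.toAlgHom.comp (Ideal.Quotient.mkₐ R I))
  have hφ : ∀ x, Ideal.Quotient.mk I (φ x) = φ₀ (Ideal.Quotient.mk I x) := fun x =>
    Algebra.FormallySmooth.mk_lift I hI _ x
  have hψ : ∀ x, Ideal.Quotient.mk I (ψ x) = φ₀.symm (Ideal.Quotient.mk I x) := fun x =>
    Algebra.FormallySmooth.mk_lift I hI _ x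
  have key : ∀ θ : A →ₐ[R] A, (∀ x, Ideal.Quotient.mk I (θ x) = Ideal.Quotient.mk I x) →
      Function.Bijective θ := by
    intro θ hθ
    let δ : A →ₗ[R] A := θ.toLinearMap - LinearMap.id
    have hδ : ∀ x, δ x = θ x - x := fun x => rfl
    have hδI : ∀ x, δ x ∈ J • (⊤ : Submodule R A) := fun x => by
      rw [Ideal.smul_top_eq_map, Submodule.restrictScalars_mem, hδ]; exact Ideal.Quotient.eq.1 (hθ x)
    have hδδ : ∀ x, δ (δ x) = 0 := by
      intro x
      suffices ∀ y ∈ J • (⊤ : Submodule R A), δ y = 0 from this _ (hδI x)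
      intro y hy
      refine Submodule.smul_induction_on (p := fun y => δ y = 0) hy (fun r hr m _ => ?_) (fun a b ha hb => by rw [map_add, ha, hb, add_zero])
      rw [map_smul]
      have h2 : r • δ m ∈ J • (J • (⊤ : Submodule R A)) := Submodule.smul_mem_smul hr (hδI m)
      rwa [← mul_smul, hJ, Submodule.bot_smul] at h2
    have hθ' : ∀ x, θ x = x + δ x := fun x => by rw [hδ]; ring
    refine ⟨fun x y hxy => ?_, fun y => ⟨y - δ y, by rw [hθ', map_sub, hδδ]; ring⟩⟩
    have hd := congrArg δ (show x + δ x = y + δ y by rw [← hθ', ← hθ', hxy])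
    simp only [map_add, hδδ, add_zero] at hd
    rw [hθ' x, hθ' y, hd] at hxy
    exact add_right_cancel hxy
  have h1 := key (ψ.comp φ) fun x => by simp [hψ, hφ]
  have h2 := key (φ.comp ψ) fun x => by simp [hψ, hφ]
  refine ⟨AlgEquiv.ofBijective φ ⟨Function.Injective.of_comp h1.1, Function.Surjective.of_comp h2.2⟩, ?_⟩
  ext x
  exact hφ x
end Groth.Agent.S8364
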