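import Groth.Statements.S8366
import Groth.Agent.L25.NilIso
import Groth.Agent.L25.NilAction
import Groth.Agent.L25.DescHom

set_option autoImplicit false
universe u
open CategoryTheory MonoidalCategory MonObj AlgebraicGeometry
open SGA3

namespace Groth.Agent.S8366

set_option backward.isDefEq.respectTransparency.types false
set_option linter.style.haveILetI false

open Groth.L25 MonoidalCategory CartesianMonoidalCategory CategoryTheory.Limits MonObj in
theorem aux (R : Type u) [CommRing R] (I : Ideal R)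
    (hI : IsNilpotent I) (X : Over (Spec (CommRingCat.of R))) [Flat X.hom]
    (hX : QuasiCompact X.hom ∨ LocallyOfFinitePresentation X.hom) (P : X ⊗ X ⟶ X)
    (hassoc : (P ▷ X) ≫ P = (α_ X X X).hom ≫ (X ◁ P) ≫ P)
    (h0 : ∃ _ : GrpObj ((Over.pullback (Spec.map (CommRingCat.ofHom (Ideal.Quotient.mk I)))).obj X),
      μ[(Over.pullback (Spec.map (CommRingCat.ofHom (Ideal.Quotient.mk I)))).obj X] =
        Functor.LaxMonoidal.μ (Over.pullback (Spec.map (CommRingCat.ofHom (Ideal.Quotient.mk I)))) X X ≫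
          (Over.pullback (Spec.map (CommRingCat.ofHom (Ideal.Quotient.mk I)))).map P) :
    ∃ _ : GrpObj X, μ[X] = P := by
  obtain ⟨grp, hμ⟩ := h0
  let T := Spec (CommRingCat.of R)
  let i := Spec.map (CommRingCat.ofHom (Ideal.Quotient.mk I))
  let F := Over.pullback i
  let X₀ := Red.bc i X
  letI : GrpObj X₀ := grp
  let op : ∀ {Y : Over T}, (Y ⟶ X) → (Y ⟶ X) → (Y ⟶ X) := fun a b => lift a b ≫ P
  have hop : ∀ {Y : Over T} (a b c : Y ⟶ X), op (op a b) c = op a (op b c) := fun a b c => by
    have h := lift (lift a b) c ≫= hassoc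
    rw [lift_whiskerRight_assoc, lift_lift_associator_hom_assoc, lift_whiskerLeft_assoc] at h
    exact h
  have hnat : ∀ {Y Y' : Over T} (f : Y' ⟶ Y) (a b : Y ⟶ X), f ≫ op a b = op (f ≫ a) (f ≫ b) := fun f a b => by
    simp only [op, comp_lift_assoc]
  -- over the thickened subscheme the law is the group law
  have hgrp : ∀ {W : Over (Spec (CommRingCat.of (R ⧸ I)))} (a b : Over.mk (W.hom ≫ i) ⟶ X),
      NilAction.ofBase i (op a b) = (NilAction.ofBase i a : W ⟶ X₀) * NilAction.ofBase i b := by
    intro W a b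
    have e : lift (NilAction.ofBase i a : W ⟶ X₀) (NilAction.ofBase i b) ≫ Functor.LaxMonoidal.μ F X X =
        NilAction.ofBase i (lift a b) := by
      rw [← cancel_mono (Functor.OplaxMonoidal.δ F X X), Category.assoc, Functor.Monoidal.μ_δ, Category.comp_id]
      refine CartesianMonoidalCategory.hom_ext _ _ ?_ ?_
      · rw [lift_fst, Category.assoc, Functor.OplaxMonoidal.δ_fst, NilAction.ofBase_comp, lift_fst]
      · rw [lift_snd, Category.assoc, Functor.OplaxMonoidal.δ_snd, NilAction.ofBase_comp, lift_snd]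
    rw [Hom.mul_def]
    refine ((congrArg (lift _ _ ≫ ·) hμ).trans ?_).symm
    rw [← Category.assoc, e, NilAction.ofBase_comp]
  have hc : ∀ (Y : Over T) (p : Y ⟶ Cocycle.Z I), ∃ c : Over.mk ((Over.mk p.left).hom ≫ i) ⟶ Y, IsIso c := by
    intro Y p
    let c : Over.mk ((Over.mk p.left).hom ≫ i) ⟶ Y := Over.homMk (𝟙 _) (by
      show 𝟙 _ ≫ Y.hom = p.left ≫ i
      rw [Category.id_comp]; exact (Over.w p).symm)
    haveI : IsIso ((Over.forget T).map c) := inferInstanceAs (IsIso (𝟙 Y.left))
    exact ⟨c, isIso_of_reflects_iso c (Over.forget T)⟩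
  have hbij : ∀ (Y : Over T) (p : Y ⟶ Cocycle.Z I) (a c : Y ⟶ X),
      (∃ b, op a b = c) ∧ (∃ b, op b a = c) ∧ (∀ b b', op a b = op a b' → b = b') ∧
        (∀ b b', op b a = op b' a → b = b') := by
    intro Y p a c
    obtain ⟨γ, _⟩ := hc Y p
    let ν : (Y ⟶ X) → (Over.mk p.left ⟶ X₀) := fun x => NilAction.ofBase i (γ ≫ x)
    have hν : ∀ x y, ν (op x y) = ν x * ν y := fun x y => by
      show NilAction.ofBase i (γ ≫ op x y) = _
      rw [hnat, hgrp]
    have hinj : ∀ x y, ν x = ν y → x = y := fun x y h => by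
      have := congrArg (NilAction.toBase i) h
      rwa [NilAction.toBase_ofBase, NilAction.toBase_ofBase, cancel_epi] at this
    have hsurj : ∀ z, ∃ x, ν x = z := fun z => ⟨inv γ ≫ NilAction.toBase i z, by
      show NilAction.ofBase i (γ ≫ inv γ ≫ NilAction.toBase i z) = z
      rw [IsIso.hom_inv_id_assoc, NilAction.ofBase_toBase]⟩
    refine ⟨?_, ?_, fun b b' h => hinj _ _ ?_, fun b b' h => hinj _ _ ?_⟩
    · obtain ⟨b, hb⟩ := hsurj ((ν a)⁻¹ * ν c)
      exact ⟨b, hinj _ _ (by rw [hν, hb, mul_inv_cancel_left])⟩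
    · obtain ⟨b, hb⟩ := hsurj (ν c * (ν a)⁻¹)
      exact ⟨b, hinj _ _ (by rw [hν, hb, inv_mul_cancel_right])⟩
    · exact mul_left_cancel (a := ν a) (by rw [← hν, ← hν, h])
    · exact mul_right_cancel (b := ν a) (by rw [← hν, ← hν, h])
  -- the shear maps
  haveI : Flat (X ⊗ X).hom := by
    show Flat (pullback.fst X.hom X.hom ≫ X.hom)
    infer_instance
  haveI hσ : IsIso (lift (fst X X) P) := by
    refine NilIso.isIso_of_points hI _ (fun Y q c => ?_) (fun Y q a a' h => ?_)
    · obtain ⟨b, hb⟩ := (hbij Y q (c ≫ fst _ _) (c ≫ snd _ _)).1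
      refine ⟨lift (c ≫ fst _ _) b, ?_⟩
      ext1
      · rw [Category.assoc, lift_fst, lift_fst]
      · rw [Category.assoc, lift_snd]; exact hb
    · have h1 : a ≫ fst _ _ = a' ≫ fst _ _ := by simpa using h =≫ fst _ _
      have h2 : op (a ≫ fst _ _) (a ≫ snd _ _) = op (a' ≫ fst _ _) (a' ≫ snd _ _) := by
        simp only [op, ← comp_lift_assoc, lift_fst_snd, Category.comp_id]
        simpa using h =≫ snd _ _
      rw [← h1] at h2
      exact CartesianMonoidalCategory.hom_ext _ _ h1 ((hbij Y q (a ≫ fst _ _) (a ≫ fst _ _)).2.2.1 _ _ h2)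
  haveI hσ' : IsIso (lift P (snd X X)) := by
    refine NilIso.isIso_of_points hI _ (fun Y q c => ?_) (fun Y q a a' h => ?_)
    · obtain ⟨b, hb⟩ := (hbij Y q (c ≫ snd _ _) (c ≫ fst _ _)).2.1
      refine ⟨lift b (c ≫ snd _ _), ?_⟩
      ext1
      · rw [Category.assoc, lift_fst]; exact hb
      · rw [Category.assoc, lift_snd, lift_snd]
    · have h1 : a ≫ snd _ _ = a' ≫ snd _ _ := by simpa using h =≫ snd _ _
      have h2 : op (a ≫ fst _ _) (a ≫ snd _ _) = op (a' ≫ fst _ _) (a' ≫ snd _ _) := by
        simp only [op, ← comp_lift_assoc, lift_fst_snd, Category.comp_id]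
        simpa using h =≫ fst _ _
      rw [← h1] at h2
      exact CartesianMonoidalCategory.hom_ext _ _ ((hbij Y q (a ≫ snd _ _) (a ≫ snd _ _)).2.2.2 _ _ h2) h1
  have lcancel : ∀ {Y : Over T} (a b b' : Y ⟶ X), op a b = op a b' → b = b' := fun a b b' h => by
    have : lift a b = lift a b' := by
      rw [← cancel_mono (lift (fst X X) P)]
      ext1
      · simp
      · simpa using h
    simpa using this =≫ snd _ _
  have rcancel : ∀ {Y : Over T} (a b b' : Y ⟶ X), op b a = op b' a → b = b' := fun a b b' h => by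
    have : lift b a = lift b' a := by
      rw [← cancel_mono (lift P (snd X X))]
      ext1
      · simpa using h
      · simp
    simpa using this =≫ fst _ _
  have ldiv : ∀ {Y : Over T} (a c : Y ⟶ X), op a (lift a c ≫ inv (lift (fst X X) P) ≫ snd _ _) = c := fun a c => by
    let w := lift a c ≫ inv (lift (fst X X) P)
    have h1 : w ≫ lift (fst X X) P = lift a c := by
      rw [Category.assoc, IsIso.inv_hom_id, Category.comp_id]
    have h2 : w ≫ fst _ _ = a := by simpa using h1 =≫ fst _ _
    have h3 : w ≫ P = c := by simpa using h1 =≫ snd _ _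
    show lift a (lift a c ≫ inv (lift (fst X X) P) ≫ snd _ _) ≫ P = c
    conv_rhs => rw [← h3]
    congr 1
    conv_lhs => arg 1; rw [← h2]
    rw [← Category.assoc (lift a c), ← comp_lift, lift_fst_snd, Category.comp_id]
  -- the unit
  let e₀ : X ⟶ X := lift (𝟙 X) (𝟙 X) ≫ inv (lift (fst X X) P) ≫ snd _ _
  have he₀ : op (𝟙 X) e₀ = 𝟙 X := ldiv _ _
  have hone : ∀ {Y : Over T} (x y : Y ⟶ X), op (x ≫ e₀) y = y ∧ op y (x ≫ e₀) = y := by
    intro Y x y
    have h1 : op x (x ≫ e₀) = x := by
      conv_lhs => arg 1; rw [← Category.comp_id x]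
      rw [← hnat, he₀, Category.comp_id]
    have h2 : ∀ z, op (x ≫ e₀) z = z := fun z => lcancel x _ _ (by rw [← hop, h1])
    exact ⟨h2 y, rcancel x _ _ (by rw [hop, h2])⟩
  haveI : Surjective (Cocycle.Z I).hom := NilIso.surjective_Z hI
  haveI : Surjective X.hom := ⟨fun q => by
    obtain ⟨z, hz⟩ := (Cocycle.Z I).hom.surjective q
    exact ⟨((η[X₀] : 𝟙_ _ ⟶ X₀).left ≫ pullback.fst X.hom i) z, by
      rw [← Scheme.Hom.comp_apply, Category.assoc, pullback.condition, ← Category.assoc]
      show ((η[X₀] : 𝟙_ _ ⟶ X₀).left ≫ X₀.hom ≫ i) z = q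
      rw [← Category.assoc, Over.w (η[X₀] : 𝟙_ _ ⟶ X₀)]
      show (𝟙 _ ≫ i) z = q
      rw [Category.id_comp]
      exact hz⟩⟩
  have hcov : Groth.L27.Torsor.Cov (toUnit X) := by
    haveI : Flat (toUnit X).left := by rw [show (toUnit X).left = X.hom by simp]; infer_instance
    haveI : Surjective (toUnit X).left := by rw [show (toUnit X).left = X.hom by simp]; infer_instance
    rcases hX with hX | hX
    · haveI : QuasiCompact (toUnit X).left := by rw [show (toUnit X).left = X.hom by simp]; exact hX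
      exact DescHom.cov_of_flat _
    · haveI : LocallyOfFinitePresentation (toUnit X).left := by rw [show (toUnit X).left = X.hom by simp]; exact hX
      exact Scheme.fppfTopology_le_fpqcTopology _
        (Precoverage.generate_mem_toGrothendieck (toUnit X).left.singleton_mem_fppfPrecoverage)
  obtain ⟨e, he⟩ := Groth.L27.Torsor.descend hcov e₀ (fun Y a b _ =>
    ((hone b (a ≫ e₀)).2).symm.trans (hone a (b ≫ e₀)).1)
  have he' : ∀ {Y : Over T} (x : Y ⟶ X), toUnit Y ≫ e = x ≫ e₀ := fun x => by
    rw [← he, ← Category.assoc, toUnit_unique (x ≫ toUnit X) (toUnit _)]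
  -- the inverse
  let ν₀ : X ⟶ X := lift (𝟙 X) (toUnit X ≫ e) ≫ inv (lift (fst X X) P) ≫ snd _ _
  have hν₀ : op (𝟙 X) ν₀ = toUnit X ≫ e := ldiv _ _
  let grpX : GrpObj X :=
    { one := e
      mul := P
      one_mul := by
        have h := (hone (snd (𝟙_ (Over T)) X) (snd (𝟙_ (Over T)) X)).1
        rw [← he'] at h
        rw [leftUnitor_hom]
        refine Eq.trans ?_ h
        show _ = lift _ _ ≫ P
        congr 1
        all_goals (ext1 <;> simp [toUnit_unique (toUnit (𝟙_ (Over T) ⊗ X)) (fst _ _)] <;> rfl)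
      mul_one := by
        have h := (hone (fst X (𝟙_ (Over T))) (fst X (𝟙_ (Over T)))).2
        rw [← he'] at h
        rw [rightUnitor_hom]
        refine Eq.trans ?_ h
        show _ = lift _ _ ≫ P
        congr 1
        ext1 <;> simp [toUnit_unique (toUnit (X ⊗ 𝟙_ (Over T))) (snd _ _)] <;> rfl
      mul_assoc := hassoc
      inv := ν₀
      left_inv := lcancel (𝟙 X) (op ν₀ (𝟙 X)) (toUnit X ≫ e) (by
        rw [← hop, hν₀, he' (𝟙 X), (hone _ _).1, (hone _ _).2])
      right_inv := hν₀ }
  exact ⟨grpX, rfl⟩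

/-- Over an affine base S = Spec R with S₀ = Spec (R/I) for a nilpotent ideal I: let X be an S-scheme
which is flat and either quasi-compact or locally of finite presentation over S, and P : X ×_S X → X
a composition law. If P is associative and its base change to S₀ is the multiplication of some
group-scheme structure on X ×_S S₀, then P is the multiplication of a group-scheme structure on X.
(The published statement is over an arbitrary base scheme with S₀ defined by a nilpotent
quasi-coherent ideal; this row is its case of an affine base.) -/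
theorem result (R : Type u) [CommRing R] (I : Ideal R)
    (hI : IsNilpotent I) (X : Over (Spec (CommRingCat.of R))) [Flat X.hom]
    (hX : QuasiCompact X.hom ∨ LocallyOfFinitePresentation X.hom) (P : X ⊗ X ⟶ X)
    (hassoc : (P ▷ X) ≫ P = (α_ X X X).hom ≫ (X ◁ P) ≫ P)
    (h0 : ∃ _ : GrpObj ((Over.pullback (Spec.map (CommRingCat.ofHom (Ideal.Quotient.mk I)))).obj X),
      μ[(Over.pullback (Spec.map (CommRingCat.ofHom (Ideal.Quotient.mk I)))).obj X] =
        Functor.LaxMonoidal.μ (Over.pullback (Spec.map (CommRingCat.ofHom (Ideal.Quotient.mk I)))) X X ≫ (Over.pullback (Spec.map (CommRingCat.ofHom (Ideal.Quotient.mk I)))).map P) :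
    ∃ _ : GrpObj X, μ[X] = P := by
  exact aux R I hI X hX P hassoc h0

end Groth.Agent.S8366
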