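import Groth.Statements.S8367
import Groth.Agent.L08.GrpLCI2
import Groth.Agent.L07.TransImm
import Groth.Agent.L07.SyntMor
import Groth.Agent.L07.SyntScheme
import Groth.Agent.L07.RegImmLocal

set_option autoImplicit false
set_option linter.style.haveILetI false
universe u
open CategoryTheory MonObj AlgebraicGeometry
open SGA3

namespace Groth.Agent.S8367

/-- For a scheme S, a group scheme X smooth over S and a sub-group-scheme Y of X (a homomorphism of
S-group schemes from Y to X which is an immersion) with Y flat and locally of finite presentation
over S, the immersion of Y in X is regular: each point of Y has an affine open neighbourhood in X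
over which the immersion is closed and cut out by a regular sequence. (The published statement
concludes that Y is a local complete intersection in X, in the Koszul sense; this row states the
stronger conclusion that the immersion is regular, which is what the printed proof establishes.) -/
theorem result (S : Scheme.{u}) (X Y : Over S) [GrpObj X] [GrpObj Y]
    [Smooth X.hom] [Flat Y.hom] [LocallyOfFinitePresentation Y.hom] (i : Y ⟶ X) [IsMonHom i]
    [IsImmersion i.left] :
    RegImm.IsRegularImmersion .regular i.left := by
  haveI : Smooth X.hom := inferInstance
  refine ⟨inferInstance, fun z => ?_⟩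
  have hsynt : Synt.IsSyntomicMor Y.hom := Groth.L08.GrpLCI.isSyntomicMor Y
  have hk := Groth.L07.RegImmAt.regularAt_of_isKoszulAt Y.hom z
    (Groth.L07.SyntMor.isKoszulAt_of_isCIMorphism Y.hom ((Groth.L07.SyntScheme.isSyntomicMor_iff _).1 hsynt) z)
    X.hom i.left (Over.w i)
  obtain ⟨U, hzU, hcl, rs, hrs, hker⟩ := hk
  haveI : Flat (i.left ≫ X.hom) := by rw [Over.w i]; infer_instance
  haveI : Flat X.hom := inferInstance
  exact Groth.L07.TransImm.regularAt_of_trans (Groth.L07.TransImm.transAt_of_quasiAt X.hom i.left z
    ⟨U, hzU, hcl, rs, Groth.L14.RegImmStalk.isQuasiRegular_of_h1 (Groth.L19.Thick.isH1Regular_of_koszul hrs), hker⟩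
    (Flat.stalkMap X.hom (i.left z)))

end Groth.Agent.S8367
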