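import Groth.Statements.S8369
import Mathlib.RingTheory.Flat.Equalizer
import Mathlib.LinearAlgebra.TensorProduct.Quotient

set_option autoImplicit false
universe u v
open SGA3

namespace Groth.Agent.S8369

/-- Let A be a commutative ring, J a nilpotent ideal, N ⊆ M A-modules with M/N flat over A. If elements
of N have images generating the image of N in M/JM, then they generate N. (The published statement
takes finitely many elements; this row allows an arbitrary set, which the same argument permits.) -/
theorem result (A : Type u) [CommRing A] (J : Ideal A) (hJ : IsNilpotent J)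
    (M : Type v) [AddCommGroup M] [Module A M] (N : Submodule A M) [Module.Flat A (M ⧸ N)] (s : Set M)
    (hs : s ⊆ N)
    (hgen : (Submodule.span A s).map (J • (⊤ : Submodule A M)).mkQ = N.map (J • (⊤ : Submodule A M)).mkQ) :
    Submodule.span A s = N := by
  set S := Submodule.span A s
  have hSN : S ≤ N := Submodule.span_le.2 hs
  have hinf : ∀ x ∈ N, x ∈ J • (⊤ : Submodule A M) → x ∈ J • N := by
    intro x hx hJx
    have hinj := LinearMap.lTensor_injective_of_exact_of_flat N.mkQ N.mkQ_surjective N.subtype
      N.subtype_injective (LinearMap.exact_subtype_mkQ N) (A ⧸ J)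
    have h0 : (1 : A ⧸ J) ⊗ₜ[A] (⟨x, hx⟩ : N) = 0 := by
      apply hinj
      rw [LinearMap.lTensor_tmul, map_zero]
      apply (TensorProduct.quotTensorEquivQuotSMul M J).injective
      rw [map_zero, ← map_one (Ideal.Quotient.mk J), TensorProduct.quotTensorEquivQuotSMul_mk_tmul]
      simpa [Submodule.Quotient.mk_eq_zero] using hJx
    have h1 := congrArg (TensorProduct.quotTensorEquivQuotSMul N J) h0
    rw [map_zero, ← map_one (Ideal.Quotient.mk J), TensorProduct.quotTensorEquivQuotSMul_mk_tmul, one_smul,
      Submodule.Quotient.mk_eq_zero] at h1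
    have h2 := Submodule.mem_map_of_mem (f := N.subtype) h1
    rwa [Submodule.map_smul'', Submodule.map_top, Submodule.range_subtype] at h2
  have h1 : N ≤ S ⊔ J • N := by
    intro x hx
    have : (J • (⊤ : Submodule A M)).mkQ x ∈ S.map (J • (⊤ : Submodule A M)).mkQ :=
      hgen ▸ Submodule.mem_map_of_mem hx
    obtain ⟨y, hy, hyx⟩ := this
    have hd : x - y ∈ J • (⊤ : Submodule A M) := by
      rw [← Submodule.Quotient.eq]; exact hyx.symm
    exact Submodule.mem_sup.2 ⟨y, hy, x - y, hinf _ (N.sub_mem hx (hSN hy)) hd, by abel⟩
  have hn : ∀ n : ℕ, N ≤ S ⊔ J ^ n • N := by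
    intro n
    induction n with
    | zero => simp
    | succ n ih =>
      refine h1.trans (sup_le le_sup_left ((Submodule.smul_mono le_rfl ih).trans ?_))
      rw [Submodule.smul_sup]
      refine sup_le (Submodule.smul_le_right.trans le_sup_left) ?_
      rw [← mul_smul, ← pow_succ']
      exact le_sup_right
  obtain ⟨n, hn0⟩ := hJ
  refine le_antisymm hSN ?_
  have := hn n
  rwa [hn0, Submodule.zero_eq_bot, Submodule.bot_smul, sup_bot_eq] at this
end Groth.Agent.S8369
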