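import Groth.Statements.S8381
import Groth.Agent.L24.TorusField.RegularLin
import Groth.Agent.L24.TorusField.KTangent
import Groth.Agent.L24.TorusField.ContainMult
import Groth.Agent.L08.Borel.MaxToriConj
import Groth.Agent.L08.Borel.MaxTorusDesc
import Groth.Agent.L08.Borel.IsoBase

set_option autoImplicit false
set_option backward.isDefEq.respectTransparency.types false
universe u
open CategoryTheory MonoidalCategory CartesianMonoidalCategory MonObj GrpObj AlgebraicGeometry
open SGA3t2b

namespace Groth.Agent.S8381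

set_option backward.isDefEq.respectTransparency false
set_option backward.isDefEq.respectTransparency.types false

open CategoryTheory CategoryTheory.Limits AlgebraicGeometry MonoidalCategory CartesianMonoidalCategory MonObj WithConv
open Groth.L24.TorusField Groth.L08.TorusQuot
open Groth.L25.Bridge (P)

/-- Let G be a smooth affine algebraic group (smooth, affine and of finite type) over an infinite field
k, T a maximal torus of G, and L a Lie algebra over k modelling Lie(G)(k) (an identification
carrying sum, scalars and bracket to the group law, rescaling and bracket relation on dual-number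
points). Then the Lie algebra of T contains a regular element of the Lie algebra of G: some element
of Lie(T)(k) maps to an element of Lie(G)(k) whose counterpart in L is regular. (This row takes G
affine; without that hypothesis the statement fails for suitable non-affine groups in positive
characteristic, where a maximal torus can have central Lie algebra inside a non-nilpotent Lie(G).) -/
theorem result (k : Type u) [Field k] [Infinite k]
    (G : Over (Spec (CommRingCat.of k))) [GrpObj G] [Smooth G.hom] [QuasiCompact G.hom] [IsAffine G.left]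
    (T : Over (Spec (CommRingCat.of k))) [GrpObj T] (i : T ⟶ G) [IsMonHom i] (hT : Red.IsMaximalTorus i)
    (L : Type u) [LieRing L] [LieAlgebra k L] [Module.Finite k L] (m : LieS.Model G k (Spec.map (CommRingCat.ofHom (algebraMap k k))) L) :
    ∃ w : ↥(LieS.LieR T k),
      LieAlgebra.IsRegular k (Multiplicative.toAdd (m.e.symm (LieS.map k (Spec.map (CommRingCat.ofHom (algebraMap k k))) i w))) := by
  classical
  haveI := hT.1; haveI := hT.2.1
  haveI : IsAffineHom G.hom := inferInstance
  haveI : IsClosedImmersion i.left :=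
    Groth.L25.MonoClosed.isClosedImmersion_of_mono (Groth.L25.Locus.isMultTypeFT_of_isTorus hT.2.2.1) i
  haveI : IsAffine T.left := isAffine_of_isAffineHom i.left
  obtain ⟨A, _, _, ⟨e⟩⟩ := Groth.L25.Bridge.exists_hopf (R := k) G
  let eq : G ≅ P k A := (Grp.forget _).mapIso e
  haveI : IsMonHom eq.hom := e.hom.hom.isMonHom_hom
  haveI : IsMonHom eq.inv := e.inv.hom.isMonHom_hom
  haveI : IsIso eq.inv.left := inferInstanceAs (IsIso ((Over.forget _).map eq.inv))
  haveI : Smooth (P k A).hom := by rw [← Over.w eq.inv]; infer_instance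
  haveI : Algebra.FiniteType k A := by
    have h : LocallyOfFiniteType (P k A).hom := inferInstance
    change LocallyOfFiniteType (Spec.map (CommRingCat.ofHom (algebraMap k A))) at h
    rw [HasRingHomProperty.Spec_iff (P := @LocallyOfFiniteType), CommRingCat.hom_ofHom,
      RingHom.finiteType_algebraMap] at h
    exact h
  obtain ⟨B, _, _, ⟨eT⟩⟩ := Groth.L25.Bridge.exists_hopf (R := k) T
  let et : T ≅ P k B := (Grp.forget _).mapIso eT
  haveI : IsMonHom et.hom := eT.hom.hom.isMonHom_hom
  haveI : IsMonHom et.inv := eT.inv.hom.isMonHom_hom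
  obtain ⟨π, hπ⟩ := exists_sp (et.inv ≫ i ≫ eq.hom)
  have hTA : Red.IsMaximalTorus (sp π) := by
    rw [hπ]
    exact isMaximalTorus_iso_comp (isMaximalTorus_comp_iso hT eq) et.inv
      (Groth.L25.TorLift.isTorus_of_iso eT hT.2.2.1)
  haveI : Mono (sp π) := hTA.2.1
  -- a semisimple regular element
  obtain ⟨d⟩ := exists_genData (k := k) (A := A)
  obtain ⟨x, s, hx, hs, hd, hxs⟩ := exists_regular_semisimple eq m d
  -- a maximal torus over the field containing it
  let q : A →ₐc[k] A ⧸ J hs := Bialgebra.Quotient.mkBialgHom (J hs)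
  haveI : Algebra.FiniteType k (A ⧸ J hs) :=
    Algebra.FiniteType.of_surjective (Ideal.Quotient.mkₐ k (J hs)) Ideal.Quotient.mk_surjective
  have hH := Groth.L25.LargestMult.isMultTypeFT_of_const k (A ⧸ J hs) (isMultTypeConst_quotient hs hd)
  haveI : ConnectedSpace (P k (A ⧸ J hs)).left := by
    haveI := nontrivial_quotient hs
    haveI : Nonempty (PrimeSpectrum (A ⧸ J hs)) := inferInstance
    haveI : PreconnectedSpace (PrimeSpectrum (A ⧸ J hs)) := by
      refine preconnectedSpace_iff_clopen.2 fun S hS => ?_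
      obtain ⟨e, he, rfl⟩ := PrimeSpectrum.isClopen_iff.1 hS
      rcases eq_zero_or_one_of_idem hs he with rfl | rfl
      · left; simp
      · right; simp
    exact (⟨inferInstance⟩ : ConnectedSpace (PrimeSpectrum (A ⧸ J hs)))
  obtain ⟨T', gT', i', v, hT', hv⟩ := exists_maximalTorus_containing_multType (sp q) hH
  haveI := hT'.1; haveI := hT'.2.1
  let sb : A ⧸ J hs →ₗ[k] k := ((J hs).restrictScalars k).liftQ s fun p hp => by
    rw [LinearMap.mem_ker, ← pw_one s p]; exact hp 1
  have hsb : ∀ p, sb (q p) = s p := fun p => rfl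
  have hcq : ∀ p, Coalgebra.counit (R := k) (q p) = Coalgebra.counit (R := k) p := fun p =>
    CoalgHomClass.counit_comp_apply q p
  have hsbT : Groth.L08.AugGraded.IsTangent k (A ⧸ J hs) sb := fun p p' => by
    obtain ⟨p, rfl⟩ := Ideal.Quotient.mk_surjective p
    obtain ⟨p', rfl⟩ := Ideal.Quotient.mk_surjective p'
    exact ((congrArg sb (map_mul q p p')).symm.trans ((hsb _).trans (hs p p'))).trans (by
      rw [Bialgebra.counitAlgHom_apply, Bialgebra.counitAlgHom_apply, ← hcq p, ← hcq p']; rfl)
  -- conjugation over an algebraic closure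
  let K := AlgebraicClosure k
  let θ : Spec (CommRingCat.of K) ⟶ Spec (CommRingCat.of k) := Spec.map (CommRingCat.ofHom (algebraMap k K))
  haveI : Smooth (Red.bc θ (P k A)).hom := inferInstanceAs (Smooth (pullback.snd (P k A).hom θ))
  haveI : QuasiCompact (Red.bc θ (P k A)).hom := inferInstanceAs (QuasiCompact (pullback.snd (P k A).hom θ))
  obtain ⟨g, f, hf⟩ := Groth.L08.Borel.exists_maxTorus_conj_any
    (Groth.L08.Borel.isMaxTorus_of_isMaximalTorus (Groth.L08.Borel.isMaximalTorus_bc hT' θ))
    (Groth.L08.Borel.isMaxTorus_of_isMaximalTorus (Groth.L08.Borel.isMaximalTorus_bc hTA θ))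
  obtain ⟨y, hy, -⟩ := Groth.L08.Borel.exists_transporter_point θ g f hf
  let e0 : SP k K ⟶ Over.mk θ := Over.homMk (𝟙 _) (Category.id_comp _)
  let gx : WithConv (A →ₐ[k] K) := ofPt (e0 ≫ y)
  let gy : WithConv (A →ₐ[k] K) := ofPt (e0 ≫ y⁻¹)
  have hgg : gx * gy = 1 := by
    show ofPt (e0 ≫ y) * ofPt (e0 ≫ y⁻¹) = 1
    rw [← map_mul, ← MonObj.comp_mul, mul_inv_cancel, MonObj.comp_one, map_one]
  let χs : WithConv ((A ⧸ J hs) →ₐ[k] DualNumber K) := toConv (dualPtK (isKTangent_of_isTangent (K := K) hsbT))
  let t : SP k (DualNumber K) ⟶ Over.mk θ := spA (IsScalarTower.toAlgHom k K (DualNumber K)) ≫ e0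
  obtain ⟨h', he⟩ := hy _ t (toPt χs ≫ v)
  let φ : WithConv (B →ₐ[k] DualNumber K) := ofPt h'
  let χ : WithConv (A →ₐ[k] DualNumber K) := pre q χs
  have hmul : ∀ u u' : SP k (DualNumber K) ⟶ P k A, ofPt (u * u') = ofPt u * ofPt u' := fun u u' =>
    map_mul (Spec.mapMulEquiv (R := k) (S := A) (T := DualNumber K)).symm u u'
  have key : inlPt gx * χ * inlPt gy = pre π φ := by
    have e1 := congrArg ofPt he
    rw [show (toPt χs ≫ v) ≫ i' = toPt χs ≫ sp q by rw [Category.assoc, hv], ← GrpObj.comp_inv,
      hmul, hmul, ← toPt_pre, ofPt_toPt] at e1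
    rw [show h' ≫ sp π = toPt (pre π φ) by rw [toPt_pre, toPt_ofPt], ofPt_toPt] at e1
    rw [← e1]
    simp only [t, Category.assoc, ofPt_comp]
    rfl
  have hχ : ∀ p, (χ.ofConv p).fst = algebraMap k K (Coalgebra.counit (R := k) p) := fun p => by
    show (dualPtK (isKTangent_of_isTangent (K := K) hsbT) (q p)).fst = _
    rw [fst_dualPtK, hcq]
  obtain ⟨hfst, hsnd⟩ := conj_pt d.gens hgg χ hχ
  rw [key] at hfst hsnd
  have hφ : ∀ p, (φ.ofConv p).fst = algebraMap k K (Coalgebra.counit (R := k) p) := by
    let F : DualNumber K →ₐ[k] K := (TrivSqZeroExt.fstHom K K K).restrictScalars k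
    have e1 : post F φ = 1 := by
      have e2 : pre π (post F φ) = 1 := WithConv.ofConv_injective (AlgHom.ext fun p => by
        rw [AlgHom.convOne_apply]; exact hfst p)
      have e3 : toPt (post F φ) ≫ sp π = toPt (1 : WithConv (B →ₐ[k] K)) ≫ sp π := by
        rw [← toPt_pre, ← toPt_pre, e2, map_one]
      rw [cancel_mono] at e3
      exact (Spec.mapMulEquiv (R := k) (S := B) (T := K)).injective e3
    intro p
    exact (DFunLike.congr_fun (congrArg WithConv.ofConv e1) p).trans (AlgHom.convOne_apply p)
  let w : B →ₗ[k] K := sndPart φ.ofConv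
  have hw : IsKTangent w := isKTangent_sndPart _ hφ
  -- coordinates
  let b := Module.finBasis k L
  let Φ := lieRepₗ eq d.gens m
  let Bk := fun j => Φ (b j)
  let C := fun j => LinearMap.toMatrix b b (LieAlgebra.ad k L (b j))
  let BK := fun j => (Bk j).map (algebraMap k K)
  let CK := fun j => (C j).map (algebraMap k K)
  have hΦ : ∀ z : L, Φ z = comb Bk (b.equivFun z) := fun z => by
    conv_lhs => rw [← b.sum_equivFun z]
    simp only [map_sum, map_smul, comb, Bk]
  have had : ∀ z : L, LinearMap.toMatrix b b (LieAlgebra.ad k L z) = adMat C (b.equivFun z) := fun z => by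
    conv_lhs => rw [← b.sum_equivFun z]
    simp only [map_sum, map_smul, adMat, C]
  have hreg : ∀ z : L, LieAlgebra.IsRegular k z ↔
      (adMat C (b.equivFun z)).charpoly.coeff (LieAlgebra.rank k L) ≠ 0 := fun z => by
    rw [LieAlgebra.isRegular_def, ← LinearMap.charpoly_toMatrix _ b, had]
  have hLI : LinearIndependent k Bk := b.linearIndependent.map' Φ
    (LinearMap.ker_eq_bot.2 (lieRepₗ_injective eq d.gens m))
  have hΦK : ∀ z : L, (Φ z).map (algebraMap k K) = comb BK fun j => algebraMap k K (b.equivFun z j) := fun z => by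
    rw [comb_map, hΦ]
  let M := ptMat d.a gx.ofConv
  let N := ptMat d.a gy.ofConv
  have hMN : M * N = 1 := by rw [← ptMat_mul d.gens, hgg, ptMat_one d.gens]
  -- the element, conjugated, is a combination of tangent vectors of the torus
  have hconjx : M * (Φ x).map (algebraMap k K) * N = d.a.map (w ∘ₗ (π : A →ₐ[k] B).toLinearMap) := by
    refine Eq.trans ?_ hsnd.symm
    congr 2
    rw [hxs]
    ext p r
    show algebraMap k K (s (d.a p r)) = (dualPtK (isKTangent_of_isTangent (K := K) hsbT) (q (d.a p r))).snd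
    rw [snd_dualPtK]
    rfl
  obtain ⟨n, c, G', hsum⟩ := Submodule.mem_span_set'.1 (map_mem_span d.a (π : A →ₐ[k] B).toLinearMap hw)
  choose tl htl hG' using fun l => (G' l).2
  have hπT : ∀ l, Groth.L08.AugGraded.IsTangent k A (tl l ∘ₗ (π : A →ₐ[k] B).toLinearMap) := fun l p p' => by
    show tl l (π (p * p')) = _
    rw [map_mul, htl l]
    simp only [Bialgebra.counitAlgHom_apply, CoalgHomClass.counit_comp_apply]
    rfl
  choose xl hxl using fun l => exists_lieRepₗ_eq eq d.gens m (hπT l)
  let z : Fin _ → K := fun j => algebraMap k K (b.equivFun x j)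
  let z' : Fin _ → K := fun j => ∑ l, c l * algebraMap k K (b.equivFun (xl l) j)
  have hz' : comb BK z' = M * comb BK z * N := by
    rw [← hΦK, hconjx, ← hsum]
    simp only [hG', ← hxl, Φ, hΦK]
    simp only [comb, z', Finset.sum_smul, Finset.smul_sum, smul_smul]
    exact Finset.sum_comm
  have hconj : ∀ j, M * BK j * N ∈ Submodule.span K (Set.range BK) := by
    intro j
    obtain ⟨wj, hwj, hwj'⟩ := exists_tangent_eq eq d.gens m (b j)
    obtain ⟨h1, h2⟩ := conj_pt d.gens hgg (toConv (dualPtK (isKTangent_of_isTangent (K := K) hwj)))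
      (fun p => fst_dualPtK (isKTangent_of_isTangent (K := K) hwj) p)
    have h3 : M * BK j * N = d.a.map ((sndPart (inlPt gx *
        toConv (dualPtK (isKTangent_of_isTangent (K := K) hwj)) * inlPt gy).ofConv) ∘ₗ LinearMap.id) := by
      rw [LinearMap.comp_id]
      refine Eq.trans ?_ h2.symm
      congr 2
      show (Φ (b j)).map _ = _
      rw [← hwj']
      ext p r
      show algebraMap k K (wj (d.a p r)) = (dualPtK (isKTangent_of_isTangent (K := K) hwj) (d.a p r)).snd
      rw [snd_dualPtK]
      rfl
    rw [h3]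
    refine Submodule.span_le.2 ?_ (map_mem_span d.a LinearMap.id (isKTangent_sndPart _ h1))
    rintro _ ⟨t, ht, rfl⟩
    obtain ⟨xt, hxt⟩ := exists_lieRepₗ_eq eq d.gens m ht
    rw [LinearMap.comp_id, ← hxt, hΦK, comb]
    exact Submodule.sum_mem _ fun l _ => Submodule.smul_mem _ _ (Submodule.subset_span ⟨l, rfl⟩)
  have hchar := charpoly_adMat_conj (linearIndependent_map hLI)
    (comb_adBasis_map (fun j z => comb_adBasis eq d.gens m b j z)) hMN hconj hz'
  -- a rational combination is regular
  let D := fun l => adMat C (b.equivFun (xl l))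
  obtain ⟨cc, hcc⟩ : ∃ cc : Fin n → k, (∑ l, cc l • D l).charpoly.coeff (LieAlgebra.rank k L) ≠ 0 := by
    by_contra hall
    simp only [not_exists, not_not] at hall
    have e1 := coeff_charpoly_generic (K := K) (LieAlgebra.rank k L) D hall c
    have e2 : adMat CK z' = ∑ l, c l • (D l).map (algebraMap k K) := by
      have e4 : ∀ l, (D l).map (algebraMap k K) = comb CK fun j => algebraMap k K (b.equivFun (xl l) j) :=
        fun l => (comb_map C (b.equivFun (xl l))).symm
      simp only [e4]
      simp only [adMat, comb, z', Finset.sum_smul, Finset.smul_sum, smul_smul]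
      exact Finset.sum_comm
    rw [← e2, hchar] at e1
    have e3 : adMat CK z = (adMat C (b.equivFun x)).map (algebraMap k K) := comb_map C (b.equivFun x)
    rw [e3, Matrix.charpoly_map, Polynomial.coeff_map, map_eq_zero] at e1
    exact (hreg x).1 hx e1
  let t₀ : B →ₗ[k] k := ∑ l, cc l • tl l
  have ht₀ : Groth.L08.AugGraded.IsTangent k B t₀ := fun p p' => by
    simp only [t₀, LinearMap.sum_apply, LinearMap.smul_apply, smul_eq_mul, Finset.mul_sum,
      ← Finset.sum_add_distrib]
    exact Finset.sum_congr rfl fun l _ => by rw [htl l p p']; ring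
  refine ⟨⟨liePt et ht₀, liePt_mem et ht₀⟩, ?_⟩
  have hfin : Multiplicative.toAdd (m.e.symm (LieS.map k (Spec.map (CommRingCat.ofHom (algebraMap k k))) i
      ⟨liePt et ht₀, liePt_mem et ht₀⟩)) = ∑ l, cc l • xl l := by
    apply lieRepₗ_injective eq d.gens m
    show lieMat eq d.a (m.e (Multiplicative.ofAdd (Multiplicative.toAdd (m.e.symm _)))).1 = _
    rw [ofAdd_toAdd, MulEquiv.apply_symm_apply]
    simp only [map_sum, map_smul, hxl]
    ext p r
    show ((evAt eq (LieS.dptIso (R := k) k) (liePt et ht₀ ≫ i)).ofConv (d.a p r)).snd = _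
    have e1 : evAt eq (LieS.dptIso (R := k) k) (liePt et ht₀ ≫ i) =
        pre π (evAt et (LieS.dptIso (R := k) k) (liePt et ht₀)) := by
      show ofPt _ = pre π (ofPt _)
      rw [← ofPt_toPt (pre π _), toPt_pre, toPt_ofPt, hπ]
      simp only [Category.assoc, Iso.hom_inv_id_assoc]
    rw [e1, evAt_liePt]
    show (dualPt ht₀ (π (d.a p r))).snd = _
    rw [snd_dualPt]
    simp [t₀, Matrix.sum_apply, mat_apply]
  rw [hfin, hreg, map_sum]
  convert hcc using 3
  simp only [map_smul, adMat, D, Finset.sum_apply, Pi.smul_apply, smul_eq_mul, Finset.sum_smul, Finset.smul_sum,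
    smul_smul]
  exact Finset.sum_comm

end Groth.Agent.S8381
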