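import Groth.Statements.S8383
import Mathlib.Combinatorics.Nullstellensatz
import Mathlib.Algebra.MvPolynomial.NoZeroDivisors
import Mathlib.FieldTheory.IsAlgClosed.AlgebraicClosure
import Mathlib.FieldTheory.Finite.Basic
import Mathlib.LinearAlgebra.Dual.Lemmas
import Mathlib.RingTheory.TensorProduct.Free
import Mathlib.Algebra.CharP.Lemmas

set_option autoImplicit false
universe u
open scoped TensorProduct
open SGA3t2b

namespace Groth.Agent.S8383

open MvPolynomial in
theorem exists_rational {k K : Type u} [Field k] [Finite k] [Field K] [Algebra k K]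
    {ι J : Type} [Fintype ι] [Fintype J] [DecidableEq ι] (L : ι → J → K) (W : J → ι → K)
    (hLW : ∀ i l, ∑ j, L i j * W j l = if i = l then 1 else 0) :
    ∃ x : J → k, ∀ i, ∑ j, L i j * algebraMap k K (x j) ≠ 0 := by
  classical
  haveI := Fintype.ofFinite k
  obtain ⟨p, hp⟩ := CharP.exists k
  obtain ⟨⟨e, he⟩, hpr, hq⟩ := FiniteField.card k p
  haveI : Fact p.Prime := ⟨hpr⟩
  haveI : CharP K p := charP_of_injective_algebraMap (algebraMap k K).injective p
  set q := Fintype.card k
  have hq1 : 1 < q := Fintype.one_lt_card
  by_contra! hno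
  let S : Finset K := Finset.univ.image (algebraMap k K)
  let ℓ : ι → MvPolynomial J K := fun i => ∑ j, C (L i j) * X j
  let f : MvPolynomial J K := ∏ i, ℓ i
  have hdeg : f.totalDegree ≤ Fintype.card ι := by
    refine (totalDegree_finset_prod _ _).trans ((Finset.sum_le_card_nsmul _ _ 1 fun i _ => ?_).trans (by simp))
    refine totalDegree_finsetSum_le fun j _ => ?_
    exact (totalDegree_mul _ _).trans (by simp)
  have heval : ∀ x : J → K, (∀ j, x j ∈ S) → eval x f = 0 := by
    intro x hx
    choose y hy using fun j => Finset.mem_image.1 (hx j)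
    obtain ⟨i, hi⟩ := hno y
    rw [map_prod]
    refine Finset.prod_eq_zero (Finset.mem_univ i) ?_
    simp only [ℓ, map_sum, map_mul, eval_C, eval_X, ← fun j => (hy j).2]
    exact hi
  obtain ⟨h, hh, hf⟩ := combinatorial_nullstellensatz_exists_linearCombination (fun _ => S)
    (fun _ => ⟨_, Finset.mem_image_of_mem _ (Finset.mem_univ 0)⟩) f heval
  have hP : ∀ j : J, (∏ s ∈ S, (X j - C s) : MvPolynomial J K) = X j ^ q - X j := by
    intro j
    have hk : ∏ a : k, (Polynomial.X - Polynomial.C a) = Polynomial.X ^ Fintype.card k - Polynomial.X := by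
      have hm := FiniteField.roots_X_pow_card_sub_X k
      have hmonic : (Polynomial.X ^ Fintype.card k - Polynomial.X : Polynomial k).Monic :=
        Polynomial.monic_X_pow_sub (by rw [Polynomial.degree_X]; exact_mod_cast hq1)
      have h := Polynomial.prod_multiset_X_sub_C_of_monic_of_roots_card_eq hmonic (by
        rw [hm, Finset.card_val, Finset.card_univ, FiniteField.X_pow_card_sub_X_natDegree_eq k hq1])
      rwa [hm] at h
    have h1 := congrArg (Polynomial.aeval (X j : MvPolynomial J K))
      (congrArg (Polynomial.map (algebraMap k K)) hk)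
    simp only [Polynomial.map_prod, Polynomial.map_sub, Polynomial.map_X, Polynomial.map_C, Polynomial.map_pow,
      map_prod, map_sub, map_pow, Polynomial.aeval_X, Polynomial.aeval_C] at h1
    rw [Finset.prod_image ((algebraMap k K).injective.injOn)]
    simpa [q, MvPolynomial.algebraMap_eq] using h1
  let ψ : MvPolynomial J K →ₐ[K] MvPolynomial ι K := aeval fun j => ∑ i, C (W j i) * X i
  let t : ι →₀ ℕ := Finsupp.equivFunOnFinite.symm fun _ => 1
  have ht : t.degree = Fintype.card ι := by
    rw [Finsupp.degree_eq_sum]
    simp [t]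
  have hℓ : ∀ i, ψ (ℓ i) = X i := by
    intro i
    simp only [ℓ, ψ, map_sum, map_mul, aeval_X, algHom_C, MvPolynomial.algebraMap_eq, Finset.mul_sum]
    rw [Finset.sum_comm]
    simp only [← mul_assoc, ← map_mul, ← Finset.sum_mul, ← map_sum, hLW]
    rw [Finset.sum_eq_single i] <;> simp +contextual [eq_comm]
  have hftop : coeff t (ψ f) = 1 := by
    rw [map_prod]
    simp only [hℓ]
    rw [show (∏ i, X i : MvPolynomial ι K) = monomial t 1 from ?_, coeff_monomial, if_pos rfl]
    rw [monomial_eq, C_1, one_mul, Finsupp.prod_fintype _ _ (fun i => pow_zero _)]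
    simp [t]
  have hψ : ∀ g : MvPolynomial J K, (ψ g).totalDegree ≤ g.totalDegree := by
    intro g
    rw [g.as_sum, map_sum]
    refine totalDegree_finsetSum_le fun m hm => ?_
    rw [← g.as_sum, monomial_eq, map_mul, algHom_C, Finsupp.prod, map_prod]
    refine (totalDegree_mul _ _).trans (le_trans ?_ (le_totalDegree hm))
    simp only [MvPolynomial.algebraMap_eq, totalDegree_C, zero_add]
    refine (totalDegree_finset_prod _ _).trans (Finset.sum_le_sum fun j _ => ?_)
    rw [map_pow]
    refine (totalDegree_pow _ _).trans ?_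
    conv_rhs => rw [← mul_one (m j)]
    refine Nat.mul_le_mul_left _ ?_
    simp only [ψ, aeval_X]
    exact totalDegree_finsetSum_le fun i _ => (totalDegree_mul _ _).trans (by simp)
  have hzero : ∀ j, coeff t (ψ ((X j ^ q - X j) * h j)) = 0 := by
    intro j
    rw [map_mul, map_sub, map_pow, sub_mul, coeff_sub]
    have h1 : coeff t (ψ (X j) ^ q * ψ (h j)) = 0 := by
      simp only [ψ, aeval_X]
      rw [hq, sum_pow_char_pow, Finset.sum_mul, coeff_sum]
      refine Finset.sum_eq_zero fun i _ => ?_
      rw [mul_pow, ← map_pow, mul_assoc, coeff_C_mul, X_pow_eq_monomial, coeff_monomial_mul', if_neg, mul_zero]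
      intro hle
      have := hle i
      rw [← hq] at this
      simp [t] at this
      omega
    rw [h1, zero_sub, neg_eq_zero]
    by_cases hj : h j = 0
    · simp [hj]
    apply coeff_eq_zero_of_totalDegree_lt
    show _ < t.degree
    rw [ht]
    have h2 : q + (h j).totalDegree ≤ Fintype.card ι := by
      refine le_trans ?_ ((hh j).trans hdeg)
      rw [hP j]
      have hc : coeff (Finsupp.single j q) (X j ^ q - X j : MvPolynomial J K) ≠ 0 := by
        rw [coeff_sub, X_pow_eq_monomial, coeff_monomial, if_pos rfl, coeff_X', if_neg, sub_zero]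
        · exact one_ne_zero
        · intro h1
          have := congrArg (fun m : J →₀ ℕ => m j) h1
          simp at this
          omega
      rw [totalDegree_mul_of_isDomain (fun h0 => hc (by rw [h0, coeff_zero])) hj]
      refine Nat.add_le_add_right ?_ _
      simpa using le_totalDegree (mem_support_iff.2 hc)
    refine lt_of_le_of_lt ((totalDegree_mul _ _).trans (Nat.add_le_add (hψ _) (hψ _))) ?_
    rw [totalDegree_X]
    omega
  have := congrArg (fun g => coeff t (ψ g)) hf
  simp only [Finsupp.linearCombination_apply, Finsupp.sum, map_sum, coeff_sum, smul_eq_mul, hftop] at this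
  exact one_ne_zero (this.trans (Finset.sum_eq_zero fun j _ => by rw [hP, mul_comm (h j), hzero]))


/-- Let k be a finite field with algebraic closure K, V a finite-dimensional vector space over k, and
θ₁, …, θₙ a basis of the dual of the K-vector space K ⊗ V. Then there is x ∈ V with θᵢ(1 ⊗ x) ≠ 0
for every i. -/
theorem result (k : Type u) [Field k] [Finite k]
    (V : Type u) [AddCommGroup V] [Module k V] [Module.Finite k V] {ι : Type} [Fintype ι]
    (θ : Module.Basis ι (AlgebraicClosure k) (Module.Dual (AlgebraicClosure k) (AlgebraicClosure k ⊗[k] V))) :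
    ∃ x : V, ∀ i : ι, θ i ((1 : AlgebraicClosure k) ⊗ₜ[k] x) ≠ 0 := by
  classical
  let b := Module.finBasis k V
  let bK := Algebra.TensorProduct.basis (AlgebraicClosure k) b
  haveI := Module.Finite.of_basis bK
  haveI := Module.Free.of_basis bK
  let w : ι → AlgebraicClosure k ⊗[k] V := fun l => (Module.evalEquiv (AlgebraicClosure k) _).symm (θ.coord l)
  have hw : ∀ i l, θ i (w l) = if i = l then 1 else 0 := fun i l => by
    rw [Module.apply_evalEquiv_symm_apply, Module.Basis.coord_apply, Module.Basis.repr_self, Finsupp.single_apply]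
  obtain ⟨x, hx⟩ := exists_rational (k := k) (fun i j => θ i (bK j)) (fun j l => bK.repr (w l) j) (fun i l => by
    rw [← hw i l]
    conv_rhs => rw [← bK.sum_repr (w l), map_sum]
    refine Finset.sum_congr rfl fun j _ => ?_
    rw [map_smul, smul_eq_mul, mul_comm])
  refine ⟨∑ j, x j • b j, fun i => ?_⟩
  convert hx i using 1
  simp only [TensorProduct.tmul_sum, map_sum]
  refine Finset.sum_congr rfl fun j _ => ?_
  rw [TensorProduct.tmul_smul, ← algebraMap_smul (AlgebraicClosure k) (x j), map_smul, smul_eq_mul, mul_comm]
  simp [bK]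

end Groth.Agent.S8383
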