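import Groth.Statements.S8384
import Mathlib.AlgebraicGeometry.AffineScheme
import Mathlib.RingTheory.AdicCompletion.RingHom

set_option autoImplicit false
universe u
open CategoryTheory MonoidalCategory CartesianMonoidalCategory MonObj GrpObj AlgebraicGeometry
open SGA3x

namespace Groth.Agent.S8384

lemma subsingleton_spec_pow {A : Type u} [CommRing A] [IsLocalRing A] (k : ℕ) :
    Subsingleton (PrimeSpectrum (A ⧸ (IsLocalRing.maximalIdeal A) ^ k)) := by
  constructor
  intro p q
  refine PrimeSpectrum.comap_injective_of_surjective (Ideal.Quotient.mk _)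
    Ideal.Quotient.mk_surjective ?_
  have key : ∀ r : PrimeSpectrum (A ⧸ (IsLocalRing.maximalIdeal A) ^ k),
      (PrimeSpectrum.comap (Ideal.Quotient.mk _) r).asIdeal = IsLocalRing.maximalIdeal A := by
    intro r
    refine ((IsLocalRing.maximalIdeal.isMaximal A).eq_of_le (PrimeSpectrum.comap _ r).2.1 ?_).symm
    refine (PrimeSpectrum.comap _ r).2.le_of_pow_le (n := k) ?_
    intro x hx
    change Ideal.Quotient.mk _ x ∈ r.asIdeal
    rw [Ideal.Quotient.eq_zero_iff_mem.2 hx]
    exact r.asIdeal.zero_mem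
  exact PrimeSpectrum.ext ((key p).trans (key q).symm)

lemma exists_ringHom {X : Scheme.{u}} {U : X.Opens} (hU : IsAffineOpen U) {B : Type u} [CommRing B]
    (g : Spec (CommRingCat.of B) ⟶ X) (hg : Set.range g ⊆ (U : Set X)) :
    ∃ φ : Γ(X, U) →+* B, g = Spec.map (CommRingCat.ofHom φ) ≫ hU.fromSpec := by
  have h : Set.range g ⊆ Set.range hU.fromSpec := by rw [hU.range_fromSpec]; exact hg
  refine ⟨(Spec.preimage (IsOpenImmersion.lift hU.fromSpec g h)).hom, ?_⟩
  rw [CommRingCat.ofHom_hom, Spec.map_preimage, IsOpenImmersion.lift_fac]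

lemma ringHom_ext {X : Scheme.{u}} {U : X.Opens} (hU : IsAffineOpen U) {B : Type u} [CommRing B]
    {φ ψ : Γ(X, U) →+* B}
    (h : Spec.map (CommRingCat.ofHom φ) ≫ hU.fromSpec =
      Spec.map (CommRingCat.ofHom ψ) ≫ hU.fromSpec) : φ = ψ := by
  have := Spec.map_injective ((cancel_mono hU.fromSpec).1 h)
  simpa using congrArg CommRingCat.Hom.hom this

/-- Let A be a local ring, separated and complete for the topology defined by its maximal ideal m, S =
Spec A and Sₙ = Spec(A/mⁿ). Then for every scheme X the canonical map Hom(S, X) → lim Hom(Sₙ, X) is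
bijective: two morphisms S → X that agree on every Sₙ are equal, and every family of morphisms Sₙ →
X compatible with the closed immersions Sₙ → Sₙ₊₁ is induced by a morphism S → X. -/
theorem result (A : Type u) [CommRing A] [IsLocalRing A]
    [IsAdicComplete (IsLocalRing.maximalIdeal A) A] (X : Scheme.{u}) :
    (∀ f g : (Spec (CommRingCat.of A)) ⟶ X,
      (∀ n : ℕ, (Spec.map (CommRingCat.ofHom (Ideal.Quotient.mk ((IsLocalRing.maximalIdeal A) ^ n)))) ≫ f = (Spec.map (CommRingCat.ofHom (Ideal.Quotient.mk ((IsLocalRing.maximalIdeal A) ^ n)))) ≫ g) → f = g) ∧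
    (∀ u : (n : ℕ) → (Spec (CommRingCat.of (A ⧸ (IsLocalRing.maximalIdeal A) ^ n)) ⟶ X),
      (∀ n : ℕ, (Spec.map (CommRingCat.ofHom (Ideal.Quotient.factor
          (Ideal.pow_le_pow_right (I := (IsLocalRing.maximalIdeal A)) (Nat.le_succ n))))) ≫ u (n + 1) = u n) →
      ∃ f : (Spec (CommRingCat.of A)) ⟶ X, ∀ n : ℕ, (Spec.map (CommRingCat.ofHom (Ideal.Quotient.mk ((IsLocalRing.maximalIdeal A) ^ n)))) ≫ f = u n) := by
  let m := IsLocalRing.maximalIdeal A
  constructor
  · intro f g h
    obtain ⟨_, ⟨U, hU, rfl⟩, hxU, -⟩ := X.isBasis_affineOpens.exists_subset_of_mem_open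
      (Set.mem_univ (f (IsLocalRing.closedPoint A))) isOpen_univ
    have : Nontrivial (A ⧸ m ^ 1) := Ideal.Quotient.nontrivial_iff.2 (by
      rw [pow_one]; exact (IsLocalRing.maximalIdeal.isMaximal A).ne_top)
    obtain ⟨p⟩ : Nonempty (PrimeSpectrum (A ⧸ m ^ 1)) := inferInstance
    have hp : PrimeSpectrum.comap (Ideal.Quotient.mk (m ^ 1)) p = IsLocalRing.closedPoint A := by
      apply PrimeSpectrum.ext
      refine ((IsLocalRing.maximalIdeal.isMaximal A).eq_of_le (PrimeSpectrum.comap _ p).2.1 ?_).symm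
      intro x hx
      change Ideal.Quotient.mk _ x ∈ p.asIdeal
      rw [Ideal.Quotient.eq_zero_iff_mem.2 (by rw [pow_one]; exact hx)]
      exact p.asIdeal.zero_mem
    have hgU : g (IsLocalRing.closedPoint A) ∈ U := by
      have h1 := congrArg (fun t => t p) (h 1)
      simp only [Scheme.Hom.comp_apply] at h1
      rw [← hp]
      exact h1 ▸ (show f (PrimeSpectrum.comap (Ideal.Quotient.mk (m ^ 1)) p) ∈ U by rw [hp]; exact hxU)
    have hrange : ∀ k : Spec (CommRingCat.of A) ⟶ X, k (IsLocalRing.closedPoint A) ∈ U →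
        Set.range k ⊆ (U : Set X) := by
      intro k hk
      rintro _ ⟨q, rfl⟩
      exact ((IsLocalRing.specializes_closedPoint q).map k.continuous).mem_open U.2 hk
    obtain ⟨φ, hφ⟩ := exists_ringHom hU f (hrange f hxU)
    obtain ⟨ψ, hψ⟩ := exists_ringHom hU g (hrange g hgU)
    have heq : φ = ψ := by
      refine RingHom.ext fun r => congrFun (IsHausdorff.funext' m (f := φ) (g := ψ) fun n r => ?_) r
      have h1 := h n
      rw [hφ, hψ, ← Category.assoc, ← Category.assoc, ← Spec.map_comp, ← Spec.map_comp] at h1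
      exact DFunLike.congr_fun (ringHom_ext hU h1) r
    rw [hφ, hψ, heq]
  · intro v hv
    have : Nontrivial (A ⧸ m ^ 1) := Ideal.Quotient.nontrivial_iff.2 (by
      rw [pow_one]; exact (IsLocalRing.maximalIdeal.isMaximal A).ne_top)
    obtain ⟨p⟩ : Nonempty (PrimeSpectrum (A ⧸ m ^ 1)) := inferInstance
    obtain ⟨_, ⟨U, hU, rfl⟩, hxU, -⟩ := X.isBasis_affineOpens.exists_subset_of_mem_open
      (Set.mem_univ (v 1 p)) isOpen_univ
    have hrange : ∀ n, Set.range (v (n + 1)) ⊆ (U : Set X) := by
      intro n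
      induction n with
      | zero =>
        rintro _ ⟨q, rfl⟩
        have := @Subsingleton.elim _ (subsingleton_spec_pow (A := A) 1) q p
        rw [this]; exact hxU
      | succ n ih =>
        rintro _ ⟨q, rfl⟩
        have : Nontrivial (A ⧸ m ^ (n + 1)) := Ideal.Quotient.nontrivial_iff.2 (ne_top_of_le_ne_top
          (IsLocalRing.maximalIdeal.isMaximal A).ne_top (Ideal.pow_le_self n.succ_ne_zero))
        obtain ⟨q'⟩ : Nonempty (PrimeSpectrum (A ⧸ m ^ (n + 1))) := inferInstance
        have e : (Spec.map (CommRingCat.ofHom (Ideal.Quotient.factor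
            (Ideal.pow_le_pow_right (I := m) (Nat.le_succ (n + 1)))))) q' = q :=
          @Subsingleton.elim _ (subsingleton_spec_pow (A := A) (n + 1 + 1)) _ q
        rw [← e, ← Scheme.Hom.comp_apply, hv (n + 1)]
        exact ih ⟨q', rfl⟩
    have hrange' : ∀ n, Set.range (v n) ⊆ (U : Set X) := by
      rintro (_ | n)
      · have : Subsingleton (A ⧸ m ^ 0) := Ideal.Quotient.subsingleton_iff.2 (by simp)
        rintro _ ⟨q, rfl⟩
        exact (q.2.1 (Subsingleton.elim _ _)).elim
      · exact hrange n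
    choose φ hφ using fun n => exists_ringHom hU (v n) (hrange' n)
    have hstep : ∀ n, (Ideal.Quotient.factor
        (Ideal.pow_le_pow_right (I := m) (Nat.le_succ n))).comp (φ (n + 1)) = φ n := by
      intro n
      refine ringHom_ext hU ?_
      rw [CommRingCat.ofHom_comp, Spec.map_comp, Category.assoc, ← hφ, ← hφ]
      exact hv n
    have hc : ∀ {a b : ℕ} (hle : a ≤ b), (Ideal.Quotient.factorPow m hle).comp (φ b) = φ a := by
      intro a b hle
      induction b, hle using Nat.le_induction with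
      | base =>
        refine RingHom.ext fun r => ?_
        obtain ⟨s, hs⟩ := Ideal.Quotient.mk_surjective (φ a r)
        simp [← hs]
      | succ b hb ih =>
        rw [← ih, ← hstep b]
        refine RingHom.ext fun r => ?_
        obtain ⟨s, hs⟩ := Ideal.Quotient.mk_surjective (φ (b + 1) r)
        simp [← hs]
    let F : Γ(X, U) →+* A := IsAdicComplete.liftRingHom m φ hc
    refine ⟨Spec.map (CommRingCat.ofHom F) ≫ hU.fromSpec, fun n => ?_⟩
    rw [hφ n, ← Category.assoc, ← Spec.map_comp, ← CommRingCat.ofHom_comp,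
      IsAdicComplete.mk_comp_liftRingHom]

end Groth.Agent.S8384
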