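import Groth.Statements.S8385
import Groth.Agent.L25.CompleteFinite

set_option autoImplicit false
universe u
open CategoryTheory MonoidalCategory CartesianMonoidalCategory MonObj GrpObj AlgebraicGeometry
open SGA3x

namespace Groth.Agent.S8385

/-- Let A be a complete Noetherian local ring with maximal ideal m, S = Spec A, Sₙ = Spec(A/mⁿ), X =
Spec B a scheme finite over S (B a finite A-algebra) and Y an S-scheme. Then the canonical map
Hom_S(X, Y) → lim Hom_{Sₙ}(Xₙ, Yₙ), Xₙ = Spec(B/mⁿB), is bijective: two S-morphisms X → Y agreeing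
on every Xₙ are equal, and every family of S-morphisms Xₙ → Y compatible with the closed immersions
Xₙ → Xₙ₊₁ comes from an S-morphism X → Y. -/
theorem result (A : Type u) [CommRing A] [IsLocalRing A]
    [IsNoetherianRing A] [IsAdicComplete (IsLocalRing.maximalIdeal A) A] (B : Type u) [CommRing B] [Algebra A B]
    [Module.Finite A B] (Y : Over (Spec (CommRingCat.of A))) :
    (∀ f g : Spec (CommRingCat.of B) ⟶ Y.left, f ≫ Y.hom = Spec.map (CommRingCat.ofHom (algebraMap A B)) →
      g ≫ Y.hom = Spec.map (CommRingCat.ofHom (algebraMap A B)) →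
      (∀ n : ℕ, Spec.map (CommRingCat.ofHom (Ideal.Quotient.mk (Ideal.map (algebraMap A B) ((IsLocalRing.maximalIdeal A) ^ n)))) ≫ f =
        Spec.map (CommRingCat.ofHom (Ideal.Quotient.mk (Ideal.map (algebraMap A B) ((IsLocalRing.maximalIdeal A) ^ n)))) ≫ g) → f = g) ∧
    (∀ u : (n : ℕ) → (Spec (CommRingCat.of (B ⧸ (Ideal.map (algebraMap A B) ((IsLocalRing.maximalIdeal A) ^ n)))) ⟶ Y.left),
      (∀ n : ℕ, u n ≫ Y.hom =
        Spec.map (CommRingCat.ofHom ((Ideal.Quotient.mk (Ideal.map (algebraMap A B) ((IsLocalRing.maximalIdeal A) ^ n))).comp (algebraMap A B)))) →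
      (∀ n : ℕ, Spec.map (CommRingCat.ofHom (Ideal.Quotient.factor
          (Ideal.map_mono (Ideal.pow_le_pow_right (I := (IsLocalRing.maximalIdeal A)) (Nat.le_succ n))))) ≫ u (n + 1) = u n) →
      ∃ f : Spec (CommRingCat.of B) ⟶ Y.left, f ≫ Y.hom = Spec.map (CommRingCat.ofHom (algebraMap A B)) ∧
        ∀ n : ℕ, Spec.map (CommRingCat.ofHom (Ideal.Quotient.mk (Ideal.map (algebraMap A B) ((IsLocalRing.maximalIdeal A) ^ n)))) ≫ f = u n) := by
  have hJ : ∀ n : ℕ, Ideal.map (algebraMap A B) ((IsLocalRing.maximalIdeal A) ^ n) = (Ideal.map (algebraMap A B) (IsLocalRing.maximalIdeal A)) ^ n :=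
    fun n => Ideal.map_pow _ _ _
  have hle : ∀ n : ℕ, Ideal.map (algebraMap A B) ((IsLocalRing.maximalIdeal A) ^ (n + 1)) ≤ Ideal.map (algebraMap A B) ((IsLocalRing.maximalIdeal A) ^ n) :=
    fun n => Ideal.map_mono (Ideal.pow_le_pow_right (Nat.le_succ n))
  obtain ⟨huniq, hex⟩ := Groth.L25.CompleteFinite.existsUnique_lim (A := A) (Y := Y.left) _ hJ hle
  refine ⟨fun f g _ _ h => huniq f g h, fun u hu hcompat => ?_⟩
  obtain ⟨f, hf⟩ := hex u hcompat
  refine ⟨f, ?_, hf⟩
  refine (Groth.L25.CompleteFinite.existsUnique_lim (A := A) (B := B) (Y := Spec (CommRingCat.of A)) _ hJ hle).1 _ _ fun n => ?_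
  rw [← Category.assoc]
  refine ((congrArg (· ≫ Y.hom) (hf n)).trans (hu n)).trans ?_
  rw [CommRingCat.ofHom_comp, Spec.map_comp]

end Groth.Agent.S8385
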