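import Groth.Statements.S8386
import Groth.Agent.L25.CentralLift.Hom
import Groth.Agent.L25.CentralLift.GroupLift
import Groth.Agent.L05.UnibranchEtale.Main

set_option autoImplicit false
universe u
open CategoryTheory MonoidalCategory CartesianMonoidalCategory MonObj GrpObj AlgebraicGeometry
open SGA3x

namespace Groth.Agent.S8386

set_option backward.isDefEq.respectTransparency.types false
set_option linter.style.haveILetI false

open Groth.L25 Groth.L25.CentralLift in
theorem etale_of_bc {A : Type u} [CommRing A] (J : Ideal A) (hs : Surjective (Spec.map (CommRingCat.ofHom (Ideal.Quotient.mk J))))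
    (X : Over (Spec (CommRingCat.of A))) [GrpObj X] (hX : SGA3x.IsMultTypeFT X)
    (hE : Etale (Red.bc (Spec.map (CommRingCat.ofHom (Ideal.Quotient.mk J))) X).hom) : Etale X.hom := by
  let i := Spec.map (CommRingCat.ofHom (Ideal.Quotient.mk J))
  haveI : Flat X.hom := Bridge.flat_of_locally (Bridge.locally_of_ft hX)
  haveI : LocallyOfFinitePresentation X.hom := Locus.lfp_of_multTypeFT hX
  have h : ∀ x : X.left, Groth.L05.Point.Nhd @Etale X.hom x := fun x => by
    have hsf : Surjective (Limits.pullback.fst X.hom i) := MorphismProperty.pullback_fst (P := @Surjective) X.hom i hs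
    obtain ⟨x', rfl⟩ := (Limits.pullback.fst X.hom i).surjective x
    refine (Groth.Agent.S9696.result X.hom i x').1 ⟨⊤, trivial, ?_⟩
    exact MorphismProperty.comp_mem _ _ _ (inferInstance : Etale (⊤ : (Limits.pullback X.hom i).Opens).ι) hE
  choose V hV hEt using h
  exact IsZariskiLocalAtSource.of_iSup_eq_top (P := @Etale) V
    (top_le_iff.1 fun x _ => TopologicalSpace.Opens.mem_iSup.2 ⟨x, hV x⟩) hEt

/-- Over an affine base: let A be a ring, J an ideal of A all of whose elements are nilpotent, S = Spec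
A, S₀ = Spec(A/J), G an S-group scheme flat and of finite presentation over S, and H₀ a subgroup
scheme of G₀ = G ×_S S₀ which is smooth and finite over S₀, of multiplicative type and central in
G₀. Then there is a subgroup scheme H of G of multiplicative type with H ×_S S₀ = H₀ as subgroups of
G₀; it is unique (any two such are isomorphic over G); and H is central in G. -/
theorem result (A : Type u) [CommRing A] (J : Ideal A)
    (hJ : ∀ x ∈ J, IsNilpotent x) (G : Over (Spec (CommRingCat.of A))) [GrpObj G] [Flat G.hom] [QuasiCompact G.hom]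
    [QuasiSeparated G.hom] [LocallyOfFinitePresentation G.hom]
    (H₀ : Over (Spec (CommRingCat.of (A ⧸ J)))) [GrpObj H₀] (j₀ : H₀ ⟶ Red.bc (Spec.map (CommRingCat.ofHom (Ideal.Quotient.mk J))) G) [IsMonHom j₀] [Mono j₀]
    [Smooth H₀.hom] [IsFinite H₀.hom] (hm₀ : SGA3x.IsMultTypeFT H₀)
    (hc₀ : (∀ (X : Over _) (x : X ⟶ _) (g : X ⟶ Red.bc (Spec.map (CommRingCat.ofHom (Ideal.Quotient.mk J))) G), (x ≫ j₀) * g = g * (x ≫ j₀))) :
    (∃ (H : Over (Spec (CommRingCat.of A))) (_ : GrpObj H) (j : H ⟶ G), IsMonHom j ∧ Mono j ∧ SGA3x.IsMultTypeFT H ∧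
      (∃ e : Red.bc (Spec.map (CommRingCat.ofHom (Ideal.Quotient.mk J))) H ≅ H₀, e.hom ≫ j₀ = (Over.pullback (Spec.map (CommRingCat.ofHom (Ideal.Quotient.mk J)))).map j) ∧
      (∀ (X : Over _) (x : X ⟶ _) (g : X ⟶ G), (x ≫ j) * g = g * (x ≫ j)) ∧
      ∀ (H' : Over (Spec (CommRingCat.of A))) [GrpObj H'] (j' : H' ⟶ G) [IsMonHom j'] [Mono j'], SGA3x.IsMultTypeFT H' →
        (∃ e' : Red.bc (Spec.map (CommRingCat.ofHom (Ideal.Quotient.mk J))) H' ≅ H₀, e'.hom ≫ j₀ = (Over.pullback (Spec.map (CommRingCat.ofHom (Ideal.Quotient.mk J)))).map j') →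
        ∃ φ : H' ≅ H, φ.hom ≫ j = j') := by
  let i := Spec.map (CommRingCat.ofHom (Ideal.Quotient.mk J))
  haveI hi : IsClosedImmersion i := IsClosedImmersion.spec_of_surjective _ Ideal.Quotient.mk_surjective
  haveI hs : Surjective i := Groth.L25.CentralLift.surjective_of_nil J hJ
  haveI : ∀ X : Over (Spec (CommRingCat.of A)), Surjective (Limits.pullback.fst X.hom i) := fun X =>
    MorphismProperty.pullback_fst (P := @Surjective) X.hom i hs
  haveI : Etale H₀.hom := Groth.L05.UnibranchEtale.etale_of_smooth_of_locallyQuasiFinite H₀.hom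
  obtain ⟨H, _, hH, hEH, ⟨eiso⟩⟩ := Groth.L25.CentralLift.exists_etale_group_lift J hJ hs H₀ hm₀
  let φ : Red.bc i H ≅ H₀ := ⟨eiso.hom.hom.hom, eiso.inv.hom.hom, congr($(eiso.hom_inv_id).hom.hom),
    congr($(eiso.inv_hom_id).hom.hom)⟩
  haveI : IsMonHom φ.hom := eiso.hom.hom.isMonHom_hom
  obtain ⟨j, hj, hmap, hc, -⟩ := Groth.L25.CentralLift.exists_central_lift i hH (φ.hom ≫ j₀) (fun W x g => by
    rw [← Category.assoc]
    exact hc₀ W _ g)
  haveI : Mono j := ⟨fun {Z} a b h => by
    refine (Groth.L25.CentralLift.bijective_map_etale i H Z).1 ?_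
    show (Over.pullback i).map a = (Over.pullback i).map b
    rw [← cancel_mono (φ.hom ≫ j₀), ← hmap, ← Functor.map_comp, ← Functor.map_comp, h]⟩
  refine ⟨H, inferInstance, j, hj, inferInstance, hH, ⟨φ, hmap.symm⟩, fun X x g => hc X x g, ?_⟩
  intro H' _ j' _ _ hH' ⟨e', he'⟩
  haveI : Etale H'.hom := by
    refine etale_of_bc J hs H' hH' ?_
    haveI : IsIso e'.hom.left := inferInstanceAs (IsIso ((Over.forget _).map e'.hom))
    rw [← Over.w e'.hom]
    infer_instance
  obtain ⟨ψ, hψ⟩ := (Groth.L25.CentralLift.bijective_map_etale i H H').2 (e'.hom ≫ φ.inv)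
  obtain ⟨χ, hχ⟩ := (Groth.L25.CentralLift.bijective_map_etale i H' H).2 (φ.hom ≫ e'.inv)
  have hψ' : (Over.pullback i).map ψ = e'.hom ≫ φ.inv := hψ
  have hχ' : (Over.pullback i).map χ = φ.hom ≫ e'.inv := hχ
  refine ⟨⟨ψ, χ, (Groth.L25.CentralLift.bijective_map_etale i H' H').1 ?_,
    (Groth.L25.CentralLift.bijective_map_etale i H H).1 ?_⟩, ?_⟩
  · show (Over.pullback i).map (ψ ≫ χ) = (Over.pullback i).map (𝟙 H')
    rw [Functor.map_comp, hψ', hχ', CategoryTheory.Functor.map_id, Category.assoc, Iso.inv_hom_id_assoc, Iso.hom_inv_id]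
  · show (Over.pullback i).map (χ ≫ ψ) = (Over.pullback i).map (𝟙 H)
    rw [Functor.map_comp, hψ', hχ', CategoryTheory.Functor.map_id, Category.assoc, Iso.inv_hom_id_assoc, Iso.hom_inv_id]
  · have hm : (Over.pullback i).map j' = (Over.pullback i).map (ψ ≫ j) := by
      rw [Functor.map_comp, hψ', hmap, Category.assoc, Iso.inv_hom_id_assoc, he']
    refine (Groth.L25.CentralLift.ext_of_good i (Groth.L25.CentralLift.good_of_isMonHom hH' j')
      ((Groth.L25.CentralLift.good_of_isMonHom hH j).comp ψ) ?_ hm).symm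
    intro W x g
    rw [← he', ← Category.assoc]
    exact hc₀ W _ g

end Groth.Agent.S8386
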