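import Groth.Statements.S8388
import Groth.Agent.L25.CompleteLevels
import Groth.Agent.L25.Locus.Transporter

set_option autoImplicit false
universe u
open CategoryTheory MonoidalCategory CartesianMonoidalCategory MonObj GrpObj AlgebraicGeometry
open SGA3x

namespace Groth.Agent.S8388

set_option backward.isDefEq.respectTransparency.types false
set_option linter.style.haveILetI false

open Groth.L25 Groth.L25.Cocycle Groth.L25.CompleteLevels

section Aux

variable (A : Type u) [CommRing A] [IsLocalRing A] [IsNoetherianRing A]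
  [IsAdicComplete (IsLocalRing.maximalIdeal A) A]
  (M : Over (Spec (CommRingCat.of A))) [GrpObj M] [IsFinite M.hom] (hM : SGA3x.IsMultTypeFT M)
  (G : Over (Spec (CommRingCat.of A))) [GrpObj G] [Smooth G.hom]

local notation "m" => IsLocalRing.maximalIdeal A

include hM in
theorem exists_hom (g₀ : M ⊗ Z m ⟶ G) (hg₀ : HomSmooth.MulOn g₀) :
    ∃ φ : M ⟶ G, IsMonHom φ ∧ CartesianMonoidalCategory.fst M (Z m) ≫ φ = g₀ := by
  have step : ∀ k : ℕ, ∀ f' : {f : M ⊗ Z (m ^ (k + 1)) ⟶ G // HomSmooth.MulOn f},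
      ∃ f : {f : M ⊗ Z (m ^ (k + 1 + 1)) ⟶ G // HomSmooth.MulOn f}, M ◁ zMap (pow_le (k + 1)) ≫ f.1 = f'.1 := by
    intro k f'
    obtain ⟨f, hf, he⟩ := HomSmooth.exists_mulOn_step (Locus.locally_of_multTypeFT hM) (pow_le (k + 1))
      (by rw [← pow_add]; exact Ideal.pow_le_pow_right (by omega)) f'.1 f'.2
    exact ⟨⟨f, hf⟩, he⟩
  choose c hc using step
  let f1 : {f : M ⊗ Z (m ^ (0 + 1)) ⟶ G // HomSmooth.MulOn f} :=
    ⟨M ◁ zMap (le_of_eq (pow_one m).symm) ≫ g₀, fun Y p a b => by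
      simp only [lift_whiskerLeft_assoc]
      exact hg₀ Y _ a b⟩
  let b : ∀ k, {f : M ⊗ Z (m ^ (k + 1)) ⟶ G // HomSmooth.MulOn f} := fun k => Nat.rec f1 (fun k f => c k f) k
  obtain ⟨φ, hφ⟩ := exists_levels (fun n => M ◁ zMap (pow_le n) ≫ (b n).1) (fun n => by rw [← hc n (b n)])
  have hmulOn : ∀ n (Y : Over (Spec (CommRingCat.of A))) (p : Y ⟶ Z (m ^ n)) (x : Y ⟶ M),
      x ≫ φ = lift x (p ≫ zMap (pow_le n)) ≫ (b n).1 := fun n Y p x => by
    have h := congrArg (fun k => lift x p ≫ k) (hφ n)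
    simpa only [lift_fst_assoc, lift_whiskerLeft_assoc] using h
  have hmul : μ[M] ≫ φ = (φ ⊗ₘ φ) ≫ μ[G] := by
    have hfin : IsFinite (M ⊗ M).hom := by
      have h1 : IsFinite (Limits.pullback.fst M.hom M.hom) :=
        MorphismProperty.pullback_fst (P := @IsFinite) M.hom M.hom inferInstance
      show IsFinite (Limits.pullback.fst M.hom M.hom ≫ M.hom)
      infer_instance
    refine ext_levels _ _ fun n Y p h => ?_
    rw [MonObj.mul_eq_mul, MonObj.mul_eq_mul]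
    simp only [← Category.assoc, MonObj.comp_mul]
    simp only [Category.assoc, tensorHom_fst, tensorHom_snd]
    rw [hmulOn n Y p, ← Category.assoc h (CartesianMonoidalCategory.fst M M) φ,
      ← Category.assoc h (CartesianMonoidalCategory.snd M M) φ, hmulOn n Y p, hmulOn n Y p]
    exact (b n).2 Y _ _ _
  have hone : η[M] ≫ φ = η[G] := by
    have h1 : ∀ (K : Over (Spec (CommRingCat.of A))) [GrpObj K],
        (η[K] : 𝟙_ (Over (Spec (CommRingCat.of A))) ⟶ K) = 1 :=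
      fun K _ => by rw [Hom.one_def, toUnit_unique (toUnit _) (𝟙 _), Category.id_comp]
    have h2 : ∀ x y : 𝟙_ (Over (Spec (CommRingCat.of A))) ⟶ M, (x * y) ≫ φ = (x ≫ φ) * (y ≫ φ) := fun x y => by
      rw [Hom.mul_def, Category.assoc, hmul, ← Category.assoc, lift_map, ← Hom.mul_def]
    have h3 := h2 1 1
    rw [_root_.one_mul] at h3
    rw [h1 M, h1 G]
    exact left_eq_mul.1 h3
  refine ⟨φ, ⟨hone, hmul⟩, ?_⟩
  have h := hmulOn 1 (M ⊗ Z m) (CartesianMonoidalCategory.snd M (Z m) ≫ zMap (le_of_eq (pow_one m)))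
    (CartesianMonoidalCategory.fst M (Z m))
  rw [h]
  have e1 : M ◁ zMap (pow_le (0 + 1)) ≫ (b 1).1 = M ◁ zMap (le_of_eq (pow_one m).symm) ≫ g₀ := hc 0 (b 0)
  have h5 := congrArg (fun k => lift (CartesianMonoidalCategory.fst M (Z m))
    (CartesianMonoidalCategory.snd M (Z m) ≫ zMap (le_of_eq (pow_one m))) ≫ k) e1
  simp only [lift_whiskerLeft_assoc] at h5
  refine h5.trans ?_
  rw [Category.assoc, hom_Z_subsingleton (zMap _ ≫ zMap _) (𝟙 _), Category.comp_id, lift_fst_snd, Category.id_comp]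

include hM in
set_option maxHeartbeats 1000000 in
theorem exists_conj (u v : M ⟶ G) [IsMonHom u] [IsMonHom v] (hA : AgreeMod m u v) :
    ∃ g : 𝟙_ (Over (Spec (CommRingCat.of A))) ⟶ G, toUnit (Z m) ≫ g = 1 ∧
      ∀ (X : Over (Spec (CommRingCat.of A))) (h : X ⟶ M),
        h ≫ v = (toUnit X ≫ g) * (h ≫ u) * (toUnit X ≫ g)⁻¹ := by
  have step : ∀ k : ℕ, ∀ g : {g : 𝟙_ (Over (Spec (CommRingCat.of A))) ⟶ G //
      AgreeMod (m ^ (k + 1)) (intBy g u) v}, ∃ g' : {g : 𝟙_ (Over (Spec (CommRingCat.of A))) ⟶ G //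
      AgreeMod (m ^ (k + 1 + 1)) (intBy g u) v},
      toUnit (Z (m ^ (k + 1))) ≫ g'.1 = toUnit (Z (m ^ (k + 1))) ≫ g.1 := by
    intro k g
    obtain ⟨g', hg', hag'⟩ := exists_conj_step (Locus.locally_of_multTypeFT hM) (pow_le (k + 1))
      (by rw [← pow_add]; exact Ideal.pow_le_pow_right (by omega)) (intBy g.1 u) v g.2
    obtain ⟨gl, hgl⟩ := exists_section_lift g'
    refine ⟨⟨gl * g.1, fun Y q h => ?_⟩, ?_⟩
    · rw [comp_intBy, hag' Y q h, comp_intBy, MonObj.comp_mul, ← hgl, ← Category.assoc,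
        toUnit_unique (q ≫ toUnit _) (toUnit Y)]
      group
    · rw [MonObj.comp_mul, toUnit_unique (toUnit (Z (m ^ (k + 1)))) (zMap (pow_le (k + 1)) ≫ toUnit _),
        Category.assoc, hgl, hg', _root_.one_mul]
  choose c hc using step
  let g0 : {g : 𝟙_ (Over (Spec (CommRingCat.of A))) ⟶ G // AgreeMod (m ^ (0 + 1)) (intBy g u) v} :=
    ⟨1, fun Y q h => by
      rw [comp_intBy, MonObj.comp_one, _root_.one_mul, inv_one, _root_.mul_one]
      exact hA Y (q ≫ zMap (le_of_eq (pow_one m).symm)) h⟩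
  obtain ⟨b, hb0, hbs⟩ : ∃ b : ∀ k, {g : 𝟙_ (Over (Spec (CommRingCat.of A))) ⟶ G //
      AgreeMod (m ^ (k + 1)) (intBy g u) v}, b 0 = g0 ∧ ∀ k, b (k + 1) = c k (b k) :=
    ⟨fun k => Nat.rec g0 (fun k g => c k g) k, rfl, fun _ => rfl⟩
  have hcb : ∀ n, toUnit (Z (m ^ (n + 1))) ≫ (b (n + 1)).1 = toUnit (Z (m ^ (n + 1))) ≫ (b n).1 := fun n => by
    rw [hbs]; exact hc n (b n)
  obtain ⟨g, hg⟩ := exists_section_levels (fun n => toUnit (Z (m ^ n)) ≫ (b n).1) (fun n => by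
    have h := congrArg (fun k => zMap (pow_le n) ≫ k) (hcb n)
    simp only [← Category.assoc, toUnit_unique (zMap (pow_le n) ≫ toUnit _) (toUnit _)] at h ⊢
    exact h)
  have hval : ∀ n (Y : Over (Spec (CommRingCat.of A))) (_ : Y ⟶ Z (m ^ n)),
      toUnit Y ≫ g = toUnit Y ≫ (b n).1 := fun n Y p => by
    rw [toUnit_unique (toUnit Y) (p ≫ toUnit _), Category.assoc, hg n, Category.assoc]
  have heq : intBy g u = v := ext_levels _ _ fun n Y p h => by
    rw [comp_intBy, hval n Y p, ← comp_intBy]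
    exact (b n).2 Y (p ≫ zMap (pow_le n)) h
  refine ⟨g, ?_, fun X h => by rw [← comp_intBy, heq]⟩
  have h1 := hval (0 + 1) (Z m) (zMap (le_of_eq (pow_one m)))
  have h0 : (b 0).1 = 1 := by rw [hb0]
  have h2 : toUnit (Z (m ^ (0 + 1))) ≫ (b (0 + 1)).1 = 1 :=
    (hcb 0).trans ((congrArg (toUnit (Z (m ^ (0 + 1))) ≫ ·) h0).trans (MonObj.comp_one _))
  let z : Z m ⟶ Z (m ^ (0 + 1)) := zMap (le_of_eq (pow_one m))
  have e1 : toUnit (Z m) = z ≫ toUnit (Z (m ^ (0 + 1))) := toUnit_unique _ _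
  have e2 : toUnit (Z m) ≫ (b (0 + 1)).1 = z ≫ (toUnit (Z (m ^ (0 + 1))) ≫ (b (0 + 1)).1) := by
    rw [e1, Category.assoc]
  have e3 : z ≫ (1 : Z (m ^ (0 + 1)) ⟶ G) = 1 := MonObj.comp_one z
  exact (h1.trans e2).trans ((congrArg (fun k => z ≫ k) h2).trans e3)

end Aux

/-- Let A be a complete Noetherian local ring with residue field k, S = Spec A, S₀ = Spec k the closed
point, M an S-group scheme finite over S and of multiplicative type, and G an S-group scheme smooth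
over S. Then every homomorphism of S₀-groups u₀ : M₀ → G₀ between the closed fibres is the
restriction of a homomorphism of S-groups u : M → G; and if u, u′ : M → G are homomorphisms with the
same restriction to S₀, there is g ∈ G(S) restricting to the unit of G(S₀) with u′ = int(g) ∘ u. -/
theorem result (A : Type u) [CommRing A]
    [IsLocalRing A] [IsNoetherianRing A] [IsAdicComplete (IsLocalRing.maximalIdeal A) A]
    (M : Over (Spec (CommRingCat.of A))) [GrpObj M] [IsFinite M.hom] (hM : SGA3x.IsMultTypeFT M)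
    (G : Over (Spec (CommRingCat.of A))) [GrpObj G] [Smooth G.hom] :
    (∀ (u₀ : Red.bc (Spec.map (CommRingCat.ofHom (Ideal.Quotient.mk (IsLocalRing.maximalIdeal A)))) M ⟶ Red.bc (Spec.map (CommRingCat.ofHom (Ideal.Quotient.mk (IsLocalRing.maximalIdeal A)))) G) [IsMonHom u₀],
      ∃ u : M ⟶ G, IsMonHom u ∧ (Over.pullback (Spec.map (CommRingCat.ofHom (Ideal.Quotient.mk (IsLocalRing.maximalIdeal A))))).map u = u₀) ∧
    (∀ (u u' : M ⟶ G) [IsMonHom u] [IsMonHom u'],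
      (Over.pullback (Spec.map (CommRingCat.ofHom (Ideal.Quotient.mk (IsLocalRing.maximalIdeal A))))).map u = (Over.pullback (Spec.map (CommRingCat.ofHom (Ideal.Quotient.mk (IsLocalRing.maximalIdeal A))))).map u' →
      ∃ g : 𝟙_ (Over (Spec (CommRingCat.of A))) ⟶ G,
        (Over.pullback (Spec.map (CommRingCat.ofHom (Ideal.Quotient.mk (IsLocalRing.maximalIdeal A))))).map g = toUnit _ ≫ η[Red.bc (Spec.map (CommRingCat.ofHom (Ideal.Quotient.mk (IsLocalRing.maximalIdeal A)))) G] ∧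
        ∀ (X : Over (Spec (CommRingCat.of A))) (x : X ⟶ M), x ≫ u' = (toUnit X ≫ g) * (x ≫ u) * (toUnit X ≫ g)⁻¹) := by
  refine ⟨fun u₀ _ => ?_, fun u u' _ _ h => ?_⟩
  · obtain ⟨g₀, hg₀, hu⟩ := exists_mulOn_of_bc (IsLocalRing.maximalIdeal A) u₀
    obtain ⟨φ, hφm, hφ⟩ := exists_hom A M hM G g₀ hg₀
    exact ⟨φ, hφm, hu φ hφ⟩
  · obtain ⟨g, hg1, hg2⟩ := exists_conj A M hM G u u' (agreeMod_of_map_eq u u' h)
    exact ⟨g, map_eq_of_section g hg1, hg2⟩

end Groth.Agent.S8388
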