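import Groth.Statements.S8437
import Groth.Agent.L08.Borel.CartanImage
-- import your own Groth.Agent.* helpers here

set_option autoImplicit false
set_option backward.isDefEq.respectTransparency.types false
set_option linter.style.haveILetI false
set_option backward.isDefEq.respectTransparency.types false
set_option linter.style.haveILetI false
universe u
open CategoryTheory MonoidalCategory CartesianMonoidalCategory MonObj GrpObj AlgebraicGeometry
open SGA3x

namespace Groth.Agent.S8437

/-- Let G, G′ be S-group schemes, smooth, separated and of finite type over S, G admitting a maximal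
torus locally for the fpqc topology, G′ with connected fibres, and u : G → G′ a homomorphism
surjective on every geometric fibre whose kernel is central. Then C ↦ u(C) is a bijection from the
Cartan subgroups of G onto those of G′ with C = u⁻¹(u(C)): for every Cartan subgroup C of G there
are a Cartan subgroup C′ of G′ and a faithfully flat homomorphism v : C → C′ making C → G, C → C′ a
cartesian square over u; and every Cartan subgroup C′ of G′ is obtained in this way. -/
theorem result (S : Scheme.{u}) (G G' : Over S) [GrpObj G] [GrpObj G']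
    [Smooth G.hom] [IsSeparated G.hom] [QuasiCompact G.hom] [Smooth G'.hom] [IsSeparated G'.hom] [QuasiCompact G'.hom]
    (hG : SGA3x.HasMaxTorusFpqcLocally G) (u : G ⟶ G') [IsMonHom u]
    (hu : ∀ s : S, Surjective ((Over.pullback (Red.geomPt s)).map u).left)
    (hconn' : ∀ s : S, _root_.IsConnected (G'.hom.base ⁻¹' {s}))
    (hker : ∀ (X : Over S) (z : X ⟶ G), z ≫ u = 1 → ∀ (X' : Over S) (x : X' ⟶ X) (g : X' ⟶ G),
      (x ≫ z) * g = g * (x ≫ z)) :
    (∀ (C : Over S) [GrpObj C] (c : C ⟶ G), SGA3x.IsCartan c →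
      ∃ (C' : Over S) (_ : GrpObj C') (c' : C' ⟶ G') (v : C ⟶ C'), SGA3x.IsCartan c' ∧ IsMonHom v ∧
        Surjective v.left ∧ Flat v.left ∧ IsPullback c v u c') ∧
    (∀ (C' : Over S) [GrpObj C'] (c' : C' ⟶ G'), SGA3x.IsCartan c' →
      ∃ (C : Over S) (_ : GrpObj C) (c : C ⟶ G) (v : C ⟶ C'), SGA3x.IsCartan c ∧ IsMonHom v ∧
        Surjective v.left ∧ Flat v.left ∧ IsPullback c v u c') := by
  constructor
  · intro C _ c hC
    obtain ⟨T, gT, i, hT, hc⟩ := Groth.L08.Borel.exists_maximalTorus_of_cartan hG hC
    obtain ⟨T', gT', i', v, hT', hvm, hv, hvs, hvf⟩ := Groth.L08.Borel.exists_image_maximalTorus u hu hT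
    obtain ⟨C', gC', c', hc', -, hC', -⟩ := Groth.Agent.S4118.result S G' T' i' hT'
    obtain ⟨w, hw, hws, hwf, sq⟩ :=
      Groth.L08.Borel.exists_cartan_square u hu hconn' hker hT hT' v hv hc hc'
    exact ⟨C', gC', c', w, hC', hw, hws, hwf, sq⟩
  · intro C' _ c' hC'
    obtain ⟨T', gT', i', hT', hc'⟩ : ∃ (T' : Over S) (_ : GrpObj T') (i' : T' ⟶ G'),
        Red.IsMaximalTorus i' ∧ Red.IsCentralizerOf i' c' := by
      refine Groth.L08.Borel.exists_maximalTorus_of_cartan ?_ hC'
      obtain ⟨S₁, f, hf, hfs, hfc, T₀, _, i₀, hT₀⟩ := hG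
      haveI : Smooth (Red.bc f G).hom := inferInstanceAs (Smooth (Limits.pullback.snd G.hom f))
      haveI : QuasiCompact (Red.bc f G).hom := inferInstanceAs (QuasiCompact (Limits.pullback.snd G.hom f))
      haveI : Smooth (Red.bc f G').hom := inferInstanceAs (Smooth (Limits.pullback.snd G'.hom f))
      haveI : IsSeparated (Red.bc f G').hom := inferInstanceAs (IsSeparated (Limits.pullback.snd G'.hom f))
      haveI : QuasiCompact (Red.bc f G').hom := inferInstanceAs (QuasiCompact (Limits.pullback.snd G'.hom f))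
      haveI : IsMonHom ((Over.pullback f).map u) := Groth.L25.MonoClosed.isMonHom_pullbackMap _ _
      haveI : Surjective u.left := Groth.L08.Borel.surjective_of_geomFibres u hu
      haveI : Surjective ((Over.pullback f).map u).left := Groth.L08.Borel.surjective_bcMap f u
      obtain ⟨Q, gQ, j, -, hQ, -, -, -, -⟩ := Groth.L08.Borel.exists_image_maximalTorus ((Over.pullback f).map u)
        (fun s => Groth.L08.Borel.surjective_bcMap _ _) hT₀
      exact ⟨S₁, f, hf, hfs, hfc, Q, gQ, j, hQ⟩
    obtain ⟨T, gT, i, v, hT, hvm, hv, hvs, hvf⟩ := Groth.L08.Borel.exists_lift_maximalTorus hG u hu hker hT'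
    obtain ⟨C, gC, c, hc, -, hC, -⟩ := Groth.Agent.S4118.result S G T i hT
    obtain ⟨w, hw, hws, hwf, sq⟩ :=
      Groth.L08.Borel.exists_cartan_square u hu hconn' hker hT hT' v hv hc hc'
    exact ⟨C, gC, c, w, hC, hw, hws, hwf, sq⟩

end Groth.Agent.S8437
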