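import Groth.Statements.S8391
import Groth.Agent.L20.Dense.Cartans
import Groth.Agent.S8437
import Groth.Agent.L24.TorusField.NonAffine

set_option autoImplicit false
universe u
open CategoryTheory MonoidalCategory CartesianMonoidalCategory MonObj GrpObj AlgebraicGeometry
open SGA3x

set_option backward.isDefEq.respectTransparency.types false
open Groth.L08.AffHull (hull rho)
open Groth.L25.Bridge (P)
open Limits

set_option backward.isDefEq.respectTransparency false
set_option backward.isDefEq.respectTransparency.types false

theorem affine_case (k : Type u) [Field k] [Infinite k]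
    (G : Over (Spec (CommRingCat.of k))) [GrpObj G] [IsAffine G.left] [Smooth G.hom]
    [ConnectedSpace G.left] (U : G.left.Opens) (hU : (U : Set ↥G.left).Nonempty) :
    ∃ (C : Over (Spec (CommRingCat.of k))) (_ : GrpObj C) (c : C ⟶ G), SGA3x.IsCartan c ∧
      (Set.range c.left.base ∩ (U : Set ↥G.left)).Nonempty := by
  obtain ⟨A, _, _, e, he, he', _, _, _⟩ := Groth.L20.Unirat.exists_hopfData G
  haveI := he; haveI := he'
  obtain ⟨u, hu⟩ := hU
  have hV : IsOpen (e.inv.left.base ⁻¹' (U : Set G.left)) := U.isOpen.preimage e.inv.left.continuous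
  have huV : e.hom.left.base u ∈ e.inv.left.base ⁻¹' (U : Set G.left) := by
    show e.inv.left (e.hom.left u) ∈ U
    rw [← Scheme.Hom.comp_apply, ← Over.comp_left, e.hom_inv_id]
    exact hu
  obtain ⟨_, ⟨f, rfl⟩, huf, hfV⟩ := PrimeSpectrum.isTopologicalBasis_basic_opens.exists_subset_of_mem_open huV hV
  have hf : f ≠ 0 := fun h => huf (h ▸ Ideal.zero_mem _)
  obtain ⟨C, gC, c, hc, p, ⟨q, hq⟩, hpf⟩ := Groth.L20.Dense.exists_cartan_meets_basic (k := k) A hf
  refine ⟨C, gC, c ≫ e.inv, ?_, e.inv.left.base p, ⟨q, ?_⟩, hfV hpf⟩
  · refine ⟨haveI := hc.1; inferInstance, haveI := hc.2.1; mono_comp _ _, hc.2.2.1, fun s => ?_⟩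
    obtain ⟨hm, hmo, T, gT, i, hT, hcen⟩ := hc.2.2.2 s
    let F := Over.pullback (Red.geomPt s)
    haveI : IsMonHom (F.mapIso e).symm.hom := Groth.L25.MonoClosed.isMonHom_pullbackMap _ e.inv
    haveI : IsMonHom (F.mapIso e).symm.inv := Groth.L25.MonoClosed.isMonHom_pullbackMap _ e.hom
    haveI := hm; haveI := hmo
    have hz := Groth.L20.Unirat.isCentralizerOf_of_iso hcen (F.mapIso e).symm
    have hmap : F.map (c ≫ e.inv) = F.map c ≫ (F.mapIso e).symm.hom := F.map_comp _ _
    rw [hmap]
    exact ⟨hz.1, hz.2.1, T, gT, i ≫ (F.mapIso e).symm.hom,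
      Groth.L20.Unirat.isMaximalTorus_of_iso hT (F.mapIso e).symm, hz⟩
  · show (c ≫ e.inv).left q = e.inv.left p
    rw [Over.comp_left, Scheme.Hom.comp_apply]
    exact congrArg e.inv.left hq
namespace Groth.Agent.S8391

/-- Let G be a connected smooth algebraic group (smooth and of finite type) over an infinite field k.
Then the union of the Cartan subgroups of G is dense in G: every nonempty open subset of the
underlying space of G meets the image of some Cartan subgroup C → G. (The published statement does
not assume G connected; for the semidirect product of the multiplicative group by the group of order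
two acting by inversion, every Cartan subgroup is the neutral component, so the other component is a
nonempty open subset meeting none of them; this row assumes G connected, the case its proof treats.) -/
theorem result (k : Type u) [Field k] [Infinite k]
    (G : Over (Spec (CommRingCat.of k))) [GrpObj G] [Smooth G.hom] [QuasiCompact G.hom]
    [ConnectedSpace ↥G.left] (U : G.left.Opens) (hU : (U : Set ↥G.left).Nonempty) :
    ∃ (C : Over (Spec (CommRingCat.of k))) (_ : GrpObj C) (c : C ⟶ G), SGA3x.IsCartan c ∧
      (Set.range c.left.base ∩ (U : Set ↥G.left)).Nonempty := by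
  haveI : LocallyOfFiniteType G.hom := inferInstance
  haveI := Groth.Agent.AV.isSeparated_of_grpObj G
  haveI := Groth.L08.AffHull.compactSpace (G := G)
  haveI := Groth.L08.AffHull.quasiSeparatedSpace (G := G)
  obtain ⟨hl, hs, hf, hp⟩ := Groth.L08.AffHull.hull_props (G := G)
  haveI := hl; haveI := hs; haveI := hf; haveI := hp
  haveI : IsAffine (hull G).left := inferInstanceAs (IsAffine (Spec Γ(G.left, ⊤)))
  haveI : LocallyOfFinitePresentation (hull G).hom := inferInstance
  haveI : IsAffineHom (hull G).hom := inferInstance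
  haveI : Smooth (hull G).hom :=
    Groth.L23.FppfSmooth.smooth_of_fppf_comp (rho G).left (hull G).hom (by rw [Over.w (rho G)]; infer_instance)
  haveI : ConnectedSpace (hull G).left := (rho G).left.surjective.connectedSpace (rho G).left.continuous
  haveI : IsSeparated (hull G).hom := inferInstance
  haveI : QuasiCompact (hull G).hom := inferInstance
  haveI : UniversallyOpen (rho G).left := inferInstance
  let V : (hull G).left.Opens := ⟨(rho G).left.base '' (U : Set G.left), (rho G).left.isOpenMap _ U.isOpen⟩
  obtain ⟨C', gC', c', hc', y, ⟨q', hq'⟩, ⟨u, hu, huy⟩⟩ := affine_case k (hull G) V (hU.image _)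
  obtain ⟨M, gM, j, hjm, hjc, -, hker⟩ := Groth.L08.AbelianGrp.exists_kernel (rho G)
  haveI := hjm; haveI := hjc
  haveI : LocallyOfFiniteType M.hom := by rw [← Over.w j]; infer_instance
  haveI : QuasiCompact M.hom := by rw [← Over.w j]; infer_instance
  haveI : IsIso M.hom.appTop := Groth.L08.AffHull.isIso_appTop_kernel j hker
  obtain ⟨T₀, gT₀, i₀, hT₀⟩ := Groth.L24.TorusField.exists_maximalTorus_connected_general G
  obtain ⟨C, gC, c, v, hc, -, -, -, sq⟩ := (Groth.Agent.S8437.result _ G (hull G)
    (Groth.L20.Unirat.hasMaxTorus_of_maximalTorus hT₀) (rho G)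
    (fun s => Groth.L08.Borel.surjective_bcMap _ (rho G))
    (fun s => by
      rw [show (hull G).hom.base ⁻¹' {s} = Set.univ from
        Set.eq_univ_of_forall fun x => Subsingleton.elim (α := PrimeSpectrum k) _ _]
      exact isConnected_univ)
    (fun X z hz X' x g => by
      obtain ⟨l, rfl, -⟩ := hker.exists_lift z (toUnit X) (by rw [hz, Hom.one_def])
      rw [← Category.assoc]
      exact Groth.L24.TorusField.central_of_antiAffine j (x ≫ l) g)).2 C' c' hc'
  refine ⟨C, gC, c, hc, u, ?_, hu⟩
  have sq' : IsPullback c.left v.left (rho G).left c'.left := sq.map (Over.forget _)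
  obtain ⟨p, hp, -⟩ := Scheme.Pullback.exists_preimage_pullback (f := (rho G).left) (g := c'.left) u q' (huy.trans hq'.symm)
  exact ⟨sq'.isoPullback.inv p, (congr($(IsPullback.isoPullback_inv_fst sq') p)).trans hp⟩

end Groth.Agent.S8391
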