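import Groth.Statements.S8393
import Groth.Agent.L08.Centre.Basic
import Groth.Agent.L25.LargestMult.Scheme

set_option autoImplicit false
universe u
open CategoryTheory MonoidalCategory CartesianMonoidalCategory MonObj GrpObj AlgebraicGeometry
open SGA3x

set_option backward.isDefEq.respectTransparency.types false

namespace Groth.Agent.S8393

/-- Let G be an affine algebraic group over a field k (an affine k-group scheme of finite type). Then G
admits a reductive centre: a subgroup scheme Z of G which is central and of multiplicative type, and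
such that for every k-scheme S′ and every central homomorphism v : H → G ×_k S′ from an S′-group H
of multiplicative type and of finite type, v factors through Z ×_k S′. -/
theorem result (k : Type u) [Field k]
    (G : Over (Spec (CommRingCat.of k))) [GrpObj G] [IsAffine G.left] [QuasiCompact G.hom] [LocallyOfFiniteType G.hom] :
    ∃ (Z : Over (Spec (CommRingCat.of k))) (_ : GrpObj Z) (z : Z ⟶ G), IsMonHom z ∧ Mono z ∧ SGA3x.IsMultTypeFT Z ∧
      (∀ (X : Over (Spec (CommRingCat.of k))) (x : X ⟶ Z) (g : X ⟶ G), (x ≫ z) * g = g * (x ≫ z)) ∧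
      ∀ (S' : Scheme.{u}) (f : S' ⟶ (Spec (CommRingCat.of k))) (H : Over S') [GrpObj H] (v : H ⟶ Red.bc f G) [IsMonHom v],
        SGA3x.IsMultTypeFT H →
        (∀ (X : Over S') (x : X ⟶ H) (g : X ⟶ Red.bc f G), (x ≫ v) * g = g * (x ≫ v)) →
        ∃ w : H ⟶ Red.bc f Z, w ≫ (Over.pullback f).map z = v := by
  obtain ⟨C, gC, c, hc, hcl, hC⟩ := Groth.L08.Centre.exists_centre G
  letI := gC
  have := hc
  have := hcl
  have : Mono c := Over.mono_of_mono_left c
  have : IsAffine C.left := isAffine_of_isAffineHom c.left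
  have : LocallyOfFiniteType C.hom := by rw [← Over.w c]; infer_instance
  have hcc : ∀ (X : Over (Spec (CommRingCat.of k))) (a : X ⟶ C) (g : X ⟶ G),
      (a ≫ c) * g = g * (a ≫ c) := fun X a g => by
    have h := (hC.2.2 X (a ≫ c)).1 ⟨a, rfl⟩ X (𝟙 X) g
    simpa using h
  obtain ⟨M, gM, i, hi, him, hM, huniv⟩ := Groth.L25.LargestMult.exists_largest k C fun X a b => by
    rw [← cancel_mono c, MonObj.mul_comp, MonObj.mul_comp]
    exact hcc X a (b ≫ c)
  letI := gM
  have := hi
  have := him
  refine ⟨M, gM, i ≫ c, inferInstance, mono_comp i c, hM, fun X x g => ?_, fun S' f H _ v _ hH hv => ?_⟩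
  · rw [← Category.assoc]; exact hcc X (x ≫ i) g
  obtain ⟨v₀, hv₀⟩ := (hC.2.2 _ (Groth.L25.NilAction.toBase f v)).2 fun X' t h => by
    let Y : Over S' := Over.mk (t.left ≫ H.hom)
    let j : Over.mk (Y.hom ≫ f) ⟶ X' := Over.homMk (𝟙 _) (by
      show 𝟙 _ ≫ X'.hom = (t.left ≫ H.hom) ≫ f
      rw [Category.id_comp, Category.assoc]
      exact (Over.w t).symm)
    let a : Y ⟶ H := Over.homMk t.left rfl
    have : IsIso j.left := inferInstanceAs (IsIso (𝟙 X'.left))
    have : IsIso ((Over.forget _).map j) := this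
    have : IsIso j := isIso_of_reflects_iso _ (Over.forget _)
    have h1 := congrArg (Groth.L25.NilAction.toBase f) (hv Y a (Groth.L25.NilAction.ofBase f (j ≫ h)))
    rw [Groth.L25.NilAction.toBase_mul, Groth.L25.NilAction.toBase_mul, Groth.L25.NilAction.toBase_ofBase] at h1
    have h2 : Groth.L25.NilAction.toBase f (a ≫ v) = j ≫ t ≫ Groth.L25.NilAction.toBase f v :=
      Over.OverMorphism.ext ((Category.assoc _ _ _).trans (Category.id_comp _).symm)
    rw [h2, ← MonObj.comp_mul, ← MonObj.comp_mul, cancel_epi] at h1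
    simpa using h1
  let vC : H ⟶ Red.bc f C := Groth.L25.NilAction.ofBase f v₀
  have hvC : vC ≫ (Over.pullback f).map c = v := by
    rw [Groth.L25.NilAction.ofBase_comp, hv₀, Groth.L25.NilAction.ofBase_toBase]
  have : Mono ((Over.pullback f).map c) := inferInstance
  have : IsMonHom vC := Groth.L25.Bridge.isMonHom_of_mul vC fun X a b => by
    rw [← cancel_mono ((Over.pullback f).map c), MonObj.mul_comp (a ≫ vC) (b ≫ vC), Category.assoc, Category.assoc,
      Category.assoc, hvC, MonObj.mul_comp]
  obtain ⟨w, hw⟩ := huniv S' f H vC hH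
  exact ⟨w, by rw [Functor.map_comp, ← Category.assoc, hw, hvC]⟩

end Groth.Agent.S8393
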