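import Groth.Statements.S8395
import Groth.Agent.Lead.PowEtale

set_option autoImplicit false
universe u
open CategoryTheory MonoidalCategory CartesianMonoidalCategory MonObj GrpObj AlgebraicGeometry
open SGA3x

namespace Groth.Agent.S8395

/-- Let k be a field, G a k-group scheme locally of finite type, n an integer invertible in k, and u : G
→ G the n-th power morphism. Then u is etale at every point of G lying in the centre of G; here
stated at a k-rational point g of G which is central (commutes with all points of G): u is etale on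
some open neighbourhood of g. (The published statement is for any point of the centre; its proof
reduces to rational points by extending the base field.) -/
theorem result (k : Type u) [Field k]
    (G : Over (Spec (CommRingCat.of k))) [GrpObj G] [LocallyOfFiniteType G.hom] (n : ℕ) (hn : (n : k) ≠ 0)
    (g : 𝟙_ (Over (Spec (CommRingCat.of k))) ⟶ G)
    (hg : ∀ (X : Over (Spec (CommRingCat.of k))) (x : X ⟶ G), (toUnit X ≫ g) * x = x * (toUnit X ≫ g)) :
    ∃ U : G.left.Opens, Set.range g.left.base ⊆ (U : Set ↥G.left) ∧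
      Etale (U.ι ≫ ((𝟙 G : G ⟶ G) ^ n).left) := by
  obtain ⟨U, hU, hE⟩ := Groth.Lead.PowEtale.etale_nhd G n hn
  let L : (𝟙_ (Over (Spec (CommRingCat.of k))) ⟶ G) → (G ⟶ G) := fun a => (toUnit G ≫ a) * 𝟙 G
  have hc : ∀ (a : 𝟙_ (Over (Spec (CommRingCat.of k))) ⟶ G) (f : G ⟶ G), f ≫ L a = (toUnit G ≫ a) * f := by
    intro a f
    rw [MonObj.comp_mul, ← Category.assoc, comp_toUnit, Category.comp_id]
  have hL : ∀ a, L a⁻¹ ≫ L a = 𝟙 G := fun a => by
    rw [hc, show L a⁻¹ = (toUnit G ≫ a)⁻¹ * 𝟙 G by rw [← GrpObj.comp_inv], mul_inv_cancel_left]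
  haveI : ∀ a, IsIso (L a) := fun a => ⟨L a⁻¹, by simpa using hL a⁻¹, hL a⟩
  haveI : ∀ a, IsIso (L a).left := fun a => inferInstanceAs (IsIso ((Over.forget _).map (L a)))
  have hpow : ∀ (X : Over (Spec (CommRingCat.of k))) (f : X ⟶ G) (j : ℕ), f ≫ (𝟙 G : G ⟶ G) ^ j = f ^ j := by
    intro X f j
    induction j with
    | zero => rw [pow_zero, pow_zero, MonObj.comp_one]
    | succ j ih => rw [pow_succ (𝟙 G : G ⟶ G) j, pow_succ f j, MonObj.comp_mul, ih, Category.comp_id]
  have hLu : L g ≫ ((𝟙 G : G ⟶ G) ^ n) = ((𝟙 G : G ⟶ G) ^ n) ≫ L (g ^ n) := by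
    rw [hpow, hc, Commute.mul_pow (hg G (𝟙 G))]
    congr 1
    exact (hpow G (toUnit G ≫ g) n).symm.trans ((Category.assoc _ _ _).trans (by rw [hpow]))
  let U' := (L g⁻¹).left ⁻¹ᵁ U
  refine ⟨U', ?_, ?_⟩
  · rintro _ ⟨p, rfl⟩
    haveI : Subsingleton ↥(Spec (CommRingCat.of k)) := inferInstanceAs (Subsingleton (PrimeSpectrum k))
    rw [Subsingleton.elim (α := ↥(Spec (CommRingCat.of k))) p (IsLocalRing.closedPoint k)]
    show (L g⁻¹).left (g.left (IsLocalRing.closedPoint k)) ∈ U
    rw [← Scheme.Hom.comp_apply, ← Over.comp_left]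
    have : g ≫ L g⁻¹ = η[G] := by
      rw [MonObj.comp_mul, ← Category.assoc, toUnit_unique (g ≫ toUnit G) (𝟙 _), Category.id_comp, Category.comp_id,
        inv_mul_cancel]
      exact (MonObj.one_eq_one G).symm
    rw [this]
    exact hU
  · have : (𝟙 G : G ⟶ G) ^ n = L g⁻¹ ≫ ((𝟙 G : G ⟶ G) ^ n) ≫ L (g ^ n) := by
      rw [← hLu, ← Category.assoc, hL, Category.id_comp]
    rw [this, Over.comp_left, Over.comp_left, ← morphismRestrict_ι_assoc]
    haveI : Etale (U.ι ≫ ((𝟙 G : G ⟶ G) ^ n).left) := hE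
    rw [MorphismProperty.cancel_left_of_respectsIso @Etale, ← Category.assoc,
      MorphismProperty.cancel_right_of_respectsIso @Etale]
    exact hE

end Groth.Agent.S8395
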