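import Groth.Statements.S8397
import Groth.Agent.L20.Unir.Rational

set_option autoImplicit false
universe u
open CategoryTheory MonoidalCategory CartesianMonoidalCategory MonObj GrpObj AlgebraicGeometry
open SGA3x

set_option backward.isDefEq.respectTransparency.types false
set_option backward.isDefEq.respectTransparency false
namespace Groth.Agent.S8397

/-- Let G be a smooth connected affine algebraic group over a perfect field k. Then G is a unirational
variety: some nonempty open subscheme of an affine space 𝔸ⁿ over k admits a dominant k-morphism to
G. (The published statement adds that when k is moreover infinite the k-rational points of G are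
dense in G; that consequence is not restated here.) -/
theorem result (k : Type u) [Field k] [PerfectField k]
    (G : Over (Spec (CommRingCat.of k))) [GrpObj G] [Smooth G.hom] [QuasiCompact G.hom] [IsAffine G.left] [ConnectedSpace ↥G.left] :
    ∃ (n : ℕ) (V : (AffineSpace (ULift.{u} (Fin n)) (Spec (CommRingCat.of k))).Opens) (φ : (V : Scheme.{u}) ⟶ G.left),
      (V : Set ↥(AffineSpace (ULift.{u} (Fin n)) (Spec (CommRingCat.of k)))).Nonempty ∧ DenseRange φ.base ∧
      φ ≫ G.hom = V.ι ≫ (AffineSpace (ULift.{u} (Fin n)) (Spec (CommRingCat.of k)) ↘ (Spec (CommRingCat.of k))) := by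
  obtain ⟨A, _, _, e, _, _, _, _, _⟩ := Groth.L20.Unirat.exists_hopfData G
  exact Groth.L20.Unirat.exists_dominant e (Groth.L20.Unirat.unir_of_perfectField k A)


end Groth.Agent.S8397
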