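import Groth.Statements.S8400
import Groth.Agent.L24.TorusField.Derivation
import Groth.Agent.L24.TorusField.LieNilp
import Groth.Agent.L24.TorusField.Main
import Groth.Agent.L24.TorusField.SplitTriv

set_option autoImplicit false
set_option backward.isDefEq.respectTransparency.types false
universe u
open CategoryTheory MonoidalCategory CartesianMonoidalCategory MonObj GrpObj AlgebraicGeometry
open SGA3x

namespace Groth.Agent.S8400

set_option backward.isDefEq.respectTransparency false
set_option backward.isDefEq.respectTransparency.types false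

open CategoryTheory AlgebraicGeometry MonoidalCategory CartesianMonoidalCategory MonObj

/-- Let G be a smooth, connected, affine algebraic group over an algebraically closed field k whose
reductive centre is trivial (every central subgroup scheme of multiplicative type is trivial), and
suppose the Lie algebra of G is nilpotent. Then the maximal tori of G are trivial: G contains no
non-trivial subtorus. (The published statement concludes that G is unipotent, i.e. has a composition
series with quotients isomorphic to 𝔾_a; this row concludes only that G contains no non-trivial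
subtorus.) -/
theorem result (k : Type u) [Field k] [IsAlgClosed k]
    (G : Over (Spec (CommRingCat.of k))) [GrpObj G] [Smooth G.hom] [QuasiCompact G.hom] [IsAffine G.left] [ConnectedSpace ↥G.left]
    (hZ : ∀ (Z : Over (Spec (CommRingCat.of k))) [GrpObj Z] (z : Z ⟶ G) [IsMonHom z] [Mono z], SGA3x.IsMultTypeFT Z →
      (∀ (X : Over (Spec (CommRingCat.of k))) (x : X ⟶ Z) (g : X ⟶ G), (x ≫ z) * g = g * (x ≫ z)) → Red.IsTrivialGrp Z)
    (L : Type u) [LieRing L] [LieAlgebra k L] (m : LieS.Model G k (Spec.map (CommRingCat.ofHom (algebraMap k k))) L) (hL : LieRing.IsNilpotent L) :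
    Red.HasNoSubtorus k G := by
  classical
  obtain ⟨A, _, _, ⟨e⟩⟩ := Groth.L25.Bridge.exists_hopf (R := k) G
  let eq : G ≅ Groth.L25.Bridge.P k A := (Grp.forget _).mapIso e
  haveI : IsMonHom eq.hom := e.hom.hom.isMonHom_hom
  haveI : IsMonHom eq.inv := e.inv.hom.isMonHom_hom
  haveI : IsIso eq.inv.left := inferInstanceAs (IsIso ((Over.forget _).map eq.inv))
  haveI : IsIso eq.hom.left := inferInstanceAs (IsIso ((Over.forget _).map eq.hom))
  haveI hsm : AlgebraicGeometry.Smooth (Groth.L25.Bridge.P k A).hom := by rw [← Over.w eq.inv]; infer_instance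
  haveI : ConnectedSpace (Groth.L25.Bridge.P k A).left :=
    eq.hom.left.homeomorph.surjective.connectedSpace eq.hom.left.continuous
  haveI : Algebra.FiniteType k A := by
    have h : LocallyOfFiniteType (Groth.L25.Bridge.P k A).hom := inferInstance
    change LocallyOfFiniteType (Spec.map (CommRingCat.ofHom (algebraMap k A))) at h
    rw [HasRingHomProperty.Spec_iff (P := @LocallyOfFiniteType), CommRingCat.hom_ofHom,
      RingHom.finiteType_algebraMap] at h
    exact h
  haveI : IsDomain A := Groth.L24.TorusField.isDomain_of_smooth_connected (k := k)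
  haveI : IsNoetherianRing A := Algebra.FiniteType.isNoetherianRing k A
  obtain ⟨d⟩ := Groth.L24.TorusField.exists_genData (k := k) (A := A)
  obtain ⟨N, hN⟩ := Groth.L24.TorusField.adN_eq_zero_of_nilpotent eq d.gens m hL
  intro T _ j _ _ hT
  obtain ⟨r, ⟨eT⟩⟩ := Groth.L08.Borel.exists_laurent_of_torus hT
  let et : T ≅ Groth.L25.Bridge.P k (MonoidAlgebra k (Multiplicative (Fin r → ℤ))) := (Grp.forget _).mapIso eT
  haveI : IsMonHom et.hom := eT.hom.hom.isMonHom_hom
  haveI : IsMonHom et.inv := eT.inv.hom.isMonHom_hom
  obtain ⟨π, hπ⟩ := Groth.L08.TorusQuot.exists_sp (et.inv ≫ j ≫ eq.hom)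
  haveI : Mono (Groth.L08.TorusQuot.sp π) := by rw [hπ]; infer_instance
  let p := ringChar k
  haveI : CharP k p := ringChar.charP k
  let red : MonoidAlgebra k (Multiplicative (Fin r → ℤ)) →ₐc[k] MonoidAlgebra k (Multiplicative (Fin r → ZMod p)) :=
    MonoidAlgebra.mapDomainBialgHom k (Groth.L24.TorusField.redHom r p)
  have hcent : Groth.L24.TorusField.CentHom (red.comp π) := by
    refine Groth.L24.TorusField.centHom_of_cent _ (fun (i : Fin r) (x : Multiplicative (Fin r → ZMod p)) =>
      ZMod.castHom (dvd_refl p) k (x.toAdd i)) (fun x x' he => ?_) fun i => ?_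
    · exact Multiplicative.toAdd.injective (funext fun i => ZMod.castHom_injective k (he i))
    let f : Multiplicative (Fin r → ZMod p) → k := fun x => ZMod.castHom (dvd_refl p) k (x.toAdd i)
    have hw : Groth.L08.AugGraded.IsTangent k A (Groth.L24.TorusField.pf (red.comp π) f) :=
      Groth.L24.TorusField.isTangent_pf _ f fun x y => by simp [f]
    exact Groth.L24.TorusField.cent_of_diag_of_commute d.gens hw (Groth.L24.TorusField.diag_pf _ d.gens f)
      fun w hw' => Groth.L24.TorusField.commute_of_adN (Groth.L24.TorusField.diag_pf _ d.gens f) (hN _ w hw hw')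
  obtain ⟨hcl, hfg⟩ := Groth.L24.TorusField.red_closedImmersion (k := k) r p
  haveI := hcl
  haveI : Mono (Groth.L08.TorusQuot.sp red) := Over.mono_of_mono_left _
  haveI : Mono (Groth.L08.TorusQuot.sp (red.comp π)) := by
    rw [← Groth.L08.TorusQuot.sp_comp]; exact mono_comp _ _
  haveI : Mono (Groth.L08.TorusQuot.sp (red.comp π) ≫ eq.inv) := mono_comp _ _
  haveI : IsMonHom (Groth.L08.TorusQuot.sp (red.comp π) ≫ eq.inv) := inferInstance
  have htriv := hZ _ (Groth.L08.TorusQuot.sp (red.comp π) ≫ eq.inv) hfg fun X x g => by
    rw [← cancel_mono eq.hom, MonObj.mul_comp, MonObj.mul_comp, Category.assoc, Category.assoc, Iso.inv_hom_id,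
      Category.comp_id]
    exact Groth.L24.TorusField.central_of_centMap (red.comp π) hcent X x (g ≫ eq.hom)
  obtain rfl := Groth.L24.TorusField.rank_eq_zero_of_trivial (k := k) r p htriv
  haveI := Groth.L24.TorusField.isIso_laurent_zero (k := k)
  haveI : IsIso et.hom.left := inferInstanceAs (IsIso ((Over.forget _).map et.hom))
  show IsIso T.hom
  rw [← Over.w et.hom]
  infer_instance

end Groth.Agent.S8400
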