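import Groth.Statements.S8401
import Groth.Agent.L08.Borel.MultUnip
import Groth.Agent.L08.Borel.IsoBase
import Groth.Agent.L08.Borel.GenNilp
import Groth.Agent.L25.MultTypeBC
import Groth.Agent.L25.SplitSub.Quot
-- import your own Groth.Agent.* helpers here

set_option autoImplicit false
set_option backward.isDefEq.respectTransparency.types false
set_option linter.style.haveILetI false
set_option backward.isDefEq.respectTransparency.types false
set_option linter.style.haveILetI false
universe u
open CategoryTheory MonoidalCategory CartesianMonoidalCategory MonObj GrpObj AlgebraicGeometry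
open SGA3x

namespace Groth.Agent.S8401

/-- Let G be an affine, smooth, connected algebraic group over an algebraically closed field k, and Z
its reductive centre. Then Z is the scheme-theoretic intersection of the maximal tori of G: a point
of G with values in a k-scheme X factors through Z if and only if it factors through every maximal
torus of G. -/
theorem result (k : Type u) [Field k] [IsAlgClosed k]
    (G : Over (Spec (CommRingCat.of k))) [GrpObj G] [Smooth G.hom] [QuasiCompact G.hom] [IsAffine G.left] [ConnectedSpace ↥G.left]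
    (Z : Over (Spec (CommRingCat.of k))) [GrpObj Z] (z : Z ⟶ G)
    (hZ : (IsMonHom z ∧ Mono z ∧ SGA3x.IsMultTypeFT Z ∧
      (∀ (X : Over (Spec (CommRingCat.of k))) (x : X ⟶ Z) (g : X ⟶ G), (x ≫ z) * g = g * (x ≫ z)) ∧
      ∀ (S' : Scheme.{u}) (f : S' ⟶ (Spec (CommRingCat.of k))) (H : Over S') [GrpObj H] (v : H ⟶ Red.bc f G) [IsMonHom v],
        SGA3x.IsMultTypeFT H →
        (∀ (X : Over S') (x : X ⟶ H) (g : X ⟶ Red.bc f G), (x ≫ v) * g = g * (x ≫ v)) →
        ∃ w : H ⟶ Red.bc f Z, w ≫ (Over.pullback f).map z = v)) (X : Over (Spec (CommRingCat.of k))) (g : X ⟶ G) :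
    (∃ x : X ⟶ Z, x ≫ z = g) ↔
      ∀ (T : Over (Spec (CommRingCat.of k))) [GrpObj T] (i : T ⟶ G), Red.IsMaximalTorus i → ∃ t : X ⟶ T, t ≫ i = g := by
  obtain ⟨hzm, hzmono, hZm, hZc, hZu⟩ := hZ
  haveI := hzm; haveI := hzmono
  haveI : LocallyOfFiniteType G.hom := inferInstance
  haveI : IsReduced G.left := Groth.Agent.AV.isReduced_of_smooth_field G.hom
  haveI : IsSeparated G.hom := Groth.L08.AbelianGrp.isSeparated G
  constructor
  · rintro ⟨x, rfl⟩ T _ i hi
    have hT := Groth.L08.Borel.isMaxTorus_of_isMaximalTorus hi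
    haveI := hT.1; haveI := hT.2.1
    obtain ⟨C, gC, c, hc⟩ := Groth.L08.Borel.exists_centralizer_torus i hT.2.2.1
    haveI := hc.1; haveI := hc.2.1
    obtain ⟨h1, h2, h3, h4, ⟨t, ht⟩, hcomm⟩ := Groth.L08.Borel.centralizer_props hT.2.2.1 hc
    haveI := h1; haveI := h2; haveI := h3; haveI := h4
    obtain ⟨v, hv⟩ := (hc.2.2 Z z).2 fun X' x h => by
      have := hZc X' x (h ≫ i)
      exact this
    haveI : IsMonHom v := Groth.L08.Borel.isMonHom_of_comp_mono v c z hv
    obtain ⟨w, hw⟩ := Groth.L08.Borel.mult_le_maxTorus_solvable (Groth.L08.Borel.isSolvableGrp_centralizer hT hc)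
      (Groth.L08.Borel.isMaxTorus_factor (iB := c) (ht.symm ▸ hT))
      (fun Y g s => by
        rw [← cancel_mono c, MonObj.mul_comp, MonObj.mul_comp, Category.assoc, ht]
        exact hcomm Y g s) hZm v (fun Y g s => by
        rw [← cancel_mono c, MonObj.mul_comp, MonObj.mul_comp, Category.assoc, hv]
        exact (hZc Y s (g ≫ c)).symm)
    exact ⟨x ≫ w, by rw [Category.assoc, ← ht, reassoc_of% hw, hv]⟩
  · intro h
    -- such a point is central
    obtain ⟨T, gT, iT, hT⟩ := Groth.L08.Borel.exists_maxTorus_gen G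
    obtain ⟨C, gC, c, hc⟩ := (haveI := hT.1; Groth.L08.Borel.exists_centralizer_torus iT hT.2.2.1)
    haveI := hT.1; haveI := hT.2.1; haveI := hc.1; haveI := hc.2.1
    obtain ⟨L, l, hl, hL⟩ := Groth.L08.FactorLocus.exists_closedImmersion_agree ((fst X G ≫ g) * snd X G)
      (snd X G * (fst X G ≫ g))
    haveI := hl
    obtain ⟨U, hne, hU⟩ := Groth.L08.Borel.exists_open_cartan hT hc
    have hsub : (U : Set ↥G.left) ⊆ Set.range l.left := by
      intro p hp
      by_contra hpl
      obtain ⟨y, hy, hyl⟩ := Groth.L08.Borel.exists_pt_mem (X := G) (O := (U : Set ↥G.left) ∩ (Set.range l.left)ᶜ)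
        (U.2.isLocallyClosed.inter l.left.isClosedEmbedding.isClosed_range.isOpen_compl.isLocallyClosed) ⟨p, hp, hpl⟩
      refine hyl ?_
      obtain ⟨g', c', hgc⟩ := hU y hy
      obtain ⟨s, hs⟩ := h T (AGF.conjBy g' iT)
        (Groth.L08.Borel.isMaximalTorus_of_isMaxTorus (Groth.L08.Borel.isMaxTorus_conjBy hT g'))
      obtain ⟨u, hu⟩ := (hL _ y).2 (by
        simp only [MonObj.comp_mul, whiskerLeft_fst_assoc, whiskerLeft_snd]
        rw [← hgc, ← hs, Groth.L08.Borel.comp_conjBy]
        simp only [AGF.conjBy, MonObj.comp_mul, GrpObj.comp_inv]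
        have hc0 := (hc.2.2 _ (c' ≫ c)).1 ⟨c', rfl⟩ (X ⊗ 𝟙_ _) (snd X (𝟙_ _)) (fst X (𝟙_ _) ≫ s)
        rw [← Category.assoc (fst X (𝟙_ _)) (toUnit X), toUnit_unique (fst X (𝟙_ _) ≫ toUnit X) (snd X (𝟙_ _))]
        simp only [Category.assoc] at hc0 ⊢
        generalize snd X (𝟙_ _) ≫ g' = a
        generalize snd X (𝟙_ _) ≫ c' ≫ c = b at hc0 ⊢
        generalize fst X (𝟙_ _) ≫ s ≫ iT = e at hc0 ⊢
        calc a * e * a⁻¹ * (a * b * a⁻¹) = a * (e * b) * a⁻¹ := by group
          _ = a * (b * e) * a⁻¹ := by rw [hc0]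
          _ = a * b * a⁻¹ * (a * e * a⁻¹) := by group)
      refine ⟨u.left (IsLocalRing.closedPoint k), ?_⟩
      show l.left (u.left _) = y.left _
      rw [← Scheme.Hom.comp_apply, ← Over.comp_left, hu]
    obtain ⟨r, hr⟩ := Groth.L08.Borel.factor_of_pts (𝟙 G) l fun y => by
      haveI : LocallyOfFiniteType L.hom := by rw [← Over.w l]; infer_instance
      haveI : PreirreducibleSpace ↥G.left := by
        haveI : IsLocallyNoetherian G.left := LocallyOfFiniteType.isLocallyNoetherian G.hom
        haveI := Groth.L25.Component.irreducibleSpace G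
        infer_instance
      have hall : closure (U : Set ↥G.left) ⊆ Set.range l.left :=
        closure_minimal hsub l.left.isClosedEmbedding.isClosed_range
      rw [show closure (U : Set ↥G.left) = Set.univ from (U.2.dense hne).closure_eq] at hall
      obtain ⟨u, hu⟩ := Groth.L08.Borel.exists_pt_lift l y (hall (Set.mem_univ _))
      exact ⟨u, by rw [hu, Category.comp_id]⟩
    have hcen : ∀ (Y : Over (Spec (CommRingCat.of k))) (a : Y ⟶ X) (b : Y ⟶ G), (a ≫ g) * b = b * (a ≫ g) := by
      intro Y a b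
      have e := (hL G (𝟙 G)).1 ⟨r, hr⟩
      simp only [MonoidalCategory.whiskerLeft_id, Category.id_comp] at e
      have e2 := congrArg (CartesianMonoidalCategory.lift a b ≫ ·) e
      simpa only [MonObj.comp_mul, lift_fst_assoc, lift_snd] using e2
    -- the central points of a maximal torus
    obtain ⟨Zc, gZc, jc, hjc, hjcl, hjC⟩ := Groth.L08.Centre.exists_centre G
    haveI := hjc; haveI := hjcl
    haveI : Mono jc := Groth.L08.mono_of_closedImmersion jc
    obtain ⟨sT, hsT⟩ := h T iT (Groth.L08.Borel.isMaximalTorus_of_isMaxTorus hT)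
    obtain ⟨sc, hsc⟩ := (hjC.2.2 X g).2 fun X' x b => by
      rw [Category.comp_id]; exact hcen X' x b
    let K := Limits.pullback iT jc
    let kT : K ⟶ T := Limits.pullback.fst _ _
    haveI : IsClosedImmersion kT.left :=
      MorphismProperty.of_isPullback (P := @IsClosedImmersion)
        ((IsPullback.of_hasPullback iT jc).map (Over.forget _)).flip ‹IsClosedImmersion jc.left›
    haveI : Mono kT := Groth.L08.mono_of_closedImmersion kT
    have crit : ∀ {W : Over (Spec (CommRingCat.of k))} (a : W ⟶ T) (b : W ⟶ Zc), b ≫ jc = a ≫ iT →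
        ∃ q : W ⟶ K, q ≫ kT = a := fun a b e => ⟨Limits.pullback.lift a b e.symm, Limits.pullback.lift_fst _ _ _⟩
    obtain ⟨gK, hkT⟩ := Groth.L08.exists_grpObj_of_mono kT
      (crit η[T] 1 (by rw [MonObj.one_comp, MonObj.one_eq_one, MonObj.one_comp]))
      (crit ((fst K K ≫ kT) * (snd K K ≫ kT))
        ((fst K K ≫ Limits.pullback.snd iT jc) * (snd K K ≫ Limits.pullback.snd iT jc)) (by
          simp only [MonObj.mul_comp, Category.assoc, ← Limits.pullback.condition, kT]))
      (crit kT⁻¹ (Limits.pullback.snd iT jc)⁻¹ (by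
        rw [GrpObj.inv_comp, GrpObj.inv_comp, ← Limits.pullback.condition]))
    haveI := hkT
    obtain ⟨-, a2, -, -, -⟩ := Groth.L08.Borel.torus_props hT.2.2.1
    haveI := a2
    haveI : LocallyOfFiniteType K.hom := by rw [← Over.w kT]; infer_instance
    haveI : IsLocallyNoetherian (Spec (CommRingCat.of k)) := inferInstance
    have hKm : SGA3x.IsMultTypeFT K := Groth.L25.MultSub.isMultTypeFT_of_closed K T
      (Groth.L25.Locus.isMultTypeFT_of_isTorus hT.2.2.1) kT inferInstance inferInstance
      (Groth.L25.TrivLocus.lfp_of_noetherian K.hom)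
    let f : Spec (CommRingCat.of k) ⟶ Spec (CommRingCat.of k) := 𝟙 _
    let uK : Red.bc f K ⟶ Red.bc f G := (Over.pullback f).map (kT ≫ iT)
    haveI : IsMonHom uK := Groth.L25.Bridge.isMonHom_of_mul uK fun Y a b => by
      apply Groth.L25.CentralLift.toBase_injective
      simp only [uK, Groth.L25.SplitSub.toBase_map, Groth.L25.NilAction.toBase_mul, MonObj.mul_comp]
    obtain ⟨w, hw⟩ := hZu (Spec (CommRingCat.of k)) f (Red.bc f K) uK
      (Groth.L25.MultTypeBC.isMultTypeFT_bc hKm f) fun Y y b => by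
      apply Groth.L25.CentralLift.toBase_injective
      rw [Groth.L25.NilAction.toBase_mul, Groth.L25.NilAction.toBase_mul]
      simp only [uK, Groth.L25.SplitSub.toBase_map]
      have := (hjC.2.2 _ ((Groth.L25.NilAction.toBase f y ≫ Limits.pullback.snd iT jc) ≫ jc)).1 ⟨_, rfl⟩
        _ (𝟙 _) (Groth.L25.NilAction.toBase f b)
      simpa only [Category.id_comp, Category.comp_id, Category.assoc, kT, Limits.pullback.condition] using this
    obtain ⟨q, hq⟩ := crit sT sc (by rw [hsc, hsT])
    let j : X ⟶ Over.mk (X.hom ≫ f) := Over.homMk (𝟙 _) (by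
      show 𝟙 _ ≫ X.hom ≫ 𝟙 _ = X.hom
      rw [Category.id_comp, Category.comp_id])
    let j' : Over.mk (X.hom ≫ f) ⟶ X := Over.homMk (𝟙 _) (by
      show 𝟙 _ ≫ X.hom = X.hom ≫ 𝟙 _
      simp)
    have hjj : j ≫ j' = 𝟙 X := Over.OverMorphism.ext (Category.id_comp _)
    let qb : X ⟶ Red.bc f K := Groth.L25.NilAction.ofBase f (j' ≫ q)
    refine ⟨j ≫ Groth.L25.NilAction.toBase f (qb ≫ w), ?_⟩
    rw [Category.assoc, ← Groth.L25.SplitSub.toBase_map, Category.assoc, hw]
    simp only [uK, Groth.L25.SplitSub.toBase_map, qb, Groth.L25.NilAction.toBase_ofBase, Category.assoc]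
    rw [reassoc_of% hjj, reassoc_of% hq, hsT]

end Groth.Agent.S8401
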