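import Groth.Statements.S8403
import Groth.Agent.L08.Borel.GenCartan
import Groth.Agent.L25.Solv.Locus
-- import your own Groth.Agent.* helpers here

set_option autoImplicit false
set_option backward.isDefEq.respectTransparency.types false
set_option linter.style.haveILetI false
universe u
open CategoryTheory MonoidalCategory CartesianMonoidalCategory MonObj GrpObj AlgebraicGeometry
open SGA3x

namespace Groth.Agent.S8403

/-- Let G be an affine smooth algebraic group over a field k, T a torus in G and C its centralizer. Then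
the nilpotent rank of G (the dimension of the Cartan subgroups of G over an algebraic closure of k)
is at most dim C. -/
theorem result (k : Type u) [Field k]
    (G : Over (Spec (CommRingCat.of k))) [GrpObj G] [Smooth G.hom] [QuasiCompact G.hom] [IsAffine G.left]
    (T : Over (Spec (CommRingCat.of k))) [GrpObj T] (j : T ⟶ G) [IsMonHom j] [Mono j] (hT : Red.IsTorus T)
    (C : Over (Spec (CommRingCat.of k))) [GrpObj C] (c : C ⟶ G) (hC : Red.IsCentralizerOf j c)
    (s : ↥(Spec (CommRingCat.of k))) (C' : Over (Spec (CommRingCat.of (AlgebraicClosure ((Spec (CommRingCat.of k)).residueField s))))) [GrpObj C']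
    (c' : C' ⟶ Red.geomFibre s G) (hC' : SGA3x.IsCartanOver (AlgebraicClosure ((Spec (CommRingCat.of k)).residueField s)) c') :
    topologicalKrullDim ↥C'.left ≤ topologicalKrullDim ↥C.left := by
  haveI := hC.1; haveI := hC.2.1
  haveI : LocallyOfFiniteType G.hom := inferInstance
  -- the centralizer is closed
  obtain ⟨C₀, gC₀, c₀, hc₀, hc₀cl, -⟩ := Groth.L25.Locus.exists_centralizer (G := G)
    (Groth.L25.Locus.locally_of_multTypeFT (Groth.L25.Locus.isMultTypeFT_of_isTorus hT)) j
  haveI := hc₀cl; haveI := hc₀.2.1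
  obtain ⟨a, ha⟩ := (hc₀.2.2 C c).2 ((hC.2.2 C c).1 ⟨𝟙 C, Category.id_comp c⟩)
  obtain ⟨a', ha'⟩ := (hC.2.2 C₀ c₀).2 ((hc₀.2.2 C₀ c₀).1 ⟨𝟙 C₀, Category.id_comp c₀⟩)
  haveI : IsIso a := ⟨a', by rw [← cancel_mono c, Category.assoc, ha', ha, Category.id_comp],
    by rw [← cancel_mono c₀, Category.assoc, ha, ha', Category.id_comp]⟩
  haveI : IsIso a.left := inferInstanceAs (IsIso ((Over.forget _).map a))
  haveI : IsClosedImmersion c.left := by rw [← ha]; exact inferInstanceAs (IsClosedImmersion (a.left ≫ c₀.left))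
  haveI : LocallyOfFiniteType C.hom := by rw [← Over.w c]; infer_instance
  let θ := Red.geomPt s
  have hdim : topologicalKrullDim (Red.bc θ C).left = topologicalKrullDim C.left := by
    refine Groth.L25.Solv.dim_baseChange_field k (AlgebraicClosure ((Spec (CommRingCat.of k)).residueField s)) C.hom
      (Spec.preimage θ) (Red.bc θ C).hom (Limits.pullback.fst C.hom θ) ?_
    rw [Spec.map_preimage]
    exact IsPullback.of_hasPullback C.hom θ
  show topologicalKrullDim C'.left ≤ _
  rw [← hdim]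
  -- over the algebraic closure
  haveI : IsAffine (Red.bc θ G).left := Groth.L08.Borel.isAffine_bc θ G
  haveI : Smooth (Red.bc θ G).hom := Groth.L08.Borel.smooth_bc θ G
  haveI : LocallyOfFiniteType (Red.bc θ G).hom := inferInstance
  obtain ⟨hc'm, hc'mono, T', gT', i', hi', hc'⟩ := hC'
  have hi'' := Groth.L08.Borel.isMaxTorus_of_isMaximalTorus hi'
  haveI := hc'm; haveI := hc'mono; haveI := hi''.1; haveI := hi''.2.1
  have hcb := Groth.L08.Borel.isCentralizerOf_bc θ hC
  haveI := hcb.1; haveI := hcb.2.1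
  haveI : IsMonHom ((Over.pullback θ).map j) := Groth.L25.MonoClosed.isMonHom_pullbackMap _ _
  haveI : Mono ((Over.pullback θ).map j) := Functor.map_mono _ _
  haveI : IsClosedImmersion ((Over.pullback θ).map c).left :=
    MorphismProperty.of_isPullback (P := @IsClosedImmersion) (Groth.L08.Borel.isPullback_bc_map' θ c).flip ‹_›
  obtain ⟨G₀, g₀, e, he⟩ := Groth.L08.Chev.exists_idComp (Red.bc θ G)
  haveI := he.hom; haveI := he.closedImm; haveI := he.connectedSpace; haveI := he.smooth; haveI := he.isAffine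
  haveI : Mono e := Groth.L08.mono_of_closedImmersion e
  have hTb : Red.IsTorus (Red.bc θ T) := Groth.L25.Locus.isTorus_bc hT θ
  obtain ⟨-, -, b3, -, -⟩ := Groth.L08.Borel.torus_props hTb
  obtain ⟨-, -, d3, -, -⟩ := Groth.L08.Borel.torus_props hi''.2.2.1
  haveI := b3; haveI := d3
  obtain ⟨jb, hjb⟩ := he.exists_lift_hom ((Over.pullback θ).map j)
  obtain ⟨tb, htb⟩ := he.exists_lift_hom i'
  haveI : IsMonHom jb := Groth.L08.Borel.isMonHom_of_comp_mono jb e _ hjb
  haveI : Mono jb := by haveI : Mono (jb ≫ e) := hjb.symm ▸ inferInstance; exact mono_of_mono jb e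
  obtain ⟨g, f, hf⟩ := Groth.L08.Borel.maxTorus_absorbing
    (Groth.L08.Borel.isMaxTorus_factor (iB := e) (htb.symm ▸ hi'')) (Red.bc θ T) jb hTb
  have hf' : f ≫ i' = AGF.conjBy (g ≫ e) ((Over.pullback θ).map j) := by
    rw [← htb, reassoc_of% hf, Groth.L08.Borel.conjBy_comp, hjb]
  obtain ⟨C₁, gC₁, c₁, hc₁, hc₁cl, -⟩ := Groth.L25.Locus.exists_centralizer (G := Red.bc θ G)
    (Groth.L25.Locus.locally_of_multTypeFT (Groth.L25.Locus.isMultTypeFT_of_isTorus hi''.2.2.1)) i'
  haveI := hc₁.1; haveI := hc₁.2.1; haveI := hc₁cl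
  obtain ⟨u, hu⟩ := (hc₁.2.2 C' c').2 ((hc'.2.2 C' c').1 ⟨𝟙 C', Category.id_comp c'⟩)
  obtain ⟨u', hu'⟩ := (hc'.2.2 C₁ c₁).2 ((hc₁.2.2 C₁ c₁).1 ⟨𝟙 C₁, Category.id_comp c₁⟩)
  haveI : IsIso u := ⟨u', by rw [← cancel_mono c', Category.assoc, hu', hu, Category.id_comp],
    by rw [← cancel_mono c₁, Category.assoc, hu, hu', Category.id_comp]⟩
  haveI : IsIso u.left := inferInstanceAs (IsIso ((Over.forget _).map u))
  haveI : IsClosedImmersion c'.left := by rw [← hu]; exact inferInstanceAs (IsClosedImmersion (u.left ≫ c₁.left))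
  obtain ⟨z, hz⟩ := (hcb.2.2 C' (AGF.conjBy (g ≫ e)⁻¹ c')).2 fun X' x h => by
    have h0 := (hc'.2.2 C' c').1 ⟨𝟙 C', Category.id_comp c'⟩ X' x (h ≫ f)
    rw [Category.assoc, hf', Groth.L08.Borel.comp_conjBy] at h0
    rw [Groth.L08.Borel.comp_conjBy]
    simp only [AGF.conjBy, GrpObj.comp_inv] at h0 ⊢
    generalize toUnit X' ≫ g ≫ e = q at h0 ⊢
    generalize x ≫ c' = a at h0 ⊢
    generalize h ≫ (Over.pullback θ).map j = d at h0 ⊢
    calc q⁻¹ * a * q⁻¹⁻¹ * d = q⁻¹ * (a * (q * d * q⁻¹)) * q := by group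
      _ = q⁻¹ * ((q * d * q⁻¹) * a) * q := by rw [h0]
      _ = d * (q⁻¹ * a * q⁻¹⁻¹) := by group
  haveI : IsClosedImmersion (AGF.conjBy (g ≫ e)⁻¹ c').left := Groth.L08.Borel.isClosedImmersion_conjBy _ _
  haveI : IsClosedImmersion (z.left ≫ ((Over.pullback θ).map c).left) := by rw [← Over.comp_left, hz]; infer_instance
  haveI : IsClosedImmersion z.left := IsClosedImmersion.of_comp z.left ((Over.pullback θ).map c).left
  exact z.left.isClosedEmbedding.isInducing.topologicalKrullDim_le

end Groth.Agent.S8403
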