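import Groth.Statements.S8405
import Groth.Agent.L08.Centre.Basic
import Groth.Agent.L24.Alg.SourceFppf
import Groth.Agent.L20.ThickeningTopology
import Groth.Agent.S5369
import Groth.Agent.S5372

set_option linter.style.haveILetI false

set_option autoImplicit false
universe u
open CategoryTheory MonoidalCategory CartesianMonoidalCategory MonObj GrpObj AlgebraicGeometry
open SGA3x

namespace Groth.Agent.S8405

/-- Let G be a connected algebraic group (a group scheme of finite type) over a field k, z : Z → G the
centre of G and q : G → Q a morphism representing the fppf quotient G/Z. Then Q is an affine scheme.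
(The published statement allows any subgroup of finite index in the centre; this row takes Z to be
the centre itself.) -/
theorem result (k : Type u) [Field k]
    (G : Over (Spec (CommRingCat.of k))) [GrpObj G] [QuasiCompact G.hom] [LocallyOfFiniteType G.hom] [ConnectedSpace ↥G.left]
    (Z : Over (Spec (CommRingCat.of k))) [GrpObj Z] (z : Z ⟶ G) (hZ : Red.IsCentre z)
    (Q : Over (Spec (CommRingCat.of k))) (q : G ⟶ Q) (hq : RedSub.IsQuotient z q) : IsAffine Q.left := by
  obtain ⟨hs, hf, hfp, hsq⟩ := hq
  haveI := hs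
  haveI := hf
  haveI := hfp
  haveI : LocallyOfFiniteType Q.hom :=
    Groth.L24.Alg.locallyOfFiniteType_of_fppf_comp q.left Q.hom ((Over.w q).symm ▸ ‹LocallyOfFiniteType G.hom›)
  haveI : QuasiCompact (q.left ≫ Q.hom) := (Over.w q).symm ▸ ‹QuasiCompact G.hom›
  haveI : QuasiCompact Q.hom := Groth.L20.Thick.quasiCompact_of_comp_surjective q.left Q.hom
  haveI : IsLocallyNoetherian Q.left := LocallyOfFiniteType.isLocallyNoetherian Q.hom
  haveI : QuasiSeparated Q.hom := (HasAffineProperty.iff_of_isAffine (P := @QuasiSeparated)).2 inferInstance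
  haveI : QuasiCompact q.left := QuasiCompact.of_comp q.left Q.hom
  haveI : IsMonHom z := hZ.1
  haveI : Mono z := hZ.2.1
  have hN : AlgGrp.IsNormalHom z := fun T g n => ⟨n, by
    have := (hZ.2.2 T (n ≫ z)).1 ⟨n, rfl⟩ T (𝟙 T) g
    simp only [Category.id_comp, Category.comp_id] at this
    rw [← this, mul_inv_cancel_right]⟩
  have hcov : ∃ (W : Scheme.{u}) (p : W ⟶ Q.left) (r : W ⟶ G.left), r ≫ q.left = p ∧ Surjective p ∧ Flat p ∧
      ∀ V : Q.left.Opens, IsAffineOpen V → ∃ U : W.Opens, IsCompact (U : Set W) ∧ p.base '' (U : Set W) = (V : Set Q.left) :=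
    ⟨G.left, q.left, 𝟙 _, Category.id_comp _, hs, hf, fun V hV =>
      ⟨q.left ⁻¹ᵁ V, q.left.isCompact_preimage hV.isCompact,
        Set.image_preimage_eq (V : Set Q.left) q.left.surjective⟩⟩
  obtain ⟨gQ, hm, -⟩ := Groth.Agent.S5372.result _ G Z Q z q hcov hsq.flip hN
  haveI := hm
  refine Groth.L08.Centre.isAffine_quotient z hZ q ?_
  have h := (Groth.Agent.S5369.result _ G Z Q z q hcov hsq.flip).1
  rwa [IsMonHom.one_hom (f := q)] at h

end Groth.Agent.S8405
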