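import Groth.Statements.S8409
import Groth.Agent.L08.Borel.GenNilp
-- import your own Groth.Agent.* helpers here

set_option autoImplicit false
set_option backward.isDefEq.respectTransparency.types false
set_option linter.style.haveILetI false
universe u
open CategoryTheory MonoidalCategory CartesianMonoidalCategory MonObj GrpObj AlgebraicGeometry
open SGA3x

namespace Groth.Agent.S8409

/-- Let G be a smooth connected algebraic group (not necessarily affine) over an algebraically closed
field k. Then G is nilpotent (the group G(k) is nilpotent) if and only if every torus in G is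
central, if and only if G has only one maximal torus. (The published statement adds that the unique
maximal torus is then the largest subtorus of G; this row omits that clause.) -/
theorem result (k : Type u) [Field k] [IsAlgClosed k]
    (G : Over (Spec (CommRingCat.of k))) [GrpObj G] [Smooth G.hom] [QuasiCompact G.hom] [ConnectedSpace ↥G.left] :
    (Group.IsNilpotent (𝟙_ (Over (Spec (CommRingCat.of k))) ⟶ G) ↔
      ∀ (T : Over (Spec (CommRingCat.of k))) [GrpObj T] (j : T ⟶ G) [IsMonHom j] [Mono j], Red.IsTorus T →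
        ∀ (X : Over (Spec (CommRingCat.of k))) (t : X ⟶ T) (g : X ⟶ G), (t ≫ j) * g = g * (t ≫ j)) ∧
    (Group.IsNilpotent (𝟙_ (Over (Spec (CommRingCat.of k))) ⟶ G) ↔
      ∀ (T₁ T₂ : Over (Spec (CommRingCat.of k))) [GrpObj T₁] [GrpObj T₂] (i₁ : T₁ ⟶ G) (i₂ : T₂ ⟶ G),
        Red.IsMaximalTorus i₁ → Red.IsMaximalTorus i₂ → ∃ φ : T₁ ≅ T₂, φ.hom ≫ i₂ = i₁) := by
  refine ⟨⟨fun h T _ j _ _ hT X t g => Groth.L08.Borel.central_of_nilpotent h T j hT X t g, fun h =>
      Groth.L08.Borel.nilpotent_of_unique fun T T' _ _ iT iT' hT hT' =>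
        Groth.L08.Borel.unique_of_central h T T' iT iT' hT hT'⟩,
    ⟨fun h T₁ T₂ _ _ i₁ i₂ h₁ h₂ => Groth.L08.Borel.unique_of_central
      (fun T _ j _ _ hT X t g => Groth.L08.Borel.central_of_nilpotent h T j hT X t g) T₁ T₂ i₁ i₂
      (Groth.L08.Borel.isMaxTorus_of_isMaximalTorus h₁) (Groth.L08.Borel.isMaxTorus_of_isMaximalTorus h₂),
    fun h => Groth.L08.Borel.nilpotent_of_unique fun T T' _ _ iT iT' hT hT' =>
      h T T' iT iT' (Groth.L08.Borel.isMaximalTorus_of_isMaxTorus hT) (Groth.L08.Borel.isMaximalTorus_of_isMaxTorus hT')⟩⟩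

end Groth.Agent.S8409
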