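import Groth.Statements.S8410
import Groth.Agent.L25.Extension.Main
import Groth.Agent.L25.Extension.Comm
import Groth.Agent.L25.Extension.Quotient
import Groth.Agent.L25.Extension.ConnBC
import Groth.Agent.L08.SubgroupObj

set_option backward.isDefEq.respectTransparency.types false

set_option autoImplicit false
universe u
open CategoryTheory MonoidalCategory CartesianMonoidalCategory MonObj GrpObj AlgebraicGeometry
open SGA3x CategoryTheory.Limits

namespace Groth.Agent.S8410

/-- Let G be an S-group scheme, smooth and affine over S with connected fibres, Z a reductive centre of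
G (central, of multiplicative type, and universal after every base change for central homomorphisms
from groups of multiplicative type and finite type), and q : G → G′ a homomorphism representing the
quotient G/Z. Then the unit subgroup is a reductive centre of G′: for every S′ → S, every central
homomorphism H → G′ ×_S S′ from an S′-group H of multiplicative type and of finite type is trivial.
(The published item b) first asserts that G/Z is representable; this row takes a representing
homomorphism q as given and states its second assertion.) -/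
theorem result (S : Scheme.{u}) (G : Over S) [GrpObj G]
    [Smooth G.hom] [IsAffineHom G.hom] (hconn : ∀ s : S, _root_.IsConnected (G.hom.base ⁻¹' {s}))
    (Z : Over S) [GrpObj Z] (z : Z ⟶ G) (hZ : (IsMonHom z ∧ Mono z ∧ SGA3x.IsMultTypeFT Z ∧
      (∀ (X : Over S) (x : X ⟶ Z) (g : X ⟶ G), (x ≫ z) * g = g * (x ≫ z)) ∧
      ∀ (S' : Scheme.{u}) (f : S' ⟶ S) (H : Over S') [GrpObj H] (v : H ⟶ Red.bc f G) [IsMonHom v],
        SGA3x.IsMultTypeFT H →
        (∀ (X : Over S') (x : X ⟶ H) (g : X ⟶ Red.bc f G), (x ≫ v) * g = g * (x ≫ v)) →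
        ∃ w : H ⟶ Red.bc f Z, w ≫ (Over.pullback f).map z = v))
    (G' : Over S) [GrpObj G'] (q : G ⟶ G') [IsMonHom q] (hq : RedSub.IsQuotient z q)
    (S' : Scheme.{u}) (f : S' ⟶ S) (H : Over S') [GrpObj H] (v : H ⟶ Red.bc f G') [IsMonHom v]
    (hH : SGA3x.IsMultTypeFT H)
    (hv : ∀ (X : Over S') (x : X ⟶ H) (g : X ⟶ Red.bc f G'), (x ≫ v) * g = g * (x ≫ v)) :
    v = 1 := by
  obtain ⟨hz, hzm, hZm, hcenZ, huniv⟩ := hZ
  have : IsAffineHom Z.hom := Groth.L25.Central.isAffineHom_of_multTypeFT hZm
  have hx := (Groth.L25.Extension.IsExt.of_isQuotient hq (Groth.L25.Extension.comp_eq_of_isQuotient hq)).bc f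
  let GS := Red.bc f G
  let ZS := Red.bc f Z
  let zS : ZS ⟶ GS := (Over.pullback f).map z
  let qS : GS ⟶ Red.bc f G' := (Over.pullback f).map q
  have : Mono zS := hx.mono
  have hZS : SGA3x.IsMultTypeFT ZS := Groth.L25.MultTypeBC.isMultTypeFT_bc hZm f
  have hcen : ∀ (X : Over S') (x : X ⟶ ZS) (g : X ⟶ GS), (x ≫ zS) * g = g * (x ≫ zS) := by
    intro X x g
    rw [← Groth.L25.NilAction.ofBase_toBase f ((x ≫ zS) * g), ← Groth.L25.NilAction.ofBase_toBase f (g * (x ≫ zS)),
      Groth.L25.NilAction.toBase_mul, Groth.L25.NilAction.toBase_mul, Groth.L25.Locus.toBase_map, hcenZ]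
  -- the preimage
  let P : Over S' := pullback qS v
  let ρ : P ⟶ GS := pullback.fst qS v
  let p : P ⟶ H := pullback.snd qS v
  have hw : ρ ≫ qS = p ≫ v := pullback.condition
  let j : P ⟶ GS ⊗ H := lift ρ p
  have : Mono j := ⟨fun a b e => pullback.hom_ext
    (by simpa [j] using congrArg (· ≫ fst GS H) e) (by simpa [j] using congrArg (· ≫ snd GS H) e)⟩
  obtain ⟨gP, hjm⟩ : ∃ _ : GrpObj P, IsMonHom j := by
    refine Groth.L08.exists_grpObj_of_mono j ⟨pullback.lift 1 1 (by rw [MonObj.one_comp, MonObj.one_comp]), ?_⟩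
      ⟨pullback.lift ((fst P P ≫ ρ) * (snd P P ≫ ρ)) ((fst P P ≫ p) * (snd P P ≫ p))
        (by rw [MonObj.mul_comp, MonObj.mul_comp, Category.assoc, Category.assoc, hw, Category.assoc,
          Category.assoc]), ?_⟩
      ⟨pullback.lift ρ⁻¹ p⁻¹ (by rw [GrpObj.inv_comp, GrpObj.inv_comp, hw]), ?_⟩
    · rw [show η[GS ⊗ H] = (1 : 𝟙_ (Over S') ⟶ GS ⊗ H) from by
        rw [Hom.one_def, toUnit_unique (toUnit _) (𝟙 _), Category.id_comp]]
      apply hom_ext
      · rw [Category.assoc, lift_fst, pullback.lift_fst, MonObj.one_comp]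
      · rw [Category.assoc, lift_snd, pullback.lift_snd, MonObj.one_comp]
    · apply hom_ext
      · rw [Category.assoc, lift_fst, pullback.lift_fst, MonObj.mul_comp, Category.assoc, Category.assoc, lift_fst]
      · rw [Category.assoc, lift_snd, pullback.lift_snd, MonObj.mul_comp, Category.assoc, Category.assoc, lift_snd]
    · apply hom_ext
      · rw [Category.assoc, lift_fst, pullback.lift_fst, GrpObj.inv_comp, lift_fst]
      · rw [Category.assoc, lift_snd, pullback.lift_snd, GrpObj.inv_comp, lift_snd]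
  have : IsMonHom ρ := by rw [show ρ = j ≫ fst GS H from (lift_fst _ _).symm]; infer_instance
  have : IsMonHom p := by rw [show p = j ≫ snd GS H from (lift_snd _ _).symm]; infer_instance
  have hcov : Groth.L25.Covers.Cov p :=
    Groth.L25.Covers.Cov.of_isPullback (IsPullback.of_hasPullback qS v).flip hx.cov
  have hconn' : ∀ s : S', _root_.IsConnected (GS.hom.base ⁻¹' {s}) :=
    Groth.L25.Extension.isConnected_fibre_bc f G hconn
  have hPc : ∀ (X : Over S') (a : X ⟶ P) (g : X ⟶ GS), (a ≫ ρ) * g = g * (a ≫ ρ) :=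
    Groth.L25.Extension.comm_eq hH hZS ρ zS p hcov
      (fun X a g => hx.ker X _ (by
        rw [Groth.L25.Covers.commutator_comp, commutatorElement_eq_one_iff_mul_comm, Category.assoc, hw,
          ← Category.assoc]
        exact hv X _ _))
      (fun X a h => (hcen X h _).symm)
      (fun X a g ha => by
        obtain ⟨n, hn⟩ := hx.ker X (a ≫ ρ) (by rw [Category.assoc, hw, ← Category.assoc, ha, MonObj.one_comp])
        rw [← hn]
        exact hcen X n g)
      (fun s => Or.inr (hconn' s))
  let iP : ZS ⟶ P := pullback.lift zS 1 (by rw [hx.comp, MonObj.one_comp])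
  have hiP : iP ≫ ρ = zS := pullback.lift_fst _ _ _
  have hiP' : iP ≫ p = 1 := pullback.lift_snd _ _ _
  have : IsMonHom iP := Groth.L25.Bridge.isMonHom_of_mul iP fun Y a b => pullback.hom_ext
    (by rw [Category.assoc, hiP, MonObj.mul_comp _ _ zS, MonObj.mul_comp _ _ ρ, Category.assoc, Category.assoc, hiP])
    (by rw [Category.assoc, hiP', MonObj.comp_one, MonObj.mul_comp _ _ p, Category.assoc, Category.assoc, hiP',
      MonObj.comp_one, MonObj.comp_one, _root_.mul_one])
  have hext : Groth.L25.Extension.IsExt iP p :=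
    ⟨⟨fun a b e => (cancel_mono zS).1 (by rw [← hiP, ← Category.assoc, e, Category.assoc])⟩, hiP',
      fun X a ha => by
        obtain ⟨n, hn⟩ := hx.ker X (a ≫ ρ) (by rw [Category.assoc, hw, ← Category.assoc, ha, MonObj.one_comp])
        exact ⟨n, pullback.hom_ext (by rw [Category.assoc, hiP, hn])
          (by rw [Category.assoc, hiP', MonObj.comp_one, ha])⟩, hcov⟩
  have hPm : SGA3x.IsMultTypeFT P := hext.isMultTypeFT (fun X a b => pullback.hom_ext
    (by rw [MonObj.mul_comp _ _ ρ, MonObj.mul_comp _ _ ρ]; exact hPc X a (b ≫ ρ))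
    (by rw [MonObj.mul_comp _ _ p, MonObj.mul_comp _ _ p]
        exact Groth.L25.Central.mul_comm_of_multTypeFT hH _ _)) hZS hH
  obtain ⟨w, hw'⟩ := huniv S' f P ρ hPm hPc
  have := hcov.epi
  rw [← cancel_epi p, ← hw, ← hw', Category.assoc, hx.comp, MonObj.comp_one, MonObj.comp_one]

end Groth.Agent.S8410
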