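import Groth.Statements.S8411
import Groth.Agent.L08.Borel.CartanNhd
import Groth.Agent.L25.Descent.CovOfQC
-- import your own Groth.Agent.* helpers here

set_option autoImplicit false
set_option backward.isDefEq.respectTransparency.types false
set_option linter.style.haveILetI false
set_option backward.isDefEq.respectTransparency.types false
set_option linter.style.haveILetI false
universe u
open CategoryTheory MonoidalCategory CartesianMonoidalCategory MonObj GrpObj AlgebraicGeometry
open SGA3x

namespace Groth.Agent.S8411

/-- Let G be an S-group scheme, smooth, separated and of finite type over S with connected fibres,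
admitting a maximal torus locally for the fpqc topology; let C be a closed subgroup scheme of G,
smooth over S with connected fibres, and s ∈ S such that the geometric fibre C_s̄ is a Cartan
subgroup of G_s̄. Then C restricted to some open neighbourhood U of s is a Cartan subgroup of G
restricted to U. (The published statement allows any closed smooth subgroup scheme C and concludes
for its neutral component C⁰; this row assumes that C has connected fibres, so that C⁰ = C.) -/
theorem result (S : Scheme.{u}) (G : Over S) [GrpObj G]
    [Smooth G.hom] [IsSeparated G.hom] [QuasiCompact G.hom] (hconn : ∀ s : S, _root_.IsConnected (G.hom.base ⁻¹' {s}))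
    (hG : SGA3x.HasMaxTorusFpqcLocally G)
    (C : Over S) [GrpObj C] (c : C ⟶ G) [IsMonHom c] (hc : IsClosedImmersion c.left) [Smooth C.hom]
    (hCconn : ∀ s : S, _root_.IsConnected (C.hom.base ⁻¹' {s})) (s : S)
    (hs : SGA3x.IsCartanOver (AlgebraicClosure (S.residueField s)) ((Over.pullback (Red.geomPt s)).map c)) :
    ∃ U : S.Opens, s ∈ U ∧ SGA3x.IsCartan ((Over.pullback U.ι).map c) := by
  haveI := hc
  haveI : Mono c := Over.mono_of_mono_left c
  obtain ⟨S₁, π, hπf, hπs, hcov, T, gT, i₀, hT⟩ := hG
  haveI := hπf; haveI := hπs
  haveI : Smooth (Red.bc π G).hom := MorphismProperty.pullback_snd G.hom π ‹_›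
  haveI : IsSeparated (Red.bc π G).hom := MorphismProperty.pullback_snd G.hom π ‹_›
  haveI : QuasiCompact (Red.bc π G).hom := MorphismProperty.pullback_snd G.hom π ‹_›
  haveI : Smooth (Red.bc π C).hom := MorphismProperty.pullback_snd C.hom π ‹_›
  let c₁ := (Over.pullback π).map c
  haveI : IsMonHom c₁ := Groth.L25.MonoClosed.isMonHom_pullbackMap _ _
  haveI : IsClosedImmersion c₁.left :=
    MorphismProperty.of_isPullback (P := @IsClosedImmersion) (Groth.L25.SchImage.isPullback_fst_map π c) hc
  have key := Groth.L08.Borel.cartanAt_bc hconn hCconn c π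
  let U₀ : Set S := {t | Groth.L08.Borel.CartanAt c t}
  have hopen : IsOpen U₀ := by
    haveI := Groth.L25.Descent.cov_of_cover π hcov
    rw [← (Groth.L20.SchDesc.Cov.isQuotientMap (p := π)).isOpen_preimage, isOpen_iff_forall_mem_open]
    intro p hp
    obtain ⟨O, hpO, hO⟩ := Groth.L08.Borel.exists_open_cartanAt
      (fun t => Groth.L25.Extension.isConnected_fibre_bc π G hconn t)
      (fun t => Groth.L25.Extension.isConnected_fibre_bc π C hCconn t) c₁ hT p ((key p).2 hp)
    exact ⟨O, fun u hu => (key u).1 (hO u hu), O.2, hpO⟩
  let U : S.Opens := ⟨U₀, hopen⟩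
  refine ⟨U, hs, Groth.L25.MonoClosed.isMonHom_pullbackMap _ _, Functor.map_mono _ _,
    MorphismProperty.pullback_snd C.hom U.ι ‹_›, fun u => ?_⟩
  exact (Groth.L08.Borel.cartanAt_bc hconn hCconn c U.ι u).2 u.2

end Groth.Agent.S8411
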