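import Groth.Statements.S8412
import Groth.Agent.L08.Borel.CartanSub
-- import your own Groth.Agent.* helpers here

set_option autoImplicit false
set_option backward.isDefEq.respectTransparency.types false
set_option linter.style.haveILetI false
set_option backward.isDefEq.respectTransparency.types false
set_option linter.style.haveILetI false
universe u
open CategoryTheory MonoidalCategory CartesianMonoidalCategory MonObj GrpObj AlgebraicGeometry
open SGA3x

namespace Groth.Agent.S8412

/-- Let G be an S-group scheme, smooth and of finite presentation over S with connected fibres, and i :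
H → G a monomorphism of S-groups with H smooth over S, such that every geometric fibre H_s̄ is
connected and contains a Cartan subgroup of G_s̄ (has the same reductive and nilpotent ranks). Then
a subgroup scheme C of H is a Cartan subgroup of H if and only if it is a Cartan subgroup of G. -/
theorem result (S : Scheme.{u}) (G : Over S) [GrpObj G]
    [Smooth G.hom] [QuasiCompact G.hom] [QuasiSeparated G.hom] (hconn : ∀ s : S, _root_.IsConnected (G.hom.base ⁻¹' {s}))
    (H : Over S) [GrpObj H] [Smooth H.hom] (i : H ⟶ G) [IsMonHom i] [Mono i]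
    (hHconn : ∀ s : S, ConnectedSpace ↥(Red.geomFibre s H).left)
    (hHC : ∀ s : S, ∃ (C' : Over (Spec (CommRingCat.of (AlgebraicClosure (S.residueField s))))) (_ : GrpObj C')
      (c' : C' ⟶ Red.geomFibre s H), SGA3x.IsCartanOver _ (c' ≫ (Over.pullback (Red.geomPt s)).map i))
    (C : Over S) [GrpObj C] (c : C ⟶ H) :
    SGA3x.IsCartan c ↔ SGA3x.IsCartan (c ≫ i) := by
  have hfib : ∀ s : S, SGA3x.IsCartanOver _ ((Over.pullback (Red.geomPt s)).map c) ↔
      SGA3x.IsCartanOver _ ((Over.pullback (Red.geomPt s)).map (c ≫ i)) := by
    intro s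
    obtain ⟨C', gC', c', h'⟩ := hHC s
    haveI : Smooth (Red.geomFibre s G).hom := inferInstanceAs (Smooth (Limits.pullback.snd G.hom (Red.geomPt s)))
    haveI : QuasiCompact (Red.geomFibre s G).hom :=
      inferInstanceAs (QuasiCompact (Limits.pullback.snd G.hom (Red.geomPt s)))
    haveI : Smooth (Red.geomFibre s H).hom := inferInstanceAs (Smooth (Limits.pullback.snd H.hom (Red.geomPt s)))
    haveI : QuasiCompact (Red.geomFibre s H).hom := by
      refine Groth.L08.ActSep.quasiCompact_of_connected fun x => ?_
      haveI := hHconn s
      rw [show (Red.geomFibre s H).hom ⁻¹' {x} = Set.univ from Set.eq_univ_of_forall fun y =>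
        Subsingleton.elim (α := PrimeSpectrum (AlgebraicClosure (S.residueField s))) _ _]
      exact isConnected_univ
    haveI : IsMonHom ((Over.pullback (Red.geomPt s)).map i) := Groth.L25.MonoClosed.isMonHom_pullbackMap _ _
    haveI : Mono ((Over.pullback (Red.geomPt s)).map i) := Functor.map_mono _ _
    rw [Functor.map_comp]
    exact Groth.L08.Borel.isCartanOver_sub_iff _ h' _
  constructor
  · rintro ⟨h1, h2, h3, h4⟩
    haveI := h1; haveI := h2
    exact ⟨inferInstance, mono_comp _ _, h3, fun s => (hfib s).1 (h4 s)⟩
  · rintro ⟨h1, h2, h3, h4⟩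
    haveI := h1; haveI := h2
    haveI : Mono c := mono_of_mono c i
    refine ⟨Groth.L25.Bridge.isMonHom_of_mul c fun X a b => ?_, inferInstance, h3, fun s => (hfib s).2 (h4 s)⟩
    rw [← cancel_mono i, MonObj.mul_comp (a ≫ c) (b ≫ c) i, Category.assoc, Category.assoc, Category.assoc]
    exact MonObj.mul_comp a b (c ≫ i)

end Groth.Agent.S8412
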