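import Groth.Statements.S8415
import Groth.Agent.L24.TorusLift.ArtinGlue
import Groth.Agent.L25.Locus.CentConnAll
import Groth.Agent.L25.Locus.Transporter
import Groth.Agent.L08.Borel.FlatNhd
import Groth.Agent.L08.Borel.CentBorel

set_option autoImplicit false
set_option backward.isDefEq.respectTransparency.types false
universe u
open CategoryTheory MonoidalCategory CartesianMonoidalCategory MonObj GrpObj AlgebraicGeometry
open SGA3x

namespace Groth.Agent.S8415

set_option backward.isDefEq.respectTransparency false
set_option backward.isDefEq.respectTransparency.types false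
open CategoryTheory.Limits

/-- Let S = Spec A be an Artinian scheme, G an S-group scheme which is smooth and of finite presentation
over S with connected fibres, and H a subgroup scheme of G (a homomorphism H → G which is an
immersion), smooth over S, such that for every s ∈ S the geometric fibre H_s̄ is the centralizer in
G_s̄ of a subtorus of G_s̄. Then H is the centralizer in G of a subtorus of G, and H is closed in G.
(The published item on closedness also asserts that the normalizer N of H in G is a closed smooth
subgroup scheme, that N/H is represented by a separated etale S-group of finite type and that G/N is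
smooth and quasi-projective over S; this row states only that H is closed.) -/
theorem result (A : Type u) [CommRing A] [IsArtinianRing A]
    (G : Over (Spec (CommRingCat.of A))) [GrpObj G] [Smooth G.hom] [QuasiCompact G.hom] [QuasiSeparated G.hom]
    (hconn : ∀ s : ↥(Spec (CommRingCat.of A)), _root_.IsConnected (G.hom.base ⁻¹' {s}))
    (H : Over (Spec (CommRingCat.of A))) [GrpObj H] [Smooth H.hom] (i : H ⟶ G) [IsMonHom i] [Mono i]
    (hi : IsImmersion i.left) (hH : ∀ s : ↥(Spec (CommRingCat.of A)), ∃ (T' : Over (Spec (CommRingCat.of (AlgebraicClosure ((Spec (CommRingCat.of A)).residueField s)))))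
      (_ : GrpObj T') (j' : T' ⟶ Red.geomFibre s G) (_ : IsMonHom j') (_ : Mono j'), Red.IsTorus T' ∧
      Red.IsCentralizerOf j' ((Over.pullback (Red.geomPt s)).map i)) :
    (∃ (T : Over (Spec (CommRingCat.of A))) (_ : GrpObj T) (j : T ⟶ G) (_ : IsMonHom j) (_ : Mono j), Red.IsTorus T ∧
      Red.IsCentralizerOf j i) ∧ IsClosedImmersion i.left := by
  haveI : IsSeparated G.hom := Groth.L24.TorusLift.isSeparated_artinian' G
  haveI : IsLocallyNoetherian G.left := LocallyOfFiniteType.isLocallyNoetherian G.hom
  haveI : QuasiCompact i.left := by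
    haveI := hi
    rw [← Scheme.Hom.liftCoborder_ι i.left]
    infer_instance
  haveI : QuasiCompact H.hom := by rw [← Over.w i]; infer_instance
  haveI : IsSeparated H.hom := by haveI := hi; rw [← Over.w i]; infer_instance
  have hirrG := Groth.L08.Borel.irrFib_of_isConnected G hconn
  have hirr : Groth.L02.SchDom.IrrFib H.hom := Groth.L02.SchDom.IrrFib.of_connected H.hom fun s => by
    obtain ⟨T', gT', j', hj', -, hT', hC⟩ := hH s
    haveI := hj'
    haveI : Smooth (Red.geomFibre s G).hom := inferInstanceAs (Smooth (pullback.snd G.hom (Red.geomPt s)))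
    haveI : QuasiCompact (Red.geomFibre s G).hom := inferInstanceAs (QuasiCompact (pullback.snd G.hom (Red.geomPt s)))
    haveI : ConnectedSpace (Red.geomFibre s G).left := by
      haveI : IrreducibleSpace (Red.geomFibre s G).left := hirrG _ (Red.geomPt s)
      infer_instance
    exact (Groth.L25.Locus.centralizer_smooth_connected (Red.geomFibre s G) T' j' hT' _ _ hC).2
  obtain ⟨T, gT, t, ht, htm, hT, htc, hmax⟩ := Groth.L24.TorusLift.exists_central_torus_artinian H hirr
  haveI := ht; haveI := htm
  let j : T ⟶ G := t ≫ i
  obtain ⟨C, gC, z, hz, hzc, hzs⟩ := Groth.L25.Locus.exists_smooth_centralizer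
    (Groth.L25.Locus.locally_of_multTypeFT (Groth.L25.Locus.isMultTypeFT_of_isTorus hT)) j
  haveI := hz.1; haveI := hz.2.1; haveI := hzc; haveI := hzs
  obtain ⟨c, hc⟩ := (hz.2.2 H i).2 fun X' x h => by
    have e := htc X' h x
    have e' := congrArg (· ≫ i) e
    simp only [MonObj.mul_comp, Category.assoc] at e'
    exact e'.symm
  haveI : Mono c := mono_of_mono_fac hc
  haveI : IsIso c := Groth.L08.Borel.isIso_of_geomFibres c fun s => by
    let F := Over.pullback (Red.geomPt s)
    obtain ⟨T', gT', j', hj', hjm', hT', hC⟩ := hH s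
    haveI := hj'; haveI := hjm'
    haveI : IsMonHom (F.map i) := hC.1
    haveI : Mono (F.map i) := hC.2.1
    haveI : Mono (F.map z) := Functor.map_mono _ _
    haveI : Mono (F.map c) := Functor.map_mono _ _
    obtain ⟨u, hu⟩ := (hC.2.2 T' j').2 fun X' x h => by
      rw [← MonObj.mul_comp, ← MonObj.mul_comp, Groth.L25.Central.mul_comm_of_multTypeFT
        (Groth.L25.Locus.isMultTypeFT_of_isTorus hT') x h]
    haveI : IsMonHom u := Groth.L08.Borel.isMonHom_lift_mono (F.map i) j' u hu
    haveI : Mono u := mono_of_mono_fac hu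
    obtain ⟨f, hf⟩ := hmax _ (Red.geomPt s) T' u hT' fun X' x g => by
      rw [← cancel_mono (F.map i), MonObj.mul_comp, MonObj.mul_comp, Category.assoc, hu]
      have e := (hC.2.2 X' (g ≫ F.map i)).1 ⟨g, rfl⟩ X' (𝟙 X') x
      rw [Category.id_comp] at e
      exact e.symm
    have hfj : f ≫ F.map j = j' := by
      rw [F.map_comp, reassoc_of% hf, hu]
    obtain ⟨w, hw⟩ := (hC.2.2 (F.obj C) (F.map z)).2 fun X' x h => by
      have e := ((Groth.L08.Borel.isCentralizerOf_bc (Red.geomPt s) hz).2.2 (F.obj C) (F.map z)).1
        ⟨𝟙 _, Category.id_comp _⟩ X' x (h ≫ f)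
      rw [Category.assoc, hfj] at e
      exact e
    haveI : IsSplitEpi (F.map c) := IsSplitEpi.mk' ⟨w, by
      rw [← cancel_mono (F.map z), Category.assoc, ← F.map_comp, hc, hw, Category.id_comp]⟩
    exact isIso_of_mono_of_isSplitEpi _
  haveI : IsIso c.left := inferInstanceAs (IsIso ((Over.forget _).map c))
  refine ⟨⟨T, gT, j, inferInstance, mono_comp _ _, hT, inferInstance, inferInstance, fun X g => ?_⟩, ?_⟩
  · rw [← hz.2.2 X g]
    exact ⟨fun ⟨a, ha⟩ => ⟨a ≫ c, by rw [Category.assoc, hc, ha]⟩,
      fun ⟨a, ha⟩ => ⟨a ≫ inv c, by rw [Category.assoc, ← hc, IsIso.inv_hom_id_assoc, ha]⟩⟩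
  · rw [← hc, Over.comp_left]
    infer_instance

end Groth.Agent.S8415
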