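import Groth.Statements.S8422
import Groth.Agent.L08.Borel.GenCartan
-- import your own Groth.Agent.* helpers here

set_option autoImplicit false
set_option backward.isDefEq.respectTransparency.types false
set_option linter.style.haveILetI false
universe u
open CategoryTheory MonoidalCategory CartesianMonoidalCategory MonObj GrpObj AlgebraicGeometry
open SGA3x

namespace Groth.Agent.S8422

/-- Let G be a smooth algebraic group (not necessarily affine) over an algebraically closed field k.
Then the Borel subgroups of G are conjugate; the maximal tori of a Borel subgroup B are maximal tori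
of G; and if G is connected, the Cartan subgroups of B are Cartan subgroups of G. (The published
statement also asserts that G/B is projective; this row omits that assertion.) -/
theorem result (k : Type u) [Field k] [IsAlgClosed k]
    (G : Over (Spec (CommRingCat.of k))) [GrpObj G] [Smooth G.hom] [QuasiCompact G.hom] :
    (∀ (B₁ B₂ : Over (Spec (CommRingCat.of k))) [GrpObj B₁] [GrpObj B₂] (b₁ : B₁ ⟶ G) (b₂ : B₂ ⟶ G),
      Red.IsBorelOver k b₁ → Red.IsBorelOver k b₂ → ∃ g : 𝟙_ (Over (Spec (CommRingCat.of k))) ⟶ G, SGA3x.ConjBy b₁ b₂ g) ∧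
    (∀ (B : Over (Spec (CommRingCat.of k))) [GrpObj B] (b : B ⟶ G), Red.IsBorelOver k b →
      ∀ (T : Over (Spec (CommRingCat.of k))) [GrpObj T] (t : T ⟶ B), Red.IsMaximalTorus t → Red.IsMaximalTorus (t ≫ b)) ∧
    (ConnectedSpace ↥G.left → ∀ (B : Over (Spec (CommRingCat.of k))) [GrpObj B] (b : B ⟶ G), Red.IsBorelOver k b →
      ∀ (C : Over (Spec (CommRingCat.of k))) [GrpObj C] (c : C ⟶ B), SGA3x.IsCartanOver k c → SGA3x.IsCartanOver k (c ≫ b)) := by
  haveI : LocallyOfFiniteType G.hom := inferInstance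
  obtain ⟨N, gN, j, hj⟩ := Groth.L08.Chev.exists_idComp G
  haveI := hj.hom; haveI := hj.closedImm; haveI := hj.connectedSpace; haveI := hj.smooth; haveI := hj.quasiCompact
  haveI : Mono j := Groth.L08.mono_of_closedImmersion j
  have key : ∀ (B : Over (Spec (CommRingCat.of k))) [GrpObj B] (b : B ⟶ G), Red.IsBorelOver k b →
      ∃ b' : B ⟶ N, b' ≫ j = b ∧ Red.IsBorelOver k b' := by
    intro B _ b hB
    haveI := hB.1; haveI := hB.2.1; haveI := hB.2.2.2.1
    obtain ⟨b', hb'⟩ := hj.exists_lift_hom b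
    haveI : IsMonHom b' := Groth.L08.Borel.isMonHom_of_comp_mono b' j b hb'
    haveI : IsClosedImmersion (b'.left ≫ j.left) := by rw [← Over.comp_left, hb']; exact hB.2.1
    haveI : IsClosedImmersion b'.left := IsClosedImmersion.of_comp b'.left j.left
    refine ⟨b', hb', inferInstance, inferInstance, hB.2.2.1, hB.2.2.2.1, hB.2.2.2.2.1, fun B' _ i' _ f hc hs hcon hsol hf => ?_⟩
    haveI := hc
    haveI : IsClosedImmersion (i' ≫ j).left := inferInstanceAs (IsClosedImmersion (i'.left ≫ j.left))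
    exact hB.2.2.2.2.2 B' (i' ≫ j) f inferInstance hs hcon hsol (by rw [reassoc_of% hf, hb'])
  refine ⟨fun B₁ B₂ _ _ b₁ b₂ h₁ h₂ => ?_, fun B _ b hB T _ t ht => ?_,
    fun hG B _ b hB C _ c hC => ?_⟩
  · obtain ⟨b₁', hb₁, h₁'⟩ := key B₁ b₁ h₁
    obtain ⟨b₂', hb₂, h₂'⟩ := key B₂ b₂ h₂
    obtain ⟨g, φ, hφ⟩ := Groth.L08.Borel.exists_borel_conj h₁' h₂'
    refine ⟨g ≫ j, φ, ?_⟩
    have h := congrArg (· ≫ j) hφ
    simp only [Category.assoc, hb₂, Groth.L08.Borel.conjBy_comp, hb₁] at h
    exact h.symm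
  · obtain ⟨b', hb', hB'⟩ := key B b hB
    have hT := Groth.L08.Borel.isMaxTorus_comp_borel hB' (Groth.L08.Borel.isMaxTorus_of_isMaximalTorus ht)
    refine Groth.L08.Borel.isMaximalTorus_of_isMaxTorus ?_
    haveI := hT.1; haveI := hT.2.1; haveI := hB.1
    haveI : IsMonHom (t ≫ b) := by
      rw [← hb', ← Category.assoc]; infer_instance
    haveI : Mono (t ≫ b) := by rw [← hb', ← Category.assoc]; infer_instance
    refine ⟨inferInstance, inferInstance, hT.2.2.1, fun T' _ i' _ _ f hT' hf => ?_⟩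
    obtain ⟨-, -, hc, -, -⟩ := Groth.L08.Borel.torus_props hT'
    haveI := hc
    obtain ⟨i'', hi''⟩ := hj.exists_lift_hom i'
    haveI : IsMonHom i'' := Groth.L08.Borel.isMonHom_of_comp_mono i'' j i' hi''
    haveI : Mono i'' := by haveI : Mono (i'' ≫ j) := hi''.symm ▸ inferInstance; exact mono_of_mono i'' j
    exact hT.2.2.2 T' i'' f hT' (by rw [← cancel_mono j, Category.assoc, hi'', hf, Category.assoc, hb'])
  · haveI := hG
    exact Groth.L08.Borel.isCartanOver_comp_borel hB hC

end Groth.Agent.S8422
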