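import Groth.Statements.S8426
import Groth.Agent.L25.AvgLift.Scheme

set_option autoImplicit false
universe u
open CategoryTheory MonoidalCategory CartesianMonoidalCategory MonObj GrpObj AlgebraicGeometry
open SGA3x
open Groth.L25 Groth.L25.TorLift CategoryTheory.Limits

set_option backward.isDefEq.respectTransparency.types false
set_option linter.style.haveILetI false

namespace Groth.Agent.S8426

/-- Let S = Spec A be affine, S₀ = Spec(A/J) the closed subscheme defined by an ideal J of square zero,
G an S-group scheme and H₀ a subgroup scheme of G₀ = G ×_S S₀ (a monomorphic homomorphism H₀ → G₀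
which is an immersion) which is smooth and of finite type over S₀ and of multiplicative type. Then G
has a subgroup scheme of multiplicative type (again an immersion) lifting H₀ if and only if G has a
subscheme H′, flat over S, lifting H₀ (H′ ×_S S₀ = H₀ as subschemes of G₀). -/
theorem result (A : Type u) [CommRing A] (J : Ideal A) (hJ : J ^ 2 = ⊥)
    (G : Over (Spec (CommRingCat.of A))) [GrpObj G]
    (H₀ : Over (Spec (CommRingCat.of (A ⧸ J)))) [GrpObj H₀] (j₀ : H₀ ⟶ Red.bc (Spec.map (CommRingCat.ofHom (Ideal.Quotient.mk J))) G) [IsMonHom j₀] [Mono j₀]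
    (hj₀ : IsImmersion j₀.left) [Smooth H₀.hom] [QuasiCompact H₀.hom] (hm₀ : SGA3x.IsMultTypeFT H₀) :
    (∃ (H : Over (Spec (CommRingCat.of A))) (_ : GrpObj H) (j : H ⟶ G), IsMonHom j ∧ Mono j ∧ IsImmersion j.left ∧ SGA3x.IsMultTypeFT H ∧
      ∃ e : Red.bc (Spec.map (CommRingCat.ofHom (Ideal.Quotient.mk J))) H ≅ H₀, e.hom ≫ j₀ = (Over.pullback (Spec.map (CommRingCat.ofHom (Ideal.Quotient.mk J)))).map j) ↔
    (∃ (H' : Scheme.{u}) (h' : H' ⟶ G.left), IsImmersion h' ∧ Flat (h' ≫ G.hom) ∧
      ∃ e : Limits.pullback h' (Limits.pullback.fst G.hom (Spec.map (CommRingCat.ofHom (Ideal.Quotient.mk J)))) ≅ H₀.left,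
        e.hom ≫ j₀.left = Limits.pullback.snd h' (Limits.pullback.fst G.hom (Spec.map (CommRingCat.ofHom (Ideal.Quotient.mk J))))) := by
  have hJ' : J * J = ⊥ := by rw [← pow_two]; exact hJ
  have hn : IsNilpotent J := ⟨2, hJ⟩
  constructor
  · rintro ⟨H, _, j, hjm, hjmono, himm, hH, e, he⟩
    haveI : Flat H.hom := Bridge.flat_of_locally (Bridge.locally_of_ft hH)
    haveI : IsIso e.hom.left := inferInstanceAs (IsIso ((Over.forget _).map e.hom))
    have hw : j.left ≫ G.hom = H.hom := Over.w j
    let c : pullback j.left (pullback.fst G.hom (bi J)) ≅ (Red.bc (bi J) H).left :=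
      pullbackRightPullbackFstIso G.hom (bi J) j.left ≪≫ pullback.congrHom hw rfl
    refine ⟨H.left, j.left, himm, by rw [hw]; infer_instance, c ≪≫ asIso e.hom.left, ?_⟩
    show (c.hom ≫ e.hom.left) ≫ j₀.left = _
    rw [Category.assoc, show e.hom.left ≫ j₀.left = (red J j).left from congrArg (fun m => m.left) he]
    have h1 : c.hom ≫ pullback.fst H.hom (bi J) = pullback.fst j.left (pullback.fst G.hom (bi J)) := by
      simp only [c, Iso.trans_hom, pullback.congrHom_hom, Category.assoc]
      refine (congrArg (_ ≫ ·) (pullback.lift_fst _ _ _)).trans ?_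
      rw [Category.comp_id]
      exact pullbackRightPullbackFstIso_hom_fst _ _ _
    have h2 : c.hom ≫ pullback.snd H.hom (bi J) =
        pullback.snd j.left (pullback.fst G.hom (bi J)) ≫ pullback.snd G.hom (bi J) := by
      simp only [c, Iso.trans_hom, pullback.congrHom_hom, Category.assoc]
      refine (congrArg (_ ≫ ·) (pullback.lift_snd _ _ _)).trans ?_
      rw [Category.comp_id]
      exact pullbackRightPullbackFstIso_hom_snd _ _ _
    apply pullback.hom_ext
    · refine (Category.assoc _ _ _).trans ?_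
      rw [red_left_fst, ← Category.assoc, h1, pullback.condition]
    · refine (Category.assoc _ _ _).trans ?_
      refine (congrArg (c.hom ≫ ·) (Over.w (red J j))).trans ?_
      exact h2
  · rintro ⟨H', h', himm, hflat, e, he⟩
    haveI := himm
    haveI := hflat
    obtain ⟨H, _, hH, hflatH, ⟨ε⟩⟩ := Bridge.exists_group_lift hn H₀ (Bridge.locally_of_ft hm₀)
    let φ : Red.bc (bi J) H ≅ H₀ := ⟨ε.hom.hom.hom, ε.inv.hom.hom, congr($(ε.hom_inv_id).hom.hom),
      congr($(ε.inv_hom_id).hom.hom)⟩
    haveI : IsMonHom φ.hom := ε.hom.hom.isMonHom_hom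
    haveI : IsIso φ.hom.left := inferInstanceAs (IsIso ((Over.forget _).map φ.hom))
    haveI : Smooth (Red.bc (bi J) H).hom := by rw [← Over.w φ.hom]; infer_instance
    haveI := AvgLift.smooth_of_red hJ' hH
    obtain ⟨u, hu, huimm, humono, hured⟩ := AvgLift.exists_subgroup_of_flat hJ' hH (φ.hom ≫ j₀) h'
      (e ≪≫ (asIso φ.hom.left).symm) (by
        simp only [Iso.trans_hom, Iso.symm_hom, asIso_inv, Over.comp_left, Category.assoc, IsIso.inv_hom_id_assoc]
        exact he)
    exact ⟨H, inferInstance, u, hu, humono, huimm, hH, φ, hured.symm⟩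

end Groth.Agent.S8426
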