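import Groth.Statements.S8440
import Groth.Agent.L25.TorLift.EtaleTors

set_option autoImplicit false
universe u
open CategoryTheory MonoidalCategory CartesianMonoidalCategory MonObj GrpObj AlgebraicGeometry
open SGA3x
open Groth.L25 Groth.L25.TorLift WithConv

set_option backward.isDefEq.respectTransparency.types false
set_option linter.style.haveILetI false

namespace Groth.Agent.S8440


theorem exists_kernel_lift {S : Scheme.{u}} {N H X : Over S} [GrpObj H] {g : N ⟶ H} {n : ℕ}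
    (hg : AlgGrp.IsKernel g ((𝟙 H : H ⟶ H) ^ n)) (t : X ⟶ H) (ht : t ^ n = 1) : ∃ y : X ⟶ N, y ≫ g = t := by
  have h1 : t ≫ (𝟙 H : H ⟶ H) ^ n = toUnit X ≫ η[H] := by
    rw [MonObj.comp_pow, Category.comp_id, ht, Hom.one_def]
  exact ⟨hg.lift t (toUnit X) h1, hg.lift_fst _ _ _⟩

/-- Over an affine base: let A be a Noetherian ring, J a nilpotent ideal, S = Spec A, S₀ = Spec(A/J), G
an S-group scheme of finite type, T₀ a subtorus of G₀ = G ×_S S₀, q > 1 an integer invertible on S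
(the published statement writes q > 0), and, for n running through the powers q^k, (Mₙ) a coherent
family of subgroup schemes of G of multiplicative type (M_m = ₘ(Mₙ) when m divides n) lifting the
ₙT₀. Then there is one and only one subtorus T of G with T ×_S S₀ = T₀ and ₙT = Mₙ for all n
(uniqueness up to isomorphism over G). -/
theorem result (A : Type u) [CommRing A] [IsNoetherianRing A]
    (J : Ideal A) (hJ : IsNilpotent J) (G : Over (Spec (CommRingCat.of A))) [GrpObj G] [QuasiCompact G.hom] [LocallyOfFiniteType G.hom]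
    (T₀ : Over (Spec (CommRingCat.of (A ⧸ J)))) [GrpObj T₀] (j₀ : T₀ ⟶ Red.bc (Spec.map (CommRingCat.ofHom (Ideal.Quotient.mk J))) G) [IsMonHom j₀] [Mono j₀] (ht₀ : Red.IsTorus T₀)
    (q : ℕ) (hq : 1 < q) (hqu : IsUnit (q : A))
    (M : ℕ → Over (Spec (CommRingCat.of A))) (grp : ∀ k, GrpObj (M k)) (m : ∀ k, M k ⟶ G)
    (hm : ∀ k, IsMonHom (m k) ∧ Mono (m k) ∧ SGA3x.IsMultTypeFT (M k))
    (hcoh : ∀ j k : ℕ, j ≤ k → ∃ f : M j ⟶ M k, f ≫ m k = m j ∧ AlgGrp.IsKernel f ((𝟙 (M k) : M k ⟶ M k) ^ (q ^ j)))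
    (hlift : ∀ k, ∃ g : Red.bc (Spec.map (CommRingCat.ofHom (Ideal.Quotient.mk J))) (M k) ⟶ T₀, g ≫ j₀ = (Over.pullback (Spec.map (CommRingCat.ofHom (Ideal.Quotient.mk J)))).map (m k) ∧
      AlgGrp.IsKernel g ((𝟙 T₀ : T₀ ⟶ T₀) ^ (q ^ k))) :
    (∃ (T : Over (Spec (CommRingCat.of A))) (_ : GrpObj T) (j : T ⟶ G), IsMonHom j ∧ Mono j ∧ Red.IsTorus T ∧
      (∃ e : Red.bc (Spec.map (CommRingCat.ofHom (Ideal.Quotient.mk J))) T ≅ T₀, e.hom ≫ j₀ = (Over.pullback (Spec.map (CommRingCat.ofHom (Ideal.Quotient.mk J)))).map j) ∧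
      ∀ k, ∃ g : M k ⟶ T, g ≫ j = m k ∧ AlgGrp.IsKernel g ((𝟙 T : T ⟶ T) ^ (q ^ k))) ∧
    (∀ (T₁ T₂ : Over (Spec (CommRingCat.of A))) [GrpObj T₁] [GrpObj T₂] (j₁ : T₁ ⟶ G) (j₂ : T₂ ⟶ G) [IsMonHom j₁] [Mono j₁]
      [IsMonHom j₂] [Mono j₂], Red.IsTorus T₁ → Red.IsTorus T₂ →
      (∃ e : Red.bc (Spec.map (CommRingCat.ofHom (Ideal.Quotient.mk J))) T₁ ≅ T₀, e.hom ≫ j₀ = (Over.pullback (Spec.map (CommRingCat.ofHom (Ideal.Quotient.mk J)))).map j₁) →
      (∃ e : Red.bc (Spec.map (CommRingCat.ofHom (Ideal.Quotient.mk J))) T₂ ≅ T₀, e.hom ≫ j₀ = (Over.pullback (Spec.map (CommRingCat.ofHom (Ideal.Quotient.mk J)))).map j₂) →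
      (∀ k, ∃ g : M k ⟶ T₁, g ≫ j₁ = m k ∧ AlgGrp.IsKernel g ((𝟙 T₁ : T₁ ⟶ T₁) ^ (q ^ k))) →
      (∀ k, ∃ g : M k ⟶ T₂, g ≫ j₂ = m k ∧ AlgGrp.IsKernel g ((𝟙 T₂ : T₂ ⟶ T₂) ^ (q ^ k))) →
      ∃ φ : T₁ ≅ T₂, φ.hom ≫ j₂ = j₁) := by
  classical
  let N : Set ℕ := {n | ∃ k, q ^ k = n}
  have hmul : ∀ a ∈ N, ∀ b ∈ N, a * b ∈ N := fun a ⟨i, hi⟩ b ⟨j, hj⟩ => ⟨i + j, by rw [pow_add, hi, hj]⟩
  have hqs : ∀ r ∈ ({q} : Finset ℕ), 1 < r ∧ ∀ k, r ^ k ∈ N := fun r hr => by
    rw [Finset.mem_singleton] at hr; subst hr; exact ⟨hq, fun k => ⟨k, rfl⟩⟩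
  have hcov : ∀ p : PrimeSpectrum A, ∃ r ∈ ({q} : Finset ℕ), (r : A) ∉ p.asIdeal := fun p =>
    ⟨q, Finset.mem_singleton_self q, fun h => p.isPrime.ne_top (Ideal.eq_top_of_isUnit_mem _ h hqu)⟩
  have hnil : ∀ x ∈ J, IsNilpotent x := fun x hx => by
    obtain ⟨n, hn⟩ := hJ
    refine ⟨n, ?_⟩
    have h := Ideal.pow_mem_pow hx n
    rwa [hn, Ideal.zero_eq_bot, Ideal.mem_bot] at h
  have hunit : ∀ k : ℕ, IsUnit ((q ^ k : ℕ) : A) := fun k => by rw [Nat.cast_pow]; exact hqu.pow k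
  haveI hmon : ∀ k, IsMonHom (m k) := fun k => (hm k).1
  haveI hmono : ∀ k, Mono (m k) := fun k => (hm k).2.1
  haveI hetale : ∀ k, Etale (M k).hom := fun k => by
    obtain ⟨f, hf, hker⟩ := hcoh k k le_rfl
    have hf1 : f = 𝟙 (M k) := by rw [← cancel_mono (m k), hf, Category.id_comp]
    subst hf1
    haveI : Flat (M k).hom := Bridge.flat_of_locally (Bridge.locally_of_ft (hm k).2.2)
    haveI : LocallyOfFinitePresentation (M k).hom := Locus.lfp_of_multTypeFT (hm k).2.2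
    refine etale_of_killed (fun Y a b => Central.mul_comm_of_multTypeFT (hm k).2.2 a b) (hunit k) ?_
    have hw : (𝟙 (M k) : M k ⟶ M k) ≫ (𝟙 (M k) : M k ⟶ M k) ^ (q ^ k) = toUnit (M k) ≫ η[M k] := hker.w
    rw [Category.id_comp, ← Hom.one_def] at hw
    exact hw
  choose g hgm hgk using hlift
  haveI hgmono : ∀ k, Mono (g k) := fun k => by
    have : Mono (g k ≫ j₀) := by rw [hgm k]; infer_instance
    exact mono_of_mono (g k) j₀
  have extM : ∀ (X : Over (Spec (CommRingCat.of A))) (a b : ℕ) (y : X ⟶ M a) (y' : X ⟶ M b),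
      red J (y ≫ m a) = red J (y' ≫ m b) → y ≫ m a = y' ≫ m b := by
    intro X a b y y' h
    haveI := surjective_fst hJ X
    obtain ⟨f, hf, -⟩ := hcoh a (max a b) (le_max_left a b)
    obtain ⟨f', hf', -⟩ := hcoh b (max a b) (le_max_right a b)
    rw [← hf, ← hf', ← Category.assoc, ← Category.assoc]
    congr 1
    refine (CentralLift.bijective_map_etale (bi J) (M (max a b)) X).1 ?_
    show red J (y ≫ f) = red J (y' ≫ f')
    rw [← cancel_mono (red J (m (max a b))), ← red_comp, ← red_comp, Category.assoc, Category.assoc, hf, hf', h]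
  have hm₀ := Locus.isMultTypeFT_of_isTorus ht₀
  haveI := TrivLocus.lft_of_multTypeFT hm₀
  constructor
  · obtain ⟨H, _, hH, -, ⟨e₀⟩⟩ := Bridge.exists_group_lift hJ T₀ (Bridge.locally_of_ft hm₀)
    have hHt : Red.IsTorus H := isTorus_of_red hnil hH (isTorus_of_iso e₀.symm ht₀)
    obtain ⟨B, _, _, _, hT, eB, heB, heB'⟩ := exists_model H hHt
    haveI := heB
    haveI := heB'
    let e : Red.bc (bi J) (Xp A B) ≅ T₀ := (Over.pullback (bi J)).mapIso eB ≪≫
      ⟨e₀.hom.hom.hom, e₀.inv.hom.hom, congr($(e₀.hom_inv_id).hom.hom), congr($(e₀.inv_hom_id).hom.hom)⟩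
    haveI : IsMonHom e.hom := by
      haveI : IsMonHom e₀.hom.hom.hom := e₀.hom.hom.isMonHom_hom
      show IsMonHom ((Over.pullback (bi J)).map eB.hom ≫ e₀.hom.hom.hom)
      infer_instance
    haveI : IsMonHom e.inv := inferInstance
    have c := cov_of_torus hT N hmul {q} hqs hcov
    have hlift' : ∀ (X : Over (Spec (CommRingCat.of A))) (t : X ⟶ Xp A B) (k : ℕ), t ^ (q ^ k) = 1 →
        ∃ y : X ⟶ M k, red J (y ≫ m k) = red J t ≫ e.hom ≫ j₀ := fun X t k ht => by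
      haveI := surjective_fst hJ X
      obtain ⟨y₀, hy₀⟩ := exists_kernel_lift (hgk k) (red J t ≫ e.hom) (by
        rw [← MonObj.pow_comp]
        show (((Over.pullback (bi J)).homMonoidHom t) ^ (q ^ k)) ≫ e.hom = 1
        rw [← map_pow, ht, map_one, MonObj.one_comp])
      obtain ⟨y, hy⟩ := (CentralLift.bijective_map_etale (bi J) (M k) X).2 y₀
      have hy' : red J y = y₀ := hy
      refine ⟨y, ?_⟩
      rw [red_comp, hy', show red J (m k) = g k ≫ j₀ from (hgm k).symm, ← Category.assoc, hy₀, Category.assoc]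
    have key : ∀ (R : Type u) [CommRing R] [Algebra A R] (x : B →ₐ[A] R), Adm N x →
        ∃ v : Xp A R ⟶ G, (∃ (k : ℕ) (y : Xp A R ⟶ M k), y ≫ m k = v) ∧ red J v = red J (xm x) ≫ e.hom ≫ j₀ :=
      fun R _ _ x hx => by
        obtain ⟨n, ⟨k, rfl⟩, -, hp⟩ := hx
        obtain ⟨y, hy⟩ := hlift' _ (xm x) k (xm_pow_eq_one hp)
        exact ⟨_, ⟨k, y, rfl⟩, hy⟩
    let V : ∀ (R : Type u) [CommRing R] [Algebra A R], (B →ₐ[A] R) → (Xp A R ⟶ G) :=
      fun R _ _ x => if h : Adm N x then (key R x h).choose else 1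
    have hV : ∀ (R : Type u) [CommRing R] [Algebra A R] (x : B →ₐ[A] R), Adm N x →
        (∃ (k : ℕ) (y : Xp A R ⟶ M k), y ≫ m k = V R x) ∧ red J (V R x) = red J (xm x) ≫ e.hom ≫ j₀ :=
      fun R _ _ x hx => by
        simp only [V, dif_pos hx]
        exact (key R x hx).choose_spec
    obtain ⟨u, hu, hred, hux⟩ := exists_hom c hJ (e.hom ≫ j₀) V (fun R _ _ x hx => (hV R x hx).2)
      (fun R R' _ _ _ _ h x hx => by
        obtain ⟨⟨k, y, hy⟩, h1⟩ := hV R x hx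
        obtain ⟨⟨k', y', hy'⟩, h2⟩ := hV R' _ (hx.comp h)
        rw [← hy, ← hy', ← Category.assoc]
        refine extM _ _ _ _ _ ?_
        rw [Category.assoc, hy, hy', red_comp, h1, h2, ← Category.assoc, ← red_comp, ← xm_comp])
      (fun R _ _ x y hx hy => by
        obtain ⟨⟨a, ya, hya⟩, h1⟩ := hV R x hx
        obtain ⟨⟨b, yb, hyb⟩, h2⟩ := hV R y hy
        have hxy : Adm N (toConv x * toConv y).ofConv := by
          obtain ⟨i, hi, hui, hxi⟩ := hx
          obtain ⟨j, hj, huj, hyj⟩ := hy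
          refine ⟨i * j, hmul i hi j hj, by rw [Nat.cast_mul]; exact hui.mul huj, ?_⟩
          rw [toConv_ofConv, mul_pow, pow_mul, hxi, one_pow, _root_.one_mul, mul_comm, pow_mul, hyj, one_pow]
        obtain ⟨⟨d, yd, hyd⟩, h3⟩ := hV R _ hxy
        obtain ⟨f, hf, -⟩ := hcoh a (max a b) (le_max_left a b)
        obtain ⟨f', hf', -⟩ := hcoh b (max a b) (le_max_right a b)
        have h4 : ((ya ≫ f) * (yb ≫ f')) ≫ m (max a b) = V R x * V R y := by
          rw [MonObj.mul_comp, Category.assoc, Category.assoc, hf, hf', hya, hyb]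
        rw [← hyd, ← h4]
        refine extM _ _ _ _ _ ?_
        rw [hyd, h4, red_mul, h1, h2, h3, xm_mul, red_mul (G := Xp A B), MonObj.mul_comp])
    haveI := hu
    haveI := TrivLocus.lft_of_multTypeFT (Locus.isMultTypeFT_of_isTorus hT)
    haveI : Mono (red J u) := by rw [hred]; infer_instance
    refine ⟨Xp A B, inferInstance, u, hu, mono_of_red hJ u, hT, ⟨e, hred.symm⟩, fun k => ?_⟩
    have hmT := Locus.isMultTypeFT_of_isTorus hT
    haveI : Flat (Xp A B).hom := Bridge.flat_of_locally (Bridge.locally_of_ft hmT)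
    haveI : LocallyOfFinitePresentation (Xp A B).hom := Locus.lfp_of_multTypeFT hmT
    have hcomm : ∀ (Y : Over (Spec (CommRingCat.of A))) (a b : Y ⟶ Xp A B), a * b = b * a :=
      fun Y a b => Central.mul_comm_of_multTypeFT hmT a b
    let K := CentralLift.tors (Xp A B) (q ^ k)
    let ι₀ := CentralLift.torsι (Xp A B) (q ^ k)
    obtain ⟨a, ha⟩ := hlift' K ι₀ k (CentralLift.torsι_pow _)
    haveI := surjective_fst hJ (M k)
    haveI := surjective_fst hJ K
    have hgpow : (g k ≫ e.inv) ^ (q ^ k) = 1 := by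
      have hw : g k ≫ (𝟙 T₀ : T₀ ⟶ T₀) ^ (q ^ k) = toUnit _ ≫ η[T₀] := (hgk k).w
      rw [MonObj.comp_pow, Category.comp_id, ← Hom.one_def] at hw
      rw [← MonObj.pow_comp, hw, MonObj.one_comp]
    obtain ⟨b₀', hb₀'⟩ := exists_tors_lift' hcomm (hunit k) (NilAction.toBase (bi J) (g k ≫ e.inv))
      (by rw [← CentralLift.toBase_pow, hgpow, NilAction.toBase_one])
    obtain ⟨b, hb⟩ := (CentralLift.bijective_map_etale (bi J) K (M k)).2 (NilAction.ofBase (bi J) b₀')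
    have hb' : red J b = NilAction.ofBase (bi J) b₀' := hb
    have hb1 : red J b ≫ red J ι₀ = g k ≫ e.inv := by
      rw [hb', NilAction.ofBase_comp, hb₀', NilAction.ofBase_toBase]
    have ha1 : red J a ≫ g k = red J ι₀ ≫ e.hom := by
      rw [← cancel_mono j₀, Category.assoc, hgm k]
      show red J a ≫ red J (m k) = _
      rw [← red_comp, ha, Category.assoc]
    have hab : a ≫ b = 𝟙 K := (CentralLift.bijective_map_etale (bi J) K K).1 (by
      show red J (a ≫ b) = red J (𝟙 K)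
      rw [← cancel_mono (red J ι₀), red_comp, Category.assoc, hb1, ← Category.assoc, ha1,
        show red J (𝟙 K) = 𝟙 _ from (Over.pullback (bi J)).map_id K]
      simp)
    have hba : b ≫ a = 𝟙 (M k) := (CentralLift.bijective_map_etale (bi J) (M k) (M k)).1 (by
      show red J (b ≫ a) = red J (𝟙 (M k))
      rw [← cancel_mono (g k), red_comp, Category.assoc, ha1, ← Category.assoc, hb1,
        show red J (𝟙 (M k)) = 𝟙 _ from (Over.pullback (bi J)).map_id (M k)]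
      simp)
    have hpow : (b ≫ ι₀) ^ (q ^ k) = 1 := by
      rw [← MonObj.comp_pow, CentralLift.torsι_pow, MonObj.comp_one]
    have hgu : (b ≫ ι₀) ≫ u = m k := by
      refine CentralLift.eq_of_immersions fun z => ?_
      obtain ⟨_, ⟨W, hW, rfl⟩, hzW, -⟩ := (M k).left.isBasis_affineOpens.exists_subset_of_mem_open
        (Set.mem_univ z) isOpen_univ
      let R := Γ((M k).left, W)
      letI : Algebra A R := (Spec.preimage (R := CommRingCat.of A) (S := R) (hW.fromSpec ≫ (M k).hom)).hom.toAlgebra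
      let f : Xp A R ⟶ M k := Over.homMk hW.fromSpec (by
        exact (Spec.map_preimage (R := CommRingCat.of A) (S := R) (hW.fromSpec ≫ (M k).hom)).symm)
      refine ⟨_, f, inferInstanceAs (IsOpenImmersion hW.fromSpec), ?_, ?_⟩
      · show z ∈ Set.range hW.fromSpec
        rw [hW.range_fromSpec]
        exact hzW
      · obtain ⟨x, hx⟩ := exists_xm (f ≫ b ≫ ι₀)
        have hxp : (toConv x) ^ (q ^ k) = 1 := by
          have h0 : (xm x : Xp A R ⟶ Xp A B) ^ (q ^ k) = 1 := by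
            rw [hx, ← MonObj.comp_pow, hpow, MonObj.comp_one]
          rw [← xm_pow, ← xm_one] at h0
          exact WithConv.ofConv_injective (xm_injective h0)
        have hx' : Adm N x := ⟨q ^ k, ⟨k, rfl⟩, by simpa using (hunit k).map (algebraMap A R), hxp⟩
        obtain ⟨⟨d, yd, hyd⟩, h3⟩ := hV R x hx'
        rw [← Category.assoc, show f ≫ b ≫ ι₀ = xm x from hx.symm, hux R x hx', ← hyd]
        refine extM _ _ _ _ _ ?_
        rw [hyd, h3, red_comp f (m k), show red J (m k) = g k ≫ j₀ from (hgm k).symm, hx, red_comp, red_comp,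
          Category.assoc, Category.assoc, ← Category.assoc (red J b), hb1, Category.assoc, Iso.inv_hom_id_assoc]
    have hex : ∀ {Z : Over (Spec (CommRingCat.of A))} (t : Z ⟶ Xp A B) (z : Z ⟶ 𝟙_ _),
        t ≫ (𝟙 (Xp A B) : Xp A B ⟶ Xp A B) ^ (q ^ k) = z ≫ η[Xp A B] → ∃ l : Z ⟶ M k, l ≫ b ≫ ι₀ = t := by
      intro Z t z h
      rw [MonObj.comp_pow, Category.comp_id, toUnit_unique z (toUnit _), ← Hom.one_def] at h
      obtain ⟨t', ht'⟩ := exists_tors_lift' hcomm (hunit k) t h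
      exact ⟨t' ≫ a, by rw [Category.assoc, ← Category.assoc a, hab, Category.id_comp, ht']⟩
    haveI : IsIso b := ⟨a, hba, hab⟩
    refine ⟨b ≫ ι₀, hgu, ⟨⟨?_⟩, ⟨Limits.PullbackCone.IsLimit.mk _ (fun s => (hex s.fst s.snd s.condition).choose)
      (fun s => (hex s.fst s.snd s.condition).choose_spec) (fun s => toUnit_unique _ _) fun s l hl _ => ?_⟩⟩⟩
    · rw [MonObj.comp_pow, Category.comp_id, hpow, Hom.one_def]
    · rw [← cancel_mono (b ≫ ι₀), hl, (hex s.fst s.snd s.condition).choose_spec]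
  · intro T₁ T₂ _ _ j₁ j₂ _ _ _ _ ht₁ ht₂ ⟨e₁, he₁⟩ ⟨e₂, he₂⟩ hk₁ hk₂
    obtain ⟨B₁, _, _, _, hT₁, eB₁, hB₁, hB₁'⟩ := exists_model T₁ ht₁
    obtain ⟨B₂, _, _, _, hT₂, eB₂, hB₂, hB₂'⟩ := exists_model T₂ ht₂
    haveI := hB₁
    haveI := hB₂
    haveI := hB₁'
    haveI := hB₂'
    haveI : IsMonHom e₁.hom := Bridge.isMonHom_of_mul _ fun Y a b => by
      rw [← cancel_mono j₀, Category.assoc, he₁, MonObj.mul_comp, MonObj.mul_comp, Category.assoc, Category.assoc, he₁]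
    haveI : IsMonHom e₂.hom := Bridge.isMonHom_of_mul _ fun Y a b => by
      rw [← cancel_mono j₀, Category.assoc, he₂, MonObj.mul_comp, MonObj.mul_comp, Category.assoc, Category.assoc, he₂]
    haveI : IsMonHom e₂.inv := inferInstance
    let ε : Red.bc (bi J) (Xp A B₁) ≅ Red.bc (bi J) (Xp A B₂) :=
      (Over.pullback (bi J)).mapIso eB₁ ≪≫ e₁ ≪≫ e₂.symm ≪≫ (Over.pullback (bi J)).mapIso eB₂.symm
    haveI : IsMonHom ε.hom := by
      show IsMonHom ((Over.pullback (bi J)).map eB₁.hom ≫ e₁.hom ≫ e₂.inv ≫ (Over.pullback (bi J)).map eB₂.inv)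
      infer_instance
    obtain ⟨φ, hφ, hφr⟩ := exists_torus_iso hJ N hmul {q} hqs hcov hT₁ hT₂ ε
    haveI := hφ
    have hε : ε.hom ≫ red J eB₂.hom ≫ e₂.hom = red J eB₁.hom ≫ e₁.hom := by
      simp [ε, red]
    have c₁ := cov_of_torus hT₁ N hmul {q} hqs hcov
    have h1 : φ.hom ≫ eB₂.hom ≫ j₂ = eB₁.hom ≫ j₁ := by
      refine ext_adm c₁ hJ _ _ ?_ fun R _ _ x hx => ?_
      · rw [red_comp, red_comp, red_comp, hφr, show red J j₁ = e₁.hom ≫ j₀ from he₁.symm,
          show red J j₂ = e₂.hom ≫ j₀ from he₂.symm, ← Category.assoc (red J eB₂.hom), ← Category.assoc ε.hom, hε,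
          Category.assoc]
      · obtain ⟨n, ⟨k, rfl⟩, -, hp⟩ := hx
        obtain ⟨g₁, hg₁, hg₁k⟩ := hk₁ k
        obtain ⟨g₂, hg₂, hg₂k⟩ := hk₂ k
        obtain ⟨y₁, hy₁⟩ := exists_kernel_lift hg₁k (xm x ≫ eB₁.hom) (by
          rw [← MonObj.pow_comp, xm_pow_eq_one hp, MonObj.one_comp])
        obtain ⟨y₂, hy₂⟩ := exists_kernel_lift hg₂k (xm x ≫ φ.hom ≫ eB₂.hom) (by
          rw [← MonObj.pow_comp, xm_pow_eq_one hp, MonObj.one_comp])
        have d₁ : xm x ≫ eB₁.hom ≫ j₁ = y₁ ≫ m k := by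
          rw [← Category.assoc, ← hy₁, Category.assoc, hg₁]
        have d₂ : xm x ≫ φ.hom ≫ eB₂.hom ≫ j₂ = y₂ ≫ m k := by
          rw [← Category.assoc φ.hom, ← Category.assoc (xm x), ← hy₂, Category.assoc, hg₂]
        rw [d₁, d₂]
        refine extM _ _ _ _ _ ?_
        rw [← d₁, ← d₂, red_comp, red_comp, red_comp, red_comp, red_comp, hφr,
          show red J j₁ = e₁.hom ≫ j₀ from he₁.symm, show red J j₂ = e₂.hom ≫ j₀ from he₂.symm,
          ← Category.assoc (red J eB₂.hom), ← Category.assoc ε.hom, hε, Category.assoc]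
    exact ⟨eB₁.symm ≪≫ φ ≪≫ eB₂, by simp [h1]⟩

end Groth.Agent.S8440
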