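import Groth.Statements.S8427
import Groth.Agent.L25.AvgLift.Scheme
import Groth.Agent.L25.SplitSub.Join
import Groth.Agent.L25.MultSub.Main
import Groth.Agent.S8440

set_option autoImplicit false
universe u
open CategoryTheory MonoidalCategory CartesianMonoidalCategory MonObj GrpObj AlgebraicGeometry
open SGA3x
open Groth.L25 Groth.L25.TorLift

set_option backward.isDefEq.respectTransparency.types false
set_option linter.style.haveILetI false

namespace Groth.Agent.S8427

/-- a monomorphism through which exactly the killed points factor is the kernel of the power map -/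
theorem isKernel_of_points {S : Scheme.{u}} {N T : Over S} [GrpObj T] {n : ℕ} (i : N ⟶ T) [Mono i] (h1 : i ^ n = 1)
    (h2 : ∀ (Z : Over S) (t : Z ⟶ T), t ^ n = 1 → ∃ l : Z ⟶ N, l ≫ i = t) :
    AlgGrp.IsKernel i ((𝟙 T : T ⟶ T) ^ n) := by
  have hex : ∀ {Z : Over S} (t : Z ⟶ T) (z : Z ⟶ 𝟙_ _), t ≫ (𝟙 T : T ⟶ T) ^ n = z ≫ η[T] →
      ∃ l : Z ⟶ N, l ≫ i = t := by
    intro Z t z h
    rw [MonObj.comp_pow, Category.comp_id, toUnit_unique z (toUnit _), ← Hom.one_def] at h
    exact h2 Z t h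
  refine ⟨⟨?_⟩, ⟨Limits.PullbackCone.IsLimit.mk _ (fun s => (hex s.fst s.snd s.condition).choose)
      (fun s => (hex s.fst s.snd s.condition).choose_spec) (fun s => toUnit_unique _ _) fun s l hl _ => ?_⟩⟩
  · rw [MonObj.comp_pow, Category.comp_id, h1, Hom.one_def]
  · rw [← cancel_mono i, hl, (hex s.fst s.snd s.condition).choose_spec]

/-- the torsion subgroup of a torus -/
theorem exists_torsion {A : Type u} [CommRing A] (T : Over (Spec (CommRingCat.of A))) [GrpObj T]
    (hT : SGA3x.IsMultTypeFT T) (n : ℕ) (hn : IsUnit (n : A)) :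
    ∃ (K : Over (Spec (CommRingCat.of A))) (_ : GrpObj K) (i : K ⟶ T), IsMonHom i ∧ Mono i ∧
      SGA3x.IsMultTypeFT K ∧ Etale K.hom ∧ i ^ n = 1 ∧
      ∀ (Z : Over (Spec (CommRingCat.of A))) (t : Z ⟶ T), t ^ n = 1 → ∃ l : Z ⟶ K, l ≫ i = t := by
  have hcomm : ∀ (Y : Over (Spec (CommRingCat.of A))) (a b : Y ⟶ T), a * b = b * a :=
    fun Y a b => Central.mul_comm_of_multTypeFT hT a b
  haveI : Flat T.hom := Bridge.flat_of_locally (Bridge.locally_of_ft hT)
  haveI : LocallyOfFinitePresentation T.hom := Locus.lfp_of_multTypeFT hT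
  haveI := Central.isAffineHom_of_multTypeFT hT
  haveI : IsMonHom ((𝟙 T : T ⟶ T) ^ n) := Bridge.isMonHom_of_mul _ fun Y a b => by
    rw [MonObj.comp_pow, MonObj.comp_pow, MonObj.comp_pow, Category.comp_id, Category.comp_id, Category.comp_id]
    exact Commute.mul_pow (hcomm Y a b) n
  obtain ⟨K, _, i, hi, himono, hker, -⟩ := SplitSub.exists_kernel ((𝟙 T : T ⟶ T) ^ n)
  haveI := himono
  haveI := hi
  have hker' : ∀ (Z : Over (Spec (CommRingCat.of A))) (t : Z ⟶ T), t ^ n = 1 ↔ ∃ l, l ≫ i = t := fun Z t => by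
    rw [← hker Z t, MonObj.comp_pow, Category.comp_id]
  have h1 : i ^ n = 1 := (hker' K i).2 ⟨𝟙 K, Category.id_comp _⟩
  obtain ⟨a, ha⟩ := exists_tors_lift' hcomm hn i h1
  obtain ⟨b, hb⟩ := (hker' _ (CentralLift.torsι T n)).1 (CentralLift.torsι_pow n)
  haveI : IsIso a := ⟨b, by rw [← cancel_mono i, Category.assoc, hb, ha, Category.id_comp],
    by rw [← cancel_mono (CentralLift.torsι T n), Category.assoc, ha, hb, Category.id_comp]⟩
  haveI : IsIso a.left := inferInstanceAs (IsIso ((Over.forget _).map a))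
  haveI het : Etale K.hom := by rw [← Over.w a]; infer_instance
  haveI : IsMonHom (η[T] : 𝟙_ _ ⟶ T) := inferInstance
  have hcl : IsClosedImmersion i.left := by
    have hi0 : i = a ≫ CentralLift.torsι T n := ha.symm
    haveI : IsClosedImmersion η[T].left := by
      haveI : IsSeparated T.hom := inferInstance
      haveI : IsClosedImmersion (η[T].left ≫ T.hom) := by
        rw [Over.w η[T]]
        exact inferInstanceAs (IsClosedImmersion (𝟙 _))
      exact IsClosedImmersion.of_comp η[T].left T.hom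
    have hloc : CentralLift.locus T n = ⊤ := top_le_iff.1 fun y _ => mem_locus_of_comm hcomm hn y
    haveI : IsIso (CentralLift.locus T n).ι := by rw [hloc]; exact inferInstanceAs (IsIso (Scheme.topIso T.left).hom)
    haveI : IsClosedImmersion (Limits.pullback.fst ((CentralLift.locus T n).ι ≫ (CentralLift.pw T n).left) η[T].left) :=
      MorphismProperty.pullback_fst (P := @IsClosedImmersion) _ _ inferInstance
    haveI : IsClosedImmersion (CentralLift.torsι T n).left := by
      show IsClosedImmersion (Limits.pullback.fst _ _ ≫ (CentralLift.locus T n).ι)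
      infer_instance
    rw [hi0, Over.comp_left]
    infer_instance
  exact ⟨K, inferInstance, i, hi, himono, MultSub.isMultTypeFT_of_closed K T hT i hcl inferInstance inferInstance,
    het, h1, fun Z t => (hker' Z t).1⟩

theorem red_pow {A : Type u} [CommRing A] {J : Ideal A} {X G : Over (Spec (CommRingCat.of A))} [GrpObj G]
    (a : X ⟶ G) (n : ℕ) : red J (a ^ n) = red J a ^ n :=
  map_pow ((Over.pullback (bi J)).homMonoidHom) a n

theorem red_intBy {A : Type u} [CommRing A] {J : Ideal A} {H G : Over (Spec (CommRingCat.of A))} [GrpObj H] [GrpObj G]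
    (P : 𝟙_ (Over (Spec (CommRingCat.of A))) ⟶ G) (hP : red J P = 1) (u : H ⟶ G) :
    red J (Cocycle.intBy P u) = red J u := by
  rw [Cocycle.intBy, red_mul, red_mul, AvgLift.red_inv, red_comp, hP, MonObj.comp_one, _root_.one_mul, inv_one,
    _root_.mul_one]

theorem intBy_intBy {A : Type u} [CommRing A] {H G : Over (Spec (CommRingCat.of A))} [GrpObj H] [GrpObj G]
    (P g : 𝟙_ (Over (Spec (CommRingCat.of A))) ⟶ G) (u : H ⟶ G) :
    Cocycle.intBy P (Cocycle.intBy g u) = Cocycle.intBy (P * g) u := by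
  simp only [Cocycle.intBy, MonObj.comp_mul, _root_.mul_inv_rev, _root_.mul_assoc]

theorem mono_intBy {A : Type u} [CommRing A] {H G : Over (Spec (CommRingCat.of A))} [GrpObj H] [GrpObj G]
    (P : 𝟙_ (Over (Spec (CommRingCat.of A))) ⟶ G) (u : H ⟶ G) [Mono u] : Mono (Cocycle.intBy P u) := by
  have h : Cocycle.intBy P u = u ≫ Cocycle.intBy P (𝟙 G) := by
    rw [Cocycle.comp_intBy, Category.comp_id]
    rfl
  haveI := Bridge.isIso_intBy P
  rw [h]
  infer_instance

/-- Let S = Spec A be a Noetherian affine scheme, S₀ = Spec(A/J) with J an ideal of square zero, G an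
S-group scheme of finite type, T₀ a subtorus of G₀ = G ×_S S₀, and q an integer invertible on S with
q > 1 (the published statement writes q > 0; for q = 1 the family of powers of q is reduced to n = 1
and the hypothesis below holds for the unit section while the conclusion can fail, so this row
assumes q > 1). Suppose that for every n = q^k there is a subscheme Mₙ of G, flat over S, with Mₙ
×_S S₀ = ₙT₀ (the kernel of the n-th power map of T₀) as subschemes of G₀. Then there is a subtorus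
T of G with T ×_S S₀ = T₀. -/
theorem result (A : Type u) [CommRing A] [IsNoetherianRing A] (J : Ideal A)
    (hJ : J ^ 2 = ⊥) (G : Over (Spec (CommRingCat.of A))) [GrpObj G] [QuasiCompact G.hom] [LocallyOfFiniteType G.hom]
    (T₀ : Over (Spec (CommRingCat.of (A ⧸ J)))) [GrpObj T₀] (j₀ : T₀ ⟶ Red.bc (Spec.map (CommRingCat.ofHom (Ideal.Quotient.mk J))) G) [IsMonHom j₀] [Mono j₀] (ht₀ : Red.IsTorus T₀)
    (q : ℕ) (hq0 : 1 < q) (hq : IsUnit (q : A))
    (hM : ∀ (k : ℕ) (Mk : Over (Spec (CommRingCat.of (A ⧸ J)))) [GrpObj Mk] (mk : Mk ⟶ T₀), AlgGrp.IsKernel mk ((𝟙 T₀ : T₀ ⟶ T₀) ^ (q ^ k)) →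
      ∃ (M' : Scheme.{u}) (h' : M' ⟶ G.left), IsImmersion h' ∧ Flat (h' ≫ G.hom) ∧
        ∃ e : Limits.pullback h' (Limits.pullback.fst G.hom (Spec.map (CommRingCat.ofHom (Ideal.Quotient.mk J)))) ≅ Mk.left,
          e.hom ≫ (mk ≫ j₀).left = Limits.pullback.snd h' (Limits.pullback.fst G.hom (Spec.map (CommRingCat.ofHom (Ideal.Quotient.mk J))))) :
    ∃ (T : Over (Spec (CommRingCat.of A))) (_ : GrpObj T) (j : T ⟶ G), IsMonHom j ∧ Mono j ∧ Red.IsTorus T ∧
      ∃ e : Red.bc (Spec.map (CommRingCat.ofHom (Ideal.Quotient.mk J))) T ≅ T₀, e.hom ≫ j₀ = (Over.pullback (Spec.map (CommRingCat.ofHom (Ideal.Quotient.mk J)))).map j := by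
  classical
  have hJ' : J * J = ⊥ := by rw [← pow_two]; exact hJ
  have hn : IsNilpotent J := ⟨2, hJ⟩
  have hnil : ∀ x ∈ J, IsNilpotent x := fun x hx => ⟨2, by
    have h := Ideal.pow_mem_pow hx 2
    rwa [hJ, Ideal.mem_bot] at h⟩
  have hm₀ := Locus.isMultTypeFT_of_isTorus ht₀
  haveI := TrivLocus.lft_of_multTypeFT hm₀
  obtain ⟨T, _, hT, -, ⟨e₀⟩⟩ := Bridge.exists_group_lift hn T₀ (Bridge.locally_of_ft hm₀)
  let e : Red.bc (bi J) T ≅ T₀ :=
    ⟨e₀.hom.hom.hom, e₀.inv.hom.hom, congr($(e₀.hom_inv_id).hom.hom), congr($(e₀.inv_hom_id).hom.hom)⟩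
  haveI : IsMonHom e.hom := e₀.hom.hom.isMonHom_hom
  haveI : IsMonHom e.inv := e₀.inv.hom.isMonHom_hom
  have hunit : ∀ k : ℕ, IsUnit ((q ^ k : ℕ) : A) := fun k => by rw [Nat.cast_pow]; exact hq.pow k
  choose K grp i hi himono hK hKet hipow hifac using fun k => exists_torsion T hT (q ^ k) (hunit k)
  let g : ∀ k, Red.bc (bi J) (K k) ⟶ T₀ := fun k => red J (i k) ≫ e.hom
  haveI hgmono : ∀ k, Mono (g k) := fun k => by
    haveI := himono k
    show Mono (red J (i k) ≫ e.hom)
    infer_instance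
  haveI hghom : ∀ k, IsMonHom (g k) := fun k => by
    haveI := hi k
    show IsMonHom (red J (i k) ≫ e.hom)
    infer_instance
  have hgk : ∀ k, AlgGrp.IsKernel (g k) ((𝟙 T₀ : T₀ ⟶ T₀) ^ (q ^ k)) := fun k => by
    refine isKernel_of_points (g k) ?_ fun Z t ht => ?_
    · show (red J (i k) ≫ e.hom) ^ (q ^ k) = 1
      rw [← MonObj.pow_comp, ← red_pow, hipow k, AvgLift.red_one, MonObj.one_comp]
    · have h1 : (NilAction.toBase (bi J) (t ≫ e.inv)) ^ (q ^ k) = 1 := by
        rw [← CentralLift.toBase_pow, ← MonObj.pow_comp, ht, MonObj.one_comp, NilAction.toBase_one]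
      obtain ⟨l, hl⟩ := hifac k _ _ h1
      refine ⟨NilAction.ofBase (bi J) l, ?_⟩
      show NilAction.ofBase (bi J) l ≫ red J (i k) ≫ e.hom = t
      rw [← Category.assoc, NilAction.ofBase_comp, hl, NilAction.ofBase_toBase, Category.assoc, Iso.inv_hom_id,
        Category.comp_id]
  have hu : ∀ k, ∃ u : K k ⟶ G, IsMonHom u ∧ Mono u ∧ red J u = g k ≫ j₀ := fun k => by
    obtain ⟨M', h', himm, hflat, e', he'⟩ := hM k (Red.bc (bi J) (K k)) (g k) (hgk k)
    haveI := himm
    haveI := hflat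
    haveI := hKet k
    obtain ⟨u, h1, -, h2, h3⟩ := AvgLift.exists_subgroup_of_flat hJ' (hK k) (g k ≫ j₀) h' e' he'
    exact ⟨u, h1, h2, h3⟩
  choose u hum humono hur using hu
  have hf : ∀ a b : ℕ, a ≤ b → ∃ f : K a ⟶ K b, f ≫ i b = i a := fun a b hab => hifac b _ (i a) (by
    obtain ⟨c, rfl⟩ := Nat.exists_eq_add_of_le hab
    rw [pow_add, pow_mul, hipow a, one_pow])
  choose f hf using hf
  have hfm : ∀ a b hab, IsMonHom (f a b hab) := fun a b hab => Bridge.isMonHom_of_mul _ fun Y x y => by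
    haveI := himono b
    haveI := hi a
    haveI := hi b
    rw [← cancel_mono (i b), Category.assoc, hf, MonObj.mul_comp, MonObj.mul_comp, Category.assoc, Category.assoc, hf]
  have hconj : ∀ k, ∃ γ : 𝟙_ (Over (Spec (CommRingCat.of A))) ⟶ G, red J γ = 1 ∧
      f k (k + 1) k.le_succ ≫ u (k + 1) = Cocycle.intBy γ (u k) := fun k => by
    haveI := hfm k (k + 1) k.le_succ
    haveI := hum k
    haveI := hum (k + 1)
    refine AvgLift.exists_conj_red hJ' (hK k) (u k) (f k (k + 1) k.le_succ ≫ u (k + 1)) ?_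
    rw [red_comp, hur, hur, ← Category.assoc]
    congr 1
    show red J (i k) ≫ e.hom = red J (f k (k + 1) k.le_succ) ≫ red J (i (k + 1)) ≫ e.hom
    rw [← Category.assoc, ← red_comp, hf]
  choose γ hγ hγc using hconj
  obtain ⟨P, hP0, hPs⟩ : ∃ P : ℕ → (𝟙_ (Over (Spec (CommRingCat.of A))) ⟶ G),
      P 0 = 1 ∧ ∀ k, P (k + 1) = P k * (γ k)⁻¹ :=
    ⟨Nat.rec 1 fun k p => p * (γ k)⁻¹, rfl, fun k => rfl⟩
  have hP : ∀ k, red J (P k) = 1 := fun k => by
    induction k with
    | zero => rw [hP0, AvgLift.red_one]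
    | succ k ih => rw [hPs, red_mul, ih, AvgLift.red_inv, hγ, inv_one, _root_.one_mul]
  let m : ∀ k, K k ⟶ G := fun k => Cocycle.intBy (P k) (u k)
  have hm : ∀ k, IsMonHom (m k) ∧ Mono (m k) ∧ SGA3x.IsMultTypeFT (K k) := fun k => by
    haveI := hum k
    haveI := humono k
    exact ⟨inferInstanceAs (IsMonHom (Cocycle.intBy (P k) (u k))), mono_intBy (P k) (u k), hK k⟩
  have hstep : ∀ k, f k (k + 1) k.le_succ ≫ m (k + 1) = m k := fun k => by
    show _ ≫ Cocycle.intBy (P (k + 1)) (u (k + 1)) = Cocycle.intBy (P k) (u k)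
    rw [Cocycle.comp_intBy, show (toUnit (K k) ≫ P (k + 1)) * (f k (k + 1) k.le_succ ≫ u (k + 1)) *
      (toUnit (K k) ≫ P (k + 1))⁻¹ = Cocycle.intBy (P (k + 1)) (f k (k + 1) k.le_succ ≫ u (k + 1)) from rfl,
      hγc, intBy_intBy, hPs, inv_mul_cancel_right]
  have hcomp : ∀ a b hab, f a b hab ≫ m b = m a := by
    intro a b hab
    haveI := himono
    induction b, hab using Nat.le_induction with
    | base =>
      rw [show f a a le_rfl = 𝟙 _ by rw [← cancel_mono (i a), hf, Category.id_comp], Category.id_comp]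
    | succ b hab ih =>
      rw [show f a (b + 1) (Nat.le_succ_of_le hab) = f a b hab ≫ f b (b + 1) b.le_succ by
        rw [← cancel_mono (i (b + 1)), Category.assoc, hf, hf, hf], Category.assoc, hstep, ih]
  have hcoh : ∀ a b : ℕ, a ≤ b → ∃ f' : K a ⟶ K b, f' ≫ m b = m a ∧
      AlgGrp.IsKernel f' ((𝟙 (K b) : K b ⟶ K b) ^ (q ^ a)) := fun a b hab => by
    haveI := himono a
    haveI := himono b
    haveI := hi b
    haveI : Mono (f a b hab) := by
      have : Mono (f a b hab ≫ i b) := by rw [hf]; infer_instance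
      exact mono_of_mono _ (i b)
    refine ⟨f a b hab, hcomp a b hab, isKernel_of_points _ ?_ fun Z t ht => ?_⟩
    · rw [← cancel_mono (i b), MonObj.pow_comp, hf, hipow a, MonObj.one_comp]
    · obtain ⟨l, hl⟩ := hifac a Z (t ≫ i b) (by rw [← MonObj.pow_comp, ht, MonObj.one_comp])
      exact ⟨l, by rw [← cancel_mono (i b), Category.assoc, hf, hl]⟩
  obtain ⟨⟨T', _, j, hj1, hj2, hj3, he, -⟩, -⟩ := Groth.Agent.S8440.result A J hn G T₀ j₀ ht₀ q hq0 hq K grp m hm
    hcoh fun k => ⟨g k, by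
      show g k ≫ j₀ = red J (Cocycle.intBy (P k) (u k))
      rw [red_intBy (P k) (hP k), hur], hgk k⟩
  exact ⟨T', inferInstance, j, hj1, hj2, hj3, he⟩

end Groth.Agent.S8427
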