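import Groth.Statements.S8428
import Groth.Agent.L08.Borel.MaxTorusEtale
import Groth.Agent.L08.Borel.ImageTorus
-- import your own Groth.Agent.* helpers here

set_option autoImplicit false
set_option backward.isDefEq.respectTransparency.types false
set_option linter.style.haveILetI false
set_option backward.isDefEq.respectTransparency.types false
set_option linter.style.haveILetI false
universe u
open CategoryTheory MonoidalCategory CartesianMonoidalCategory MonObj GrpObj AlgebraicGeometry
open SGA3x

namespace Groth.Agent.S8428

/-- Let G and G′ be S-group schemes, smooth, separated and of finite type over S, G admitting a maximal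
torus locally for the fpqc topology, and u : G → G′ a homomorphism which is surjective on every
geometric fibre. Then G′ admits a maximal torus locally for the etale topology. -/
theorem result (S : Scheme.{u}) (G G' : Over S) [GrpObj G] [GrpObj G']
    [Smooth G.hom] [IsSeparated G.hom] [QuasiCompact G.hom] [Smooth G'.hom] [IsSeparated G'.hom] [QuasiCompact G'.hom]
    (hG : SGA3x.HasMaxTorusFpqcLocally G) (u : G ⟶ G') [IsMonHom u]
    (hu : ∀ s : S, Surjective ((Over.pullback (Red.geomPt s)).map u).left) :
    SGA3x.HasMaxTorusEtaleLocally G' := by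
  refine Groth.L08.Borel.maxTorus_etale_of_fpqc ?_
  obtain ⟨S₁, π, hπf, hπs, hcov, T, gT, t, ht⟩ := hG
  haveI : Smooth (Red.bc π G).hom := MorphismProperty.pullback_snd G.hom π ‹_›
  haveI : QuasiCompact (Red.bc π G).hom := MorphismProperty.pullback_snd G.hom π ‹_›
  haveI : Smooth (Red.bc π G').hom := MorphismProperty.pullback_snd G'.hom π ‹_›
  haveI : IsSeparated (Red.bc π G').hom := MorphismProperty.pullback_snd G'.hom π ‹_›
  haveI : QuasiCompact (Red.bc π G').hom := MorphismProperty.pullback_snd G'.hom π ‹_›
  haveI : IsMonHom ((Over.pullback π).map u) := Groth.L25.MonoClosed.isMonHom_pullbackMap _ _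
  have hs : ∀ p : S₁, Surjective ((Over.pullback (Red.geomPt p)).map ((Over.pullback π).map u)).left := fun p => by
    obtain ⟨θ, hθ⟩ := Groth.L08.Borel.exists_geomPt_map π p
    haveI : Surjective ((Over.pullback θ).map ((Over.pullback (Red.geomPt (π p))).map u)).left :=
      MorphismProperty.of_isPullback (P := @Surjective) (Groth.L25.SchImage.isPullback_fst_map θ _) (hu (π p))
    have hn : ((Over.pullback (Red.geomPt p)).map ((Over.pullback π).map u)) =
        (Groth.L08.Borel.fibreIso π θ hθ G).hom ≫ ((Over.pullback θ).map ((Over.pullback (Red.geomPt (π p))).map u)) ≫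
          (Groth.L08.Borel.fibreIso π θ hθ G').inv := by
      rw [← Category.assoc, Iso.eq_comp_inv]
      exact Groth.L08.Borel.fibreIso_naturality π θ hθ u
    haveI : IsIso (Groth.L08.Borel.fibreIso π θ hθ G).hom.left :=
      inferInstanceAs (IsIso ((Over.forget _).map (Groth.L08.Borel.fibreIso π θ hθ G).hom))
    haveI : IsIso (Groth.L08.Borel.fibreIso π θ hθ G').inv.left :=
      inferInstanceAs (IsIso ((Over.forget _).map (Groth.L08.Borel.fibreIso π θ hθ G').inv))
    rw [hn]
    simp only [Over.comp_left]
    infer_instance
  obtain ⟨T', gT', i', v, hi', -⟩ :=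
    Groth.L08.Borel.exists_image_maximalTorus ((Over.pullback π).map u) hs ht
  exact ⟨S₁, π, hπf, hπs, hcov, T', gT', i', hi'⟩

end Groth.Agent.S8428
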