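import Groth.Statements.S8429
import Groth.Agent.L08.Borel.CentKernel
-- import your own Groth.Agent.* helpers here

set_option autoImplicit false
set_option backward.isDefEq.respectTransparency.types false
set_option linter.style.haveILetI false
set_option backward.isDefEq.respectTransparency.types false
set_option linter.style.haveILetI false
universe u
open CategoryTheory MonoidalCategory CartesianMonoidalCategory MonObj GrpObj AlgebraicGeometry
open SGA3x

namespace Groth.Agent.S8429

/-- Let G, G′ be S-group schemes, smooth, separated and of finite type over S, G admitting a maximal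
torus locally for the fpqc topology, and u : G → G′ a homomorphism surjective on every geometric
fibre whose kernel is a central subgroup of G. Then T ↦ u(T) is a bijection from the maximal tori of
G onto those of G′: every maximal torus T′ of G′ is the image of a maximal torus T of G (there is a
surjective flat homomorphism T → T′ over u), and two maximal tori of G whose images in G′ coincide
are equal as subgroups of G. (The published item f) makes the same assertion for Cartan subgroups
when G′ has connected fibres; this row states the assertion on maximal tori.) -/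
theorem result (S : Scheme.{u}) (G G' : Over S) [GrpObj G] [GrpObj G']
    [Smooth G.hom] [IsSeparated G.hom] [QuasiCompact G.hom] [Smooth G'.hom] [IsSeparated G'.hom] [QuasiCompact G'.hom]
    (hG : SGA3x.HasMaxTorusFpqcLocally G) (u : G ⟶ G') [IsMonHom u]
    (hu : ∀ s : S, Surjective ((Over.pullback (Red.geomPt s)).map u).left)
    (hker : ∀ (X : Over S) (z : X ⟶ G), z ≫ u = 1 → ∀ (X' : Over S) (x : X' ⟶ X) (g : X' ⟶ G),
      (x ≫ z) * g = g * (x ≫ z)) :
    (∀ (T' : Over S) [GrpObj T'] (i' : T' ⟶ G'), Red.IsMaximalTorus i' →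
      ∃ (T : Over S) (_ : GrpObj T) (i : T ⟶ G) (v : T ⟶ T'), Red.IsMaximalTorus i ∧ IsMonHom v ∧
        v ≫ i' = i ≫ u ∧ Surjective v.left ∧ Flat v.left) ∧
    (∀ (T₁ T₂ T' : Over S) [GrpObj T₁] [GrpObj T₂] [GrpObj T'] (i₁ : T₁ ⟶ G) (i₂ : T₂ ⟶ G) (i' : T' ⟶ G')
      (v₁ : T₁ ⟶ T') (v₂ : T₂ ⟶ T'), Red.IsMaximalTorus i₁ → Red.IsMaximalTorus i₂ → Red.IsMaximalTorus i' →
      v₁ ≫ i' = i₁ ≫ u → v₂ ≫ i' = i₂ ≫ u → Surjective v₁.left → Surjective v₂.left →
      ∃ φ : T₁ ≅ T₂, φ.hom ≫ i₂ = i₁) := by
  refine ⟨fun T' _ i' hT' => Groth.L08.Borel.exists_lift_maximalTorus hG u hu hker hT', ?_⟩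
  intro T₁ T₂ T' _ _ _ i₁ i₂ i' v₁ v₂ h₁ h₂ h' e₁ e₂ s₁ _
  exact Groth.L08.Borel.exists_iso_of_central_kernel u hker h₁ h₂ h' v₁ v₂ e₁ e₂ s₁

end Groth.Agent.S8429
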