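import Groth.Statements.S8431
import Groth.Agent.L08.CentralExtTorus
-- import your own Groth.Agent.* helpers here

set_option autoImplicit false
set_option backward.isDefEq.respectTransparency.types false
set_option linter.style.haveILetI false
universe u
open CategoryTheory MonoidalCategory CartesianMonoidalCategory MonObj GrpObj AlgebraicGeometry
open SGA3x

namespace Groth.Agent.S8431

/-- Let G be an algebraic group over a field k and Z a central algebraic subgroup such that G′ = G/Z is
a torus. Then G is commutative. Here q : G → G′ is a homomorphism representing the fppf quotient of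
G by Z, and G′ is a k-torus. -/
theorem result (k : Type u) [Field k]
    (G : Over (Spec (CommRingCat.of k))) [GrpObj G] [QuasiCompact G.hom] [LocallyOfFiniteType G.hom]
    (Z : Over (Spec (CommRingCat.of k))) [GrpObj Z] (z : Z ⟶ G) [IsMonHom z] [Mono z]
    (hz : ∀ (X : Over (Spec (CommRingCat.of k))) (x : X ⟶ Z) (g : X ⟶ G), (x ≫ z) * g = g * (x ≫ z))
    (G' : Over (Spec (CommRingCat.of k))) [GrpObj G'] (q : G ⟶ G') [IsMonHom q] (hq : RedSub.IsQuotient z q) (hT : Red.IsTorus G') :
    ∀ (X : Over (Spec (CommRingCat.of k))) (g h : X ⟶ G), g * h = h * g := by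
  intro X g h
  obtain ⟨hqs, hqf, hqp, hpb⟩ := hq
  haveI : IsSeparated G.hom := Groth.L08.AbelianGrp.isSeparated G
  refine Groth.L08.CentralExtTorus.commute hT q ?_ X g h
  intro X y hy X' x g
  have h1 : (1 : X ⟶ G) ≫ q = y ≫ q := by rw [hy, MonObj.one_comp]
  let w := hpb.lift 1 y h1
  have hw1 : w ≫ fst G Z = 1 := hpb.lift_fst 1 y h1
  have hw2 : w ≫ (G ◁ z) ≫ μ[G] = y := hpb.lift_snd 1 y h1
  have hzz : y = (w ≫ snd G Z) ≫ z := by
    rw [← hw2, MonObj.mul_eq_mul, MonObj.comp_mul, MonObj.comp_mul, whiskerLeft_fst, whiskerLeft_snd, hw1,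
      _root_.one_mul, Category.assoc]
  rw [hzz, ← Category.assoc x]
  exact hz _ _ g

end Groth.Agent.S8431
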