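import Groth.Statements.S8433
import Groth.Agent.L08.Borel.CentralTorusFP
-- import your own Groth.Agent.* helpers here

set_option autoImplicit false
set_option backward.isDefEq.respectTransparency.types false
set_option linter.style.haveILetI false
universe u
open CategoryTheory MonoidalCategory CartesianMonoidalCategory MonObj GrpObj AlgebraicGeometry
open SGA3x

namespace Groth.Agent.S8433

/-- Let G be an S-group scheme of finite presentation over S which admits, locally for the fpqc
topology, a central maximal torus. Then G admits globally a unique maximal torus T, which is the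
largest subtorus of G (every subtorus factors through T), and T is central. -/
theorem result (S : Scheme.{u}) (G : Over S) [GrpObj G]
    [QuasiCompact G.hom] [QuasiSeparated G.hom] [LocallyOfFinitePresentation G.hom]
    (h : ∃ (S' : Scheme.{u}) (f : S' ⟶ S), Flat f ∧ Surjective f ∧
      (∀ V : S.Opens, IsAffineOpen V → ∃ W : S'.Opens, IsCompact (W : Set ↥S') ∧ f.base '' (W : Set ↥S') = (V : Set ↥S)) ∧
      ∃ (T' : Over S') (_ : GrpObj T') (i' : T' ⟶ Red.bc f G), Red.IsMaximalTorus i' ∧
        ∀ (X : Over S') (t : X ⟶ T') (g : X ⟶ Red.bc f G), (t ≫ i') * g = g * (t ≫ i')) :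
    ∃ (T : Over S) (_ : GrpObj T) (i : T ⟶ G), Red.IsMaximalTorus i ∧
      (∀ (X : Over S) (t : X ⟶ T) (g : X ⟶ G), (t ≫ i) * g = g * (t ≫ i)) ∧
      ∀ (R : Over S) [GrpObj R] (j : R ⟶ G) [IsMonHom j] [Mono j], Red.IsTorus R → ∃ f : R ⟶ T, f ≫ i = j := by
  obtain ⟨S', π, hfl, hsur, hcov, T', gT', i', hT', hc⟩ := h
  haveI := hfl; haveI := hsur
  obtain ⟨T, gT, i, hT, hci⟩ := Groth.L08.Borel.exists_central_maximalTorus_desc hcov hT' hc
  exact ⟨T, gT, i, hT, hci, fun R _ j _ _ hR =>
    Groth.L08.Borel.exists_fac_of_commute hT j hR fun X t r => hci X t (r ≫ j)⟩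

end Groth.Agent.S8433
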