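import Groth.Statements.S8441
import Mathlib.LinearAlgebra.RootSystem.Base
import Mathlib.RingTheory.OrzechProperty
import Mathlib.RingTheory.Noetherian.Orzech

set_option autoImplicit false
universe u v w
open SGA3t2b

namespace Groth.Agent.S8441

theorem triangular_basis {R : Type*} [CommRing R] [IsNoetherianRing R] {M : Type*} [AddCommGroup M] [Module R M]
    {n : ℕ} (a θ : Fin n → M) (ha : LinearIndependent R a)
    (h : ∀ i, θ i - a i ∈ Submodule.span R (a '' Set.Ioi i)) :
    LinearIndependent R θ ∧ Submodule.span R (Set.range θ) = Submodule.span R (Set.range a) := by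
  have hle : Submodule.span R (Set.range θ) ≤ Submodule.span R (Set.range a) := by
    rw [Submodule.span_le]
    rintro _ ⟨i, rfl⟩
    rw [← sub_add_cancel (θ i) (a i)]
    exact add_mem (Submodule.span_mono (Set.image_subset_range _ _) (h i)) (Submodule.subset_span ⟨i, rfl⟩)
  have hge : ∀ (k : ℕ) (i : Fin n), n - (i : ℕ) ≤ k → a i ∈ Submodule.span R (Set.range θ) := by
    intro k
    induction k with
    | zero => intro i hi; omega
    | succ k ih =>
      intro i hi
      rw [← sub_sub_cancel (θ i) (a i)]
      refine sub_mem (Submodule.subset_span ⟨i, rfl⟩) (Submodule.span_le.2 ?_ (h i))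
      rintro _ ⟨j, hj, rfl⟩
      exact ih j (by have := Fin.lt_def.1 (show i < j from hj); omega)
  have heq : Submodule.span R (Set.range θ) = Submodule.span R (Set.range a) :=
    le_antisymm hle (Submodule.span_le.2 (by rintro _ ⟨i, rfl⟩; exact hge n i (Nat.sub_le _ _)))
  refine ⟨?_, heq⟩
  let W := Submodule.span R (Set.range a)
  let e : W ≃ₗ[R] (Fin n → R) := (Module.Basis.span ha).equivFun
  let g : (Fin n → R) →ₗ[R] W := (Fintype.linearCombination R θ).codRestrict W fun c => by
    rw [Fintype.linearCombination_apply]
    exact sum_mem fun i _ => Submodule.smul_mem _ _ (hle (Submodule.subset_span ⟨i, rfl⟩))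
  have hg : Function.Surjective g := by
    rintro ⟨w, hw⟩
    have : w ∈ Submodule.span R (Set.range θ) := heq ▸ hw
    rw [← Fintype.range_linearCombination] at this
    obtain ⟨c, hc⟩ := this
    exact ⟨c, Subtype.ext hc⟩
  have hinj : Function.Injective (e.toLinearMap ∘ₗ g) :=
    OrzechProperty.injective_of_surjective_endomorphism _ (e.surjective.comp hg)
  rw [Fintype.linearIndependent_iff]
  intro c hc
  have hg0 : (e.toLinearMap ∘ₗ g) c = 0 := by
    rw [LinearMap.comp_apply, LinearEquiv.coe_toLinearMap, LinearEquiv.map_eq_zero_iff]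
    exact Subtype.ext hc
  exact congrFun ((injective_iff_map_eq_zero _).1 hinj c hg0)


/-- Let R be a root system with a system of simple roots a₁, …, aₙ and simple reflections rᵢ, and put θᵢ
= rₙ ⋯ rᵢ₊₁(aᵢ). Then the θᵢ form a basis of the group generated by the roots. Stated for a root
pairing over ℤ (Mathlib) with a base whose support is enumerated by Fin n: the θᵢ are ℤ-linearly
independent and their ℤ-span is the ℤ-span of all roots. -/
theorem result {ι : Type u} {M : Type v} {N : Type w} [AddCommGroup M] [Module ℤ M]
    [AddCommGroup N] [Module ℤ N] (P : RootPairing ι ℤ M N) (b : P.Base) (n : ℕ) (e : Fin n ≃ ↥b.support) :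
    LinearIndependent ℤ (fun i : Fin n =>
      ((List.finRange n).filter (fun j => i < j)).foldl (fun x j => P.reflection (e j : ι) x) (P.root (e i : ι))) ∧
    Submodule.span ℤ (Set.range (fun i : Fin n =>
      ((List.finRange n).filter (fun j => i < j)).foldl (fun x j => P.reflection (e j : ι) x) (P.root (e i : ι)))) =
      Submodule.span ℤ (Set.range P.root) := by
  have ha : LinearIndependent ℤ (fun i : Fin n => P.root (e i : ι)) :=
    (b.linearIndepOn_root).comp e e.injective
  obtain ⟨hli, hspan⟩ := triangular_basis _ (fun i : Fin n =>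
    ((List.finRange n).filter (fun j => i < j)).foldl (fun x j => P.reflection (e j : ι) x) (P.root (e i : ι))) ha
    fun i => by
      suffices h : ∀ (l : List (Fin n)) (x : M), (∀ j ∈ l, i < j) →
          l.foldl (fun x j => P.reflection (e j : ι) x) x - x ∈
            Submodule.span ℤ ((fun i : Fin n => P.root (e i : ι)) '' Set.Ioi i) from
        h _ _ fun j hj => by simpa using (List.mem_filter.1 hj).2
      intro l
      induction l with
      | nil => simp
      | cons j l ih =>
        intro x hl
        rw [List.foldl_cons, ← sub_add_sub_cancel _ (P.reflection (e j : ι) x) x]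
        refine add_mem (ih _ fun k hk => hl k (List.mem_cons_of_mem _ hk)) ?_
        rw [RootPairing.reflection_apply, sub_sub_cancel_left]
        exact neg_mem (Submodule.smul_mem _ _ (Submodule.subset_span ⟨j, hl j (List.mem_cons_self ..), rfl⟩))
  refine ⟨hli, hspan.trans ?_⟩
  rw [show Set.range (fun i : Fin n => P.root (e i : ι)) = P.root '' b.support by
    ext x
    constructor
    · rintro ⟨i, rfl⟩; exact ⟨_, (e i).2, rfl⟩
    · rintro ⟨k, hk, rfl⟩; exact ⟨e.symm ⟨k, hk⟩, by simp⟩]
  refine le_antisymm (Submodule.span_mono (Set.image_subset_range _ _)) (Submodule.span_le.2 ?_)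
  rintro _ ⟨k, rfl⟩
  have hcl : AddSubmonoid.closure (P.root '' b.support) ≤
      (Submodule.span ℤ (P.root '' b.support)).toAddSubmonoid :=
    AddSubmonoid.closure_le.2 Submodule.subset_span
  rcases b.root_mem_or_neg_mem k with h | h
  · exact hcl h
  · exact (Submodule.neg_mem_iff _).1 (hcl h)

end Groth.Agent.S8441
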