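import Groth.Statements.S8442
import Groth.Agent.L08.Borel.TorusIntoSub
import Groth.Agent.L08.Borel.CartanTorus
import Groth.Agent.L08.ActSepConn
import Groth.Agent.L08.GrpQC
-- import your own Groth.Agent.* helpers here

set_option autoImplicit false
set_option backward.isDefEq.respectTransparency.types false
set_option linter.style.haveILetI false
set_option backward.isDefEq.respectTransparency.types false
set_option linter.style.haveILetI false
universe u
open CategoryTheory MonoidalCategory CartesianMonoidalCategory MonObj GrpObj AlgebraicGeometry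
open SGA3x

namespace Groth.Agent.S8442

/-- Let G be an S-group scheme, smooth and of finite presentation over S with connected fibres, and i :
H → G a monomorphism of S-groups with H smooth over S whose geometric fibres are connected and
contain a Cartan subgroup of the corresponding geometric fibre of G. Then for every Cartan subgroup
C of G, Transp_G(C, H) is represented by a closed subscheme of G, smooth over S, whose structure
morphism to S is surjective; and if C is the centralizer of a maximal torus T of G, then Transp_G(T,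
H) = Transp_G(C, H). -/
theorem result (S : Scheme.{u}) (G : Over S) [GrpObj G]
    [Smooth G.hom] [QuasiCompact G.hom] [QuasiSeparated G.hom] (hconn : ∀ s : S, _root_.IsConnected (G.hom.base ⁻¹' {s}))
    (H : Over S) [GrpObj H] [Smooth H.hom] (i : H ⟶ G) [IsMonHom i] [Mono i]
    (hHconn : ∀ s : S, ConnectedSpace ↥(Red.geomFibre s H).left)
    (hHC : ∀ s : S, ∃ (C' : Over (Spec (CommRingCat.of (AlgebraicClosure (S.residueField s))))) (_ : GrpObj C')
      (c' : C' ⟶ Red.geomFibre s H), SGA3x.IsCartanOver _ (c' ≫ (Over.pullback (Red.geomPt s)).map i))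
    (C : Over S) [GrpObj C] (c : C ⟶ G) (hC : SGA3x.IsCartan c) :
    (∃ (M : Over S) (m : M ⟶ G), IsClosedImmersion m.left ∧ Smooth M.hom ∧ Surjective M.hom ∧
      ∀ (X : Over S) (g : X ⟶ G), (∃ z : X ⟶ M, z ≫ m = g) ↔
        ∀ (X' : Over S) (x : X' ⟶ X) (y : X' ⟶ C), ∃ h : X' ⟶ H, (x ≫ g) * (y ≫ c) * (x ≫ g)⁻¹ = h ≫ i) ∧
    (∀ (T : Over S) [GrpObj T] (t : T ⟶ G), Red.IsMaximalTorus t → Red.IsCentralizerOf t c →
      ∀ (X : Over S) (g : X ⟶ G),
        (∀ (X' : Over S) (x : X' ⟶ X) (y : X' ⟶ T), ∃ h : X' ⟶ H, (x ≫ g) * (y ≫ t) * (x ≫ g)⁻¹ = h ≫ i) ↔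
        (∀ (X' : Over S) (x : X' ⟶ X) (y : X' ⟶ C), ∃ h : X' ⟶ H, (x ≫ g) * (y ≫ c) * (x ≫ g)⁻¹ = h ≫ i)) := by
  haveI : IsSeparated G.hom := Groth.L08.ActSep.isSeparated_of_connected hconn (Groth.L08.ActSep.leftMul G)
    (Groth.L08.ActSep.surjective_leftMul G)
  haveI := hC.1; haveI := hC.2.1; haveI := hC.2.2.1
  refine ⟨?_, fun T gT t ht hcen X g => ⟨fun h => ?_, fun h => ?_⟩⟩
  · haveI : Mono i.left := inferInstanceAs (Mono ((Over.forget S).map i))
    haveI : LocallyOfFinitePresentation i.left := by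
      haveI : LocallyOfFinitePresentation (i.left ≫ G.hom) := by rw [Over.w i]; infer_instance
      exact Groth.L20.locallyOfFinitePresentation_of_comp i.left G.hom
    obtain ⟨W, w, hwc, hwl, hW⟩ :=
      Groth.L02.SchDom.exists_conjTransporter (Groth.L08.Borel.irrFib_of_isCartan hconn hC) c i
    haveI := hwc; haveI := hwl
    haveI : Mono w := Over.mono_of_mono_left w
    haveI := Groth.L08.Borel.smooth_sends_cartan hconn c hC i w hW
    refine ⟨W, w, hwc, inferInstance, ⟨fun s => ?_⟩, hW⟩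
    suffices hpt : Nonempty (Over.mk (Red.geomPt s) ⟶ W) by
      obtain ⟨p⟩ := hpt
      exact ⟨p.left (IsLocalRing.closedPoint _), by
        rw [← Scheme.Hom.comp_apply, Over.w p]
        show (Spec.map _ ≫ S.fromSpecResidueField s) _ = s
        rw [Scheme.Hom.comp_apply]
        exact S.fromSpecResidueField_apply s _⟩
    obtain ⟨-, -, T, gT, t, ht, hcen⟩ := hC.2.2.2 s
    obtain ⟨C', gC', c', -, -, T', gT', t', ht', hcen'⟩ := hHC s
    haveI : Smooth (Red.geomFibre s G).hom := inferInstanceAs (Smooth (CategoryTheory.Limits.pullback.snd G.hom (Red.geomPt s)))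
    haveI : QuasiCompact (Red.geomFibre s G).hom :=
      inferInstanceAs (QuasiCompact (CategoryTheory.Limits.pullback.snd G.hom (Red.geomPt s)))
    obtain ⟨g, f, hf⟩ := Groth.L08.Borel.exists_maxTorus_conj_any (Groth.L08.Borel.isMaxTorus_of_isMaximalTorus ht)
      (Groth.L08.Borel.isMaxTorus_of_isMaximalTorus ht')
    let cs := (Over.pullback (Red.geomPt s)).map c
    let y : Red.geomFibre s C ⟶ Red.geomFibre s G := (toUnit _ ≫ g) * cs * (toUnit _ ≫ g)⁻¹
    obtain ⟨φ, hφ⟩ := (hcen'.2.2 _ y).2 fun X' x r => by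
      have h1 := (hcen.2.2 _ cs).1 ⟨𝟙 _, Category.id_comp _⟩ X' x (r ≫ f.inv)
      have h2 : r ≫ t' = r ≫ f.inv ≫ AGF.conjBy g t := by rw [← hf, Iso.inv_hom_id_assoc]
      rw [h2]
      simp only [y, AGF.conjBy, MonObj.comp_mul, GrpObj.comp_inv, ← Category.assoc,
        toUnit_unique ((r ≫ f.inv) ≫ toUnit T) (x ≫ toUnit _)] at h1 ⊢
      generalize (x ≫ toUnit _) ≫ g = a at h1 ⊢
      generalize x ≫ cs = b at h1 ⊢
      generalize (r ≫ f.inv) ≫ t = e at h1 ⊢
      calc a * b * a⁻¹ * (a * e * a⁻¹) = a * (b * e) * a⁻¹ := by group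
        _ = a * (e * b) * a⁻¹ := by rw [h1]
        _ = (a * e * a⁻¹) * (a * b * a⁻¹) := by group
    let j := Red.geomPt s
    let e : Over.mk j ⟶ Over.mk ((𝟙_ (Over _)).hom ≫ j) := Over.homMk (𝟙 _) (by
      show 𝟙 _ ≫ 𝟙 _ ≫ j = j
      rw [Category.id_comp, Category.id_comp])
    let x : Over.mk j ⟶ G := e ≫ Groth.L25.NilAction.toBase j g
    have hx : ∀ (Y : Over (Spec (CommRingCat.of (AlgebraicClosure (S.residueField s))))),
        Groth.L25.NilAction.toBase j (toUnit Y ≫ g) =
          (Over.homMk Y.hom rfl : Over.mk (Y.hom ≫ j) ⟶ Over.mk j) ≫ x := fun Y => by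
      apply Over.OverMorphism.ext
      show ((toUnit Y).left ≫ g.left) ≫ _ = Y.hom ≫ 𝟙 _ ≫ g.left ≫ _
      rw [show (toUnit Y).left = Y.hom from (Category.comp_id _).symm.trans (Over.w (toUnit Y)), Category.id_comp,
        Category.assoc]
    have hs := Groth.L08.Borel.exists_sends_of_fibre j (i₁ := c) (i₂ := i) g (φ ≫ c') (by
      rw [Category.assoc]; exact hφ) x hx
    obtain ⟨wp, -⟩ := (hW _ x).2 hs
    exact ⟨wp⟩
  · exact Groth.L08.Borel.sends_centralizer_of_sends_torus i hHconn hHC c t ht hcen g h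
  · intro X' x y
    haveI := ht.1
    obtain ⟨t', ht'⟩ := (hcen.2.2 T t).2 fun X'' x' s => by
      rw [← MonObj.mul_comp, ← MonObj.mul_comp,
        Groth.L25.Central.mul_comm_of_multTypeFT (Groth.L25.Locus.isMultTypeFT_of_isTorus ht.2.2.1) x' s]
    obtain ⟨hh, e⟩ := h X' x (y ≫ t')
    exact ⟨hh, by rw [← e, Category.assoc, ht']⟩

end Groth.Agent.S8442
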