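import Groth.Statements.S8443
import Groth.Agent.L08.Borel.TorusIntoSub
import Groth.Agent.L08.Borel.CartanTorus
import Groth.Agent.L08.ActSepConn
import Groth.Agent.L08.GrpQC
-- import your own Groth.Agent.* helpers here

set_option autoImplicit false
set_option backward.isDefEq.respectTransparency.types false
set_option linter.style.haveILetI false
universe u
open CategoryTheory MonoidalCategory CartesianMonoidalCategory MonObj GrpObj AlgebraicGeometry
open SGA3x

namespace Groth.L08.Borel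
open CategoryTheory.Limits Groth.L25.NilAction

/-- a maximal torus transported into a subgroup containing Cartans, etale locally -/
theorem exists_maximalTorus_sub {S S₁ : Scheme.{u}} (π : S₁ ⟶ S) {G H : Over S} [GrpObj G] [GrpObj H]
    [Smooth G.hom] [QuasiCompact G.hom] [IsSeparated G.hom] [Smooth H.hom] (i : H ⟶ G) [IsMonHom i] [Mono i]
    (hHconn : ∀ s : S, ConnectedSpace ↥(Red.geomFibre s H).left)
    (hHC : ∀ s : S, ∃ (C' : Over (Spec (CommRingCat.of (AlgebraicClosure (S.residueField s))))) (_ : GrpObj C')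
      (c' : C' ⟶ Red.geomFibre s H), SGA3x.IsCartanOver _ (c' ≫ (Over.pullback (Red.geomPt s)).map i))
    {T : Over S₁} [GrpObj T] {t : T ⟶ Red.bc π G} (ht : Red.IsMaximalTorus t) :
    ∃ (S₂ : Scheme.{u}) (F : S₂ ⟶ S₁), Etale F ∧ Surjective F ∧
      ∃ (B : Over S₂) (_ : GrpObj B) (b : B ⟶ Red.bc (F ≫ π) H), Red.IsMaximalTorus b := by
  haveI := ht.1; haveI := ht.2.1
  haveI : Smooth (Red.bc π G).hom := MorphismProperty.pullback_snd G.hom π ‹_›
  haveI : QuasiCompact (Red.bc π G).hom := MorphismProperty.pullback_snd G.hom π ‹_›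
  haveI : IsSeparated (Red.bc π G).hom := MorphismProperty.pullback_snd G.hom π ‹_›
  haveI : Smooth (Red.bc π H).hom := MorphismProperty.pullback_snd H.hom π ‹_›
  let i₁ := (Over.pullback π).map i
  haveI : IsMonHom i₁ := Groth.L25.MonoClosed.isMonHom_pullbackMap _ _
  haveI : Mono i₁ := Functor.map_mono _ _
  haveI : Mono i₁.left := inferInstanceAs (Mono ((Over.forget S₁).map i₁))
  haveI : LocallyOfFinitePresentation i₁.left := by
    haveI : LocallyOfFinitePresentation (i₁.left ≫ (Red.bc π G).hom) := by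
      erw [Over.w i₁]; exact inferInstanceAs (LocallyOfFinitePresentation (Red.bc π H).hom)
    exact Groth.L20.locallyOfFinitePresentation_of_comp i₁.left (Red.bc π G).hom
  haveI : Smooth T.hom := smooth_of_isTorus ht.2.2.1
  obtain ⟨W, w, hwc, hwl, hW⟩ := Groth.L02.SchDom.exists_conjTransporter (irrFib_of_isTorus ht.2.2.1) t i₁
  haveI := hwc; haveI := hwl
  haveI : Mono w := Over.mono_of_mono_left w
  haveI := Groth.L25.Locus.smooth_sends_smooth
    (Groth.L25.Locus.locally_of_multTypeFT (Groth.L25.Locus.isMultTypeFT_of_isTorus ht.2.2.1)) t i₁ w hW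
  have hpt : ∀ p : S₁, Nonempty (Over.mk (Red.geomPt p) ⟶ W) := by
    intro p
    obtain ⟨θ, hθ⟩ := exists_geomPt_map π p
    obtain ⟨C', gC', c', hC'⟩ := hHC (π p)
    let q := Red.geomPt p ≫ π
    obtain ⟨T₀, gT₀, t₀, hT₀, hc₀⟩ := hasCartanIn_of_geomFibre i (π p) c' hC' θ hθ
    obtain ⟨-, -, -, -, hcomm⟩ := torus_props hT₀.2.2.1
    haveI := hT₀.1
    obtain ⟨tH, htH⟩ := hc₀ T₀ t₀ fun X x s => by rw [← MonObj.mul_comp, ← MonObj.mul_comp, hcomm X x s]
    let ep := ActBC.bcCompIso (Red.geomPt p) π H (rfl : Red.geomPt p ≫ π = q)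
    let eG := ActBC.bcCompIso (Red.geomPt p) π G (rfl : Red.geomPt p ≫ π = q)
    haveI : IsMonHom eG.hom := inferInstance
    haveI : IsMonHom eG.inv := inferInstance
    let F := Over.pullback (Red.geomPt p)
    haveI : Smooth (Red.bc q G).hom := MorphismProperty.pullback_snd G.hom q ‹_›
    haveI : QuasiCompact (Red.bc q G).hom := MorphismProperty.pullback_snd G.hom q ‹_›
    haveI : IsMonHom (F.map t) := Groth.L25.MonoClosed.isMonHom_pullbackMap _ _
    haveI : Mono (F.map t) := Functor.map_mono _ _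
    have htp : AGF.IsMaxTorus (F.map t ≫ eG.hom) := by
      refine ⟨inferInstance, mono_comp _ _, Groth.L25.Locus.isTorus_bc ht.2.2.1 _, fun T₁ _ a _ _ f h₁ hf => ?_⟩
      exact ht.2.2.2 p T₁ (a ≫ eG.inv) f h₁ (by rw [reassoc_of% hf, Iso.hom_inv_id, Category.comp_id])
    obtain ⟨g, f, hf⟩ := exists_maxTorus_conj_any htp hT₀
    let g' : 𝟙_ (Over _) ⟶ Red.bc (Red.geomPt p) (Red.bc π G) := g ≫ eG.inv
    have hn : F.map i₁ ≫ eG.hom = ep.hom ≫ (Over.pullback q).map i :=
      ActBC.bcCompIso_hom_naturality (Red.geomPt p) π rfl i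
    have hn' : ep.inv ≫ F.map i₁ = (Over.pullback q).map i ≫ eG.inv :=
      (Iso.eq_comp_inv eG).2 ((Category.assoc _ _ _).trans ((congrArg (ep.inv ≫ ·) hn).trans (Iso.inv_hom_id_assoc ep _)))
    let j := Red.geomPt p
    let e : Over.mk j ⟶ Over.mk ((𝟙_ (Over _)).hom ≫ j) := Over.homMk (𝟙 _) (by
      show 𝟙 _ ≫ 𝟙 _ ≫ j = j
      rw [Category.id_comp, Category.id_comp])
    let x : Over.mk j ⟶ Red.bc π G := e ≫ toBase j g'
    have hx : ∀ (Y : Over (Spec (CommRingCat.of (AlgebraicClosure (S₁.residueField p))))),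
        toBase j (toUnit Y ≫ g') = (Over.homMk Y.hom rfl : Over.mk (Y.hom ≫ j) ⟶ Over.mk j) ≫ x := fun Y => by
      apply Over.OverMorphism.ext
      show ((toUnit Y).left ≫ g'.left) ≫ _ = Y.hom ≫ 𝟙 _ ≫ g'.left ≫ _
      rw [show (toUnit Y).left = Y.hom from (Category.comp_id _).symm.trans (Over.w (toUnit Y)), Category.id_comp,
        Category.assoc]
    have key : (f.hom ≫ tH ≫ ep.inv) ≫ F.map i₁ = (toUnit _ ≫ g') * F.map t * (toUnit _ ≫ g')⁻¹ := by
      calc (f.hom ≫ tH ≫ ep.inv) ≫ F.map i₁ = (f.hom ≫ t₀) ≫ eG.inv := by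
            simp only [Category.assoc]
            exact congrArg (f.hom ≫ ·) ((congrArg (tH ≫ ·) hn').trans
              ((Category.assoc tH _ _).symm.trans (congrArg (· ≫ eG.inv) htH)))
        _ = AGF.conjBy g (F.map t ≫ eG.hom) ≫ eG.inv := by rw [hf]
        _ = _ := by
            simp only [AGF.conjBy, MonObj.mul_comp, GrpObj.inv_comp, Category.assoc, Iso.hom_inv_id, Category.comp_id, g']
    obtain ⟨wp, -⟩ := (hW _ x).2 (exists_sends_of_fibre j (i₁ := t) (i₂ := i₁) g' _ key x hx)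
    exact ⟨wp⟩
  obtain ⟨S₂, F, hF, hFs, ⟨p⟩⟩ := exists_etale_cover_point W hpt
  obtain ⟨φ, hφ⟩ := Groth.L25.Locus.exists_half F t i₁ (x := p ≫ w) ((hW _ _).1 ⟨p, rfl⟩)
  haveI : Smooth (Red.bc F (Red.bc π G)).hom := MorphismProperty.pullback_snd _ F ‹_›
  haveI : QuasiCompact (Red.bc F (Red.bc π G)).hom := MorphismProperty.pullback_snd _ F ‹_›
  let iF := (Over.pullback F).map i₁
  haveI : IsMonHom iF := Groth.L25.MonoClosed.isMonHom_pullbackMap _ _
  haveI : Mono iF := Functor.map_mono _ _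
  have hm := isMaximalTorus_conj (isMaximalTorus_bc ht F) (Groth.L25.Locus.sectionOf F (p ≫ w))
  let eG := ActBC.bcCompIso F π G (rfl : F ≫ π = _)
  let eH := ActBC.bcCompIso F π H (rfl : F ≫ π = _)
  obtain ⟨b, hb⟩ : ∃ b : Red.bc F T ⟶ Red.bc (F ≫ π) H, b ≫ (Over.pullback (F ≫ π)).map i ≫ eG.inv = φ ≫ iF := by
    refine ⟨φ ≫ eH.hom, ?_⟩
    have hn : iF ≫ eG.hom = eH.hom ≫ (Over.pullback (F ≫ π)).map i := ActBC.bcCompIso_hom_naturality F π rfl i
    exact (Category.assoc φ eH.hom _).trans (congrArg (φ ≫ ·) ((Category.assoc _ _ _).symm.trans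
      (((Iso.comp_inv_eq eG).2 hn.symm))))
  refine ⟨S₂, F, hF, hFs, Red.bc F T, inferInstance, b, ?_⟩
  haveI := hm.1; haveI := hm.2.1
  haveI : IsMonHom ((Over.pullback (F ≫ π)).map i) := Groth.L25.MonoClosed.isMonHom_pullbackMap _ _
  haveI : Mono ((Over.pullback (F ≫ π)).map i) := Functor.map_mono _ _
  haveI : IsMonHom eG.inv := inferInstance
  let k := (Over.pullback (F ≫ π)).map i ≫ eG.inv
  haveI : IsMonHom k := inferInstanceAs (IsMonHom (_ ≫ _))
  haveI : Mono k := mono_comp _ _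
  have hbk : b ≫ k = _ := hb.trans hφ
  haveI : IsMonHom b := Groth.L25.Bridge.isMonHom_of_mul b fun X a a' => by
    rw [← cancel_mono k, Category.assoc, hbk, MonObj.mul_comp (a ≫ b) (a' ≫ b) k, Category.assoc, Category.assoc, hbk]
    exact MonObj.mul_comp a a' _
  haveI : Mono (b ≫ k) := hbk ▸ hm.2.1
  refine ⟨inferInstance, mono_of_mono b k, hm.2.2.1, fun s T₁ _ a _ _ f h₁ hf => ?_⟩
  haveI : IsMonHom ((Over.pullback (Red.geomPt s)).map k) := Groth.L25.MonoClosed.isMonHom_pullbackMap _ _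
  haveI : Mono ((Over.pullback (Red.geomPt s)).map k) := Functor.map_mono _ _
  haveI : IsMonHom (a ≫ (Over.pullback (Red.geomPt s)).map k) := inferInstance
  haveI : Mono (a ≫ (Over.pullback (Red.geomPt s)).map k) := mono_comp _ _
  exact hm.2.2.2 s T₁ (a ≫ (Over.pullback (Red.geomPt s)).map k) f h₁ (by rw [reassoc_of% hf, ← Functor.map_comp, hbk])

end Groth.L08.Borel

namespace Groth.Agent.S8443

/-- Let G be an S-group scheme, smooth and of finite presentation over S with connected fibres, and i :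
H → G a monomorphism of S-groups with H smooth over S whose geometric fibres are connected and
contain a Cartan subgroup of the corresponding geometric fibre of G. If G admits a maximal torus
locally for the etale topology (resp. for the fpqc topology), then so does H. (The published item
also covers Cartan subgroups; this row states only the maximal-torus halves.) -/
theorem result (S : Scheme.{u}) (G : Over S) [GrpObj G]
    [Smooth G.hom] [QuasiCompact G.hom] [QuasiSeparated G.hom] (hconn : ∀ s : S, _root_.IsConnected (G.hom.base ⁻¹' {s}))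
    (H : Over S) [GrpObj H] [Smooth H.hom] (i : H ⟶ G) [IsMonHom i] [Mono i]
    (hHconn : ∀ s : S, ConnectedSpace ↥(Red.geomFibre s H).left)
    (hHC : ∀ s : S, ∃ (C' : Over (Spec (CommRingCat.of (AlgebraicClosure (S.residueField s))))) (_ : GrpObj C')
      (c' : C' ⟶ Red.geomFibre s H), SGA3x.IsCartanOver _ (c' ≫ (Over.pullback (Red.geomPt s)).map i)) :
    (SGA3x.HasMaxTorusEtaleLocally G → SGA3x.HasMaxTorusEtaleLocally H) ∧
    (SGA3x.HasMaxTorusFpqcLocally G → SGA3x.HasMaxTorusFpqcLocally H) := by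
  haveI : IsSeparated G.hom := Groth.L08.ActSep.isSeparated_of_connected hconn (Groth.L08.ActSep.leftMul G)
    (Groth.L08.ActSep.surjective_leftMul G)
  constructor
  · rintro ⟨S₁, π, hπ, hπs, T, gT, t, ht⟩
    obtain ⟨S₂, F, hF, hFs, h⟩ := Groth.L08.Borel.exists_maximalTorus_sub π i hHconn hHC ht
    haveI := hπ; haveI := hπs; haveI := hF; haveI := hFs
    exact ⟨S₂, F ≫ π, inferInstance, inferInstance, h⟩
  · rintro ⟨S₁, π, hπ, hπs, hcov, T, gT, t, ht⟩
    obtain ⟨S₂, F, hF, hFs, h⟩ := Groth.L08.Borel.exists_maximalTorus_sub π i hHconn hHC ht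
    haveI := hπ; haveI := hπs; haveI := hF; haveI := hFs
    exact ⟨S₂, F ≫ π, inferInstance, inferInstance,
      Groth.L08.Borel.cover_comp F π (fun V hV => Groth.L08.Borel.cover_of_lfp F V hV) hcov, h⟩

end Groth.Agent.S8443
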