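import Groth.Statements.S8452
import Groth.Agent.L14.RankOne.PowTorus

set_option autoImplicit false
universe u
open CategoryTheory MonoidalCategory CartesianMonoidalCategory MonObj GrpObj AlgebraicGeometry CategoryTheory.Limits
open Red

namespace Groth.Agent.S8452

/-- Let (G, T, α, p₊, p₋, α^*) and (G', T', α', p'₊, p'₋, α'^*) be two rank-one systems over S: G
reductive, i : T ⟶ G a maximal torus, α a character of T non-trivial on every geometric fibre, p₊,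
p₋ : 𝔾_a ⟶ G monomorphisms normalised by T with multipliers α, α⁻¹ whose cell map (y, t, x) ↦ p₋(y)
i(t) p₊(x) is an open immersion, α^* : 𝔾_m ⟶ T with α ∘ α^* the squaring map and p₊(x) p₋(y) =
p₋(y/(1+xy)) · i(α^*(1+xy)) · p₊(x/(1+xy)) whenever 1 + xy is invertible; likewise for the primed
data. Let q > 0 be an integer such that x ↦ x^q is additive on all functions of S-schemes. For a
homomorphism f : G ⟶ G' the following are equivalent: (i) f restricted to T factors through a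
homomorphism f_T : T ⟶ T' with α' ∘ f_T = α^q and f_T ∘ α^* = (α'^*)^q; (ii) there is an S-point c
of 𝔾_m (it is then unique) with f(p₊(x)) = p'₊(c x^q) and f(p₋(y)) = p'₋(c⁻¹ y^q) for all points x,
y of 𝔾_a. -/
theorem result (S : Scheme.{u}) (G T : Over S) [GrpObj G] [GrpObj T] (i : T ⟶ G) [IsMonHom i] [Mono i] (hG : Red.IsReductive G) (hTm : Red.IsMaximalTorus i)
    (α : T ⟶ Red.Gm S) [IsMonHom α] (hα : ∀ s : S, (Over.pullback (Red.geomPt s)).map α ≠ 1)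
    (pp pm : Red.Ga S ⟶ G) [IsMonHom pp] [Mono pp] [IsMonHom pm] [Mono pm]
    (hpp : ∀ (X : Over S) (t : X ⟶ T) (x : X ⟶ Red.Ga S), ∃ x' : X ⟶ Red.Ga S,
      x' ≫ pp = (t ≫ i) * (x ≫ pp) * (t ≫ i)⁻¹ ∧ Red.gaFn x' = Red.gmFn (t ≫ α) * Red.gaFn x)
    (hpm : ∀ (X : Over S) (t : X ⟶ T) (y : X ⟶ Red.Ga S), ∃ y' : X ⟶ Red.Ga S,
      y' ≫ pm = (t ≫ i) * (y ≫ pm) * (t ≫ i)⁻¹ ∧ Red.gaFn y' * Red.gmFn (t ≫ α) = Red.gaFn y)
    (hΩ : IsOpenImmersion (((pm ⊗ₘ i) ⊗ₘ pp) ≫ (μ[G] ▷ G) ≫ μ[G]).left)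
    (av : Red.Gm S ⟶ T) [IsMonHom av] (h2 : av ≫ α = (𝟙 (Red.Gm S)) ^ 2)
    (hF : ∀ (X : Over S) (x y : X ⟶ Red.Ga S), IsUnit (1 + Red.gaFn x * Red.gaFn y) →
      ∃ (x' y' : X ⟶ Red.Ga S) (z : X ⟶ Red.Gm S), Red.gmFn z = 1 + Red.gaFn x * Red.gaFn y ∧
        Red.gaFn x' * Red.gmFn z = Red.gaFn x ∧ Red.gaFn y' * Red.gmFn z = Red.gaFn y ∧
        (x ≫ pp) * (y ≫ pm) = (y' ≫ pm) * (z ≫ av ≫ i) * (x' ≫ pp))
    (G' T' : Over S) [GrpObj G'] [GrpObj T'] (i' : T' ⟶ G') [IsMonHom i'] [Mono i'] (hG' : Red.IsReductive G') (hTm' : Red.IsMaximalTorus i')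
    (α' : T' ⟶ Red.Gm S) [IsMonHom α'] (hα' : ∀ s : S, (Over.pullback (Red.geomPt s)).map α' ≠ 1)
    (pp' pm' : Red.Ga S ⟶ G') [IsMonHom pp'] [Mono pp'] [IsMonHom pm'] [Mono pm']
    (hpp' : ∀ (X : Over S) (t : X ⟶ T') (x : X ⟶ Red.Ga S), ∃ x' : X ⟶ Red.Ga S,
      x' ≫ pp' = (t ≫ i') * (x ≫ pp') * (t ≫ i')⁻¹ ∧ Red.gaFn x' = Red.gmFn (t ≫ α') * Red.gaFn x)
    (hpm' : ∀ (X : Over S) (t : X ⟶ T') (y : X ⟶ Red.Ga S), ∃ y' : X ⟶ Red.Ga S,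
      y' ≫ pm' = (t ≫ i') * (y ≫ pm') * (t ≫ i')⁻¹ ∧ Red.gaFn y' * Red.gmFn (t ≫ α') = Red.gaFn y)
    (hΩ' : IsOpenImmersion (((pm' ⊗ₘ i') ⊗ₘ pp') ≫ (μ[G'] ▷ G') ≫ μ[G']).left)
    (av' : Red.Gm S ⟶ T') [IsMonHom av'] (h2' : av' ≫ α' = (𝟙 (Red.Gm S)) ^ 2)
    (hF' : ∀ (X : Over S) (x y : X ⟶ Red.Ga S), IsUnit (1 + Red.gaFn x * Red.gaFn y) →
      ∃ (x' y' : X ⟶ Red.Ga S) (z : X ⟶ Red.Gm S), Red.gmFn z = 1 + Red.gaFn x * Red.gaFn y ∧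
        Red.gaFn x' * Red.gmFn z = Red.gaFn x ∧ Red.gaFn y' * Red.gmFn z = Red.gaFn y ∧
        (x ≫ pp') * (y ≫ pm') = (y' ≫ pm') * (z ≫ av' ≫ i') * (x' ≫ pp'))
    (q : ℕ) (hq0 : 0 < q) (hq : ∀ (X : Over S) (a b : Γ(X.left, ⊤)), (a + b) ^ q = a ^ q + b ^ q) (f : G ⟶ G') [IsMonHom f] :
    (∃ fT : T ⟶ T', IsMonHom fT ∧ i ≫ f = fT ≫ i' ∧ fT ≫ α' = α ^ q ∧ av ≫ fT = av' ^ q) ↔
      ∃! c : 𝟙_ (Over S) ⟶ Red.Gm S,
        (∀ (X : Over S) (x y : X ⟶ Red.Ga S), Red.gaFn y = Red.gmFn (toUnit X ≫ c) * Red.gaFn x ^ q →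
          (x ≫ pp) ≫ f = y ≫ pp') ∧
        (∀ (X : Over S) (x y : X ⟶ Red.Ga S), Red.gaFn y * Red.gmFn (toUnit X ≫ c) = Red.gaFn x ^ q →
          (x ≫ pm) ≫ f = y ≫ pm') := by
  have H : Groth.L25.RankOne.Sys i α pp pm av := ⟨hpp, hpm, h2, hF⟩
  have H' : Groth.L25.RankOne.Sys i' α' pp' pm' av' := ⟨hpp', hpm', h2', hF'⟩
  have hT := hTm.2.2.1
  have hT' := hTm'.2.2.1
  open Groth.L14.RankOne in
  constructor
  · rintro ⟨fT, hfT, hfi, hfα, hfv⟩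
    have hi : OnCoroot i av i' av' f q := fun X z => by
      rw [Category.assoc, Category.assoc, hfi, ← Category.assoc av fT i', hfv, ← Category.assoc, MonObj.comp_pow]
    obtain ⟨m, hm⟩ := exists_onRoot H H' hT' hΩ' hi
    obtain ⟨n, hn⟩ := exists_onRoot_neg H H' hT' hΩ' hi
    have e := OnRoot.mul_eq_one H H' hΩ' hq0 hq hm hn hi
    let c : 𝟙_ (Over S) ⟶ Red.Gm S := GmPts.ptOfUnit (IsUnit.of_mul_eq_one (Red.gaFn n) e).unit
    have hc : ∀ X : Over S, Red.gmFn (toUnit X ≫ c) = Red.gaFn (toUnit X ≫ m) := fun X => by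
      rw [GmPts.gmFn_comp, GmPts.gmFn_ptOfUnit, Groth.L25.GaPts.gaFn_comp]; rfl
    refine ⟨c, ⟨fun X x y hy => hm X x y (by rw [hy, hc]), fun X x y hy => hn X x y ?_⟩, fun c' h' => ?_⟩
    · have eX := congrArg (toUnit X).left.appTop e
      rw [map_mul, map_one, ← Groth.L25.GaPts.gaFn_comp, ← Groth.L25.GaPts.gaFn_comp] at eX
      rw [hc] at hy
      linear_combination Red.gaFn (toUnit X ≫ n) * hy - Red.gaFn y * eX
    · let o : 𝟙_ (Over S) ⟶ Red.Ga S := Groth.L25.GaPts.ptOfElt 1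
      have ho : Red.gaFn o ^ q = 1 := by rw [Groth.L25.GaPts.gaFn_ptOfElt, one_pow]
      have h1 : (o ≫ pp) ≫ f = Groth.L25.GaPts.ptOfElt (Red.gmFn c') ≫ pp' := h'.1 _ o _ (by
        rw [Groth.L25.GaPts.gaFn_ptOfElt, ho, _root_.mul_one, toUnit_unique (toUnit _) (𝟙 _), Category.id_comp])
      have h2 : (o ≫ pp) ≫ f = Groth.L25.GaPts.ptOfElt (Red.gmFn c) ≫ pp' := hm _ o _ (by
        rw [Groth.L25.GaPts.gaFn_ptOfElt, ho, _root_.mul_one, ← hc, toUnit_unique (toUnit _) (𝟙 _), Category.id_comp])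
      have h3 := congrArg Red.gaFn ((cancel_mono pp').1 (h1.symm.trans h2))
      rw [Groth.L25.GaPts.gaFn_ptOfElt, Groth.L25.GaPts.gaFn_ptOfElt] at h3
      exact GmPts.gmFn_injective h3
  · rintro ⟨c, ⟨hcp, hcm⟩, -⟩
    have hm : OnRoot pp pp' f q (gaOf c) := fun X x y hy => hcp X x y (by rw [hy, gaFn_gaOf])
    have hn : OnRoot pm pm' f q (gaOf c⁻¹) := fun X x y hy => hcm X x y (by
      have := gaOf_mul_inv c X
      rw [gaFn_gaOf] at this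
      linear_combination Red.gmFn (toUnit X ≫ c) * hy + Red.gaFn x ^ q * this)
    have hi := onCoroot_of_onRoots H H' hq0 hq (gaOf_mul_inv c) hm hn
    have hcomm : ∀ {X : Over S} (a b : X ⟶ T), a * b = b * a := fun a b =>
      Groth.L25.Central.mul_comm_of_multTypeFT (Groth.L25.Locus.isMultTypeFT_of_isTorus hT) a b
    have hcomm' : ∀ {X : Over S} (a b : X ⟶ T'), a * b = b * a := fun a b =>
      Groth.L25.Central.mul_comm_of_multTypeFT (Groth.L25.Locus.isMultTypeFT_of_isTorus hT') a b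
    obtain ⟨fT, hfT, hfi⟩ := factors_torus hT hΩ' (i ≫ f) fun X t Y Z t' hd =>
      outer_eq_one H' hΩ' hq0 hq hcomm' (t := t') fun X' φ z => by
        rw [← hd, ← Groth.L14.RankOne.OnCoroot.apply H H' hi z]
        have e : ((GmPts.ptOfUnit z ≫ av ≫ i) ≫ f) * (φ ≫ t ≫ i ≫ f) =
            (φ ≫ t ≫ i ≫ f) * ((GmPts.ptOfUnit z ≫ av ≫ i) ≫ f) := by
          simp only [← Category.assoc]
          rw [← MonObj.mul_comp, ← MonObj.mul_comp, ← MonObj.mul_comp, ← MonObj.mul_comp, hcomm]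
        exact e
    refine ⟨fT, hfT, hfi, ?_, ?_⟩
    · refine GmPts.gmFn_injective ?_
      show Red.gmFn (fT ≫ α') = Red.gmFn (α ^ q)
      rw [gmFn_pow]
      let y₁ : T ⟶ Red.Ga S := Groth.L25.GaPts.ptOfElt (Red.gmFn (toUnit T ≫ c))
      let o : T ⟶ Red.Ga S := Groth.L25.GaPts.ptOfElt 1
      have h1 : (o ≫ pp) ≫ f = y₁ ≫ pp' := hcp T o y₁ (by
        simp only [y₁, o, Groth.L25.GaPts.gaFn_ptOfElt, one_pow, _root_.mul_one])
      obtain ⟨x', hx', hx''⟩ := hpp T (𝟙 T) o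
      let y₂ : T ⟶ Red.Ga S := Groth.L25.GaPts.ptOfElt (Red.gmFn (toUnit T ≫ c) * Red.gaFn x' ^ q)
      have h2 : (x' ≫ pp) ≫ f = y₂ ≫ pp' := hcp T x' y₂ (Groth.L25.GaPts.gaFn_ptOfElt _)
      obtain ⟨y₃, hy₃, hy₃'⟩ := hpp' T fT y₁
      have h3 : y₂ ≫ pp' = y₃ ≫ pp' := by
        rw [hy₃, ← h2, hx', MonObj.mul_comp, MonObj.mul_comp, GrpObj.inv_comp, h1, Category.id_comp, hfi]
      have h4 := congrArg Red.gaFn ((cancel_mono pp').1 h3)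
      simp only [y₂, Groth.L25.GaPts.gaFn_ptOfElt, hy₃', hx'', y₁, o, Category.id_comp, _root_.mul_one] at h4
      have hu := (GmPts.unitOfPt (toUnit T ≫ c)).isUnit
      rw [GmPts.val_unitOfPt] at hu
      exact hu.mul_left_cancel (by linear_combination -h4)
    · refine (cancel_mono i').1 ?_
      have e := hi (Red.Gm S) (𝟙 _)
      rw [Category.id_comp, Category.id_comp, Category.assoc, hfi, ← Category.assoc] at e
      exact e

end Groth.Agent.S8452
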