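import Groth.Statements.S8457
import Groth.Agent.L14.RankOne.GenRel

set_option autoImplicit false
set_option backward.isDefEq.respectTransparency.types false
universe u
open CategoryTheory MonoidalCategory CartesianMonoidalCategory MonObj GrpObj AlgebraicGeometry CategoryTheory.Limits
open Red

namespace Groth.Agent.S8457

/-- Generators and relations for a group of semisimple rank 1: for H an S-group scheme. Let G be a
reductive S-group, i : T ⟶ G a maximal torus, α a character of T non-trivial on every geometric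
fibre, p₊, p₋ : 𝔾_a ⟶ G monomorphisms of groups normalised by T with multipliers α and α⁻¹ whose
cell map (y, t, x) ↦ p₋(y) i(t) p₊(x) is an open immersion 𝔾_a ×_S T ×_S 𝔾_a ⟶ G, and α^* : 𝔾_m ⟶ T
the coroot: α ∘ α^* is the squaring map and p₊(x) p₋(y) = p₋(y/(1+xy)) · i(α^*(1+xy)) · p₊(x/(1+xy))
whenever 1 + xy is invertible (so p₊ and p₋ are dual to each other). Let e₁, em be the S-points of
𝔾_a with coordinates 1, -1 and m the S-point of 𝔾_m with coordinate -1; put u = p₊(e₁) and w =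
p₊(e₁) p₋(em) p₊(e₁). Let H be an S-group scheme, f_T : T ⟶ H and f_α : 𝔾_a ⟶ H homomorphisms and h
an S-point of H. Then there is exactly one homomorphism f : G ⟶ H with f ∘ i = f_T, f ∘ p₊ = f_α and
f(w) = h if and only if: (1) f_T(t) f_α(x) f_T(t)⁻¹ = f_α(α(t) x) for all points t of T and x of
𝔾_a; (2) h f_T(t) h⁻¹ = f_T(t · α^*(α(t))⁻¹) for all points t of T; (3) h² = f_T(α^*(m)); (4) (h ·
f_α(e₁))³ = e. (The published statement allows H to be any fppf sheaf of groups.) -/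
theorem result (S : Scheme.{u}) (G T : Over S) [GrpObj G] [GrpObj T] (i : T ⟶ G) [IsMonHom i] [Mono i] (hG : Red.IsReductive G) (hTm : Red.IsMaximalTorus i)
    (α : T ⟶ Red.Gm S) [IsMonHom α] (hα : ∀ s : S, (Over.pullback (Red.geomPt s)).map α ≠ 1)
    (pp pm : Red.Ga S ⟶ G) [IsMonHom pp] [Mono pp] [IsMonHom pm] [Mono pm]
    (hpp : ∀ (X : Over S) (t : X ⟶ T) (x : X ⟶ Red.Ga S), ∃ x' : X ⟶ Red.Ga S,
      x' ≫ pp = (t ≫ i) * (x ≫ pp) * (t ≫ i)⁻¹ ∧ Red.gaFn x' = Red.gmFn (t ≫ α) * Red.gaFn x)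
    (hpm : ∀ (X : Over S) (t : X ⟶ T) (y : X ⟶ Red.Ga S), ∃ y' : X ⟶ Red.Ga S,
      y' ≫ pm = (t ≫ i) * (y ≫ pm) * (t ≫ i)⁻¹ ∧ Red.gaFn y' * Red.gmFn (t ≫ α) = Red.gaFn y)
    (hΩ : IsOpenImmersion (((pm ⊗ₘ i) ⊗ₘ pp) ≫ (μ[G] ▷ G) ≫ μ[G]).left)
    (av : Red.Gm S ⟶ T) [IsMonHom av] (h2 : av ≫ α = (𝟙 (Red.Gm S)) ^ 2)
    (hF : ∀ (X : Over S) (x y : X ⟶ Red.Ga S), IsUnit (1 + Red.gaFn x * Red.gaFn y) →
      ∃ (x' y' : X ⟶ Red.Ga S) (z : X ⟶ Red.Gm S), Red.gmFn z = 1 + Red.gaFn x * Red.gaFn y ∧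
        Red.gaFn x' * Red.gmFn z = Red.gaFn x ∧ Red.gaFn y' * Red.gmFn z = Red.gaFn y ∧
        (x ≫ pp) * (y ≫ pm) = (y' ≫ pm) * (z ≫ av ≫ i) * (x' ≫ pp))
    (e₁ em : 𝟙_ (Over S) ⟶ Red.Ga S) (he₁ : Red.gaFn e₁ = 1) (hem : Red.gaFn em = -1)
    (m : 𝟙_ (Over S) ⟶ Red.Gm S) (hm : Red.gmFn m = -1)
    (H : Over S) [GrpObj H] (fT : T ⟶ H) [IsMonHom fT] (fα : Red.Ga S ⟶ H) [IsMonHom fα] (h : 𝟙_ (Over S) ⟶ H) :
    (∃! f : G ⟶ H, IsMonHom f ∧ i ≫ f = fT ∧ pp ≫ f = fα ∧ ((e₁ ≫ pp) * (em ≫ pm) * (e₁ ≫ pp)) ≫ f = h) ↔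
      ((∀ (X : Over S) (t : X ⟶ T) (x x' : X ⟶ Red.Ga S), Red.gaFn x' = Red.gmFn (t ≫ α) * Red.gaFn x →
          (t ≫ fT) * (x ≫ fα) * (t ≫ fT)⁻¹ = x' ≫ fα) ∧
        (∀ (X : Over S) (t : X ⟶ T), (toUnit X ≫ h) * (t ≫ fT) * (toUnit X ≫ h)⁻¹ = (t * (t ≫ α ≫ av)⁻¹) ≫ fT) ∧
        h ^ 2 = m ≫ av ≫ fT ∧ (h * (e₁ ≫ fα)) ^ 3 = 1) := by
  have Sy : Groth.L25.RankOne.Sys i α pp pm av := ⟨hpp, hpm, h2, hF⟩
  open Groth.L14.RankOne Groth.L25 Groth.L25.RankOne in
  have he : ∀ X : Over S, (GaPts.ptOfElt (1 : Γ(X.left, ⊤)) : X ⟶ Red.Ga S) = toUnit X ≫ e₁ := fun X =>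
    GaPts.gaFn_injective (by
      show Red.gaFn _ = Red.gaFn _
      rw [GaPts.gaFn_ptOfElt, GaPts.gaFn_comp, he₁, map_one])
  open Groth.L14.RankOne Groth.L25 Groth.L25.RankOne in
  have hme : ∀ X : Over S, (GaPts.ptOfElt (-1 : Γ(X.left, ⊤)) : X ⟶ Red.Ga S) = toUnit X ≫ em := fun X =>
    GaPts.gaFn_injective (by
      show Red.gaFn _ = Red.gaFn _
      rw [GaPts.gaFn_ptOfElt, GaPts.gaFn_comp, hem, map_neg, map_one])
  open Groth.L14.RankOne Groth.L25 Groth.L25.RankOne in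
  have hmm : ∀ X : Over S, (GmPts.ptOfUnit (-1 : (Γ(X.left, ⊤))ˣ) : X ⟶ Red.Gm S) = toUnit X ≫ m := fun X =>
    GmPts.gmFn_injective (by
      show Red.gmFn _ = Red.gmFn _
      rw [GmPts.gmFn_ptOfUnit, GmPts.gmFn_comp, hm, map_neg, map_one, Units.val_neg, Units.val_one])
  let w₀ : 𝟙_ (Over S) ⟶ G := (e₁ ≫ pp) * (em ≫ pm) * (e₁ ≫ pp)
  open Groth.L14.RankOne Groth.L25 Groth.L25.RankOne in
  have hw : ∀ X : Over S, toUnit X ≫ w₀ = (rel Sy X).w 1 := fun X => by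
    show _ = (GaPts.ptOfElt _ ≫ pp) * (GaPts.ptOfElt _ ≫ pm) * (GaPts.ptOfElt _ ≫ pp)
    simp only [w₀, MonObj.comp_mul, Units.val_one, inv_one, he, hme, Category.assoc]
  constructor
  · rintro ⟨f, ⟨hf, hfT, hfα, hfw⟩, -⟩
    open Groth.L14.RankOne Groth.L25 Groth.L25.RankOne in
    have hfh : ∀ X : Over S, toUnit X ≫ h = (rel Sy X).w 1 ≫ f := fun X => by
      rw [← hw, Category.assoc]; exact congrArg (toUnit X ≫ ·) hfw.symm
    open Groth.L14.RankOne Groth.L25 Groth.L25.RankOne in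
    refine ⟨fun X t x x' hx => ?_, fun X t => ?_, ?_, ?_⟩
    · obtain ⟨x₁, h1, h3⟩ := hpp X t x
      obtain rfl : x' = x₁ := GaPts.gaFn_injective (hx.trans h3.symm)
      simp only [← hfT, ← hfα, ← Category.assoc, h1, MonObj.mul_comp, GrpObj.inv_comp]
    · open Groth.L14.RankOne Groth.L25 Groth.L25.RankOne in
      rw [hfh, ← hfT, ← Category.assoc, ← GrpObj.inv_comp, ← MonObj.mul_comp, ← MonObj.mul_comp, w_conj_torus Sy,
        Central.mul_comm_of_multTypeFT (Locus.isMultTypeFT_of_isTorus hTm.2.2.1) t, MonObj.mul_comp, MonObj.mul_comp,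
        GrpObj.inv_comp, GrpObj.inv_comp]
      simp only [Category.assoc]
    · open Groth.L14.RankOne Groth.L25 Groth.L25.RankOne in
      have h3 : toUnit (𝟙_ (Over S)) = 𝟙 _ := toUnit_unique _ _
      open Groth.L14.RankOne Groth.L25 Groth.L25.RankOne in
      have h4 := hfh (𝟙_ (Over S))
      open Groth.L14.RankOne Groth.L25 Groth.L25.RankOne in
      rw [h3, Category.id_comp] at h4
      open Groth.L14.RankOne Groth.L25 Groth.L25.RankOne in
      rw [pow_two, h4, ← MonObj.mul_comp, (rel Sy _).w_mul_w 1 1 (-1) (by simp), ← hfT]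
      open Groth.L14.RankOne Groth.L25 Groth.L25.RankOne in
      show (GmPts.ptOfUnit _ ≫ av ≫ i) ≫ f = _
      open Groth.L14.RankOne Groth.L25 Groth.L25.RankOne in
      rw [hmm, h3, Category.id_comp, Category.assoc, Category.assoc]
    · open Groth.L14.RankOne Groth.L25 Groth.L25.RankOne in
      have h3 : toUnit (𝟙_ (Over S)) = 𝟙 _ := toUnit_unique _ _
      open Groth.L14.RankOne Groth.L25 Groth.L25.RankOne in
      have h4 := hfh (𝟙_ (Over S))
      open Groth.L14.RankOne Groth.L25 Groth.L25.RankOne in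
      rw [h3, Category.id_comp] at h4
      open Groth.L14.RankOne Groth.L25 Groth.L25.RankOne in
      have hc : ((rel Sy (𝟙_ (Over S))).w 1 * (rel Sy _).a 1) ^ 3 = 1 := by
        let R := rel Sy (𝟙_ (Over S))
        have hb := braid Sy (X := 𝟙_ (Over S)) 1
        simp only [Units.val_one, inv_one] at hb
        have hwd : R.w 1 = R.a 1 * R.b (-1) * R.a 1 := by simp [Rel.w]
        have h5 : R.w 1 * R.a 1 = R.b (-1) * R.w 1 := by
          conv_lhs => rw [hwd, hb]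
          rw [hwd]; group
          rfl
        have h6 : R.w 1 * R.b (-1) = R.a 1 * R.w 1 := by
          conv_rhs => rw [hwd, hb]
          rw [hwd]; group
          rfl
        have h7 : R.w 1 * R.w 1 = R.h (-1) := R.w_mul_w 1 1 (-1) (by simp)
        have h8 : R.h (-1) * R.b (-1) = R.b (-1) * R.h (-1) := by rw [R.h_mul_b]; simp
        show (R.w 1 * R.a 1) ^ 3 = 1
        calc (R.w 1 * R.a 1) ^ 3 = R.b (-1) * (R.w 1 * R.b (-1)) * R.w 1 * R.b (-1) * R.w 1 := by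
              rw [h5, pow_succ, pow_two]; group
          _ = R.b (-1) * R.a 1 * (R.w 1 * R.w 1 * R.b (-1)) * R.w 1 := by rw [h6]; group
          _ = (R.b (-1) * R.a 1 * R.b (-1)) * R.h (-1) * R.w 1 := by rw [h7, h8]; group
          _ = R.w 1 * (R.w 1 * R.w 1) * R.w 1 := by rw [← hb, ← hwd, h7]
          _ = (R.w 1 * R.w 1) * (R.w 1 * R.w 1) := by group
          _ = 1 := by rw [h7, ← R.h_mul, neg_mul_neg, _root_.one_mul, R.h_one]
      open Groth.L14.RankOne Groth.L25 Groth.L25.RankOne in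
      rw [h4, ← hfα, ← Category.assoc,
        show e₁ ≫ pp = (rel Sy (𝟙_ (Over S))).a 1 by rw [pp_eq Sy, he₁], ← MonObj.mul_comp]
      open Groth.L14.RankOne Groth.L25 Groth.L25.RankOne in
      rw [← MonObj.pow_comp, hc, MonObj.one_comp]
  · rintro ⟨c1, c2, c3, c4⟩
    open Groth.L14.RankOne Groth.L25 Groth.L25.RankOne in
    have C : GenCond (α := α) (av := av) fT fα h := by
      refine ⟨c1, c2, fun X => ?_, fun X => ?_⟩
      · rw [← MonObj.comp_mul, ← pow_two, c3, hmm, Category.assoc]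
      · rw [he, Category.assoc, ← MonObj.comp_mul, ← MonObj.comp_pow, c4, MonObj.comp_one]
    obtain ⟨hflat, hsurj⟩ := ((Groth.Agent.S5421.result S T hTm.2.2.1 α).2).1 hα
    open Groth.L14.RankOne Groth.L25 Groth.L25.RankOne in
    have hcomm : ∀ {X : Over S} (a b : X ⟶ T), a * b = b * a := fun a b =>
      Central.mul_comm_of_multTypeFT (Locus.isMultTypeFT_of_isTorus hTm.2.2.1) a b
    open Groth.L14.RankOne Groth.L25 Groth.L25.RankOne in
    haveI := isMonHom_oppRoot fα h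
    open Groth.L14.RankOne Groth.L25 Groth.L25.RankOne in
    obtain ⟨H', hbase⟩ := sys_gen Sy C hcomm
    open Groth.L14.RankOne Groth.L25 Groth.L25.RankOne in
    obtain ⟨f, hf, hfT, hfa, hfb⟩ := exists_hom Sy H' hG hΩ hcomm
    open Groth.L14.RankOne Groth.L25 Groth.L25.RankOne in
    refine ⟨f, ⟨hf, hfT, hfa, ?_⟩, ?_⟩
    · open Groth.L14.RankOne Groth.L25 Groth.L25.RankOne in
      have := hbase (𝟙_ (Over S))
      open Groth.L14.RankOne Groth.L25 Groth.L25.RankOne in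
      rw [he, hme, show toUnit (𝟙_ (Over S)) = 𝟙 _ from toUnit_unique _ _, Category.id_comp, Category.id_comp,
        Category.id_comp] at this
      open Groth.L14.RankOne Groth.L25 Groth.L25.RankOne in
      rw [MonObj.mul_comp, MonObj.mul_comp, Category.assoc, Category.assoc, hfa, hfb]
      exact this
    · rintro g ⟨hg, hgT, hga, hgw⟩
      open Groth.L14.RankOne Groth.L25 Groth.L25.RankOne in
      refine hom_ext_cell hG hΩ g f (hgT.trans hfT.symm) (hga.trans hfa.symm) ?_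
      open Groth.L14.RankOne Groth.L25 Groth.L25.RankOne in
      have key : pm ≫ g = oppRoot fα h := by
        rw [← Category.id_comp (oppRoot fα h), comp_oppRoot]
        have e := w_one_conj_root Sy (X := Red.Ga S) (-Red.gaFn (𝟙 (Red.Ga S)))
        rw [neg_neg, ← pm_eq Sy, Category.id_comp] at e
        rw [← e, ← hw, MonObj.mul_comp, MonObj.mul_comp, GrpObj.inv_comp, Category.assoc (toUnit _) w₀ g, hgw,
          show (rel Sy (Red.Ga S)).a (-Red.gaFn (𝟙 (Red.Ga S))) = (𝟙 (Red.Ga S))⁻¹ ≫ pp by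
            rw [pp_eq Sy, GaPts.gaFn_inv],
          Category.assoc ((𝟙 (Red.Ga S))⁻¹) pp g, hga]
      rw [key, hfb]

end Groth.Agent.S8457
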