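import Groth.Statements.S8458
import Groth.Agent.L14.Chart.Global
import Groth.Agent.L14.Chart.RootCombo

set_option autoImplicit false
set_option backward.isDefEq.respectTransparency.types false
universe u
open CategoryTheory MonoidalCategory CartesianMonoidalCategory MonObj GrpObj AlgebraicGeometry CategoryTheory.Limits
open Red

namespace Groth.Agent.S8458

/-- Let G be a split reductive S-group with splitting D (root homomorphisms u_c : 𝔾_a ⟶ G for all roots
c) and let a, b be two roots with a + b ≠ 0 such that a + b is not a root. Then u_a(x) u_b(y) =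
u_b(y) u_a(x) for all points x, y of 𝔾_a with values in any S-scheme. -/
theorem result (S : Scheme.{u}) (G : Over S) [GrpObj G] (D : Red.SplitRed G)
    (a b : D.idx) (h0 : D.P.root a + D.P.root b ≠ 0) (hab : D.P.root a + D.P.root b ∉ Set.range D.P.root)
    (X : Over S) (x y : X ⟶ Red.Ga S) :
    (x ≫ D.u a) * (y ≫ D.u b) = (y ≫ D.u b) * (x ≫ D.u a) := by
  refine Groth.L14.Chart.hom_ext_open fun R _ j _ C _ _ t => ?_
  rw [MonObj.comp_mul, MonObj.comp_mul, ← Category.assoc, ← Category.assoc,
    ← Groth.L14.RankOne.gp_gv (t ≫ x), ← Groth.L14.RankOne.gp_gv (t ≫ y)]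
  exact Groth.L14.Chart.commute_of_no_combo j D.rootHom a b
    (fun i k hi hk => Groth.L14.Chart.RootCombo.no_combo D.P h0 hab hi hk) _ _

end Groth.Agent.S8458
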