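import Groth.Statements.S8460
import Groth.Agent.L14.Chev.Braid

set_option autoImplicit false
set_option backward.isDefEq.respectTransparency.types false
universe u
open CategoryTheory MonoidalCategory CartesianMonoidalCategory MonObj GrpObj AlgebraicGeometry CategoryTheory.Limits
open Red

namespace Groth.Agent.S8460

/-- Let G be a pinned reductive S-group: a splitting D (maximal torus T ≅ D_S(M), root datum with root
homomorphisms u_c : 𝔾_a ⟶ G for all roots c, system of simple roots Δ) such that for every simple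
root a the root homomorphisms of a and -a are dual to each other: u_a(x) u_{-a}(y) =
u_{-a}(y/(1+xy)) · a^∨(1+xy) · u_a(x/(1+xy)) whenever 1 + xy is invertible, where a^∨ : 𝔾_m ⟶ T is
the coroot of a read through the splitting. For a root a put w_a = u_a(1) u_{-a}(-1) u_a(1) (an
S-point of G). Let a ≠ b be simple roots with ⟨b, a^∨⟩ = -1 and ⟨a, b^∨⟩ = -1 (the pair spans a
system of type A₂). Then t_{ab} = (w_a w_b)^3 = e = (w_b w_a)^3. (The published statement is for a
pinned group whose simple roots are exactly a and b; this row states it for two simple roots a ≠ b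
of any pinned group.) -/
theorem result (S : Scheme.{u}) (e₁ : 𝟙_ (Over S) ⟶ Red.Ga S) (he₁ : Red.gaFn e₁ = 1)
    (G : Over S) [GrpObj G] (D : Red.Pinning G)
    (avc : D.idx → (Red.Gm S ⟶ D.T))
    (havc : ∀ a, avc a = Red.DSmap S (D.P.coroot a).toAddMonoidHom ≫ D.split.inv.hom.hom)
    (hpair : ∀ a ∈ D.base.support, ∀ (X : Over S) (x y : X ⟶ Red.Ga S), IsUnit (1 + Red.gaFn x * Red.gaFn y) →
        ∃ (x' y' : X ⟶ Red.Ga S) (z : X ⟶ Red.Gm S), Red.gmFn z = 1 + Red.gaFn x * Red.gaFn y ∧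
          Red.gaFn x' * Red.gmFn z = Red.gaFn x ∧ Red.gaFn y' * Red.gmFn z = Red.gaFn y ∧
          (x ≫ D.u a) * (y ≫ D.u (D.P.reflectionPerm a a)) = (y' ≫ D.u (D.P.reflectionPerm a a)) * (z ≫ avc a ≫ D.i) * (x' ≫ D.u a))
    (w : D.idx → (𝟙_ (Over S) ⟶ G))
    (hw : ∀ a, w a = (e₁ ≫ D.u a) * (e₁ ≫ D.u (D.P.reflectionPerm a a))⁻¹ * (e₁ ≫ D.u a))
    (a b : D.idx) (ha : a ∈ D.base.support) (hb : b ∈ D.base.support) (hne : a ≠ b)
    (hba : D.P.pairing b a = -1) (hab : D.P.pairing a b = -1) :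
    (w a * w b) ^ 3 = 1 ∧ (w b * w a) ^ 3 = 1 := by
  have hab' := Groth.L14.Chev.indep_simple D ha hb hne
  have hda : Groth.L14.Chev.DualAt avc D.u (Groth.L14.Chev.opp D.u) a :=
    ⟨(D.rootHom _).1, fun X x y h => hpair a ha X x y h⟩
  have hdb : Groth.L14.Chev.DualAt avc D.u (Groth.L14.Chev.opp D.u) b :=
    ⟨(D.rootHom _).1, fun X x y h => hpair b hb X x y h⟩
  have h21 : 2 • D.P.root a + D.P.root b ∉ Set.range D.P.root := by
    rw [add_comm, ← natCast_zsmul]
    exact Groth.L14.Chev.add_zsmul_notMem hab' (D.base.sub_notMem_range_root hb ha) (by rw [hba]; norm_num)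
  have h12 : D.P.root a + 2 • D.P.root b ∉ Set.range D.P.root := by
    rw [← natCast_zsmul]
    exact Groth.L14.Chev.add_zsmul_notMem hab'.symm (D.base.sub_notMem_range_root ha hb) (by rw [hab]; norm_num)
  refine ⟨Groth.L14.Chev.ext_point fun R _ j _ C _ _ => ?_, Groth.L14.Chev.ext_point fun R _ j _ C _ _ => ?_⟩ <;>
    rw [Groth.L14.Chev.comp_pow', MonObj.comp_mul, MonObj.comp_one]
  all_goals
    have hN := Groth.L14.Chev.weyl_conj_hpt havc D.rootHom j e₁ he₁ hdb (hw b) a (-1 : Cˣ)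
    rw [hba, neg_neg, zpow_one] at hN
    have h := Groth.L14.Chev.coxeter_three
      (Groth.L14.Chev.braid_three havc D.rootHom j e₁ he₁ (hw a) (hw b) hda hdb hab' hab hba h21 h12 (C := C))
      (Groth.L14.Chev.weyl_sq havc D.rootHom j e₁ he₁ hda (hw a))
      (Groth.L14.Chev.weyl_sq havc D.rootHom j e₁ he₁ hdb (hw b))
      (Groth.L14.Chev.hpt_negOne_sq havc j a) (Groth.L14.Chev.hpt_negOne_sq havc j b) hN
  · exact h.1
  · exact h.2

end Groth.Agent.S8460
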