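import Groth.Statements.S8461
import Groth.Agent.L14.Chev.Braid

set_option autoImplicit false
set_option backward.isDefEq.respectTransparency.types false
universe u
open CategoryTheory MonoidalCategory CartesianMonoidalCategory MonObj GrpObj AlgebraicGeometry CategoryTheory.Limits
open Red

namespace Groth.Agent.S8461

/-- Let G be a pinned reductive S-group: a splitting D (maximal torus T ≅ D_S(M), root datum with root
homomorphisms u_c : 𝔾_a ⟶ G for all roots c, system of simple roots Δ) such that for every simple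
root a the root homomorphisms of a and -a are dual to each other: u_a(x) u_{-a}(y) =
u_{-a}(y/(1+xy)) · a^∨(1+xy) · u_a(x/(1+xy)) whenever 1 + xy is invertible, where a^∨ : 𝔾_m ⟶ T is
the coroot of a read through the splitting. For a root a put w_a = u_a(1) u_{-a}(-1) u_a(1) (an
S-point of G). Let a ≠ b be simple roots with ⟨b, a^∨⟩ = -2 and ⟨a, b^∨⟩ = -1 (the pair spans a
system of type B₂). Then t_{ab} = (w_a w_b)^4 = a^∨(-1) = (w_b w_a)^4. (The published statement is
for a pinned group whose simple roots are exactly a and b; this row states it for two simple roots a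
≠ b of any pinned group.) -/
theorem result (S : Scheme.{u}) (e₁ : 𝟙_ (Over S) ⟶ Red.Ga S) (he₁ : Red.gaFn e₁ = 1)
    (G : Over S) [GrpObj G] (D : Red.Pinning G)
    (avc : D.idx → (Red.Gm S ⟶ D.T))
    (havc : ∀ a, avc a = Red.DSmap S (D.P.coroot a).toAddMonoidHom ≫ D.split.inv.hom.hom)
    (hpair : ∀ a ∈ D.base.support, ∀ (X : Over S) (x y : X ⟶ Red.Ga S), IsUnit (1 + Red.gaFn x * Red.gaFn y) →
        ∃ (x' y' : X ⟶ Red.Ga S) (z : X ⟶ Red.Gm S), Red.gmFn z = 1 + Red.gaFn x * Red.gaFn y ∧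
          Red.gaFn x' * Red.gmFn z = Red.gaFn x ∧ Red.gaFn y' * Red.gmFn z = Red.gaFn y ∧
          (x ≫ D.u a) * (y ≫ D.u (D.P.reflectionPerm a a)) = (y' ≫ D.u (D.P.reflectionPerm a a)) * (z ≫ avc a ≫ D.i) * (x' ≫ D.u a))
    (w : D.idx → (𝟙_ (Over S) ⟶ G))
    (hw : ∀ a, w a = (e₁ ≫ D.u a) * (e₁ ≫ D.u (D.P.reflectionPerm a a))⁻¹ * (e₁ ≫ D.u a))
    (m₁ : 𝟙_ (Over S) ⟶ Red.Gm S) (hm₁ : Red.gmFn m₁ = -1)
    (a b : D.idx) (ha : a ∈ D.base.support) (hb : b ∈ D.base.support) (hne : a ≠ b)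
    (hba : D.P.pairing b a = -2) (hab : D.P.pairing a b = -1) :
    (w a * w b) ^ 4 = m₁ ≫ avc a ≫ D.i ∧ (w b * w a) ^ 4 = m₁ ≫ avc a ≫ D.i := by
  have hab' := Groth.L14.Chev.indep_simple D ha hb hne
  have hda : Groth.L14.Chev.DualAt avc D.u (Groth.L14.Chev.opp D.u) a :=
    ⟨(D.rootHom _).1, fun X x y h => hpair a ha X x y h⟩
  have hdb : Groth.L14.Chev.DualAt avc D.u (Groth.L14.Chev.opp D.u) b :=
    ⟨(D.rootHom _).1, fun X x y h => hpair b hb X x y h⟩
  have hn2 : ∀ k, D.P.root k ≠ (2 : ℤ) • D.P.root a := fun k hk =>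
    Groth.L14.Chev.two_smul_notMem D ha ⟨k, hk⟩
  have h22 : ∀ k, D.P.root k ≠ (2 : ℤ) • D.P.root a + (2 : ℤ) • D.P.root b := fun k hk =>
    hn2 (D.P.reflectionPerm b k) (by
      rw [D.P.root_reflectionPerm, D.P.reflection_apply_root,
        Groth.L14.Chart.RootCombo.pairing_of_eq D.P hk b, D.P.pairing_same, hab, hk]
      module)
  have hav : ∀ r s : ℤ, (r = 2 ∨ r = -2) → (s = 0 ∨ s = r) →
      r • D.P.root a + s • D.P.root b ∉ Set.range D.P.root := by
    rintro r s (rfl | rfl) (rfl | rfl) ⟨k, hk⟩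
    · exact hn2 k (by rw [hk]; module)
    · exact h22 k hk
    · exact hn2 (D.P.reflectionPerm k k) (by rw [Groth.L14.Chev.root_self_refl, hk]; module)
    · exact h22 (D.P.reflectionPerm k k) (by rw [Groth.L14.Chev.root_self_refl, hk]; module)
  refine ⟨Groth.L14.Chev.ext_point fun R _ j _ C _ _ => ?_, Groth.L14.Chev.ext_point fun R _ j _ C _ _ => ?_⟩ <;>
    rw [Groth.L14.Chev.comp_pow', MonObj.comp_mul, Groth.L14.Chev.toUnit_hpt_negOne j m₁ hm₁]
  all_goals
    have hN := Groth.L14.Chev.weyl_conj_hpt havc D.rootHom j e₁ he₁ hdb (hw b) a (-1 : Cˣ)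
    have hM := Groth.L14.Chev.weyl_conj_hpt havc D.rootHom j e₁ he₁ hda (hw a) b (-1 : Cˣ)
    have hb2 := Groth.L14.Chev.hpt_negOne_sq (C := C) havc j b
    rw [hba, neg_neg, zpow_two, Groth.L14.Chev.hpt_mul j avc havc, hb2, _root_.mul_one] at hN
    rw [hab, neg_neg, zpow_one, Groth.L14.Chev.hpt_comm havc j] at hM
    have h := Groth.L14.Chev.coxeter_four
      (Groth.L14.Chev.braid_four havc D.rootHom j e₁ he₁ (hw a) (hw b) hda hab' hba hav (C := C))
      (Groth.L14.Chev.weyl_sq havc D.rootHom j e₁ he₁ hda (hw a))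
      (Groth.L14.Chev.weyl_sq havc D.rootHom j e₁ he₁ hdb (hw b))
      (Groth.L14.Chev.hpt_negOne_sq havc j a) hb2 hN hM (Groth.L14.Chev.hpt_comm havc j a b _ _)
      (Groth.L14.Chev.weyl_comm_sq havc D.rootHom j e₁ he₁ hdb (hw b))
  · exact h.1
  · exact h.2

end Groth.Agent.S8461
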