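import Groth.Statements.S8467
import Groth.Agent.L14.Chev.Cell.Generated

set_option autoImplicit false
set_option backward.isDefEq.respectTransparency.types false
universe u
open CategoryTheory MonoidalCategory CartesianMonoidalCategory MonObj GrpObj AlgebraicGeometry CategoryTheory.Limits
open Red Groth.L14.Chev Groth.L14.Chev.Cell Groth.L14.RankOne Groth.L14.Chart Groth.L25

namespace Groth.Agent.S8467

/-- (iii) implies (i), with the target a group scheme. Let G be a pinned reductive S-group: a splitting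
D (maximal torus T ≅ D_S(M), root datum with root homomorphisms u_c : 𝔾_a ⟶ G for all roots c,
system of simple roots Δ) such that for every simple root a the root homomorphisms of a and -a are
dual to each other: u_a(x) u_{-a}(y) = u_{-a}(y/(1+xy)) · a^∨(1+xy) · u_a(x/(1+xy)) whenever 1 + xy
is invertible, where a^∨ : 𝔾_m ⟶ T is the coroot of a read through the splitting. For a root a put
w_a = u_a(1) u_{-a}(-1) u_a(1) (an S-point of G). Let H be an S-group scheme and f, g : G ⟶ H two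
homomorphisms which agree on T, on u_a for every simple root a, and on the S-points w_a for every
simple root a. Then f = g. -/
theorem result (S : Scheme.{u}) (e₁ : 𝟙_ (Over S) ⟶ Red.Ga S) (he₁ : Red.gaFn e₁ = 1)
    (G : Over S) [GrpObj G] (D : Red.Pinning G)
    (avc : D.idx → (Red.Gm S ⟶ D.T))
    (havc : ∀ a, avc a = Red.DSmap S (D.P.coroot a).toAddMonoidHom ≫ D.split.inv.hom.hom)
    (hpair : ∀ a ∈ D.base.support, ∀ (X : Over S) (x y : X ⟶ Red.Ga S), IsUnit (1 + Red.gaFn x * Red.gaFn y) →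
        ∃ (x' y' : X ⟶ Red.Ga S) (z : X ⟶ Red.Gm S), Red.gmFn z = 1 + Red.gaFn x * Red.gaFn y ∧
          Red.gaFn x' * Red.gmFn z = Red.gaFn x ∧ Red.gaFn y' * Red.gmFn z = Red.gaFn y ∧
          (x ≫ D.u a) * (y ≫ D.u (D.P.reflectionPerm a a)) = (y' ≫ D.u (D.P.reflectionPerm a a)) * (z ≫ avc a ≫ D.i) * (x' ≫ D.u a))
    (w : D.idx → (𝟙_ (Over S) ⟶ G))
    (hw : ∀ a, w a = (e₁ ≫ D.u a) * (e₁ ≫ D.u (D.P.reflectionPerm a a))⁻¹ * (e₁ ≫ D.u a))
    (H : Over S) [GrpObj H] (f g : G ⟶ H) [IsMonHom f] [IsMonHom g] (hT : D.i ≫ f = D.i ≫ g)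
    (hU : ∀ a ∈ D.base.support, D.u a ≫ f = D.u a ≫ g) (hwfg : ∀ a ∈ D.base.support, w a ≫ f = w a ≫ g) :
    f = g := by
  refine Groth.L14.Chev.Cell.hom_eq_of_simple (D := D.toSplitRed) D.base f g hT fun a ha => ⟨hU a ha, ?_⟩
  have hd : DualAt (D := D.toSplitRed) avc D.u (fun c => D.u (D.P.reflectionPerm c c)) a :=
    ⟨(D.rootHom _).1, hpair a ha⟩
  refine hom_ext_open fun R _ j _ C _ _ t => ?_
  rw [← gp_gv t, ← _root_.neg_neg (gv t), ← Category.assoc, ← Category.assoc,
    ← weyl_self avc havc D.rootHom j e₁ he₁ a hd (hw a) (-gv t)]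
  have h1 : ∀ x : C, (gp j x ≫ D.u a) ≫ f = (gp j x ≫ D.u a) ≫ g := fun x => by
    rw [Category.assoc, hU a ha, ← Category.assoc]
  have h2 : (toUnit (Sp j C) ≫ w a) ≫ f = (toUnit (Sp j C) ≫ w a) ≫ g := by
    rw [Category.assoc, hwfg a ha, ← Category.assoc]
  simp only [MonObj.mul_comp, GrpObj.inv_comp, h1, h2]

end Groth.Agent.S8467
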