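import Groth.Statements.S8471
import Mathlib.Algebra.Polynomial.Bivariate
import Mathlib.FieldTheory.RatFunc.AsPolynomial
import Mathlib.FieldTheory.IsAlgClosed.AlgebraicClosure
import Mathlib.RingTheory.Localization.FractionRing
import Mathlib.Algebra.Polynomial.Splits
import Mathlib.Algebra.Polynomial.Degree.Lemmas

set_option autoImplicit false
open Red

namespace Groth.Agent.S8471

open Polynomial

theorem cross {E : Type} [Field E] {a b c d e : E} (hc : c ≠ 0) (hd : d ≠ 0) (he : e ≠ 0)
    (h : a / b = c * (d / e)) : a * e = c * d * b := by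
  have hb : b ≠ 0 := fun hb => by
    rw [hb, div_zero] at h
    exact mul_ne_zero hc (div_ne_zero hd he) h.symm
  rwa [← mul_div_assoc, div_eq_div_iff hb he] at h

/-- The core: polynomial solutions of the functional equation over an algebraically closed field. -/
theorem key {k : Type} [Field k] (K0 : Type) [Field K0] [IsAlgClosed K0] (i : k →+* K0) (P Q : k[X])
    (hcop : IsCoprime P Q) (hQ : Q.Monic) (hP : P ≠ 0)
    (hid : let L := RatFunc K0
      let φ : k →+* L := (algebraMap K0 L).comp i
      let G : L := P.eval₂ φ RatFunc.X / Q.eval₂ φ RatFunc.X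
      let ℓ : L[X] := C G * X + C RatFunc.X
      (P.map φ).comp ℓ * Q.map φ = C G * P.map φ * (Q.map φ).comp ℓ) :
    Q = 1 ∧ P.natDegree ≤ 1 := by
  classical
  simp only at hid
  set φ : k →+* RatFunc K0 := (algebraMap K0 (RatFunc K0)).comp i
  set p := P.eval₂ φ RatFunc.X
  set q := Q.eval₂ φ RatFunc.X
  have hev : ∀ R : k[X], R.eval₂ φ RatFunc.X = algebraMap K0[X] (RatFunc K0) (R.map i) := fun R => by
    induction R using Polynomial.induction_on' with
    | add a b ha hb => simp [Polynomial.map_add, ha, hb]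
    | monomial n a =>
      rw [eval₂_monomial, Polynomial.map_monomial, ← C_mul_X_pow_eq_monomial, map_mul, map_pow,
        RatFunc.algebraMap_C, RatFunc.algebraMap_X]
      rfl
  have hne : ∀ R : k[X], R ≠ 0 → R.eval₂ φ RatFunc.X ≠ 0 := fun R hR h => by
    rw [hev, map_eq_zero_iff _ (RatFunc.algebraMap_injective K0), Polynomial.map_eq_zero] at h
    exact hR h
  have hG : p / q ≠ 0 := div_ne_zero (hne P hP) (hne Q hQ.ne_zero)
  set G := p / q
  set ℓ : (RatFunc K0)[X] := C G * X + C RatFunc.X
  have hℓ : ℓ.natDegree = 1 := natDegree_linear hG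
  have hc1 : IsCoprime (Q.map φ) (C G * P.map φ) :=
    (isCoprime_mul_unit_left_right (isUnit_C.2 hG.isUnit) _ _).2 (hcop.symm.map (Polynomial.mapRingHom φ))
  have hdvd : (Q.map φ).comp ℓ ∣ Q.map φ := by
    refine (IsCoprime.map (hcop.symm.map (Polynomial.mapRingHom φ)) (compRingHom ℓ)).dvd_of_dvd_mul_left ?_
    exact ⟨C G * P.map φ, hid.trans (mul_comm _ _)⟩
  have hQ1 : Q = 1 := by
    by_contra hQ1
    have hpos : 0 < (Q.map i).natDegree := by
      rw [natDegree_map]
      exact Nat.pos_of_ne_zero fun h => hQ1 (hQ.natDegree_eq_zero.1 h)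
    obtain ⟨c, hc⟩ := IsAlgClosed.exists_root (Q.map i)
      (fun h => by rw [natDegree_eq_of_degree_eq_some h] at hpos; exact lt_irrefl 0 hpos)
    set cL : RatFunc K0 := algebraMap K0 _ c
    have hcL : (Q.map φ).eval cL = 0 := by
      rw [show Q.map φ = (Q.map i).map (algebraMap K0 (RatFunc K0)) from (Polynomial.map_map _ _ _).symm,
        eval_map_algebraMap, aeval_algebraMap_apply, coe_aeval_eq_eval, hc.eq_zero, map_zero]
    have hy : ((Q.map i).map (algebraMap K0 (RatFunc K0))).IsRoot ((cL - RatFunc.X) / G) := by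
      rw [Polynomial.map_map]
      refine eval_eq_zero_of_dvd_of_eval_eq_zero hdvd ?_
      rw [eval_comp]
      simp only [ℓ, eval_add, eval_mul, eval_C, eval_X]
      rwa [mul_div_cancel₀ _ hG, sub_add_cancel]
    obtain ⟨c', hc'⟩ := (IsAlgClosed.splits (Q.map i)).mem_range_of_isRoot
      (Polynomial.map_ne_zero hQ.ne_zero) hy
    have h2 : algebraMap K0 (RatFunc K0) c' * p = (cL - RatFunc.X) * q := by
      have hq : q ≠ 0 := hne Q hQ.ne_zero
      rw [hc', div_mul_eq_mul_div, div_eq_iff hG]
      simp only [G]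
      field_simp
    rw [show p = _ from hev P, show q = _ from hev Q] at h2
    have h3 : C c' * P.map i = (C c - X) * Q.map i := RatFunc.algebraMap_injective K0 (by
      rw [map_mul, map_mul, map_sub, RatFunc.algebraMap_C, RatFunc.algebraMap_C, RatFunc.algebraMap_X]
      exact h2)
    have h4 := congrArg (Polynomial.eval c) h3
    rw [eval_mul, eval_C, eval_mul, hc.eq_zero, mul_zero, mul_eq_zero] at h4
    rcases h4 with h4 | h4
    · rw [h4, map_zero, zero_mul, eq_comm, mul_eq_zero] at h3
      rcases h3 with h3 | h3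
      · exact X_sub_C_ne_zero c (by rw [← neg_sub, h3, neg_zero])
      · exact Polynomial.map_ne_zero hQ.ne_zero h3
    · obtain ⟨u, v, huv⟩ := hcop.map (Polynomial.mapRingHom i)
      have h5 := congrArg (Polynomial.eval c) huv
      simp only [coe_mapRingHom, eval_add, eval_mul, h4, hc.eq_zero, mul_zero, add_zero, eval_one] at h5
      exact zero_ne_one h5
  refine ⟨hQ1, not_lt.1 fun hd => ?_⟩
  subst hQ1
  simp only [Polynomial.map_one, one_comp, mul_one] at hid
  have h1 := congrArg leadingCoeff hid
  rw [leadingCoeff_comp (by rw [hℓ]; exact one_ne_zero), leadingCoeff_linear hG, leadingCoeff_mul, leadingCoeff_C,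
    mul_comm G, natDegree_map] at h1
  have h2 := mul_left_cancel₀ (leadingCoeff_ne_zero.2 (Polynomial.map_ne_zero hP)) h1
  obtain ⟨e, he⟩ : ∃ e, P.natDegree = e + 2 := ⟨P.natDegree - 2, by omega⟩
  rw [he, show e + 2 = (e + 1) + 1 from rfl, pow_succ, mul_left_eq_self₀] at h2
  have h3 : p ^ (e + 1) = 1 := by
    have hq : q = 1 := eval₂_one φ RatFunc.X
    simpa [G, hq] using h2.resolve_right hG
  rw [show p = _ from hev P, ← map_pow, ← map_one (algebraMap K0[X] (RatFunc K0))] at h3
  have h4 := congrArg natDegree (RatFunc.algebraMap_injective K0 h3)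
  rw [natDegree_pow, natDegree_one, natDegree_map, he] at h4
  simp at h4

end Groth.Agent.S8471

namespace Groth.Agent.S8471
open Polynomial

/-- Let k be a field and F ∈ k(X) a rational function whose denominator does not vanish at 0 and with
F(0) = 1. Suppose that in the field of fractions L of k[X₀, X₁] one has F(X₀ + X₁ · F(X₀)) = F(X₀) ·
F(X₁) (the functional equation F(x + y F(x)) = F(x) F(y)). Then there is a ∈ k with F = 1 + a X.
(The published statement takes the identity on an open neighbourhood of the origin of 𝔾_a × 𝔾_a on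
which all terms are defined; this row takes it as an identity of rational functions in two
variables.) -/
theorem result (k : Type) [Field k] (F : RatFunc k)
    (h0 : F.denom.eval 0 ≠ 0) (h1 : F.num.eval 0 = F.denom.eval 0)
    (hFE : RatFunc.eval (algebraMap k (FractionRing (MvPolynomial (Fin 2) k)))
        (algebraMap (MvPolynomial (Fin 2) k) (FractionRing (MvPolynomial (Fin 2) k)) (MvPolynomial.X 0) +
          algebraMap (MvPolynomial (Fin 2) k) (FractionRing (MvPolynomial (Fin 2) k)) (MvPolynomial.X 1) *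
            RatFunc.eval (algebraMap k (FractionRing (MvPolynomial (Fin 2) k)))
              (algebraMap (MvPolynomial (Fin 2) k) (FractionRing (MvPolynomial (Fin 2) k)) (MvPolynomial.X 0)) F) F =
      RatFunc.eval (algebraMap k (FractionRing (MvPolynomial (Fin 2) k)))
          (algebraMap (MvPolynomial (Fin 2) k) (FractionRing (MvPolynomial (Fin 2) k)) (MvPolynomial.X 0)) F *
        RatFunc.eval (algebraMap k (FractionRing (MvPolynomial (Fin 2) k)))
          (algebraMap (MvPolynomial (Fin 2) k) (FractionRing (MvPolynomial (Fin 2) k)) (MvPolynomial.X 1)) F) :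
    ∃ a : k, F = 1 + RatFunc.C a * RatFunc.X := by
  classical
  set P := F.num
  set Q := F.denom
  have hP0 : P.eval 0 ≠ 0 := h1 ▸ h0
  have hP : P ≠ 0 := fun h => hP0 (by rw [h, eval_zero])
  have hQ : Q ≠ 0 := RatFunc.denom_ne_zero F
  let K0 := AlgebraicClosure k
  let L := RatFunc K0
  let i : k →+* K0 := algebraMap k K0
  let φ : k →+* L := (algebraMap K0 L).comp i
  let T := FractionRing (MvPolynomial (Fin 2) k)
  let μ : k[X] →+* L := eval₂RingHom φ RatFunc.X
  have hμ : Function.Injective μ := by
    have : μ = (algebraMap K0[X] L).comp (Polynomial.mapRingHom i) := by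
      refine Polynomial.ringHom_ext (fun a => ?_) ?_
      · simp [μ, φ, RatFunc.algebraMap_C]; rfl
      · show eval₂ φ RatFunc.X (X : k[X]) = algebraMap K0[X] L ((X : k[X]).map i)
        rw [eval₂_X, Polynomial.map_X]
        exact RatFunc.algebraMap_X.symm
    rw [this]
    exact (RatFunc.algebraMap_injective K0).comp (Polynomial.map_injective _ i.injective)
  let J0 : MvPolynomial (Fin 2) k →+* RatFunc L :=
    ((algebraMap L[X] (RatFunc L)).comp (Polynomial.mapRingHom μ)).comp
      (Polynomial.Bivariate.equivMvPolynomial k).symm.toAlgHom.toRingHom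
  have hJ0 : Function.Injective J0 :=
    ((RatFunc.algebraMap_injective L).comp (Polynomial.map_injective _ hμ)).comp
      (Polynomial.Bivariate.equivMvPolynomial k).symm.injective
  let J : T →+* RatFunc L := IsFractionRing.lift hJ0
  have hJ : ∀ m, J (algebraMap (MvPolynomial (Fin 2) k) T m) = J0 m := fun m => IsFractionRing.lift_algebraMap hJ0 m
  let f : k →+* T := algebraMap k T
  have hJf : J.comp f = ((algebraMap L[X] (RatFunc L)).comp C).comp φ := RingHom.ext fun a => by
    show J (algebraMap k T a) = algebraMap L[X] (RatFunc L) (C (φ a))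
    rw [IsScalarTower.algebraMap_apply k (MvPolynomial (Fin 2) k) T, hJ]
    simp [J0, μ]
  let x0 : T := algebraMap (MvPolynomial (Fin 2) k) T (MvPolynomial.X 0)
  let y0 : T := algebraMap (MvPolynomial (Fin 2) k) T (MvPolynomial.X 1)
  have hx : J x0 = algebraMap L[X] (RatFunc L) (C RatFunc.X) := by
    show J (algebraMap _ T (MvPolynomial.X 0)) = _
    rw [hJ]; simp [J0, μ]
  have hy : J y0 = algebraMap L[X] (RatFunc L) X := by
    show J (algebraMap _ T (MvPolynomial.X 1)) = _
    rw [hJ]; simp [J0]
  have hev : ∀ (t : T) (w : L[X]), J t = algebraMap L[X] (RatFunc L) w → J (RatFunc.eval f t F) =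
      algebraMap L[X] (RatFunc L) ((P.map φ).comp w) / algebraMap L[X] (RatFunc L) ((Q.map φ).comp w) := by
    intro t w hw
    rw [RatFunc.eval, map_div₀, hom_eval₂, hom_eval₂, hJf, hw]
    simp only [comp, eval₂_map, hom_eval₂, RingHom.comp_assoc]
    rfl
  let G : L := P.eval₂ φ RatFunc.X / Q.eval₂ φ RatFunc.X
  let ℓ : L[X] := C G * X + C RatFunc.X
  have hevx : J (RatFunc.eval f x0 F) = algebraMap L[X] (RatFunc L) (C G) := by
    rw [hev _ _ hx, comp_C, comp_C, eval_map, eval_map, show G = P.eval₂ φ RatFunc.X / Q.eval₂ φ RatFunc.X from rfl,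
      RatFunc.algebraMap_C, RatFunc.algebraMap_C, RatFunc.algebraMap_C, map_div₀]
  have hl : J (x0 + y0 * RatFunc.eval f x0 F) = algebraMap L[X] (RatFunc L) ℓ := by
    rw [map_add, map_mul, hx, hy, hevx, ← map_mul, ← map_add]
    congr 1
    ring
  have h := congrArg J hFE
  rw [show J (RatFunc.eval f (x0 + y0 * RatFunc.eval f x0 F) F) = _ from hev _ _ hl] at h
  rw [show J (RatFunc.eval f x0 F * RatFunc.eval f y0 F) = _ from (map_mul J _ _).trans (congrArg₂ (· * ·) hevx (hev _ _ hy))] at h
  simp only [comp_X] at h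
  have hQφ : algebraMap L[X] (RatFunc L) (Q.map φ) ≠ 0 := (map_ne_zero_iff _ (RatFunc.algebraMap_injective L)).2 (Polynomial.map_ne_zero hQ)
  have hG : G ≠ 0 := div_ne_zero (fun h => hP (hμ (h.trans (map_zero μ).symm))) (fun h => hQ (hμ (h.trans (map_zero μ).symm)))
  have h := cross (E := RatFunc L) (a := algebraMap L[X] (RatFunc L) ((P.map φ).comp ℓ))
    (b := algebraMap L[X] (RatFunc L) ((Q.map φ).comp ℓ)) ((map_ne_zero_iff _ (RatFunc.algebraMap_injective L)).2 (C_ne_zero.2 hG))
    ((map_ne_zero_iff _ (RatFunc.algebraMap_injective L)).2 (Polynomial.map_ne_zero hP)) hQφ h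
  simp only [← map_mul] at h
  obtain ⟨hQ1, hdeg⟩ := key K0 i P Q (RatFunc.isCoprime_num_denom F) (RatFunc.monic_denom F) hP (RatFunc.algebraMap_injective L h)
  refine ⟨P.coeff 1, ?_⟩
  have hc0 : P.coeff 0 = 1 := by
    rw [coeff_zero_eq_eval_zero, show P.eval 0 = Q.eval 0 from h1, hQ1, eval_one]
  conv_lhs => rw [← RatFunc.num_div_denom F, show F.denom = 1 from hQ1, map_one, div_one,
    show F.num = P from rfl, eq_X_add_C_of_natDegree_le_one hdeg, hc0]
  simp only [map_add, map_mul, map_one, RatFunc.algebraMap_C, RatFunc.algebraMap_X]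
  rw [add_comm]

end Groth.Agent.S8471
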