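import Groth.Statements.S8472
import Groth.Agent.L14.Chev.System

set_option autoImplicit false
set_option backward.isDefEq.respectTransparency.types false
universe u
open CategoryTheory MonoidalCategory CartesianMonoidalCategory MonObj GrpObj AlgebraicGeometry CategoryTheory.Limits
open Red

namespace Groth.Agent.S8472

/-- Existence of a Chevalley system extending a pinning: at the level of root groups. Let G be a pinned
reductive S-group: a splitting D (maximal torus T ≅ D_S(M), root datum with root homomorphisms u_c :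
𝔾_a ⟶ G for all roots c, system of simple roots Δ) such that for every simple root a the root
homomorphisms of a and -a are dual to each other: u_a(x) u_{-a}(y) = u_{-a}(y/(1+xy)) · a^∨(1+xy) ·
u_a(x/(1+xy)) whenever 1 + xy is invertible, where a^∨ : 𝔾_m ⟶ T is the coroot of a read through the
splitting. For a root a put w_a = u_a(1) u_{-a}(-1) u_a(1) (an S-point of G). Then the pinning
extends to a Chevalley system: there is a family (v_c)_{c} of root homomorphisms v_c : 𝔾_a ⟶ G, one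
for each root c, normalised by T through the character of c, with v_a = u_a for every simple root a,
such that every v_c admits a dual root homomorphism v_c⁻ (v_c(x) v_c⁻(y) = v_c⁻(y/(1+xy)) c^∨(1+xy)
v_c(x/(1+xy)) for 1 + xy invertible) for which, writing n_c = v_c(1) v_c⁻(1)⁻¹ v_c(1), one has for
every root b a sign ε ∈ {1, -1} with n_c v_b(x) n_c⁻¹ = v_{s_c(b)}(ε x) for all points x of 𝔾_a. -/
theorem result (S : Scheme.{u}) (e₁ : 𝟙_ (Over S) ⟶ Red.Ga S) (he₁ : Red.gaFn e₁ = 1)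
    (G : Over S) [GrpObj G] (D : Red.Pinning G)
    (avc : D.idx → (Red.Gm S ⟶ D.T))
    (havc : ∀ a, avc a = Red.DSmap S (D.P.coroot a).toAddMonoidHom ≫ D.split.inv.hom.hom)
    (hpair : ∀ a ∈ D.base.support, ∀ (X : Over S) (x y : X ⟶ Red.Ga S), IsUnit (1 + Red.gaFn x * Red.gaFn y) →
        ∃ (x' y' : X ⟶ Red.Ga S) (z : X ⟶ Red.Gm S), Red.gmFn z = 1 + Red.gaFn x * Red.gaFn y ∧
          Red.gaFn x' * Red.gmFn z = Red.gaFn x ∧ Red.gaFn y' * Red.gmFn z = Red.gaFn y ∧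
          (x ≫ D.u a) * (y ≫ D.u (D.P.reflectionPerm a a)) = (y' ≫ D.u (D.P.reflectionPerm a a)) * (z ≫ avc a ≫ D.i) * (x' ≫ D.u a)) :
    ∃ v : D.idx → (Red.Ga S ⟶ G),
      (∀ c, Red.IsRootHom D.i (D.split.hom.hom.hom ≫ Red.chi S (D.P.root c)) (v c)) ∧
      (∀ a ∈ D.base.support, v a = D.u a) ∧
      ∀ c, ∃ vd : Red.Ga S ⟶ G, IsMonHom vd ∧
        (∀ (X : Over S) (x y : X ⟶ Red.Ga S), IsUnit (1 + Red.gaFn x * Red.gaFn y) →
        ∃ (x' y' : X ⟶ Red.Ga S) (z : X ⟶ Red.Gm S), Red.gmFn z = 1 + Red.gaFn x * Red.gaFn y ∧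
          Red.gaFn x' * Red.gmFn z = Red.gaFn x ∧ Red.gaFn y' * Red.gmFn z = Red.gaFn y ∧
          (x ≫ v c) * (y ≫ vd) = (y' ≫ vd) * (z ≫ avc c ≫ D.i) * (x' ≫ v c)) ∧
        ∀ b, ∃ ε : ℤ, (ε = 1 ∨ ε = -1) ∧ ∀ (X : Over S) (x y : X ⟶ Red.Ga S), Red.gaFn y = (ε : Γ(X.left, ⊤)) * Red.gaFn x →
          (toUnit X ≫ ((e₁ ≫ v c) * (e₁ ≫ vd)⁻¹ * (e₁ ≫ v c))) * (x ≫ v b) *
              (toUnit X ≫ ((e₁ ≫ v c) * (e₁ ≫ vd)⁻¹ * (e₁ ≫ v c)))⁻¹ = y ≫ v (D.P.reflectionPerm c b) := by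
  have hdual : ∀ a ∈ D.base.support, Groth.L14.Chev.DualAt avc D.u (Groth.L14.Chev.opp D.u) a :=
    fun a ha => ⟨(D.rootHom _).1, fun X x y h => hpair a ha X x y h⟩
  obtain ⟨w, hw⟩ : ∃ w : D.idx → (𝟙_ (Over S) ⟶ G),
      ∀ a, w a = (e₁ ≫ D.u a) * (e₁ ≫ D.u (D.P.reflectionPerm a a))⁻¹ * (e₁ ≫ D.u a) :=
    ⟨_, fun _ => rfl⟩
  choose la hla using fun c => Groth.L14.Chev.exists_rep (D := D) c
  refine ⟨fun c => Groth.L14.Chev.conjHom (Groth.L14.Chev.Words.val w (la c).1) (D.u (la c).2), fun c => ?_,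
    fun a ha => ?_, fun c => ?_⟩
  · obtain ⟨hl, -, he, -⟩ := hla c
    have h := Groth.L14.Chev.isRootHom_word havc e₁ he₁ hdual w hw hl (D.rootHom (la c).2)
    rwa [he] at h
  · simp [(hla a).2.2.2 ha, Groth.L14.Chev.Words.val, Groth.L14.Chev.conjHom_one]
  obtain ⟨hl, ha, he, -⟩ := hla c
  have hd := Groth.L14.Chev.dualAt_word havc e₁ he₁ hdual w hw hl ha he
  refine ⟨_, hd.1, hd.2, fun b => ?_⟩
  obtain ⟨hlb, hab, heb, -⟩ := hla b
  obtain ⟨hl', ha', he', -⟩ := hla (D.P.reflectionPerm c b)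
  have hword : Groth.L24.RootD.wd D.P (la (D.P.reflectionPerm c b)).1 • (la (D.P.reflectionPerm c b)).2 =
      Groth.L24.RootD.wd D.P ((la c).1 ++ [(la c).2] ++ (la c).1.reverse ++ (la b).1) • (la b).2 := by
    rw [he', Groth.L24.RootD.wd_append, Groth.L24.RootD.wd_append, Groth.L24.RootD.wd_append, mul_smul, heb,
      Groth.L24.RootD.wd_singleton, Groth.L24.RootD.wd_reverse, Groth.L24.RootD.conj_reflection, he,
      Groth.L24.RootD.reflection_smul_idx]
  obtain ⟨ε, hε, hc⟩ := (Groth.L14.Chev.carries_system havc e₁ he₁ hdual w hw hl hlb hl' ha hab ha' hword).apply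
  refine ⟨ε, hε, fun X x y hy => ?_⟩
  rw [← hc X x y hy]
  simp only [Groth.L14.Chev.comp_conjHom, toUnit_unique (toUnit (𝟙_ (Over S))) (𝟙 _), Category.id_comp, hw]
  group

end Groth.Agent.S8472
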