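import Groth.Statements.S8473
import Groth.Agent.L25.Locus.FixedConn
import Groth.Agent.L25.Locus.Torus
import Groth.Agent.L25.Central
import Groth.Agent.L25.GaPts
import Groth.Prelude.Def_GmPts
import Mathlib.AlgebraicGeometry.Morphisms.FlatMono

set_option backward.isDefEq.respectTransparency.types false

set_option autoImplicit false
universe u
open CategoryTheory MonoidalCategory CartesianMonoidalCategory MonObj GrpObj AlgebraicGeometry CategoryTheory.Limits
open Red

namespace Groth.Agent.S8473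

/-- a morphism from a connected scheme to an etale scheme over a field is constant -/
theorem const_of_connected {K : Type u} [Field K] {N T : Over (Spec (CommRingCat.of K))} [Etale N.hom]
    [ConnectedSpace T.left] (hopen : ∀ x : N.left, IsOpen ({x} : Set N.left)) (f : T ⟶ N)
    (nn : 𝟙_ (Over (Spec (CommRingCat.of K))) ⟶ N) [IsOpenImmersion nn.left] (z : T.left)
    (hz : f.left.base z ∈ Set.range nn.left.base) : f = toUnit T ≫ nn := by
  have hclopen : IsClopen (f.left.base ⁻¹' Set.range nn.left.base) := by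
    have : DiscreteTopology N.left := discreteTopology_iff_isOpen_singleton.2 hopen
    exact (isClopen_discrete _).preimage f.left.continuous
  have hsub : Set.range f.left.base ⊆ Set.range nn.left.base := by
    rintro _ ⟨w, rfl⟩
    have := hclopen.eq_univ ⟨z, hz⟩
    exact this.ge (Set.mem_univ w)
  apply Over.OverMorphism.ext
  have e : IsOpenImmersion.lift nn.left f.left hsub ≫ nn.left = f.left := IsOpenImmersion.lift_fac _ _ _
  rw [← e, Over.comp_left]
  congr 1
  have : IsIso (𝟙_ (Over (Spec (CommRingCat.of K)))).hom := inferInstanceAs (IsIso (𝟙 _))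
  have h1 := Over.w f
  rw [← e, Category.assoc, Over.w nn] at h1
  have h2 := Over.w (toUnit T)
  rw [← cancel_mono (𝟙_ (Over (Spec (CommRingCat.of K)))).hom, h1, h2]

/-- Let k be an algebraically closed field, T a k-torus, α : T ⟶ 𝔾_m a non-trivial character and P the
semi-direct product T ⋉_α 𝔾_a, given as a k-group P with homomorphisms j_T : T ⟶ P and j_U : 𝔾_a ⟶ P
such that (t, x) ↦ j_T(t) j_U(x) is an isomorphism of schemes T × 𝔾_a ≅ P and j_T(t) j_U(x) j_T(t)⁻¹
= j_U(α(t) x). Let n : N ⟶ P be a normal subgroup scheme which is étale over k and such that N ∩ T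
is trivial (a point of N whose image is in j_T(T) is the unit). Then N is the trivial group. -/
theorem result (K : Type u) [Field K] [IsAlgClosed K]
    (T P N : Over (Spec (CommRingCat.of K))) [GrpObj T] [GrpObj P] [GrpObj N] (hT : Red.IsTorus T)
    (α : T ⟶ Red.Gm (Spec (CommRingCat.of K))) [IsMonHom α] (hα : α ≠ 1)
    (jT : T ⟶ P) [IsMonHom jT] (jU : Red.Ga (Spec (CommRingCat.of K)) ⟶ P) [IsMonHom jU] (hiso : IsIso ((jT ⊗ₘ jU) ≫ μ[P]))
    (hconj : ∀ (X : Over (Spec (CommRingCat.of K))) (t : X ⟶ T) (x x' : X ⟶ Red.Ga (Spec (CommRingCat.of K))), Red.gaFn x' = Red.gmFn (t ≫ α) * Red.gaFn x →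
      (t ≫ jT) * (x ≫ jU) * (t ≫ jT)⁻¹ = x' ≫ jU)
    (n : N ⟶ P) [IsMonHom n] [Mono n] (hn : AlgGrp.IsNormalHom n) (het : Etale N.hom)
    (hNT : ∀ (X : Over (Spec (CommRingCat.of K))) (t : X ⟶ T) (m : X ⟶ N), t ≫ jT = m ≫ n → m = 1) :
    Red.IsTrivialGrp N := by
  have := het
  obtain ⟨-, hTc⟩ := Groth.L25.Locus.smooth_connected_torus hT
  have : IsIso ((jT ⊗ₘ jU) ≫ μ[P]) := hiso
  -- sections are open points
  have hnn : ∀ nn : 𝟙_ (Over (Spec (CommRingCat.of K))) ⟶ N, IsOpenImmersion nn.left := fun nn => by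
    have hs : nn.left ≫ N.hom = 𝟙 _ := Over.w nn
    have : Mono nn.left := (IsSplitMono.mk' ⟨N.hom, hs⟩).mono
    have : Etale (nn.left ≫ N.hom) := by rw [hs]; infer_instance
    have : Etale nn.left := MorphismProperty.of_postcomp (W := @Etale) (W' := @Etale) nn.left N.hom het this
    exact IsOpenImmersion.of_flat_of_mono nn.left
  have : JacobsonSpace N.left := LocallyOfFiniteType.jacobsonSpace N.hom
  have hpt : ∀ x : N.left, IsClosed ({x} : Set N.left) → ∃ nn : 𝟙_ (Over (Spec (CommRingCat.of K))) ⟶ N,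
      Set.range nn.left.base = {x} := fun x hx => by
    refine ⟨Over.homMk _ ((pointEquivClosedPoint N.hom).symm ⟨x, hx⟩).2, ?_⟩
    have e := congrArg Subtype.val ((pointEquivClosedPoint N.hom).apply_symm_apply ⟨x, hx⟩)
    refine Set.eq_singleton_iff_unique_mem.2 ⟨⟨IsLocalRing.closedPoint K, e⟩, ?_⟩
    rintro _ ⟨w, rfl⟩
    rw [Subsingleton.elim (α := PrimeSpectrum K) w (IsLocalRing.closedPoint K)]
    exact e
  have hclosed : ∀ x : N.left, IsClosed ({x} : Set N.left) := by
    intro y
    obtain ⟨x, hxy, hx⟩ := nonempty_inter_closedPoints (Z := closure ({y} : Set N.left))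
      ⟨y, subset_closure rfl⟩ isClosed_closure.isLocallyClosed
    obtain ⟨nn, hnn'⟩ := hpt x hx
    have ho : IsOpen ({x} : Set N.left) := by
      have := hnn nn
      rw [← hnn']; exact nn.left.isOpenEmbedding.isOpen_range
    have h := mem_closure_iff.1 hxy {x} ho rfl
    obtain ⟨w, hw1, hw2⟩ := h
    rw [Set.mem_singleton_iff] at hw1 hw2
    rw [← hw2, hw1]; exact hx
  have hopen : ∀ x : N.left, IsOpen ({x} : Set N.left) := fun x => by
    obtain ⟨nn, hnn'⟩ := hpt x (hclosed x)
    have := hnn nn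
    rw [← hnn']; exact nn.left.isOpenEmbedding.isOpen_range
  -- every point is trivial
  have key : ∀ nn : 𝟙_ (Over (Spec (CommRingCat.of K))) ⟶ N, nn = 1 := by
    intro nn
    have := hnn nn
    obtain ⟨n', hn'⟩ := hn T jT (toUnit T ≫ nn)
    let z : T.left := η[T].left (IsLocalRing.closedPoint K)
    have he : η[T] ≫ n' = nn := by
      rw [← cancel_mono n, Category.assoc, ← hn', MonObj.comp_mul, MonObj.comp_mul, GrpObj.comp_inv, IsMonHom.one_hom,
        show η[P] = (1 : 𝟙_ (Over (Spec (CommRingCat.of K))) ⟶ P) from by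
          rw [Hom.one_def, toUnit_unique (toUnit _) (𝟙 _), Category.id_comp],
        inv_one, _root_.mul_one, _root_.one_mul, ← Category.assoc, ← Category.assoc,
        toUnit_unique (η[T] ≫ toUnit T) (𝟙 _), Category.id_comp]
    have hconst : n' = toUnit T ≫ nn := const_of_connected hopen n' nn z
      ⟨IsLocalRing.closedPoint K, by
        conv_lhs => rw [← he]
        rfl⟩
    rw [hconst] at hn'
    -- coordinates
    let c := nn ≫ n ≫ inv ((jT ⊗ₘ jU) ≫ μ[P])
    let sT := c ≫ fst T _
    let x := c ≫ snd T _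
    have hc : (sT ≫ jT) * (x ≫ jU) = nn ≫ n := by
      have e1 : c ≫ ((jT ⊗ₘ jU) ≫ μ[P]) = nn ≫ n := by simp [c]
      rw [← e1, ← Category.assoc, show c ≫ (jT ⊗ₘ jU) = lift (sT ≫ jT) (x ≫ jU) by
        apply hom_ext <;> simp [sT, x]]
      rfl
    let S₀ := toUnit T ≫ sT
    let X₀ := toUnit T ≫ x
    let u := Red.gmFn (α : T ⟶ _) * Red.gaFn X₀
    have h1 : jT * (X₀ ≫ jU) * jT⁻¹ = Groth.L25.GaPts.ptOfElt u ≫ jU := by
      have := hconj T (𝟙 T) X₀ (Groth.L25.GaPts.ptOfElt u)
        (by rw [Groth.L25.GaPts.gaFn_ptOfElt, Category.id_comp])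
      rwa [Category.id_comp] at this
    have hcomm : jT * (S₀ ≫ jT) = (S₀ ≫ jT) * jT := by
      have h := congrArg (· ≫ jT)
        (Groth.L25.Central.mul_comm_of_multTypeFT (Groth.L25.Locus.isMultTypeFT_of_isTorus hT) (𝟙 T) S₀)
      simpa only [MonObj.mul_comp, Category.id_comp] using h
    have e0 : (toUnit T ≫ nn) ≫ n = (S₀ ≫ jT) * (X₀ ≫ jU) := by
      rw [Category.assoc, ← hc, MonObj.comp_mul]
      simp only [S₀, X₀, sT, x, Category.assoc]
    have grp : ∀ (t a b : T ⟶ P), t * a = a * t → t * (a * b) * t⁻¹ = a * (t * b * t⁻¹) := fun t a b h => by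
      rw [← _root_.mul_assoc t a, h]; simp only [_root_.mul_assoc]
    have hfix : (toUnit T ≫ nn) ≫ n = (S₀ ≫ jT) * (Groth.L25.GaPts.ptOfElt u ≫ jU) := by
      rw [← h1, ← grp _ _ _ hcomm, ← e0]
      exact hn'.symm
    have hX : Groth.L25.GaPts.ptOfElt u = X₀ := by
      have e : lift S₀ (Groth.L25.GaPts.ptOfElt u) = lift S₀ X₀ := by
        rw [← cancel_mono ((jT ⊗ₘ jU) ≫ μ[P]), ← Category.assoc, ← Category.assoc, lift_map, lift_map]
        show (S₀ ≫ jT) * (Groth.L25.GaPts.ptOfElt u ≫ jU) = (S₀ ≫ jT) * (X₀ ≫ jU)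
        rw [← hfix, e0]
      simpa using congrArg (· ≫ snd T _) e
    have hu : u = Red.gaFn X₀ := by rw [← hX, Groth.L25.GaPts.gaFn_ptOfElt]
    have hx0 : x = 1 := by
      by_contra hx
      have hne : Red.gaFn x ≠ 0 := fun h => hx (Groth.L25.GaPts.gaFn_injective (by
        show Red.gaFn x = Red.gaFn 1
        rw [h, Groth.L25.GaPts.gaFn_one]))
      have hunit : IsUnit (Red.gaFn x) := by
        let e := (Scheme.ΓSpecIso (CommRingCat.of K)).commRingCatIsoToRingEquiv
        have h2 : IsUnit (e (Red.gaFn x)) := isUnit_iff_ne_zero.2 ((map_ne_zero_iff _ e.injective).2 hne)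
        simpa using h2.map e.symm
      have hX0 : IsUnit (Red.gaFn X₀) := by
        rw [Groth.L25.GaPts.gaFn_comp]; exact hunit.map (toUnit T).left.appTop.hom
      have hg : Red.gmFn (α : T ⟶ _) = 1 :=
        hX0.mul_right_cancel (hu.trans (_root_.one_mul _).symm)
      exact hα (GmPts.gmFn_injective (hg.trans GmPts.gmFn_one.symm))
    refine hNT _ sT nn ?_
    rw [← hc, hx0, MonObj.one_comp, _root_.mul_one]
  -- one point
  have hη : IsOpenImmersion η[N].left := hnn _
  have : Surjective η[N].left := ⟨fun y => by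
    obtain ⟨nn, hnn'⟩ := hpt y (hclosed y)
    rw [key nn, Hom.one_def, toUnit_unique (toUnit _) (𝟙 _), Category.id_comp] at hnn'
    exact hnn'.ge rfl⟩
  have : IsIso η[N].left := (isIso_iff_isOpenImmersion_and_surjective _).2 ⟨hη, inferInstance⟩
  show IsIso N.hom
  have e : η[N].left ≫ N.hom = 𝟙 _ := Over.w η[N]
  have : IsIso (η[N].left ≫ N.hom) := by rw [e]; infer_instance
  exact IsIso.of_isIso_comp_left η[N].left N.hom

end Groth.Agent.S8473
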