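import Groth.Statements.S8479
import Groth.Agent.L14.Chev.Strings

set_option autoImplicit false
set_option backward.isDefEq.respectTransparency.types false
universe u
open CategoryTheory MonoidalCategory CartesianMonoidalCategory MonObj GrpObj AlgebraicGeometry CategoryTheory.Limits
open Red

namespace Groth.Agent.S8479

/-- The cases (p, q) = (1,1), (2,1), (3,1) of the table. Let G be a split reductive S-group with
splitting D (torus T ≅ D_S(M), root datum) and a Chevalley system at the level of root groups: for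
every root c a root homomorphism v_c : 𝔾_a ⟶ G (normalised by T through the character of c) with a
dual root homomorphism v_c⁻ (v_c(x) v_c⁻(y) = v_c⁻(y/(1+xy)) c^∨(1+xy) v_c(x/(1+xy)) for 1 + xy
invertible), such that with n_c = v_c(1) v_c⁻(1)⁻¹ v_c(1) one has, for all roots c, b, n_c v_b(x)
n_c⁻¹ = v_{s_c(b)}(± x) for a sign depending on (c, b). Let a, b be two linearly independent roots
with |⟨a, b^∨⟩| ≤ |⟨b, a^∨⟩| (a is not longer than b). Suppose a + b is a root, with index c, and b
+ 2a is not a root (q = 1); let p ≥ 1 be such that b - k a is a root for k < p and b - p a is not a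
root. Then there is a sign ε ∈ {1, -1} with v_b(y) v_a(x) v_b(y)⁻¹ v_a(x)⁻¹ = v_c(ε p x y) for all
points x, y of 𝔾_a. -/
theorem result (S : Scheme.{u}) (e₁ : 𝟙_ (Over S) ⟶ Red.Ga S) (he₁ : Red.gaFn e₁ = 1)
    (G : Over S) [GrpObj G] (D : Red.SplitRed G)
    (avc : D.idx → (Red.Gm S ⟶ D.T))
    (havc : ∀ a, avc a = Red.DSmap S (D.P.coroot a).toAddMonoidHom ≫ D.split.inv.hom.hom)
    (v vd : D.idx → (Red.Ga S ⟶ G)) (hv : ∀ c, Red.IsRootHom D.i (D.split.hom.hom.hom ≫ Red.chi S (D.P.root c)) (v c))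
    (hvd : ∀ c, IsMonHom (vd c) ∧ ∀ (X : Over S) (x y : X ⟶ Red.Ga S), IsUnit (1 + Red.gaFn x * Red.gaFn y) →
        ∃ (x' y' : X ⟶ Red.Ga S) (z : X ⟶ Red.Gm S), Red.gmFn z = 1 + Red.gaFn x * Red.gaFn y ∧
          Red.gaFn x' * Red.gmFn z = Red.gaFn x ∧ Red.gaFn y' * Red.gmFn z = Red.gaFn y ∧
          (x ≫ v c) * (y ≫ vd c) = (y' ≫ vd c) * (z ≫ avc c ≫ D.i) * (x' ≫ v c))
    (n : D.idx → (𝟙_ (Over S) ⟶ G)) (hn : ∀ c, n c = (e₁ ≫ v c) * (e₁ ≫ vd c)⁻¹ * (e₁ ≫ v c))
    (hSC : ∀ c b, ∃ ε : ℤ, (ε = 1 ∨ ε = -1) ∧ ∀ (X : Over S) (x y : X ⟶ Red.Ga S),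
      Red.gaFn y = (ε : Γ(X.left, ⊤)) * Red.gaFn x →
        (toUnit X ≫ n c) * (x ≫ v b) * (toUnit X ≫ n c)⁻¹ = y ≫ v (D.P.reflectionPerm c b))
    (a b : D.idx) (hind : ∀ r s : ℤ, r • D.P.root a + s • D.P.root b = 0 → r = 0 ∧ s = 0)
    (hlen : |D.P.pairing a b| ≤ |D.P.pairing b a|)
    (c : D.idx) (hc : D.P.root c = D.P.root a + D.P.root b) (hq : D.P.root b + (2 : ℤ) • D.P.root a ∉ Set.range D.P.root)
    (p : ℕ) (hp1 : 1 ≤ p) (hpk : ∀ k : ℕ, k < p → D.P.root b - (k : ℤ) • D.P.root a ∈ Set.range D.P.root)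
    (hp : D.P.root b - (p : ℤ) • D.P.root a ∉ Set.range D.P.root) :
    ∃ ε : ℤ, (ε = 1 ∨ ε = -1) ∧ ∀ (X : Over S) (x y z : X ⟶ Red.Ga S),
      Red.gaFn z = (ε : Γ(X.left, ⊤)) * (p : Γ(X.left, ⊤)) * Red.gaFn x * Red.gaFn y → (y ≫ v b) * (x ≫ v a) * (y ≫ v b)⁻¹ * (x ≫ v a)⁻¹ = z ≫ v c := by
  classical
  choose sg hsg hsc using hSC
  have hind' : Groth.L14.Chev.Indep D a b := hind
  have hp3 : p ≤ 3 ∧ D.P.pairing b a = (p : ℤ) - 2 := by
    have h1 := Groth.L14.Chev.pairing_of_string hind' (r := p - 1) (q := 1) (hpk (p - 1) (by omega))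
      (by rw [Nat.cast_sub hp1]; simpa using hp) ⟨c, by rw [hc]; simp [add_comm]⟩ (by simpa using hq)
    rw [Nat.cast_sub hp1] at h1
    have hca := Groth.L14.Chart.RootCombo.pairing_of_eq D.P (k := c) (i := a) (j := b) (r := 1) (s := 1)
      (by rw [hc, one_smul, one_smul]) a
    rw [D.P.pairing_same] at hca
    have hicr : Groth.L14.Chev.Indep D c a := hind'.of_combo (r := 1) (s := 1) (t := 1) (w := 0)
      (by rw [hc, one_smul, one_smul]) (by simp) (by simp)
    have := hicr.pairs
    simp only [Set.mem_insert_iff, Set.mem_singleton_iff, Prod.mk.injEq] at this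
    push_cast at h1
    omega
  obtain ⟨hp3, hba⟩ := hp3
  have hab : D.P.pairing a b = D.P.pairing b a := by
    have := hind'.pairs
    simp only [Set.mem_insert_iff, Set.mem_singleton_iff, Prod.mk.injEq] at this
    rcases this with h | h | h | h | h | h | h | h | h | h | h <;> rw [h.1, h.2] at hlen <;> norm_num at hlen <;> omega
  have h21 : 2 • D.P.root a + D.P.root b ∉ Set.range D.P.root := by
    rw [add_comm, ← natCast_zsmul]; exact hq
  have h12 : D.P.root a + 2 • D.P.root b ∉ Set.range D.P.root := by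
    rintro ⟨k, hk⟩
    have hk' : D.P.root k = (1 : ℤ) • D.P.root a + (2 : ℤ) • D.P.root b := by rw [hk, one_smul, ← natCast_zsmul]; rfl
    have hkb := Groth.L14.Chart.RootCombo.pairing_of_eq D.P hk' b
    rw [D.P.pairing_same, hab, hba] at hkb
    have hi : Groth.L14.Chev.Indep D k b := hind'.of_combo (r := 1) (s := 2) (t := 0) (w := 1) hk' (by simp) (by simp)
    have hpr := hi.pairs
    simp only [Set.mem_insert_iff, Set.mem_singleton_iff, Prod.mk.injEq] at hpr
    have hp_1 : p = 1 := by omega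
    subst hp_1
    have hbk : D.P.pairing k b = 3 := by omega
    refine hp ⟨D.P.reflectionPerm (D.P.reflectionPerm b k) (D.P.reflectionPerm b k), ?_⟩
    rw [Groth.L14.Chev.root_self_refl, D.P.root_reflectionPerm, D.P.reflection_apply_root, hbk, hk']
    push_cast
    module
  have main : ∀ (R : Type u) [CommRing R] (j : Spec (CommRingCat.of R) ⟶ S) [IsOpenImmersion j]
      (A : D.idx → R), Groth.L14.Chev.IsAdj j v a b A → ∀ b₀ (hb₀ : D.P.root b₀ = D.P.root b - ((p : ℤ) - 1) • D.P.root a),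
      A c = -((if p = 1 then -sg a b else if p = 2 then sg a b₀ * sg b₀ a else
        -(sg a a * sg c (D.P.reflectionPerm a a))) * p : ℤ) := by
    intro R _ j _ A hA b₀ hb₀
    have hC := Groth.L14.Chev.isChev_of_system j avc havc hv hvd e₁ he₁ n hn hsg hsc
    have hsq : ∀ x y, (sg x y : R) * sg x y = 1 := fun x y => by
      rcases hsg x y with h | h <;> simp [h]
    have hiac : Groth.L14.Chev.Indep D a c := hind'.of_combo (r := 1) (s := 0) (t := 1) (w := 1)
      (by simp) (by rw [hc, one_smul, one_smul]) (by simp)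
    have hac : D.P.root a + D.P.root c ∉ Set.range D.P.root := by
      rw [hc, ← add_assoc, ← two_nsmul]; exact h21
    have hi0 : Groth.L14.Chev.Indep D a b₀ := hind'.of_combo (r := 1) (s := 0) (t := 1 - (p : ℤ)) (w := 1)
      (by simp) (by rw [hb₀]; module) (by simp)
    obtain ⟨A0, hA0⟩ := Groth.L14.Chev.exists_isAdj (j := j) hv a b₀ hi0
    have ht : D.P.reflectionPerm a b₀ = c := Groth.L14.Chev.refl_eq (q := (p : ℤ)) (by
      rw [Groth.L14.Chart.RootCombo.pairing_of_eq D.P (k := b₀) (i := b) (j := a) (r := 1) (s := -((p : ℤ) - 1))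
        (by rw [hb₀]; module), D.P.pairing_same, hba]
      ring) (by rw [hb₀, hc]; module)
    have htop := hC.top_value hv hA0 ht hiac hac
    obtain rfl | rfl | rfl : p = 1 ∨ p = 2 ∨ p = 3 := by omega
    · have : b₀ = b := D.P.root.injective (by rw [hb₀]; simp)
      subst this
      rw [hA.unique hv hA0, htop]
      simp
    · have hb0b : D.P.root b = D.P.root b₀ + D.P.root a := by rw [hb₀]; norm_num
      have h2 := hA0.comp_two hv hi0 hA hb0b (c₂ := c) (by rw [hc, hb₀]; push_cast; module)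
      obtain ⟨B, hB⟩ := Groth.L14.Chev.exists_isAdj (j := j) hv b₀ a hi0.symm
      have hswap := hA0.swap hv hB hi0 (d := b) (by rw [hb0b, add_comm])
      have hpr := hi0.pairs
      simp only [Set.mem_insert_iff, Set.mem_singleton_iff, Prod.mk.injEq] at hpr
      have hk0 : D.P.pairing b₀ a = -2 := by
        rw [Groth.L14.Chart.RootCombo.pairing_of_eq D.P (k := b₀) (i := b) (j := a) (r := 1) (s := -1)
          (by rw [hb₀]; push_cast; module), D.P.pairing_same, hba]
        norm_num
      have hk1 : D.P.pairing a b₀ = -1 := by omega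
      have hBb := hC.top_value hv hB (Groth.L14.Chev.refl_eq (q := 1) hk1 (by rw [one_smul, hb0b, add_comm]))
        (hi0.of_combo (r := 0) (s := 1) (t := 1) (w := 1) (by simp) (by rw [hb0b]; module) (by simp)) (by
        rintro ⟨k, hk⟩
        have hk' : D.P.root k = (2 : ℤ) • D.P.root b + (-1 : ℤ) • D.P.root a := by rw [hk, hb0b]; module
        have := Groth.L14.Chart.RootCombo.pairing_of_eq D.P hk' b
        have hkk : Groth.L14.Chev.Indep D k b := hind'.of_combo (r := -1) (s := 2) (t := 0) (w := 1)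
          (by rw [hk']; abel) (by simp) (by simp)
        have hpk := hkk.pairs
        simp only [Set.mem_insert_iff, Set.mem_singleton_iff, Prod.mk.injEq] at hpk
        rw [D.P.pairing_same, hab, hba] at this
        omega)
      rw [htop, hswap, hBb] at h2
      simp only [show (2 : ℕ) ≠ 1 from by norm_num, if_false, if_true]
      push_cast
      linear_combination (sg b₀ a : R) * h2 - A c * hsq b₀ a
    · obtain ⟨b₁, hb₁⟩ := hpk 1 (by norm_num)
      push_cast at hb₁
      rw [one_smul] at hb₁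
      have hi1 : Groth.L14.Chev.Indep D a b₁ := hind'.of_combo (r := 1) (s := 0) (t := -1) (w := 1)
        (by simp) (by rw [hb₁]; module) (by simp)
      obtain ⟨A1, hA1⟩ := Groth.L14.Chev.exists_isAdj (j := j) hv a b₁ hi1
      have h3 := (hA0.comp_three hv hi0 (c₁ := b₁) (c₂ := b) (c₃ := c) hA1 hA (by rw [hb₁, hb₀]; push_cast; module)
        (by rw [hb₀]; push_cast; module) (by rw [hc, hb₀]; push_cast; module)).2
      have hina : Groth.L14.Chev.Indep D (D.P.reflectionPerm a a) c := hind'.of_combo (r := -1) (s := 0) (t := 1) (w := 1)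
        (by rw [Groth.L14.Chev.root_self_refl]; module) (by rw [hc, one_smul, one_smul]) (by simp)
      obtain ⟨Gc, hGc⟩ := Groth.L14.Chev.exists_isAdj (j := j) hv _ c hina
      obtain ⟨B, hB⟩ := Groth.L14.Chev.exists_isAdj (j := j) hv c _ hina.symm
      have hsec := hC.top_second hv hA0 hGc ht hiac hac (m := b) (by rw [hc]; abel)
      have hswap := hGc.swap hv hB hina (d := b) (by rw [Groth.L14.Chev.root_self_refl, hc]; abel)
      have hca : D.P.pairing c a = 3 := by
        rw [Groth.L14.Chart.RootCombo.pairing_of_eq D.P (k := c) (i := a) (j := b) (r := 1) (s := 1)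
          (by rw [hc, one_smul, one_smul]) a, D.P.pairing_same, hba]
        norm_num
      have hpr := hiac.pairs
      simp only [Set.mem_insert_iff, Set.mem_singleton_iff, Prod.mk.injEq] at hpr
      have hac1 : D.P.pairing (D.P.reflectionPerm a a) c = -1 := by
        rw [D.P.pairing_reflectionPerm_self_left]
        omega
      have hBb := hC.top_value hv hB (Groth.L14.Chev.refl_eq (t := b) (q := 1) hac1
        (by rw [Groth.L14.Chev.root_self_refl, hc]; module))
        (hind'.of_combo (r := 1) (s := 1) (t := 0) (w := 1) (by rw [hc, one_smul, one_smul]) (by simp) (by simp))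
        (by rw [hc, add_assoc, ← two_nsmul]; exact h12)
      rw [htop, hsec, hswap, hBb] at h3
      simp only [show (3 : ℕ) ≠ 1 from by norm_num, show (3 : ℕ) ≠ 2 from by norm_num, if_false]
      push_cast
      linear_combination -(sg a b₀ : R) * (sg a a : R) * (sg c (D.P.reflectionPerm a a) : R) * h3
        - A c * hsq a b₀ - A c * (sg a b₀ : R) ^ 2 * hsq a a
        - A c * ((sg a b₀ : R) * (sg a a : R)) ^ 2 * hsq c (D.P.reflectionPerm a a)
        + 3 * (sg a a : R) * (sg c (D.P.reflectionPerm a a) : R) * hsq a b₀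
  obtain ⟨b₀, hb₀⟩ := hpk (p - 1) (by omega)
  rw [Nat.cast_sub hp1, Nat.cast_one] at hb₀
  refine ⟨if p = 1 then -sg a b else if p = 2 then sg a b₀ * sg b₀ a else
    -(sg a a * sg c (D.P.reflectionPerm a a)), ?_, fun X x y z hz => ?_⟩
  · rcases hsg a b with h1 | h1 <;> rcases hsg a b₀ with h2 | h2 <;> rcases hsg b₀ a with h3 | h3 <;>
      rcases hsg a a with h4 | h4 <;> rcases hsg c (D.P.reflectionPerm a a) with h5 | h5 <;>
      split_ifs <;> simp [h1, h2, h3, h4, h5]
  refine Groth.L14.Chart.hom_ext_open fun R _ j _ C _ _ t => ?_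
  simp only [MonObj.comp_mul, GrpObj.comp_inv, ← Category.assoc]
  rw [← Groth.L14.RankOne.gp_gv (t ≫ x), ← Groth.L14.RankOne.gp_gv (t ≫ y), ← Groth.L14.RankOne.gp_gv (t ≫ z)]
  obtain ⟨A, hA⟩ := Groth.L14.Chev.exists_isAdj (j := j) hv a b hind'
  refine (Groth.L14.Chev.comm_single hv hind' hA hc h21 h12 _ _).trans ?_
  congr 2
  rw [main R j A hA b₀ hb₀, Groth.L14.Chev.gv_comp_eq t z hz, Groth.L14.Chev.gv_comp_eq t x rfl,
    Groth.L14.Chev.gv_comp_eq t y rfl]
  split_ifs <;> simp

end Groth.Agent.S8479
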