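import Groth.Statements.S8481
import Groth.Agent.L14.Chev.GTwo

set_option autoImplicit false
set_option backward.isDefEq.respectTransparency.types false
universe u
open CategoryTheory MonoidalCategory CartesianMonoidalCategory MonObj GrpObj AlgebraicGeometry CategoryTheory.Limits
open Red

namespace Groth.Agent.S8481

/-- The case (p, q) = (1,3) of the table. Let G be a split reductive S-group with splitting D (torus T ≅
D_S(M), root datum) and a Chevalley system at the level of root groups: for every root c a root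
homomorphism v_c : 𝔾_a ⟶ G (normalised by T through the character of c) with a dual root
homomorphism v_c⁻ (v_c(x) v_c⁻(y) = v_c⁻(y/(1+xy)) c^∨(1+xy) v_c(x/(1+xy)) for 1 + xy invertible),
such that with n_c = v_c(1) v_c⁻(1)⁻¹ v_c(1) one has, for all roots c, b, n_c v_b(x) n_c⁻¹ =
v_{s_c(b)}(± x) for a sign depending on (c, b). Let a, b be two linearly independent roots with |⟨a,
b^∨⟩| ≤ |⟨b, a^∨⟩| (a is not longer than b). Suppose b - a is not a root and a + b, 2a + b, 3a + b,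
3a + 2b are roots with indices c₁, c₂, c₃, c₄. Then there are signs ε₁, …, ε₄ ∈ {1, -1} with v_b(y)
v_a(x) v_b(y)⁻¹ v_a(x)⁻¹ = v_{c₁}(ε₁ x y) v_{c₂}(ε₂ x² y) v_{c₃}(ε₃ x³ y) v_{c₄}(ε₄ x³ y²) for all
points x, y of 𝔾_a. -/
theorem result (S : Scheme.{u}) (e₁ : 𝟙_ (Over S) ⟶ Red.Ga S) (he₁ : Red.gaFn e₁ = 1)
    (G : Over S) [GrpObj G] (D : Red.SplitRed G)
    (avc : D.idx → (Red.Gm S ⟶ D.T))
    (havc : ∀ a, avc a = Red.DSmap S (D.P.coroot a).toAddMonoidHom ≫ D.split.inv.hom.hom)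
    (v vd : D.idx → (Red.Ga S ⟶ G)) (hv : ∀ c, Red.IsRootHom D.i (D.split.hom.hom.hom ≫ Red.chi S (D.P.root c)) (v c))
    (hvd : ∀ c, IsMonHom (vd c) ∧ ∀ (X : Over S) (x y : X ⟶ Red.Ga S), IsUnit (1 + Red.gaFn x * Red.gaFn y) →
        ∃ (x' y' : X ⟶ Red.Ga S) (z : X ⟶ Red.Gm S), Red.gmFn z = 1 + Red.gaFn x * Red.gaFn y ∧
          Red.gaFn x' * Red.gmFn z = Red.gaFn x ∧ Red.gaFn y' * Red.gmFn z = Red.gaFn y ∧
          (x ≫ v c) * (y ≫ vd c) = (y' ≫ vd c) * (z ≫ avc c ≫ D.i) * (x' ≫ v c))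
    (n : D.idx → (𝟙_ (Over S) ⟶ G)) (hn : ∀ c, n c = (e₁ ≫ v c) * (e₁ ≫ vd c)⁻¹ * (e₁ ≫ v c))
    (hSC : ∀ c b, ∃ ε : ℤ, (ε = 1 ∨ ε = -1) ∧ ∀ (X : Over S) (x y : X ⟶ Red.Ga S),
      Red.gaFn y = (ε : Γ(X.left, ⊤)) * Red.gaFn x →
        (toUnit X ≫ n c) * (x ≫ v b) * (toUnit X ≫ n c)⁻¹ = y ≫ v (D.P.reflectionPerm c b))
    (a b : D.idx) (hind : ∀ r s : ℤ, r • D.P.root a + s • D.P.root b = 0 → r = 0 ∧ s = 0)
    (hlen : |D.P.pairing a b| ≤ |D.P.pairing b a|)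
    (hm : D.P.root b - D.P.root a ∉ Set.range D.P.root) (c₁ c₂ c₃ c₄ : D.idx) (hc₁ : D.P.root c₁ = D.P.root a + D.P.root b)
    (hc₂ : D.P.root c₂ = (2 : ℤ) • D.P.root a + D.P.root b) (hc₃ : D.P.root c₃ = (3 : ℤ) • D.P.root a + D.P.root b)
    (hc₄ : D.P.root c₄ = (3 : ℤ) • D.P.root a + (2 : ℤ) • D.P.root b) :
    ∃ ε : Fin 4 → ℤ, (∀ j, ε j = 1 ∨ ε j = -1) ∧ ∀ (X : Over S) (x y z₁ z₂ z₃ z₄ : X ⟶ Red.Ga S),
      Red.gaFn z₁ = (ε 0 : Γ(X.left, ⊤)) * Red.gaFn x * Red.gaFn y →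
      Red.gaFn z₂ = (ε 1 : Γ(X.left, ⊤)) * Red.gaFn x ^ 2 * Red.gaFn y →
      Red.gaFn z₃ = (ε 2 : Γ(X.left, ⊤)) * Red.gaFn x ^ 3 * Red.gaFn y →
      Red.gaFn z₄ = (ε 3 : Γ(X.left, ⊤)) * Red.gaFn x ^ 3 * Red.gaFn y ^ 2 →
        (y ≫ v b) * (x ≫ v a) * (y ≫ v b)⁻¹ * (x ≫ v a)⁻¹ = (z₁ ≫ v c₁) * (z₂ ≫ v c₂) * (z₃ ≫ v c₃) * (z₄ ≫ v c₄) := by
  classical
  choose sg hsg hsc using hSC
  have hind' : Groth.L14.Chev.Indep D a b := hind
  have hn41 : D.P.root b + ((3 : ℤ) + 1) • D.P.root a ∉ Set.range D.P.root := by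
    rintro ⟨d, hd⟩
    have hd' : D.P.root d = (4 : ℤ) • D.P.root a + (1 : ℤ) • D.P.root b := by rw [hd]; module
    have hi : Groth.L14.Chev.Indep D d a := hind'.of_combo (r := 4) (s := 1) (t := 1) (w := 0) hd' (by simp) (by simp)
    have hle := hi.pairing_le
    have e3 := Groth.L14.Chart.RootCombo.pairing_of_eq D.P (k := c₃) (i := a) (j := b) (r := 3) (s := 1)
      (by rw [hc₃, one_smul]) a
    have hi3 : Groth.L14.Chev.Indep D c₃ a := hind'.of_combo (r := 3) (s := 1) (t := 1) (w := 0)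
      (by rw [hc₃, one_smul]) (by simp) (by simp)
    have hle3 := hi3.pairing_le
    have hda := Groth.L14.Chart.RootCombo.pairing_of_eq D.P hd' a
    rw [D.P.pairing_same] at hda e3
    have := hind'.symm.pairing_le
    omega
  have hba : D.P.pairing b a = -3 := by
    have h1 := Groth.L14.Chev.pairing_of_string hind' (r := 0) (q := 3) (by simp)
      (by simpa using hm) ⟨c₃, by rw [hc₃]; push_cast; abel⟩ (by simpa using hn41)
    push_cast at h1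
    omega
  refine ⟨![sg b a, -(sg a b * sg a a * sg c₃ (D.P.reflectionPerm a a)), -sg a b, sg b c₃ * sg a b], ?_,
    fun X x y z₁ z₂ z₃ z₄ hz₁ hz₂ hz₃ hz₄ => ?_⟩
  · intro i
    fin_cases i <;> rcases hsg b a with h1 | h1 <;> rcases hsg a b with h2 | h2 <;> rcases hsg a a with h3 | h3 <;>
      rcases hsg c₃ (D.P.reflectionPerm a a) with h4 | h4 <;> rcases hsg b c₃ with h5 | h5 <;>
      simp [h1, h2, h3, h4, h5]
  refine Groth.L14.Chart.hom_ext_open fun R _ j _ C _ _ t => ?_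
  simp only [MonObj.comp_mul, GrpObj.comp_inv, ← Category.assoc]
  rw [← Groth.L14.RankOne.gp_gv (t ≫ x), ← Groth.L14.RankOne.gp_gv (t ≫ y), ← Groth.L14.RankOne.gp_gv (t ≫ z₁),
    ← Groth.L14.RankOne.gp_gv (t ≫ z₂), ← Groth.L14.RankOne.gp_gv (t ≫ z₃), ← Groth.L14.RankOne.gp_gv (t ≫ z₄)]
  have hC := Groth.L14.Chev.isChev_of_system j avc havc hv hvd e₁ he₁ n hn hsg hsc
  refine (hC.comm_g2 hv hind' hba hc₁ hc₂ hc₃ hc₄ _ _).trans ?_
  congr 4 <;>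
    simp [Groth.L14.Chev.gv_comp_eq t z₁ hz₁, Groth.L14.Chev.gv_comp_eq t z₂ hz₂,
      Groth.L14.Chev.gv_comp_eq t z₃ hz₃, Groth.L14.Chev.gv_comp_eq t z₄ hz₄, Groth.L14.Chev.gv_comp_eq t x rfl,
      Groth.L14.Chev.gv_comp_eq t y rfl]

end Groth.Agent.S8481
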