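import Groth.Statements.S8482
import Groth.Agent.L14.Chev.StringFour

set_option autoImplicit false
set_option backward.isDefEq.respectTransparency.types false
universe u
open CategoryTheory MonoidalCategory CartesianMonoidalCategory MonObj GrpObj AlgebraicGeometry CategoryTheory.Limits
open Red

namespace Groth.Agent.S8482

/-- The case (p, q) = (2,2) of the table. Let G be a split reductive S-group with splitting D (torus T ≅
D_S(M), root datum) and a Chevalley system at the level of root groups: for every root c a root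
homomorphism v_c : 𝔾_a ⟶ G (normalised by T through the character of c) with a dual root
homomorphism v_c⁻ (v_c(x) v_c⁻(y) = v_c⁻(y/(1+xy)) c^∨(1+xy) v_c(x/(1+xy)) for 1 + xy invertible),
such that with n_c = v_c(1) v_c⁻(1)⁻¹ v_c(1) one has, for all roots c, b, n_c v_b(x) n_c⁻¹ =
v_{s_c(b)}(± x) for a sign depending on (c, b). Let a, b be two linearly independent roots with |⟨a,
b^∨⟩| ≤ |⟨b, a^∨⟩| (a is not longer than b). Suppose b - a is a root and b - 2a is not, a + b and 2a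
+ b are roots with indices c₁, c₂, 3a + b is not a root, and a + 2b is a root with index c₃. Then
there are signs ε₁, ε₂, ε₃ ∈ {1, -1} with v_b(y) v_a(x) v_b(y)⁻¹ v_a(x)⁻¹ = v_{c₁}(2 ε₁ x y)
v_{c₂}(3 ε₂ x² y) v_{c₃}(3 ε₃ x y²) for all points x, y of 𝔾_a. -/
theorem result (S : Scheme.{u}) (e₁ : 𝟙_ (Over S) ⟶ Red.Ga S) (he₁ : Red.gaFn e₁ = 1)
    (G : Over S) [GrpObj G] (D : Red.SplitRed G)
    (avc : D.idx → (Red.Gm S ⟶ D.T))
    (havc : ∀ a, avc a = Red.DSmap S (D.P.coroot a).toAddMonoidHom ≫ D.split.inv.hom.hom)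
    (v vd : D.idx → (Red.Ga S ⟶ G)) (hv : ∀ c, Red.IsRootHom D.i (D.split.hom.hom.hom ≫ Red.chi S (D.P.root c)) (v c))
    (hvd : ∀ c, IsMonHom (vd c) ∧ ∀ (X : Over S) (x y : X ⟶ Red.Ga S), IsUnit (1 + Red.gaFn x * Red.gaFn y) →
        ∃ (x' y' : X ⟶ Red.Ga S) (z : X ⟶ Red.Gm S), Red.gmFn z = 1 + Red.gaFn x * Red.gaFn y ∧
          Red.gaFn x' * Red.gmFn z = Red.gaFn x ∧ Red.gaFn y' * Red.gmFn z = Red.gaFn y ∧
          (x ≫ v c) * (y ≫ vd c) = (y' ≫ vd c) * (z ≫ avc c ≫ D.i) * (x' ≫ v c))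
    (n : D.idx → (𝟙_ (Over S) ⟶ G)) (hn : ∀ c, n c = (e₁ ≫ v c) * (e₁ ≫ vd c)⁻¹ * (e₁ ≫ v c))
    (hSC : ∀ c b, ∃ ε : ℤ, (ε = 1 ∨ ε = -1) ∧ ∀ (X : Over S) (x y : X ⟶ Red.Ga S),
      Red.gaFn y = (ε : Γ(X.left, ⊤)) * Red.gaFn x →
        (toUnit X ≫ n c) * (x ≫ v b) * (toUnit X ≫ n c)⁻¹ = y ≫ v (D.P.reflectionPerm c b))
    (a b : D.idx) (hind : ∀ r s : ℤ, r • D.P.root a + s • D.P.root b = 0 → r = 0 ∧ s = 0)
    (hlen : |D.P.pairing a b| ≤ |D.P.pairing b a|)
    (hm1 : D.P.root b - D.P.root a ∈ Set.range D.P.root) (hm2 : D.P.root b - (2 : ℤ) • D.P.root a ∉ Set.range D.P.root)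
    (c₁ c₂ c₃ : D.idx) (hc₁ : D.P.root c₁ = D.P.root a + D.P.root b)
    (hc₂ : D.P.root c₂ = (2 : ℤ) • D.P.root a + D.P.root b) (hq : D.P.root b + (3 : ℤ) • D.P.root a ∉ Set.range D.P.root)
    (hc₃ : D.P.root c₃ = D.P.root a + (2 : ℤ) • D.P.root b) :
    ∃ ε₁ ε₂ ε₃ : ℤ, (ε₁ = 1 ∨ ε₁ = -1) ∧ (ε₂ = 1 ∨ ε₂ = -1) ∧ (ε₃ = 1 ∨ ε₃ = -1) ∧
      ∀ (X : Over S) (x y z₁ z₂ z₃ : X ⟶ Red.Ga S),
      Red.gaFn z₁ = 2 * (ε₁ : Γ(X.left, ⊤)) * Red.gaFn x * Red.gaFn y →
      Red.gaFn z₂ = 3 * (ε₂ : Γ(X.left, ⊤)) * Red.gaFn x ^ 2 * Red.gaFn y →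
      Red.gaFn z₃ = 3 * (ε₃ : Γ(X.left, ⊤)) * Red.gaFn x * Red.gaFn y ^ 2 →
        (y ≫ v b) * (x ≫ v a) * (y ≫ v b)⁻¹ * (x ≫ v a)⁻¹ = (z₁ ≫ v c₁) * (z₂ ≫ v c₂) * (z₃ ≫ v c₃) := by
  classical
  choose sg hsg hsc using hSC
  have hind' : Groth.L14.Chev.Indep D a b := hind
  have hba : D.P.pairing b a = -1 := by
    have h1 := Groth.L14.Chev.pairing_of_string hind' (r := 1) (q := 2) (by simpa using hm1) (by simpa using hm2)
      ⟨c₂, by rw [hc₂]; push_cast; abel⟩ (by simpa using hq)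
    push_cast at h1
    omega
  have hab : D.P.pairing a b = -1 := by
    have := hind'.pairs
    simp only [Set.mem_insert_iff, Set.mem_singleton_iff, Prod.mk.injEq] at this
    rw [hba] at hlen this
    rcases this with h | h | h | h | h | h | h | h | h | h | h <;> rw [h.1] at hlen <;> norm_num at hlen <;> omega
  obtain ⟨e₀, he₀⟩ := hm1
  let e₀' := D.P.reflectionPerm e₀ e₀
  have he₀' : D.P.root e₀' = D.P.root a - D.P.root b := by
    rw [Groth.L14.Chev.root_self_refl, he₀, neg_sub]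
  have hi0 : Groth.L14.Chev.Indep D a e₀ := hind'.of_combo (r := 1) (s := 0) (t := -1) (w := 1)
    (by simp) (by rw [he₀]; module) (by simp)
  have hi0' : Groth.L14.Chev.Indep D b e₀' := hind'.of_combo (r := 0) (s := 1) (t := 1) (w := -1)
    (by simp) (by rw [he₀']; module) (by simp)
  have hp0 : D.P.pairing e₀ a = -3 := by
    rw [Groth.L14.Chart.RootCombo.pairing_of_eq D.P (k := e₀) (i := a) (j := b) (r := -1) (s := 1)
      (by rw [he₀]; module), D.P.pairing_same, hba]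
    norm_num
  have hp0' : D.P.pairing e₀' b = -3 := by
    rw [Groth.L14.Chart.RootCombo.pairing_of_eq D.P (k := e₀') (i := a) (j := b) (r := 1) (s := -1)
      (by rw [he₀']; module), D.P.pairing_same, hab]
    norm_num
  have h22 : (2 : ℤ) • D.P.root a + (2 : ℤ) • D.P.root b ∉ Set.range D.P.root := by
    rintro ⟨d, hd⟩
    have hd' : D.P.root d = (2 : ℤ) • D.P.root c₁ := by rw [hd, hc₁, smul_add]
    have hk : D.P.root c₁ = (1 : ℤ) • D.P.root a + (1 : ℤ) • D.P.root b := by rw [hc₁, one_smul, one_smul]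
    have hia : Groth.L14.Chev.Indep D a c₁ := hind'.of_combo (r := 1) (s := 0) (by simp) hk (by simp)
    have hib : Groth.L14.Chev.Indep D b c₁ := hind'.of_combo (r := 0) (s := 1) (by simp) hk (by simp)
    have h1 := Groth.L14.Chev.pairing_double hd' a
    have h2 := Groth.L14.Chart.RootCombo.pairing_of_eq D.P hk c₁
    have h3 := Groth.L14.Chart.RootCombo.pairing_of_eq D.P hk a
    have h4 := Groth.L14.Chart.RootCombo.pairing_of_eq D.P hk b
    rw [D.P.pairing_same] at h2 h3 h4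
    have p1 := hia.pairs
    have p2 := hib.pairs
    simp only [Set.mem_insert_iff, Set.mem_singleton_iff, Prod.mk.injEq] at p1 p2
    omega
  have hquad : ∀ (i k : ℕ), 1 ≤ i → 1 ≤ k → ∀ d, D.P.root d = i • D.P.root a + k • D.P.root b →
      (i, k) ∈ [(1, 1), (2, 1), (1, 2)] := by
    intro i k hi hk d hd
    refine Groth.L14.Chev.quadrant hind' _ List.mem_cons_self (fun p hp => ?_) hi hk hd
    have h31 : (3 : ℕ) • D.P.root a + 1 • D.P.root b ∉ Set.range D.P.root := by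
      rw [one_smul, add_comm, ← natCast_zsmul]; exact hq
    have h22' : (2 : ℕ) • D.P.root a + 2 • D.P.root b ∉ Set.range D.P.root := by
      rw [← natCast_zsmul, ← natCast_zsmul]; exact h22
    have h13 : 1 • D.P.root a + 3 • D.P.root b ∉ Set.range D.P.root := by
      rw [← natCast_zsmul, ← natCast_zsmul, add_comm]
      exact Groth.L14.Chev.not_root_of_pairing hind'.symm (by norm_num) (Or.inl (by rw [hab]; norm_num))
    simp only [List.mem_cons, List.not_mem_nil, or_false] at hp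
    rcases hp with rfl | rfl | rfl
    · exact ⟨Or.inl (by simp), Or.inl (by simp)⟩
    · exact ⟨Or.inr h31, Or.inr h22'⟩
    · exact ⟨Or.inr h22', Or.inr h13⟩
  refine ⟨sg e₀ a * (sg a e₀ * sg a a * sg c₂ (D.P.reflectionPerm a a)), sg e₀ a * sg a e₀,
    -(sg e₀' b * sg b e₀'), ?_, ?_, ?_, fun X x y z₁ z₂ z₃ hz₁ hz₂ hz₃ => ?_⟩
  · rcases hsg e₀ a with h1 | h1 <;> rcases hsg a e₀ with h2 | h2 <;> rcases hsg a a with h3 | h3 <;>
      rcases hsg c₂ (D.P.reflectionPerm a a) with h4 | h4 <;> simp [h1, h2, h3, h4]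
  · rcases hsg e₀ a with h1 | h1 <;> rcases hsg a e₀ with h2 | h2 <;> simp [h1, h2]
  · rcases hsg e₀' b with h1 | h1 <;> rcases hsg b e₀' with h2 | h2 <;> simp [h1, h2]
  refine Groth.L14.Chart.hom_ext_open fun R _ j _ C _ _ t => ?_
  simp only [MonObj.comp_mul, GrpObj.comp_inv, ← Category.assoc]
  rw [← Groth.L14.RankOne.gp_gv (t ≫ x), ← Groth.L14.RankOne.gp_gv (t ≫ y), ← Groth.L14.RankOne.gp_gv (t ≫ z₁),
    ← Groth.L14.RankOne.gp_gv (t ≫ z₂), ← Groth.L14.RankOne.gp_gv (t ≫ z₃)]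
  have hC := Groth.L14.Chev.isChev_of_system j avc havc hv hvd e₁ he₁ n hn hsg hsc
  obtain ⟨A, hA⟩ := Groth.L14.Chev.exists_isAdj (j := j) hv a b hind'
  obtain ⟨B, hB⟩ := Groth.L14.Chev.exists_isAdj (j := j) hv b a hind'.symm
  have hi2 : Groth.L14.Chev.Indep D a c₁ := hind'.of_combo (r := 1) (s := 0) (t := 1) (w := 1)
    (by simp) (by rw [hc₁, one_smul, one_smul]) (by simp)
  have hi2' : Groth.L14.Chev.Indep D b c₁ := hind'.of_combo (r := 0) (s := 1) (t := 1) (w := 1)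
    (by simp) (by rw [hc₁, one_smul, one_smul]) (by simp)
  obtain ⟨A2, hA2⟩ := Groth.L14.Chev.exists_isAdj (j := j) hv a c₁ hi2
  obtain ⟨B2, hB2⟩ := Groth.L14.Chev.exists_isAdj (j := j) hv b c₁ hi2'
  obtain ⟨vA1, vA2, -⟩ := hC.string_four hv hi0 hp0 (e₁ := b) (e₂ := c₁) (e₃ := c₂) (by rw [he₀]; abel)
    (by rw [hc₁, add_comm]) (by rw [hc₂, hc₁, two_smul]; abel) hA hA2
  obtain ⟨-, vB2, -⟩ := hC.string_four hv hi0' hp0' (e₁ := a) (e₂ := c₁) (e₃ := c₃) (by rw [he₀']; abel)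
    hc₁ (by rw [hc₃, hc₁, two_smul]; abel) hB hB2
  obtain ⟨K, hK⟩ := Groth.L14.Chev.exists_isCommK (j := j) hv a b hind'
  have e11 := Groth.L14.Chev.pexp_eq hind' le_rfl le_rfl
    (show D.P.root c₁ = 1 • D.P.root a + 1 • D.P.root b by rw [hc₁, one_smul, one_smul])
  have e21 := Groth.L14.Chev.pexp_eq hind' (i := 2) (k := 1) (by norm_num) le_rfl
    (show D.P.root c₂ = 2 • D.P.root a + 1 • D.P.root b by rw [hc₂, one_smul, ← natCast_zsmul]; rfl)
  have e12 := Groth.L14.Chev.pexp_eq hind' (i := 1) (k := 2) le_rfl (by norm_num)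
    (show D.P.root c₃ = 1 • D.P.root a + 2 • D.P.root b by rw [hc₃, one_smul, ← natCast_zsmul]; rfl)
  have k1 := hK.eq_neg_adj hv hA hind' le_rfl (d := c₁) (by rw [hc₁, one_smul])
  have k2 := hK.eq_neg_adj hv hA hind' (i := 2) (by norm_num) (d := c₂) (by rw [hc₂, ← natCast_zsmul]; rfl)
  have k3 := hK.eq_adj_flip hv hB hind' (k := 2) (by norm_num) (d := c₃) (by rw [hc₃, ← natCast_zsmul]; rfl)
  have hnd : [c₁, c₂, c₃].Nodup := by
    have h12 : c₁ ≠ c₂ := fun e => by simp [e, e21] at e11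
    have h13 : c₁ ≠ c₃ := fun e => by simp [e, e12] at e11
    have h23 : c₂ ≠ c₃ := fun e => by simp [e, e12] at e21
    simp [h12, h13, h23]
  have hcomm : ∀ p ∈ [c₁, c₂, c₃], ∀ q ∈ [c₁, c₂, c₃], ∀ r s : C,
      Commute (Groth.L14.RankOne.gp j r ≫ v p) (Groth.L14.RankOne.gp j s ≫ v q) := by
    have hmem : ∀ p ∈ [c₁, c₂, c₃], ∃ i k : ℕ, 1 ≤ i ∧ 1 ≤ k ∧ 3 ≤ 2 * i + k ∧
        D.P.root p = i • D.P.root a + k • D.P.root b := by
      intro p hp
      simp only [List.mem_cons, List.not_mem_nil, or_false] at hp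
      rcases hp with rfl | rfl | rfl
      · exact ⟨1, 1, le_rfl, le_rfl, by norm_num, by rw [hc₁, one_smul, one_smul]⟩
      · exact ⟨2, 1, by norm_num, le_rfl, by norm_num, by rw [hc₂, one_smul, ← natCast_zsmul]; rfl⟩
      · exact ⟨1, 2, le_rfl, by norm_num, by norm_num, by rw [hc₃, one_smul, ← natCast_zsmul]; rfl⟩
    intro p hp q hq r s
    obtain ⟨i, k, hi, hk, h3, he⟩ := hmem p hp
    obtain ⟨i', k', hi', hk', h3', he'⟩ := hmem q hq
    have hsum : D.P.root p + D.P.root q = (i + i') • D.P.root a + (k + k') • D.P.root b := by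
      rw [he, he', add_smul, add_smul]; abel
    refine Groth.L14.Chev.commute_roots hv (fun h => ?_) (fun ⟨d, hd⟩ => ?_) r s
    · rw [hsum] at h
      have := (hind' ((i + i' : ℕ) : ℤ) ((k + k' : ℕ) : ℤ) (by rw [natCast_zsmul, natCast_zsmul]; exact h)).1
      omega
    · have := hquad (i + i') (k + k') (by omega) (by omega) d (hd.trans hsum)
      simp at this
      omega
  refine (show _ = Groth.L14.Chart.comm j (v a) (v b) _ _ from rfl).trans ((hK.eq C _ _).trans ?_)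
  rw [Groth.L14.Chev.rp_of_commute hv [c₁, c₂, c₃] hnd _ (fun d hd => ?_) (fun p hp q hq => hcomm p hp q hq _ _)]
  · simp only [List.map_cons, List.map_nil, List.prod_cons, List.prod_nil, mul_one, e11, e21, e12, k1, k2, k3,
      vA1, vA2, vB2, ← _root_.mul_assoc]
    simp only [_root_.mul_one]
    congr 4 <;>
      simp [Groth.L14.Chev.gv_comp_eq t z₁ hz₁, Groth.L14.Chev.gv_comp_eq t z₂ hz₂,
        Groth.L14.Chev.gv_comp_eq t z₃ hz₃, Groth.L14.Chev.gv_comp_eq t x rfl, Groth.L14.Chev.gv_comp_eq t y rfl,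
        map_ofNat] <;> ring
  · by_contra h
    have hK' : K d ≠ 0 := fun h' => h (by simp [h'])
    obtain ⟨i, k, hi, hk, he⟩ := hK.supp d hK'
    have := hquad i k hi hk d he
    simp only [List.mem_cons, List.not_mem_nil, or_false, Prod.mk.injEq] at this
    apply hd
    simp only [List.mem_cons, List.not_mem_nil, or_false]
    rcases this with ⟨rfl, rfl⟩ | ⟨rfl, rfl⟩ | ⟨rfl, rfl⟩
    · exact Or.inl (D.P.root.injective (by rw [he, hc₁, one_smul, one_smul]))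
    · exact Or.inr (Or.inl (D.P.root.injective (by rw [he, hc₂, one_smul, ← natCast_zsmul]; rfl)))
    · exact Or.inr (Or.inr (D.P.root.injective (by rw [he, hc₃, one_smul, ← natCast_zsmul]; rfl)))

end Groth.Agent.S8482
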