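import Groth.Statements.S8484
import Groth.Agent.L14.Chev.Middle

set_option autoImplicit false
set_option backward.isDefEq.respectTransparency.types false
universe u
open CategoryTheory MonoidalCategory CartesianMonoidalCategory MonObj GrpObj AlgebraicGeometry CategoryTheory.Limits
open Red

namespace Groth.Agent.S8484

/-- At the level of root groups. Let G be a pinned reductive S-group: a splitting D (maximal torus T ≅
D_S(M), root datum with root homomorphisms u_c : 𝔾_a ⟶ G for all roots c, system of simple roots Δ)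
such that for every simple root a the root homomorphisms of a and -a are dual to each other: u_a(x)
u_{-a}(y) = u_{-a}(y/(1+xy)) · a^∨(1+xy) · u_a(x/(1+xy)) whenever 1 + xy is invertible, where a^∨ :
𝔾_m ⟶ T is the coroot of a read through the splitting. For a root a put w_a = u_a(1) u_{-a}(-1)
u_a(1) (an S-point of G). Let a ≠ b be simple roots with ⟨b, a^∨⟩ = ⟨a, b^∨⟩ = -1 (type A₂) and put
u_{a+b}(x) = w_b u_a(x) w_b⁻¹. Then for all points x of 𝔾_a: w_a u_b(x) w_a⁻¹ = u_{a+b}(-x), w_a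
u_{a+b}(x) w_a⁻¹ = u_b(x) and w_b u_{a+b}(x) w_b⁻¹ = u_a(-x) (the relations Ad(w_a) X_b = -X_{a+b},
Ad(w_a) X_{a+b} = X_b, Ad(w_b) X_{a+b} = -X_a). (The published statement is for a pinned group whose
simple roots are exactly a and b; this row states it for two simple roots a ≠ b of any pinned
group.) -/
theorem result (S : Scheme.{u}) (e₁ : 𝟙_ (Over S) ⟶ Red.Ga S) (he₁ : Red.gaFn e₁ = 1)
    (G : Over S) [GrpObj G] (D : Red.Pinning G)
    (avc : D.idx → (Red.Gm S ⟶ D.T))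
    (havc : ∀ a, avc a = Red.DSmap S (D.P.coroot a).toAddMonoidHom ≫ D.split.inv.hom.hom)
    (hpair : ∀ a ∈ D.base.support, ∀ (X : Over S) (x y : X ⟶ Red.Ga S), IsUnit (1 + Red.gaFn x * Red.gaFn y) →
        ∃ (x' y' : X ⟶ Red.Ga S) (z : X ⟶ Red.Gm S), Red.gmFn z = 1 + Red.gaFn x * Red.gaFn y ∧
          Red.gaFn x' * Red.gmFn z = Red.gaFn x ∧ Red.gaFn y' * Red.gmFn z = Red.gaFn y ∧
          (x ≫ D.u a) * (y ≫ D.u (D.P.reflectionPerm a a)) = (y' ≫ D.u (D.P.reflectionPerm a a)) * (z ≫ avc a ≫ D.i) * (x' ≫ D.u a))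
    (w : D.idx → (𝟙_ (Over S) ⟶ G))
    (hw : ∀ a, w a = (e₁ ≫ D.u a) * (e₁ ≫ D.u (D.P.reflectionPerm a a))⁻¹ * (e₁ ≫ D.u a))
    (a b : D.idx) (ha : a ∈ D.base.support) (hb : b ∈ D.base.support) (hne : a ≠ b)
    (hba : D.P.pairing b a = -1) (hab : D.P.pairing a b = -1)
    (uab : ∀ X : Over S, (X ⟶ Red.Ga S) → (X ⟶ G))
    (huab : ∀ (X : Over S) (x : X ⟶ Red.Ga S), uab X x = (toUnit X ≫ w b) * (x ≫ D.u a) * (toUnit X ≫ w b)⁻¹)
    (X : Over S) (x nx : X ⟶ Red.Ga S) (hnx : Red.gaFn nx = - Red.gaFn x) :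
    (toUnit X ≫ w a) * (x ≫ D.u b) * (toUnit X ≫ w a)⁻¹ = uab X nx ∧
      (toUnit X ≫ w a) * uab X x * (toUnit X ≫ w a)⁻¹ = x ≫ D.u b ∧
      (toUnit X ≫ w b) * uab X x * (toUnit X ≫ w b)⁻¹ = nx ≫ D.u a := by
  have hab' := Groth.L14.Chev.indep_simple D ha hb hne
  have hda : Groth.L14.Chev.DualAt avc D.u (Groth.L14.Chev.opp D.u) a :=
    ⟨(D.rootHom _).1, fun X x y h => hpair a ha X x y h⟩
  have hdb : Groth.L14.Chev.DualAt avc D.u (Groth.L14.Chev.opp D.u) b :=
    ⟨(D.rootHom _).1, fun X x y h => hpair b hb X x y h⟩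
  have hacta := Groth.L14.Chev.actsBy_weyl avc havc D.rootHom e₁ he₁ a hda (hw a)
  have hactb := Groth.L14.Chev.actsBy_weyl avc havc D.rootHom e₁ he₁ b hdb (hw b)
  have pt : ∀ {R : Type u} [CommRing R] {j : Spec (CommRingCat.of R) ⟶ S} {C : Type u} [CommRing C] [Algebra R C]
      (t : Groth.L14.RankOne.Sp j C ⟶ X),
      t ≫ nx = Groth.L14.RankOne.gp j (-Groth.L14.RankOne.gv (t ≫ x)) := fun {R} _ {j} {C} _ _ t => by
    have h : Groth.L14.RankOne.gv (t ≫ nx) = -Groth.L14.RankOne.gv (t ≫ x) := by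
      rw [Groth.L14.Chev.gv_comp_eq t nx hnx, Groth.L14.Chev.gv_comp_eq t x rfl, map_neg, map_neg]
    rw [← h, Groth.L14.RankOne.gp_gv]
  have h21 : 2 • D.P.root a + D.P.root b ∉ Set.range D.P.root := by
    rw [add_comm, ← natCast_zsmul]
    exact Groth.L14.Chev.add_zsmul_notMem hab' (D.base.sub_notMem_range_root hb ha) (by rw [hba]; norm_num)
  have h12 : D.P.root a + 2 • D.P.root b ∉ Set.range D.P.root := by
    rw [← natCast_zsmul]
    exact Groth.L14.Chev.add_zsmul_notMem hab'.symm (D.base.sub_notMem_range_root ha hb) (by rw [hab]; norm_num)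
  simp only [huab, ← Groth.L14.Chev.comp_conjHom]
  refine ⟨?_, ?_, ?_⟩ <;> refine Groth.L14.Chart.hom_ext_open fun R _ j _ C _ _ t => ?_
  all_goals
    rw [← Category.assoc, ← Category.assoc, ← Groth.L14.RankOne.gp_gv (t ≫ x)]
    try simp only [pt t]
    generalize Groth.L14.RankOne.gv (t ≫ x) = z
  · rw [Groth.L14.Chev.a2_swap havc D.rootHom j e₁ he₁ (hw a) (hw b) hda hdb hab' hab hba h21 h12 (-z), neg_neg]
  · rw [← Groth.L14.Chev.a2_carry havc D.rootHom j e₁ he₁ (hw a) (hw b) hda hdb hab' hab hba h21 h12 z,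
      Groth.L14.Chev.comp_conjHom, Groth.L14.Chev.comp_conjHom]
    group
  · rw [Groth.L14.Chev.comp_conjHom, Groth.L14.Chev.weyl_sq_conj havc D.rootHom j e₁ he₁ hdb (hw b) (D.rootHom a), hab]
    simp

end Groth.Agent.S8484
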