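import Groth.Statements.S8485
import Groth.Agent.L14.Chev.Middle

set_option autoImplicit false
set_option backward.isDefEq.respectTransparency.types false
universe u
open CategoryTheory MonoidalCategory CartesianMonoidalCategory MonObj GrpObj AlgebraicGeometry CategoryTheory.Limits
open Red

namespace Groth.Agent.S8485

/-- At the level of root groups. Let G be a pinned reductive S-group: a splitting D (maximal torus T ≅
D_S(M), root datum with root homomorphisms u_c : 𝔾_a ⟶ G for all roots c, system of simple roots Δ)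
such that for every simple root a the root homomorphisms of a and -a are dual to each other: u_a(x)
u_{-a}(y) = u_{-a}(y/(1+xy)) · a^∨(1+xy) · u_a(x/(1+xy)) whenever 1 + xy is invertible, where a^∨ :
𝔾_m ⟶ T is the coroot of a read through the splitting. For a root a put w_a = u_a(1) u_{-a}(-1)
u_a(1) (an S-point of G). Let a ≠ b be simple roots with ⟨b, a^∨⟩ = -2 and ⟨a, b^∨⟩ = -1 (type B₂);
put u_{a+b}(x) = w_b u_a(x) w_b⁻¹ and u_{2a+b}(x) = w_a u_b(x) w_a⁻¹. Then for all points x of 𝔾_a: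
w_a u_{a+b}(x) w_a⁻¹ = u_{a+b}(-x), w_a u_{2a+b}(x) w_a⁻¹ = u_b(x), w_b u_{a+b}(x) w_b⁻¹ = u_a(-x)
and w_b u_{2a+b}(x) w_b⁻¹ = u_{2a+b}(x). (The published statement is for a pinned group whose simple
roots are exactly a and b; this row states it for two simple roots a ≠ b of any pinned group.) -/
theorem result (S : Scheme.{u}) (e₁ : 𝟙_ (Over S) ⟶ Red.Ga S) (he₁ : Red.gaFn e₁ = 1)
    (G : Over S) [GrpObj G] (D : Red.Pinning G)
    (avc : D.idx → (Red.Gm S ⟶ D.T))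
    (havc : ∀ a, avc a = Red.DSmap S (D.P.coroot a).toAddMonoidHom ≫ D.split.inv.hom.hom)
    (hpair : ∀ a ∈ D.base.support, ∀ (X : Over S) (x y : X ⟶ Red.Ga S), IsUnit (1 + Red.gaFn x * Red.gaFn y) →
        ∃ (x' y' : X ⟶ Red.Ga S) (z : X ⟶ Red.Gm S), Red.gmFn z = 1 + Red.gaFn x * Red.gaFn y ∧
          Red.gaFn x' * Red.gmFn z = Red.gaFn x ∧ Red.gaFn y' * Red.gmFn z = Red.gaFn y ∧
          (x ≫ D.u a) * (y ≫ D.u (D.P.reflectionPerm a a)) = (y' ≫ D.u (D.P.reflectionPerm a a)) * (z ≫ avc a ≫ D.i) * (x' ≫ D.u a))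
    (w : D.idx → (𝟙_ (Over S) ⟶ G))
    (hw : ∀ a, w a = (e₁ ≫ D.u a) * (e₁ ≫ D.u (D.P.reflectionPerm a a))⁻¹ * (e₁ ≫ D.u a))
    (a b : D.idx) (ha : a ∈ D.base.support) (hb : b ∈ D.base.support) (hne : a ≠ b)
    (hba : D.P.pairing b a = -2) (hab : D.P.pairing a b = -1)
    (uab : ∀ X : Over S, (X ⟶ Red.Ga S) → (X ⟶ G))
    (huab : ∀ (X : Over S) (x : X ⟶ Red.Ga S), uab X x = (toUnit X ≫ w b) * (x ≫ D.u a) * (toUnit X ≫ w b)⁻¹)
    (uaab : ∀ X : Over S, (X ⟶ Red.Ga S) → (X ⟶ G))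
    (huaab : ∀ (X : Over S) (x : X ⟶ Red.Ga S), uaab X x = (toUnit X ≫ w a) * (x ≫ D.u b) * (toUnit X ≫ w a)⁻¹)
    (X : Over S) (x nx : X ⟶ Red.Ga S) (hnx : Red.gaFn nx = - Red.gaFn x) :
    (toUnit X ≫ w a) * uab X x * (toUnit X ≫ w a)⁻¹ = uab X nx ∧ (toUnit X ≫ w a) * uaab X x * (toUnit X ≫ w a)⁻¹ = x ≫ D.u b ∧
      (toUnit X ≫ w b) * uab X x * (toUnit X ≫ w b)⁻¹ = nx ≫ D.u a ∧ (toUnit X ≫ w b) * uaab X x * (toUnit X ≫ w b)⁻¹ = uaab X x := by
  have hab' := Groth.L14.Chev.indep_simple D ha hb hne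
  have hda : Groth.L14.Chev.DualAt avc D.u (Groth.L14.Chev.opp D.u) a :=
    ⟨(D.rootHom _).1, fun X x y h => hpair a ha X x y h⟩
  have hdb : Groth.L14.Chev.DualAt avc D.u (Groth.L14.Chev.opp D.u) b :=
    ⟨(D.rootHom _).1, fun X x y h => hpair b hb X x y h⟩
  have hacta := Groth.L14.Chev.actsBy_weyl avc havc D.rootHom e₁ he₁ a hda (hw a)
  have hactb := Groth.L14.Chev.actsBy_weyl avc havc D.rootHom e₁ he₁ b hdb (hw b)
  have pt : ∀ {R : Type u} [CommRing R] {j : Spec (CommRingCat.of R) ⟶ S} {C : Type u} [CommRing C] [Algebra R C]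
      (t : Groth.L14.RankOne.Sp j C ⟶ X),
      t ≫ nx = Groth.L14.RankOne.gp j (-Groth.L14.RankOne.gv (t ≫ x)) := fun {R} _ {j} {C} _ _ t => by
    have h : Groth.L14.RankOne.gv (t ≫ nx) = -Groth.L14.RankOne.gv (t ≫ x) := by
      rw [Groth.L14.Chev.gv_comp_eq t nx hnx, Groth.L14.Chev.gv_comp_eq t x rfl, map_neg, map_neg]
    rw [← h, Groth.L14.RankOne.gp_gv]
  have hn2 : ∀ k, D.P.root k ≠ (2 : ℤ) • D.P.root a := fun k hk =>
    Groth.L14.Chev.two_smul_notMem D ha ⟨k, hk⟩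
  have h22 : ∀ k, D.P.root k ≠ (2 : ℤ) • D.P.root a + (2 : ℤ) • D.P.root b := fun k hk =>
    hn2 (D.P.reflectionPerm b k) (by
      rw [D.P.root_reflectionPerm, D.P.reflection_apply_root,
        Groth.L14.Chart.RootCombo.pairing_of_eq D.P hk b, D.P.pairing_same, hab, hk]
      module)
  have r₂ : D.P.root (D.P.reflectionPerm a b) = (2 : ℤ) • D.P.root a + (1 : ℤ) • D.P.root b := by
    rw [D.P.root_reflectionPerm, D.P.reflection_apply_root, hba]; module
  have hf₂ := Groth.L14.Chev.isRootHom_conjHom hacta (g' := D.P.reflectionPerm a b) rfl (D.rootHom b)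
  simp only [huab, huaab, ← Groth.L14.Chev.comp_conjHom]
  refine ⟨?_, ?_, ?_, ?_⟩ <;> refine Groth.L14.Chart.hom_ext_open fun R _ j _ C _ _ t => ?_
  all_goals
    rw [← Category.assoc, ← Category.assoc, ← Groth.L14.RankOne.gp_gv (t ≫ x)]
    try simp only [pt t]
    generalize Groth.L14.RankOne.gv (t ≫ x) = z
  · rw [Groth.L14.Chev.comp_conjHom (w a)]
    exact Groth.L14.Chev.middle_conj D.rootHom havc e₁ he₁ (hw a) (hw b) hda hdb hab' hab hba
      (D.base.sub_notMem_range_root hb ha) (fun ⟨k, hk⟩ => hn2 k hk) z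
  · rw [Groth.L14.Chev.comp_conjHom, Groth.L14.Chev.weyl_sq_conj havc D.rootHom j e₁ he₁ hda (hw a) (D.rootHom b), hba]
    simp
  · rw [Groth.L14.Chev.comp_conjHom, Groth.L14.Chev.weyl_sq_conj havc D.rootHom j e₁ he₁ hdb (hw b) (D.rootHom a), hab]
    simp
  · rw [Groth.L14.Chev.comp_conjHom (w b), (Groth.L14.Chev.weyl_fix D.rootHom j e₁ he₁ (hw b) hf₂
      (fun ⟨k, hk⟩ => h22 k (by rw [hk, r₂]; module)) (fun ⟨k, hk⟩ => hn2 k (by rw [hk, r₂]; module))
      (hab'.of_combo (r := 2) (s := 1) (t := 0) (w := 1) r₂ (by simp) (by norm_num)) z).eq, mul_inv_cancel_right]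

end Groth.Agent.S8485
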