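import Groth.Statements.S8487
import Groth.Agent.L14.RankOne.WeylElt

set_option autoImplicit false
set_option backward.isDefEq.respectTransparency.types false
universe u
open CategoryTheory MonoidalCategory CartesianMonoidalCategory MonObj GrpObj AlgebraicGeometry CategoryTheory.Limits
open Red

namespace Groth.Agent.S8487

/-- Let G be a reductive S-group, i : T ⟶ G a maximal torus, α a character of T non-trivial on every
geometric fibre, p₊, p₋ : 𝔾_a ⟶ G monomorphisms of groups normalised by T with multipliers α and α⁻¹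
whose cell map (y, t, x) ↦ p₋(y) i(t) p₊(x) is an open immersion 𝔾_a ×_S T ×_S 𝔾_a ⟶ G, and α^* :
𝔾_m ⟶ T the coroot: α ∘ α^* is the squaring map and p₊(x) p₋(y) = p₋(y/(1+xy)) · i(α^*(1+xy)) ·
p₊(x/(1+xy)) whenever 1 + xy is invertible (so p₊ and p₋ are dual to each other). Let n be a
non-zero integer and w an S-point of G such that w · i(α^*(z))^n · w⁻¹ = i(α^*(z))^{-n} for all
points z of 𝔾_m (after base change). Then w is a point of N^× = Norm_G(T) − T: it normalises T, with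
w i(t) w⁻¹ = i(α^*(α(t)))⁻¹ i(t) for all points t of T, and for no geometric point s̄ of S does
w(s̄) lie in T. (The published statement is an equivalence; this row states only this implication.) -/
theorem result (S : Scheme.{u}) (G T : Over S) [GrpObj G] [GrpObj T] (i : T ⟶ G) [IsMonHom i] [Mono i] (hG : Red.IsReductive G) (hTm : Red.IsMaximalTorus i)
    (α : T ⟶ Red.Gm S) [IsMonHom α] (hα : ∀ s : S, (Over.pullback (Red.geomPt s)).map α ≠ 1)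
    (pp pm : Red.Ga S ⟶ G) [IsMonHom pp] [Mono pp] [IsMonHom pm] [Mono pm]
    (hpp : ∀ (X : Over S) (t : X ⟶ T) (x : X ⟶ Red.Ga S), ∃ x' : X ⟶ Red.Ga S,
      x' ≫ pp = (t ≫ i) * (x ≫ pp) * (t ≫ i)⁻¹ ∧ Red.gaFn x' = Red.gmFn (t ≫ α) * Red.gaFn x)
    (hpm : ∀ (X : Over S) (t : X ⟶ T) (y : X ⟶ Red.Ga S), ∃ y' : X ⟶ Red.Ga S,
      y' ≫ pm = (t ≫ i) * (y ≫ pm) * (t ≫ i)⁻¹ ∧ Red.gaFn y' * Red.gmFn (t ≫ α) = Red.gaFn y)
    (hΩ : IsOpenImmersion (((pm ⊗ₘ i) ⊗ₘ pp) ≫ (μ[G] ▷ G) ≫ μ[G]).left)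
    (av : Red.Gm S ⟶ T) [IsMonHom av] (h2 : av ≫ α = (𝟙 (Red.Gm S)) ^ 2)
    (hF : ∀ (X : Over S) (x y : X ⟶ Red.Ga S), IsUnit (1 + Red.gaFn x * Red.gaFn y) →
      ∃ (x' y' : X ⟶ Red.Ga S) (z : X ⟶ Red.Gm S), Red.gmFn z = 1 + Red.gaFn x * Red.gaFn y ∧
        Red.gaFn x' * Red.gmFn z = Red.gaFn x ∧ Red.gaFn y' * Red.gmFn z = Red.gaFn y ∧
        (x ≫ pp) * (y ≫ pm) = (y' ≫ pm) * (z ≫ av ≫ i) * (x' ≫ pp))
    (n : ℤ) (hn : n ≠ 0) (w : 𝟙_ (Over S) ⟶ G)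
    (hw : ∀ (X : Over S) (z : X ⟶ Red.Gm S),
      (toUnit X ≫ w) * (((z ≫ av) ^ n) ≫ i) * (toUnit X ≫ w)⁻¹ = ((((z ≫ av) ^ n) ≫ i))⁻¹) :
    (∀ (X : Over S) (t : X ⟶ T), (toUnit X ≫ w) * (t ≫ i) * (toUnit X ≫ w)⁻¹ = (t ≫ α ≫ av ≫ i)⁻¹ * (t ≫ i)) ∧
      ∀ s : S, ¬ ∃ t : Over.mk (Red.geomPt s) ⟶ T, t ≫ i = toUnit (Over.mk (Red.geomPt s)) ≫ w := by
  have H : Groth.L25.RankOne.Sys i α pp pm av := ⟨hpp, hpm, h2, hF⟩
  have hT := hTm.2.2.1
  have hcomm : ∀ {Y : Over S} (a b : Y ⟶ T), a * b = b * a := fun a b =>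
    Groth.L25.Central.mul_comm_of_multTypeFT (Groth.L25.Locus.isMultTypeFT_of_isTorus hT) a b
  obtain ⟨t₀, rfl⟩ := Groth.L14.RankOne.exists_torus_mul H hG hT hΩ n hn w hw
  open Groth.L14.RankOne in
  have hconj : ∀ (X : Over S) (t : X ⟶ T),
      (toUnit X ≫ ((Groth.L25.RankOne.rel H _).w 1 * (t₀ ≫ i))) * (t ≫ i) *
        (toUnit X ≫ ((Groth.L25.RankOne.rel H _).w 1 * (t₀ ≫ i)))⁻¹ = (t ≫ α ≫ av ≫ i)⁻¹ * (t ≫ i) := by
    intro X t
    rw [MonObj.comp_mul, comp_w_one H, ← w_conj_torus H 1 t, ← Category.assoc (toUnit X) t₀ i]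
    have e : ((toUnit X ≫ t₀) ≫ i) * (t ≫ i) = (t ≫ i) * ((toUnit X ≫ t₀) ≫ i) := by
      rw [← MonObj.mul_comp, hcomm, MonObj.mul_comp]
    calc _ = (Groth.L25.RankOne.rel H X).w 1 * (((toUnit X ≫ t₀) ≫ i) * (t ≫ i)) *
          ((toUnit X ≫ t₀) ≫ i)⁻¹ * ((Groth.L25.RankOne.rel H X).w 1)⁻¹ := by group
      _ = _ := by rw [e]; group
  refine ⟨hconj, fun s => ?_⟩
  rintro ⟨t', ht'⟩
  let K := AlgebraicClosure (S.residueField s)
  classical
  obtain ⟨u, hu⟩ := Infinite.exists_notMem_finset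
    ((Polynomial.nthRoots 4 (1 : K)).toFinset ∪ {0})
  simp only [Finset.mem_union, Multiset.mem_toFinset, Polynomial.mem_nthRoots (show 0 < 4 by norm_num),
    Finset.mem_singleton, not_or] at hu
  let f : Groth.L14.RankOne.Sp (Red.geomPt s) K ⟶ Over.mk (Red.geomPt s) := (Groth.L14.RankOne.self (Red.geomPt s)).hom
  have h4 := Groth.L14.RankOne.pow_four_eq_one_of_mem h2 hcomm _
    (fun t => hconj _ t) (f ≫ t') (by
      rw [Category.assoc, ht', ← Category.assoc, toUnit_unique (f ≫ toUnit _) (toUnit _)])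
    (Groth.L14.RankOne.up (Red.geomPt s) (Units.mk0 u hu.2))
  have h5 : Units.mk0 u hu.2 ^ 4 = 1 := by
    rw [← Groth.L14.RankOne.uv_up (j := Red.geomPt s) (Units.mk0 u hu.2)]
    simp only [Groth.L14.RankOne.uv]
    rw [← map_pow, h4, map_one]
  exact hu.1 (by simpa using congrArg Units.val h5)

end Groth.Agent.S8487
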