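import Groth.Statements.S8496
import Groth.Agent.L15.SmoothFib.Main
-- import your own Groth.Agent.* helpers here

set_option autoImplicit false
open CategoryTheory MonoidalCategory CartesianMonoidalCategory MonObj GrpObj AlgebraicGeometry
universe u
open Par

namespace Groth.Agent.S8496

/-- Transversal position of a pair of parabolic subgroups is read here as smoothness of the
multiplication morphism P ×_S Q ⟶ G (one of its equivalent characterisations). Let G be a reductive
S-group and P, Q parabolic subgroups. Then (P, Q) is in transversal position if and only if (P_s,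
Q_s) is for every point s of S; and if (P_{S'}, Q_{S'}) is in transversal position for some
surjective S' ⟶ S then so is (P, Q). -/
theorem result {S : Scheme.{u}} {G P Q : Over S} [GrpObj G] [GrpObj P]
    [GrpObj Q] (hG : Red.IsReductive G) (p : P ⟶ G) (q : Q ⟶ G) (hP : Red.IsParabolic p) (hQ : Red.IsParabolic q) :
    (Smooth ((p ⊗ₘ q) ≫ μ[G]).left ↔
      ∀ s : S, Smooth ((Over.pullback (S.fromSpecResidueField s)).map ((p ⊗ₘ q) ≫ μ[G])).left) ∧
    ∀ (S' : Scheme.{u}) (g : S' ⟶ S), Surjective g →
      Smooth ((Over.pullback g).map ((p ⊗ₘ q) ≫ μ[G])).left → Smooth ((p ⊗ₘ q) ≫ μ[G]).left := by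
  haveI : Smooth G.hom := hG.2.1
  haveI : Smooth P.hom := hP.2.2.1
  haveI : Smooth Q.hom := hQ.2.2.1
  haveI : Smooth (P ⊗ Q).hom :=
    MorphismProperty.comp_mem @Smooth _ _ (MorphismProperty.pullback_fst (P := @Smooth) P.hom Q.hom ‹_›) ‹_›
  exact ⟨L15.SmoothFib.smooth_iff _, fun S' g hg h => L15.SmoothFib.smooth_of_surjective _ g h⟩

end Groth.Agent.S8496
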