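import Groth.Statements.S8505
import Groth.Agent.L15.Levi.Type
import Groth.Agent.S5510
import Groth.Agent.L15.RadAnti.Main
import Groth.Agent.L08.TorusWeights.CentReductive
import Groth.Agent.L25.MaxTorus.Factor
import Groth.Agent.L08.Borel.MaxTorusNonsmooth
-- import your own Groth.Agent.* helpers here

set_option autoImplicit false
set_option backward.isDefEq.respectTransparency.types false
set_option linter.style.haveILetI false
set_option maxHeartbeats 1600000
open CategoryTheory MonoidalCategory CartesianMonoidalCategory MonObj GrpObj AlgebraicGeometry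
universe u
open Par
open CategoryTheory.Limits Groth.L15.TypeRLe

namespace Groth.Agent.S8505

/-- Let G be a reductive S-group, P a parabolic subgroup of G and L a Levi subgroup of P. Then L is a
critical subgroup of G: there is a subtorus Q of L (a subgroup scheme of L which is a torus) such
that L is the centralizer of Q in G. (The published statement says that L is the centralizer of its
radical; since the radical of the reductive group L is its largest central subtorus, this amounts to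
L being the centralizer in G of some subtorus of L, which is what is stated here.) -/
theorem result {S : Scheme.{u}} {G P L : Over S} [GrpObj G] [GrpObj P] [GrpObj L]
    (hG : Red.IsReductive G) (p : P ⟶ G) (hP : Red.IsParabolic p) (l : L ⟶ P) (hl : Par.IsLevi l) :
    ∃ (Q : Over S) (_ : GrpObj Q) (j : Q ⟶ L), IsMonHom j ∧ Mono j ∧ Red.IsTorus Q ∧
      Red.IsCentralizerOf (j ≫ l ≫ p) (l ≫ p) := by
  classical
  haveI := hP.1; haveI := hP.2.1
  obtain ⟨hlm, hlmono, hLred, -⟩ := id hl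
  haveI := hlm; haveI := hlmono
  haveI : Mono p := Groth.L08.mono_of_closedImmersion p
  obtain ⟨Z, gZ, jz, hZ, hzcl, hZm⟩ := Groth.Agent.S5510.result L hLred
  haveI := hZ.1; haveI := hZ.2.1
  obtain ⟨Q, gQ, r, hr, -⟩ := Groth.L25.MaxTorus.exists_maximalTorus hZm
  haveI := hr.1; haveI := hr.2.1
  haveI : IsMonHom (r ≫ jz ≫ l ≫ p) := inferInstance
  haveI : Mono (r ≫ jz ≫ l ≫ p) := mono_comp _ _
  refine ⟨Q, gQ, r ≫ jz, inferInstance, mono_comp _ _, hr.2.2.1, ?_⟩
  rw [Category.assoc]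
  obtain ⟨U, gU, u, hu, hucl, hus, hrad, hradU, hc, hlcl⟩ := Groth.L15.Levi.exists_radical_compl hG p hP l hl
  haveI := hu; haveI := hlcl
  haveI : IsImmersion (l ≫ p).left := by rw [Over.comp_left]; infer_instance
  obtain ⟨C, gC, c, hC, hCrest⟩ := Groth.L08.TorusWeights.exists_centralizer_reductive hG (r ≫ jz ≫ l ≫ p) hr.2.2.1
  -- the centralizer of the radical torus lies in the Levi subgroup
  obtain ⟨φ, hφ⟩ : ∃ φ : C ⟶ L, φ ≫ l ≫ p = c := by
    refine exists_hom_of_local c (l ≫ p) fun s => ?_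
    obtain ⟨V, f, hf, hs, T, gT, t, htm, hT⟩ := Groth.L15.Levi.exists_torus_levi hG p hP l hl s
    haveI := hf
    haveI : IsImmersion ((Over.pullback f).map (l ≫ p)).left :=
      MorphismProperty.overPullbackMap (P := @IsImmersion) f _ inferInstance
    refine ⟨V, f, inferInstance, hs, exists_hom_of_local _ _ fun x => ?_⟩
    let F := Over.pullback f
    have hGV := Groth.L14.Splitting.isReductive_bc hG f
    have hPV := Groth.L15.Levi.isParabolic_bc hG hP f
    haveI : IsMonHom (F.map l) := Groth.L25.MonoClosed.isMonHom_pullbackMap _ _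
    haveI := htm
    have hT' : Red.IsMaximalTorus ((t ≫ F.map l) ≫ F.map p) := by rw [Category.assoc]; exact hT
    obtain ⟨V₂, g, hg, W, w, hw, D, t', e, R', hm, het, ht', hR⟩ :=
      Groth.L15.Levi.exists_local_datum hGV (F.map p) hPV (t ≫ F.map l) hT' x
    haveI := hg; haveI := hm
    haveI : Nonempty W.toScheme := ⟨w⟩
    refine ⟨W.toScheme, W.ι ≫ g, inferInstance, ⟨w, by rw [Scheme.Hom.comp_apply]; exact hw⟩, ?_⟩
    let G' := Over.pullback g
    let K := Over.pullback W.ι
    let bc₃ := fun {A B : Over S} (φ : A ⟶ B) => K.map (G'.map (F.map φ))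
    have hP₂ := Groth.L15.Levi.isParabolic_bc (Groth.L14.Splitting.isReductive_bc hGV g)
      (Groth.L15.Levi.isParabolic_bc hGV hPV g) W.ι
    have hG₂ := Groth.L14.Splitting.isReductive_bc (Groth.L14.Splitting.isReductive_bc hGV g) W.ι
    obtain ⟨L₀, gL₀, l₀, hl₀, tL₀, U₂, gU₂, u₂, htL₀, hlcl₀, hL₀, hu₂, hradU₂, hθ, hspan, hsym, -, lam, -, -,
      Q₀, gQ₀, q₀, hq₀, hq₀m, hQ₀, hcent₀, -⟩ := Groth.L15.Levi.exists_levi_split D hP₂ t' ht' hR
    haveI := hl₀; haveI := hlcl₀; haveI := hL₀.2.1; haveI := hu₂; haveI := hθ; haveI := hq₀; haveI := hq₀m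
    -- the base changed Levi subgroup coincides with the standard one
    have hc₂ := ((hc.bc f).bc g).bc W.ι
    haveI := hc₂.hom; haveI := hc₂.immersion
    haveI : IsMonHom (F.map u) := Groth.L25.MonoClosed.isMonHom_pullbackMap _ _
    haveI : IsMonHom (G'.map (F.map u)) := Groth.L25.MonoClosed.isMonHom_pullbackMap _ _
    haveI : IsMonHom (K.map (G'.map (F.map u))) := Groth.L25.MonoClosed.isMonHom_pullbackMap _ _
    obtain ⟨ε, -, hε⟩ := Groth.L15.Levi.radical_unique (((hrad.bc f).bc g).out W.ι) hradU₂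
    haveI : IsMonHom (Iso.refl (Red.bc W.ι (Red.bc g (Red.bc f P)))).hom := inferInstanceAs (IsMonHom (𝟙 _))
    have h3 : Groth.L15.Levi.IsCompl (K.map (G'.map (F.map l))) u₂ :=
      ⟨hc₂.hom, hc₂.immersion, hc₂.smooth, hc₂.conn, Groth.L15.Levi.isIso_mul_of_iso _ u₂ _ ε hε hc₂.iso⟩
    haveI : Mono (K.map (G'.map (F.map l))) := Over.mono_of_mono_left _
    haveI := h3.iso
    obtain ⟨a, ha⟩ := Groth.L15.Levi.exists_hom_of_compl D hP₂ hR l₀ tL₀ (by rw [reassoc_of% htL₀, ht']) u₂ hspan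
      hsym (K.map (G'.map (F.map l))) h3 (e.hom ≫ K.map (G'.map t)) (by
        rw [← ht', ← het, G'.map_comp, K.map_comp]; simp only [Category.assoc]; rfl)
    haveI : Mono l₀ := Groth.L08.mono_of_closedImmersion l₀
    obtain ⟨a', ha'⟩ := Groth.L15.Levi.isIso_of_le hθ h3.iso a ha
    let z := bc₃ (l ≫ p)
    have hzeq : z = K.map (G'.map (F.map l)) ≫ K.map (G'.map (F.map p)) := by
      show K.map (G'.map (F.map (l ≫ p))) = _
      rw [F.map_comp, G'.map_comp, K.map_comp]
    haveI hzm : IsMonHom z := by rw [hzeq]; infer_instance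
    haveI hzmono : Mono z := by
      haveI : Mono (l ≫ p) := mono_comp _ _
      show Mono (K.map (G'.map (F.map (l ≫ p))))
      infer_instance
    have hzl : z = a'.hom ≫ l₀ ≫ K.map (G'.map (F.map p)) := by rw [hzeq, ← reassoc_of% ha']
    have hcent : Red.IsCentralizerOf (q₀ ≫ D.i) z := by
      refine ⟨hzm, hzmono, fun X y => ?_⟩
      rw [← hcent₀.2.2 X y, hzl]
      constructor
      · rintro ⟨b, rfl⟩; exact ⟨b ≫ a'.hom, by simp only [Category.assoc]; rfl⟩
      · rintro ⟨b, rfl⟩; exact ⟨b ≫ a'.inv, by simp only [Category.assoc, Iso.inv_hom_id_assoc]; rfl⟩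
    haveI : IsMonHom (D.i) := D.maximalTorus.1
    haveI : Mono (D.i) := D.maximalTorus.2.1
    haveI : Mono (q₀ ≫ D.i) := mono_comp _ _
    have hZ₂ : Red.IsCentre (bc₃ jz) :=
      Groth.L15.RadAnti.isCentre_bc _ (Groth.L15.RadAnti.isCentre_bc _ (Groth.L15.RadAnti.isCentre_bc _ hZ))
    haveI := hLred.1
    haveI := hLred.2.1; haveI := hzcl
    haveI : LocallyOfFiniteType Z.hom := by rw [← Over.w jz]; infer_instance
    haveI : QuasiCompact Z.hom := by rw [← Over.w jz]; infer_instance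
    haveI : LocallyOfFiniteType (Red.bc f Z).hom := inferInstanceAs (LocallyOfFiniteType (pullback.snd Z.hom f))
    haveI : QuasiCompact (Red.bc f Z).hom := inferInstanceAs (QuasiCompact (pullback.snd Z.hom f))
    haveI : LocallyOfFiniteType (Red.bc g (Red.bc f Z)).hom :=
      inferInstanceAs (LocallyOfFiniteType (pullback.snd (Red.bc f Z).hom g))
    haveI : QuasiCompact (Red.bc g (Red.bc f Z)).hom := inferInstanceAs (QuasiCompact (pullback.snd (Red.bc f Z).hom g))
    have hr₂ : Red.IsMaximalTorus (bc₃ r) :=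
      Groth.L08.Borel.isMaximalTorus_bc_fp (Groth.L08.Borel.isMaximalTorus_bc_fp
        (Groth.L08.Borel.isMaximalTorus_bc_fp hr _) _) _
    have hR₂ := (Groth.L08.TorusWeights.torus_le_radical hG₂ (q₀ ≫ D.i) hQ₀ hcent hZ₂ hr₂).2
    have hC₂ := Groth.L08.Borel.isCentralizerOf_bc W.ι (Groth.L08.Borel.isCentralizerOf_bc g
      (Groth.L08.Borel.isCentralizerOf_bc f hC))
    have hq₃ : K.map (G'.map (F.map (r ≫ jz ≫ l ≫ p))) = bc₃ r ≫ bc₃ jz ≫ z := by
      show _ = K.map (G'.map (F.map r)) ≫ K.map (G'.map (F.map jz)) ≫ K.map (G'.map (F.map (l ≫ p)))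
      rw [← K.map_comp, ← G'.map_comp, ← F.map_comp, ← K.map_comp, ← G'.map_comp, ← F.map_comp]
    obtain ⟨b, hb⟩ := (hR₂.2.2 _ (K.map (G'.map (F.map c)))).2 (by
      rw [← hq₃]
      exact (hC₂.2.2 _ _).1 ⟨𝟙 _, Category.id_comp _⟩)
    exact hom_of_le ((le_bc_iff (j := g) W.ι).1 (le_of_hom b hb))
  refine ⟨inferInstance, mono_comp _ _, fun X y => ⟨?_, fun hy => ?_⟩⟩
  · rintro ⟨b, rfl⟩ X' x h
    have := congrArg (· ≫ l ≫ p) (Groth.L08.TorusWeights.commute_centre hZ (h ≫ r) (x ≫ b)).symm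
    simpa [MonObj.mul_comp] using this
  · obtain ⟨b, hb⟩ := (hC.2.2 X y).2 hy
    exact ⟨b ≫ φ, by rw [Category.assoc, hφ, hb]⟩

end Groth.Agent.S8505
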