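import Groth.Statements.S8509
import Groth.Agent.L02.Gonflement.Step
import Groth.Agent.L11.Az.EtaleSub
import Groth.Agent.L21.Smooth.SepPoints
import Groth.Agent.L24.Hensel.Lift
import Groth.Agent.L05.Hensel.Perm
import Mathlib.AlgebraicGeometry.Morphisms.LocalFlatDescent
import Mathlib.FieldTheory.PrimitiveElement

set_option autoImplicit false
open CategoryTheory MonoidalCategory CartesianMonoidalCategory MonObj GrpObj AlgebraicGeometry
universe u
open RedSub

namespace Groth.Agent.S8509

set_option backward.isDefEq.respectTransparency.types false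
set_option linter.style.haveILetI false

open MonoidalCategory CartesianMonoidalCategory CategoryTheory.Limits in
theorem smooth_of_torsor (A : Type u) [CommRing A] [IsLocalRing A] {G P : Over (Spec (CommRingCat.of A))} [GrpObj G]
    [Smooth G.hom] (a : AlgGrp.Action G P) (ha : RedSub.IsTorsor a) : Smooth P.hom := by
  obtain ⟨_, _, _, hσ⟩ := ha
  obtain ⟨z, hz⟩ := P.hom.surjective (IsLocalRing.closedPoint A)
  obtain ⟨_, ⟨(W : P.left.Opens), hW, rfl⟩, hzW, -⟩ := P.left.isBasis_affineOpens.exists_subset_of_mem_open (Set.mem_univ z) isOpen_univ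
  haveI : IsAffine W.toScheme := hW
  let j : W.toScheme ⟶ Spec (CommRingCat.of A) := W.ι ≫ P.hom
  haveI : Surjective j := by
    refine ⟨fun q => ?_⟩
    have ho : IsOpen (Set.range j) := j.isOpenMap.isOpen_range
    exact ((IsLocalRing.specializes_closedPoint (R := A) q).mem_open ho ⟨⟨z, hzW⟩, hz⟩)
  have h1 : Smooth (pullback.snd P.hom P.hom) := by
    have e : (snd P P) = inv (lift a.act (snd G P)) ≫ snd G P := by
      rw [IsIso.eq_inv_comp, lift_snd]
    haveI : IsIso (inv (lift a.act (snd G P))).left :=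
      ((Over.forget _).mapIso (asIso (inv (lift a.act (snd G P))))).isIso_hom
    have h0 : Smooth (snd G P).left := inferInstanceAs (Smooth (pullback.snd G.hom P.hom))
    have h2 : Smooth (snd P P).left := by rw [e, Over.comp_left]; infer_instance
    exact h2
  have h3 : Smooth (pullback.snd P.hom j) := by
    have e := pullbackLeftPullbackSndIso P.hom P.hom W.ι
    have h4 : Smooth (pullback.snd (pullback.snd P.hom P.hom) W.ι) := inferInstance
    rwa [← pullbackLeftPullbackSndIso_hom_snd, MorphismProperty.cancel_left_of_respectsIso (P := @Smooth)] at h4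
  exact MorphismProperty.of_pullback_snd_of_descendsAlong (P := @Smooth)
    (Q := @Surjective ⊓ @Flat ⊓ @QuasiCompact) (show (@Surjective ⊓ @Flat ⊓ @QuasiCompact : MorphismProperty Scheme.{u}) j from
      ⟨⟨inferInstance, inferInstance⟩, inferInstance⟩) h3

open MonoidalCategory CartesianMonoidalCategory CategoryTheory.Limits Polynomial IntermediateField in
theorem isotrivial (A : Type u) [CommRing A] [HenselianLocalRing A]
    {G P : Over (Spec (CommRingCat.of A))} [GrpObj G] [Smooth G.hom] (a : AlgGrp.Action G P)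
    (ha : RedSub.IsTorsor a) :
    ∃ (S' : Scheme.{u}) (f : S' ⟶ Spec (CommRingCat.of A)), IsFinite f ∧ Etale f ∧ Surjective f ∧
      RedSub.HasSection (Red.bc f P) := by
  haveI := smooth_of_torsor A a ha
  haveI := ha.1
  let κ := IsLocalRing.ResidueField A
  let Ω := SeparableClosure κ
  let res := IsLocalRing.residue A
  let c := Spec.map (CommRingCat.ofHom res)
  let X₀ := pullback P.hom c
  letI : X₀.Over (Spec (CommRingCat.of κ)) := ⟨pullback.snd P.hom c⟩
  haveI : Smooth (X₀ ↘ Spec (CommRingCat.of κ)) := inferInstanceAs (Smooth (pullback.snd P.hom c))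
  obtain ⟨x, -⟩ := (pullback.snd P.hom c).surjective (IsLocalRing.closedPoint κ)
  obtain ⟨V, hV, ψ, -, hψ⟩ := Groth.L21.SepPoints.exists_point (k := κ) Ω X₀ (W := ⊤) (x := x) trivial
  -- the structure map of the chart and a finite type chart
  obtain ⟨θ, hθ⟩ := Spec.map_surjective (hV.fromSpec ≫ (X₀ ↘ Spec (CommRingCat.of κ)))
  haveI : IsAffine V.toScheme := hV
  have hfs : LocallyOfFiniteType (Spec.map θ) := by rw [hθ]; infer_instance
  have hft : θ.hom.FiniteType := (HasRingHomProperty.Spec_iff (P := @LocallyOfFiniteType)).1 hfs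
  have hcomp : ψ.comp θ.hom = algebraMap κ Ω := by
    have h : Spec.map (θ ≫ CommRingCat.ofHom ψ) = Spec.map (CommRingCat.ofHom (algebraMap κ Ω)) := by
      rw [Spec.map_comp, hθ]; exact hψ
    exact congrArg CommRingCat.Hom.hom (Spec.map_injective h)
  letI : Algebra κ Γ(X₀, V) := θ.hom.toAlgebra
  haveI : Algebra.FiniteType κ Γ(X₀, V) := hft
  let ψa : Γ(X₀, V) →ₐ[κ] Ω := { ψ with commutes' := fun r => RingHom.congr_fun hcomp r }
  obtain ⟨t, ht⟩ := Algebra.FiniteType.out (R := κ) (A := Γ(X₀, V))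
  let E := IntermediateField.adjoin κ (ψ '' (t : Set Γ(X₀, V)))
  haveI : FiniteDimensional κ E := IntermediateField.finiteDimensional_adjoin fun y _ =>
    (Algebra.IsSeparable.isSeparable κ y).isIntegral
  obtain ⟨α, hα⟩ := Field.exists_primitive_element κ E
  let a₀ : Ω := (α : Ω)
  have hsep : IsSeparable κ a₀ := Algebra.IsSeparable.isSeparable κ a₀
  have hE : ∀ g, ψ g ∈ (Polynomial.aeval (R := κ) a₀).range := by
    have h1 : E ≤ κ⟮a₀⟯ := by
      intro y hy
      have h : (⟨y, hy⟩ : E) ∈ κ⟮α⟯ := by rw [hα]; trivial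
      have h' : y ∈ (κ⟮α⟯).map E.val := ⟨⟨y, hy⟩, h, rfl⟩
      rwa [IntermediateField.adjoin_map, Set.image_singleton] at h'
    intro g
    have hg : g ∈ Algebra.adjoin κ (t : Set Γ(X₀, V)) := by rw [ht]; trivial
    have hmem : ψa g ∈ (Algebra.adjoin κ (t : Set Γ(X₀, V))).map ψa := ⟨g, hg, rfl⟩
    rw [← Algebra.adjoin_image] at hmem
    have h2 : ψ g ∈ κ⟮a₀⟯.toSubalgebra := by
      refine Algebra.adjoin_le (fun y hy => ?_) hmem
      exact h1 (IntermediateField.subset_adjoin κ _ hy)
    rw [IntermediateField.adjoin_simple_toSubalgebra_of_isAlgebraic hsep.isIntegral.isAlgebraic,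
      Algebra.adjoin_singleton_eq_range_aeval] at h2
    exact h2
  -- the etale algebra
  obtain ⟨f, hfmap, hfdeg, hfm⟩ := Polynomial.lifts_and_degree_eq_and_monic
    (Polynomial.map_surjective res IsLocalRing.residue_surjective (minpoly κ a₀) : minpoly κ a₀ ∈ Polynomial.lifts res)
    (minpoly.monic hsep.isIntegral)
  let σ : A →+* Ω := (algebraMap κ Ω).comp res
  have hev : ∀ q : A[X], q.eval₂ σ a₀ = Polynomial.aeval a₀ (q.map res) := fun q => by
    rw [Polynomial.aeval_def, Polynomial.eval₂_map]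
  have hfa : f.eval₂ σ a₀ = 0 := by rw [hev, hfmap, minpoly.aeval]
  have hmin : Groth.L02.Gonflement.MinDeg σ a₀ f := by
    intro q hq hq0
    rw [hev] at hq0
    have h0 : q.map res = 0 := by
      by_contra hne
      have h1 := minpoly.degree_le_of_ne_zero κ a₀ hne hq0
      exact absurd (lt_of_le_of_lt Polynomial.degree_map_le hq) (not_lt.2 (hfdeg ▸ h1))
    rw [← Polynomial.map_map, h0, Polynomial.map_zero]
  haveI : IsLocalHom σ := ⟨fun y hy => by
    have h1 : res y ≠ 0 := fun h => hy.ne_zero (by show algebraMap κ Ω (res y) = 0; rw [h, map_zero])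
    by_contra hn
    exact h1 (Ideal.Quotient.eq_zero_iff_mem.2 ((IsLocalRing.mem_maximalIdeal y).2 hn))⟩
  let B := AdjoinRoot f
  haveI : IsLocalRing B := Groth.L02.Gonflement.isLocalRing_adjoin hfm hfa hmin
  have hmax := Groth.L02.Gonflement.maximalIdeal_adjoin hfm hfa hmin
  let L : B →+* Ω := AdjoinRoot.lift σ a₀ hfa
  haveI : IsLocalHom L := Groth.L02.Gonflement.isLocalHom_lift hfm hfa hmin
  have hu : IsUnit (AdjoinRoot.mk f (derivative f)) := by
    refine isUnit_of_map_unit L _ (isUnit_iff_ne_zero.2 ?_)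
    rw [AdjoinRoot.lift_mk, hev, ← Polynomial.derivative_map, hfmap]
    exact hsep.aeval_derivative_ne_zero (minpoly.aeval _ _)
  have hfs' : f.Separable := by
    obtain ⟨v, hv⟩ := hu.exists_left_inv
    obtain ⟨V', rfl⟩ := AdjoinRoot.mk_surjective v
    rw [← map_mul, ← map_one (AdjoinRoot.mk f), AdjoinRoot.mk_eq_mk] at hv
    obtain ⟨W', hW'⟩ := hv
    exact ⟨-W', V', by linear_combination hW'⟩
  haveI : Algebra.Etale A B := Groth.L11.Az.etale_adjoinRoot hfm hfs'
  haveI : Module.Finite A B := hfm.finite_adjoinRoot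
  haveI : Module.Free A B := hfm.free_adjoinRoot
  haveI : Algebra.IsIntegral A B := inferInstance
  let mB : Ideal B := (IsLocalRing.maximalIdeal A).map (algebraMap A B)
  have hmB : mB = IsLocalRing.maximalIdeal B := hmax
  have hmBne : mB ≠ ⊤ := by rw [hmB]; exact Ideal.IsMaximal.ne_top inferInstance
  haveI : HenselianRing A (IsLocalRing.maximalIdeal A) :=
    Groth.L24.Hensel.henselianRing_of_ne_top Groth.L24.Hensel.maximalIdeal_ne_top
  haveI : HenselianRing B mB := Groth.L05.henselianRing_map_of_isIntegral (IsLocalRing.maximalIdeal A) B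
  have hker : ∀ b ∈ mB, L b = 0 := fun b hb => by
    have : RingHom.ker σ ≤ (RingHom.ker L).comap (algebraMap A B) := fun y hy => by
      rw [Ideal.mem_comap, RingHom.mem_ker, AdjoinRoot.algebraMap_eq, AdjoinRoot.lift_of]; exact hy
    have h2 : IsLocalRing.maximalIdeal A ≤ RingHom.ker σ := fun y hy => by
      rw [RingHom.mem_ker]
      show algebraMap κ Ω (res y) = 0
      rw [show res y = 0 from Ideal.Quotient.eq_zero_iff_mem.2 hy, map_zero]
    exact Ideal.map_le_iff_le_comap.2 (h2.trans this) hb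
  let ρ : B ⧸ mB →+* Ω := Ideal.Quotient.lift mB L hker
  haveI : mB.IsMaximal := by rw [hmB]; infer_instance
  letI : Field (B ⧸ mB) := Ideal.Quotient.field mB
  have hρ : Function.Injective ρ := ρ.injective
  have hrange : ∀ g, ψ g ∈ ρ.range := by
    intro g
    obtain ⟨q, hq⟩ := hE g
    obtain ⟨q', rfl⟩ := Polynomial.map_surjective res IsLocalRing.residue_surjective q
    refine ⟨Ideal.Quotient.mk mB (AdjoinRoot.mk f q'), ?_⟩
    rw [Ideal.Quotient.lift_mk, AdjoinRoot.lift_mk, hev]
    exact hq
  let eρ : B ⧸ mB ≃+* ρ.range := RingEquiv.ofBijective ρ.rangeRestrict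
    ⟨fun y y' h => hρ (congrArg Subtype.val h), ρ.rangeRestrict_surjective⟩
  let ψ' : Γ(X₀, V) →+* B ⧸ mB := (eρ.symm : ρ.range →+* B ⧸ mB).comp (ψ.codRestrict ρ.range hrange)
  have hψ' : ρ.comp ψ' = ψ := RingHom.ext fun g => by
    show ((eρ (eρ.symm (ψ.codRestrict ρ.range hrange g))) : Ω) = ψ g
    rw [RingEquiv.apply_symm_apply]
    rfl
  let x₀ : Spec (CommRingCat.of (B ⧸ mB)) ⟶ P.left :=
    Spec.map (CommRingCat.ofHom ψ') ≫ hV.fromSpec ≫ pullback.fst P.hom c
  let g : Spec (CommRingCat.of B) ⟶ Spec (CommRingCat.of A) := Spec.map (CommRingCat.ofHom (algebraMap A B))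
  have hx₀ : x₀ ≫ P.hom = Spec.map (CommRingCat.ofHom (Ideal.Quotient.mk mB)) ≫ g := by
    simp only [x₀, Category.assoc, pullback.condition]
    rw [show hV.fromSpec ≫ pullback.snd P.hom c ≫ c = Spec.map θ ≫ c by
      rw [hθ, Category.assoc]; rfl]
    rw [← Spec.map_comp, ← Spec.map_comp, ← Spec.map_comp]
    congr 1
    refine CommRingCat.hom_ext (RingHom.ext fun y => hρ ?_)
    show ρ (ψ' (θ.hom (res y))) = ρ (Ideal.Quotient.mk mB (algebraMap A B y))
    rw [← RingHom.comp_apply ρ ψ', hψ', Ideal.Quotient.lift_mk, AdjoinRoot.algebraMap_eq, AdjoinRoot.lift_of]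
    exact RingHom.congr_fun hcomp (res y)
  obtain ⟨xs, hxs, -⟩ := Groth.L24.Hensel.exists_section_of_smooth hmBne (pullback.snd P.hom g)
    (pullback.lift x₀ (Spec.map (CommRingCat.ofHom (Ideal.Quotient.mk mB))) hx₀) (pullback.lift_snd _ _ _)
  refine ⟨_, g, ?_, ?_, ?_, ⟨Over.homMk xs hxs⟩⟩
  · rw [IsFinite.SpecMap_iff]
    exact RingHom.finite_algebraMap.2 inferInstance
  · exact (HasRingHomProperty.Spec_iff (P := @Etale)).2 (RingHom.etale_algebraMap.2 inferInstance)
  · haveI : Nontrivial B := inferInstance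
    exact ⟨PrimeSpectrum.comap_surjective_of_faithfullyFlat⟩

/-- Let A be a henselian local ring, S = Spec A, and G an S-group scheme which is smooth and affine over
S. Then every torsor P under G (a representable principal homogeneous bundle) is isotrivial: there
is a finite etale surjective morphism S' ⟶ S such that P_{S'} has a section. (The published
statement asks only that every finite set of points of G lie in an affine open; this row takes G
affine over S.) -/
theorem result (A : Type u) [CommRing A] [HenselianLocalRing A]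
    {G P : Over (Spec (CommRingCat.of A))} [GrpObj G] [Smooth G.hom] [IsAffineHom G.hom] (a : AlgGrp.Action G P)
    (ha : RedSub.IsTorsor a) :
    ∃ (S' : Scheme.{u}) (f : S' ⟶ Spec (CommRingCat.of A)), IsFinite f ∧ Etale f ∧ Surjective f ∧
      RedSub.HasSection (Red.bc f P) := by
  exact isotrivial A a ha

end Groth.Agent.S8509
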