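import Groth.Statements.S8517
import Groth.Agent.L25.ParabolicSet

set_option autoImplicit false
open CategoryTheory MonoidalCategory CartesianMonoidalCategory MonObj GrpObj AlgebraicGeometry
universe u
open RedSub

namespace Groth.Agent.S8517

/-- Let R be the set of roots of a root pairing over ℤ with finitely many roots, and R₁, R₂ two closed
subsets of R (if a, b ∈ Rᵢ and root a + root b is a root c then c ∈ Rᵢ), each containing a system of
positive roots (the positive roots of some base). If R₁ ∪ R₂ = R, then R₁ ∩ (−R₂) (the roots of R₁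
whose negative is a root in R₂) contains a system of positive roots. -/
theorem result {idx M N : Type} [Finite idx] [AddCommGroup M] [AddCommGroup N] (P : RootPairing idx ℤ M N) (R₁ R₂ : Set idx)
    (h₁ : ∀ a b c : idx, a ∈ R₁ → b ∈ R₁ → P.root a + P.root b = P.root c → c ∈ R₁)
    (h₂ : ∀ a b c : idx, a ∈ R₂ → b ∈ R₂ → P.root a + P.root b = P.root c → c ∈ R₂)
    (hb₁ : ∃ b : P.Base, RedSub.posRoots P b ⊆ R₁) (hb₂ : ∃ b : P.Base, RedSub.posRoots P b ⊆ R₂)
    (hunion : R₁ ∪ R₂ = Set.univ) :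
    ∃ b : P.Base, RedSub.posRoots P b ⊆ {a | a ∈ R₁ ∧ ∃ c ∈ R₂, P.root a = -P.root c} := by
  have hn : ∀ a, P.root (P.reflectionPerm a a) = -P.root a := fun a => by
    rw [P.root_reflectionPerm, RootPairing.reflection_apply_self]
  have hdec : ∀ (R : Set idx), (∃ b : P.Base, RedSub.posRoots P b ⊆ R) → ∀ a, a ∈ R ∨ P.reflectionPerm a a ∈ R := by
    rintro R ⟨b, hb⟩ a
    rcases b.root_mem_or_neg_mem a with h | h
    · exact Or.inl (hb h)
    · exact Or.inr (hb (show P.root _ ∈ AddSubmonoid.closure _ by rw [hn]; exact h))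
  have hrr : ∀ a, P.reflectionPerm (P.reflectionPerm a a) (P.reflectionPerm a a) = a := fun a =>
    P.root.injective (by rw [hn, hn, neg_neg])
  let C : Set idx := {a | a ∈ R₁ ∧ P.reflectionPerm a a ∈ R₂}
  obtain ⟨b₀, -⟩ := id hb₁
  obtain ⟨b, hb⟩ := Groth.L25.ParabolicSet.exists_base P C
    (fun a a' c ha ha' e => ⟨h₁ a a' c ha.1 ha'.1 e, h₂ _ _ _ ha.2 ha'.2 (by rw [hn, hn, hn, ← e]; abel)⟩)
    (fun a => by
      have hu : ∀ x, x ∈ R₁ ∨ x ∈ R₂ := fun x => by
        have : x ∈ R₁ ∪ R₂ := hunion ▸ Set.mem_univ x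
        exact this
      by_cases h : a ∈ R₁ ∧ P.reflectionPerm a a ∈ R₂
      · exact Or.inl h
      refine Or.inr ⟨?_, ?_⟩
      · rcases not_and_or.1 h with h' | h'
        · exact (hdec R₁ hb₁ a).resolve_left h'
        · exact (hu _).resolve_right h'
      · rw [hrr]
        rcases not_and_or.1 h with h' | h'
        · exact (hu _).resolve_left h'
        · exact (hdec R₂ hb₂ a).resolve_right h')
    b₀
  exact ⟨b, fun a ha => ⟨(hb ha).1, _, (hb ha).2, by rw [hn, neg_neg]⟩⟩

end Groth.Agent.S8517
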