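import Groth.Statements.S8519
import Groth.Agent.L15.IsomRange.Main
-- import your own Groth.Agent.* helpers here

set_option autoImplicit false
open CategoryTheory MonoidalCategory CartesianMonoidalCategory MonObj GrpObj AlgebraicGeometry
universe u
open AutFam

namespace Groth.Agent.S8519

/-- Second assertion (the decomposition of the base). Let G and G′ be reductive S-groups and let (F, υ)
represent the functor of isomorphisms of S-groups from G to G′. Then the image of F ⟶ S is closed in
S (it is open as well, F being smooth over S, so S is the disjoint union of two open subschemes,
over one of which F is empty and onto the other of which F maps surjectively). (The torsor structure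
of F over the second piece is not stated.) -/
theorem result {S : Scheme.{u}} (G G' : Over S) [GrpObj G] [GrpObj G'] (hG : Red.IsReductive G)
    (hG' : Red.IsReductive G') (F : Over S) (υ : G ⊗ F ⟶ G') (hF : AutFam.RepresentsIsom G G' F υ) :
    IsClosed (Set.range F.hom.base) := by
  exact Groth.L15.IsomRange.isClosed_range G G' hG hG' F υ hF

end Groth.Agent.S8519
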