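import Groth.Statements.S8526
import Groth.Agent.L28.ExtShriek.Stalks

set_option backward.isDefEq.respectTransparency.types false
set_option linter.style.haveILetI false

set_option autoImplicit false
universe u
open CategoryTheory CategoryTheory.Limits AlgebraicGeometry Opposite
open EtPBC

namespace Groth.Agent.S8526

/-- Let F be a constructible abelian sheaf on the small etale site of a scheme X. Then the support of F,
the set of points of X over which some geometric stalk of F is nonzero, is a locally constructible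
subset of X. -/
theorem result {X : Scheme.{u}} (F : EtCoh.Ab X) (hF : EtPBC.IsConstructible F) :
    Topology.IsLocallyConstructible (EtPBC.supp F) := by
  intro x
  obtain ⟨U, hU, hxU⟩ : ∃ U : X.Opens, IsAffineOpen U ∧ x ∈ U := by
    obtain ⟨_, ⟨U, hU, rfl⟩, hxU, -⟩ := X.isBasis_affineOpens.exists_subset_of_mem_open (Set.mem_univ x) isOpen_univ
    exact ⟨U, hU, hxU⟩
  haveI : IsAffine U.toScheme := hU
  refine ⟨U, U.2.mem_nhds hxU, U.2, ?_⟩
  have hG : EtPBC.IsConstructible ((EtCoh.pull U.ι).obj F) := by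
    rw [Groth.L28.Strata.isConstructible_iff] at hF ⊢
    exact (hF.pullback (Groth.L28.Strata.stable_lcPred F) U.ι).mono fun T g hg =>
      (Groth.L28.Strata.lcPred_comp F U.ι g).2 hg
  refine cast (congrArg Topology.IsConstructible ?_) (Groth.L28.Locus.isConstructible_zero_stalks hG).compl
  ext z
  constructor
  · intro hz
    simp only [Set.mem_compl_iff, Set.mem_ofPred_eq, not_forall] at hz
    obtain ⟨Ω, hfield, hsep, ξ, hξ, hne⟩ := hz
    refine ⟨Ω, hfield, hsep, ξ ≫ U.ι, ?_, fun h0 => hne ?_⟩
    · refine Set.eq_singleton_iff_unique_mem.2 ⟨⟨default, by show U.ι (ξ default) = _; rw [hξ]; rfl⟩, ?_⟩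
      rintro _ ⟨w, rfl⟩
      show U.ι (ξ w) = z.1
      rw [Subsingleton.elim w default, hξ]
      rfl
    · haveI := AddCommGrpCat.subsingleton_of_isZero h0
      exact ((Groth.L27.EtSite.stalkPullIso U.ι ξ).app F).addCommGroupIsoToAddEquiv.toEquiv.subsingleton
  · rintro ⟨Ω, _, _, ξ, hξ, hne⟩ hall
    obtain ⟨ξ', rfl⟩ := Groth.L28.EtModStalk.exists_lift U.ι ξ ⟨z, (show (ξ.base default : X) = z.1 from
      (hξ ▸ Set.mem_range_self default : ξ.base default ∈ ({z.1} : Set X))).symm⟩
    have hd : ξ'.base default = z := U.ι.isOpenEmbedding.injective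
      (hξ ▸ Set.mem_range_self default : (ξ' ≫ U.ι).base default ∈ ({z.1} : Set X))
    haveI : Subsingleton ((EtCoh.pull U.ι ⋙ EtCoh.stalk ξ').obj F) := hall Ω ξ' hd
    apply hne
    haveI := ((Groth.L27.EtSite.stalkPullIso U.ι ξ').app F).addCommGroupIsoToAddEquiv.toEquiv.symm.subsingleton
    exact AddCommGrpCat.isZero_of_subsingleton _

end Groth.Agent.S8526
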