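import Groth.Statements.S8528
import Groth.Agent.L27.NormalSepClosed.ConstUnibranch
import Groth.Agent.L05.Henselization.Strict
import Groth.Agent.S2135
import Groth.Agent.S3243

set_option autoImplicit false
set_option linter.style.haveILetI false
set_option backward.isDefEq.respectTransparency.types false
universe u
open CategoryTheory CategoryTheory.Limits AlgebraicGeometry Opposite
open EtPBC

namespace Groth.Agent.S8528

/-- Let X be an irreducible scheme all of whose strict localizations are irreducible (for every point x
and every strict henselization R of the local ring at x, Spec R is irreducible; that is, X is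
geometrically unibranch), and M a torsion-free abelian group. Then H^1(X, M_X) = 0 for the constant
sheaf M_X on the small etale site. -/
theorem result (X : Scheme.{u}) [IrreducibleSpace X]
    (hX : ∀ (x : X) (R : Type u) [CommRing R] [IsLocalRing R] [Algebra (X.presheaf.stalk x) R]
      [IsLocalHom (algebraMap (X.presheaf.stalk x) R)] [Hensel.IsStrictHenselization (X.presheaf.stalk x) R],
      IrreducibleSpace (PrimeSpectrum R))
    (M : Type) [AddCommGroup M] [IsAddTorsionFree M] :
    Subsingleton (EtCoh.H X (EtCoh.const X M) 1) := by
  have hgu : ∀ x : X, CAlg2.IsGeomUnibranch (X.presheaf.stalk x) := fun x => by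
    obtain ⟨R, _, _, _, _, hR⟩ := Groth.L05.Henselization.exists_isStrictHenselization (X.presheaf.stalk x)
    haveI := hR
    haveI := hX x R
    refine (Groth.Agent.S2135.result (Ash := R)).2 ?_
    haveI : (nilradical R).IsPrime := PrimeSpectrum.irreducibleSpace_iff_isPrime_nilradical.1 inferInstance
    refine ⟨nilradical R, ?_, fun q hq => le_antisymm (hq.2 ⟨inferInstance, bot_le⟩ (nilradical_le_prime q (H := hq.1.1))) (nilradical_le_prime q (H := hq.1.1))⟩
    exact ⟨⟨inferInstance, bot_le⟩, fun q hq _ => nilradical_le_prime q (H := hq.1)⟩
  let η : Spec (X.residueField (genericPoint X)) ⟶ X := X.fromSpecResidueField (genericPoint X)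
  haveI : IsPreimmersion η := inferInstanceAs (IsPreimmersion (X.fromSpecResidueField (genericPoint X)))
  let A : AddCommGrpCat.{u + 1} := AddCommGrpCat.of (ULift.{u + 1} M)
  haveI := Groth.L27.ConstUnibranch.isIso_cmp_point hgu A η (Scheme.range_fromSpecResidueField _)
  haveI := Groth.L27.EtSite.preservesFiniteLimits_pull η
  haveI := Groth.Agent.S3243.subsingleton_field (X.residueField (genericPoint X)) A fun n a hn ha => by
    refine ULift.ext _ _ ((nsmul_eq_zero_iff_right hn.ne').1 ?_)
    exact congrArg ULift.down ha
  haveI := (Groth.L28.GmH1.injective_HofPush_one η (Groth.L27.ConstSect.K A _)).subsingleton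
  refine @Equiv.subsingleton _ _ (((EtCoh.HF X 1).mapIso (asIso (Groth.L27.ConstSect.cmp A η))).addCommGroupIsoToAddEquiv).toEquiv ?_
  assumption

end Groth.Agent.S8528
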