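import Groth.Statements.S8532
import Groth.Agent.L28.EtTrace.Galois
import Groth.Agent.L27.Deg.FibCard

set_option autoImplicit false
universe u
open CategoryTheory CategoryTheory.Limits AlgebraicGeometry Opposite
open EtAcyc

namespace Groth.Agent.S8532

set_option linter.style.haveILetI false
set_option backward.isDefEq.respectTransparency.types false

theorem isIso_nsmul {X : Scheme.{u}} (L : Set ℕ) (d : ℕ) (hL : ∀ p : ℕ, p.Prime → p ∈ L → ¬ p ∣ d)
    (F : EtCoh.Ab X) (hF : EtAcyc.IsLTorsion L F) : IsIso (d • 𝟙 F) := by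
  have key : ∀ (m : ℕ), EtAcyc.PrimesIn L m → Nat.Coprime d m := fun m hm => Nat.coprime_of_dvd fun p hp hpd hpm =>
    hL p hp (hm.2 p hp hpm) hpd
  have hev : ∀ (U : X.Etale) (s : F.obj.obj (op U)), (d • 𝟙 F).hom.app (op U) s = d • s :=
    fun U s => Groth.L27.Colim.hom_nsmul_app (𝟙 F) d U s
  haveI : Sheaf.IsLocallyInjective (d • 𝟙 F) := by
    refine Presheaf.isLocallyInjective_of_injective _ _ fun U => ?_
    obtain ⟨U⟩ := U
    refine (injective_iff_map_eq_zero ((d • 𝟙 F).hom.app (op U)).hom).2 fun s hs => ?_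
    replace hs : d • s = 0 := (hev U s).symm.trans hs
    refine Groth.L27.EtSite.ext_of_locally F fun x => ?_
    obtain ⟨V, g, m, ⟨v, hv⟩, hm, hms⟩ := hF U s x
    refine ⟨V, g, v, hv, ?_⟩
    rw [map_zero]
    refine Groth.L28.EtTrace.eq_zero_of_coprime (key m hm) _ ?_ hms
    exact (map_nsmul (F.obj.map g.op).hom d s).symm.trans ((congrArg _ hs).trans (map_zero _))
  haveI : Sheaf.IsLocallySurjective (d • 𝟙 F) := ⟨fun {U} s => by
    refine (Groth.L27.EtSite.mem_topology_iff _).2 fun x => ?_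
    obtain ⟨V, g, m, ⟨v, hv⟩, hm, hms⟩ := hF U s x
    refine ⟨V, g, v, ?_, hv⟩
    obtain ⟨a, b, hab⟩ : IsCoprime (d : ℤ) (m : ℤ) := Nat.Coprime.isCoprime (key m hm)
    refine ⟨a • F.obj.map g.op s, (hev V _).trans ?_⟩
    have h1 : (a * d + b * m) • F.obj.map g.op s = F.obj.map g.op s := by rw [hab, one_zsmul]
    rw [add_zsmul, mul_zsmul, mul_zsmul, natCast_zsmul, natCast_zsmul, hms, zsmul_zero, add_zero] at h1
    refine Eq.trans ?_ h1
    rw [← natCast_zsmul, smul_comm, natCast_zsmul]⟩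
  exact (Sheaf.isLocallyBijective_iff_isIso _).1 ⟨‹_›, ‹_›⟩

/-- Let f : X' → X be finite etale of constant degree d (every geometric fibre has exactly d points), L
a set of primes such that no prime in L divides d, F an abelian L-torsion sheaf on the small etale
site of X, and q a natural number. If H^q(X', f⁻¹F) = 0, then H^q(X, F) = 0. -/
theorem result {X X' : Scheme.{u}} (f : X' ⟶ X) [IsFinite f] [Etale f]
    (d : ℕ) (hd : ∀ (Ω : Type u) [Field Ω] [IsSepClosed Ω] (ξ : Spec (CommRingCat.of Ω) ⟶ X),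
      Nat.card ↥(pullback f ξ) = d)
    (L : Set ℕ) (hL : ∀ p : ℕ, p.Prime → p ∈ L → ¬ p ∣ d) (F : EtCoh.Ab X) (hF : EtAcyc.IsLTorsion L F)
    [PreservesFiniteLimits (EtCoh.pull f)] (q : ℕ)
    (h : Subsingleton (EtCoh.H X' ((EtCoh.pull f).obj F) q)) :
    Subsingleton (EtCoh.H X F q) := by
  haveI := isIso_nsmul L d hL F hF
  refine subsingleton_of_forall_eq 0 fun x => Groth.L28.EtTrace.eq_zero_of_isIso_nsmul d q x ?_
  refine Groth.L28.EtTrace.nsmul_eq_zero_of_Hpull f d (fun s => ?_) F q x (Subsingleton.elim _ _)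
  obtain ⟨Ω, _, _, ξ, rfl⟩ := Groth.L27.FEtGal.exists_geometric s
  haveI : IsAffine (pullback f ξ) := isAffine_of_isAffineHom (pullback.snd f ξ)
  rw [← hd Ω ξ]
  exact ((Groth.L27.Deg.card_points (pullback.snd f ξ)).trans (Scheme.Hom.finrank_pullback_snd f ξ default)).symm

end Groth.Agent.S8532
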