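import Groth.Statements.S8536
import Groth.Agent.L28.AcyComp.Basic

set_option autoImplicit false
universe u
open CategoryTheory CategoryTheory.Limits AlgebraicGeometry Opposite
open EtAcyc

namespace Groth.Agent.S8536

set_option backward.isDefEq.respectTransparency.types false
open Groth.L27.LimCoh

theorem isLTorsion_of_epi {X : Scheme.{u}} {L : Set ℕ} {G Q : EtCoh.Ab X} (p : G ⟶ Q) [Epi p]
    (hG : EtAcyc.IsLTorsion L G) : EtAcyc.IsLTorsion L Q := by
  refine Groth.L28.EtTor.isLTorsion_iff_stalks.2 fun Ω _ _ ξ t => ?_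
  obtain ⟨t', rfl⟩ := (Groth.L27.EtSite.epi_iff_stalks p).1 inferInstance Ω ξ t
  obtain ⟨m, hm, ht⟩ := Groth.L28.EtTor.isLTorsion_iff_stalks.1 hG Ω ξ t'
  exact ⟨m, hm, (map_nsmul ((EtCoh.stalk ξ).map p).hom m t').symm.trans
    ((congrArg _ ht).trans (map_zero _))⟩

/-- Let h : Y → X be a morphism of quasi-compact quasi-separated schemes, L a set of primes and n a
natural number, and suppose that for every abelian L-torsion sheaf on X the pullback map on etale
cohomology along h is bijective in degrees ≤ n and injective in degree n + 1. Let u : F → G be a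
monomorphism of abelian L-torsion sheaves on X and ξ a class in H^{n+1}(Y, h⁻¹F) whose image in
H^{n+1}(Y, h⁻¹G) comes from H^{n+1}(X, G). Then ξ comes from H^{n+1}(X, F). -/
theorem result {X Y : Scheme.{u}} [CompactSpace X] [QuasiSeparatedSpace X]
    [CompactSpace Y] [QuasiSeparatedSpace Y] (h : Y ⟶ X) (L : Set ℕ) (n : ℕ) (hc : EtAcyc.CompN h L n)
    [PreservesFiniteLimits (EtCoh.pull h)] {F G : EtCoh.Ab X} (u : F ⟶ G) [Mono u]
    (hF : EtAcyc.IsLTorsion L F) (hG : EtAcyc.IsLTorsion L G)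
    (ξ : EtCoh.H Y ((EtCoh.pull h).obj F) (n + 1))
    (hξ : (EtCoh.HF Y (n + 1)).map ((EtCoh.pull h).map u) ξ ∈ Set.range (EtCore.Hpull h G (n + 1))) :
    ξ ∈ Set.range (EtCore.Hpull h F (n + 1)) := by
  obtain ⟨η, hη⟩ := hξ
  let E := ShortComplex.mk u (cokernel.π u) (cokernel.condition u)
  have hE : E.ShortExact := { exact := ShortComplex.exact_of_g_is_cokernel _ (cokernelIsCokernel _) }
  have hQ : EtAcyc.IsLTorsion L E.X₃ := isLTorsion_of_epi (cokernel.π u) hG
  have hh := hE.map_of_exact (EtCoh.pull h)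
  have h0 : (EtCoh.HF X (n + 1)).map E.g η = 0 := by
    apply (hc E.X₃ hQ).2
    refine Eq.trans ?_ (map_zero (EtCore.Hpull h E.X₃ (n + 1))).symm
    rw [Hpull_map]
    show (EtCoh.HF Y (n + 1)).map ((EtCoh.pull h).map E.g) (EtCore.Hpull h G (n + 1) η) = 0
    rw [hη, ← HF_map_comp, ← Functor.map_comp, cokernel.condition, Functor.map_zero]
    rw [Groth.L27.EtSite.HF_map_apply]
    exact (congrArg (fun t => Abelian.Ext.comp ξ t (add_zero _)) (Abelian.Ext.mk₀_zero _ _)).trans (Abelian.Ext.comp_zero _ _ _ _ _)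
  obtain ⟨ζ, hζ⟩ := Abelian.Ext.covariant_sequence_exact₂ _ hE η
    ((Groth.L27.EtSite.HF_map_apply _ _ _).symm.trans h0)
  have hζ' : (EtCoh.HF X (n + 1)).map u ζ = η := (Groth.L27.EtSite.HF_map_apply _ _ _).trans hζ
  have h1 : (EtCoh.HF Y (n + 1)).map ((EtCoh.pull h).map u) (ξ - EtCore.Hpull h F (n + 1) ζ) = 0 := by
    refine (map_sub ((EtCoh.HF Y (n + 1)).map ((EtCoh.pull h).map u)).hom _ _).trans (sub_eq_zero.2 ?_)
    exact hη.symm.trans ((congrArg _ hζ'.symm).trans (Hpull_map h u (n + 1) ζ))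
  obtain ⟨y, hy⟩ := exists_δH hh n _ h1
  obtain ⟨x, rfl⟩ := ((hc E.X₃ hQ).1 n le_rfl).2 y
  refine ⟨δH hE n x + ζ, ?_⟩
  rw [map_add]
  exact (congrArg (· + _) ((Hpull_δH h hE n x).trans hy)).trans (sub_add_cancel _ _)

end Groth.Agent.S8536
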