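import Groth.Statements.S8538
import Groth.Agent.L28.DimClosure.Sch

set_option autoImplicit false
universe u
open CategoryTheory CategoryTheory.Limits AlgebraicGeometry Opposite
open EtCd

namespace Groth.Agent.S8538

/-- Let A be a Noetherian universally catenary local ring, f : X → Spec A a morphism of finite type, x a
point of X with image y, and X₀ the closed fibre of f. Put δ(x) = dim closure(y) + trdeg(κ(x)/κ(y))
= dim(A/p_y) + trdeg(κ(x)/κ(y)) and d(x) = dim closure(x) (topological Krull dimension of the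
closure of x in X). Then d(x) = δ(x) when the closure of x meets X₀, and d(x) + 1 = δ(x) when it
does not. -/
theorem result (A : Type u) [CommRing A] [IsNoetherianRing A] [IsLocalRing A]
    (hA : CAlg.IsUniversallyCatenary A) {X : Scheme.{u}} (f : X ⟶ Spec (CommRingCat.of A)) [LocallyOfFiniteType f]
    [QuasiCompact f] (x : X) (a b d : ℕ) (ha : ringKrullDim (A ⧸ (f.base x).asIdeal) = a)
    (hb : letI := (f.residueFieldMap x).hom.toAlgebra;
      Algebra.trdeg ((Spec (CommRingCat.of A)).residueField (f.base x)) (X.residueField x) = b)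
    (hd : topologicalKrullDim ↥(closure ({x} : Set X)) = d) :
    ((closure ({x} : Set X) ∩ f.base ⁻¹' {((IsLocalRing.closedPoint A : PrimeSpectrum A) : ↥(Spec (CommRingCat.of A)))}).Nonempty →
        d = a + b) ∧
    (closure ({x} : Set X) ∩ f.base ⁻¹' {((IsLocalRing.closedPoint A : PrimeSpectrum A) : ↥(Spec (CommRingCat.of A)))} = ∅ →
        d + 1 = a + b) := by
  have chart : ∀ z ∈ closure ({x} : Set X), ∃ (U : X.Opens) (_ : IsAffineOpen U), x ∈ U ∧ z ∈ U := by
    intro z hz
    obtain ⟨U, hU, hzU, -⟩ :=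
      exists_isAffineOpen_mem_and_subset (X := X) (x := z) (U := ⊤) (TopologicalSpace.Opens.mem_top z)
    exact ⟨U, hU, (specializes_iff_mem_closure.mpr hz).mem_open U.2 hzU, hzU⟩
  have upper : ∀ N : ℕ, (∀ (U : X.Opens), IsAffineOpen U → x ∈ U → ∃ n : ℕ,
      topologicalKrullDim (closure ({x} : Set X) ∩ U : Set X) = n ∧ n ≤ N) → d ≤ N := by
    intro N hN
    have : topologicalKrullDim ↥(closure ({x} : Set X)) ≤ (N : WithBot ℕ∞) := by
      refine iSup_le fun l => ?_
      obtain ⟨z, hz⟩ := l.head.isIrreducible.nonempty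
      obtain ⟨U, hU, hxU, hzU⟩ := chart z z.2
      obtain ⟨n, hn, hnN⟩ := hN U hU hxU
      refine (Groth.L06.Dim.length_le_of_head_inter l (U := Subtype.val ⁻¹' (U : Set X))
        (U.2.preimage continuous_subtype_val) ⟨z, hz, hzU⟩).trans (le_trans (le_of_eq ?_)
          (Nat.cast_le.mpr hnN))
      rw [← hn]
      refine (Groth.L22.SchemeDim.topologicalKrullDim_eq_of_isEmbedding
        (f := fun w : (Subtype.val ⁻¹' (U : Set X) : Set (closure ({x} : Set X))) => w.1.1) ?_ ?_).symm
      · exact Topology.IsEmbedding.subtypeVal.comp Topology.IsEmbedding.subtypeVal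
      · ext y
        exact ⟨fun ⟨w, hw⟩ => hw ▸ ⟨w.1.2, w.2⟩, fun hy => ⟨⟨⟨y, hy.1⟩, hy.2⟩, rfl⟩⟩
    rw [hd] at this
    exact_mod_cast this
  have lower : ∀ (U : X.Opens) (n : ℕ),
      topologicalKrullDim (closure ({x} : Set X) ∩ U : Set X) = n → n ≤ d := by
    intro U n hn
    have := Groth.L22.SchemeDim.topologicalKrullDim_mono (S := closure ({x} : Set X) ∩ U)
      (T := closure ({x} : Set X)) Set.inter_subset_left
    rw [hn, hd] at this
    exact_mod_cast this
  refine ⟨fun ⟨z, hzx, hz⟩ => ?_, fun he => ?_⟩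
  · have hz' : (f.base z).asIdeal = IsLocalRing.maximalIdeal A := congrArg PrimeSpectrum.asIdeal hz
    obtain ⟨U, hU, hxU, hzU⟩ := chart z hzx
    obtain ⟨n, hn, -, h1, -⟩ := L28.DimClosure.exists_dim_inter f hA x a b ha hb hU hxU
    refine le_antisymm (upper _ fun V hV hxV => ?_) ((h1 ⟨z, ⟨hzx, hzU⟩, hz'⟩).ge.trans (lower U n hn))
    obtain ⟨m, hm, hle, -, -⟩ := L28.DimClosure.exists_dim_inter f hA x a b ha hb hV hxV
    exact ⟨m, hm, hle⟩
  · have hno : ∀ z ∈ closure ({x} : Set X), (f.base z).asIdeal ≠ IsLocalRing.maximalIdeal A :=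
      fun z hz e => Set.eq_empty_iff_forall_notMem.mp he z ⟨hz, PrimeSpectrum.ext e⟩
    obtain ⟨U, hU, hxU, -⟩ := chart x (subset_closure rfl)
    obtain ⟨n, hn, -, -, h2⟩ := L28.DimClosure.exists_dim_inter f hA x a b ha hb hU hxU
    have e := h2 hno
    have hd' : d = n := le_antisymm (upper _ fun V hV hxV => by
      obtain ⟨m, hm, -, -, hm2⟩ := L28.DimClosure.exists_dim_inter f hA x a b ha hb hV hxV
      exact ⟨m, hm, by have := hm2 hno; omega⟩) (lower U n hn)
    omega

end Groth.Agent.S8538
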