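import Groth.Prelude.Def_CohB1
import Mathlib.AlgebraicGeometry.Morphisms.ClosedImmersion
import Mathlib.AlgebraicGeometry.Morphisms.Flat
import Mathlib.AlgebraicGeometry.Fiber
import Mathlib.Topology.KrullDimension
import Mathlib.RingTheory.Noetherian.Basic
import Mathlib.RingTheory.LocalRing.Basic
import Groth.Agent.L02.CAlg.FlatEnvelope.Envelope
import Groth.Agent.L16.ProjSpace.BaseChange

set_option autoImplicit false
set_option linter.style.haveILetI false
namespace EtCd
end EtCd
universe u
open CategoryTheory CategoryTheory.Limits AlgebraicGeometry Opposite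
open EtCd

namespace Groth.Agent.S8541

/-- Let A be a Noetherian local ring, S = Spec A, and X a closed subscheme of the projective space P^N_S
(closed immersion i) whose fibres over S all have dimension at most n. Then there is a closed
subscheme Z of P^N_S which is flat over S with all fibres of dimension at most n and which contains
X: a closed immersion j : Z → P^N_S with Z → S flat of relative dimension ≤ n and a closed immersion
g : X → Z with g ≫ j = i. -/
theorem result (A : Type u) [CommRing A] [IsNoetherianRing A] [IsLocalRing A]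
    (N n : ℕ) {X : Scheme.{u}} (i : X ⟶ CohB1.ProjSpaceOver N (Spec (CommRingCat.of A))) [IsClosedImmersion i]
    (hdim : ∀ s : ↥(Spec (CommRingCat.of A)),
      topologicalKrullDim ↥((i ≫ CohB1.ProjSpaceOver.toBase N (Spec (CommRingCat.of A))).fiber s) ≤ n) :
    ∃ (Z : Scheme.{u}) (j : Z ⟶ CohB1.ProjSpaceOver N (Spec (CommRingCat.of A))) (g : X ⟶ Z),
      IsClosedImmersion j ∧ IsClosedImmersion g ∧ g ≫ j = i ∧
      Flat (j ≫ CohB1.ProjSpaceOver.toBase N (Spec (CommRingCat.of A))) ∧
      ∀ s : ↥(Spec (CommRingCat.of A)),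
        topologicalKrullDim ↥((j ≫ CohB1.ProjSpaceOver.toBase N (Spec (CommRingCat.of A))).fiber s) ≤ n := by
  let e := Groth.L16.ProjSpace.isoOver (n := N) A
  let w : X ⟶ Groth.L02.FlatEnvelope.P A N := i ≫ e.inv
  haveI : IsClosedImmersion w := inferInstanceAs (IsClosedImmersion (i ≫ e.inv))
  have hw : w ≫ Groth.L02.FlatEnvelope.pr A N = i ≫ CohB1.ProjSpaceOver.toBase N (Spec (CommRingCat.of A)) := by
    show (i ≫ e.inv) ≫ CohB1.ProjSpace.toSpec N A = _
    rw [Category.assoc, ← Groth.L16.ProjSpace.isoOver_hom_toBase, e.inv_hom_id_assoc]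
  obtain ⟨Z, j, g, hj, hg, hgj, hflat, hZ⟩ :=
    Groth.L02.FlatEnvelope.exists_envelope n w (by rw [hw]; exact hdim _)
  have hj' : (j ≫ e.hom) ≫ CohB1.ProjSpaceOver.toBase N (Spec (CommRingCat.of A)) =
      j ≫ Groth.L02.FlatEnvelope.pr A N := by
    rw [Category.assoc, Groth.L16.ProjSpace.isoOver_hom_toBase]
  refine ⟨Z, j ≫ e.hom, g, inferInstance, hg, ?_, ?_, ?_⟩
  · rw [← Category.assoc, hgj]
    show (i ≫ e.inv) ≫ e.hom = i
    rw [Category.assoc, e.inv_hom_id, Category.comp_id]
  · rw [hj']; exact hflat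
  · rw [hj']; exact hZ

end Groth.Agent.S8541
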