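import Groth.Statements.S8545
import Groth.Agent.L28.DeltaStrict.Main

set_option autoImplicit false
universe u
open CategoryTheory CategoryTheory.Limits AlgebraicGeometry Opposite
open EtCd

namespace Groth.Agent.S8545

/-- Let f : X → Y be a morphism of schemes of finite type over a field k, x a point of X with image y,
y₀ a specialization of y in Y, R a strict henselization of the local ring of Y at y₀ with Y' = Spec
R → Y the strict localization and X' = X ×_Y Y' with projection f' : X' → Y', and let x' be a point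
of X' lying over x, with image y' in Y'. Writing δ(x') = dim closure(y') + trdeg(κ(x')/κ(y'))
(closure in Y' = Spec R, so dim closure(y') = dim R/p_{y'}) and d for the dimension of the closure
of a point in X or Y, one has δ(x') = d(x) - d(y₀); stated as δ(x') + d(y₀) = d(x). -/
theorem result (k : Type u) [Field k] {X Y : Scheme.{u}}
    (aX : X ⟶ Spec (CommRingCat.of k)) (aY : Y ⟶ Spec (CommRingCat.of k)) [LocallyOfFiniteType aX] [QuasiCompact aX]
    [LocallyOfFiniteType aY] [QuasiCompact aY] (f : X ⟶ Y) (w : f ≫ aY = aX) (x : X) (y₀ : Y) (hsp : f.base x ⤳ y₀)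
    (R : Type u) [CommRing R] [IsLocalRing R] [Algebra (Y.presheaf.stalk y₀) R]
    [IsLocalHom (algebraMap (Y.presheaf.stalk y₀) R)] [Hensel.IsStrictHenselization (Y.presheaf.stalk y₀) R]
    (x' : ↥(pullback f (Hens2.specOf Y y₀ R))) (hx' : (pullback.fst f (Hens2.specOf Y y₀ R)).base x' = x)
    (a b dx dy : ℕ)
    (ha : ringKrullDim (R ⧸ ((pullback.snd f (Hens2.specOf Y y₀ R)).base x').asIdeal) = a)
    (hb : letI := ((pullback.snd f (Hens2.specOf Y y₀ R)).residueFieldMap x').hom.toAlgebra;
      Algebra.trdeg ((Spec (CommRingCat.of R)).residueField ((pullback.snd f (Hens2.specOf Y y₀ R)).base x'))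
        ((pullback f (Hens2.specOf Y y₀ R)).residueField x') = b)
    (hdx : topologicalKrullDim ↥(closure ({x} : Set X)) = dx)
    (hdy : topologicalKrullDim ↥(closure ({y₀} : Set Y)) = dy) :
    a + b + dy = dx := by
  letI : X.Over (Spec (CommRingCat.of k)) := ⟨aX⟩
  letI : Y.Over (Spec (CommRingCat.of k)) := ⟨aY⟩
  haveI : LocallyOfFiniteType (X ↘ Spec (CommRingCat.of k)) := ‹LocallyOfFiniteType aX›
  haveI : LocallyOfFiniteType (Y ↘ Spec (CommRingCat.of k)) := ‹LocallyOfFiniteType aY›
  subst hx'
  let g := Hens2.specOf Y y₀ R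
  set z := (pullback.snd f g).base x'
  let wpt := (Spec.map (CommRingCat.ofHom (algebraMap (Y.presheaf.stalk y₀) R))).base z
  have hy : (Y.fromSpecStalk y₀).base wpt = f.base ((pullback.fst f g).base x') :=
    (congrArg (fun φ : pullback f g ⟶ Y => φ.base x') (pullback.condition (f := f) (g := g))).symm
  obtain ⟨h, n, m, hh, hn, hm, hhm, hcat⟩ := L28.DeltaStrict.exists_dim_stalk_quotient k y₀ wpt
  haveI : z.asIdeal.IsPrime := z.2
  have hq := L28.DeltaStrict.ringKrullDim_quotient_eq (Y.presheaf.stalk y₀) R hcat z.asIdeal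
  have hah : a = h := by
    have := ha.symm.trans (hq.trans hh)
    exact_mod_cast this
  obtain ⟨ny, hny, hny'⟩ := Groth.L22.SchemeDim.exists_dim_closure_eq_trdeg k Y
    (f.base ((pullback.fst f g).base x'))
  obtain ⟨nx, hnx, hnx'⟩ := Groth.L22.SchemeDim.exists_dim_closure_eq_trdeg k X
    ((pullback.fst f g).base x')
  rw [hy] at hn
  have e1 : n = ny := by exact_mod_cast hn.symm.trans hny
  have e2 : dx = nx := by exact_mod_cast hdx.symm.trans hnx
  have e3 : dy = m := by exact_mod_cast hdy.symm.trans hm
  have htr := (L28.DeltaStrict.trdeg_of_algebraic_base f g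
    (L28.DeltaStrict.isAlgebraic_residue_specOf Y y₀ R) x').symm.trans hb
  have hadd : ny + b = nx := by
    have := L28.DeltaStrict.trdeg_residue_add k f w ((pullback.fst f g).base x')
    rw [hny', htr, hnx'] at this
    exact_mod_cast this
  omega

end Groth.Agent.S8545
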