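import Groth.Statements.S8554
import Groth.Agent.L09.GodementGrp
import Mathlib.Algebra.Category.Grp.FilteredColimits

set_option backward.isDefEq.respectTransparency false
set_option backward.isDefEq.respectTransparency.types false

set_option autoImplicit false
universe u
open CategoryTheory CategoryTheory.Limits AlgebraicGeometry Opposite
open NonAbH1

namespace Groth.Agent.S8554

/-- Every sheaf of groups F on the small etale site of a scheme X embeds into a sheaf of groups G with
vanishing first non-abelian cohomology on every etale X-scheme: there are G and a morphism u : F ⟶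
G, injective on sections over every object of the site, such that for every etale X-scheme U every
torsor under the restriction of G to the induced site over U is trivial, i.e. H¹(U, G) is reduced to
its base point. (The published statement adds that the first higher direct images of G along any
morphism of schemes then vanish as pointed sheaves; that clause follows from this one and is not
stated here.) -/
theorem result {X : Scheme.{u}}
    (F : Sheaf X.smallEtaleTopology GrpCat.{u + 1}) :
    ∃ (G : Sheaf X.smallEtaleTopology GrpCat.{u + 1}) (φ : F ⟶ G),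
      (∀ U : X.Etaleᵒᵖ, Function.Injective (φ.hom.app U)) ∧
      ∀ (U : X.Etale) (P : NonAbH1.Torsor (G.over U)), P.IsTrivial := by
  classical
  haveI : PreservesFilteredColimitsOfSize.{u, u} (forget GrpCat.{u + 1}) :=
    preservesFilteredColimitsOfSize_of_univLE.{u + 1, u + 1} _
  choose Ω iΩ jΩ ξ hξ using fun x : X => Groth.L27.EtSite.exists_geometric_point x
  haveI := jΩ
  let Φ : X → GrothendieckTopology.Point.{u} X.smallEtaleTopology := fun x => Scheme.pointSmallEtale (ξ x)
  haveI hlim : ∀ x : X, HasColimitsOfShape (Φ x).fiber.Elementsᵒᵖ GrpCat.{u + 1} := fun x => by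
    haveI : HasColimitsOfShape (FinallySmall.FilteredFinalModel.{u} (Φ x).fiber.Elementsᵒᵖ) GrpCat.{u + 1} :=
      ⟨fun K => ⟨⟨GrpCat.FilteredColimits.colimitCocone.{u, u + 1} K,
        GrpCat.FilteredColimits.colimitCoconeIsColimit.{u, u + 1} K⟩⟩⟩
    exact Functor.Final.hasColimitsOfShape_of_final
      (FinallySmall.fromFilteredFinalModel.{u} (Φ x).fiber.Elementsᵒᵖ)
  haveI hpres : ∀ x : X, PreservesColimitsOfShape (Φ x).fiber.Elementsᵒᵖ (forget GrpCat.{u + 1}) := fun x =>
    FinallySmall.preservesColimitsOfShape_of_isFiltered.{u} _ _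
  let Pd : ∀ x : X, (Φ x).fiber.Elementsᵒᵖ ⥤ GrpCat.{u + 1} := fun x =>
    (CategoryOfElements.π (Φ x).fiber).op ⋙ F.obj
  let H : X → GrpCat.{u + 1} := fun x => colimit (Pd x)
  let germ : ∀ (x : X) (V : X.Etale) (y : (Φ x).fiber.obj V), F.obj.obj (op V) ⟶ H x := fun x V y =>
    colimit.ι (Pd x) (op ⟨V, y⟩)
  have germ_w : ∀ (x : X) {V W : X.Etale} (g : W ⟶ V) (y : (Φ x).fiber.obj W) (s : F.obj.obj (op V)),
      germ x W y (F.obj.map g.op s) = germ x V ((Φ x).fiber.map g y) s := fun x {V W} g y s =>
    ConcreteCategory.congr_hom (colimit.w (Pd x)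
      (CategoryOfElements.homMk ⟨W, y⟩ ⟨V, (Φ x).fiber.map g y⟩ g rfl).op) s
  have germ_eq : ∀ (x : X) {V : X.Etale} (y : (Φ x).fiber.obj V) (s t : F.obj.obj (op V)),
      germ x V y s = germ x V y t → ∃ (W : X.Etale) (c : W ⟶ V) (w : (Φ x).fiber.obj W),
        (Φ x).fiber.map c w = y ∧ F.obj.map c.op s = F.obj.map c.op t := by
    intro x V y s t h
    obtain ⟨k, a, b, hk⟩ := Concrete.colimit_exists_of_rep_eq.{u + 1} (Pd x) _ _ h
    obtain ⟨⟨W', z⟩, ⟨e, he⟩, hee⟩ := IsCofilteredOrEmpty.cone_maps a.unop b.unop
    refine ⟨W', e ≫ a.unop.val, z, ?_, ?_⟩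
    · rw [Functor.map_comp_apply]
      change (Φ x).fiber.map e z = k.unop.2 at he
      exact (congrArg ((Φ x).fiber.map a.unop.val) he).trans a.unop.property
    · have hee' : e ≫ a.unop.val = e ≫ b.unop.val := congrArg Subtype.val hee
      conv_rhs => rw [hee']
      rw [op_comp, op_comp, Functor.map_comp_apply, Functor.map_comp_apply]
      exact congrArg (F.obj.map e.op) hk
  let φ : F ⟶ Groth.L09.GodementGrp.prodSh Φ H :=
    ⟨{ app := fun V => GrpCat.ofHom
          { toFun := fun s x y => germ x V.unop y s
            map_one' := funext fun x => funext fun y => map_one _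
            map_mul' := fun a b => funext fun x => funext fun y => map_mul _ _ _ }
       naturality := fun V W g => GrpCat.hom_ext (MonoidHom.ext fun s => funext fun x => funext fun y =>
          germ_w x g.unop y s) }⟩
  refine ⟨_, φ, fun V s t h => ?_, fun U P => ?_⟩
  · have hloc : ∀ v : V.unop.left, ∃ (W : X.Etale) (c : W ⟶ V.unop) (w : W.left),
        F.obj.map c.op s = F.obj.map c.op t ∧ c.left.base w = v := by
      intro v
      obtain ⟨y, hy⟩ := Groth.L27.EtSite.exists_fiber (ξ (V.unop.hom.base v)) V.unop v
        (hξ (V.unop.hom.base v)).symm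
      have e : germ (V.unop.hom.base v) V.unop y s = germ (V.unop.hom.base v) V.unop y t :=
        congrFun (congrFun h (V.unop.hom.base v)) y
      obtain ⟨W, c, w, hw, hc⟩ := germ_eq (V.unop.hom.base v) y s t e
      refine ⟨W, c, w.left.base (default : Spec (CommRingCat.of (Ω (V.unop.hom.base v)))), hc, ?_⟩
      exact (congrArg (fun q => q.left.base (default : Spec (CommRingCat.of (Ω (V.unop.hom.base v))))) hw).trans hy
    refine Groth.L09.Torsors.grp_eq_of_locally F
      { arrows := fun W c => F.obj.map c.op s = F.obj.map c.op t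
        downward_closed := fun {W Z c} hc k => by
          change F.obj.map (k ≫ c).op s = F.obj.map (k ≫ c).op t
          rw [op_comp, F.obj.map_comp, ConcreteCategory.comp_apply, ConcreteCategory.comp_apply, hc] }
      ((Groth.L27.EtSite.mem_topology_iff _).2 hloc) fun W c hc => hc
  · haveI := Groth.L09.Torsors.hasSheafCompose_forget_grp.{_, _, u + 1} (J := X.smallEtaleTopology.over U)
    exact Groth.L09.GodementGrp.isTrivial Φ H P.toGSheaf P.isTorsor

end Groth.Agent.S8554
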