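import Groth.Statements.S8560
import Groth.Agent.L27.Colim.RpushTorsion
import Groth.Agent.L00.RDerLES

set_option linter.style.haveILetI false
set_option backward.isDefEq.respectTransparency.types false

set_option autoImplicit false
universe u
open CategoryTheory CategoryTheory.Limits AlgebraicGeometry Opposite
open EtAcyc

namespace Groth.Agent.S8560

theorem isTorsion_of_isLTorsion {X : Scheme.{u}} {L : Set ℕ} {F : EtCoh.Ab X} (hF : EtAcyc.IsLTorsion L F) :
    EtCoh.IsTorsion F := fun U s x => by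
  obtain ⟨V, g, m, hv, hm, h⟩ := hF U s x
  exact ⟨V, g, hv, isOfFinAddOrder_iff_nsmul_eq_zero.2 ⟨m, hm.1, h⟩⟩

theorem isIso_nsmul {X : Scheme.{u}} {L : Set ℕ} {F : EtCoh.Ab X} (hF : EtAcyc.IsLTorsion L F) {p : ℕ}
    (hp : p.Prime) (hpL : p ∉ L) : IsIso (p • 𝟙 F) := by
  have happ : ∀ (U : X.Etale) (s : F.obj.obj (op U)), (p • 𝟙 F).hom.app (op U) s = p • s :=
    fun U s => Groth.L27.Colim.hom_nsmul_app (𝟙 F) p U s
  have hcop : ∀ {m : ℕ}, EtAcyc.PrimesIn L m → Nat.Coprime p m := fun hm =>
    hp.coprime_iff_not_dvd.2 fun h => hpL (hm.2 p hp h)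
  haveI : Sheaf.IsLocallyInjective (p • 𝟙 F) := ⟨fun {U} x y h => (Groth.L27.EtSite.mem_topology_iff _).2 fun u => by
    obtain ⟨V, g, m, ⟨v, hv⟩, hm, hms⟩ := hF U.unop (x - y) u
    refine ⟨V, g, v, ?_, hv⟩
    show F.obj.map g.op x = F.obj.map g.op y
    rw [← sub_eq_zero, ← map_sub]
    have h1 : p • F.obj.map g.op (x - y) = 0 := by
      rw [← map_nsmul, nsmul_sub, ← happ U.unop x, ← happ U.unop y, h, sub_self, map_zero]
    have h2 : addOrderOf (F.obj.map g.op (x - y)) = 1 :=
      Nat.eq_one_of_dvd_coprimes (hcop hm) (addOrderOf_dvd_of_nsmul_eq_zero h1) (addOrderOf_dvd_of_nsmul_eq_zero hms)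
    exact AddMonoid.addOrderOf_eq_one_iff.1 h2⟩
  haveI : Sheaf.IsLocallySurjective (p • 𝟙 F) := ⟨fun {U} s => (Groth.L27.EtSite.mem_topology_iff _).2 fun u => by
    obtain ⟨V, g, m, ⟨v, hv⟩, hm, hms⟩ := hF U s u
    refine ⟨V, g, v, ?_, hv⟩
    let s' := F.obj.map g.op s
    refine ⟨(Nat.gcdA p m) • s', (happ V _).trans ?_⟩
    have h1 : ((Nat.gcd p m : ℕ) : ℤ) • s' = (p : ℤ) • (Nat.gcdA p m • s') + (Nat.gcdB p m) • ((m : ℤ) • s') := by
      rw [Nat.gcd_eq_gcd_ab, add_smul, mul_smul, mul_smul, smul_comm (m : ℤ)]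
    rw [(hcop hm), Nat.cast_one, one_smul, natCast_zsmul, natCast_zsmul] at h1
    exact (h1.trans (by rw [show m • s' = 0 from hms, smul_zero, add_zero])).symm⟩
  exact (Sheaf.isLocallyBijective_iff_isIso _).1 ⟨inferInstance, inferInstance⟩

/-- For the etale sites of schemes and a set of primes L: if f : X ⟶ Y is a quasi-compact and
quasi-separated morphism of schemes and F is an abelian L-torsion sheaf on the small etale site of X
(every section is, etale-locally around each point, killed by a positive integer all of whose prime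
factors lie in L), then each higher direct image R^q f_* F is an L-torsion sheaf on Y. (The
published statement, for topoi, asks only that the morphism be quasi-compact; this row also assumes
f quasi-separated: for the spectrum of a polynomial ring in countably many variables over a
separably closed field glued to a copy of itself along the complement of the origin, and the direct
sum of the skyscraper sheaves ℤ/pⁿ at the points where exactly the n-th variable is 1, the structure
morphism to the field is quasi-compact but H¹ contains a class of infinite order.) -/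
theorem result {X Y : Scheme.{u}} (f : X ⟶ Y) [QuasiCompact f] [QuasiSeparated f]
    [EtCoh.BCCont f] (L : Set ℕ) (F : EtCoh.Ab X) (hF : EtAcyc.IsLTorsion L F) (q : ℕ) :
    EtAcyc.IsLTorsion L ((EtCoh.Rpush f q).obj F) := by
  intro U s x
  obtain ⟨V, g, hv, hfin⟩ := Groth.L27.Colim.isTorsion_Rpush f (isTorsion_of_isLTorsion hF) q U s x
  obtain ⟨m, hm, hms⟩ := isOfFinAddOrder_iff_nsmul_eq_zero.1 hfin
  suffices h : ∀ m : ℕ, 0 < m → ∀ t : ((EtCoh.Rpush f q).obj F).obj.obj (op V), m • t = 0 →
      ∃ n, EtAcyc.PrimesIn L n ∧ n • t = 0 by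
    obtain ⟨n, hn, hns⟩ := h m hm _ hms
    exact ⟨V, g, n, hv, hn, hns⟩
  intro m
  induction m using Nat.strong_induction_on with
  | _ m ih =>
    intro hm t ht
    by_cases hL : ∀ p : ℕ, p.Prime → p ∣ m → p ∈ L
    · exact ⟨m, ⟨hm, hL⟩, ht⟩
    push Not at hL
    obtain ⟨p, hp, ⟨k, rfl⟩, hpL⟩ := hL
    haveI := isIso_nsmul hF hp hpL
    haveI : (EtCoh.Rpush f q).Additive := by
      letI := HasDerivedCategory.standard (EtCoh.Ab X)
      exact Groth.L00.RDerLES.additive (EtCoh.push f) q
    haveI : IsIso (p • 𝟙 ((EtCoh.Rpush f q).obj F)) := by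
      have h : IsIso ((EtCoh.Rpush f q).map (p • 𝟙 F)) := inferInstance
      rwa [Functor.map_nsmul, CategoryTheory.Functor.map_id] at h
    have hinj := (ConcreteCategory.bijective_of_isIso
      (((sheafToPresheaf _ AddCommGrpCat.{u + 1}).map (p • 𝟙 ((EtCoh.Rpush f q).obj F))).app (op V))).1
    refine ih k ?_ (Nat.pos_of_mul_pos_left hm) t (hinj ?_)
    · exact lt_mul_of_one_lt_left (Nat.pos_of_mul_pos_left hm) hp.one_lt
    · refine (Groth.L27.Colim.hom_nsmul_app (𝟙 _) p V (k • t)).trans ?_
      refine Eq.trans ?_ (map_zero (((sheafToPresheaf _ AddCommGrpCat.{u + 1}).map (p • 𝟙 ((EtCoh.Rpush f q).obj F))).app (op V)).hom).symm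
      show p • (k • t) = 0
      rw [← mul_nsmul', ht]

end Groth.Agent.S8560
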