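import Groth.Statements.S8562
import Groth.Agent.L27.EtSite.Points

set_option autoImplicit false
universe u
open CategoryTheory CategoryTheory.Limits AlgebraicGeometry Opposite
open NonAbH1

set_option backward.isDefEq.respectTransparency false
set_option backward.isDefEq.respectTransparency.types false

namespace Groth.Agent.S8562

/-- Exactness of the sequence 0 → H¹(Y, f_*F) → H¹(X, F) → H⁰(Y, R¹f_*F) at its middle term, in terms of
torsors: let f : X ⟶ Y be a morphism of schemes, F a sheaf of groups on the small etale site of X,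
f_*F its direct image on Y (sections over an etale Y-scheme V are the sections of F over X ×_Y V),
and Q an F-torsor. Then Q is the image of a class in H¹(Y, f_*F), in the sense that there are an
f_*F-torsor P on Y and a morphism of sheaves of sets from P to the direct image of the sheaf
underlying Q which is equivariant for the actions of f_*F, if and only if the class of Q is locally
trivial over Y: there is a jointly surjective family of etale Y-schemes Y_i such that Q has a
section over every X ×_Y Y_i. -/
theorem result {X Y : Scheme.{u}} (f : X ⟶ Y)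
    [EtCoh.BCCont f] (F : Sheaf X.smallEtaleTopology GrpCat.{u + 1}) (Q : NonAbH1.Torsor F) :
    (∃ (P : NonAbH1.Torsor (((EtCoh.bc f).sheafPushforwardContinuous GrpCat.{u + 1}
        Y.smallEtaleTopology X.smallEtaleTopology).obj F))
      (φ : P.P ⟶ ((EtCoh.bc f).sheafPushforwardContinuous (Type (u + 1))
        Y.smallEtaleTopology X.smallEtaleTopology).obj Q.P),
      ∀ (V : Y.Etaleᵒᵖ) (g : F.obj.obj (op ((EtCoh.bc f).obj V.unop))) (s : P.P.obj.obj V),
        φ.hom.app V (P.smul g s) = Q.smul g (φ.hom.app V s)) ↔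
    ∃ (ι : Type u) (V : ι → Y.Etale), EtCoh.Covers V ∧
      ∀ i, Nonempty (Q.P.obj.obj (op ((EtCoh.bc f).obj (V i)))) := by
  constructor
  · rintro ⟨P, φ, -⟩
    obtain ⟨S, hS, hS'⟩ := P.isTorsor.2 (EtCoh.top Y)
    have h := (Groth.L27.EtSite.mem_topology_iff S).1 hS
    choose V g v hg hv using fun y : Y => h y
    refine ⟨Y, V, fun y => ⟨y, v y, ?_⟩, fun y => ?_⟩
    · refine (congrArg (fun m => m (v y)) (MorphismProperty.Over.w (g y)).symm).trans ?_
      exact hv y
    · obtain ⟨s⟩ := hS' (g y) (hg y)
      exact ⟨φ.hom.app (op (V y)) s⟩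
  · rintro ⟨ι, V, hV, hne⟩
    let P₀ : NonAbH1.GSheaf (((EtCoh.bc f).sheafPushforwardContinuous GrpCat.{u + 1}
        Y.smallEtaleTopology X.smallEtaleTopology).obj F) :=
      { P := ((EtCoh.bc f).sheafPushforwardContinuous (Type (u + 1))
          Y.smallEtaleTopology X.smallEtaleTopology).obj Q.P
        smul := fun {U} g p => Q.smul (U := op ((EtCoh.bc f).obj U.unop)) g p
        one_smul := fun {U} p => Q.one_smul (U := op ((EtCoh.bc f).obj U.unop)) p
        mul_smul := fun {U} g h p => Q.mul_smul (U := op ((EtCoh.bc f).obj U.unop)) g h p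
        map_smul := fun {U U'} a g p => Q.map_smul ((EtCoh.bc f).map a.unop).op g p }
    have hP : P₀.IsTorsor := by
      refine ⟨fun U p q => Q.isTorsor.1 (op ((EtCoh.bc f).obj U.unop)) p q, fun W => ?_⟩
      let S : Sieve W :=
        { arrows := fun Z _ => Nonempty (Q.P.obj.obj (op ((EtCoh.bc f).obj Z)))
          downward_closed := fun {Z Z'} g hg k => hg.map (Q.P.obj.map ((EtCoh.bc f).map k).op) }
      refine ⟨S, (Groth.L27.EtSite.mem_topology_iff S).2 fun w => ?_, fun Z g hg => hg⟩
      obtain ⟨i, y, hy⟩ := hV (W.hom.base w)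
      haveI : Etale W.hom := W.prop
      haveI : Etale (V i).hom := (V i).prop
      let Z : Y.Etale := Scheme.Etale.mk (pullback.fst W.hom (V i).hom ≫ W.hom)
      let a : Z ⟶ W := MorphismProperty.Over.homMk (pullback.fst W.hom (V i).hom) rfl
      let b : Z ⟶ V i := MorphismProperty.Over.homMk (pullback.snd W.hom (V i).hom) pullback.condition.symm
      obtain ⟨z, hz, -⟩ := Scheme.Pullback.exists_preimage_pullback w y hy.symm
      exact ⟨Z, a, z, (hne i).map (Q.P.obj.map ((EtCoh.bc f).map b).op), hz⟩
    exact ⟨⟨P₀, hP⟩, 𝟙 _, fun W g s => rfl⟩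

end Groth.Agent.S8562
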