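import Groth.Statements.S8565
import Mathlib.AlgebraicTopology.SimplicialObject.Homotopy
import Mathlib.AlgebraicTopology.SimplicialObject.Basic
import Mathlib.CategoryTheory.Functor.KanExtension.Pointwise
import Mathlib.CategoryTheory.Limits.Shapes.FiniteLimits
import Mathlib.CategoryTheory.Functor.KanExtension.Adjunction
import Mathlib.Data.Finite.Sigma

set_option autoImplicit false
open CategoryTheory CategoryTheory.Limits Opposite
universe v u
open Hyper

namespace Groth.Agent.S8565

open SimplexCategory Simplicial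

section Generic

variable {C : Type u} [Category.{v} C] {X Y : SimplicialObject C}

/-- The arrow `[n+1] ⟶ [1]` which is `0` exactly on `0, …, i`. -/
def cut {n : ℕ} (i : Fin (n + 1)) : (⦋n + 1⦌ : SimplexCategory) ⟶ ⦋1⦌ :=
  SimplexCategory.mkHom ⟨fun j => if (j : ℕ) ≤ (i : ℕ) then 0 else 1, fun a b hab => by
    dsimp only
    have : (a : ℕ) ≤ (b : ℕ) := hab
    split_ifs <;> first | exact le_rfl | exact Fin.zero_le _ | omega⟩

theorem cut_apply {n : ℕ} (i : Fin (n + 1)) (j : Fin (n + 2)) :
    (cut i).toOrderHom j = if (j : ℕ) ≤ (i : ℕ) then 0 else 1 := rfl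

theorem comp_apply {a b c : SimplexCategory} (α : a ⟶ b) (β : b ⟶ c) (j : Fin (a.len + 1)) :
    (α ≫ β).toOrderHom j = β.toOrderHom (α.toOrderHom j) := rfl

/-- A homotopy from a compatible family indexed by `[m] ⟶ [1]`. -/
def homotopyOfFamily {f g : X ⟶ Y}
    (Φ : ∀ {m : SimplexCategory}, (m ⟶ ⦋1⦌) → (X.obj (op m) ⟶ Y.obj (op m)))
    (nat : ∀ {m m' : SimplexCategory} (β : m' ⟶ m) (θ : m ⟶ ⦋1⦌),
      Φ θ ≫ Y.map β.op = X.map β.op ≫ Φ (β ≫ θ))
    (h0 : ∀ m, Φ (SimplexCategory.const m ⦋1⦌ 0) = f.app (op m))
    (h1 : ∀ m, Φ (SimplexCategory.const m ⦋1⦌ 1) = g.app (op m)) :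
    SimplicialObject.Homotopy f g where
  h i := X.σ i ≫ Φ (cut i)
  h_zero_comp_δ_zero n := by
    rw [Category.assoc, SimplicialObject.δ, nat, ← h1, show SimplexCategory.δ (0 : Fin (n + 2)) ≫ cut 0 = SimplexCategory.const ⦋n⦌ ⦋1⦌ 1 from ?_]
    · rw [← Category.assoc]
      have := X.δ_comp_σ_self (n := n) (i := 0)
      exact (congrArg (· ≫ _) this).trans (Category.id_comp _)
    · refine SimplexCategory.Hom.ext _ _ (OrderHom.ext _ _ (funext fun j => ?_))
      rw [comp_apply, cut_apply, if_neg]
      · rfl
      · simp [SimplexCategory.δ]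
  h_last_comp_δ_last n := by
    rw [Category.assoc, SimplicialObject.δ, nat, ← h0,
      show SimplexCategory.δ (Fin.last (n + 1)) ≫ cut (Fin.last n) = SimplexCategory.const ⦋n⦌ ⦋1⦌ 0 from ?_]
    · rw [← Category.assoc]
      have := X.δ_comp_σ_succ (i := Fin.last n)
      rw [Fin.succ_last] at this
      exact (congrArg (· ≫ _) this).trans (Category.id_comp _)
    · refine SimplexCategory.Hom.ext _ _ (OrderHom.ext _ _ (funext fun j => ?_))
      rw [comp_apply, cut_apply, if_pos]
      · rfl
      · simpa [SimplexCategory.δ] using Fin.is_le j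
  h_succ_comp_δ_castSucc_of_lt {n} i j hij := by
    rw [Category.assoc, SimplicialObject.δ, nat, ← Category.assoc, ← Category.assoc]
    have := X.δ_comp_σ_of_le (i := i) (j := j) hij
    simp only [SimplicialObject.δ, SimplicialObject.σ] at this ⊢
    rw [this]
    congr 2
    refine SimplexCategory.Hom.ext _ _ (OrderHom.ext _ _ (funext fun k => ?_))
    rw [comp_apply, cut_apply, cut_apply]
    have hij' : (i : ℕ) ≤ j := hij
    simp only [SimplexCategory.δ, SimplexCategory.mkHom, SimplexCategory.Hom.toOrderHom_mk,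
      OrderEmbedding.toOrderHom_coe, Fin.succAboveOrderEmb_apply, Fin.succAbove, Fin.lt_def,
      Fin.val_castSucc, Fin.val_succ]
    split_ifs <;> simp_all <;> omega
  h_succ_comp_δ_castSucc_succ {n} j := by
    rw [Category.assoc, Category.assoc, SimplicialObject.δ, nat, nat, ← Category.assoc, ← Category.assoc]
    have h₁ := X.δ_comp_σ_self (i := j.succ)
    have h₂ := X.δ_comp_σ_succ (i := j.castSucc)
    rw [← Fin.succ_castSucc] at h₁
    simp only [SimplicialObject.δ, SimplicialObject.σ] at h₁ h₂ ⊢
    rw [h₁, h₂]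
    congr 2
    refine SimplexCategory.Hom.ext _ _ (OrderHom.ext _ _ (funext fun k => ?_))
    rw [comp_apply, comp_apply, cut_apply, cut_apply]
    simp only [SimplexCategory.δ, SimplexCategory.mkHom, SimplexCategory.Hom.toOrderHom_mk,
      OrderEmbedding.toOrderHom_coe, Fin.succAboveOrderEmb_apply, Fin.succAbove, Fin.lt_def,
      Fin.val_castSucc, Fin.val_succ]
    split_ifs <;> simp_all <;> omega
  h_castSucc_comp_δ_succ_of_lt {n} i j hji := by
    rw [Category.assoc, SimplicialObject.δ, nat, ← Category.assoc, ← Category.assoc]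
    have := X.δ_comp_σ_of_gt (i := i) (j := j) hji
    simp only [SimplicialObject.δ, SimplicialObject.σ] at this ⊢
    rw [this]
    congr 2
    refine SimplexCategory.Hom.ext _ _ (OrderHom.ext _ _ (funext fun k => ?_))
    rw [comp_apply, cut_apply, cut_apply]
    have hji' : (j : ℕ) < i := hji
    simp only [SimplexCategory.δ, SimplexCategory.mkHom, SimplexCategory.Hom.toOrderHom_mk,
      OrderEmbedding.toOrderHom_coe, Fin.succAboveOrderEmb_apply, Fin.succAbove, Fin.lt_def,
      Fin.val_castSucc, Fin.val_succ]
    split_ifs <;> simp_all <;> omega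
  h_comp_σ_castSucc_of_le {n} i j hij := by
    simp only [SimplicialObject.σ]
    rw [Category.assoc, nat, ← Category.assoc, ← Category.assoc]
    have := X.σ_comp_σ (i := i) (j := j) hij
    simp only [SimplicialObject.σ] at this
    rw [← this]
    congr 2
    refine SimplexCategory.Hom.ext _ _ (OrderHom.ext _ _ (funext fun k => ?_))
    rw [comp_apply, cut_apply, cut_apply]
    have hij' : (i : ℕ) ≤ j := hij
    simp only [SimplexCategory.σ, SimplexCategory.mkHom, SimplexCategory.Hom.toOrderHom_mk,
      OrderHom.coe_mk, Fin.predAboveOrderHom_coe, Fin.predAbove, Fin.lt_def, Fin.val_castSucc, Fin.val_succ]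
    split_ifs <;> simp_all <;> omega
  h_comp_σ_succ_of_lt {n} i j hji := by
    simp only [SimplicialObject.σ]
    rw [Category.assoc, nat, ← Category.assoc, ← Category.assoc]
    have := X.σ_comp_σ (i := j) (j := i) hji
    simp only [SimplicialObject.σ] at this
    rw [this]
    congr 2
    refine SimplexCategory.Hom.ext _ _ (OrderHom.ext _ _ (funext fun k => ?_))
    rw [comp_apply, cut_apply, cut_apply]
    have hji' : (j : ℕ) ≤ i := hji
    simp only [SimplexCategory.σ, SimplexCategory.mkHom, SimplexCategory.Hom.toOrderHom_mk,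
      OrderHom.coe_mk, Fin.predAboveOrderHom_coe, Fin.predAbove, Fin.lt_def, Fin.val_castSucc, Fin.val_succ]
    split_ifs <;> simp_all <;> omega

end Generic

section Pointwise

variable (n : ℕ)

instance : Finite (SimplexCategory.Truncated n) :=
  Finite.of_injective (fun a : SimplexCategory.Truncated n => (⟨a.obj.len, Nat.lt_succ_of_le a.property⟩ : Fin (n + 1)))
    fun a b h => ObjectProperty.FullSubcategory.ext (SimplexCategory.ext (congrArg Fin.val h))

instance (a b : SimplexCategory) : Finite (a ⟶ b) :=
  Finite.of_injective (fun f : a ⟶ b => (f.toOrderHom : Fin (a.len + 1) → Fin (b.len + 1)))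
    fun f g h => SimplexCategory.Hom.ext _ _ (DFunLike.ext' h)

instance (a b : SimplexCategory.Truncated n) : Finite (a ⟶ b) :=
  Finite.of_injective (fun f : a ⟶ b => f.hom) fun _ _ h => InducedCategory.hom_ext h

variable (m : SimplexCategoryᵒᵖ)

instance : Finite (StructuredArrow m (SimplexCategory.Truncated.inclusion n).op) :=
  Finite.of_injective
    (fun a => (⟨a.right.unop, a.hom.unop⟩ : Σ p : SimplexCategory.Truncated n,
      (p.obj ⟶ m.unop)))
    fun a b h => by
      obtain ⟨⟨⟨⟩⟩, ar, ah⟩ := a
      obtain ⟨⟨⟨⟩⟩, br, bh⟩ := b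
      simp only [Sigma.mk.injEq] at h
      obtain ⟨h1, h2⟩ := h
      obtain rfl := Opposite.unop_injective h1
      obtain rfl := Quiver.Hom.unop_inj (eq_of_heq h2)
      rfl

instance (a b : StructuredArrow m (SimplexCategory.Truncated.inclusion n).op) : Finite (a ⟶ b) :=
  Finite.of_injective (fun f : a ⟶ b => f.right.unop)
    fun _ _ h => StructuredArrow.hom_ext _ _ (Quiver.Hom.unop_inj h)

noncomputable instance : FinCategory (StructuredArrow m (SimplexCategory.Truncated.inclusion n).op) :=
  { fintypeObj := Fintype.ofFinite _, fintypeHom := fun _ _ => Fintype.ofFinite _ }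

end Pointwise

section Cosk

variable {E : Type u} [Category.{v} E] [HasFiniteLimits E] (n : ℕ)
    [∀ (F : (SimplexCategory.Truncated n)ᵒᵖ ⥤ E), (SimplexCategory.Truncated.inclusion n).op.HasRightKanExtension F]
    {X X' : SimplicialObject E}

/-- The counit of the coskeleton. -/
noncomputable def ε (X : SimplicialObject E) :
    (SimplexCategory.Truncated.inclusion n).op ⋙ (SimplicialObject.cosk n).obj X ⟶
      (SimplexCategory.Truncated.inclusion n).op ⋙ X :=
  (SimplicialObject.coskAdj n).counit.app _

/-- Evaluation of the coskeleton at a simplex of the truncation. -/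
noncomputable def ev (X : SimplicialObject E) {m : SimplexCategory} {p : SimplexCategory.Truncated n}
    (α : p.obj ⟶ m) : ((SimplicialObject.cosk n).obj X).obj (op m) ⟶ X.obj (op p.obj) :=
  ((SimplicialObject.cosk n).obj X).map α.op ≫ (ε n X).app (op p)

theorem isPointwise (X : SimplicialObject E) : Nonempty
    ((Functor.RightExtension.mk _ (ε n X)).IsPointwiseRightKanExtension) := by
  haveI : Functor.HasPointwiseRightKanExtension (SimplexCategory.Truncated.inclusion n).op
      ((SimplexCategory.Truncated.inclusion n).op ⋙ X) := fun Y => by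
    unfold Functor.HasPointwiseRightKanExtensionAt; infer_instance
  refine ⟨?_⟩
  have h := (SimplexCategory.Truncated.inclusion n).op.isPointwiseRightKanExtensionRanCounit
    ((SimplexCategory.Truncated.inclusion n).op ⋙ X)
  have e : (ε n X) = (SimplexCategory.Truncated.inclusion n).op.ranCounit.app
      ((SimplexCategory.Truncated.inclusion n).op ⋙ X) := by
    dsimp [ε, SimplicialObject.coskAdj]
    rw [Functor.ranAdjunction_counit]
    rfl
  rw [e]
  exact h

theorem ev_naturality (X : SimplicialObject E) {m : SimplexCategory} {p q : SimplexCategory.Truncated n}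
    (γ : q ⟶ p) (α : p.obj ⟶ m) : ev n X α ≫ X.map γ.hom.op = ev n X (γ.hom ≫ α) := by
  have := (ε n X).naturality γ.op
  simp only [ev, Category.assoc, op_comp, Functor.map_comp]
  exact congrArg (((SimplicialObject.cosk n).obj X).map α.op ≫ ·) this.symm

theorem ev_map (X : SimplicialObject E) {m m' : SimplexCategory} {p : SimplexCategory.Truncated n}
    (β : m' ⟶ m) (α : p.obj ⟶ m') :
    ((SimplicialObject.cosk n).obj X).map β.op ≫ ev n X α = ev n X (α ≫ β) := by
  simp only [ev, op_comp, Functor.map_comp, Category.assoc]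

theorem ev_hom_ext (X : SimplicialObject E) {T : E} {m : SimplexCategory}
    {u v : T ⟶ ((SimplicialObject.cosk n).obj X).obj (op m)}
    (h : ∀ (p : SimplexCategory.Truncated n) (α : p.obj ⟶ m), u ≫ ev n X α = v ≫ ev n X α) : u = v := by
  obtain ⟨hE⟩ := isPointwise n X
  exact (hE (op m)).hom_ext fun j => h j.right.unop j.hom.unop

variable (f g : X ⟶ X')

theorem ev_map_cosk {m : SimplexCategory} {p : SimplexCategory.Truncated n} (α : p.obj ⟶ m) :
    ((SimplicialObject.cosk n).map f).app (op m) ≫ ev n X' α = ev n X α ≫ f.app (op p.obj) := by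
  have h1 := congrArg (fun t => t.app (op p))
    ((SimplicialObject.coskAdj (C := E) n).counit.naturality ((SimplicialObject.truncation n).map f))
  simp only [ev, ← Category.assoc, ← NatTrans.naturality]
  simp only [Category.assoc]
  exact congrArg (((SimplicialObject.cosk n).obj X).map α.op ≫ ·) h1

open Classical in
/-- The homotopy in degrees at most `n`. -/
noncomputable def H {p : SimplexCategory} (ψ : p ⟶ ⦋1⦌) : X.obj (op p) ⟶ X'.obj (op p) :=
  if ψ = SimplexCategory.const p ⦋1⦌ 1 then g.app (op p) else f.app (op p)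

variable (hfg : ∀ p : ℕ, p < n → f.app (op (SimplexCategory.mk p)) = g.app (op (SimplexCategory.mk p)))
include hfg

theorem map_eq {p q : SimplexCategory.Truncated n} (γ : q ⟶ p) (hγ : p.obj.len < n ∨ q.obj.len < n) :
    X.map γ.hom.op ≫ f.app (op q.obj) = X.map γ.hom.op ≫ g.app (op q.obj) := by
  rcases hγ with h | h
  · rw [f.naturality, g.naturality]
    have := hfg _ h
    rw [SimplexCategory.mk_len] at this
    rw [this]
  · have := hfg _ h
    rw [SimplexCategory.mk_len] at this
    rw [this]

theorem map_eq' {p q : SimplexCategory.Truncated n} (γ : q ⟶ p) :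
    X.map γ.hom.op ≫ f.app (op q.obj) = X.map γ.hom.op ≫ g.app (op q.obj) ∨
      ∃ h : q = p, γ = eqToHom h := by
  rcases (p.property : p.obj.len ≤ n).lt_or_eq with hp | hp
  · exact .inl (map_eq n f g hfg γ (.inl hp))
  rcases (q.property : q.obj.len ≤ n).lt_or_eq with hq | hq
  · exact .inl (map_eq n f g hfg γ (.inr hq))
  obtain rfl : q = p := ObjectProperty.FullSubcategory.ext (SimplexCategory.ext (hq.trans hp.symm))
  by_cases hepi : Function.Surjective γ.hom.toOrderHom
  · haveI : Epi γ.hom := SimplexCategory.epi_iff_surjective.2 hepi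
    exact .inr ⟨rfl, InducedCategory.hom_ext (SimplexCategory.eq_id_of_epi γ.hom)⟩
  · obtain ⟨⟨l⟩, hl⟩ := q
    obtain rfl : l = n := hq
    cases l with
    | zero => exact absurd (fun y => ⟨0, Subsingleton.elim (α := Fin 1) _ _⟩) hepi
    | succ k =>
      obtain ⟨i, θ', hθ⟩ := SimplexCategory.eq_comp_δ_of_not_surjective γ.hom hepi
      left
      rw [hθ, op_comp, Functor.map_comp, Category.assoc, Category.assoc, f.naturality, g.naturality,
        hfg k (Nat.lt_succ_self k)]

theorem H_naturality {p q : SimplexCategory.Truncated n} (γ : q ⟶ p) (ψ : p.obj ⟶ ⦋1⦌) :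
    H f g ψ ≫ X'.map γ.hom.op = X.map γ.hom.op ≫ H f g (γ.hom ≫ ψ) := by
  rcases map_eq' n f g hfg γ with h | ⟨rfl, rfl⟩
  · unfold H
    split_ifs <;> simp [← NatTrans.naturality, h]
  · simp

/-- The homotopy as a compatible family. -/
noncomputable def Φ {m : SimplexCategory} (θ : m ⟶ ⦋1⦌) :
    ((SimplicialObject.cosk n).obj X).obj (op m) ⟶ ((SimplicialObject.cosk n).obj X').obj (op m) :=
  ((isPointwise n X').some (op m)).lift
    { pt := ((SimplicialObject.cosk n).obj X).obj (op m)
      π :=
        { app := fun j => ev n X j.hom.unop ≫ H f g (j.hom.unop ≫ θ)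
          naturality := fun j j' φ => by
            have hw : φ.right.unop.hom ≫ j.hom.unop = j'.hom.unop := congrArg Quiver.Hom.unop (StructuredArrow.w φ)
            dsimp
            rw [Category.id_comp, ← hw, Category.assoc φ.right.unop.hom, ← ev_naturality, Category.assoc]
            exact congrArg (ev n X j.hom.unop ≫ ·) (H_naturality n f g hfg φ.right.unop (j.hom.unop ≫ θ)).symm |>.trans
              (Category.assoc _ _ _).symm } }

theorem Φ_ev {m : SimplexCategory} (θ : m ⟶ ⦋1⦌) {p : SimplexCategory.Truncated n} (α : p.obj ⟶ m) :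
    Φ n f g hfg θ ≫ ev n X' α = ev n X α ≫ H f g (α ≫ θ) :=
  ((isPointwise n X').some (op m)).fac _ (StructuredArrow.mk (Y := op p) α.op)

end Cosk

end Groth.Agent.S8565

namespace Groth.Agent.S8565
open SimplexCategory Simplicial

/-- Let E be a category with finite limits, n a natural number and f, g : X ⟶ X' two morphisms of
simplicial objects of E whose components agree in every degree p < n. Then there is a simplicial
homotopy between the morphisms cosk_n(f) and cosk_n(g) of n-coskeleta (cosk_n = right Kan extension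
of the n-truncation; Mathlib's combinatorial simplicial homotopies). For n = 0 the hypothesis is
empty. -/
theorem result {E : Type u} [Category.{v} E] [HasFiniteLimits E] (n : ℕ)
    [∀ (F : (SimplexCategory.Truncated n)ᵒᵖ ⥤ E), (SimplexCategory.Truncated.inclusion n).op.HasRightKanExtension F]
    {X X' : SimplicialObject E} (f g : X ⟶ X')
    (hfg : ∀ p : ℕ, p < n → f.app (op (SimplexCategory.mk p)) = g.app (op (SimplexCategory.mk p))) :
    Nonempty (SimplicialObject.Homotopy ((SimplicialObject.cosk n).map f) ((SimplicialObject.cosk n).map g)) := by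
  refine ⟨homotopyOfFamily (Φ n f g hfg) (fun {m m'} β θ => ?_) (fun m => ?_) fun m => ?_⟩
  · refine ev_hom_ext n X' fun p α => ?_
    simp only [Category.assoc, ev_map, Φ_ev]
    rw [← Category.assoc ((((SimplicialObject.cosk n).obj X)).map β.op), ev_map]
  · refine ev_hom_ext n X' fun p α => ?_
    rw [Φ_ev, ev_map_cosk]
    congr 1
    refine if_neg fun h => ?_
    exact absurd (congrArg (fun t => t.toOrderHom 0) h) (by simp [SimplexCategory.const, comp_apply])
  · refine ev_hom_ext n X' fun p α => ?_
    rw [Φ_ev, ev_map_cosk]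
    congr 1
    exact if_pos rfl

end Groth.Agent.S8565
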