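import Groth.Statements.S8567
import Groth.Agent.L10.Proper.Soft
-- import your own Groth.Agent.* helpers here

set_option autoImplicit false
open CategoryTheory TopologicalSpace Opposite
universe u
open CohTop

namespace Groth.Agent.S8567

/-- Let X be a topological space, K ⊆ X a compact subset such that any two distinct points of K have
disjoint neighbourhoods in X, and F a flasque abelian sheaf on X. Then the inverse image F|K of F on
the subspace K is a soft sheaf: for every closed subset A of K, every section of (F|K)|A over A is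
the restriction of a section of F|K over K (the restriction map is the unit of the inverse image /
direct image adjunction for the inclusion A → K, taken on global sections). -/
theorem result {X : TopCat.{u}} {K : Set X} (hK : IsCompact K)
    (hsep : ∀ x ∈ K, ∀ y ∈ K, x ≠ y → ∃ U V : Set X, IsOpen U ∧ IsOpen V ∧ x ∈ U ∧ y ∈ V ∧ Disjoint U V)
    (F : CohTop.Ab X) [TopCat.Sheaf.IsFlasque F] {A : Set K} (hA : IsClosed A) :
    Function.Surjective
      ((((TopCat.Sheaf.pullbackPushforwardAdjunction AddCommGrpCat.{u}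
        (TopCat.ofHom ⟨((↑) : A → K), continuous_subtype_val⟩ : TopCat.of A ⟶ TopCat.of K)).unit.app
        ((CohTop.pull (TopCat.ofHom ⟨((↑) : K → X), continuous_subtype_val⟩ : TopCat.of K ⟶ X)).obj F)).hom.app
        (op ⊤)).hom) := by
  let j : TopCat.of K ⟶ X := TopCat.ofHom ⟨((↑) : K → X), continuous_subtype_val⟩
  let a : TopCat.of A ⟶ TopCat.of K := TopCat.ofHom ⟨((↑) : A → K), continuous_subtype_val⟩
  have : CompactSpace (TopCat.of K) := isCompact_iff_compactSpace.1 hK
  have : CompactSpace (TopCat.of A) := isCompact_iff_compactSpace.1 (hA.isCompact : IsCompact A)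
  have hs : ∀ k k' : TopCat.of K, k ≠ k' → ∃ U V : Set X, IsOpen U ∧ IsOpen V ∧ j k ∈ U ∧ j k' ∈ V ∧ Disjoint U V :=
    fun k k' h => hsep k.1 k.2 k'.1 k'.2 fun e => h (Subtype.ext e)
  have hsoft := Groth.L10.Proper.isSoft_of_pullUnit (G := F) (Groth.L10.Proper.isPullUnit_unit j F) hs
  intro w
  have hu := Groth.L10.Proper.isPullUnit_unit a ((CohTop.pull j).obj F)
  obtain ⟨O, t, h⟩ := Groth.L10.Proper.exists_lift (K := TopCat.of A) hu
    (fun k k' h => by
      obtain ⟨U, V, hU, hV, h1, h2, hd⟩ := hs k.1 k'.1 (fun e => h (Subtype.ext e))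
      exact ⟨j ⁻¹' U, j ⁻¹' V, hU.preimage j.hom.continuous, hV.preimage j.hom.continuous, h1, h2, hd.preimage j⟩)
    (V := ⊤) w (A := Set.univ) isClosed_univ (fun x _ => Opens.mem_top x)
  obtain ⟨s, hs'⟩ := hsoft A hA O t (fun x hx => (h ⟨x, hx⟩ trivial).1)
  refine ⟨s, Groth.L10.Proper.sect_ext ((CohTop.pull a).obj ((CohTop.pull j).obj F)) (U := (⊤ : TopologicalSpace.Opens (TopCat.of A))) _ _ fun x _ => ?_⟩
  obtain ⟨hO, _, e⟩ := h x trivial
  refine Eq.trans ?_ e
  exact (Groth.L10.Proper.germ_pl _ s x trivial).symm.trans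
    ((congrArg _ (hs' x.1 x.2)).trans (Groth.L10.Proper.germ_pl _ t x hO))

end Groth.Agent.S8567
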