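import Groth.Statements.S8569
import Groth.Prelude.Def_SGA4a
import Groth.Agent.L09.LexRefl
import Mathlib.CategoryTheory.Adjunction.Whiskering
import Mathlib.CategoryTheory.Functor.Currying
import Mathlib.CategoryTheory.Limits.FunctorCategory.Finite
import Mathlib.CategoryTheory.Limits.Preserves.FunctorCategory

set_option autoImplicit false
open CategoryTheory
universe v u
open SGA4

namespace Groth.Agent.S8569
open CategoryTheory Category Limits

/-- Let E be a topos (a category equivalent to the category of sheaves of sets on a small site, for the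
universe u) and D a u-small category. Then the category of functors D ⥤ E, which is the category of
sections of the constant D-topos with value E, is a topos. (The published statement is for an
arbitrary D-topos, i.e. a category bifibred in topoi over D; this row is the case of a constant
one.) -/
theorem result {E : Type v} [Category.{u} E] (hE : SGA4.IsTopos E)
    (D : Type u) [SmallCategory D] : SGA4.IsTopos (D ⥤ E) := by
  obtain ⟨C, hC, J, ⟨e⟩⟩ := hE
  let T : (D ⥤ Cᵒᵖ ⥤ Type u) ≌ (((Cᵒᵖ × D)ᵒᵖ)ᵒᵖ ⥤ Type u) :=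
    (Functor.flipping.trans Functor.currying).trans ((opOpEquivalence (Cᵒᵖ × D)).symm.congrLeft)
  let G : (D ⥤ Sheaf J (Type u)) ⥤ (((Cᵒᵖ × D)ᵒᵖ)ᵒᵖ ⥤ Type u) :=
    (Functor.whiskeringRight D _ _).obj (sheafToPresheaf J (Type u)) ⋙ T.functor
  let L : (((Cᵒᵖ × D)ᵒᵖ)ᵒᵖ ⥤ Type u) ⥤ (D ⥤ Sheaf J (Type u)) :=
    T.inverse ⋙ (Functor.whiskeringRight D _ _).obj (presheafToSheaf J (Type u))
  let adj : L ⊣ G := T.symm.toAdjunction.comp ((sheafificationAdjunction J (Type u)).whiskerRight D)
  have hLp : PreservesFiniteLimits L := by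
    haveI : PreservesFiniteLimits ((Functor.whiskeringRight D _ _).obj (presheafToSheaf J (Type u))) := ⟨fun _ _ _ => inferInstance⟩
    exact comp_preservesFiniteLimits _ _
  have : G.Full := Functor.Full.comp _ _
  have : G.Faithful := Functor.Faithful.comp _ _
  let P := G.essImage
  have : P.IsClosedUnderIsomorphisms := by infer_instance
  let q : (D ⥤ Sheaf J (Type u)) ≌ P.FullSubcategory := G.toEssImage.asEquivalence
  let adj' : L ⋙ q.functor ⊣ P.ι :=
    (adj.comp q.toAdjunction).ofNatIsoRight ((Functor.isoWhiskerLeft q.inverse (G.toEssImageCompι).symm).trans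
      ((Functor.associator _ _ _).symm.trans ((Functor.isoWhiskerRight q.counitIso _).trans (Functor.leftUnitor _))))
  letI : Reflective P.ι := ⟨_, adj'⟩
  haveI : PreservesFiniteLimits (reflector P.ι) := comp_preservesFiniteLimits L q.functor
  let J' := Groth.L09.LexRefl.topology P
  have h1 : P ≤ Presheaf.IsSheaf J' := fun F h =>
    (isSheaf_iff_isSheaf_of_type _ _).mpr (Groth.L09.LexRefl.isSheaf_obj P ⟨F, h⟩)
  have h2 : Presheaf.IsSheaf J' ≤ P := fun F h =>
    Groth.L09.LexRefl.prop_of_isSheaf P F ((isSheaf_iff_isSheaf_of_type _ _).mp h)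
  let c : P.FullSubcategory ≌ Sheaf J' (Type u) :=
    { functor := ObjectProperty.ιOfLE h1, inverse := ObjectProperty.ιOfLE h2, unitIso := Iso.refl _, counitIso := Iso.refl _ }
  exact ⟨_, inferInstance, J', ⟨(e.congrRight).trans (q.trans c)⟩⟩

end Groth.Agent.S8569
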