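import Groth.Statements.S8575
import Groth.Agent.L10.Descent.EtMonad

set_option autoImplicit false
set_option backward.defeqAttrib.useBackward true
set_option backward.isDefEq.respectTransparency false
open CategoryTheory CategoryTheory.Limits AlgebraicGeometry
universe u
open EtDesc

namespace Groth.Agent.S8575

/-- Let f : X → Y be an integral surjective morphism of schemes and F any abelian sheaf on the small
etale site of Y. Then f is of cohomological descent for F, and the descent spectral sequence reads,
in existence form: there is a bounded spectral sequence of abelian groups starting at page one with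
E_1^{p,q} isomorphic, for p, q ≥ 0, to the etale cohomology group H^q(X_p, F|X_p), where X_p is the
(p+1)-fold fibre product of X over Y and F|X_p the inverse image of F along its projection to Y, and
zero otherwise, together with abutment data whose filtrations are finite on H^n(Y_et, F) for n ≥ 0
(zero for n < 0). (The E_1 identifications and the abutment isomorphisms are asserted to exist only;
the differentials are not part of this statement.) -/
theorem result {X Y : Scheme.{u}} (f : X ⟶ Y)
    [IsIntegralHom f] [Surjective f] (F : EtCoh.Ab Y) :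
    ∃ (E : CohomologicalSpectralSequence AddCommGrpCat.{u + 1} 1)
      (a : SpSeq.Abutment E (fun n : ℤ =>
        if 0 ≤ n then AddCommGrpCat.of (EtCoh.H Y F n.toNat) else AddCommGrpCat.of PUnit.{u + 2})),
      (∀ n, a.IsFinite n) ∧ SpSeq.IsBounded E ∧
      ∀ p q : ℤ, Nonempty ((E.page 1 le_rfl).X (p, q) ≅
        (if 0 ≤ p ∧ 0 ≤ q then
          AddCommGrpCat.of (EtCoh.H (widePullback Y (fun _ : Fin (p.toNat + 1) => X) (fun _ => f))
            ((EtCoh.pull (WidePullback.base (fun _ : Fin (p.toNat + 1) => f) :
              widePullback Y (fun _ : Fin (p.toNat + 1) => X) (fun _ => f) ⟶ Y)).obj F) q.toNat)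
         else AddCommGrpCat.of PUnit.{u + 2})) := by
  haveI : IsGrothendieckAbelian.{u + 1} (EtCoh.Ab Y) := inferInstance
  letI : HasDerivedCategory.{u + 1} (EtCoh.Ab Y) := Groth.L10.Descent.smallDerived
  haveI := Groth.L27.EtSite.preservesFiniteLimits_pull f
  haveI : PreservesFiniteColimits (EtCoh.pull f) :=
    haveI := (EtCoh.pullPushAdj f).leftAdjoint_preservesColimits.{0, 0}
    PreservesColimitsOfSize.preservesFiniteColimits _
  haveI : (EtCoh.push f).Additive := (EtCoh.pullPushAdj f).right_adjoint_additive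
  haveI := Groth.L10.Descent.quasiIso_monι' (EtCoh.pullPushAdj f) F (Groth.L10.EtMonad.isZero_of_isZero_pull f)
  obtain ⟨E, a, h1, h2, h3, h4⟩ := Groth.L10.Descent.exists_spectralSequence_coresolution
    (Groth.L10.Descent.monCx (EtCoh.pullPushAdj f) F) (EtCoh.const Y ℤ) F
    (Groth.L10.Descent.monι' (EtCoh.pullPushAdj f) F)
    (fun n : ℤ => if 0 ≤ n then AddCommGrpCat.of (EtCoh.H Y F n.toNat) else AddCommGrpCat.of PUnit.{u + 2})
    (fun n => ⟨eqToIso (by simp)⟩)
    (fun n hn => by rw [if_neg (by omega)]; exact AddCommGrpCat.isZero_of_subsingleton _)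
  refine ⟨E, a, h1, h2, fun p q => ?_⟩
  by_cases h : 0 ≤ p ∧ 0 ≤ q
  · obtain ⟨hp, hq⟩ := h
    obtain ⟨m, rfl⟩ := Int.eq_ofNat_of_zero_le hp
    obtain ⟨k, rfl⟩ := Int.eq_ofNat_of_zero_le hq
    rw [if_pos ⟨hp, hq⟩]
    obtain ⟨e⟩ := h3 m k
    obtain ⟨i⟩ := Groth.L10.EtMonad.nonempty_monX_iso f F m
    haveI := Groth.L10.EtMonad.isIntegral_fpBase f m
    let b := Groth.L10.EtMonad.fpBase f m
    haveI := Groth.L27.EtSite.preservesFiniteLimits_pull b
    let g := (EtCoh.HF Y k).mapIso (Groth.L10.Descent.monCxXIso (EtCoh.pullPushAdj f) F m ≪≫ i)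
    let hb := AddEquiv.ofBijective (EtLim.HofPush b ((EtCoh.pull b).obj F) k)
      (Groth.L27.EtSite.bijective_HofPush b _ (fun j hj => Groth.L27.EtSite.isZero_Rpush_of_propB b
        (Groth.L27.EtSite.propB_of_isIntegralHom b) _ j hj) k)
    exact ⟨e ≪≫ g ≪≫ hb.toAddCommGrpIso⟩
  · rw [if_neg h]
    exact ⟨(h4 p q h).iso (AddCommGrpCat.isZero_of_subsingleton _)⟩

end Groth.Agent.S8575
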