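import Groth.Statements.S8586
import Mathlib.RingTheory.Ideal.KrullsHeightTheorem
import Groth.Prelude.Def_CAlg

set_option autoImplicit false
universe u
open CAlg

namespace Groth.S8586aux
open IsLocalRing

variable {A : Type u} [CommRing A] [IsLocalRing A] [IsNoetherianRing A] {d : ℕ}

/-- `u` is a system of parameters. -/
def Sop (u : Fin d → A) : Prop :=
  (∀ i, u i ∈ maximalIdeal A) ∧ maximalIdeal A ≤ (Ideal.span (Set.range u)).radical

/-- differ in at most one coordinate -/
def Adj (u v : Fin d → A) : Prop :=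
  Sop u ∧ Sop v ∧ ∃ i : Fin d, ∀ i', i' ≠ i → u i' = v i'

lemma eq_max_of_le (u : Fin d → A) (hu : Sop u) (P : Ideal A) [P.IsPrime] (h : ∀ i, u i ∈ P) :
    P = maximalIdeal A := by
  refine le_antisymm (le_maximalIdeal (Ideal.IsPrime.ne_top')) (hu.2.trans ?_)
  rw [Ideal.IsPrime.radical_le_iff inferInstance, Ideal.span_le]
  rintro _ ⟨i, rfl⟩; exact h i

/-- the ideal of all coordinates but `j` -/
abbrev rest (u : Fin d → A) (j : Fin d) : Ideal A := Ideal.span (u '' {i | i ≠ j})

lemma rest_not_mem (hd : ringKrullDim A = d) (u : Fin d → A) (hu : Sop u) (j : Fin d) :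
    maximalIdeal A ∉ (rest u j).minimalPrimes := by
  intro h
  classical
  have hs : rest u j = Ideal.span ((Finset.univ.erase j).image u : Set A) := by
    unfold rest; congr 1; ext; simp
  rw [hs] at h
  have h1 := Ideal.height_le_card_of_mem_minimalPrimes_span_finset h
  have h2 : (maximalIdeal A).height = (d : ℕ∞) := by
    have := IsLocalRing.maximalIdeal_height_eq_ringKrullDim (R := A)
    rw [hd] at this; exact_mod_cast this
  rw [h2] at h1
  have h3 : ((Finset.univ.erase j).image u).card < d := by
    refine lt_of_le_of_lt Finset.card_image_le ?_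
    rw [Finset.card_erase_of_mem (Finset.mem_univ j), Finset.card_univ, Fintype.card_fin]
    have := j.isLt; omega
  exact absurd (by exact_mod_cast h1 : d ≤ _) (not_le.mpr h3)

lemma sop_update (u : Fin d → A) (hu : Sop u) (j : Fin d) (w : A) (hw : w ∈ maximalIdeal A)
    (hav : ∀ Q ∈ (rest u j).minimalPrimes, w ∉ Q) : Sop (Function.update u j w) := by
  classical
  refine ⟨fun i => ?_, ?_⟩
  · rcases eq_or_ne i j with rfl | h
    · simpa using hw
    · simpa [h] using hu.1 i
  · rw [Ideal.radical_eq_sInf]
    refine le_sInf ?_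
    rintro P ⟨hP, hPp⟩
    haveI := hPp
    have hwP : w ∈ P := by
      simpa using hP (Ideal.subset_span ⟨j, rfl⟩)
    have hJP : rest u j ≤ P := by
      rw [Ideal.span_le]; rintro _ ⟨i, hi, rfl⟩
      have h : Function.update u j w i ∈ P := hP (Ideal.subset_span ⟨i, rfl⟩)
      rwa [Function.update_of_ne (show i ≠ j from hi)] at h
    by_contra hne
    obtain ⟨Q, hQ, hQP⟩ := Ideal.exists_minimalPrimes_le hJP
    haveI : Q.IsPrime := hQ.1.1
    have hlt : Q < P := lt_of_le_of_ne hQP (fun h => hav Q hQ (h ▸ hwP))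
    have hPm : P < maximalIdeal A :=
      lt_of_le_of_ne (le_maximalIdeal (Ideal.IsPrime.ne_top')) (fun h => hne h.ge)
    have hmin : maximalIdeal A ∈ (Ideal.span (insert (u j) (u '' {i | i ≠ j}))).minimalPrimes := by
      refine ⟨⟨inferInstance, ?_⟩, ?_⟩
      · rw [Ideal.span_le]
        rintro _ (rfl | ⟨i, -, rfl⟩) <;> exact hu.1 _
      · rintro P' ⟨hP', hle⟩ -
        haveI := hP'
        refine (eq_max_of_le u hu P' fun i => hle (Ideal.subset_span ?_)).ge
        rcases eq_or_ne i j with rfl | h
        · exact Or.inl rfl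
        · exact Or.inr ⟨i, h, rfl⟩
    -- dimension of `A/rest` is at most one
    let f := Ideal.Quotient.mk (rest u j)
    haveI : Nontrivial (A ⧸ rest u j) := Ideal.Quotient.nontrivial_iff.mpr
      (fun h => Ideal.IsPrime.ne_top' (I := P) (top_le_iff.mp (h ▸ hJP)))
    haveI : IsLocalRing (A ⧸ rest u j) := IsLocalRing.of_surjective' f Ideal.Quotient.mk_surjective
    have hJm : rest u j ≤ maximalIdeal A := hJP.trans hPm.le
    have hk : ∀ {I : Ideal A}, rest u j ≤ I → (I.map f).comap f = I := by
      intro I hI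
      rw [Ideal.comap_map_of_surjective' f Ideal.Quotient.mk_surjective, Ideal.mk_ker, sup_eq_left]
      exact hI
    have hprime : ∀ {I : Ideal A}, I.IsPrime → rest u j ≤ I → (I.map f).IsPrime := fun hI hle =>
      Ideal.map_isPrime_of_surjective (H := hI) Ideal.Quotient.mk_surjective (by rwa [Ideal.mk_ker])
    haveI := hprime (inferInstance : (maximalIdeal A).IsPrime) hJm
    haveI := hprime hPp hJP
    haveI := hprime (inferInstance : Q.IsPrime) hQ.1.2
    have hmin2 : (maximalIdeal A).map f ∈ (Ideal.span {f (u j)}).minimalPrimes := by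
      refine ⟨⟨inferInstance, ?_⟩, ?_⟩
      · rw [Ideal.span_le, Set.singleton_subset_iff]; exact Ideal.mem_map_of_mem f (hu.1 j)
      · rintro P' ⟨hP', hle⟩ -
        haveI := hP'
        rw [Ideal.map_le_iff_le_comap]
        haveI : (P'.comap f).IsPrime := Ideal.IsPrime.comap f
        refine (eq_max_of_le u hu (P'.comap f) fun i => ?_).ge
        rcases eq_or_ne i j with rfl | h
        · exact hle (Ideal.subset_span rfl)
        · have h0 : f (u i) = 0 := Ideal.Quotient.eq_zero_iff_mem.mpr
            (Ideal.subset_span (⟨i, h, rfl⟩ : u i ∈ u '' {i | i ≠ j}))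
          rw [Ideal.mem_comap, h0]
          exact P'.zero_mem
    haveI : (Ideal.span {f (u j)}).IsPrincipal := ⟨⟨_, rfl⟩⟩
    have h1 := Ideal.height_le_one_of_isPrincipal_of_mem_minimalPrimes _ _ hmin2
    have l1 : Q.map f < P.map f := lt_of_le_of_ne (Ideal.map_mono hlt.le)
      (fun h => hlt.ne (by rw [← hk hQ.1.2, h, hk hJP]))
    have l2 : P.map f < (maximalIdeal A).map f := lt_of_le_of_ne (Ideal.map_mono hPm.le)
      (fun h => hPm.ne (by rw [← hk hJP, h, hk hJm]))
    have a1 := Ideal.height_add_one_le_of_lt_of_isPrime l1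
    have a2 := Ideal.height_add_one_le_of_lt_of_isPrime l2
    have : (2 : ℕ∞) ≤ ((maximalIdeal A).map f).height :=
      calc (2 : ℕ∞) = 0 + 1 + 1 := by norm_num
        _ ≤ (Q.map f).height + 1 + 1 := by gcongr; exact bot_le
        _ ≤ (P.map f).height + 1 := by gcongr
        _ ≤ _ := a2
    exact absurd (this.trans h1) (by norm_num)

lemma connected (hd : ringKrullDim A = d) : ∀ (k : ℕ) (u v : Fin d → A), Sop u → Sop v →
    (∀ i : Fin d, (i : ℕ) + k < d → u i = v i) → Relation.ReflTransGen Adj u v := by
  classical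
  intro k
  induction k with
  | zero =>
    intro u v _ _ h
    rw [show u = v from funext fun i => h i (by have := i.isLt; omega)]
  | succ k ih =>
    intro u v hu hv h
    by_cases hk : d < k + 1
    · exact ih u v hu hv fun i hi => absurd hi (by omega)
    let j : Fin d := ⟨d - (k + 1), by omega⟩
    let S := (rest u j).minimalPrimes ∪ (rest v j).minimalPrimes
    have hfin : S.Finite := (Ideal.finite_minimalPrimes_of_isNoetherianRing A _).union
      (Ideal.finite_minimalPrimes_of_isNoetherianRing A _)
    have hnot : ¬ (maximalIdeal A : Set A) ⊆ ⋃ Q ∈ (hfin.toFinset : Set (Ideal A)), (Q : Set A) := by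
      rw [Ideal.subset_union_prime ⊥ ⊥ fun Q hQ _ _ => ?_]
      · rintro ⟨Q, hQ, hle⟩
        rw [Set.Finite.mem_toFinset] at hQ
        rcases hQ with hQ | hQ <;>
          have hQp : Q.IsPrime := hQ.1.1 <;>
          have hQe : maximalIdeal A = Q := le_antisymm hle (le_maximalIdeal hQp.ne_top)
        · exact rest_not_mem hd u hu j (hQe ▸ hQ)
        · exact rest_not_mem hd v hv j (hQe ▸ hQ)
      · rcases hfin.mem_toFinset.mp hQ with h | h <;> exact h.1.1
    obtain ⟨w, hw, hwn⟩ := Set.not_subset.mp hnot
    simp only [Set.mem_iUnion, SetLike.mem_coe, exists_prop, not_exists, not_and,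
      Set.Finite.coe_toFinset] at hwn
    have hu' := sop_update u hu j w hw fun Q hQ => hwn Q (Or.inl hQ)
    have hv' := sop_update v hv j w hw fun Q hQ => hwn Q (Or.inr hQ)
    have e1 : Adj u (Function.update u j w) :=
      ⟨hu, hu', j, fun i hi => (Function.update_of_ne hi _ _).symm⟩
    have e2 : Adj (Function.update v j w) v := ⟨hv', hv, j, fun i hi => Function.update_of_ne hi _ _⟩
    refine (Relation.ReflTransGen.head e1 (ih _ _ hu' hv' fun i hi => ?_)).tail e2
    rcases eq_or_ne i j with rfl | hij
    · simp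
    · rw [Function.update_of_ne hij, Function.update_of_ne hij]
      refine h i ?_
      have hne : (i : ℕ) ≠ d - (k + 1) := fun e => hij (Fin.ext e)
      omega

end Groth.S8586aux


namespace Groth.Agent.S8586

/-- Suppose A is a Cohen–Macaulay local ring whose Krull dimension is d, and consider two systems of
parameters u = (u_1, ..., u_d) and v = (v_1, ..., v_d) of A (that is, d-tuples of elements of the
maximal ideal m such that the ideal they generate has radical m). Then one can find a finite
sequence w_0 = u, w_1, ..., w_m = v, each term a system of parameters of A, where w_{k+1} arises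
from w_k by altering just one coordinate. -/
theorem result (A : Type u) [CommRing A] [LocCoh.IsCohenMacaulayLocalRing A]
    (d : ℕ) (hd : ringKrullDim A = d) (u v : Fin d → A)
    (hu : ∀ i, u i ∈ IsLocalRing.maximalIdeal A) (hu' : IsLocalRing.maximalIdeal A ≤ (Ideal.span (Set.range u)).radical)
    (hv : ∀ i, v i ∈ IsLocalRing.maximalIdeal A) (hv' : IsLocalRing.maximalIdeal A ≤ (Ideal.span (Set.range v)).radical) :
    ∃ (m : ℕ) (w : Fin (m + 1) → Fin d → A), w 0 = u ∧ w (Fin.last m) = v ∧
      (∀ k : Fin (m + 1), (∀ i, w k i ∈ IsLocalRing.maximalIdeal A) ∧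
        IsLocalRing.maximalIdeal A ≤ (Ideal.span (Set.range (w k))).radical) ∧
      (∀ k : Fin m, ∃ i : Fin d, ∀ i' : Fin d, i' ≠ i → w k.castSucc i' = w k.succ i') := by
  open Groth.S8586aux in
  have h := Groth.S8586aux.connected hd d u v ⟨hu, hu'⟩ ⟨hv, hv'⟩ fun i hi => absurd hi (by omega)
  clear hv hv'
  induction h with
  | refl =>
    exact ⟨0, fun _ => u, rfl, rfl, fun _ => ⟨hu, hu'⟩, fun k => k.elim0⟩
  | @tail b c _ hbc ih =>
    obtain ⟨m, w, h0, hl, hs, hadj⟩ := ih
    obtain ⟨hb, hc, i, hi⟩ := hbc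
    refine ⟨m + 1, Fin.snoc w c, ?_, ?_, ?_, ?_⟩
    · rw [← Fin.castSucc_zero, Fin.snoc_castSucc, h0]
    · exact Fin.snoc_last _ _
    · intro k
      induction k using Fin.lastCases with
      | last => rw [Fin.snoc_last]; exact hc
      | cast k => rw [Fin.snoc_castSucc]; exact hs k
    · intro k
      induction k using Fin.lastCases with
      | last => refine ⟨i, fun i' hi' => ?_⟩; rw [Fin.snoc_castSucc, Fin.succ_last, Fin.snoc_last, hl]; exact hi i' hi'
      | cast k => rw [Fin.succ_castSucc, Fin.snoc_castSucc, Fin.snoc_castSucc]; exact hadj k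

end Groth.Agent.S8586
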