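import Groth.Statements.S8596
import Groth.Agent.L03.TorResidue
import Groth.Agent.L28.HomElt
import Groth.Agent.L28.TorFacts

set_option autoImplicit false
universe u
open CategoryTheory CategoryTheory.Limits
open CAlg

open CategoryTheory CategoryTheory.Limits MonoidalCategory TensorProduct

namespace Groth.Agent.S8596

/-- Case of a complex reduced to a single module in degree 0: let A be a commutative Noetherian ring, M
an A-module (not necessarily finitely generated) and n ≥ 0. Then M has tor-dimension at most n —
Tor_i^A(N, M) = 0 for every A-module N and every i > n, the Tor being the left derived functors of N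
⊗ - evaluated at M — if and only if Tor_i^A(k(x), M) = 0 for every prime ideal x of A, with residue
field k(x), and every i > n. (The published statement gives the equivalence for bounded-above
complexes K and the derived tensor product K ⊗^L k(x); this is the case K = M[0].) -/
theorem result (A : Type u) [CommRing A] [IsNoetherianRing A]
    (M : ModuleCat.{u} A) (n : ℕ) :
    (∀ (N : ModuleCat.{u} A) (i : ℕ), n < i → IsZero (((Tor (ModuleCat.{u} A) i).obj N).obj M)) ↔
    (∀ (x : Ideal A) [x.IsPrime] (i : ℕ), n < i →
      IsZero (((Tor (ModuleCat.{u} A) i).obj (ModuleCat.of A x.ResidueField)).obj M)) := by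
  refine ⟨fun h x _ i hi => h _ i hi, fun h N i hi => ?_⟩
  let P := projectiveResolution M
  let d : ∀ j, P.complex.X (j + 1) →ₗ[A] P.complex.X j := fun j => (P.complex.d (j + 1) j).hom
  have hd : ∀ j, d j ∘ₗ d (j + 1) = 0 := fun j => by
    rw [← ModuleCat.hom_comp, P.complex.d_comp_d]; rfl
  haveI : ∀ j, Module.Flat A (P.complex.X j) := (Groth.L28.Balance.isRes_projectiveResolution P).flat
  have hiff : ∀ (V : Type u) [AddCommGroup V] [Module A V] (j : ℕ),
      IsZero (((Tor (ModuleCat.{u} A) (j + 1)).obj (ModuleCat.of A V)).obj M) ↔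
        ∀ z : V ⊗[A] P.complex.X (j + 1), (d j).lTensor V z = 0 → ∃ w, (d (j + 1)).lTensor V w = z := by
    intro V _ _ j
    exact (P.isoLeftDerivedObj ((tensoringLeft _).obj (ModuleCat.of A V)) (j + 1)).isZero_iff.trans
      (Groth.L28.HomElt.isZero_homology_iff (i := j + 2) (k := j) ((ComplexShape.down ℕ).prev_eq' rfl)
        ((ComplexShape.down ℕ).next_eq' rfl))
  have hκ : ∀ (p : Ideal A) [p.IsPrime], Groth.L03.TorResidue.Ex d n p.ResidueField := by
    intro p _ j hj
    exact (hiff p.ResidueField j).mp (h p (j + 1) (Nat.lt_succ_of_le hj))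
  obtain ⟨j, rfl⟩ : ∃ j, i = j + 1 := ⟨i - 1, by omega⟩
  exact (hiff N j).mpr (Groth.L03.TorResidue.ex_of_residue d hd hκ N j (Nat.le_of_lt_succ hi))

end Groth.Agent.S8596
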