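import Groth.Statements.S8597
import Groth.Agent.L03.TorCone
import Groth.Agent.L28.HomElt
import Groth.Agent.L28.TorFacts

set_option autoImplicit false
universe u
open CategoryTheory CategoryTheory.Limits
open CAlg

open CategoryTheory CategoryTheory.Limits MonoidalCategory TensorProduct

namespace Groth.Agent.S8597

/-- Case of modules placed in degree 0: let A be a commutative Noetherian ring and u : M -> N a
homomorphism of A-modules such that for every prime ideal x of A, with residue field k(x), and every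
i ≥ 0, the induced map Tor_i^A(k(x), M) -> Tor_i^A(k(x), N) (left derived functors of k(x) ⊗ -) is
an isomorphism. Then u is an isomorphism. (The published statement is for a morphism of
bounded-above complexes and the derived tensor products with k(x); this is the case of two modules.) -/
theorem result (A : Type u) [CommRing A] [IsNoetherianRing A]
    {M N : ModuleCat.{u} A} (u : M ⟶ N)
    (h : ∀ (x : Ideal A) [x.IsPrime] (i : ℕ),
      IsIso (((Tor (ModuleCat.{u} A) i).obj (ModuleCat.of A x.ResidueField)).map u)) :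
    IsIso u := by
  let P := projectiveResolution M
  let Q := projectiveResolution N
  let φ := ProjectiveResolution.lift u P Q
  let X : ℕ → ModuleCat.{u} A := P.complex.X
  let Y : ℕ → ModuleCat.{u} A := Q.complex.X
  let dX : ∀ j, X (j + 1) →ₗ[A] X j := fun j => (P.complex.d (j + 1) j).hom
  let dY : ∀ j, Y (j + 1) →ₗ[A] Y j := fun j => (Q.complex.d (j + 1) j).hom
  let f : ∀ j, X j →ₗ[A] Y j := fun j => (φ.f j).hom
  have hX : ∀ j x, dX j (dX (j + 1) x) = 0 := fun j x => by
    show ((P.complex.d (j + 1) j).hom ∘ₗ (P.complex.d (j + 1 + 1) (j + 1)).hom) x = 0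
    rw [← ModuleCat.hom_comp, P.complex.d_comp_d]; rfl
  have hY : ∀ j x, dY j (dY (j + 1) x) = 0 := fun j x => by
    show ((Q.complex.d (j + 1) j).hom ∘ₗ (Q.complex.d (j + 1 + 1) (j + 1)).hom) x = 0
    rw [← ModuleCat.hom_comp, Q.complex.d_comp_d]; rfl
  have hf : ∀ j x, f j (dX j x) = dY j (f (j + 1) x) := fun j x =>
    (ConcreteCategory.congr_hom (φ.comm (j + 1) j) x).symm
  haveI hflatP : ∀ j, Module.Flat A (X j) := (Groth.L28.Balance.isRes_projectiveResolution P).flat
  haveI hflatQ : ∀ j, Module.Flat A (Y j) := (Groth.L28.Balance.isRes_projectiveResolution Q).flat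
  haveI := Groth.L03.TorCone.flat X Y
  have hex : ∀ (p : Ideal A) [p.IsPrime], Groth.L03.TorResidue.Ex (Groth.L03.TorCone.d X Y dX dY f) 0 p.ResidueField := by
    intro p _
    let F := (tensoringLeft _).obj (ModuleCat.of A p.ResidueField)
    let ψ := (F.mapHomologicalComplex (ComplexShape.down ℕ)).map φ
    have hψ : ∀ i, Function.Bijective (HomologicalComplex.homologyMap ψ i) := by
      intro i
      rw [← Groth.L28.HomElt.isIso_homologyMap_iff]
      have hnat := ProjectiveResolution.isoLeftDerivedObj_hom_naturality u P Q φ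
        (ProjectiveResolution.lift_commutes_zero u P Q) F i
      haveI : IsIso ((F.leftDerived i).map u) := h p i
      haveI : IsIso ((P.isoLeftDerivedObj F i).hom ≫ HomologicalComplex.homologyMap ψ i) := by
        have : IsIso ((F.leftDerived i).map u ≫ (Q.isoLeftDerivedObj F i).hom) := inferInstance
        rw [hnat] at this; exact this
      exact IsIso.of_isIso_comp_left (P.isoLeftDerivedObj F i).hom _
    refine Groth.L03.TorCone.ex X Y dX dY f hf p.ResidueField ⟨fun z => ?_, fun j z hz => ?_⟩ fun j q w hq he => ?_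
    · obtain ⟨x, w, -, he⟩ := (Groth.L28.HomElt.surjective_homologyMap_iff ψ (i := 0 + 1) (k := 0)
        ((ComplexShape.down ℕ).prev_eq' rfl) ChainComplex.next_nat_zero).mp (hψ 0).2 z
        (by rw [HomologicalComplex.shape _ 0 0 (by simp)]; rfl)
      exact ⟨x, w, he⟩
    · exact (Groth.L28.HomElt.surjective_homologyMap_iff ψ (i := j + 1 + 1) (k := j)
        ((ComplexShape.down ℕ).prev_eq' rfl) ((ComplexShape.down ℕ).next_eq' rfl)).mp (hψ (j + 1)).2 z hz
    · cases j with
      | zero =>
        exact (Groth.L28.HomElt.injective_homologyMap_iff ψ (i := 0 + 1) (k := 0)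
          ((ComplexShape.down ℕ).prev_eq' rfl) ChainComplex.next_nat_zero).mp (hψ 0).1 q w
          (by rw [HomologicalComplex.shape _ 0 0 (by simp)]; rfl) he
      | succ l =>
        exact (Groth.L28.HomElt.injective_homologyMap_iff ψ (i := l + 1 + 1) (k := l)
          ((ComplexShape.down ℕ).prev_eq' rfl) ((ComplexShape.down ℕ).next_eq' rfl)).mp (hψ (l + 1)).1 q w hq he
  have hd := Groth.L03.TorCone.dd X Y dX dY f hX hY hf
  have hA := Groth.L03.TorResidue.ex_of_residue _ hd hex A
  have hexact : ∀ i (z : Groth.L03.TorCone.obj X Y (i + 1)), Groth.L03.TorCone.d X Y dX dY f i z = 0 →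
      ∃ w, Groth.L03.TorCone.d X Y dX dY f (i + 1) w = z := by
    intro i z hz
    obtain ⟨w, hw⟩ := hA i (Nat.zero_le _) (1 ⊗ₜ z) (by rw [LinearMap.lTensor_tmul, hz, tmul_zero])
    refine ⟨TensorProduct.lid A _ w, ?_⟩
    have : ∀ w, Groth.L03.TorCone.d X Y dX dY f (i + 1) (TensorProduct.lid A _ w) =
        TensorProduct.lid A _ ((Groth.L03.TorCone.d X Y dX dY f (i + 1)).lTensor A w) := by
      intro w
      induction w with
      | zero => simp
      | tmul a b => simp
      | add a b ha hb => simp [ha, hb]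
    rw [this, hw]; simp
  have hεP : Function.Surjective (P.π.f 0) := (ModuleCat.epi_iff_surjective _).mp inferInstance
  have hεQ : Function.Surjective (Q.π.f 0) := (ModuleCat.epi_iff_surjective _).mp inferInstance
  have hcomm : ∀ x, Q.π.f 0 (φ.f 0 x) = u (P.π.f 0 x) := fun x =>
    ConcreteCategory.congr_hom (ProjectiveResolution.lift_commutes_zero u P Q) x
  have hQd : ∀ x, Q.π.f 0 (Q.complex.d 1 0 x) = 0 := fun x => by
    rw [← ConcreteCategory.comp_apply, Q.complex_d_comp_π_f_zero]; rfl
  have hPd : ∀ x, P.π.f 0 (P.complex.d 1 0 x) = 0 := fun x => by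
    rw [← ConcreteCategory.comp_apply, P.complex_d_comp_π_f_zero]; rfl
  refine (ConcreteCategory.isIso_iff_bijective u).mpr ⟨?_, ?_⟩
  · rw [injective_iff_map_eq_zero]
    intro m hm
    obtain ⟨x, rfl⟩ := hεP m
    have h0 : Q.π.f 0 (φ.f 0 x) = 0 := (hcomm x).trans hm
    obtain ⟨y, hy⟩ := (ShortComplex.moduleCat_exact_iff _).mp Q.exact₀ _ h0
    obtain ⟨w, hw⟩ := hexact 1 (x, -y) (by
      show (φ.f 0).hom x + (Q.complex.d 1 0).hom (-y) = 0
      rw [map_neg]; exact add_neg_eq_zero.mpr hy.symm)
    have h1 : -(P.complex.d 1 0).hom w.1 = x := congrArg Prod.fst hw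
    rw [← h1, map_neg]
    exact neg_eq_zero.mpr (hPd _)
  · intro n
    obtain ⟨y, rfl⟩ := hεQ n
    obtain ⟨w, hw⟩ := hexact 0 y rfl
    refine ⟨P.π.f 0 w.1, ?_⟩
    have hw' : (φ.f 0).hom w.1 + (Q.complex.d 1 0).hom w.2 = y := hw
    rw [← hcomm, ← hw', map_add]
    exact (add_eq_left.mpr (hQd _)).symm

end Groth.Agent.S8597
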