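import Groth.Statements.S8598
import Groth.Agent.L27.EtSite.Points
import Groth.Agent.L28.EtTor.Basic
import Mathlib.CategoryTheory.Adjunction.FullyFaithful
import Mathlib.AlgebraicGeometry.PullbackCarrier

set_option autoImplicit false
universe u
open CategoryTheory CategoryTheory.Limits AlgebraicGeometry Opposite
open EtDl

namespace Groth.Agent.S8598

set_option backward.isDefEq.respectTransparency.types false in
open CategoryTheory Limits AlgebraicGeometry Opposite in
theorem faithful_restrAlong {X Y : Scheme.{u}} (u : X ⟶ Y) [Etale u] [Surjective u] [EtShriek.JCont u] :
    (EtShriek.restrAlong u).Faithful where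
  map_injective {F G} a b hab := by
    ext ⟨V⟩ s
    let W : X.Etale := Scheme.Etale.mk (pullback.snd V.hom u)
    let c : (EtShriek.compEtale u).obj W ⟶ V := MorphismProperty.Over.homMk (pullback.fst V.hom u)
      pullback.condition trivial
    refine Groth.L28.EtTor.sect_ext (R := Sieve.generate (Presieve.singleton c))
      ((Groth.L27.EtSite.mem_topology_iff _).2 fun x => ?_) ?_
    · obtain ⟨y, hy⟩ := u.surjective (V.hom x)
      obtain ⟨z, hz, -⟩ := Scheme.Pullback.exists_preimage_pullback (f := V.hom) (g := u) x y hy.symm
      exact ⟨_, c, z, Sieve.le_generate _ _ _ (Presieve.singleton_self c), hz⟩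
    · rintro Z g ⟨_, h, _, ⟨⟩, rfl⟩
      rw [op_comp, Functor.map_comp, CategoryTheory.comp_apply, CategoryTheory.comp_apply]
      refine congrArg (G.obj.map h.op) ?_
      rw [← NatTrans.naturality_apply a.hom, ← NatTrans.naturality_apply b.hom]
      exact ConcreteCategory.congr_hom
        (congrArg (fun k : (EtShriek.restrAlong u).obj F ⟶ (EtShriek.restrAlong u).obj G => k.hom.app (op W)) hab)
        (F.obj.map c.op s)

/-- Let u : X -> Y be an etale, separated morphism of finite type that is surjective, and F an abelian
sheaf on Y_et. The sheaves F_n = (u_n)_! u_n^* F built from the iterated fibre powers of X over Y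
form a left resolution of F; in particular (the part stated here) the augmentation u_! u^* F -> F,
which is the counit of the adjunction between extension by zero u_! and restriction u^*, is an
epimorphism. (The continuity of V ↦ (V -> X -> Y) between the small etale sites is carried as an
instance hypothesis, the prelude's convention for extension by zero along an etale morphism.) -/
theorem result {X Y : Scheme.{u}} (u : X ⟶ Y) [Etale u] [IsSeparated u]
    [LocallyOfFiniteType u] [QuasiCompact u] [Surjective u] [EtShriek.JCont u] (F : EtCoh.Ab Y) :
    Epi ((EtShriek.extZeroAdj u).counit.app F) := by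
  haveI := faithful_restrAlong u
  exact Adjunction.counit_epi_of_R_faithful (EtShriek.extZeroAdj u) F

end Groth.Agent.S8598
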