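import Groth.Statements.S8604
import Groth.Agent.L28.QLinear
import Mathlib.FieldTheory.Finite.Basic

set_option autoImplicit false
universe u
open CAlg

namespace Groth.Agent.S8604

/-- Over an algebraically closed field: let k be an algebraically closed field of characteristic p > 0,
V a finite-dimensional k-vector space and F : V -> V a p-linear endomorphism (additive with F(a·v) =
a^p·F(v)). Let V^F be the set of vectors fixed by F (an F_p-subspace), V_0 the k-span of V^F and V_n
the k-span of the vectors killed by some iterate of F (these already form an F-stable subspace on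
which F is nilpotent). Then V = V_0 ⊕ V_n, and V^F ⊗ k -> V_0 is bijective in the sense that any
finitely many F-fixed vectors linearly independent over Z/p (every vanishing integer combination has
all coefficients divisible by p) are linearly independent over k. (The published statement asserts
this decomposition, with V^F ⊗ k ≅ V_0, for every PERFECT field k; that is false when k is not
separably closed — for k = Z/3, V = k and F = multiplication by 2 there are no nonzero fixed vectors
although F is bijective — and the decomposition is stated here over an algebraically closed field,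
the case in which it holds.) -/
theorem result (p : ℕ) [Fact p.Prime] (k : Type u) [Field k]
    [IsAlgClosed k] [CharP k p] (V : Type u) [AddCommGroup V] [Module k V] [FiniteDimensional k V]
    (F : V →+ V) (hF : ∀ (a : k) (v : V), F (a • v) = a ^ p • F v) :
    IsCompl (Submodule.span k {v : V | F v = v})
        (Submodule.span k {v : V | ∃ m : ℕ, (⇑F)^[m] v = 0}) ∧
      ∀ (s : Finset V), (∀ v ∈ s, F v = v) →
        (∀ c : s → ℤ, (∑ v : s, c v • (v : V)) = 0 → ∀ v : s, (p : ℤ) ∣ c v) →
          LinearIndependent k (fun v : s => (v : V)) := by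
  classical
  let φ : V →ₛₗ[iterateFrobenius k p 1] V :=
    { toFun := F
      map_add' := map_add F
      map_smul' := fun a v => by
        rw [hF, iterateFrobenius_def, pow_one] }
  have hφ : ∀ v, φ v = F v := fun v => rfl
  have hit : ∀ (m : ℕ) (v : V), φ^[m] v = (⇑F)^[m] v := fun m v => rfl
  have hfix : Submodule.span k {v : V | F v = v} = Groth.L28.QLinear.fixSpan φ := rfl
  obtain ⟨b, hb⟩ := Groth.L28.QLinear.exists_basis_fixSpan φ
  obtain ⟨N, hN⟩ := Groth.L28.QLinear.exists_iterate_mem_fixSpan (k := k) Nat.one_pos φ
  have hsum : ∀ (m : ℕ) (c : Fin (Module.finrank k (Groth.L28.QLinear.fixSpan φ)) → k),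
      φ^[m] (∑ i, c i • (b i : V)) = ∑ i, c i ^ (p ^ m) • (b i : V) := by
    intro m c
    rw [Groth.L28.QLinear.iterate_sum']
    refine Finset.sum_congr rfl fun i _ => ?_
    rw [Groth.L28.QLinear.iterate_smul, pow_one, Function.iterate_fixed (hb i) m]
  refine ⟨?_, ?_⟩
  · let Vn : Submodule k V :=
      { carrier := {v : V | ∃ m : ℕ, (⇑F)^[m] v = 0}
        zero_mem' := ⟨0, rfl⟩
        add_mem' := by
          rintro x y ⟨m, hm⟩ ⟨m', hm'⟩
          refine ⟨m' + m, ?_⟩
          rw [← hit, Groth.L28.QLinear.iterate_add', hit, hit]
          rw [show (⇑F)^[m' + m] x = (⇑F)^[m'] ((⇑F)^[m] x) from Function.iterate_add_apply _ _ _ x,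
            hm, show (⇑F)^[m' + m] y = (⇑F)^[m] ((⇑F)^[m'] y) by rw [add_comm, Function.iterate_add_apply],
            hm', ← hit, ← hit, Groth.L28.QLinear.iterate_zero', Groth.L28.QLinear.iterate_zero', add_zero]
        smul_mem' := by
          rintro c x ⟨m, hm⟩
          exact ⟨m, by rw [← hit, Groth.L28.QLinear.iterate_smul, hit, hm, smul_zero]⟩ }
    have hVn : Submodule.span k {v : V | ∃ m : ℕ, (⇑F)^[m] v = 0} = Vn := Submodule.span_eq Vn
    rw [hVn, hfix]
    refine ⟨?_, ?_⟩
    · rw [Submodule.disjoint_def]
      rintro x hx ⟨m, hm⟩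
      have hx' : x = ∑ i, b.repr ⟨x, hx⟩ i • (b i : V) := by
        have := congrArg Subtype.val (b.sum_repr ⟨x, hx⟩)
        rw [Submodule.coe_sum] at this
        exact this.symm
      rw [hx', ← hit, hsum] at hm
      have h0 : ∀ i, b.repr ⟨x, hx⟩ i ^ p ^ m = 0 := by
        have h1 : (∑ i, b.repr ⟨x, hx⟩ i ^ p ^ m • b i) = (0 : Groth.L28.QLinear.fixSpan φ) := by
          apply Subtype.ext
          rw [Submodule.coe_sum]
          exact hm
        exact Fintype.linearIndependent_iff.1 b.linearIndependent _ h1
      rw [hx']
      refine Finset.sum_eq_zero fun i _ => ?_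
      rw [eq_zero_of_pow_eq_zero (h0 i), zero_smul]
    · rw [codisjoint_iff, eq_top_iff]
      intro v _
      have hv : φ^[N] v ∈ Groth.L28.QLinear.fixSpan φ := by
        rw [← hN N le_rfl]; exact Submodule.subset_span ⟨v, rfl⟩
      choose d hd using fun i => IsAlgClosed.exists_pow_nat_eq (b.repr ⟨_, hv⟩ i)
        (pow_pos (Fact.out : p.Prime).pos N)
      let w := ∑ i, d i • (b i : V)
      have hw : w ∈ Groth.L28.QLinear.fixSpan φ :=
        Submodule.sum_mem _ fun i _ => Submodule.smul_mem _ _ (b i).2
      have hwN : φ^[N] w = φ^[N] v := by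
        rw [hsum]
        simp only [hd]
        have := congrArg Subtype.val (b.sum_repr ⟨_, hv⟩)
        rw [Submodule.coe_sum] at this
        exact this
      rw [← add_sub_cancel w v]
      refine Submodule.add_mem_sup hw ⟨N, ?_⟩
      rw [← hit, sub_eq_add_neg, ← neg_one_smul k w, Groth.L28.QLinear.iterate_add',
        Groth.L28.QLinear.iterate_smul, hwN, pow_one, neg_one_pow_expChar_pow, neg_one_smul, add_neg_cancel]
  · intro s
    induction s using Finset.induction with
    | empty => intro _ _; exact linearIndependent_empty_type
    | @insert a s has ih =>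
      intro hs hZ
      have hli := ih (fun v hv => hs v (Finset.mem_insert_of_mem hv)) (fun c hc v => by
        let c' : ↥(insert a s) → ℤ := fun w => if h : (w : V) ∈ s then c ⟨w, h⟩ else 0
        have := hZ c' (by
          rw [← hc]
          have h2 : ∀ g : V → V, ∑ w : ↥(insert a s), g w = ∑ w ∈ insert a s, g w :=
            fun g => Finset.sum_coe_sort _ g
          let g : V → V := fun w => if h : w ∈ s then c ⟨w, h⟩ • w else 0
          have h3 : ∀ w : ↥(insert a s), c' w • (w : V) = g w := fun w => by
            simp only [c', g]; split_ifs <;> simp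
          rw [Finset.sum_congr rfl fun w _ => h3 w, h2, Finset.sum_insert has, ← Finset.sum_coe_sort]
          simp [g, has]) ⟨v, Finset.mem_insert_of_mem v.2⟩
        simpa [c', v.2] using this)
      change LinearIndepOn k id (↑(insert a s) : Set V)
      rw [Finset.coe_insert]
      refine LinearIndepOn.id_insert (show LinearIndepOn k id (s : Set V) from hli) fun hmem => ?_
      rw [Submodule.mem_span_finset] at hmem
      obtain ⟨c, -, hca⟩ := hmem
      have hcp : ∀ v ∈ s, c v ^ p = c v := by
        have h1 : ∑ v ∈ s, c v ^ p • v = a := by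
          conv_rhs => rw [← hs a (Finset.mem_insert_self a s), ← hca, map_sum]
          exact Finset.sum_congr rfl fun v hv => by rw [hF, hs v (Finset.mem_insert_of_mem hv)]
        have h2 : ∑ v : s, (c v ^ p - c v) • (v : V) = 0 := by
          rw [Finset.sum_coe_sort s (fun v => (c v ^ p - c v) • v)]
          simp only [sub_smul, Finset.sum_sub_distrib, h1, hca, sub_self]
        intro v hv
        exact sub_eq_zero.1 (Fintype.linearIndependent_iff.1 hli _ h2 ⟨v, hv⟩)
      have hint : ∀ v ∈ s, ∃ z : ℤ, (z : k) = c v := by
        intro v hv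
        have := (Subfield.mem_bot_iff_pow_eq_self k p).2 (hcp v hv)
        rw [← ZMod.fieldRange_castHom_eq_bot p, RingHom.mem_fieldRange] at this
        obtain ⟨y, hy⟩ := this
        obtain ⟨m, rfl⟩ := ZMod.intCast_surjective y
        exact ⟨m, by rw [← hy, map_intCast]⟩
      choose z hz using hint
      let c' : ↥(insert a s) → ℤ := fun w => if h : (w : V) ∈ s then z w h else -1
      have := hZ c' (by
        let g : V → V := fun w => if h : w ∈ s then (z w h : k) • w else -w
        have h3 : ∀ w : ↥(insert a s), c' w • (w : V) = g w := fun w => by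
          simp only [c', g]; split_ifs <;> simp [← Int.cast_smul_eq_zsmul k]
        rw [Finset.sum_congr rfl fun w _ => h3 w, Finset.sum_coe_sort (insert a s) g, Finset.sum_insert has]
        have h4 : ∑ w ∈ s, g w = a := by
          rw [← hca]
          exact Finset.sum_congr rfl fun w hw => by simp [g, hw, hz w hw]
        rw [h4]
        simp [g, has]) ⟨a, Finset.mem_insert_self a s⟩
      simp only [c', has, dite_false, dvd_neg] at this
      exact (Fact.out : p.Prime).ne_one (Nat.cast_injective (R := ℤ) (Int.eq_one_of_dvd_one (by positivity) this))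

end Groth.Agent.S8604
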