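import Groth.Statements.S8605
import Groth.Agent.L27.PBC.ProperCd
import Groth.Agent.L27.ExtZero.ToShriek
import Groth.Agent.L27.PBC.ModSquare

set_option autoImplicit false
set_option linter.style.haveILetI false
set_option backward.isDefEq.respectTransparency.types false
universe u
open CategoryTheory CategoryTheory.Limits AlgebraicGeometry Opposite
open EtDl

namespace Groth.Agent.S8605

/-- Let f : X -> S be a morphism of quasi-compact quasi-separated schemes with a compactification c (f =
j followed by the proper fbar), all of whose fibres have dimension at most d. Then the functor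
R^{2d} f_!, computed through c as F ↦ R^{2d} fbar_* (j_! F), is right exact on torsion abelian
sheaves; stated here as: for every epimorphism φ : F -> G of torsion abelian sheaves on X_et, the
map R^{2d} fbar_*(j_! φ) is an epimorphism. (The published statement also asserts that R^i f_! F
vanishes for i > 2d.) -/
theorem result {X S : Scheme.{u}} [CompactSpace ↥X] [QuasiSeparatedSpace ↥X]
    [CompactSpace ↥S] [QuasiSeparatedSpace ↥S]
    {f : X ⟶ S} (c : DEt.Compactification f) (d : ℕ)
    (hdim : ∀ s : S, topologicalKrullDim ↥(f.fiber s) ≤ d)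
    {F G : EtCoh.Ab X} (hF : EtCoh.IsTorsion F) (hG : EtCoh.IsTorsion G) (φ : F ⟶ G) [Epi φ] :
    Epi ((EtCoh.Rpush c.fbar (2 * d)).map ((EtShriek.extZero c.j).map φ)) := by
  haveI := HasDerivedCategory.standard (EtCoh.Ab c.Xbar)
  haveI : PreservesFiniteLimits (EtCoh.push c.fbar) := by
    haveI : PreservesLimitsOfSize.{0, 0} (EtCoh.push c.fbar) := (EtCoh.pullPushAdj c.fbar).rightAdjoint_preservesLimits
    exact PreservesLimitsOfSize.preservesFiniteLimits _
  haveI := Groth.L27.ExtZero.jCont c.j
  haveI : PreservesFiniteLimits (EtShriek.extZero c.j) :=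
    haveI := Groth.L27.Supp.preservesFiniteLimits_lowerShriek c.j
    preservesFiniteLimits_of_natIso (Groth.L27.ExtZero.shriekIso c.j).symm
  let E : ShortComplex (EtCoh.Ab X) := ShortComplex.mk (kernel.ι φ) φ (kernel.condition φ)
  have hE : E.ShortExact :=
    { exact := ShortComplex.exact_of_f_is_kernel _ (kernelIsKernel φ) }
  have hK : EtCoh.IsTorsion E.X₁ := Groth.L27.ModSquare.isTorsion_of_mono (kernel.ι φ) hF
  have hz : IsZero ((EtCoh.Rpush c.fbar (2 * d + 1)).obj ((EtShriek.extZero c.j).obj E.X₁)) :=
    (Groth.L27.PBC.isZero_Rpush_shriek_dim c.j c.fbar d (fun s => c.fac.symm ▸ hdim s) E.X₁ hK (2 * d + 1) (by omega)).of_iso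
      ((EtCoh.Rpush c.fbar (2 * d + 1)).mapIso ((Groth.L27.ExtZero.shriekIso c.j).app E.X₁))
  exact Groth.L00.RDerLES.epi_map_g (S := EtCoh.push c.fbar) (hE.map_of_exact (EtShriek.extZero c.j)) (2 * d) hz

end Groth.Agent.S8605
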