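import Groth.Statements.S8607
import Mathlib.AlgebraicGeometry.Morphisms.Immersion
import Mathlib.AlgebraicGeometry.Morphisms.Proper

set_option autoImplicit false
universe u
open CategoryTheory CategoryTheory.Limits AlgebraicGeometry Opposite
open DEt

namespace Groth.Agent.S8607

/-- The equalizing half of 'the category of compactifications of f is cofiltering': let f : X -> Y be a
morphism of quasi-compact quasi-separated schemes, (Xbar_1, j_1, fbar_1) and (Xbar_2, j_2, fbar_2)
two compactifications of f, and r, s : Xbar_1 -> Xbar_2 two morphisms of compactifications (r ∘ j_1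
= j_2 = s ∘ j_1 and fbar_2 ∘ r = fbar_1 = fbar_2 ∘ s). Then there are a compactification (Xbar, j,
fbar) of f and a proper morphism t : Xbar -> Xbar_1 of compactifications (t ∘ j = j_1, fbar_1 ∘ t =
fbar) with r ∘ t = s ∘ t. -/
theorem result {X Y : Scheme.{u}} [CompactSpace ↥X] [QuasiSeparatedSpace ↥X]
    [CompactSpace ↥Y] [QuasiSeparatedSpace ↥Y] {f : X ⟶ Y} (c₁ c₂ : DEt.Compactification f)
    (r s : c₁.Xbar ⟶ c₂.Xbar) (hr : c₁.j ≫ r = c₂.j) (hs : c₁.j ≫ s = c₂.j)
    (hr' : r ≫ c₂.fbar = c₁.fbar) (hs' : s ≫ c₂.fbar = c₁.fbar) :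
    ∃ (c : DEt.Compactification f) (t : c.Xbar ⟶ c₁.Xbar), IsProper t ∧ c.j ≫ t = c₁.j ∧ t ≫ c₁.fbar = c.fbar ∧
      t ≫ r = t ≫ s := by
  let E := pullback (pullback.lift r s (hr'.trans hs'.symm)) (pullback.diagonal c₂.fbar)
  let ι : E ⟶ c₁.Xbar := pullback.fst _ _
  haveI : IsClosedImmersion ι := MorphismProperty.pullback_fst _ _ inferInstance
  have heq : ι ≫ r = ι ≫ s := by
    have h := pullback.condition (f := pullback.lift r s (hr'.trans hs'.symm)) (g := pullback.diagonal c₂.fbar)
    have a1 := congrArg (· ≫ pullback.fst c₂.fbar c₂.fbar) h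
    have a2 := congrArg (· ≫ pullback.snd c₂.fbar c₂.fbar) h
    simp only [Category.assoc, pullback.lift_fst, pullback.lift_snd, pullback.diagonal_fst, pullback.diagonal_snd,
      Category.comp_id] at a1 a2
    exact a1.trans a2.symm
  let jj : X ⟶ E := pullback.lift c₁.j c₂.j (by
    apply pullback.hom_ext
    · rw [Category.assoc, Category.assoc, pullback.diagonal_fst, Category.comp_id, pullback.lift_fst, hr]
    · rw [Category.assoc, Category.assoc, pullback.diagonal_snd, Category.comp_id, pullback.lift_snd, hs])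
  have hjj : jj ≫ ι = c₁.j := pullback.lift_fst _ _ _
  have hsq : IsPullback (𝟙 X) jj c₁.j ι :=
    ⟨⟨(Category.id_comp _).trans hjj.symm⟩, ⟨PullbackCone.IsLimit.mk _ (fun t => t.fst) (fun t => Category.comp_id _)
      (fun t => by rw [← cancel_mono ι, Category.assoc, hjj, t.condition])
      (fun t m h _ => by rw [← h, Category.comp_id])⟩⟩
  haveI : IsOpenImmersion jj := MorphismProperty.of_isPullback hsq inferInstance
  let c : DEt.Compactification f :=
    { Xbar := E
      j := jj
      fbar := ι ≫ c₁.fbar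
      isOpenImmersion := inferInstance
      isProper := inferInstance
      fac := by rw [← Category.assoc, hjj, c₁.fac] }
  exact ⟨c, ι, inferInstance, hjj, rfl, heq⟩
end Groth.Agent.S8607
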