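import Groth.Statements.S8610
import Groth.Agent.L27.PBC.ShriekRpush
import Groth.Agent.L27.ExtZero.ToShriek

set_option linter.style.haveILetI false
set_option backward.isDefEq.respectTransparency.types false

set_option autoImplicit false
universe u
open CategoryTheory CategoryTheory.Limits AlgebraicGeometry
open SGA4h

namespace Groth.Agent.S8610

/-- Base change along the identity is the identity on the small étale site. -/
noncomputable def bcIdIso (X : Scheme.{u}) : EtCoh.bc (𝟙 X) ≅ 𝟭 X.Etale :=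
  NatIso.ofComponents
    (fun U =>
      let h : U.left ⟶ X := U.hom
      haveI : IsIso (pullback.fst h (𝟙 X)) := (IsPullback.of_hasPullback h (𝟙 X)).isIso_fst_of_isIso
      MorphismProperty.Over.isoMk (@asIso _ _ _ _ (pullback.fst h (𝟙 X)) (IsPullback.of_hasPullback h (𝟙 X)).isIso_fst_of_isIso)
        ((pullback.condition (f := h) (g := 𝟙 X)).trans (Category.comp_id _)))
    (fun {U V} φ => by
      apply MorphismProperty.Over.Hom.ext
      exact pullback.lift_fst _ _ _)

noncomputable def pushIdIso (X : Scheme.{u}) : EtCoh.push (𝟙 X) ≅ 𝟭 (EtCoh.Ab X) :=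
  Functor.sheafPushforwardContinuousId' (bcIdIso X) AddCommGrpCat.{u + 1} X.smallEtaleTopology

theorem isZero_rightDerived_succ_of_iso_id {C : Type*} [Category C] [Abelian C] [EnoughInjectives C]
    [HasInjectiveResolutions C] (F : C ⥤ C) [F.Additive] (e : F ≅ 𝟭 C) (X : C) (q : ℕ) :
    IsZero ((F.rightDerived (q + 1)).obj X) := by
  let I := injectiveResolution X
  refine IsZero.of_iso ?_ (I.isoRightDerivedObj F (q + 1))
  let θ : (F.mapHomologicalComplex _).obj I.cocomplex ≅ I.cocomplex :=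
    HomologicalComplex.Hom.isoOfComponents (fun n => e.app (I.cocomplex.X n))
      (fun i j _ => (e.hom.naturality (I.cocomplex.d i j)).symm)
  exact IsZero.of_iso (I.cocomplex_exactAt_succ q).isZero_homology
    ((HomologicalComplex.homologyFunctor C _ (q + 1)).mapIso θ)

/-- Let j₁ : X → P₁ and j₂ : X → P₂ be open immersions of quasi-compact quasi-separated schemes and p :
P₂ → P₁ a proper morphism with p ∘ j₂ = j₁ such that the square is cartesian (X = P₂ ×_{P₁} X, i.e.
p⁻¹(j₁ X) = j₂ X). For every torsion abelian etale sheaf F on X, p_*(j₂! F) is isomorphic to j₁! F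
(existence of an isomorphism only) and R^q p_*(j₂! F) = 0 for q > 0. (The published statement is for
two compactifications of X compared by p; its argument uses that p is an isomorphism above X, which
is the cartesian hypothesis made explicit here.) -/
theorem result {X P₁ P₂ : Scheme.{u}}
    [CompactSpace ↥P₁] [QuasiSeparatedSpace ↥P₁] [CompactSpace ↥P₂] [QuasiSeparatedSpace ↥P₂]
    [CompactSpace ↥X]
    (j₁ : X ⟶ P₁) (j₂ : X ⟶ P₂) [IsOpenImmersion j₁] [IsOpenImmersion j₂] (p : P₂ ⟶ P₁) [IsProper p]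
    (hsq : IsPullback (𝟙 X) j₂ j₁ p) (F : EtCoh.Ab X) (hF : EtCoh.IsTorsion F) :
    Nonempty ((EtCoh.push p).obj ((EtShriek.extZero j₂).obj F) ≅ (EtShriek.extZero j₁).obj F) ∧
      ∀ q : ℕ, 0 < q → IsZero ((EtCoh.Rpush p q).obj ((EtShriek.extZero j₂).obj F)) := by
  haveI : IsProper (𝟙 X) := inferInstance
  have w : j₂ ≫ p = 𝟙 X ≫ j₁ := hsq.w.symm
  have hiso := fun q => Groth.L27.PBC.nonempty_lowerShriek_Rpush p j₁ (𝟙 X) j₂ w F hF q
  haveI : PreservesFiniteLimits (EtCoh.push p) := by
    haveI : PreservesLimitsOfSize.{0, 0} (EtCoh.push p) := (EtCoh.pullPushAdj p).rightAdjoint_preservesLimits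
    exact PreservesLimitsOfSize.preservesFiniteLimits _
  haveI : PreservesFiniteLimits (EtCoh.push (𝟙 X)) := by
    haveI : PreservesLimitsOfSize.{0, 0} (EtCoh.push (𝟙 X)) := (EtCoh.pullPushAdj (𝟙 X)).rightAdjoint_preservesLimits
    exact PreservesLimitsOfSize.preservesFiniteLimits _
  haveI := Groth.L27.Lqf.isLeftAdjoint_lowerShriek j₁
  refine ⟨?_, fun q hq => ?_⟩
  · obtain ⟨e⟩ := hiso 0
    exact ⟨((EtCoh.push p).mapIso ((Groth.L27.ExtZero.shriekIso j₂).app F)) ≪≫
      (((EtCoh.push p).rightDerivedZeroIsoSelf).app _).symm ≪≫ e.symm ≪≫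
      (EtShriek.lowerShriek j₁).mapIso (((EtCoh.push (𝟙 X)).rightDerivedZeroIsoSelf).app F ≪≫
        (pushIdIso X).app F) ≪≫ ((Groth.L27.ExtZero.shriekIso j₁).app F).symm⟩
  · obtain ⟨q, rfl⟩ := Nat.exists_eq_succ_of_ne_zero (by omega : q ≠ 0)
    obtain ⟨e⟩ := hiso (q + 1)
    refine IsZero.of_iso ?_ ((EtCoh.Rpush p (q + 1)).mapIso ((Groth.L27.ExtZero.shriekIso j₂).app F) ≪≫ e.symm)
    exact (EtShriek.lowerShriek j₁).map_isZero (isZero_rightDerived_succ_of_iso_id _ (pushIdIso X) F q)

end Groth.Agent.S8610
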