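import Groth.Statements.S8615
import Groth.Agent.S6641

set_option autoImplicit false
set_option backward.isDefEq.respectTransparency.types false
set_option linter.style.haveILetI false
universe u
open CategoryTheory CategoryTheory.Limits AlgebraicGeometry
open SGA4h

namespace Groth.Agent.S8615

/-- Let k be an algebraically closed field and X a connected smooth proper curve over k. For the family,
indexed by the closed points x of X, of direct images i_{x*} ℤ of the constant sheaf ℤ along i_x :
Spec κ(x) → X, any coproduct (given as a colimit cofan) has vanishing etale cohomology in every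
degree q > 0. -/
theorem result {k : Type u} [Field k] [IsAlgClosed k]
    {X : Scheme.{u}} (f : X ⟶ Spec (CommRingCat.of k)) [IsProper f] [SmoothOfRelativeDimension 1 f]
    [ConnectedSpace ↥X]
    (c : Cofan fun x : {x : X // IsClosed ({x} : Set X)} =>
      (EtCoh.push (X.fromSpecResidueField x.1)).obj (EtCoh.const (Spec (X.residueField x.1)) ℤ))
    (hc : IsColimit c) (q : ℕ) (hq : 0 < q) :
    Subsingleton (EtCoh.H X c.pt q) := by
  obtain ⟨i, rfl⟩ : ∃ i, q = i + 1 := ⟨q - 1, by omega⟩
  haveI : LocallyOfFiniteType f := inferInstance
  haveI : CompactSpace ↥X := QuasiCompact.compactSpace_of_compactSpace f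
  haveI : QuasiSeparatedSpace ↥X := quasiSeparatedSpace_of_quasiSeparated f
  haveI : JacobsonSpace ↥X := LocallyOfFiniteType.jacobsonSpace f
  refine Groth.Agent.S6641.subsingleton_coprod X _ (i + 1) (fun x => ?_) c hc
  haveI : IsClosedImmersion (X.fromSpecResidueField x.1) :=
    isClosed_singleton_iff_isClosedImmersion.1 x.2
  haveI := Groth.L27.EtSite.preservesFiniteLimits_pull (X.fromSpecResidueField x.1)
  haveI := Groth.L27.EtSite.propB_of_isIntegralHom (X.fromSpecResidueField x.1)
  haveI : IsAlgClosed (X.residueField x.1) :=
    IsAlgClosed.of_ringEquiv _ _ (residueFieldIsoBase f x.1 x.2).commRingCatIsoToRingEquiv.symm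
  haveI := Groth.Agent.S6641.subsingleton_H_algClosed (X.residueField x.1) (EtCoh.const _ ℤ) i
  exact (Groth.L27.EtSite.bijective_HofPush (X.fromSpecResidueField x.1) _ (fun r hr =>
    Groth.L27.EtSite.isZero_Rpush_of_propB _
      (Groth.L27.EtSite.propB_of_isIntegralHom (X.fromSpecResidueField x.1)) _ r hr) (i + 1)).injective.subsingleton

end Groth.Agent.S8615
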