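import Groth.Statements.S8617
import Groth.Agent.L27.FinBC.LA

set_option autoImplicit false
set_option linter.style.haveILetI false
set_option backward.isDefEq.respectTransparency.types false
universe u
open CategoryTheory CategoryTheory.Limits AlgebraicGeometry
open SGA4h

namespace Groth.Agent.S8617

open TensorProduct in
/-- For a single abelian sheaf: let f : X → S be a morphism of quasi-compact quasi-separated schemes, F
an abelian etale sheaf on X with f locally acyclic relative to F, x a point of X, R_S and R_X strict
henselizations of the local rings at f(x) and x with a compatible local map R_S → R_X, f_(x) : Spec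
R_X → Spec R_S the induced morphism and F_(x) the restriction of F to Spec R_X. Then the formation
of the higher direct images of F_(x) along f_(x) commutes with every finite base change: for every
finite g : S' → Spec R_S and cartesian square X' = Spec R_X ×_{Spec R_S} S', the base change map g⁻¹
R^q f_(x)* F_(x) → R^q f'_* g'⁻¹ F_(x) is an isomorphism for every q. -/
theorem result {X S : Scheme.{u}}
    [CompactSpace ↥X] [QuasiSeparatedSpace ↥X] [CompactSpace ↥S] [QuasiSeparatedSpace ↥S]
    (f : X ⟶ S) (F : EtCoh.Ab X) (hLA : SGA4h.IsLARel f F) (x : X)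
    (RS RX : Type u) [CommRing RS] [CommRing RX] [IsLocalRing RS] [IsLocalRing RX]
    [Algebra (S.presheaf.stalk (f.base x)) RS] [IsLocalHom (algebraMap (S.presheaf.stalk (f.base x)) RS)]
    [Hensel.IsStrictHenselization (S.presheaf.stalk (f.base x)) RS]
    [Algebra (X.presheaf.stalk x) RX] [IsLocalHom (algebraMap (X.presheaf.stalk x) RX)]
    [Hensel.IsStrictHenselization (X.presheaf.stalk x) RX]
    [Algebra RS RX] [IsLocalHom (algebraMap RS RX)]
    (hc : (algebraMap RS RX).comp (algebraMap (S.presheaf.stalk (f.base x)) RS) =
      (algebraMap (X.presheaf.stalk x) RX).comp (f.stalkMap x).hom)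
    {S' X' : Scheme.{u}} (g : S' ⟶ Spec (CommRingCat.of RS)) [IsFinite g] (f' : X' ⟶ S')
    (g' : X' ⟶ Spec (CommRingCat.of RX))
    (h : IsPullback g' f' (Spec.map (CommRingCat.ofHom (algebraMap RS RX))) g)
    [PreservesFiniteLimits (EtCoh.pull g')] (q : ℕ) :
    IsIso (EtBC.bcQ (Spec.map (CommRingCat.ofHom (algebraMap RS RX))) g f' g' h.w q
      ((EtCoh.pull (Hens2.specOf X x RX)).obj F)) := by
  haveI : HenselianLocalRing RS := Hensel.IsStrictHenselization.henselian (R := S.presheaf.stalk (f.base x))
  haveI : HenselianLocalRing RX := Hensel.IsStrictHenselization.henselian (R := X.presheaf.stalk x)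
  haveI : IsSepClosed (IsLocalRing.ResidueField RS) := (Hensel.IsStrictHenselization.isSepClosure (R := S.presheaf.stalk (f.base x)) (S := RS)).sep_closed
  haveI : IsSepClosed (IsLocalRing.ResidueField RX) := (Hensel.IsStrictHenselization.isSepClosure (R := X.presheaf.stalk x) (S := RX)).sep_closed
  haveI : AlgebraicGeometry.WeaklyEtale (Hens2.specOf X x RX) := Groth.L27.Acyclic0.weaklyEtale_fromStrict x RX
  haveI : AlgebraicGeometry.WeaklyEtale (Hens2.specOf S (f.base x) RS) := Groth.L27.Acyclic0.weaklyEtale_fromStrict (f.base x) RS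
  exact Groth.L27.FinBC.isIso_bcQ_integral _ _ g f' g' h (fun s R _ _ _ _ _ => Groth.L27.FinBC.specHyp_of_strongLA RS RX _ (Groth.L27.FinBC.strongLA_of_isLARel hLA _ (Hens2.specOf X x RX) (Hens2.specOf S (f.base x) RS) (Groth.L27.StalkBC.specOf_comp f x RS RX (algebraMap RS RX) hc).symm) s R) q

end Groth.Agent.S8617
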