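import Groth.Statements.S8618
import Groth.Agent.L28.QLinear
import Mathlib.FieldTheory.IsAlgClosed.Basic
import Mathlib.FieldTheory.Finite.Basic
import Mathlib.LinearAlgebra.Trace
import Mathlib.LinearAlgebra.TensorProduct.Tower
import Mathlib.Algebra.CharP.Algebra

set_option autoImplicit false
universe u
open SGA4h

namespace Groth.Agent.S8618

theorem trace_eq_trace_restrict {L M : Type u} [Field L] [AddCommGroup M] [Module L M]
    [FiniteDimensional L M] (f : M →ₗ[L] M) : ∀ (N : ℕ) (S : Submodule L M) (hS : ∀ x ∈ S, f x ∈ S),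
      (∀ x, (⇑f)^[N] x ∈ S) → LinearMap.trace L M f = LinearMap.trace L S (f.restrict hS) := by
  intro N
  induction N with
  | zero =>
    intro S hS h
    obtain rfl : S = ⊤ := eq_top_iff.2 fun x _ => h x
    rw [← LinearMap.trace_conj' (f.restrict hS) (LinearEquiv.ofTop (⊤ : Submodule L M) rfl)]
    congr 1
  | succ N ih =>
    intro S hS h
    let S' := S.comap f
    have hle : S ≤ S' := fun x hx => hS x hx
    have hS' : ∀ x ∈ S', f x ∈ S' := fun x hx => hle hx
    rw [ih S' hS' (fun x => show f _ ∈ S by rw [← Function.iterate_succ_apply' f N x]; exact h x)]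
    let i : S →ₗ[L] S' := Submodule.inclusion hle
    let g : S' →ₗ[L] S := (f.domRestrict S').codRestrict S (fun x => x.2)
    have e1 : f.restrict hS' = i ∘ₗ g := by ext x; rfl
    have e2 : f.restrict hS = g ∘ₗ i := by ext x; rfl
    rw [e1, e2, LinearMap.trace_comp_comm']

open TensorProduct in
/-- Let k be a finite field with q = p^f elements, F₀ ⊂ k its prime field, K an algebraically closed
extension of k, V a finite-dimensional k-vector space and φ a p-linear endomorphism of V (φ(λx) =
λ^p φ(x)); let F = φ^f, a k-linear endomorphism, F_K its K-linear extension to K ⊗_k V and φ_K the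
p-linear extension of φ (φ_K(μ ⊗ v) = μ^p ⊗ φ(v)). Then F_K preserves the F₀-subspace W = Ker(φ_K -
1) of K ⊗_k V, W is finite-dimensional over F₀, and the trace of F_K on W (an element of F₀) equals
the trace of F on V. -/
theorem result {p : ℕ} [Fact p.Prime] (k : Type u) [Field k] [Fintype k]
    [CharP k p] (f : ℕ) (hq : Fintype.card k = p ^ f) (K : Type u) [Field K] [Algebra k K] [IsAlgClosed K]
    (V : Type u) [AddCommGroup V] [Module k V] [FiniteDimensional k V]
    (φ : V →ₛₗ[frobenius k p] V) (F : V →ₗ[k] V) (hF : ∀ x, F x = (⇑φ)^[f] x)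
    (φK : K ⊗[k] V →+ K ⊗[k] V) (hφK : ∀ (μ : K) (v : V), φK (μ ⊗ₜ[k] v) = (μ ^ p) ⊗ₜ[k] φ v)
    (W : Submodule (↥(⊥ : Subfield k)) (K ⊗[k] V)) (hW : ∀ y, y ∈ W ↔ φK y = y) :
    (∀ y, φK y = y → φK (F.baseChange K y) = F.baseChange K y) ∧
    Module.Finite (↥(⊥ : Subfield k)) ↥W ∧
    ∀ (G : ↥W →ₗ[↥(⊥ : Subfield k)] ↥W), (∀ y : ↥W, (↑(G y) : K ⊗[k] V) = F.baseChange K ↑y) →
      algebraMap k K (algebraMap (↥(⊥ : Subfield k)) k (LinearMap.trace (↥(⊥ : Subfield k)) ↥W G)) =
        algebraMap k K (LinearMap.trace k V F) := by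
  classical
  haveI : CharP K p := charP_of_injective_algebraMap (algebraMap k K).injective p
  have hcomm : ∀ v, φ (F v) = F (φ v) := fun v => by
    rw [hF, hF, ← Function.iterate_succ_apply' φ f v, Function.iterate_succ_apply φ f v]
  have hsemi : ∀ (c : K) (y : K ⊗[k] V), φK (c • y) = c ^ (p ^ 1) • φK y := by
    intro c y
    induction y using TensorProduct.induction_on with
    | zero => simp
    | tmul μ v => rw [TensorProduct.smul_tmul', hφK, hφK, TensorProduct.smul_tmul', pow_one, smul_eq_mul, smul_eq_mul, mul_pow]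
    | add a b ha hb => rw [smul_add, map_add, map_add, ha, hb, smul_add]
  have hcommK : ∀ y, φK (F.baseChange K y) = F.baseChange K (φK y) := by
    intro y
    induction y using TensorProduct.induction_on with
    | zero => simp
    | tmul μ v => simp only [LinearMap.baseChange_tmul, hφK, hcomm]
    | add a b ha hb => simp only [map_add, ha, hb]
  let φs := Groth.L28.QLinear.toSemilinear (p := p) (r := 1) φK hsemi
  obtain ⟨N, hN⟩ := Groth.L28.QLinear.exists_iterate_mem_fixSpan Nat.one_pos φs
  set S := Groth.L28.QLinear.fixSpan φs with hSdef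
  obtain ⟨b, hb⟩ : ∃ b : Module.Basis (Fin (Module.finrank K S)) K S, ∀ i, φK (b i : K ⊗[k] V) = (b i : K ⊗[k] V) :=
    Groth.L28.QLinear.exists_basis_fixSpan φs
  have hstab : ∀ y, φK y = y → φK (F.baseChange K y) = F.baseChange K y :=
    fun y hy => by rw [hcommK, hy]
  -- scalars fixed by Frobenius
  have hscal : ∀ c : K, c ^ p = c → ∃ a : (⊥ : Subfield k), algebraMap k K (a : k) = c := by
    intro c hc
    have hmap : (⊥ : Subfield k).map (algebraMap k K) = ⊥ := Subfield.map_bot _
    have : c ∈ (⊥ : Subfield K) := (Subfield.mem_bot_iff_pow_eq_self K p).2 hc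
    rw [← hmap] at this
    obtain ⟨a, ha, he⟩ := Subfield.mem_map.1 this
    exact ⟨⟨a, ha⟩, he⟩
  have hsmul : ∀ (a : (⊥ : Subfield k)) (y : K ⊗[k] V), a • y = algebraMap k K (a : k) • y := by
    intro a y
    induction y using TensorProduct.induction_on with
    | zero => rw [smul_zero, smul_zero]
    | tmul μ v =>
      have h1 : a • μ = algebraMap k K (a : k) * μ := (Algebra.smul_def (a : k) μ)
      show (a • μ) ⊗ₜ[k] v = _
      rw [h1, TensorProduct.smul_tmul', smul_eq_mul]
    | add a b ha hb => rw [smul_add, smul_add, ha, hb]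
  have hbW : ∀ i, (b i : K ⊗[k] V) ∈ W := fun i => (hW _).2 (hb i)
  let e : Fin (Module.finrank K S) → W := fun i => ⟨b i, hbW i⟩
  have hli : LinearIndependent (⊥ : Subfield k) e := by
    refine LinearIndependent.of_comp W.subtype ?_
    show LinearIndependent (⊥ : Subfield k) (fun i => (b i : K ⊗[k] V))
    rw [Fintype.linearIndependent_iff]
    intro g h i
    simp only [hsmul] at h
    have h2 : ∑ i, algebraMap k K (g i : k) • b i = 0 := by
      apply Subtype.ext
      simpa using h
    have h3 := b.repr_sum_self fun i => algebraMap k K (g i : k)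
    rw [h2, map_zero] at h3
    have := (congrFun h3 i).symm
    rw [Finsupp.coe_zero, Pi.zero_apply, map_eq_zero] at this
    exact Subtype.ext this
  have hrepr : ∀ (y : W), ∃ g : Fin (Module.finrank K S) → (⊥ : Subfield k),
      y = ∑ i, g i • e i ∧ ∀ i (hy : (y : K ⊗[k] V) ∈ S), algebraMap k K (g i : k) = b.repr ⟨y, hy⟩ i := by
    intro y
    have hyS : (y : K ⊗[k] V) ∈ S := Submodule.subset_span ((hW _).1 y.2)
    have hc : ∀ i, b.repr ⟨y, hyS⟩ i ^ p = b.repr ⟨y, hyS⟩ i := fun i => by
      have h := Groth.L28.QLinear.repr_pow_eq φs _ b hb 1 ⟨y, hyS⟩ ((hW _).1 y.2) i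
      rwa [pow_one, pow_one] at h
    choose g hg using fun i => hscal _ (hc i)
    refine ⟨g, Subtype.ext ?_, fun i _ => hg i⟩
    have h := congrArg Subtype.val (b.sum_repr ⟨y, hyS⟩)
    simp only [Submodule.coe_sum, Submodule.coe_smul] at h
    simp only [Submodule.coe_sum, Submodule.coe_smul, e, hsmul, hg]
    exact h.symm
  let bW : Module.Basis (Fin (Module.finrank K S)) (⊥ : Subfield k) W :=
    Module.Basis.mk hli (fun y _ => by
      obtain ⟨g, hg, -⟩ := hrepr y
      rw [hg]
      exact Submodule.sum_mem _ fun i _ => Submodule.smul_mem _ _ (Submodule.subset_span ⟨i, rfl⟩))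
  refine ⟨hstab, Module.Finite.of_basis bW, fun G hG => ?_⟩
  -- the linear extension of `F` preserves `S`, and some iterate lands in `S`
  have hFS : ∀ x ∈ S, F.baseChange K x ∈ S := fun x hx => by
    induction hx using Submodule.span_induction with
    | mem x hx => exact Submodule.subset_span (hstab x hx)
    | zero => simp
    | add a b _ _ ha hb => rw [map_add]; exact add_mem ha hb
    | smul c a _ ha => rw [map_smul]; exact Submodule.smul_mem _ _ ha
  have hf0 : 1 ≤ f := by
    rcases Nat.eq_zero_or_pos f with h | h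
    · exfalso
      have := Fintype.one_lt_card (α := k)
      rw [hq, h, pow_zero] at this
      omega
    · exact h
  have hpow : ∀ x, (⇑(F.baseChange K))^[N] x ∈ S := by
    intro x
    induction x using TensorProduct.induction_on with
    | zero => rw [iterate_map_zero]; exact zero_mem _
    | tmul μ v =>
      have h1 : ∀ n, (⇑(F.baseChange K))^[n] (μ ⊗ₜ[k] v) = μ • (1 ⊗ₜ[k] (⇑φ)^[f * n] v) := by
        intro n
        induction n with
        | zero => simp [TensorProduct.smul_tmul']
        | succ n ih =>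
          rw [Function.iterate_succ_apply', ih, map_smul, LinearMap.baseChange_tmul, hF,
            ← Function.iterate_add_apply, show f + f * n = f * (n + 1) by ring]
      have h2 : ∀ n, (⇑φs)^[n] (1 ⊗ₜ[k] v) = 1 ⊗ₜ[k] (⇑φ)^[n] v := by
        intro n
        induction n with
        | zero => rfl
        | succ n ih =>
          rw [Function.iterate_succ_apply', ih, Function.iterate_succ_apply']
          show φK _ = _
          rw [hφK, one_pow]
      rw [h1, ← h2]
      refine Submodule.smul_mem _ _ ?_
      rw [← hN (f * N) (Nat.le_mul_of_pos_left N hf0)]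
      exact Submodule.subset_span ⟨_, rfl⟩
    | add a b ha hb => rw [iterate_map_add]; exact add_mem ha hb
  rw [← LinearMap.trace_baseChange, trace_eq_trace_restrict _ N S hFS hpow,
    LinearMap.trace_eq_matrix_trace _ b, LinearMap.trace_eq_matrix_trace _ bW]
  simp only [Matrix.trace, Matrix.diag_apply, LinearMap.toMatrix_apply]
  simp only [← Subfield.coe_subtype, map_sum]
  refine Finset.sum_congr rfl fun i _ => ?_
  obtain ⟨g, hg, hg'⟩ := hrepr (G (bW i))
  have h1 : bW.repr (G (bW i)) i = g i := by
    conv_lhs => rw [hg]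
    have : ∑ j, g j • e j = ∑ j, g j • bW j := by simp [bW]
    rw [this, bW.repr_sum_self]
  rw [h1]
  have hbWi : ((bW i : W) : K ⊗[k] V) = (b i : K ⊗[k] V) := by simp [bW, e]
  have hmem : (G (bW i) : K ⊗[k] V) ∈ S := by rw [hG, hbWi]; exact hFS _ (b i).2
  have h3 : (⟨_, hmem⟩ : S) = (F.baseChange K).restrict hFS (b i) := by
    apply Subtype.ext
    show (G (bW i) : K ⊗[k] V) = F.baseChange K (b i)
    rw [hG, hbWi]
  rw [← h3]
  exact hg' i hmem

end Groth.Agent.S8618
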