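import Groth.Statements.S8625
import Mathlib.Tactic.Group

set_option autoImplicit false
universe u
open SGA4h

namespace Groth.Agent.S8625

/-- Let G be a group with an endomorphism F, and assume the Lang map g ↦ F(g)g⁻¹ is surjective (for
instance the geometric points of a connected algebraic group over F_q with its Frobenius, where the
surjectivity is the classical result of Lang; the other Lang map g ↦ g⁻¹F(g) is then surjective too,
by g ↦ g⁻¹). Let G^F be the subgroup of fixed points of F. (i) If F(g)g⁻¹ is fixed by F then so is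
g⁻¹F(g). (ii), (iii) There is a bijection of the set of conjugacy classes of G^F with itself
sending, for every g with F(g)g⁻¹ ∈ G^F, the class of F(g)g⁻¹ to the class of g⁻¹F(g) (in particular
the latter class depends only on the former). -/
theorem result {G : Type u} [Group G] (F : G →* G)
    (hL : Function.Surjective fun g : G => F g * g⁻¹) :
    (∀ g : G, F (F g * g⁻¹) = F g * g⁻¹ → F (g⁻¹ * F g) = g⁻¹ * F g) ∧
    ∃ φ : ConjClasses ↥(F.eqLocus (MonoidHom.id G)) → ConjClasses ↥(F.eqLocus (MonoidHom.id G)),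
      Function.Bijective φ ∧
      ∀ (g : G) (h : F (F g * g⁻¹) = F g * g⁻¹) (h' : F (g⁻¹ * F g) = g⁻¹ * F g),
        φ (ConjClasses.mk (⟨F g * g⁻¹, h⟩ : ↥(F.eqLocus (MonoidHom.id G)))) =
          ConjClasses.mk (⟨g⁻¹ * F g, h'⟩ : ↥(F.eqLocus (MonoidHom.id G))) := by
  have h1 : ∀ g : G, F (F g * g⁻¹) = F g * g⁻¹ → F (g⁻¹ * F g) = g⁻¹ * F g := by
    intro g hg
    have hFF : F (F g) = F g * g⁻¹ * F g := by
      calc F (F g) = F ((F g * g⁻¹) * g) := by simp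
        _ = F g * g⁻¹ * F g := by rw [map_mul, hg]
    rw [map_mul, map_inv, hFF]
    group
  refine ⟨h1, ?_⟩
  set H := F.eqLocus (MonoidHom.id G) with hH
  have memH : ∀ {x : G}, x ∈ H ↔ F x = x := Iff.rfl
  -- the class attached to `g` only depends on the class of `F g * g⁻¹`
  have key : ∀ (g g' : G) (a : G), F a = a → F g' * g'⁻¹ = a * (F g * g⁻¹) * a⁻¹ →
      ∃ c : G, F c = c ∧ g'⁻¹ * F g' = c * (g⁻¹ * F g) * c⁻¹ := by
    intro g g' a ha he
    refine ⟨g'⁻¹ * a * g, ?_, ?_⟩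
    · have : F g' = a * (F g * g⁻¹) * a⁻¹ * g' := by rw [← he]; group
      rw [map_mul, map_mul, map_inv, ha, this]
      group
    · have : F g' = a * (F g * g⁻¹) * a⁻¹ * g' := by rw [← he]; group
      rw [this]
      group
  have key2 : ∀ (g g' : G) (c : G), F c = c → g'⁻¹ * F g' = c * (g⁻¹ * F g) * c⁻¹ →
      ∃ a : G, F a = a ∧ F g' * g'⁻¹ = a * (F g * g⁻¹) * a⁻¹ := by
    intro g g' c hc he
    have hg' : F g' = g' * (c * (g⁻¹ * F g) * c⁻¹) := by rw [← he]; group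
    refine ⟨g' * c * g⁻¹, ?_, ?_⟩
    · rw [map_mul, map_mul, map_inv, hc, hg']
      group
    · rw [hg']
      group
  have mkiff : ∀ x y : ↥H, ConjClasses.mk x = ConjClasses.mk y ↔
      ∃ c : G, F c = c ∧ (y : G) = c * x * c⁻¹ := by
    intro x y
    rw [ConjClasses.mk_eq_mk_iff_isConj, isConj_iff]
    constructor
    · rintro ⟨c, hc⟩
      exact ⟨c, c.2, by rw [← hc]; simp⟩
    · rintro ⟨c, hc, he⟩
      exact ⟨⟨c, hc⟩, Subtype.ext (by simp [he])⟩
  choose L hL' using hL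
  let f : ↥H → ConjClasses ↥H := fun h =>
    ConjClasses.mk ⟨(L h)⁻¹ * F (L h), h1 _ (by rw [show F (L h) * (L h)⁻¹ = (h : G) from hL' h]; exact h.2)⟩
  have hf : ∀ x y : ↥H, IsConj x y → f x = f y := by
    intro x y hxy
    obtain ⟨a, ha, he⟩ := (mkiff x y).1 (ConjClasses.mk_eq_mk_iff_isConj.2 hxy)
    rw [mkiff]
    refine key (L x) (L y) a ha ?_
    rw [show F (L y) * (L y)⁻¹ = (y : G) from hL' y, show F (L x) * (L x)⁻¹ = (x : G) from hL' x]
    exact he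
  refine ⟨Quotient.lift f hf, ⟨?_, ?_⟩, ?_⟩
  · intro X Y
    obtain ⟨x, rfl⟩ := ConjClasses.mk_surjective X
    obtain ⟨y, rfl⟩ := ConjClasses.mk_surjective Y
    intro he
    obtain ⟨c, hc, he'⟩ := (mkiff _ _).1 (show f x = f y from he)
    obtain ⟨a, ha, he''⟩ := key2 (L x) (L y) c hc he'
    rw [mkiff]
    refine ⟨a, ha, ?_⟩
    rw [show F (L y) * (L y)⁻¹ = (y : G) from hL' y, show F (L x) * (L x)⁻¹ = (x : G) from hL' x] at he''
    exact he''
  · intro Y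
    obtain ⟨⟨k, hk⟩, rfl⟩ := ConjClasses.mk_surjective Y
    have hk' : F k = k := hk
    set g₀ := L k⁻¹
    have h₀ : F g₀ * g₀⁻¹ = k⁻¹ := hL' _
    have hk2 : g₀ * (F g₀)⁻¹ = k := by rw [show g₀ * (F g₀)⁻¹ = (F g₀ * g₀⁻¹)⁻¹ by group, h₀, inv_inv]
    have hg : (g₀⁻¹)⁻¹ * F g₀⁻¹ = k := by rw [inv_inv, map_inv]; exact hk2
    have hx : F (F g₀⁻¹ * (g₀⁻¹)⁻¹) = F g₀⁻¹ * (g₀⁻¹)⁻¹ := by
      have hFg : F g₀ = k⁻¹ * g₀ := by rw [← h₀]; group
      rw [map_inv, inv_inv, map_mul, map_inv, hFg, map_mul, map_inv, hk', hFg]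
      group
    refine ⟨ConjClasses.mk ⟨_, hx⟩, ?_⟩
    show f _ = _
    rw [mkiff]
    obtain ⟨c, hc, he⟩ := key (L (F g₀⁻¹ * (g₀⁻¹)⁻¹)) g₀⁻¹ 1 (map_one F) (by
      rw [show F (L _) * (L (F g₀⁻¹ * (g₀⁻¹)⁻¹))⁻¹ = (F g₀⁻¹ * (g₀⁻¹)⁻¹ : G) from hL' _]; group)
    exact ⟨c, hc, by rw [hg] at he; exact he⟩
  · intro g h h'
    show f _ = _
    rw [mkiff]
    obtain ⟨c, hc, he⟩ := key (L (F g * g⁻¹)) g 1 (map_one F) (by
      rw [show F (L _) * (L (F g * g⁻¹))⁻¹ = (F g * g⁻¹ : G) from hL' _]; group)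
    exact ⟨c, hc, he⟩

end Groth.Agent.S8625
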