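import Groth.Statements.S8626
import Mathlib.CategoryTheory.Abelian.RightDerived
import Mathlib.CategoryTheory.Abelian.Injective.Resolution
import Mathlib.Algebra.Homology.ShortComplex.Abelian
import Mathlib.Algebra.Homology.ShortComplex.HomologicalComplex
import Mathlib.Algebra.Homology.Additive

set_option autoImplicit false
universe v v' u u'
open CategoryTheory CategoryTheory.Limits
open SGA4h

namespace Groth.Agent.S8626


variable {A : Type u} [Category.{v} A] [Abelian A] {𝒪 : ObjectProperty A} {X : A}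
  (J : InjectiveResolution X)

/-- the source of the incoming map at `n` in the augmented resolution -/
noncomputable abbrev src : ℕ → A
  | 0 => X
  | n + 1 => J.cocomplex.X n

/-- the incoming map at `n` in the augmented resolution -/
noncomputable def jd : ∀ n, src J n ⟶ J.cocomplex.X n
  | 0 => J.ι.f 0
  | n + 1 => J.cocomplex.d n (n + 1)

lemma jd_d : ∀ n, jd J n ≫ J.cocomplex.d n (n + 1) = 0
  | 0 => J.ι_f_zero_comp_complex_d
  | _ + 1 => J.cocomplex.d_comp_d _ _ _

lemma jd_exact : ∀ n, (ShortComplex.mk (jd J n) (J.cocomplex.d n (n + 1)) (jd_d J n)).Exact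
  | 0 => J.exact₀
  | n + 1 => J.exact_succ n

variable (𝒪) in
structure St (n : ℕ) where
  W : A
  Y : A
  hY : 𝒪 Y
  inc : W ⟶ Y
  u : J.cocomplex.X n ⟶ Y
  a : Y ⟶ J.cocomplex.X n
  hu : jd J n ≫ u ≫ cokernel.π inc = 0
  hua : u ≫ a = 𝟙 _
  ha : inc ≫ a ≫ J.cocomplex.d n (n + 1) = 0

variable {J}
variable (h2 : ∀ X : A, ∃ (Y : A) (i : X ⟶ Y), 𝒪 Y ∧ Mono i) {n : ℕ} (s : St 𝒪 J n)

noncomputable def St.v : cokernel (jd J n) ⟶ cokernel s.inc :=
  cokernel.desc _ (s.u ≫ cokernel.π s.inc) s.hu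

noncomputable def St.m (_ : St 𝒪 J n) : cokernel (jd J n) ⟶ J.cocomplex.X (n + 1) :=
  cokernel.desc _ (J.cocomplex.d n (n + 1)) (jd_d J n)

instance St.mono_m : Mono s.m := (jd_exact J n).mono_cokernelDesc

noncomputable abbrev St.P : A := pushout s.v s.m

noncomputable def St.Y' : A := (h2 s.P).choose
noncomputable def St.i : s.P ⟶ s.Y' h2 := (h2 s.P).choose_spec.choose
lemma St.hY' : 𝒪 (s.Y' h2) := (h2 s.P).choose_spec.choose_spec.1
instance St.mono_i : Mono (s.i h2) := (h2 s.P).choose_spec.choose_spec.2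

noncomputable def St.dd : s.Y ⟶ s.Y' h2 := cokernel.π s.inc ≫ pushout.inl s.v s.m ≫ s.i h2
noncomputable def St.u' : J.cocomplex.X (n + 1) ⟶ s.Y' h2 := pushout.inr s.v s.m ≫ s.i h2

lemma St.comm : s.u ≫ s.dd h2 = J.cocomplex.d n (n + 1) ≫ s.u' h2 := by
  have h : s.v ≫ pushout.inl s.v s.m = s.m ≫ pushout.inr s.v s.m := pushout.condition
  have e1 : cokernel.π (jd J n) ≫ s.v = s.u ≫ cokernel.π s.inc := cokernel.π_desc _ _ _
  have e2 : cokernel.π (jd J n) ≫ s.m = J.cocomplex.d n (n + 1) := cokernel.π_desc _ _ _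
  rw [St.dd, St.u', ← reassoc_of% e1, reassoc_of% h, reassoc_of% e2]

noncomputable def St.a' : s.Y' h2 ⟶ J.cocomplex.X (n + 1) :=
  Injective.factorThru
    (pushout.desc (cokernel.desc s.inc (s.a ≫ J.cocomplex.d n (n + 1)) s.ha) (𝟙 _) (by
      rw [St.v, St.m, Category.comp_id]
      ext
      simp [reassoc_of% s.hua]) : s.P ⟶ J.cocomplex.X (n + 1)) (s.i h2)

lemma St.dd_a' : s.dd h2 ≫ s.a' h2 = s.a ≫ J.cocomplex.d n (n + 1) := by
  unfold St.dd St.a'
  rw [Category.assoc, Category.assoc, Injective.comp_factorThru]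
  erw [pushout.inl_desc]
  exact cokernel.π_desc _ _ _

noncomputable def St.next : St 𝒪 J (n + 1) where
  W := s.Y
  Y := s.Y' h2
  hY := s.hY' h2
  inc := s.dd h2
  u := s.u' h2
  a := s.a' h2
  hu := by
    show J.cocomplex.d n (n + 1) ≫ s.u' h2 ≫ cokernel.π (s.dd h2) = 0
    rw [← reassoc_of% (s.comm h2), cokernel.condition, comp_zero]
  hua := by
    unfold St.u' St.a'
    rw [Category.assoc, Injective.comp_factorThru]
    exact pushout.inr_desc _ _ _
  ha := by rw [reassoc_of% (s.dd_a' h2)]; simp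

lemma St.inc_dd : s.inc ≫ s.dd h2 = 0 := by simp [St.dd]

lemma St.exact : (ShortComplex.mk s.inc (s.dd h2) (s.inc_dd h2)).Exact := by
  have : Mono (pushout.inl s.v s.m) := inferInstance
  exact (ShortComplex.exact_iff_of_epi_of_isIso_of_mono
    (S₁ := ShortComplex.mk s.inc (cokernel.π s.inc) (cokernel.condition _))
    (S₂ := ShortComplex.mk s.inc (s.dd h2) (s.inc_dd h2))
    { τ₁ := 𝟙 _, τ₂ := 𝟙 _, τ₃ := pushout.inl s.v s.m ≫ s.i h2,
      comm₁₂ := by simp
      comm₂₃ := by simp [St.dd] }).mp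
    (ShortComplex.exact_cokernel s.inc)

variable (J) in
noncomputable def st0 : St 𝒪 J 0 where
  W := X
  Y := (h2 (J.cocomplex.X 0)).choose
  hY := (h2 (J.cocomplex.X 0)).choose_spec.choose_spec.1
  inc := J.ι.f 0 ≫ (h2 (J.cocomplex.X 0)).choose_spec.choose
  u := (h2 (J.cocomplex.X 0)).choose_spec.choose
  a := haveI := (h2 (J.cocomplex.X 0)).choose_spec.choose_spec.2
    Injective.factorThru (𝟙 _) (h2 (J.cocomplex.X 0)).choose_spec.choose
  hu := by
    show J.ι.f 0 ≫ _ ≫ _ = 0
    rw [← Category.assoc]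
    exact cokernel.condition _
  hua := by simp [Injective.comp_factorThru]
  ha := by
    have := (h2 (J.cocomplex.X 0)).choose_spec.choose_spec.2
    exact (Category.assoc _ _ _).trans ((congrArg (J.ι.f 0 ≫ ·)
      ((Injective.comp_factorThru_assoc _ _ _).trans (Category.id_comp _))).trans
      J.ι_f_zero_comp_complex_d)

variable (J) in
noncomputable def st : ∀ n, St 𝒪 J n
  | 0 => st0 J h2
  | n + 1 => (st n).next h2

/-- The augmented resolution of `X` by members of `𝒪`. -/
noncomputable abbrev kobj : ℕ → A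
  | 0 => X
  | n + 1 => (st J h2 n).Y

variable (J) in
noncomputable def kd : ∀ n, kobj (J := J) h2 n ⟶ kobj (J := J) h2 (n + 1)
  | 0 => (st0 J h2).inc
  | n + 1 => (st J h2 n).dd h2

variable (J) in
noncomputable def kc : CochainComplex A ℕ :=
  CochainComplex.of (kobj (J := J) h2) (kd J h2) (by
    intro n
    match n with
    | 0 => exact (st0 J h2).inc_dd h2
    | n + 1 => exact (st J h2 (n + 1)).inc_dd h2)

lemma kc_d (n : ℕ) : (kc J h2).d n (n + 1) = kd J h2 n := by simp [kc]

lemma kc_acyclic : (kc J h2).Acyclic := by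
  intro n
  match n with
  | 0 =>
    rw [HomologicalComplex.exactAt_iff' (kc J h2) 0 0 1 (by simp) (by simp)]
    have : Mono (kd J h2 0) := by
      have := (h2 (J.cocomplex.X 0)).choose_spec.choose_spec.2
      exact mono_comp' (inferInstanceAs (Mono (J.ι.f 0))) this
    refine (ShortComplex.exact_iff_mono _ ((kc J h2).shape 0 0 (by simp))).mpr ?_
    show Mono ((kc J h2).d 0 1)
    rw [kc_d h2 0]
    exact this
  | n + 1 =>
    rw [HomologicalComplex.exactAt_iff' (kc J h2) n (n + 1) (n + 2) (by simp) (by simp)]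
    refine ShortComplex.exact_of_iso ?_
      (show (ShortComplex.mk (kd J h2 n) (kd J h2 (n + 1)) (by
        rw [← kc_d, ← kc_d]; exact (kc J h2).d_comp_d _ _ _)).Exact from ?_)
    · exact ShortComplex.isoMk (Iso.refl _) (Iso.refl _) (Iso.refl _)
        (by show 𝟙 _ ≫ (kc J h2).d n (n + 1) = kd J h2 n ≫ 𝟙 _; rw [kc_d]; exact (Category.id_comp _).trans (Category.comp_id _).symm)
        (by show 𝟙 _ ≫ (kc J h2).d (n + 1) (n + 1 + 1) = kd J h2 (n + 1) ≫ 𝟙 _; rw [kc_d]; exact (Category.id_comp _).trans (Category.comp_id _).symm)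
    · match n with
      | 0 => exact (st0 J h2).exact h2
      | n + 1 => exact (st J h2 (n + 1)).exact h2

theorem main {B : Type u'} [Category.{v'} B] [Abelian B] [HasInjectiveResolutions A]
    (F : A ⥤ B) [F.Additive]
    (h1 : ∀ K : CochainComplex A ℕ, (∀ i, 𝒪 (K.X i)) → K.Acyclic →
      ((F.mapHomologicalComplex (ComplexShape.up ℕ)).obj K).Acyclic)
    (hX : 𝒪 X) (J : InjectiveResolution X)
    (h2 : ∀ X : A, ∃ (Y : A) (i : X ⟶ Y), 𝒪 Y ∧ Mono i) (n : ℕ) :
    IsZero ((F.rightDerived (n + 1)).obj X) := by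
  have hK : ((F.mapHomologicalComplex (ComplexShape.up ℕ)).obj (kc J h2)).Acyclic := by
    refine h1 _ (fun i => ?_) (kc_acyclic h2)
    match i with
    | 0 => exact hX
    | i + 1 => exact (st J h2 i).hY
  refine IsZero.of_iso ?_ (J.isoRightDerivedObj F (n + 1))
  set SI := ((F.mapHomologicalComplex (ComplexShape.up ℕ)).obj J.cocomplex).sc' n (n + 1) (n + 2)
  set SK := ((F.mapHomologicalComplex (ComplexShape.up ℕ)).obj (kc J h2)).sc' (n + 1) (n + 2) (n + 3)
  have hSK : SK.Exact :=
    (HomologicalComplex.exactAt_iff' _ (n + 1) (n + 2) (n + 3) (by simp) (by simp)).mp (hK (n + 2))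
  let φ : SI ⟶ SK :=
    { τ₁ := F.map (st J h2 n).u
      τ₂ := F.map (st J h2 (n + 1)).u
      τ₃ := F.map (st J h2 (n + 2)).u
      comm₁₂ := by
        show F.map (st J h2 n).u ≫ F.map ((kc J h2).d (n + 1) (n + 1 + 1)) =
          F.map (J.cocomplex.d n (n + 1)) ≫ F.map (st J h2 (n + 1)).u
        refine (F.map_comp _ _).symm.trans (Eq.trans (congrArg F.map ?_) (F.map_comp _ _))
        exact (congrArg (_ ≫ ·) (kc_d h2 (n + 1))).trans ((st J h2 n).comm h2)
      comm₂₃ := by
        show F.map (st J h2 (n + 1)).u ≫ F.map ((kc J h2).d (n + 1 + 1) (n + 1 + 1 + 1)) =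
          F.map (J.cocomplex.d (n + 1) (n + 1 + 1)) ≫ F.map (st J h2 (n + 1 + 1)).u
        refine (F.map_comp _ _).symm.trans (Eq.trans (congrArg F.map ?_) (F.map_comp _ _))
        exact (congrArg (_ ≫ ·) (kc_d h2 (n + 1 + 1))).trans ((st J h2 (n + 1)).comm h2) }
  let ψ : SK ⟶ SI :=
    { τ₁ := F.map (st J h2 n).a
      τ₂ := F.map (st J h2 (n + 1)).a
      τ₃ := F.map (st J h2 (n + 2)).a
      comm₁₂ := by
        show F.map (st J h2 n).a ≫ F.map (J.cocomplex.d n (n + 1)) =
          F.map ((kc J h2).d (n + 1) (n + 1 + 1)) ≫ F.map (st J h2 (n + 1)).a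
        refine (F.map_comp _ _).symm.trans (Eq.trans (congrArg F.map ?_) (F.map_comp _ _))
        exact ((st J h2 n).dd_a' h2).symm.trans (congrArg (· ≫ _) (kc_d h2 (n + 1))).symm
      comm₂₃ := by
        show F.map (st J h2 (n + 1)).a ≫ F.map (J.cocomplex.d (n + 1) (n + 1 + 1)) =
          F.map ((kc J h2).d (n + 1 + 1) (n + 1 + 1 + 1)) ≫ F.map (st J h2 (n + 1 + 1)).a
        refine (F.map_comp _ _).symm.trans (Eq.trans (congrArg F.map ?_) (F.map_comp _ _))
        exact ((st J h2 (n + 1)).dd_a' h2).symm.trans (congrArg (· ≫ _) (kc_d h2 (n + 1 + 1))).symm }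
  have hid : φ ≫ ψ = 𝟙 SI := by
    ext <;> exact (F.map_comp _ _).symm.trans ((congrArg F.map (St.hua _)).trans (F.map_id _))
  have hmono : Mono (ShortComplex.homologyMap φ) := by
    haveI : IsSplitMono (ShortComplex.homologyMap φ) :=
      ⟨⟨⟨ShortComplex.homologyMap ψ, by
        rw [← ShortComplex.homologyMap_comp, hid, ShortComplex.homologyMap_id]⟩⟩⟩
    infer_instance
  have hz : IsZero SI.homology :=
    IsZero.of_mono (ShortComplex.homologyMap φ) ((ShortComplex.exact_iff_isZero_homology _).mp hSK)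
  refine ((HomologicalComplex.exactAt_iff' ((F.mapHomologicalComplex (ComplexShape.up ℕ)).obj
    J.cocomplex) n (n + 1) (n + 2) (by simp) (by simp)).mpr
    ((ShortComplex.exact_iff_isZero_homology _).mpr hz)).isZero_homology

/-- Acyclicity assertion; A with enough injectives so that R^n f is the usual right derived functor: let
f : A → B be an additive functor between abelian categories and 𝒪 a class of objects of A, stable
under binary direct sums, such that (1) f carries every acyclic bounded-below cochain complex of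
objects of 𝒪 (indexed by ℕ, exact in every degree, in degree 0 meaning the first differential is a
monomorphism) to an acyclic complex, and (2) every object of A admits a monomorphism into a member
of 𝒪. Then every member of 𝒪 is right f-acyclic: R^n f(X) = 0 for all n > 0. -/
theorem result {A : Type u} [Category.{v} A] [Abelian A] [EnoughInjectives A]
    {B : Type u'} [Category.{v'} B] [Abelian B] (f : A ⥤ B) [f.Additive] (𝒪 : ObjectProperty A)
    (h0 : ∀ X Y : A, 𝒪 X → 𝒪 Y → 𝒪 (X ⊞ Y))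
    (h1 : ∀ K : CochainComplex A ℕ, (∀ i, 𝒪 (K.X i)) → K.Acyclic →
      ((f.mapHomologicalComplex (ComplexShape.up ℕ)).obj K).Acyclic)
    (h2 : ∀ X : A, ∃ (Y : A) (i : X ⟶ Y), 𝒪 Y ∧ Mono i)
    (X : A) (hX : 𝒪 X) (n : ℕ) (hn : 0 < n) :
    IsZero ((f.rightDerived n).obj X) := by
  obtain ⟨n, rfl⟩ : ∃ k, n = k + 1 := ⟨n - 1, by omega⟩
  exact main f h1 hX (injectiveResolution X) h2 n

end Groth.Agent.S8626
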