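import Groth.Statements.S8630
import Mathlib.RingTheory.Polynomial.Content
import Mathlib.RingTheory.Localization.Integral
import Mathlib.RingTheory.PowerSeries.Basic
import Mathlib.RingTheory.PowerSeries.Trunc
import Mathlib.RingTheory.PowerSeries.Inverse
import Mathlib.Data.ZMod.Basic
import Mathlib.Algebra.Field.ZMod
import Mathlib.RingTheory.Polynomial.GaussLemma

set_option autoImplicit false
open Zeta

namespace Groth.Agent.S8630

/-- Fatou's lemma: let P, Q ∈ ℚ[T] be coprime with constant coefficient 1, and suppose the power series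
P/Q has integer coefficients, i.e. P = Q·Z in ℚ⟦T⟧ for a power series Z with coefficients in ℤ. Then
P and Q have integer coefficients. -/
theorem result (P Q : Polynomial ℚ)
    (hPQ : IsCoprime P Q) (hP : P.coeff 0 = 1) (hQ : Q.coeff 0 = 1) (Z : PowerSeries ℤ)
    (hZ : (P : PowerSeries ℚ) = (Q : PowerSeries ℚ) * PowerSeries.map (Int.castRingHom ℚ) Z) :
    (∃ P₀ : Polynomial ℤ, P₀.map (Int.castRingHom ℚ) = P) ∧
      ∃ Q₀ : Polynomial ℤ, Q₀.map (Int.castRingHom ℚ) = Q := by
  classical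
  let φ : ℤ →+* ℚ := Int.castRingHom ℚ
  let ι : (Polynomial ℤ) →+* PowerSeries ℤ := Polynomial.coeToPowerSeries.ringHom
  have hmap : ∀ R : (Polynomial ℤ), ((R.map φ : (Polynomial ℚ)) : PowerSeries ℚ) = PowerSeries.map φ (R : PowerSeries ℤ) :=
    fun R => Polynomial.polynomial_map_coe
  -- clearing denominators
  have clear : ∀ R : (Polynomial ℚ), ∃ (R₁ : (Polynomial ℤ)) (a : ℤ), a ≠ 0 ∧ R₁.map φ = (a : (Polynomial ℚ)) * R := fun R => by
    obtain ⟨b, hb⟩ := IsLocalization.integerNormalization_map_to_map (nonZeroDivisors ℤ) (S := ℚ) R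
    refine ⟨IsLocalization.integerNormalization (nonZeroDivisors ℤ) R, b, nonZeroDivisors.coe_ne_zero b, ?_⟩
    rw [← zsmul_eq_mul]
    exact hb
  obtain ⟨Q', a, ha, hQ'⟩ := clear Q
  have hQ'0 : Q' ≠ 0 := by
    rintro rfl
    have := congrArg (fun R : (Polynomial ℚ) => R.coeff 0) hQ'
    simp [hQ] at this
    exact ha (by exact_mod_cast this.symm)
  set Q₁ := Q'.primPart with hQ₁
  set c : ℤ := Q₁.coeff 0 with hc
  have hQ₁map : Q₁.map φ = (c : (Polynomial ℚ)) * Q := by
    have h1 : Q' = Polynomial.C Q'.content * Q₁ := Q'.eq_C_content_mul_primPart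
    have h0 : Q'.content * c = a := by
      have := congrArg (fun R : (Polynomial ℚ) => R.coeff 0) hQ'
      simp [hQ, φ] at this
      rw [hc, ← Polynomial.coeff_C_mul, ← h1]
      exact_mod_cast this
    have hne : ((Q'.content : ℤ) : (Polynomial ℚ)) ≠ 0 := Int.cast_ne_zero.2 fun h => ha (by simpa [h] using h0.symm)
    refine mul_left_cancel₀ hne ?_
    rw [← mul_assoc, ← Int.cast_mul, h0, ← hQ']
    conv_rhs => rw [h1, Polynomial.map_mul, Polynomial.map_C]
    simp [φ]
  obtain ⟨P₁, hP₁⟩ : ∃ P₁ : (Polynomial ℤ), P₁.map φ = (c : (Polynomial ℚ)) * P ∧ (P₁ : PowerSeries ℤ) = Q₁ * Z := by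
    have hPZ : PowerSeries.map φ ((Q₁ : PowerSeries ℤ) * Z) = (((c : (Polynomial ℚ)) * P : (Polynomial ℚ)) : PowerSeries ℚ) := by
      rw [map_mul, ← hmap, hQ₁map, Polynomial.coe_mul, Polynomial.coe_mul, hZ, mul_assoc]
    set S := (Q₁ : PowerSeries ℤ) * Z
    set d := ((c : (Polynomial ℚ)) * P).natDegree
    have h2 : ∀ k, φ (PowerSeries.coeff k S) = ((c : (Polynomial ℚ)) * P).coeff k := fun k => by
      rw [← PowerSeries.coeff_map, hPZ, Polynomial.coeff_coe]
    refine ⟨PowerSeries.trunc (d + 1) S, ?_, ?_⟩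
    · ext k
      rw [Polynomial.coeff_map, PowerSeries.coeff_trunc]
      split_ifs with h
      · exact h2 k
      · rw [map_zero, Polynomial.coeff_eq_zero_of_natDegree_lt (by omega)]
    · ext k
      rw [Polynomial.coeff_coe, PowerSeries.coeff_trunc]
      split_ifs with h
      · rfl
      · have := (h2 k).trans (Polynomial.coeff_eq_zero_of_natDegree_lt (by omega))
        exact ((Int.cast_eq_zero (α := ℚ)).1 this).symm
  obtain ⟨hP₁, hP₁Z⟩ := hP₁
  -- Bezout over the integers
  obtain ⟨U, V, hUV⟩ := hPQ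
  obtain ⟨U', u, hu, hU'⟩ := clear U
  obtain ⟨V', v, hv, hV'⟩ := clear V
  have hc0 : c ≠ 0 := by
    intro h
    rw [h, Int.cast_zero, zero_mul, Polynomial.map_eq_zero_iff Int.cast_injective] at hQ₁map
    exact Q'.primPart_ne_zero hQ₁map
  have hbez : Polynomial.C (v : ℤ) * U' * P₁ + Polynomial.C (u : ℤ) * V' * Q₁ = Polynomial.C (u * v * c) := by
    apply Polynomial.map_injective φ Int.cast_injective
    have hC : ∀ z : ℤ, Polynomial.C (φ z) = (z : Polynomial ℚ) := fun z => by simp [φ]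
    simp only [Polynomial.map_add, Polynomial.map_mul, Polynomial.map_C, hC, hP₁, hQ₁map, hU', hV', Int.cast_mul]
    linear_combination ((u : (Polynomial ℚ)) * v * c) * hUV
  have key : ∀ n : ℕ, n ≠ 0 → (∃ S : PowerSeries ℤ, (Q₁ : PowerSeries ℤ) * S = PowerSeries.C (n : ℤ)) →
      ∃ S : PowerSeries ℤ, (Q₁ : PowerSeries ℤ) * S = 1 := by
    intro n
    induction n using Nat.strong_induction_on with
    | _ n ih =>
      intro hn hS
      obtain ⟨S, hS⟩ := hS
      by_cases h1 : n = 1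
      · subst h1; exact ⟨S, by simpa using hS⟩
      obtain ⟨p, hp, q, rfl⟩ := Nat.exists_prime_and_dvd h1
      haveI := Fact.mk hp
      have h3 := congrArg (PowerSeries.map (Int.castRingHom (ZMod p))) hS
      rw [map_mul, PowerSeries.map_C, ← Polynomial.polynomial_map_coe] at h3
      simp only [eq_intCast, Int.cast_natCast, Int.cast_mul, Nat.cast_mul, ZMod.natCast_self, zero_mul, map_zero] at h3
      have h4 : Q₁.map (Int.castRingHom (ZMod p)) ≠ 0 := by
        intro h
        have hd : Polynomial.C (p : ℤ) ∣ Q₁ := Polynomial.C_dvd_iff_dvd_coeff _ _ |>.2 fun k => by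
          rw [← ZMod.intCast_zmod_eq_zero_iff_dvd]
          simpa using congrArg (fun R : (Polynomial (ZMod p)) => R.coeff k) h
        have := (Q'.isPrimitive_primPart) _ hd
        rw [Int.isUnit_iff_natAbs_eq, Int.natAbs_natCast] at this
        exact hp.ne_one this
      have h5 := (mul_eq_zero.1 h3).resolve_left (Polynomial.coe_eq_zero_iff.not.2 h4)
      have h6 : ∀ k, (p : ℤ) ∣ PowerSeries.coeff k S := fun k => by
        rw [← ZMod.intCast_zmod_eq_zero_iff_dvd]
        simpa using congrArg (PowerSeries.coeff k) h5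
      choose s hs using h6
      refine ih q (lt_mul_left (Nat.pos_of_ne_zero (right_ne_zero_of_mul hn)) hp.one_lt) (right_ne_zero_of_mul hn)
        ⟨PowerSeries.mk s, mul_left_cancel₀ (a := PowerSeries.C (p : ℤ)) ?_ ?_⟩
      · exact (map_ne_zero_iff _ PowerSeries.C_injective).2 (by exact_mod_cast hp.ne_zero)
      · rw [← map_mul, ← Nat.cast_mul, ← hS, mul_left_comm]
        congr 1
        ext k
        rw [PowerSeries.coeff_C_mul, PowerSeries.coeff_mk, ← hs]
  obtain ⟨S, hS⟩ : ∃ S : PowerSeries ℤ, (Q₁ : PowerSeries ℤ) * S = PowerSeries.C (u * v * c) := by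
    refine ⟨PowerSeries.C v * U' * Z + PowerSeries.C u * V', ?_⟩
    have := congrArg (fun R : (Polynomial ℤ) => (R : PowerSeries ℤ)) hbez
    simp only [Polynomial.coe_add, Polynomial.coe_mul, Polynomial.coe_C, hP₁Z] at this
    rw [← this]; ring
  have hn : (u * v * c).natAbs ≠ 0 := Int.natAbs_ne_zero.2 (mul_ne_zero (mul_ne_zero hu hv) hc0)
  obtain ⟨T, hT⟩ := key _ hn (by
    rcases Int.natAbs_eq (u * v * c) with h | h
    · exact ⟨S, by rw [hS, ← h]⟩
    · exact ⟨-S, by rw [mul_neg, hS]; conv_lhs => rw [h, map_neg, neg_neg]⟩)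
  have h7 := congrArg PowerSeries.constantCoeff hT
  rw [map_mul, map_one, Polynomial.constantCoeff_coe, ← hc] at h7
  rcases Int.isUnit_iff.1 (IsUnit.of_mul_eq_one _ h7) with h | h
  · exact ⟨⟨P₁, by rw [hP₁, h, Int.cast_one, one_mul]⟩, ⟨Q₁, by rw [hQ₁map, h, Int.cast_one, one_mul]⟩⟩
  · exact ⟨⟨-P₁, by rw [Polynomial.map_neg, hP₁, h]; simp⟩, ⟨-Q₁, by rw [Polynomial.map_neg, hQ₁map, h]; simp⟩⟩

end Groth.Agent.S8630
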