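import Groth.Statements.S8637

set_option autoImplicit false
open Zeta

namespace Groth.Agent.S8637

/-- First assertion, for a finite family: let (f_i) be finitely many formal power series with real
coefficients, each with constant term 1 and all coefficients ≥ 0, and let f be their product. Then
for every i and every n the n-th coefficient of f_i is at most the n-th coefficient of f (so the
radius of absolute convergence of f_i is at least that of f). (Stated for a finite family; for an
infinite product whose factors f_i - 1 have orders tending to infinity each coefficient is that of a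
finite sub-product, so the same inequality holds.) -/
theorem result {ι : Type} (s : Finset ι) (f : ι → PowerSeries ℝ)
    (h0 : ∀ i ∈ s, PowerSeries.constantCoeff (f i) = 1)
    (hpos : ∀ i ∈ s, ∀ n : ℕ, 0 ≤ PowerSeries.coeff n (f i)) (i : ι) (hi : i ∈ s) (n : ℕ) :
    PowerSeries.coeff n (f i) ≤ PowerSeries.coeff n (∏ j ∈ s, f j) := by
  classical
  have key : ∀ t ⊆ s, ∀ n, 0 ≤ PowerSeries.coeff n (∏ j ∈ t, f j) := by
    intro t
    induction t using Finset.induction with
    | empty => intro _ n; simp [PowerSeries.coeff_one]; positivity
    | insert a t ha ih =>
      intro ht n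
      rw [Finset.prod_insert ha, PowerSeries.coeff_mul]
      exact Finset.sum_nonneg fun x _ => mul_nonneg (hpos a (ht (Finset.mem_insert_self a t)) _)
        (ih (fun y hy => ht (Finset.mem_insert_of_mem hy)) _)
  rw [← Finset.mul_prod_erase s f hi, PowerSeries.coeff_mul]
  refine le_trans (le_of_eq ?_) (Finset.single_le_sum
    (fun x _ => mul_nonneg (hpos i hi _) (key _ (Finset.erase_subset i s) _))
    (Finset.mem_antidiagonal.mpr (Nat.add_zero n) : (n, 0) ∈ Finset.antidiagonal n))
  rw [PowerSeries.coeff_zero_eq_constantCoeff, map_prod,
    Finset.prod_eq_one (fun j hj => h0 j (Finset.mem_of_mem_erase hj)), mul_one]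

end Groth.Agent.S8637
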