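import Groth.Statements.S8649
import Groth.Agent.L08.Lambda.Pos

set_option autoImplicit false
universe u
open Finset
open LambdaRing

namespace Groth.Agent.S8649
open Groth.L08.Lambda Groth.L22.Lambda

/-- Let K be a pre-λ-ring (λ^0 = 1, λ^1 = id, λ^n(x + y) = Σ λ^p(x) λ^q(y)) in which λ^k(1) = 0 for all
k ≥ 2, so that λ_t(1) = 1 + t. Then the γ-operations, defined as the coefficients of λ_{t/(1−t)}(x)
(γ^0 = 1 and γ^n(x) = Σ_{j=1}^{n} C(n−1, j−1) λ^j(x) for n ≥ 1), satisfy γ^n(x) = λ^n(x + n − 1) for
all x and n. (The published statement is for a λ-ring, where λ_t also respects products and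
composition; its proof uses only additivity and λ_t(1) = 1 + t, which are the hypotheses taken
here.) -/
theorem result (K : Type u) [CommRing K] [LambdaRing.LambdaOps K]
    (h1 : ∀ k : ℕ, 2 ≤ k → LambdaRing.LambdaOps.lam k (1 : K) = 0) (n : ℕ) (x : K) :
    LambdaRing.gamma n x = LambdaRing.LambdaOps.lam n (x + (n : K) - 1) := by
  rcases n with - | n
  · rw [Groth.L08.Lambda.gamma_zero, LambdaOps.lam_zero]
  rw [show x + ((n + 1 : ℕ) : K) - 1 = x + (n : K) by push_cast; ring, ← coeff_lamSeries (n + 1),
    lamSeries_add, lamSeries_natCast' h1, PowerSeries.coeff_mul,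
    Finset.Nat.sum_antidiagonal_eq_sum_range_succ_mk, gamma, if_neg (Nat.succ_ne_zero n)]
  refine sum_congr rfl fun j hj => ?_
  simp only [mem_range] at hj
  rw [coeff_lamSeries, show (1 + PowerSeries.X : PowerSeries K) ^ n =
      ((1 + Polynomial.X : Polynomial K) ^ n : Polynomial K) by simp, Polynomial.coeff_coe,
    Polynomial.coeff_one_add_X_pow]
  rcases j with - | j
  · simp [Nat.choose_succ_self]
  · rw [if_neg (Nat.succ_ne_zero j)]
    simp only [Nat.add_sub_add_right, Nat.add_sub_cancel, Nat.sub_zero]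
    rw [mul_comm, Nat.choose_symm (by omega : j ≤ n)]

end Groth.Agent.S8649
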