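import Groth.Statements.S8666
import Mathlib.RingTheory.PicardGroup
import Mathlib.RingTheory.Localization.AtPrime.Basic
import Mathlib.RingTheory.Localization.BaseChange
import Mathlib.RingTheory.Ideal.Operations
import Mathlib.RingTheory.LocalRing.Module

set_option autoImplicit false
universe u
open CAlg

namespace Groth.Agent.S8666

/-- Let A be a Noetherian ring, M an invertible A-module and p_1, …, p_k finitely many primes of A
(points of Spec A). Then there is a single element s ∈ M whose image generates M_{p_i} as an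
A_{p_i}-module for every i, i.e. s is a basis of the stalk of M at each of the given points. -/
theorem result (A : Type u) [CommRing A] [IsNoetherianRing A]
    (M : Type u) [AddCommGroup M] [Module A M] [Module.Invertible A M] (ι : Type) [Finite ι] (p : ι → PrimeSpectrum A) :
    ∃ s : M, ∀ i : ι, Submodule.span (Localization.AtPrime (p i).asIdeal)
      {LocalizedModule.mkLinearMap (p i).asIdeal.primeCompl M s} = ⊤ := by
  classical
  let P : ι → Ideal A := fun i => (p i).asIdeal
  have hfree : ∀ Q : PrimeSpectrum A, ∃ φ : M →ₗ[A] Localization.AtPrime Q.asIdeal,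
      (∀ m : M, IsUnit (φ m) → Submodule.span (Localization.AtPrime Q.asIdeal)
        {LocalizedModule.mkLinearMap Q.asIdeal.primeCompl M m} = ⊤) ∧ ∃ m, IsUnit (φ m) := by
    intro Q
    let L := Localization.AtPrime Q.asIdeal
    let ML := LocalizedModule Q.asIdeal.primeCompl M
    haveI : Module.Invertible L ML :=
      Module.Invertible.congr (LocalizedModule.equivTensorProduct Q.asIdeal.primeCompl M).symm
    haveI : Module.Free L ML := Module.free_of_flat_of_isLocalRing
    obtain ⟨e⟩ := Module.Invertible.free_iff_linearEquiv.1 (inferInstance : Module.Free L ML)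
    refine ⟨(e.toLinearMap.restrictScalars A) ∘ₗ LocalizedModule.mkLinearMap _ M, fun m hm => ?_, ?_⟩
    · rw [eq_top_iff]
      intro y _
      obtain ⟨u, hu⟩ := hm
      refine Submodule.mem_span_singleton.2 ⟨e y * ↑u⁻¹, e.injective ?_⟩
      rw [map_smul, smul_eq_mul, mul_assoc]
      change e y * (↑u⁻¹ * (e.toLinearMap.restrictScalars A ∘ₗ LocalizedModule.mkLinearMap _ M) m) = e y
      rw [← hu, Units.inv_mul, mul_one]
    · obtain ⟨⟨m, s⟩, hs⟩ := IsLocalizedModule.surj Q.asIdeal.primeCompl
        (LocalizedModule.mkLinearMap Q.asIdeal.primeCompl M) (e.symm 1)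
      refine ⟨m, ?_⟩
      change IsUnit (e (LocalizedModule.mkLinearMap _ M m))
      rw [← hs, Submonoid.smul_def, ← algebraMap_smul L (s : A), map_smul, e.apply_symm_apply,
        smul_eq_mul, mul_one]
      exact IsLocalization.map_units L s
  choose φ hφ hφne using hfree
  suffices ∀ T : Finset (PrimeSpectrum A), ∃ s : M, ∀ Q ∈ T, IsUnit (φ Q s) by
    haveI instF := Fintype.ofFinite ι
    obtain ⟨s, hs⟩ := ‹∀ T : Finset (PrimeSpectrum A), ∃ s : M, ∀ Q ∈ T, IsUnit (φ Q s)› (Finset.univ.image p)
    exact ⟨s, fun i => hφ _ _ (hs _ (Finset.mem_image_of_mem p (Finset.mem_univ i)))⟩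
  intro T
  induction hn : T.card generalizing T with
  | zero => exact ⟨0, by simp [Finset.card_eq_zero.1 hn]⟩
  | succ k ih =>
    obtain ⟨Q₀, hQ₀, hmin⟩ := T.exists_minimal (Finset.card_pos.1 (by omega))
    obtain ⟨s, hs⟩ := ih (T.erase Q₀) (by rw [Finset.card_erase_of_mem hQ₀, hn]; rfl)
    by_cases h0 : IsUnit (φ Q₀ s)
    · exact ⟨s, fun Q hQ => if h : Q = Q₀ then h ▸ h0 else hs Q (Finset.mem_erase.2 ⟨h, hQ⟩)⟩
    · obtain ⟨t, ht⟩ := hφne Q₀
      have hnle : ¬ (T.erase Q₀).inf (fun Q => Q.asIdeal) ≤ Q₀.asIdeal := by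
        rw [Ideal.IsPrime.inf_le' Q₀.isPrime]
        rintro ⟨Q, hQ, hle⟩
        obtain ⟨hne, hQT⟩ := Finset.mem_erase.1 hQ
        exact hne (le_antisymm hle (hmin hQT hle))
      obtain ⟨a, ha, ha'⟩ := SetLike.not_le_iff_exists.1 hnle
      refine ⟨s + a • t, fun Q hQ => ?_⟩
      rw [map_add, map_smul, Algebra.smul_def]
      by_cases h : Q = Q₀
      · subst h
        have h2 : IsUnit (algebraMap A (Localization.AtPrime Q.asIdeal) a * φ Q t) :=
          (IsLocalization.map_units _ (⟨a, ha'⟩ : Q.asIdeal.primeCompl)).mul ht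
        by_contra hc
        refine (IsLocalRing.maximalIdeal (Localization.AtPrime Q.asIdeal)).ne_top_iff_one.1 ?_ ?_
        · exact Ideal.IsMaximal.ne_top inferInstance
        · have := Ideal.sub_mem _ ((IsLocalRing.mem_maximalIdeal _).2 hc) ((IsLocalRing.mem_maximalIdeal _).2 h0)
          rw [add_sub_cancel_left, IsLocalRing.mem_maximalIdeal, mem_nonunits_iff] at this
          exact absurd h2 this
      · have haQ : a ∈ Q.asIdeal := Finset.inf_le (f := fun Q : PrimeSpectrum A => Q.asIdeal)
          (Finset.mem_erase.2 ⟨h, hQ⟩) ha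
        have h1 := hs Q (Finset.mem_erase.2 ⟨h, hQ⟩)
        by_contra hc
        have hm : algebraMap A (Localization.AtPrime Q.asIdeal) a * φ Q t ∈
            IsLocalRing.maximalIdeal (Localization.AtPrime Q.asIdeal) :=
          Ideal.mul_mem_right _ _
            ((IsLocalization.AtPrime.to_map_mem_maximal_iff _ Q.asIdeal a).2 haQ)
        have := Ideal.sub_mem _ ((IsLocalRing.mem_maximalIdeal _).2 hc) hm
        rw [add_sub_cancel_right, IsLocalRing.mem_maximalIdeal, mem_nonunits_iff] at this
        exact this h1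

end Groth.Agent.S8666
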