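import Groth.Statements.S8669
import Groth.Agent.L12.KBunQ.ProjBasis

set_option autoImplicit false
set_option maxHeartbeats 400000
set_option backward.isDefEq.respectTransparency false
set_option backward.isDefEq.respectTransparency.types false
universe v u
open CategoryTheory CategoryTheory.Limits AlgebraicGeometry
attribute [local instance] HasDerivedCategory.standard
open SGA6

namespace Groth.Agent.S8669

/-- Let S be a quasi-compact scheme, f : P = P^r_S ⟶ S the projection, and F, G finite locally free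
O_P-modules whose classes in K₀ of finite locally free O_P-modules coincide. Then there is n₀ such
that for every n ≥ n₀ the modules f_*(F(n)) and f_*(G(n)) are finite locally free on S and have the
same class in K₀ of finite locally free O_S-modules, where F(n) = O_P(n) ⊗ F. (The published
statement is for the projective bundle of any finite locally free module of rank r + 1; this row
takes the trivial bundle.) -/
theorem result (S : Scheme.{u}) [CompactSpace ↥S] (r : ℕ)
    (F G : (KRR.PY r S).Modules) (hF : FlatMod.IsFinLocFree F) (hG : FlatMod.IsFinLocFree G)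
    (h : KRR.cl (KRR.PY r S) F = KRR.cl (KRR.PY r S) G) :
    ∃ n₀ : ℕ, ∀ n : ℕ, n₀ ≤ n →
      FlatMod.IsFinLocFree ((Scheme.Modules.pushforward (KRR.pr r S)).obj (KRR.twF r S (n : ℤ) F)) ∧
      FlatMod.IsFinLocFree ((Scheme.Modules.pushforward (KRR.pr r S)).obj (KRR.twF r S (n : ℤ) G)) ∧
      KRR.cl S ((Scheme.Modules.pushforward (KRR.pr r S)).obj (KRR.twF r S (n : ℤ) F)) =
        KRR.cl S ((Scheme.Modules.pushforward (KRR.pr r S)).obj (KRR.twF r S (n : ℤ) G)) := by
  obtain ⟨A⟩ := Groth.L12.KBunQ.exists_projAtlas r S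
  obtain ⟨L, D⟩ := Groth.L12.KBunQ.exists_setup r S
  haveI : IsProper (KRR.pr r S) := A.isProper
  haveI : Flat (KRR.pr r S) := A.flat
  haveI : LocallyOfFinitePresentation (KRR.pr r S) := Groth.L12.KBunQ.lfp_atlas A
  have hamp := A.isRelAmple D.hO
  obtain ⟨N₁, h₁⟩ := Groth.L12.KBunQ.exists_eventual_push (KRR.pr r S) hamp
    (Groth.L18.LFP.isFP_of_isFinLocFree F hF) (Groth.L12.KBunQ.isFlatOver_bundle _ hF)
  obtain ⟨N₂, h₂⟩ := Groth.L12.KBunQ.exists_eventual_push (KRR.pr r S) hamp
    (Groth.L18.LFP.isFP_of_isFinLocFree G hG) (Groth.L12.KBunQ.isFlatOver_bundle _ hG)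
  obtain ⟨N₃, h₃⟩ := D.exists_pc_eq A hF hG h
  refine ⟨max N₁ (max N₂ N₃), fun n hn => ?_⟩
  obtain ⟨e⟩ := Groth.L17.Strat.nonempty_tensorPow_twistOver r S n
  let i : ∀ M : (KRR.PY r S).Modules,
      CohB1.tensorMod M (CohB1.tensorPow (Twist.twistOver r S 1) n) ≅ KRR.twF r S (n : ℤ) M := fun M =>
    Groth.L00.Tensor.tensorIso (Iso.refl M) e ≪≫ Groth.L00.Tensor.tensorComm _ _
  let p := Scheme.Modules.pushforward (KRR.pr r S)
  have hF' := (h₁ n (by omega)).2
  have hG' := (h₂ n (by omega)).2
  refine ⟨Groth.L29.LocFree.of_iso (p.mapIso (i F)) hF', Groth.L29.LocFree.of_iso (p.mapIso (i G)) hG', ?_⟩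
  rw [← Groth.L12.Kvb.cl_iso (p.mapIso (i F)) hF', ← Groth.L12.Kvb.cl_iso (p.mapIso (i G)) hG']
  exact h₃ n (by omega)

end Groth.Agent.S8669
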