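import Groth.Statements.S8673
import Groth.Agent.L12.KNil.Ample
-- import your own Groth.Agent.* helpers here

set_option autoImplicit false
universe v u
open CategoryTheory CategoryTheory.Limits AlgebraicGeometry
attribute [local instance] HasDerivedCategory.standard
open scoped TensorProduct
open KRR

namespace Groth.Agent.S8673

/-- Let X be a connected quasi-compact scheme with an ample invertible O_X-module, (K, P, φ) a model of
the λ-ring K(X) of finite locally free modules (augmentation ε = rank), and A a commutative ring.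
Then y ∈ A ⊗_ℤ K(X) is invertible if and only if (id ⊗ ε)(y) ∈ A ⊗_ℤ ℤ is invertible; in particular
the class of a nowhere-zero bundle is invertible in K(X) ⊗ ℚ. (The published statement allows X
disconnected, with ε valued in H^0(X, ℤ); this row takes X connected, as the model requires.) -/
theorem result (X : Scheme.{u}) [ConnectedSpace ↥X] (L : X.Modules) (hL : CohB1.IsAmple L)
    (K : Type v) [CommRing K] [LambdaRing.LambdaOps K] (P : LambdaRing.PosStructure K) (φ : SGA6.Kvb X →+ K) (hK : KRR.IsModel X K P φ)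
    (A : Type v) [CommRing A] (y : A ⊗[ℤ] K) :
    IsUnit y ↔ IsUnit (Algebra.TensorProduct.map (AlgHom.id ℤ A) P.aug.toIntAlgHom y) := by
  classical
  set F : A ⊗[ℤ] K →ₐ[ℤ] A ⊗[ℤ] ℤ := Algebra.TensorProduct.map (AlgHom.id ℤ A) P.aug.toIntAlgHom
  let ψ : A ⊗[ℤ] K →+* A := (Algebra.TensorProduct.rid ℤ ℤ A).toAlgHom.toRingHom.comp F.toRingHom
  have hnil : ∀ z : A ⊗[ℤ] K, IsNilpotent (z - ψ z ⊗ₜ[ℤ] (1 : K)) := fun z => by
    induction z using TensorProduct.induction_on with
    | zero => rw [map_zero, TensorProduct.zero_tmul, sub_zero]; exact IsNilpotent.zero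
    | tmul a x =>
      have e : ψ (a ⊗ₜ[ℤ] x) = P.aug x • a := by simp [ψ, F]
      rw [e, TensorProduct.smul_tmul, ← TensorProduct.tmul_sub,
        show a ⊗ₜ[ℤ] (x - P.aug x • (1 : K)) = (a ⊗ₜ[ℤ] (1 : K)) * ((1 : A) ⊗ₜ[ℤ] (x - P.aug x • (1 : K))) by
          rw [Algebra.TensorProduct.tmul_mul_tmul, mul_one, one_mul]]
      refine (Commute.all _ _).isNilpotent_mul_left ?_
      exact (Groth.L12.KNil.isNilpotent_of_aug_eq_zero hK hL (x := x - P.aug x • (1 : K))
        (by rw [map_sub, zsmul_eq_mul, mul_one, map_intCast, Int.cast_id, sub_self])).map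
        (Algebra.TensorProduct.includeRight : K →ₐ[ℤ] A ⊗[ℤ] K)
    | add z w hz hw =>
      rw [map_add, TensorProduct.add_tmul, add_sub_add_comm]
      exact (Commute.all _ _).isNilpotent_add hz hw
  refine ⟨fun h => h.map F, fun h => ?_⟩
  have hu : IsUnit (ψ y) := h.map (Algebra.TensorProduct.rid ℤ ℤ A).toAlgHom
  have := (hnil y).isUnit_add_left_of_commute
    (hu.map (Algebra.TensorProduct.includeLeft : A →ₐ[ℤ] A ⊗[ℤ] K)) (Commute.all _ _)
  simpa using this

end Groth.Agent.S8673
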