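import Groth.Statements.S8680
import Groth.Agent.Lead.KProjPerf


set_option autoImplicit false
universe v u
open CategoryTheory CategoryTheory.Limits AlgebraicGeometry
attribute [local instance] HasDerivedCategory.standard
open SGA6

namespace Groth.Agent.S8680

/-- Let S be a quasi-compact scheme and f : P = P^r_S ⟶ S the projection. On K^• = K₀ of perfect
complexes let f^* be induced by Lf^* (assumed to exist with its triangulated structure and to
preserve perfect complexes) and, for 0 ≤ i ≤ r, let ξ^i· be induced by the exact functor − ⊗ O_P(i)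
extended to derived categories (exactness as instance hypotheses, preservation of perfect complexes
as hypothesis ht). Then (x_0, …, x_r) ↦ Σ_i ξ^i · f^*(x_i) is a bijection from K^•(S)^{r+1} onto
K^•(P): K^•(P) is free over K^•(S) with basis 1, ξ, …, ξ^r. (The published statement is for the
projective bundle of any locally free module of rank r + 1; this row takes the trivial bundle.) -/
theorem result (S : Scheme.{u}) [CompactSpace ↥S] (r : ℕ)
    [DCoh.HasLpull (KRR.pr r S)] [(DCoh.Lpull (KRR.pr r S)).CommShift ℤ] [(DCoh.Lpull (KRR.pr r S)).IsTriangulated]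
    (hf : ∀ K : DCoh.D S, DCoh.IsPerfect K → DCoh.IsPerfect ((DCoh.Lpull (KRR.pr r S)).obj K))
    [∀ i : ℕ, PreservesFiniteLimits ((DCoh.tensorBi (X := KRR.PY r S)).obj (Twist.twistOver r S (i : ℤ)))]
    [∀ i : ℕ, PreservesFiniteColimits ((DCoh.tensorBi (X := KRR.PY r S)).obj (Twist.twistOver r S (i : ℤ)))]
    (ht : ∀ (i : ℕ) (K : DCoh.D (KRR.PY r S)), DCoh.IsPerfect K →
      DCoh.IsPerfect ((((DCoh.tensorBi (X := KRR.PY r S)).obj (Twist.twistOver r S (i : ℤ))).mapDerivedCategory).obj K)) :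
    Function.Bijective (fun x : Fin (r + 1) → SGA6.Kperf S =>
      ∑ i : Fin (r + 1), SGA6.mapTr (((DCoh.tensorBi (X := KRR.PY r S)).obj (Twist.twistOver r S ((i : ℕ) : ℤ))).mapDerivedCategory)
          (SGA6.perfP (KRR.PY r S)) (SGA6.perfP (KRR.PY r S)) (ht i)
        (SGA6.mapTr (DCoh.Lpull (KRR.pr r S)) (SGA6.perfP S) (SGA6.perfP (KRR.PY r S)) hf (x i))) := by
  classical
  haveI : IsProper (KRR.pr r S) := Groth.L16.ProjSpace.isProper_toBase r S
  haveI := Groth.L29.DC.RpushQC.hasRpush (KRR.pr r S)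
  let Φ : (Fin (r + 1) → SGA6.Kperf S) → SGA6.Kperf (KRR.PY r S) := fun x =>
    ∑ i : Fin (r + 1), SGA6.mapTr (((DCoh.tensorBi (X := KRR.PY r S)).obj (Twist.twistOver r S ((i : ℕ) : ℤ))).mapDerivedCategory)
          (SGA6.perfP (KRR.PY r S)) (SGA6.perfP (KRR.PY r S)) (ht i)
        (SGA6.mapTr (DCoh.Lpull (KRR.pr r S)) (SGA6.perfP S) (SGA6.perfP (KRR.PY r S)) hf (x i))
  let ι : Fin (r + 1) → SGA6.Kperf S →+ SGA6.Kperf (KRR.PY r S) := fun i =>
    (SGA6.mapTr (((DCoh.tensorBi (X := KRR.PY r S)).obj (Twist.twistOver r S ((i : ℕ) : ℤ))).mapDerivedCategory)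
          (SGA6.perfP (KRR.PY r S)) (SGA6.perfP (KRR.PY r S)) (ht i)).comp
      (SGA6.mapTr (DCoh.Lpull (KRR.pr r S)) (SGA6.perfP S) (SGA6.perfP (KRR.PY r S)) hf)
  have hι : ∀ (i : Fin (r + 1)) (P : DCoh.D S), DCoh.IsPerfect P → ι i (KZero.clTr (SGA6.perfP S) P) =
      KZero.clTr (SGA6.perfP (KRR.PY r S))
        ((Groth.Lead.KProjPerf.TO r S (i : ℕ)).obj ((DCoh.Lpull (KRR.pr r S)).obj P)) := by
    intro i P hP
    change SGA6.mapTr _ _ _ _ (SGA6.mapTr _ _ _ _ _) = _
    rw [Groth.Lead.KProjPerf.mapTr_cl _ hf hP, Groth.Lead.KProjPerf.mapTr_cl _ (ht i) (hf P hP)]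
    obtain ⟨e⟩ := Groth.Lead.ProjTwT.nonempty_left_T (Groth.Lead.ProjTwT.hfl r S ((i : ℕ) : ℤ))
      ((DCoh.Lpull (KRR.pr r S)).obj P)
    exact Groth.L29.KTr.iso (Groth.Lead.KProjPerf.perf_zero _) e (ht i _ (hf P hP))
      (Groth.Lead.ProjTwT.isPerfect_T _ (hf P hP))
  let ψ : ℕ → SGA6.Kperf (KRR.PY r S) →+ SGA6.Kperf S := fun j =>
    SGA6.mapTr (Groth.Lead.KProjPerf.NS r S (j : ℤ)) (SGA6.perfP (KRR.PY r S)) (SGA6.perfP S)
      (fun _ h => Groth.Lead.KProjPerf.isPerfect_NS r S (j : ℤ) h)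
  have hψ : ∀ (i : Fin (r + 1)) (j : ℕ), (i : ℕ) ≤ j → j ≤ r → ∀ y,
      ψ j (ι i y) = if (i : ℕ) = j then y else 0 := by
    intro i j hij hj y
    induction y using Groth.Lead.KProjPerf.Kperf_induction with
    | hcl P hP =>
      have hTP := Groth.Lead.ProjTwT.isPerfect_T (Groth.Lead.ProjTwT.hfl r S ((i : ℕ) : ℤ)) (hf P hP)
      rw [hι i P hP]
      change SGA6.mapTr _ _ _ _ _ = _
      rw [Groth.Lead.KProjPerf.mapTr_cl _ _ hTP]
      obtain ⟨h1, h2⟩ := Groth.Lead.KProjPerf.NS_TO_pull r S i j hij hj hP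
      split_ifs with h
      · obtain ⟨a⟩ := h2 h
        exact Groth.L29.KTr.iso (Groth.Lead.KProjPerf.perf_zero _) a
          (Groth.Lead.KProjPerf.isPerfect_NS r S (j : ℤ) hTP) hP
      · exact Groth.L29.KTr.isZero (Groth.Lead.KProjPerf.perf_zero _) (h1 (lt_of_le_of_ne hij h))
    | h0 => simp
    | hadd a b ha hb => rw [map_add, map_add, ha, hb]; split_ifs <;> simp
    | hneg a ha => rw [map_neg, map_neg, ha]; split_ifs <;> simp
  have hΦ : ∀ x, Φ x = ∑ i, ι i (x i) := fun x => rfl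
  change Function.Bijective Φ
  refine ⟨fun x x' hxx => ?_, fun y => ?_⟩
  · suffices H : ∀ z : Fin (r + 1) → SGA6.Kperf S, Φ z = 0 → z = 0 by
      refine sub_eq_zero.1 (H (x - x') ?_)
      rw [hΦ]
      simp only [Pi.sub_apply, map_sub, Finset.sum_sub_distrib]
      rw [← hΦ, ← hΦ, hxx, sub_self]
    intro z hz
    suffices H : ∀ (k : ℕ) (i : Fin (r + 1)), r ≤ (i : ℕ) + k → z i = 0 from funext fun i => H r i (by omega)
    intro k
    induction k using Nat.strong_induction_on with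
    | _ k ih =>
      intro i hi
      have h := congrArg (ψ i) hz
      rw [hΦ, map_sum, map_zero, Finset.sum_eq_single i] at h
      · rwa [hψ i i le_rfl (by omega), if_pos rfl] at h
      · intro i' _ hne
        rcases lt_or_gt_of_ne (fun h => hne (Fin.ext h)) with hlt | hgt
        · rw [hψ i' i hlt.le (by omega), if_neg hlt.ne]
        · by_cases hk : k = 0
          · omega
          · rw [ih (k - 1) (by omega) i' (by omega), map_zero, map_zero]
      · exact fun h => absurd (Finset.mem_univ i) h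
  · let R : AddSubgroup (SGA6.Kperf (KRR.PY r S)) :=
      { carrier := Set.range Φ
        add_mem' := by
          rintro _ _ ⟨a, rfl⟩ ⟨b, rfl⟩
          exact ⟨a + b, by simp only [hΦ, Pi.add_apply, map_add, Finset.sum_add_distrib]⟩
        zero_mem' := ⟨0, by simp [hΦ]⟩
        neg_mem' := by
          rintro _ ⟨a, rfl⟩
          exact ⟨-a, by simp only [hΦ, Pi.neg_apply, map_neg, Finset.sum_neg_distrib]⟩ }
    have hιR : ∀ i a, ι i a ∈ R := fun i a => ⟨Pi.single i a, by
      rw [hΦ, Finset.sum_eq_single i (fun b _ hb => by rw [Pi.single_eq_of_ne hb, map_zero])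
        (fun h => absurd (Finset.mem_univ i) h), Pi.single_eq_same]⟩
    suffices H : ∀ (k : ℕ), k ≤ r + 1 → ∀ (K : DCoh.D (KRR.PY r S)), DCoh.IsPerfect K →
        (∀ j : ℕ, j ≤ r → k ≤ j → IsZero ((Groth.Lead.KProjPerf.NS r S j).obj K)) →
        KZero.clTr (SGA6.perfP (KRR.PY r S)) K ∈ R by
      suffices hy : y ∈ R from hy
      induction y using Groth.Lead.KProjPerf.Kperf_induction with
      | hcl K hK => exact H (r + 1) le_rfl K hK (by intro j hj hk; omega)
      | h0 => exact zero_mem _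
      | hadd a b ha hb => exact add_mem ha hb
      | hneg a ha => exact neg_mem ha
    intro k
    induction k with
    | zero =>
      intro _ K hK h0
      rw [Groth.L29.KTr.isZero (Groth.Lead.KProjPerf.perf_zero _)
        (Groth.Lead.ProjTwT.isZero_of_push_twists r S (Groth.L29.DC.PCQCoh.isQCohD_of_perfect hK)
          (fun j hj => h0 j hj (Nat.zero_le j)))]
      exact zero_mem _
    | succ k ih =>
      intro hk K hK h0
      obtain ⟨P, M, C, a, g, δ, hP, ⟨θ⟩, hT, hC⟩ := Groth.Lead.KProjPerf.exists_step r S k (by omega) hK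
        (fun j hj hlt => h0 j hj (by omega))
      have hTP := Groth.Lead.ProjTwT.isPerfect_T (Groth.Lead.ProjTwT.hfl r S (k : ℤ)) (hf P hP)
      have hM : DCoh.IsPerfect M := Groth.L29.DC.isPerfect_of_iso θ.symm hTP
      have hCp : DCoh.IsPerfect C := (Groth.L29.DC.perfect_two_out_of_three hT).1 hM hK
      rw [show KZero.clTr (SGA6.perfP (KRR.PY r S)) K = _ + _ from Groth.L29.KTr.triangle _ hT hM hK hCp]
      refine add_mem ?_ (ih (by omega) C hCp (fun j hj hkj => hC j hj hkj))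
      have hMR := hιR ⟨k, by omega⟩ (KZero.clTr (SGA6.perfP S) P)
      rw [hι _ P hP] at hMR
      show KZero.clTr (SGA6.perfP (KRR.PY r S)) M ∈ R
      rw [show KZero.clTr (SGA6.perfP (KRR.PY r S)) M = _ from
        Groth.L29.KTr.iso (Groth.Lead.KProjPerf.perf_zero _) θ hM hTP]
      exact hMR


end Groth.Agent.S8680
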