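import Groth.Statements.S8686
import Groth.Agent.L08.Lambda.Pos

set_option autoImplicit false
universe u
open LambdaRing

namespace Groth.Agent.S8686
open Groth.L08.Lambda Groth.L22.Lambda

/-- Let K be a pre-λ-ring with λ^n(1) = 0 for all n ≥ 2, i.e. λ_t(1) = 1 + t. Then the Adams operations,
defined for k ≥ 1 through (d/dt λ_t(x)) · λ_t(x)⁻¹ = Σ_{k ≥ 1} (−1)^{k−1} ψ^k(x) t^{k−1}, satisfy
ψ^k(1) = 1 for every k ≥ 1. (The published statement is for a λ-ring in the strict sense; this
identity uses only λ_t(1) = 1 + t, the hypothesis taken here.) -/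
theorem result (K : Type u) [CommRing K] [LambdaRing.LambdaOps K]
    (h1 : ∀ n : ℕ, 2 ≤ n → LambdaRing.LambdaOps.lam n (1 : K) = 0) (k : ℕ) (hk : 1 ≤ k) :
    LambdaRing.adamsOp k (1 : K) = 1 := by
  obtain ⟨k, rfl⟩ : ∃ j, k = j + 1 := ⟨k - 1, by omega⟩
  have h2 : PowerSeries.derivative K (lamSeries (1 : K)) = 1 := by
    rw [lamSeries_one h1, map_add, Derivation.map_one_eq_zero, PowerSeries.derivative_X, zero_add]
  have hg : (1 + PowerSeries.X) * (PowerSeries.mk fun i => (-1 : K) ^ i) = 1 := by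
    ext m
    rw [add_mul, one_mul, map_add]
    rcases m with - | m
    · simp
    · rw [PowerSeries.coeff_succ_X_mul]
      simp [pow_succ, PowerSeries.coeff_one]
  have hi : (lamSeries (1 : K)).invOfUnit 1 = PowerSeries.mk fun i => (-1 : K) ^ i := by
    rw [lamSeries_one h1]
    refine left_inv_eq_right_inv ?_ hg
    exact PowerSeries.invOfUnit_mul _ 1 (by simp)
  simp only [adamsOp, logDerivSeries, h2, hi, one_mul, PowerSeries.coeff_mk]
  rw [← mul_pow, neg_one_mul, neg_neg, one_pow]

end Groth.Agent.S8686
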