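import Groth.Statements.S8691
import Groth.Agent.L08.Lambda.Divide
import Groth.Agent.L08.Lambda.Rank

set_option autoImplicit false
universe u
open Finset
open LambdaRing

namespace Groth.Agent.S8691
open Groth.L08.Lambda

/-- Let K be a λ-ring in the strict sense, d a natural number and N ∈ K with λ^i(N) = 0 for every i > d;
put λ_{−1}(N) = Σ_{i=0}^{d} (−1)^i λ^i(N). Then for every p ≥ 1 and every x ∈ K the element λ^p(x ·
λ_{−1}(N)) is divisible by λ_{−1}(N). (The published statement is for the λ-ring generated over the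
integers by N and x subject to λ^i(N) = 0 for i > d, a polynomial ring; the divisibility passes to
any λ-ring along the λ-homomorphism sending the generators to N and x, which is the substituted form
stated here.) The hypotheses hP and hQ, existence of the universal polynomials, are true statements
carried so that the identities of K can be used at every index. -/
theorem result (K : Type u) [CommRing K] [LambdaRing.LambdaOps K]
    (hK : LambdaRing.IsSpecial K)
    (hP : ∀ n : ℕ, ∃ P : MvPolynomial (Fin n ⊕ Fin n) ℤ, LambdaRing.IsMulPoly n P)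
    (hQ : ∀ i j : ℕ, ∃ Q : MvPolynomial (Fin (i * j)) ℤ, LambdaRing.IsCompPoly i j Q)
    (d : ℕ) (N : K) (hN : ∀ i : ℕ, d < i → LambdaRing.LambdaOps.lam i N = 0)
    (p : ℕ) (hp : 1 ≤ p) (x : K) :
    (∑ i ∈ range (d + 1), (-1 : K) ^ i * LambdaRing.LambdaOps.lam i N) ∣
      LambdaRing.LambdaOps.lam p (x * ∑ i ∈ range (d + 1), (-1 : K) ^ i * LambdaRing.LambdaOps.lam i N) := by
  set L := ∑ i ∈ Finset.range (d + 1), (-1 : K) ^ i * LambdaRing.LambdaOps.lam i N with hL
  have h1 := hK.lam_one_eq_zero
  let G : Gens Unit d K :=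
    { x := fun _ => (-1) ^ d * x
      N := N - (d : K)
      gamma_N := fun j hj => gamma_rank_eq_zero h1 hN hj }
  have hg : LambdaRing.gamma d G.N = (-1) ^ d * L := gamma_rank_top h1 hN
  have hsign : ((-1 : K) ^ d) * (-1) ^ d = 1 := by rw [← mul_pow, neg_one_mul, neg_neg, one_pow]
  have hγ : ∀ n, 1 ≤ n → L ∣ LambdaRing.gamma n (x * L) := by
    intro n hn
    obtain ⟨q, hq, -, -⟩ := gamma_core_div hK G (MvPolynomial.X (Sum.inl ((), 0))) (i := 1) (by omega)
      (by simpa [gwt] using highWt_X (A := ℤ) (gwt (ι := Unit) (d := d)) (Sum.inl ((), 0))) hn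
    have e : G.ev (MvPolynomial.X (Sum.inl ((), 0))) = (-1) ^ d * x := by
      rw [Gens.ev_inl, Groth.L08.Lambda.gamma_one]
    rw [e, hg, show (-1 : K) ^ d * x * ((-1) ^ d * L) = ((-1) ^ d * (-1) ^ d) * (x * L) by ring, hsign,
      one_mul] at hq
    exact ⟨(-1) ^ d * G.ev q, by rw [← hq]; ring⟩
  have hlam : ∀ p, 1 ≤ p → L ∣ LambdaRing.LambdaOps.lam p (x * L) := by
    intro p
    induction p using Nat.strong_induction_on with
    | _ p ih =>
      intro hp
      obtain ⟨m, rfl⟩ : ∃ m, p = m + 1 := ⟨p - 1, by omega⟩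
      have h := hγ (m + 1) hp
      rw [gamma_succ_eq] at h
      refine (dvd_add_right (Finset.dvd_sum fun i hi => ?_)).1 h
      exact Dvd.dvd.mul_left (ih (i + 1) (by simp at hi; omega) (by omega)) _
  exact hlam p hp

end Groth.Agent.S8691
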