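import Groth.Statements.S8692
import Groth.Agent.L12.KBunQ.Special
-- import your own Groth.Agent.* helpers here

set_option autoImplicit false
universe v u
open CategoryTheory CategoryTheory.Limits AlgebraicGeometry
attribute [local instance] HasDerivedCategory.standard
open SGA6

set_option maxHeartbeats 400000
set_option backward.isDefEq.respectTransparency false
set_option backward.isDefEq.respectTransparency.types false

namespace Groth.Agent.S8692

/-- Let S be a quasi-compact scheme and K the Grothendieck ring of finite locally free O_S-modules with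
the pre-λ-structure given by exterior powers. Concretely: every finite locally free O_S-module is
assumed to have finite locally free exterior powers (hext), and K is a commutative ring with
λ-operations together with an additive bijection φ from K₀ of finite locally free O_S-modules
carrying [O_S] to 1, [E]·[F] to [E ⊗ F], and with λ^i(φ[E]) = φ[L] whenever L is an i-th exterior
power of E. Then K is a λ-ring in the strict sense: λ_t(1) = 1 + t, λ^n(xy) = P_n(λ^1 x, …; λ^1 y,
…) and λ^j(λ^i x) = Q_{i,j}(λ^1 x, …) for the universal polynomials. -/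
theorem result (S : Scheme.{u}) [CompactSpace ↥S]
    (hext : ∀ (i : ℕ) (E : S.Modules), FlatMod.IsFinLocFree E →
      ∃ L : S.Modules, FlatMod.IsFinLocFree L ∧ ExtPow.IsExtPow i E L)
    (K : Type v) [CommRing K] [LambdaRing.LambdaOps K] (φ : SGA6.Kvb S →+ K) (hφ : Function.Bijective φ)
    (h1 : φ (KRR.cl S (Coh.structureModule S)) = 1)
    (hmul : ∀ E F : S.Modules, FlatMod.IsFinLocFree E → FlatMod.IsFinLocFree F →
      φ (KRR.cl S E) * φ (KRR.cl S F) = φ (KRR.cl S (((DCoh.tensorBi (X := S)).obj E).obj F)))
    (hlam : ∀ (i : ℕ) (E L : S.Modules), FlatMod.IsFinLocFree E → FlatMod.IsFinLocFree L →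
      ExtPow.IsExtPow i E L → LambdaRing.LambdaOps.lam i (φ (KRR.cl S E)) = φ (KRR.cl S L)) :
    LambdaRing.IsSpecial K := by

  haveI hsp := Groth.L12.KBunQ.isSpecial_KR (X := S)
  let e : Groth.L12.Kvb.KR S →+ K :=
    { toFun := fun x => φ x, map_zero' := map_zero φ, map_add' := fun a b => map_add φ a b }
  have hcl : ∀ M, e (Groth.L12.KBunQ.kc S M) = φ (_root_.KRR.cl S M) := fun M => rfl
  have he1 : e 1 = 1 := h1
  have hem : ∀ a b, e (a * b) = e a * e b := by
    intro a b
    suffices H : e.comp (AddMonoidHom.mulLeft a) = (AddMonoidHom.mulLeft (e a)).comp e from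
      DFunLike.congr_fun H b
    refine Groth.L12.KBunQ.KR_hom_ext fun N hN => ?_
    show e (a * Groth.L12.KBunQ.kc S N) = e a * e (Groth.L12.KBunQ.kc S N)
    suffices H : e.comp (AddMonoidHom.mulRight (Groth.L12.KBunQ.kc S N)) =
        (AddMonoidHom.mulRight (e (Groth.L12.KBunQ.kc S N))).comp e from DFunLike.congr_fun H a
    refine Groth.L12.KBunQ.KR_hom_ext fun M hM => ?_
    show e (Groth.L12.KBunQ.kc S M * Groth.L12.KBunQ.kc S N) = e (Groth.L12.KBunQ.kc S M) * e (Groth.L12.KBunQ.kc S N)
    rw [← Groth.L12.KBunQ.kc_tensor hM hN, hcl, hcl, hcl, hmul M N hM hN]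
    rfl
  let E : Groth.L12.Kvb.KR S →+* K := { e with map_one' := he1, map_mul' := hem }
  have hE : Function.Surjective E := hφ.2
  have hlamE : ∀ i x, E (LambdaRing.LambdaOps.lam i x) = LambdaRing.LambdaOps.lam i (E x) := by
    intro i x
    obtain ⟨M, N, hM, hN, rfl⟩ := Groth.L12.KBunQ.exists_kc_sub x
    have key : ∀ M, FlatMod.IsFinLocFree M → ∀ j,
        E (LambdaRing.LambdaOps.lam j (Groth.L12.KBunQ.kc S M)) =
          LambdaRing.LambdaOps.lam j (E (Groth.L12.KBunQ.kc S M)) := fun M hM j => by
      obtain ⟨L, hL, hLp⟩ := hext j M hM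
      exact (congrArg E (Groth.L12.Kvb.lam_cl hM hLp)).trans (hlam j M L hM hL hLp).symm
    exact Groth.L12.KRR.lam_sub_induction' (fun j x => E (LambdaRing.LambdaOps.lam j x))
      (fun x => by rw [LambdaRing.LambdaOps.lam_zero, map_one])
      (fun k x x' => by simp only [LambdaRing.LambdaOps.lam_add, map_sum, map_mul])
      (fun j x => LambdaRing.LambdaOps.lam j (E x)) (fun x => LambdaRing.LambdaOps.lam_zero _)
      (fun k x x' => by simp only [map_add, LambdaRing.LambdaOps.lam_add]) (key M hM) (key N hN) i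
  refine ⟨fun n hn => ?_, fun n P hP x y => ?_, fun i j P hP x => ?_⟩
  · rw [← map_one E, ← hlamE, hsp.lam_one_eq_zero n hn, map_zero]
  · obtain ⟨x, rfl⟩ := hE x
    obtain ⟨y, rfl⟩ := hE y
    rw [← map_mul, ← hlamE, hsp.lam_mul n P hP, Groth.L08.Lambda.map_aeval_int E]
    refine congrArg (fun g => MvPolynomial.aeval g P) (funext fun k => ?_)
    rcases k with k | k <;> exact hlamE _ _
  · obtain ⟨x, rfl⟩ := hE x
    rw [← hlamE, ← hlamE, hsp.lam_lam i j P hP, Groth.L08.Lambda.map_aeval_int E]
    exact congrArg (fun g => MvPolynomial.aeval g P) (funext fun k => hlamE _ _)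


end Groth.Agent.S8692
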