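import Groth.Statements.S8693
import Groth.Agent.L12.KNil.Ample
-- import your own Groth.Agent.* helpers here

set_option autoImplicit false
universe v u
open CategoryTheory CategoryTheory.Limits AlgebraicGeometry
attribute [local instance] HasDerivedCategory.standard
open KRR

namespace Groth.Agent.S8693

/-- Let X be a connected quasi-compact scheme with an ample invertible O_X-module L, (K, P, φ) a model
of the λ-ring K(X) of finite locally free modules with its positive structure (augmentation ε =
rank), and E_1, …, E_k finite locally free O_X-modules. Let R ⊆ K(X) be the subring generated by the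
elements λ^j[E_i] for all i and j, which is the sub-λ-ring generated by the classes [E_i]. Then the
ideal R ∩ Ker ε of R is nilpotent: there is n such that every product of n elements of R of
augmentation zero vanishes; and R is finitely generated as an abelian group. (The published
statement allows X disconnected, with R a module of finite type over R ∩ H^0(X, ℤ), and also asserts
that the λ-ring filtration of R is discrete; this row takes X connected, as the model requires, and
states the nilpotency and the finite generation over the integers.) -/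
theorem result (X : Scheme.{u}) [ConnectedSpace ↥X] (L : X.Modules) (hL : CohB1.IsAmple L)
    (K : Type v) [CommRing K] [LambdaRing.LambdaOps K] (P : LambdaRing.PosStructure K) (φ : SGA6.Kvb X →+ K)
    (hK : KRR.IsModel X K P φ)
    (k : ℕ) (E : Fin k → X.Modules) (hE : ∀ i : Fin k, FlatMod.IsFinLocFree (E i)) :
    (∃ n : ℕ, ∀ f : Fin n → K,
      (∀ t : Fin n, f t ∈ Subring.closure {y : K | ∃ (i : Fin k) (j : ℕ), y = LambdaRing.LambdaOps.lam j (φ (KRR.cl X (E i)))} ∧ P.aug (f t) = 0) →
        ∏ t, f t = 0) ∧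
    (Subring.closure {y : K | ∃ (i : Fin k) (j : ℕ), y = LambdaRing.LambdaOps.lam j (φ (KRR.cl X (E i)))}).toAddSubgroup.FG := by
  classical
  choose r hr using fun i => Groth.L18.KRRAmple.exists_rank (hE i)
  set S : Set K := {y : K | ∃ (i : Fin k) (j : ℕ), y = LambdaRing.LambdaOps.lam j (φ (KRR.cl X (E i)))}
  have hz : ∀ (i : Fin k) (j : ℕ), r i < j → LambdaRing.LambdaOps.lam j (φ (KRR.cl X (E i))) = 0 := fun i j hj => by
    rcases Nat.eq_zero_or_pos (r i) with h0 | hpos
    · obtain ⟨j, rfl⟩ : ∃ j', j = j' + 1 := ⟨j - 1, by omega⟩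
      rw [show KRR.cl X (E i) = 0 from Groth.L29.KSub.clSub_zero (KRR.vbP X)
        (Groth.L12.Kvb.isZero_of_rank_zero (h0 ▸ hr i)) (hE i), map_zero]
      exact Groth.L22.Lambda.lam_succ_zero j
    · exact P.lam_eq_zero _ ((hK.mem_pos_iff _).2 ⟨r i, _, hpos, hr i, rfl⟩) _
        (by rw [hK.aug_cl _ _ (hr i)]; exact_mod_cast hj)
  have hS : S.Finite := by
    refine ((Set.finite_range fun p : Σ i : Fin k, Fin (r i + 1) =>
      LambdaRing.LambdaOps.lam (p.2 : ℕ) (φ (KRR.cl X (E p.1)))).union (Set.finite_singleton 0)).subset ?_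
    rintro y ⟨i, j, rfl⟩
    rcases Nat.lt_or_ge (r i) j with hj | hj
    · exact Or.inr (hz i j hj)
    · exact Or.inl ⟨⟨i, ⟨j, by omega⟩⟩, rfl⟩
  have hint : ∀ y ∈ S, IsIntegral ℤ y := fun y _ => by
    rw [show y = (y - (P.aug y : K)) + algebraMap ℤ K (P.aug y) by simp]
    refine IsIntegral.add ?_ isIntegral_algebraMap
    obtain ⟨n, hn⟩ := Groth.L12.KNil.isNilpotent_of_aug_eq_zero hK hL
      (show P.aug (y - (P.aug y : K)) = 0 by simp)
    exact ⟨Polynomial.X ^ n, Polynomial.monic_X_pow n, by simp [hn]⟩
  have hadj : (Algebra.adjoin ℤ S).toSubring = Subring.closure S := Algebra.adjoin_int S ▸ rfl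
  have hfg : (Algebra.adjoin ℤ S).toSubmodule.FG := fg_adjoin_of_finite hS hint
  set R := Subring.closure S
  refine ⟨?_, ?_⟩
  · haveI : Module.Finite ℤ (Algebra.adjoin ℤ S) := ⟨(Submodule.fg_top _).2 hfg⟩
    haveI : IsNoetherianRing (Algebra.adjoin ℤ S) :=
      isNoetherianRing_iff.2 (isNoetherian_of_tower ℤ (isNoetherian_of_isNoetherianRing_of_finite ℤ _))
    let J : Ideal (Algebra.adjoin ℤ S) := RingHom.ker (P.aug.comp (Algebra.adjoin ℤ S).val.toRingHom)
    have hJ : J ≤ nilradical (Algebra.adjoin ℤ S) := fun z hz => by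
      obtain ⟨n, hn⟩ := Groth.L12.KNil.isNilpotent_of_aug_eq_zero hK hL (show P.aug (z : K) = 0 from hz)
      exact ⟨n, Subtype.ext (by simpa using hn)⟩
    obtain ⟨n, hn⟩ := (Ideal.FG.isNilpotent_iff_le_nilradical (IsNoetherian.noetherian J)).2 hJ
    refine ⟨n, fun f hf => ?_⟩
    let g : Fin n → Algebra.adjoin ℤ S := fun t => ⟨f t, hadj.ge (hf t).1⟩
    have hg : ∏ t, g t ∈ J ^ n := by
      have := Ideal.prod_mem_prod (s := (Finset.univ : Finset (Fin n))) (I := fun _ => J) (x := g)
        fun t _ => show P.aug (f t) = 0 from (hf t).2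
      simpa using this
    rw [hn, Ideal.zero_eq_bot, Ideal.mem_bot] at hg
    simpa [g] using congrArg Subtype.val hg
  · have := (Submodule.fg_iff_addSubgroup_fg _).1 hfg
    have e : R.toAddSubgroup = (Algebra.adjoin ℤ S).toSubmodule.toAddSubgroup :=
      SetLike.ext fun z => (show z ∈ R ↔ z ∈ Algebra.adjoin ℤ S by rw [← hadj]; rfl)
    rw [e]
    exact this

end Groth.Agent.S8693
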