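import Groth.Statements.S8697
import Groth.Agent.L08.Lambda.FreeFil

set_option autoImplicit false
universe u v
open Finset
open LambdaRing

namespace Groth.Agent.S8697
open Groth.L08.Lambda

/-- Let K be a binomial ring with its binomial λ-structure and B a λ-ring in the strict sense which is
an augmented K-λ-algebra with augmentation ε. Let x ∈ B satisfy ε(x) = 0 and γ^k(x) = 0 for every k
> n, and assume that γ^1(x), …, γ^n(x) are algebraically independent over K and generate B as a
K-algebra — so B is the K-λ-algebra generated by one element subject to the relations γ^k = 0 for k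
> n, a polynomial ring K[γ^1 x, …, γ^n x]. Then for every k, the k-th ideal Fil^k B of the
γ-filtration (generated by the products of γ^{i}(z), ε(z) = 0, of total weight ≥ k) is the ideal
generated by the monomials ∏_j (γ^j x)^{e_j} with Σ_j j·e_j ≥ k: the λ-ring filtration is the
filtration by the weight in the γ^j x. (With λ in place of γ — relations λ^k x = 0 for k > n and
weights in the λ^j x — the assertion fails already for n = 1, where γ^i(x) = x for all i ≥ 1 puts x
in every Fil^k while x is not in the ideal (x²); the form with γ stated here is the one the proof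
establishes.) The hypotheses hP and hQ, existence of the universal polynomials, are true statements
carried so that the identities of B can be used at every index. -/
theorem result
    (K : Type u) [CommRing K] [LambdaRing.LambdaOps K] [BinomialRing K] (hKb : LambdaRing.IsBinomial K)
    (hK : LambdaRing.IsSpecial K)
    (B : Type v) [CommRing B] [LambdaRing.LambdaOps B] [Algebra K B] (hB : LambdaRing.IsSpecial B)
    (hP : ∀ n : ℕ, ∃ P : MvPolynomial (Fin n ⊕ Fin n) ℤ, LambdaRing.IsMulPoly n P)
    (hQ : ∀ i j : ℕ, ∃ Q : MvPolynomial (Fin (i * j)) ℤ, LambdaRing.IsCompPoly i j Q)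
    (ε : B →ₐ[K] K) (hε : LambdaRing.IsAugLambdaAlg K B ε)
    (n : ℕ) (x : B) (hx : ε x = 0) (hγ : ∀ k : ℕ, n < k → LambdaRing.gamma k x = 0)
    (hind : AlgebraicIndependent K (fun j : Fin n => LambdaRing.gamma ((j : ℕ) + 1) x))
    (hgen : Algebra.adjoin K (Set.range fun j : Fin n => LambdaRing.gamma ((j : ℕ) + 1) x) = ⊤)
    (k : ℕ) :
    LambdaRing.gammaFil (ε : B →+* K) k =
      Ideal.span {m : B | ∃ e : Fin n → ℕ, k ≤ ∑ j : Fin n, ((j : ℕ) + 1) * e j ∧
        m = ∏ j : Fin n, LambdaRing.gamma ((j : ℕ) + 1) x ^ e j} := by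
  let M : ℕ → Set B := fun k => {m : B | ∃ e : Fin n → ℕ, k ≤ ∑ j : Fin n, ((j : ℕ) + 1) * e j ∧
    m = ∏ j : Fin n, LambdaRing.gamma ((j : ℕ) + 1) x ^ e j}
  let F : Filt B :=
    { W := fun k => Ideal.span (M k)
      antitone := fun h => Ideal.span_mono fun _ ⟨e, he, hm⟩ => ⟨e, h.trans he, hm⟩
      one_mem := Ideal.subset_span ⟨0, Nat.zero_le _, by simp⟩
      mul_mem := fun {a b p q} hp hq => by
        have h : Ideal.span (M a) * Ideal.span (M b) ≤ Ideal.span (M (a + b)) := by
          rw [Ideal.span_mul_span']
          refine Ideal.span_le.2 ?_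
          rintro _ ⟨_, ⟨e, he, rfl⟩, _, ⟨e', he', rfl⟩, rfl⟩
          refine Ideal.subset_span ⟨e + e', ?_, ?_⟩
          · simp only [Pi.add_apply, mul_add, Finset.sum_add_distrib]; omega
          · simp only [Pi.add_apply, pow_add, Finset.prod_mul_distrib]
        exact h (Ideal.mul_mem_mul hp hq) }
  apply le_antisymm
  · refine gammaFil_le_of_adjoin hB hKb ε hε {x} (by simp [hx]) ?_ F ?_ k
    · rw [eq_top_iff, ← hgen]
      refine Algebra.adjoin_mono ?_
      rintro _ ⟨j, rfl⟩
      exact ⟨x, rfl, j, rfl⟩
    · intro y hy j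
      obtain rfl : y = x := hy
      by_cases hj : j < n
      · refine Ideal.subset_span ⟨fun i => if i = ⟨j, hj⟩ then 1 else 0, ?_, ?_⟩
        · simp
        · simp
      · rw [hγ (j + 1) (by omega)]; exact zero_mem _
  · refine Ideal.span_le.2 ?_
    rintro _ ⟨e, he, rfl⟩
    refine (gammaFilt (ε : B →+* K)).antitone (he.trans_eq (Finset.sum_congr rfl fun j _ => mul_comm _ _))
      ((gammaFilt (ε : B →+* K)).prod_mem _ _ _ fun j _ => ?_)
    exact (gammaFilt (ε : B →+* K)).pow_mem (gamma_mem_gammaFil (ε : B →+* K) hx _) _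

end Groth.Agent.S8697
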