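import Groth.Statements.S8698
import Groth.Agent.L08.Lambda.FreeFil

set_option autoImplicit false
universe u v w
open Finset
open LambdaRing

namespace Groth.Agent.S8698
open Groth.L08.Lambda

/-- Let K be a binomial ring with its binomial λ-structure, A a λ-ring in the strict sense which is an
augmented K-λ-algebra with augmentation ε_A, and B a λ-ring in the strict sense which is at once an
augmented K-λ-algebra with augmentation ε_B and an A-algebra compatibly with the K-structures, the
structure map A → B commuting with the λ^n and ε_B restricting to ε_A on A. Let x ∈ B with ε_B(x) =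
0, and assume that the family (γ^{j+1} x)_{j ∈ ℕ} is algebraically independent over A and generates
B as an A-algebra: B is the free λ-ring A[X, γ^2 X, γ^3 X, …] on one generator over A, augmented by
X ↦ 0. Then for every k the k-th ideal Fil^k B of the γ-filtration of B is the ideal generated by
the products a · m where m = ∏_j (γ^{j+1} x)^{e_j} is a monomial of weight i = Σ_j (j+1) e_j and a
lies in (the image of) Fil^{k−i} A, with Fil^s A = A for s ≤ 0; that is, Fil^k B = Fil^k A +
Fil^{k−1} A·M_1 + ⋯ + Fil^0 A·M_k + (monomials of weight > k), M_i denoting the monomials of weight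
i. The hypotheses hP and hQ, existence of the universal polynomials, are true statements carried so
that the identities of A and B can be used at every index. -/
theorem result
    (K : Type u) [CommRing K] [LambdaRing.LambdaOps K] [BinomialRing K] (hKb : LambdaRing.IsBinomial K)
    (hK : LambdaRing.IsSpecial K)
    (A : Type v) [CommRing A] [LambdaRing.LambdaOps A] [Algebra K A] (hA : LambdaRing.IsSpecial A)
    (εA : A →ₐ[K] K) (hεA : LambdaRing.IsAugLambdaAlg K A εA)
    (B : Type w) [CommRing B] [LambdaRing.LambdaOps B] [Algebra K B] [Algebra A B] [IsScalarTower K A B]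
    (hB : LambdaRing.IsSpecial B) (hAB : LambdaRing.IsLambdaAlg A B)
    (εB : B →ₐ[K] K) (hεB : LambdaRing.IsAugLambdaAlg K B εB) (hεAB : ∀ a : A, εB (algebraMap A B a) = εA a)
    (hP : ∀ n : ℕ, ∃ P : MvPolynomial (Fin n ⊕ Fin n) ℤ, LambdaRing.IsMulPoly n P)
    (hQ : ∀ i j : ℕ, ∃ Q : MvPolynomial (Fin (i * j)) ℤ, LambdaRing.IsCompPoly i j Q)
    (x : B) (hx : εB x = 0)
    (hind : AlgebraicIndependent A (fun j : ℕ => LambdaRing.gamma (j + 1) x))
    (hgen : Algebra.adjoin A (Set.range fun j : ℕ => LambdaRing.gamma (j + 1) x) = ⊤)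
    (k : ℕ) :
    LambdaRing.gammaFil (εB : B →+* K) k =
      Ideal.span {b : B | ∃ (e : ℕ →₀ ℕ) (a : A),
        a ∈ LambdaRing.gammaFil (εA : A →+* K) (k - e.sum fun j n => (j + 1) * n) ∧
        b = algebraMap A B a * e.prod fun j n => LambdaRing.gamma (j + 1) x ^ n} := by
  let M : ℕ → Set B := fun k => {b : B | ∃ (e : ℕ →₀ ℕ) (a : A),
    a ∈ LambdaRing.gammaFil (εA : A →+* K) (k - e.sum fun j n => (j + 1) * n) ∧
    b = algebraMap A B a * e.prod fun j n => LambdaRing.gamma (j + 1) x ^ n}
  let F : Filt B :=
    { W := fun k => Ideal.span (M k)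
      antitone := fun h => Ideal.span_mono fun _ ⟨e, a, ha, hb⟩ =>
        ⟨e, a, (gammaFilt (εA : A →+* K)).antitone (Nat.sub_le_sub_right h _) ha, hb⟩
      one_mem := Ideal.subset_span ⟨0, 1, by simpa using mem_gammaFil_zero (εA : A →+* K) 1, by simp⟩
      mul_mem := fun {a b p q} hp hq => by
        have h : Ideal.span (M a) * Ideal.span (M b) ≤ Ideal.span (M (a + b)) := by
          rw [Ideal.span_mul_span']
          refine Ideal.span_le.2 ?_
          rintro _ ⟨_, ⟨e, s, hs, rfl⟩, _, ⟨e', s', hs', rfl⟩, rfl⟩
          refine Ideal.subset_span ⟨e + e', s * s', ?_, ?_⟩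
          · refine (gammaFilt (εA : A →+* K)).antitone ?_ ((gammaFilt (εA : A →+* K)).mul_mem hs hs')
            have hsum : ((e + e').sum fun j n => (j + 1) * n) =
                (e.sum fun j n => (j + 1) * n) + e'.sum fun j n => (j + 1) * n :=
              Finsupp.sum_add_index' (fun _ => mul_zero _) (fun _ _ _ => mul_add _ _ _)
            omega
          · simp only
            rw [Finsupp.prod_add_index' (fun j => pow_zero _) (fun j b c => pow_add _ b c), map_mul]
            ring
        exact h (Ideal.mul_mem_mul hp hq) }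
  apply le_antisymm
  · refine gammaFil_le_of_adjoin hB hKb εB hεB
      (insert x (algebraMap A B '' {a | εA a = 0})) ?_ ?_ F ?_ k
    · rintro y (rfl | ⟨a, ha, rfl⟩)
      · exact hx
      · rw [hεAB]; exact ha
    · rw [eq_top_iff]
      rintro b -
      have hb : b ∈ Algebra.adjoin A (Set.range fun j : ℕ => LambdaRing.gamma (j + 1) x) := by
        rw [hgen]; exact Algebra.mem_top
      induction hb using Algebra.adjoin_induction with
      | mem b hb =>
        obtain ⟨j, rfl⟩ := hb
        exact Algebra.subset_adjoin ⟨x, Set.mem_insert _ _, j, rfl⟩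
      | algebraMap a =>
        rw [← add_sub_cancel (algebraMap K A (εA a)) a, map_add, ← IsScalarTower.algebraMap_apply]
        refine add_mem (Subalgebra.algebraMap_mem _ _) (Algebra.subset_adjoin
          ⟨_, Set.mem_insert_of_mem _ ⟨a - algebraMap K A (εA a), by simp, rfl⟩, 0, ?_⟩)
        rw [Groth.L08.Lambda.gamma_one]
      | add a b _ _ ha hb => exact add_mem ha hb
      | mul a b _ _ ha hb => exact mul_mem ha hb
    · rintro y (rfl | ⟨a, ha, rfl⟩) j
      · exact Ideal.subset_span ⟨Finsupp.single j 1, 1, by simpa using mem_gammaFil_zero _ _, by simp⟩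
      · refine Ideal.subset_span ⟨0, LambdaRing.gamma (j + 1) a, ?_, ?_⟩
        · simpa using gamma_mem_gammaFil (εA : A →+* K) ha (j + 1)
        · rw [Groth.L08.Lambda.map_gamma (algebraMap A B) hAB]; simp
  · refine Ideal.span_le.2 ?_
    rintro _ ⟨e, a, ha, rfl⟩
    have h1 := Groth.L08.Lambda.map_gammaFil_le (algebraMap A B) hAB (εA : A →+* K) (εB : B →+* K)
      hεAB ha
    have h2 := (gammaFilt (εB : B →+* K)).prod_mem e.support
      (fun j => LambdaRing.gamma (j + 1) x ^ e j) (fun j => e j * (j + 1))
      fun j _ => (gammaFilt (εB : B →+* K)).pow_mem (gamma_mem_gammaFil (εB : B →+* K) hx _) _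
    refine (gammaFilt (εB : B →+* K)).antitone ?_ ((gammaFilt (εB : B →+* K)).mul_mem h1 h2)
    rw [Finsupp.sum, Finset.sum_congr rfl fun j _ => mul_comm (j + 1) (e j)]
    omega

end Groth.Agent.S8698
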