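import Groth.Statements.S8702
import Groth.Agent.L08.Lambda.Special

set_option autoImplicit false
universe u
open LambdaRing

namespace Groth.Agent.S8702
open Groth.L08.Lambda

/-- Let K be a commutative ring which is an algebra over the rationals, and let ψ^k : K → K, k ≥ 1, be
additive maps with ψ^1 the identity. Then there is one and only one pre-λ-structure on K whose Adams
operations (defined through the logarithmic derivative of λ_t) are the ψ^k for every k ≥ 1, namely
λ_t(x) = exp(Σ_{k ≥ 1} (−1)^{k−1} ψ^k(x) t^k / k): in characteristic zero, pre-λ-structures and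
families of additive operations ψ^k with ψ^1 = id determine each other. (The value of the family at
k = 0 is ignored.) -/
theorem result (K : Type u) [CommRing K] [Algebra ℚ K]
    (ψ : ℕ → K →+ K) (hψ : ψ 1 = AddMonoidHom.id K) :
    ∃! L : LambdaRing.LambdaOps K, ∀ k : ℕ, 1 ≤ k → ∀ x : K, @LambdaRing.adamsOp K _ L k x = ψ k x := by
  have hadd : ∀ (k : ℕ) (x y : K), ofGh (fun j => ψ j (x + y)) k =
      ∑ i ∈ Finset.range (k + 1), ofGh (fun j => ψ j x) i * ofGh (fun j => ψ j y) (k - i) := by
    intro k x y
    have h := (newton_ofGh fun j => ψ j x).mul (newton_ofGh fun j => ψ j y)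
      (d := fun n => ∑ i ∈ Finset.range (n + 1), ofGh (fun j => ψ j x) i * ofGh (fun j => ψ j y) (n - i))
      (by
        ext n
        rw [PowerSeries.coeff_mk, PowerSeries.coeff_mul,
          Finset.Nat.sum_antidiagonal_eq_sum_range_succ_mk]
        simp)
    have e := h.eq_ofGh k
    rw [show (fun j => ψ j (x + y)) = fun j => ψ j x + ψ j y from funext fun j => map_add (ψ j) x y]
    exact e.symm
  have hone : ∀ x : K, ofGh (fun j => ψ j x) 1 = x := by
    intro x
    have h := (newton_ofGh fun j => ψ j x).2 0
    simpa [(newton_ofGh fun j => ψ j x).1, hψ] using h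
  let L : LambdaRing.LambdaOps K :=
    { lam := fun i x => ofGh (fun j => ψ j x) i
      lam_zero := fun x => (newton_ofGh fun j => ψ j x).1
      lam_one := hone
      lam_add := hadd }
  refine ⟨L, fun k hk x => ?_, fun L' hL' => ?_⟩
  · letI := L
    rw [adamsOp_eq_gh hk]
    exact gh_ofGh _ k hk
  · obtain ⟨lam', a, b, c⟩ := L'
    have e : lam' = fun i x => ofGh (fun j => ψ j x) i := by
      funext i x
      letI : LambdaRing.LambdaOps K := ⟨lam', a, b, c⟩
      exact (Groth.L08.Lambda.lam_eq_ofGh x i).trans
        (ofGh_congr i (fun k hk _ => hL' k hk x) i le_rfl)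
    subst e
    rfl

end Groth.Agent.S8702
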