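import Groth.Statements.S8705
import Mathlib.Tactic.Abel
import Mathlib.LinearAlgebra.Quotient.Basic
import Mathlib.LinearAlgebra.Finsupp.LinearCombination

set_option autoImplicit false
universe u
open SGA7

namespace Groth.Agent.S8705

/-- The extension of `P` by `M` along a normalised symmetric cocycle. -/
structure Ext2 {P M : Type u} (c : P → P → M) where
  /-- fibre coordinate -/
  m : M
  /-- base coordinate -/
  p : P

theorem Ext2.ext' {P M : Type u} {c : P → P → M} {a b : Ext2 c} (h1 : a.m = b.m) (h2 : a.p = b.p) :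
    a = b := by
  cases a; cases b; congr

/-- The abelian group structure on the extension. -/
abbrev Ext2.group {P M : Type u} [AddCommGroup P] [AddCommGroup M] (c : P → P → M)
    (hsymm : ∀ p q, c p q = c q p)
    (hcoc : ∀ p q r, c (p + q) r + c p q = c p (q + r) + c q r) : AddCommGroup (Ext2 c) where
  add a b := ⟨a.m + b.m + c a.p b.p, a.p + b.p⟩
  zero := ⟨-c 0 0, 0⟩
  neg a := ⟨-a.m - c a.p (-a.p) - c 0 0, -a.p⟩
  nsmul := @nsmulRec _ ⟨⟨-c 0 0, 0⟩⟩ ⟨fun a b => ⟨a.m + b.m + c a.p b.p, a.p + b.p⟩⟩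
  zsmul := @zsmulRec _ ⟨⟨-c 0 0, 0⟩⟩ ⟨fun a b => ⟨a.m + b.m + c a.p b.p, a.p + b.p⟩⟩
    ⟨fun a => ⟨-a.m - c a.p (-a.p) - c 0 0, -a.p⟩⟩ (@nsmulRec _ ⟨⟨-c 0 0, 0⟩⟩ ⟨fun a b => ⟨a.m + b.m + c a.p b.p, a.p + b.p⟩⟩)
  add_assoc x y z := by
    refine Ext2.ext' ?_ (add_assoc _ _ _)
    show x.m + y.m + c x.p y.p + z.m + c (x.p + y.p) z.p
      = x.m + (y.m + z.m + c y.p z.p) + c x.p (y.p + z.p)
    have := hcoc x.p y.p z.p
    calc x.m + y.m + c x.p y.p + z.m + c (x.p + y.p) z.p
        = x.m + y.m + z.m + (c (x.p + y.p) z.p + c x.p y.p) := by abel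
      _ = x.m + y.m + z.m + (c x.p (y.p + z.p) + c y.p z.p) := by rw [this]
      _ = _ := by abel
  zero_add x := by
    refine Ext2.ext' ?_ (zero_add _)
    show -c 0 0 + x.m + c 0 x.p = x.m
    have := hcoc 0 0 x.p
    simp only [add_zero, zero_add, add_right_inj] at this
    rw [this]; abel
  add_zero x := by
    refine Ext2.ext' ?_ (add_zero _)
    show x.m + -c 0 0 + c x.p 0 = x.m
    have := hcoc 0 0 x.p
    simp only [add_zero, zero_add, add_right_inj] at this
    rw [hsymm x.p 0, this]; abel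
  neg_add_cancel x := by
    refine Ext2.ext' ?_ (neg_add_cancel _)
    show -x.m - c x.p (-x.p) - c 0 0 + x.m + c (-x.p) x.p = -c 0 0
    rw [hsymm (-x.p)]; abel
  add_comm x y := by
    refine Ext2.ext' ?_ (add_comm _ _)
    show x.m + y.m + c x.p y.p = y.m + x.m + c y.p x.p
    rw [hsymm]; abel

theorem ker_d0_le {P : Type u} [AddCommGroup P] (d₀ : (P × P →₀ ℤ) →ₗ[ℤ] (P →₀ ℤ))
    (hd₀ : ∀ p q : P, d₀ (Finsupp.single (p, q) 1) =
      Finsupp.single (p + q) 1 - Finsupp.single p 1 - Finsupp.single q 1)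
    (K : Submodule ℤ (P × P →₀ ℤ))
    (hK1 : ∀ p q r : P, Finsupp.single (p + q, r) (1 : ℤ) - Finsupp.single (p, q + r) 1
        + Finsupp.single (p, q) 1 - Finsupp.single (q, r) 1 ∈ K)
    (hK2 : ∀ p q : P, Finsupp.single (p, q) (1 : ℤ) - Finsupp.single (q, p) 1 ∈ K) :
    LinearMap.ker d₀ ≤ K := by
  let c : P → P → (P × P →₀ ℤ) ⧸ K := fun p q => K.mkQ (Finsupp.single (p, q) 1)
  have hsymm : ∀ p q, c p q = c q p := fun p q => (Submodule.Quotient.eq K).2 (hK2 p q)
  have hcoc : ∀ p q r, c (p + q) r + c p q = c p (q + r) + c q r := by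
    intro p q r
    rw [← map_add, ← map_add]
    refine (Submodule.Quotient.eq K).2 ?_
    convert hK1 p q r using 1
    abel
  letI := Ext2.group c hsymm hcoc
  let ι : ((P × P →₀ ℤ) ⧸ K) →+ Ext2 c :=
    { toFun := fun m => ⟨m - c 0 0, 0⟩
      map_zero' := Ext2.ext' (zero_sub _) rfl
      map_add' := fun a b => by
        refine Ext2.ext' ?_ (add_zero (0 : P)).symm
        show a + b - c 0 0 = a - c 0 0 + (b - c 0 0) + c 0 0
        abel }
  let φ : (P →₀ ℤ) →+ Ext2 c :=
    Finsupp.liftAddHom (fun p => zmultiplesHom (Ext2 c) (⟨0, p⟩ : Ext2 c))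
  have hφ : ∀ p, φ (Finsupp.single p 1) = (⟨0, p⟩ : Ext2 c) := fun p => by simp [φ]
  have key : φ.comp d₀.toAddMonoidHom = -(ι.comp K.mkQ.toAddMonoidHom) := by
    refine Finsupp.addHom_ext' fun pq => AddMonoidHom.ext_int ?_
    obtain ⟨p, q⟩ := pq
    show φ (d₀ (Finsupp.single (p, q) 1)) = -(ι (c p q))
    rw [hd₀, map_sub, map_sub, hφ, hφ, hφ]
    have hsum : ι (c p q) + (⟨0, p + q⟩ : Ext2 c) = ⟨0, p⟩ + ⟨0, q⟩ := by
      refine Ext2.ext' ?_ (zero_add _)
      show c p q - c 0 0 + 0 + c 0 (p + q) = 0 + 0 + c p q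
      have := hcoc 0 0 (p + q)
      simp only [add_zero, zero_add, add_right_inj] at this
      rw [this]; abel
    have : (⟨0, p⟩ + ⟨0, q⟩ : Ext2 c) - ⟨0, p + q⟩ = ι (c p q) := by rw [← hsum, add_sub_cancel_right]
    rw [← this]; abel
  intro x hx
  have h := DFunLike.congr_fun key x
  have hx' : d₀ x = 0 := hx
  simp only [AddMonoidHom.coe_comp, Function.comp_apply, AddMonoidHom.neg_apply] at h
  change φ (d₀ x) = -(ι (K.mkQ x)) at h
  rw [hx', map_zero, eq_comm, neg_eq_zero] at h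
  have hm : K.mkQ x - c 0 0 = -c 0 0 := congrArg Ext2.m h
  rw [sub_eq_add_neg, add_eq_right] at hm
  exact (Submodule.Quotient.mk_eq_zero K).1 hm

/-- In the case of the punctual topos (ordinary abelian groups): let P be an abelian group and consider
the complex of free abelian groups Z[P × P × P] ⊕ Z[P × P] → Z[P × P] → Z[P], augmented to P by [p]
↦ p, with d₀[p, q] = [p + q] − [p] − [q], with d₁ on the first summand given by [p, q, r] ↦ [p + q,
r] − [p, q + r] + [p, q] − [q, r] and on the second summand by [p, q] ↦ [p, q] − [q, p]. Then the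
augmentation is surjective with kernel the image of d₀ (so H₀ is P), and the kernel of d₀ is the sum
of the images of the two components of d₁ (so H₁ vanishes). (The published statement is for abelian
sheaves on an arbitrary topos; this row is its case of a one-point space.) -/
theorem result (P : Type u) [AddCommGroup P] :
    letI ε : (P →₀ ℤ) →ₗ[ℤ] P := Finsupp.linearCombination ℤ (fun p : P => p)
    letI d₀ : (P × P →₀ ℤ) →ₗ[ℤ] (P →₀ ℤ) := Finsupp.linearCombination ℤ
      (fun pq : P × P => Finsupp.single (pq.1 + pq.2) 1 - Finsupp.single pq.1 1 - Finsupp.single pq.2 1)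
    letI d₁ : (P × P × P →₀ ℤ) →ₗ[ℤ] (P × P →₀ ℤ) := Finsupp.linearCombination ℤ
      (fun t : P × P × P => Finsupp.single (t.1 + t.2.1, t.2.2) 1 - Finsupp.single (t.1, t.2.1 + t.2.2) 1
        + Finsupp.single (t.1, t.2.1) 1 - Finsupp.single (t.2.1, t.2.2) 1)
    letI d₁' : (P × P →₀ ℤ) →ₗ[ℤ] (P × P →₀ ℤ) := Finsupp.linearCombination ℤ
      (fun pq : P × P => Finsupp.single pq 1 - Finsupp.single (pq.2, pq.1) 1)
    Function.Surjective ε ∧ LinearMap.ker ε = LinearMap.range d₀ ∧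
      LinearMap.ker d₀ = LinearMap.range d₁ ⊔ LinearMap.range d₁' := by
  let ε : (P →₀ ℤ) →ₗ[ℤ] P := Finsupp.linearCombination ℤ (fun p : P => p)
  let d₀ : (P × P →₀ ℤ) →ₗ[ℤ] (P →₀ ℤ) := Finsupp.linearCombination ℤ
      (fun pq : P × P => Finsupp.single (pq.1 + pq.2) 1 - Finsupp.single pq.1 1 - Finsupp.single pq.2 1)
  let d₁ : (P × P × P →₀ ℤ) →ₗ[ℤ] (P × P →₀ ℤ) := Finsupp.linearCombination ℤ
      (fun t : P × P × P => Finsupp.single (t.1 + t.2.1, t.2.2) 1 - Finsupp.single (t.1, t.2.1 + t.2.2) 1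
        + Finsupp.single (t.1, t.2.1) 1 - Finsupp.single (t.2.1, t.2.2) 1)
  let d₁' : (P × P →₀ ℤ) →ₗ[ℤ] (P × P →₀ ℤ) := Finsupp.linearCombination ℤ
      (fun pq : P × P => Finsupp.single pq 1 - Finsupp.single (pq.2, pq.1) 1)
  show Function.Surjective ε ∧ LinearMap.ker ε = LinearMap.range d₀ ∧
      LinearMap.ker d₀ = LinearMap.range d₁ ⊔ LinearMap.range d₁'
  have hε : ∀ p : P, ε (Finsupp.single p 1) = p := fun p => by simp [ε]
  have hd₀ : ∀ p q : P, d₀ (Finsupp.single (p, q) 1) =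
      Finsupp.single (p + q) 1 - Finsupp.single p 1 - Finsupp.single q 1 := fun p q => by simp [d₀]
  have hd₁ : ∀ t : P × P × P, d₁ (Finsupp.single t 1) =
      Finsupp.single (t.1 + t.2.1, t.2.2) 1 - Finsupp.single (t.1, t.2.1 + t.2.2) 1
        + Finsupp.single (t.1, t.2.1) 1 - Finsupp.single (t.2.1, t.2.2) 1 := fun t => by simp [d₁]
  have hd₁' : ∀ pq : P × P, d₁' (Finsupp.single pq 1) =
      Finsupp.single pq 1 - Finsupp.single (pq.2, pq.1) 1 := fun t => by simp [d₁']
  have hle : LinearMap.range d₀ ≤ LinearMap.ker ε := by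
    rw [LinearMap.range_le_ker_iff]
    ext pq
    simp [hd₀, hε]
  refine ⟨fun p => ⟨_, hε p⟩, le_antisymm ?_ hle, le_antisymm ?_ ?_⟩
  · -- every chain is congruent to the single chain of its augmentation
    let π := (LinearMap.range d₀).mkQ
    let s : P → (P →₀ ℤ) ⧸ LinearMap.range d₀ := fun p => π (Finsupp.single p 1)
    have hs : ∀ p q, s (p + q) = s p + s q := by
      intro p q
      rw [← map_add]
      refine (Submodule.Quotient.eq _).2 ⟨Finsupp.single (p, q) 1, ?_⟩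
      rw [hd₀]; abel
    let sh : P →+ (P →₀ ℤ) ⧸ LinearMap.range d₀ := AddMonoidHom.mk' s hs
    have key : π.toAddMonoidHom = sh.comp ε.toAddMonoidHom := by
      refine Finsupp.addHom_ext' fun p => AddMonoidHom.ext_int ?_
      show π (Finsupp.single p 1) = s (ε (Finsupp.single p 1))
      rw [hε]
    intro x hx
    have h := DFunLike.congr_fun key x
    change π x = sh (ε x) at h
    rw [LinearMap.mem_ker.1 hx, map_zero] at h
    exact (Submodule.Quotient.mk_eq_zero _).1 h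
  · refine ker_d0_le d₀ hd₀ _ (fun p q r => ?_) (fun p q => ?_)
    · exact Submodule.mem_sup_left ⟨Finsupp.single (p, q, r) 1, hd₁ (p, q, r)⟩
    · exact Submodule.mem_sup_right ⟨Finsupp.single (p, q) 1, hd₁' (p, q)⟩
  · refine sup_le ?_ ?_ <;> rw [LinearMap.range_le_ker_iff]
    · ext t
      simp [hd₁, hd₀, add_assoc]
      abel
    · ext t
      simp [hd₁', hd₀, add_comm]
      abel

end Groth.Agent.S8705
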