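import Groth.Statements.S8710
import Groth.Agent.L28.FibreTensor
import Groth.Agent.L28.TorFacts

set_option autoImplicit false
universe u
open CategoryTheory CategoryTheory.Limits
open SGA7

namespace Groth.Agent.S8710


open MonoidalCategory Groth.L28 in
theorem main {R : Type u} [CommRing R] {B' B C P N : ModuleCat.{u} R} [Module.Flat R B']
    {f : B' →ₗ[R] B} {g : C →ₗ[R] B} {p₁ : P →ₗ[R] B'} {p₂ : P →ₗ[R] C}
    (h : FibreTensor.IsFibre f g p₁ p₂) (hf : Function.Surjective f) (i : ℕ)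
    (hC : IsZero (((Tor (ModuleCat.{u} R) (i + 1)).obj C).obj N))
    (hB : IsZero (((Tor (ModuleCat.{u} R) (i + 2)).obj B).obj N)) :
    IsZero (((Tor (ModuleCat.{u} R) (i + 1)).obj P).obj N) := by
  let Q := projectiveResolution N
  have hQ := Balance.isRes_projectiveResolution Q
  have key : ∀ (X : ModuleCat.{u} R) (j : ℕ),
      IsZero (((Tor (ModuleCat.{u} R) (j + 1)).obj X).obj N) ↔
        ∀ x : TensorProduct R X (Q.complex.X (j + 1)),
          (Q.complex.d (j + 1) j).hom.lTensor X x = 0 →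
            ∃ y, (Q.complex.d (j + 2) (j + 1)).hom.lTensor X y = x := by
    intro X j
    refine ((Q.isoLeftDerivedObj ((tensoringLeft _).obj X) (j + 1)).isZero_iff).trans ?_
    exact HomElt.isZero_homology_iff (i := j + 2) (k := j) ((ComplexShape.down ℕ).prev_eq' rfl)
      ((ComplexShape.down ℕ).next_eq' rfl)
  rw [key] at hC hB ⊢
  have nat : ∀ {X Y : ModuleCat.{u} R} (φ : X →ₗ[R] Y) (a b : ℕ)
      (w : TensorProduct R X (Q.complex.X a)),
      φ.rTensor (Q.complex.X b) ((Q.complex.d a b).hom.lTensor X w) =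
        (Q.complex.d a b).hom.lTensor Y (φ.rTensor (Q.complex.X a) w) := by
    intros
    rw [← LinearMap.comp_apply, LinearMap.rTensor_comp_lTensor, ← LinearMap.comp_apply,
      LinearMap.lTensor_comp_rTensor]
  have hfl := hQ.flat
  intro x hx
  obtain ⟨y₂, hy₂⟩ := hC (p₂.rTensor _ x) (by rw [← nat, hx, map_zero])
  obtain ⟨y₁, hy₁⟩ := (Module.Flat.lTensor_exact B' (hQ.exact i) (p₁.rTensor _ x)).mp
    (by rw [← nat, hx, map_zero])
  obtain ⟨z, hz⟩ := hB (f.rTensor _ y₁ - g.rTensor _ y₂) (by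
    rw [map_sub, ← nat, ← nat, hy₁, hy₂, ← LinearMap.comp_apply, ← LinearMap.rTensor_comp,
      ← LinearMap.comp_apply, ← LinearMap.rTensor_comp, h.comm, sub_self])
  obtain ⟨z', rfl⟩ := LinearMap.rTensor_surjective (Q.complex.X (i + 3)) hf z
  obtain ⟨y, hy1, hy2⟩ := (FibreTensor.tensor_flat' (S := Q.complex.X (i + 2)) h hf).2
    (y₁ - (Q.complex.d (i + 3) (i + 2)).hom.lTensor B' z') y₂
    (by rw [map_sub, nat, hz, sub_sub_cancel])
  refine ⟨y, sub_eq_zero.mp ((FibreTensor.tensor_flat' (S := Q.complex.X (i + 1)) h hf).1 _ ?_ ?_)⟩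
  · rw [map_sub, nat, hy1, map_sub, hy₁, sub_sub_cancel_left, neg_eq_zero,
      ← LinearMap.comp_apply, ← LinearMap.lTensor_comp, (hQ.exact (i + 1)).linearMap_comp_eq_zero,
      LinearMap.lTensor_zero, LinearMap.zero_apply]
  · rw [map_sub, nat, hy2, hy₂, sub_self]

/-- Let f : B' → B be a surjective map of R-algebras with B' flat over R, g : C → B a map of R-algebras,
P = B' ×_B C their fibre product (the equalizer of f ∘ pr₁ and g ∘ pr₂ in B' × C), S an R-algebra
and n a natural number. If Tor_i^R(C, S) = 0 for 0 < i < n and Tor_i^R(B, S) = 0 for 0 < i ≤ n, then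
Tor_i^R(P, S) = 0 for 0 < i < n. Here Tor_i^R(M, S) is the i-th left derived functor of M ⊗_R − on
R-modules, evaluated at S. (The published statement asks the vanishing for B only in degrees 0 < i <
n; the published proof and the corollary following it use it in degrees 0 < i ≤ n, which this row
assumes.) -/
theorem result (R B' B C S : Type u) [CommRing R] [CommRing B'] [CommRing B]
    [CommRing C] [CommRing S] [Algebra R B'] [Algebra R B] [Algebra R C] [Algebra R S]
    (f : B' →ₐ[R] B) (hf : Function.Surjective f) (g : C →ₐ[R] B) [Module.Flat R B'] (n : ℕ)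
    (hC : ∀ i : ℕ, 0 < i → i < n →
      IsZero (((Tor (ModuleCat.{u} R) i).obj (ModuleCat.of R C)).obj (ModuleCat.of R S)))
    (hB : ∀ i : ℕ, 0 < i → i ≤ n →
      IsZero (((Tor (ModuleCat.{u} R) i).obj (ModuleCat.of R B)).obj (ModuleCat.of R S))) :
    letI P := AlgHom.equalizer (f.comp (AlgHom.fst R B' C)) (g.comp (AlgHom.snd R B' C))
    ∀ i : ℕ, 0 < i → i < n →
      IsZero (((Tor (ModuleCat.{u} R) i).obj (ModuleCat.of R ↥P)).obj (ModuleCat.of R S)) := by
  intro i hi hin
  let P := AlgHom.equalizer (f.comp (AlgHom.fst R B' C)) (g.comp (AlgHom.snd R B' C))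
  obtain ⟨k, rfl⟩ : ∃ k, i = k + 1 := ⟨i - 1, by omega⟩
  exact main (R := R) (B' := ModuleCat.of R B') (B := ModuleCat.of R B) (C := ModuleCat.of R C)
    (P := ModuleCat.of R ↥P) (N := ModuleCat.of R S) (f := f.toLinearMap) (g := g.toLinearMap)
    (p₁ := ((AlgHom.fst R B' C).comp P.val).toLinearMap)
    (p₂ := ((AlgHom.snd R B' C).comp P.val).toLinearMap)
    ⟨LinearMap.ext fun z => z.2, fun z h1 h2 => Subtype.ext (Prod.ext h1 h2),
      fun x y hxy => ⟨⟨(x, y), hxy⟩, rfl, rfl⟩⟩
    hf k (hC (k + 1) hi hin) (hB (k + 2) (by omega) (by omega))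

end Groth.Agent.S8710
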