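import Groth.Statements.S8711
import Groth.Agent.L19.ExtGm.Global

set_option autoImplicit false
universe u
open CategoryTheory CategoryTheory.Limits MonoidalCategory CartesianMonoidalCategory MonObj AlgebraicGeometry
open SGA7

namespace Groth.Agent.S8711

/-- Let S be a scheme, Q a commutative S-group scheme which is either finite locally free over S
(finite, flat and locally of finite presentation) or of multiplicative type and of finite type over
S, and u : G_m → E, v : E → Q homomorphisms of commutative S-group schemes forming a sequence 1 →
G_m → E → Q → 1 exact for the fppf topology. Then the extension splits locally on S for the fppf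
topology: every point of S is in the image of a flat morphism locally of finite presentation S' → S
such that after base change to S' there is a homomorphism Q_{S'} → E_{S'} which is a section of
v_{S'}. -/
theorem result (S : Scheme.{u})
    (Q E : Over S) [GrpObj Q] [GrpObj E] [IsCommMonObj Q] [IsCommMonObj E]
    (hQ : (IsFinite Q.hom ∧ Flat Q.hom ∧ LocallyOfFinitePresentation Q.hom) ∨ SGA3x.IsMultTypeFT Q)
    (u : Red.Gm S ⟶ E) (v : E ⟶ Q) (hex : NonAbH1.IsExactSeq Scheme.fppfPrecoverage u v) :
    TwC.Locally S TwC.Topology.fppf (fun S' f =>
      ∃ σ : Red.bc f Q ⟶ Red.bc f E, IsMonHom σ ∧ σ ≫ (Over.pullback f).map v = 𝟙 (Red.bc f Q)) := by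
  intro s
  exact Groth.L19.ExtGm.splits_fppfLocally hQ u v hex s

end Groth.Agent.S8711
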