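import Groth.Statements.S8717
import Groth.Agent.L15.ConstExt.Transfer
import Groth.Agent.L15.ConstExt.Bij
import Groth.Agent.L15.ConstExt.Split
import Groth.Agent.S9812
-- import your own Groth.Agent.* helpers here

set_option autoImplicit false
set_option linter.style.haveILetI false
set_option backward.isDefEq.respectTransparency.types false
universe u
open CategoryTheory CategoryTheory.Limits MonoidalCategory CartesianMonoidalCategory MonObj AlgebraicGeometry
open SGA7

namespace Groth.Agent.S8717

private theorem isGeomUnibranch_stalk_spec (A : CommRingCat.{u}) [IsDomain A] [IsIntegrallyClosed A] (p : Spec A) :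
    CAlg2.IsGeomUnibranch ((Spec A).presheaf.stalk p) := by
  haveI : IsLocalization.AtPrime ((Spec.structureSheaf A).presheaf.stalk p) p.asIdeal :=
    StructureSheaf.IsLocalization.to_stalk A p
  haveI : IsIntegrallyClosed ((Spec A).presheaf.stalk p) :=
    isIntegrallyClosed_of_isLocalization ((Spec.structureSheaf A).presheaf.stalk p) p.asIdeal.primeCompl
      p.asIdeal.primeCompl_le_nonZeroDivisors
  exact Groth.Agent.S9812.result _

/-- Let S be an irreducible scheme all of whose local rings are geometrically unibranch, ξ its generic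
point and i : Spec κ(ξ) → S the canonical morphism, Z a group without non-trivial elements of finite
order, G the constant S-group scheme Z_S (through eG), P a smooth S-group scheme, and u' : G_η → E',
v' : E' → P_η homomorphisms of group schemes over κ(ξ) forming a sequence 1 → G_η → E' → P_η → 1
exact for the fppf topology (G_η = G ×_S Spec κ(ξ), P_η likewise). Then the extension comes from S:
there are an S-group scheme E, homomorphisms u : G → E, v : E → P forming a sequence exact for the
fppf topology, and an isomorphism of group schemes E_η ≅ E' carrying u_η to u' and v_η to v'. (The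
published statement asserts that E ↦ E_η is an equivalence of categories of extensions; only
essential surjectivity is stated.) -/
theorem result (S : Scheme.{u}) [IrreducibleSpace ↥S]
    (hS : ∀ s : ↥S, CAlg2.IsGeomUnibranch ↑(S.presheaf.stalk s))
    (ξ : ↥S) (hξ : IsGenericPoint ξ (Set.univ : Set ↥S))
    (Z : Type u) [Group Z] (hZ : ∀ z : Z, IsOfFinOrder z → z = 1)
    (G P : Over S) [GrpObj G] [GrpObj P] (eG : G ≅ TwC.const S Z) (hG : TwC.IsConstGrp Z G eG) [Smooth P.hom]
    (E' : Over (Spec (S.residueField ξ))) [GrpObj E']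
    (u' : Red.bc (S.fromSpecResidueField ξ) G ⟶ E') (v' : E' ⟶ Red.bc (S.fromSpecResidueField ξ) P)
    (hex' : NonAbH1.IsExactSeq Scheme.fppfPrecoverage u' v') :
    ∃ (E : Over S) (_ : GrpObj E) (u : G ⟶ E) (v : E ⟶ P)
      (φ : Red.bc (S.fromSpecResidueField ξ) E ≅ E'),
      NonAbH1.IsExactSeq Scheme.fppfPrecoverage u v ∧ IsMonHom φ.hom ∧
        (Over.pullback (S.fromSpecResidueField ξ)).map u ≫ φ.hom = u' ∧
        φ.hom ≫ v' = (Over.pullback (S.fromSpecResidueField ξ)).map v := by
  let i := S.fromSpecResidueField ξ
  let B := Spec (S.residueField ξ)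
  haveI : IrreducibleSpace ↥B := inferInstanceAs (IrreducibleSpace (PrimeSpectrum (S.residueField ξ)))
  have hB : ∀ b : ↥B, CAlg2.IsGeomUnibranch (B.presheaf.stalk b) := fun b =>
    isGeomUnibranch_stalk_spec (S.residueField ξ) b
  obtain ⟨c, hc, hGe, hcpt⟩ := Groth.L15.ConstExt.exists_const_points i G eG hG
  haveI : Smooth (Red.bc i P).hom := MorphismProperty.pullback_snd P.hom i inferInstance
  obtain ⟨s, hs⟩ := Groth.L15.ConstExt.exists_section_ext hB hZ c hc hGe hcpt hex'
  have hGs : Smooth G.hom := by
    haveI := Groth.L28.Ext.etale_const_hom (S := S) Z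
    rw [← Over.w eG.hom]
    haveI : IsIso eG.hom.left := (Over.forget S).map_isIso eG.hom
    infer_instance
  haveI := hex'.1
  haveI := hex'.2.1
  obtain ⟨E, instE, u, v, φ, hu, hv, huv, hpb, ⟨σ, hσ⟩, hφ, hφu, hφv⟩ :=
    Groth.L15.ConstExt.exists_extension (Over.pullback i) G P (fun T => Smooth T.hom)
      (fun X Y hX hY => by
        haveI : Smooth (pullback.fst X.hom Y.hom) := MorphismProperty.pullback_fst _ _ hY
        haveI := hX
        show Smooth (pullback.fst X.hom Y.hom ≫ X.hom)
        infer_instance)
      (by show Smooth (𝟙 S); infer_instance) hGs ‹_›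
      (fun T hT => Groth.L15.ConstExt.bijective_map hS hξ G eG T) E' u' v' hex'.2.2.1
      (fun W a b h => Groth.L28.Ext.exists_of_comp_eq hex' h)
      (fun W g g' h => Groth.L28.Ext.comp_u_injective hex' h) s hs
  refine ⟨E, instE, u, v, φ, ⟨hu, hv, huv, hpb, ?_⟩, hφ, hφu, hφv⟩
  refine ⟨Presieve.singleton (𝟙 P.left), Precoverage.mem_coverings_of_isIso _, ?_⟩
  rintro _ _ ⟨⟩
  exact ⟨σ.left, congrArg CommaMorphism.left hσ⟩

end Groth.Agent.S8717
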