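import Groth.Statements.S8719
import Groth.Agent.L28.Morse

set_option autoImplicit false
universe u
open VanCyc

namespace Groth.Agent.S8719

/-- The formal computation carried out in its proof: let k be a field and f a power series in k[[x_0,
..., x_n]] with vanishing constant and linear terms whose degree-two part is a non-degenerate
quadratic form (the Gram determinant of its polar bilinear form is a unit). Then the partial
derivatives of f generate the maximal ideal of k[[x_0, ..., x_n]] (so f together with its partial
derivatives cut out the origin with multiplicity one). -/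
theorem result (k : Type u) [Field k] (n : ℕ)
    (f : MvPowerSeries (Fin (n + 1)) k) (hf : VanCyc.NondegQuadSeries f) :
    Ideal.span (Set.range fun i : Fin (n + 1) => MvPowerSeries.pderiv k i f) =
      IsLocalRing.maximalIdeal (MvPowerSeries (Fin (n + 1)) k) := by
  open MvPowerSeries Groth.L28.PSer in
  refine le_antisymm (Ideal.span_le.mpr ?_) ?_
  · rintro _ ⟨i, rfl⟩
    rw [SetLike.mem_coe, maximalIdeal_eq]
    have h1 : ((1 : ℕ) : ℕ∞) ≤ (pderiv k i f).order := by
      exact_mod_cast one_le_order_iff_constCoeff_eq_zero.mpr
        ((constantCoeff_pderiv i f).trans (hf.1.2 i))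
    have := mem_pow_of_order 1 _ h1
    rwa [pow_one] at this
  · rw [maximalIdeal_eq]
    refine le_of_le_sup M_fg (Ideal.span_le.mpr ?_)
    rintro _ ⟨l, rfl⟩
    set P := VanCyc.polarMatrix (VanCyc.quadPart f) with hPdef
    set J := Ideal.span (Set.range fun i : Fin (n + 1) => MvPowerSeries.pderiv k i f) with hJdef
    rw [SetLike.mem_coe, ← sq, Submodule.mem_sup]
    refine ⟨∑ i, C (P⁻¹ l i) * pderiv k i f, Submodule.sum_mem _ fun i _ =>
      Ideal.mul_mem_left _ _ (Ideal.subset_span ⟨i, rfl⟩),
      -∑ i, C (P⁻¹ l i) * (pderiv k i f - ∑ j, C (P i j) * X j), Submodule.neg_mem _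
        (Submodule.sum_mem _ fun i _ => Ideal.mul_mem_left _ _ ?_), ?_⟩
    · have := sub_linear_mem_sq (pderiv k i f) ((constantCoeff_pderiv i f).trans (hf.1.2 i))
      simpa only [hPdef, Groth.L28.Morse.polar_quadPart] using this
    · simp only [mul_sub, Finset.sum_sub_distrib, neg_sub, add_sub_cancel]
      simp only [Finset.mul_sum, ← mul_assoc, ← map_mul]
      rw [Finset.sum_comm]
      simp only [← Finset.sum_mul, ← map_sum, ← Matrix.mul_apply]
      rw [Matrix.nonsing_inv_mul P hf.2]
      simp [Matrix.one_apply]

end Groth.Agent.S8719
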