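import Groth.Statements.S8720
import Groth.Agent.L28.Morse
import Mathlib.LinearAlgebra.Dimension.Constructions

set_option autoImplicit false
universe u
open VanCyc

namespace Groth.Agent.S8720

/-- The formal computation carried out in its proof: let k be a field of characteristic 2, m a natural
number, and f a power series over k in the variables x_0 and x_i, x_i' (i = 1, ..., m) whose terms
of degree less than 3 are exactly those of x_0^2 + x_1 x_1' + ... + x_m x_m'. Then the ideal
generated by f and all its partial derivatives is the ideal generated by x_0^2 and the x_i, x_i',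
and the quotient of the power series ring by this ideal is two-dimensional over k. (Characteristic 2
is what makes the derivative in x_0 lose its linear term.) -/
theorem result (k : Type u) [Field k] [CharP k 2] (m : ℕ)
    (f : MvPowerSeries (Option (Fin m ⊕ Fin m)) k)
    (hf : ∀ d : Option (Fin m ⊕ Fin m) →₀ ℕ, d.degree < 3 →
      MvPowerSeries.coeff d f = MvPowerSeries.coeff d
        (MvPowerSeries.X none ^ 2 +
          ∑ i : Fin m, MvPowerSeries.X (some (Sum.inl i)) * MvPowerSeries.X (some (Sum.inr i)))) :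
    Ideal.span ({f} ∪ Set.range fun i : Option (Fin m ⊕ Fin m) => MvPowerSeries.pderiv k i f) =
      Ideal.span ({MvPowerSeries.X none ^ 2} ∪
        Set.range fun j : Fin m ⊕ Fin m => (MvPowerSeries.X (some j) : MvPowerSeries (Option (Fin m ⊕ Fin m)) k)) ∧
    Module.finrank k (MvPowerSeries (Option (Fin m ⊕ Fin m)) k ⧸
      Ideal.span ({MvPowerSeries.X none ^ 2} ∪
        Set.range fun j : Fin m ⊕ Fin m => (MvPowerSeries.X (some j) : MvPowerSeries (Option (Fin m ⊕ Fin m)) k))) = 2 := by
  open MvPowerSeries Groth.L28.PSer in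
  classical
  set g : MvPowerSeries (Option (Fin m ⊕ Fin m)) k :=
    X none ^ 2 + ∑ i : Fin m, X (some (Sum.inl i)) * X (some (Sum.inr i)) with hg
  set I : Ideal (MvPowerSeries (Option (Fin m ⊕ Fin m)) k) := Ideal.span ({X none ^ 2} ∪
    Set.range fun j : Fin m ⊕ Fin m => X (some j)) with hI
  have hx2 : (X none ^ 2 : MvPowerSeries (Option (Fin m ⊕ Fin m)) k) ∈ I :=
    Ideal.subset_span (.inl rfl)
  have hxj : ∀ j : Fin m ⊕ Fin m, (X (some j) : MvPowerSeries (Option (Fin m ⊕ Fin m)) k) ∈ I :=
    fun j => Ideal.subset_span (.inr ⟨j, rfl⟩)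
  have hM2 : M (Option (Fin m ⊕ Fin m)) k ^ 2 ≤ I := by
    rw [sq, M, Ideal.span_mul_span', Ideal.span_le]
    rintro _ ⟨_, ⟨a, rfl⟩, _, ⟨b, rfl⟩, rfl⟩
    rcases a with _ | a
    · rcases b with _ | b
      · simpa [sq] using hx2
      · exact I.mul_mem_left _ (hxj b)
    · exact I.mul_mem_right _ (hxj a)
  have hM3 : f - g ∈ M _ k ^ 3 := mem_pow_of_order 3 _ (nat_le_order fun d hd => by
    rw [map_sub, hf d hd, sub_self])
  have hM3' : M (Option (Fin m ⊕ Fin m)) k ^ 3 ≤ M _ k * I := by
    rw [pow_succ']; exact Ideal.mul_mono_right hM2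
  have hlo : ∀ d : Option (Fin m ⊕ Fin m) →₀ ℕ, d.degree ≤ 1 → coeff d g = 0 := by
    intro d hd
    refine coeff_of_lt_order (lt_of_lt_of_le ?_ (order_mem_pow g 2 ?_))
    · exact_mod_cast Nat.lt_succ_of_le hd
    · rw [sq, hg]
      exact add_mem (by rw [sq]; exact Ideal.mul_mem_mul (X_mem _) (X_mem _))
        (Submodule.sum_mem _ fun i _ => Ideal.mul_mem_mul (X_mem _) (X_mem _))
  have hf1 : ∀ i, constantCoeff (pderiv k i f) = 0 := by
    intro i
    rw [constantCoeff_pderiv, hf _ (by simp)]
    exact hlo _ (by simp)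
  have hfg : ∀ i, pderiv k i f - pderiv k i g ∈ M _ k ^ 2 := by
    intro i
    rw [← map_sub]
    refine mem_pow_of_order 2 _ (nat_le_order fun d hd => ?_)
    rw [coeff_pderiv, map_sub, hf _ (by simp [Finsupp.degree_single]; omega), sub_self, zero_mul]
  have h2 : (2 : MvPowerSeries (Option (Fin m ⊕ Fin m)) k) = 0 := by
    rw [← map_ofNat (C (σ := Option (Fin m ⊕ Fin m)) (R := k)) 2, CharP.ofNat_eq_zero k 2, map_zero]
  have hd0 : pderiv k none g = 0 := by
    simp [g, pderiv_X, h2, sq, Derivation.leibniz, ← two_mul]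
  have hdl : ∀ i, pderiv k (some (Sum.inl i)) g = X (some (Sum.inr i)) := by
    intro i; simp [g, pderiv_X, sq, Derivation.leibniz, Pi.single_apply]
  have hdr : ∀ i, pderiv k (some (Sum.inr i)) g = X (some (Sum.inl i)) := by
    intro i; simp [g, pderiv_X, sq, Derivation.leibniz, Pi.single_apply]
  refine ⟨le_antisymm (Ideal.span_le.mpr ?_) (le_of_le_sup ?_ (Ideal.span_le.mpr ?_)), ?_⟩
  · rintro x (hx | ⟨i, rfl⟩)
    · rw [Set.mem_singleton_iff.mp hx, SetLike.mem_coe, ← sub_add_cancel f g]
      refine add_mem (hM2 (Ideal.pow_le_pow_right (by norm_num) hM3)) ?_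
      exact add_mem hx2 (Submodule.sum_mem _ fun i _ => I.mul_mem_left _ (hxj _))
    · show pderiv k i f ∈ I
      rw [← sub_add_cancel (pderiv k i f) (pderiv k i g)]
      refine add_mem (hM2 (hfg i)) ?_
      rcases i with _ | (i | i)
      · rw [hd0]; exact I.zero_mem
      · rw [hdl]; exact hxj _
      · rw [hdr]; exact hxj _
  · exact Submodule.fg_span ((Set.finite_singleton _).union (Set.finite_range _))
  · set J := Ideal.span ({f} ∪ Set.range fun i : Option (Fin m ⊕ Fin m) => pderiv k i f) with hJ
    have hx0 : (X none ^ 2 : MvPowerSeries (Option (Fin m ⊕ Fin m)) k) ∈ J ⊔ M _ k * I := by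
      have : (X none ^ 2 : MvPowerSeries (Option (Fin m ⊕ Fin m)) k) =
          f + (-(f - g) - ∑ i : Fin m, X (some (Sum.inl i)) * X (some (Sum.inr i))) := by
        rw [hg]; ring
      rw [this]
      refine Submodule.add_mem_sup (Ideal.subset_span (.inl rfl)) (sub_mem (neg_mem (hM3' hM3)) ?_)
      exact Submodule.sum_mem _ fun i _ => Ideal.mul_mem_mul (X_mem _) (hxj _)
    have hsq : M _ k ^ 2 ≤ J ⊔ M _ k * I := by
      rw [sq]
      nth_rw 1 [M]
      nth_rw 1 [M]
      rw [Ideal.span_mul_span', Ideal.span_le]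
      rintro _ ⟨_, ⟨a, rfl⟩, _, ⟨b, rfl⟩, rfl⟩
      rcases b with _ | b
      · rcases a with _ | a
        · simpa [sq] using hx0
        · refine Submodule.mem_sup_right ?_
          show X (some a) * X none ∈ _
          rw [mul_comm (X (some a) : MvPowerSeries (Option (Fin m ⊕ Fin m)) k)]
          exact Ideal.mul_mem_mul (X_mem none) (hxj a)
      · exact Submodule.mem_sup_right (Ideal.mul_mem_mul (X_mem a) (hxj b))
    rintro x (hx | ⟨i | i, rfl⟩)
    · rw [Set.mem_singleton_iff.mp hx]; exact hx0
    · show X (some (Sum.inl i)) ∈ J ⊔ _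
      rw [← hdr i, ← sub_sub_cancel (pderiv k (some (Sum.inr i)) f) (pderiv k (some (Sum.inr i)) g)]
      exact sub_mem (Submodule.mem_sup_left (Ideal.subset_span (.inr ⟨_, rfl⟩))) (hsq (hfg _))
    · show X (some (Sum.inr i)) ∈ J ⊔ _
      rw [← hdl i, ← sub_sub_cancel (pderiv k (some (Sum.inl i)) f) (pderiv k (some (Sum.inl i)) g)]
      exact sub_mem (Submodule.mem_sup_left (Ideal.subset_span (.inr ⟨_, rfl⟩))) (hsq (hfg _))
  · let L : k × k →ₗ[k] (MvPowerSeries (Option (Fin m ⊕ Fin m)) k ⧸ I) :=
      ((Ideal.Quotient.mkₐ k I).toLinearMap).comp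
        ((LinearMap.toSpanSingleton k _ (1 : MvPowerSeries (Option (Fin m ⊕ Fin m)) k)).coprod
          (LinearMap.toSpanSingleton k _ (X none)))
    have hL : ∀ c : k × k, L c = Ideal.Quotient.mk I (C c.1 + C c.2 * X none) := by
      intro c; simp [L, MvPowerSeries.smul_eq_C_mul]
    have hker : ∀ x ∈ I, ∀ w, constantCoeff (w * x) = 0 ∧
        coeff (Finsupp.single none 1) (w * x) = 0 := by
      intro x hx
      induction hx using Submodule.span_induction with
      | mem z hz =>
        intro w
        rcases hz with hz | ⟨j, rfl⟩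
        · rw [Set.mem_singleton_iff.mp hz]
          refine ⟨by simp, ?_⟩
          rw [X_pow_eq, coeff_mul_monomial, if_neg]
          simp [Finsupp.single_le_iff]
        · refine ⟨by simp, ?_⟩
          show coeff _ (w * X (some j)) = 0
          rw [X, coeff_mul_monomial, if_neg]
          simp [Finsupp.single_le_iff]
      | zero => intro w; simp
      | add z z' _ _ h h' => intro w; simp [mul_add, (h w).1, (h w).2, (h' w).1, (h' w).2]
      | smul c z _ h => intro w; rw [smul_eq_mul, ← mul_assoc]; exact h _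
    have hbij : Function.Bijective L := by
      refine ⟨?_, fun x => ?_⟩
      · rw [← LinearMap.ker_eq_bot, LinearMap.ker_eq_bot']
        intro c hc
        rw [hL, Ideal.Quotient.eq_zero_iff_mem] at hc
        have h := hker _ hc 1
        simp only [one_mul] at h
        have h0 : c.1 = 0 := by simpa using h.1
        have h1 : c.2 = 0 := by simpa [coeff_C, coeff_X, Finsupp.single_eq_zero] using h.2
        exact Prod.ext h0 h1
      · obtain ⟨x, rfl⟩ := Ideal.Quotient.mk_surjective x
        refine ⟨(constantCoeff x, coeff (Finsupp.single none 1) x), ?_⟩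
        rw [hL, Ideal.Quotient.eq]
        have h := sub_linear_mem_sq (x - C (constantCoeff x)) (by simp)
        rw [Fintype.sum_option] at h
        simp only [map_sub, coeff_C, Finsupp.single_eq_zero, one_ne_zero, if_false, sub_zero] at h
        have key : (C (constantCoeff x) +
            C (coeff (Finsupp.single none 1) x) * X none) - x =
            -((x - C (constantCoeff x)) - (C (coeff (Finsupp.single none 1) x) * X none +
              ∑ j : Fin m ⊕ Fin m, C (coeff (Finsupp.single (some j) 1) x) * X (some j))) -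
            ∑ j : Fin m ⊕ Fin m, C (coeff (Finsupp.single (some j) 1) x) * X (some j) := by ring
        rw [key]
        exact sub_mem (neg_mem (hM2 h))
          (Submodule.sum_mem _ fun j _ => I.mul_mem_left _ (hxj j))
    exact (LinearEquiv.ofBijective L hbij).finrank_eq.symm.trans (by simp)

end Groth.Agent.S8720
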