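import Groth.Statements.S8722
import Groth.Agent.L28.QLinear

set_option autoImplicit false
universe u v
open SGA7II

namespace Groth.Agent.S8722

/-- Let k be a separably closed field of characteristic p > 0, q = p^r with r >= 1, V a
finite-dimensional k-vector space and phi : V -> V additive with phi(c v) = c^q phi(v), semisimple
in the sense that its image spans V. Then for n >= 1 the fixed vectors of the n-th iterate of phi
are exactly the finite linear combinations of phi-fixed vectors with coefficients c satisfying
c^(q^n) = c; that is, the fixed space of phi^n is obtained from the F_q-space of phi-fixed vectors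
by extending scalars to F_{q^n}. -/
theorem result (k : Type u) [Field k] [IsSepClosed k] (p : ℕ)
    [Fact p.Prime] [CharP k p] (r : ℕ) (hr : 0 < r) (V : Type v) [AddCommGroup V] [Module k V]
    [FiniteDimensional k V] (φ : V →+ V) (hφ : ∀ (c : k) (v : V), φ (c • v) = c ^ (p ^ r) • φ v)
    (hss : Submodule.span k (Set.range φ) = ⊤) (n : ℕ) (hn : 0 < n) (v : V) :
    φ^[n] v = v ↔ ∃ (s : Finset V) (c : V → k), (∀ w ∈ s, φ w = w) ∧
      (∀ w ∈ s, c w ^ ((p ^ r) ^ n) = c w) ∧ v = ∑ w ∈ s, c w • w := by
  classical
  let φs := Groth.L28.QLinear.toSemilinear φ hφ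
  constructor
  · intro hv
    obtain ⟨b, hb⟩ := Groth.L28.QLinear.exists_basis_fixSpan φs
    have htop : Groth.L28.QLinear.fixSpan φs = ⊤ := Groth.L28.QLinear.fixSpan_eq_top hr φs hss
    let w : Groth.L28.QLinear.fixSpan φs := ⟨v, htop ▸ Submodule.mem_top⟩
    let f : Fin (Module.finrank k (Groth.L28.QLinear.fixSpan φs)) → V := fun i => (b i : V)
    have hf : Function.Injective f := fun i j h => b.injective (Subtype.ext h)
    refine ⟨Finset.univ.image f, Function.extend f (fun i => b.repr w i) 0, ?_, ?_, ?_⟩
    · intro x hx
      obtain ⟨i, -, rfl⟩ := Finset.mem_image.1 hx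
      exact hb i
    · intro x hx
      obtain ⟨i, -, rfl⟩ := Finset.mem_image.1 hx
      rw [hf.extend_apply]
      exact Groth.L28.QLinear.repr_pow_eq φs _ b hb n w hv i
    · rw [Finset.sum_image hf.injOn]
      simp only [hf.extend_apply]
      have h := congrArg Subtype.val (b.sum_repr w)
      rw [Submodule.coe_sum] at h
      exact h.symm
  · rintro ⟨s, c, hfix, hc, rfl⟩
    show φs^[n] _ = _
    rw [Groth.L28.QLinear.iterate_sum']
    refine Finset.sum_congr rfl fun w hw => ?_
    rw [Groth.L28.QLinear.iterate_smul, hc w hw, Function.iterate_fixed (show φs w = w from hfix w hw)]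

end Groth.Agent.S8722
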