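import Groth.Statements.S8723
import Groth.Agent.L05.GeomMult.Components
import Groth.Agent.L05.EulerDiv.Chain
import Groth.Agent.L27.SGA1.FieldFibres
import Groth.Agent.L02.RelCartier.Scheme
import Mathlib.Topology.Separation.Connected

set_option backward.isDefEq.respectTransparency false
set_option linter.style.haveILetI false

set_option autoImplicit false
universe u
open CategoryTheory CategoryTheory.Limits AlgebraicGeometry
open ArSurf
open scoped TensorProduct

namespace Groth.Agent.S8723

/-- Let R be a discrete valuation ring with residue field k and X an integral regular scheme of Krull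
dimension 2, proper and flat over Spec R by f (a regular proper flat model whose fibres are curves).
Write X_s for the special fibre and X_sbar for its base change to an algebraic closure of k. Assume
that X_s is geometrically connected (its base change to every field extension of k is connected) and
that the multiplicities of the irreducible components of X_sbar, i.e. the lengths of the local rings
of X_sbar at its maximal points, have greatest common divisor 1 (no prime divides all of them). Then
the canonical map k -> H^0(X_s, O_{X_s}) is bijective (X is cohomologically flat over R in degree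
0). -/
theorem result (R : Type u) [CommRing R] [IsDomain R]
    [IsDiscreteValuationRing R] {X : Scheme.{u}} (f : X ⟶ Spec (CommRingCat.of R)) [IsProper f] [Flat f]
    [IsIntegral X] (hreg : ∀ x : X, IsRegularLocalRing (X.presheaf.stalk x))
    (hdim : topologicalKrullDim X = 2)
    (hconn : ∀ (K : Type u) [Field K] [Algebra (IsLocalRing.ResidueField R) K],
      ConnectedSpace ↥(pullback f (Spec.map (CommRingCat.ofHom
        ((algebraMap (IsLocalRing.ResidueField R) K).comp (IsLocalRing.residue R))))))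
    (hd : letI Xb := pullback f (Spec.map (CommRingCat.ofHom
        ((algebraMap (IsLocalRing.ResidueField R) (AlgebraicClosure (IsLocalRing.ResidueField R))).comp
          (IsLocalRing.residue R))))
      ∀ ℓ : ℕ, ℓ.Prime → ∃ x : ↥Xb, (∀ y : ↥Xb, y ⤳ x → y = x) ∧
        ¬ (ℓ ∣ (Module.length (Xb.presheaf.stalk x) (Xb.presheaf.stalk x)).toNat)) :
    Function.Bijective
      (pullback.snd f (Spec.map (CommRingCat.ofHom (IsLocalRing.residue R)))).appTop.hom := by
  classical
  let k := IsLocalRing.ResidueField R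
  let Kb := AlgebraicClosure k
  let i := Spec.map (CommRingCat.ofHom (IsLocalRing.residue R))
  let ib := Spec.map (CommRingCat.ofHom ((algebraMap k Kb).comp (IsLocalRing.residue R)))
  let c := Spec.map (CommRingCat.ofHom (algebraMap k Kb))
  have hib : c ≫ i = ib := (Spec.map_comp _ _).symm
  let Xs := pullback f i
  let Xb := pullback f ib
  let ρ : Xb ⟶ Xs := pullback.lift (pullback.fst f ib) (pullback.snd f ib ≫ c)
    (by rw [Category.assoc, hib, pullback.condition])
  have sq : IsPullback ρ (pullback.snd f ib) (pullback.snd f i) c := by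
    refine IsPullback.of_right (h₁₂ := pullback.fst f i) (h₂₂ := i) (v₁₃ := f) ?_ (pullback.lift_snd _ _ _)
      (IsPullback.of_hasPullback f i)
    rw [pullback.lift_fst, hib]
    exact IsPullback.of_hasPullback f ib
  haveI : Flat c := Groth.L02.RelCartier.flat_SpecMap_field (K := k) _
  haveI : Flat ρ := MorphismProperty.of_isPullback (P := @Flat) sq.flip ‹Flat c›
  -- the model
  let XO : Over (Spec (CommRingCat.of R)) := Over.mk f
  haveI : IsProper XO.hom := ‹IsProper f›
  haveI : Flat XO.hom := ‹Flat f›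
  haveI : IsIntegral XO.left := ‹IsIntegral X›
  haveI : IsLocallyNoetherian XO.left := LocallyOfFiniteType.isLocallyNoetherian XO.hom
  have hreg' : Models.IsRegularScheme XO.left := hreg
  obtain ⟨n, Γ, hΓ, hmax⟩ := Groth.L05.GeomMult.exists_componentList (X := XO) hdim
  choose L hLi hL using fun i => Groth.L08.Cube.exists_inverse
    ((Groth.Agent.L19.IdealInvertible.isEffCartier_iff _).2
      (Groth.L05.FibreDecomp.isEffCartier (X := XO) hreg' hΓ i))
  have hL' : ∀ i, ClSub.IsInverseOf (L i) (ClSub.idealMod (Γ i).ι.ker) := fun i =>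
    ⟨Groth.L00.Tensor.tensorComm _ _ ≪≫ (hL i).some⟩
  -- every prime misses a multiplicity and a geometric length
  have hℓ : ∀ ℓ : ℕ, ℓ.Prime → ∃ (a : Fin n) (x : Xb),
      ¬ ℓ ∣ Models.mult R XO (Γ a) ∧ (∀ y : Xb, y ⤳ x → y = x) ∧
        ¬ ℓ ∣ (Module.length (Xb.presheaf.stalk x) (Xb.presheaf.stalk x)).toNat := fun ℓ hl => by
    obtain ⟨x, hx, hxd⟩ := hd ℓ hl
    obtain ⟨a, ha⟩ := hmax (ρ x) fun y hy => Groth.L05.GeomMult.eq_of_specializes_map ρ hx hy
    obtain ⟨cc, hcc⟩ := Groth.L05.GeomMult.exists_length_eq_mul ρ x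
    refine ⟨a, x, ?_, hx, hxd⟩
    have h := Groth.L05.GeomMult.not_dvd_toNat (hcc ▸ hxd)
    rw [Groth.L05.GeomMult.length_stalk_eq_of_ker (X := XO) (pullback.fst f i)
      (Groth.L05.GeomMult.ker_fst_eq (X := XO)) (ρ x)] at h
    unfold Models.mult
    rw [ha]
    exact h
  obtain ⟨a₀, x₀, -, hx₀, -⟩ := hℓ 2 Nat.prime_two
  have hgcd : Finset.univ.gcd (fun a => Models.mult R XO (Γ a)) = 1 := by
    by_contra hne
    obtain ⟨ℓ, hl, hdvd⟩ := Nat.exists_prime_and_dvd hne
    obtain ⟨a, x, ha, -, -⟩ := hℓ ℓ hl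
    exact ha (hdvd.trans (Finset.gcd_dvd (Finset.mem_univ a)))
  have hconn' : _root_.IsPreconnected (Models.specialFibreSet R XO) := by
    have hc := hconn k
    rw [← Groth.L05.GeomMult.range_fst_eq (X := XO)]
    have e : CommRingCat.ofHom ((algebraMap k k).comp (IsLocalRing.residue R)) =
        CommRingCat.ofHom (IsLocalRing.residue R) := rfl
    rw [e] at hc
    exact @isPreconnected_range _ _ _ _ hc.toPreconnectedSpace _ (pullback.fst f i).continuous
  obtain ⟨s, cch, -, hc1, -, hc3⟩ := Groth.L05.EulerDiv.exists_chain_primitive (X := XO) hreg' hΓ hL' hconn' a₀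
    (m' := fun a => Models.mult R XO (Γ a)) Nat.one_pos (fun a => (one_mul _).symm) hgcd
  have hF0 : IsField Γ((Models.specialFibreIdeal R XO).subscheme, ⊤) := by
    have h := hc3 (Fin.last s)
    rw [hc1] at h
    rw [Groth.L05.FibreDecomp.specialFibreIdeal_eq_prod (X := XO) hreg' hΓ]
    exact h
  have hker : (pullback.fst f i).ker = Models.specialFibreIdeal R XO := Groth.L05.GeomMult.ker_fst_eq (X := XO)
  haveI : IsClosedImmersion i := Groth.L05.InterPair.isClosedImmersion_pt (R := R)
  have hF : IsField Γ(Xs, ⊤) := by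
    rw [← hker] at hF0
    exact MulEquiv.isField hF0 (asIso (pullback.fst f i).toImage.appTop).commRingCatIsoToRingEquiv.toMulEquiv.symm
  letI : Field Γ(Xs, ⊤) := hF.toField
  let g : k →+* Γ(Xs, ⊤) := Coh.toGlobal (pullback.snd f i)
  letI : Algebra k Γ(Xs, ⊤) := g.toAlgebra
  haveI : IsProper (pullback.snd f i) := MorphismProperty.pullback_snd (P := @IsProper) f i inferInstance
  haveI : Module.Finite k Γ(Xs, ⊤) := Groth.L00.ProperNorm.finite_toGlobal (pullback.snd f i)
  -- the map to the spectrum of the constants, after extension to the algebraic closure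
  let q : Xs ⟶ Spec (CommRingCat.of Γ(Xs, ⊤)) := Xs.toSpecΓ
  let gS : Spec (CommRingCat.of Γ(Xs, ⊤)) ⟶ Spec (CommRingCat.of k) :=
    Spec.map (CommRingCat.ofHom (algebraMap k Γ(Xs, ⊤)))
  have hq : q ≫ gS = pullback.snd f i := by
    refine ext_of_isAffine ?_
    show (Xs.toSpecΓ ≫ gS).appTop = _
    rw [Scheme.Hom.comp_appTop, Scheme.toSpecΓ_appTop, Scheme.ΓSpecIso_naturality]
    ext a
    obtain ⟨a, rfl⟩ := (Scheme.ΓSpecIso (CommRingCat.of k)).symm.commRingCatIsoToRingEquiv.surjective a
    show g ((Scheme.ΓSpecIso (CommRingCat.of k)).hom ((Scheme.ΓSpecIso (CommRingCat.of k)).inv a)) = _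
    rw [show (Scheme.ΓSpecIso (CommRingCat.of k)).hom ((Scheme.ΓSpecIso (CommRingCat.of k)).inv a) = a from
      congr($((Scheme.ΓSpecIso (CommRingCat.of k)).inv_hom_id) a)]
    rfl
  haveI : Flat q := Groth.L27.SGA1Conn.flat_toField (k := Γ(Xs, ⊤)) q
  haveI : Nonempty Xs := ⟨ρ x₀⟩
  haveI : Surjective q := by
    haveI : Subsingleton (Spec (CommRingCat.of Γ(Xs, ⊤))) := inferInstanceAs (Subsingleton (PrimeSpectrum Γ(Xs, ⊤)))
    exact ⟨fun z => ⟨ρ x₀, Subsingleton.elim _ _⟩⟩
  let π₀ : Xb ⟶ pullback gS c := pullback.lift (ρ ≫ q) (pullback.snd f ib)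
    (by rw [Category.assoc, hq, sq.w])
  have sq₀ : IsPullback ρ π₀ q (pullback.fst gS c) := by
    refine IsPullback.of_bot (v₂₁ := pullback.snd gS c) (v₂₂ := gS) ?_ (pullback.lift_fst _ _ _).symm
      (IsPullback.of_hasPullback gS c)
    rw [pullback.lift_snd, hq]
    exact sq
  haveI : Flat π₀ := MorphismProperty.of_isPullback (P := @Flat) sq₀ ‹Flat q›
  haveI : Surjective π₀ := MorphismProperty.of_isPullback (P := @Surjective) sq₀ ‹Surjective q›
  let T := Γ(Xs, ⊤) ⊗[k] Kb
  letI : Algebra Kb T := Algebra.TensorProduct.rightAlgebra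
  haveI : Module.Finite Kb T := Module.Finite.equiv
    ((Algebra.TensorProduct.commRight k Kb Γ(Xs, ⊤)).toLinearEquiv)
  let π : Xb ⟶ Spec (CommRingCat.of T) := π₀ ≫ (pullbackSpecIso k Γ(Xs, ⊤) Kb).hom
  haveI : Flat π := inferInstanceAs (Flat (π₀ ≫ (pullbackSpecIso k Γ(Xs, ⊤) Kb).hom))
  haveI : Surjective π := inferInstanceAs (Surjective (π₀ ≫ (pullbackSpecIso k Γ(Xs, ⊤) Kb).hom))
  haveI : IsArtinianRing T := IsArtinianRing.of_finite Kb T
  haveI : Subsingleton (PrimeSpectrum T) := by
    haveI : ConnectedSpace Xb := hconn Kb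
    haveI : PreconnectedSpace (PrimeSpectrum T) :=
      ⟨by rw [← π.surjective.range_eq]; exact isPreconnected_range π.continuous⟩
    exact PreconnectedSpace.trivial_of_discrete
  haveI : IsLocalRing T := by
    haveI : Nontrivial T := by
      haveI : Nonempty (PrimeSpectrum T) := ⟨π x₀⟩
      exact PrimeSpectrum.nonempty_iff_nontrivial.1 ‹_›
    obtain ⟨m, hm⟩ := Ideal.exists_maximal T
    exact IsLocalRing.of_unique_max_ideal ⟨m, hm, fun m' hm' =>
      congrArg PrimeSpectrum.asIdeal (Subsingleton.elim (⟨m', hm'.isPrime⟩ : PrimeSpectrum T) ⟨m, hm.isPrime⟩)⟩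
  have hlen : ∀ t : Spec (CommRingCat.of T), Module.length ((Spec (CommRingCat.of T)).presheaf.stalk t)
      ((Spec (CommRingCat.of T)).presheaf.stalk t) = (Module.finrank k Γ(Xs, ⊤) : ℕ∞) := fun t => by
    have ht : t = IsLocalRing.closedPoint T := Subsingleton.elim (α := PrimeSpectrum T) _ _
    rw [ht, Groth.L05.GeomMult.length_self_eq (stalkClosedPointIso (CommRingCat.of T)).commRingCatIsoToRingEquiv.symm,
      Groth.L05.GeomMult.length_eq_finrank Kb T,
      ← (Algebra.TensorProduct.commRight k Kb Γ(Xs, ⊤)).toLinearEquiv.finrank_eq, Module.finrank_baseChange]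
  have h1 : Module.finrank k Γ(Xs, ⊤) = 1 := by
    by_contra hne
    obtain ⟨ℓ, hl, hdvd⟩ := Nat.exists_prime_and_dvd hne
    obtain ⟨a, x, -, -, hxd⟩ := hℓ ℓ hl
    obtain ⟨cc, hcc⟩ := Groth.L05.GeomMult.exists_length_eq_mul π x
    have h := Groth.L05.GeomMult.not_dvd_toNat (hcc ▸ hxd)
    rw [hlen, ENat.toNat_natCast] at h
    exact h hdvd
  have hbij : Function.Bijective g := by
    refine ⟨g.injective, fun y => ?_⟩
    obtain ⟨b, hb⟩ := exists_smul_eq_of_finrank_eq_one h1 (one_ne_zero (α := Γ(Xs, ⊤))) y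
    exact ⟨b, by rw [← hb, Algebra.smul_def, mul_one]; rfl⟩
  refine ⟨fun u v huv => ?_, fun y => ?_⟩
  · obtain ⟨u, rfl⟩ := (Scheme.ΓSpecIso (CommRingCat.of k)).symm.commRingCatIsoToRingEquiv.surjective u
    obtain ⟨v, rfl⟩ := (Scheme.ΓSpecIso (CommRingCat.of k)).symm.commRingCatIsoToRingEquiv.surjective v
    exact congrArg _ (hbij.1 huv)
  · obtain ⟨b, hb⟩ := hbij.2 y
    exact ⟨_, hb⟩

end Groth.Agent.S8723
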