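import Groth.Statements.S8724
import Mathlib.Algebra.Ring.GeomSum
import Mathlib.Algebra.Order.CauSeq.BigOperators
import Mathlib.Tactic.Ring
import Mathlib.Data.Nat.Choose.Sum

set_option autoImplicit false
open LefPen

namespace Groth.Agent.S8724

theorem sub_mul_double_sum {R : Type*} [CommRing R] (y z : R) (F : ℕ → R) (N : ℕ) :
    (y - z) * ∑ i ∈ Finset.range N, ∑ j ∈ Finset.range N,
        (if i + j < N then F (i + j) * y ^ i * z ^ j else 0) =
      ∑ k ∈ Finset.range N, F k * (y ^ (k + 1) - z ^ (k + 1)) := by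
  have h1 : ∀ i ∈ Finset.range N, ∑ j ∈ Finset.range N,
      (if i + j < N then F (i + j) * y ^ i * z ^ j else 0) =
      ∑ j ∈ Finset.range (N - i), F (i + j) * y ^ i * z ^ j := by
    intro i _
    rw [← Finset.sum_filter]
    refine Finset.sum_congr ?_ fun _ _ => rfl
    ext j; simp only [Finset.mem_filter, Finset.mem_range]; omega
  rw [Finset.sum_congr rfl h1, ← Finset.sum_range_diag_flip N (fun i j => F (i + j) * y ^ i * z ^ j),
    Finset.mul_sum]
  refine Finset.sum_congr rfl fun k _ => ?_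
  rw [← geom_sum₂_mul, mul_comm (y - z), ← mul_assoc, Finset.mul_sum]
  refine congrArg (· * (y - z)) (Finset.sum_congr rfl fun i hi => ?_)
  rw [Finset.mem_range] at hi
  rw [show i + (k - i) = k by omega, show k + 1 - 1 - i = k - i by omega, mul_assoc]

/-- The algebraic identity established in its proof: let a >= 1 and work in Z[y, z]. Then (1+y)^(a-1) -
(1+z)^(a-1) = (y - z) * (sum over i, j >= 0 with i + j + 1 <= a - 1 of C(a-1, i+j+1) y^i z^j), and
(1+y)^a z - (1+z)^a y = (y - z) * (-1 + sum over i, j >= 1 with i + j <= a of C(a, i+j) y^i z^j).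
Consequently the rational function -((1+y)^(a-1) - (1+z)^(a-1)) / ((1+y)^a z - (1+z)^a y), the
generating series of the primitive middle Hodge numbers of smooth hypersurfaces of degree a, equals
(sum_{i,j >= 0} C(a-1, i+j+1) y^i z^j) / (1 - sum_{i,j >= 1} C(a, i+j) y^i z^j). -/
theorem result (a : ℕ) (ha : 1 ≤ a) :
    let y : MvPolynomial (Fin 2) ℤ := MvPolynomial.X 0
    let z : MvPolynomial (Fin 2) ℤ := MvPolynomial.X 1
    ((1 + y) ^ (a - 1) - (1 + z) ^ (a - 1) =
      (y - z) * ∑ i ∈ Finset.range a, ∑ j ∈ Finset.range a,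
        if i + j + 1 ≤ a - 1 then ((a - 1).choose (i + j + 1) : MvPolynomial (Fin 2) ℤ) * y ^ i * z ^ j else 0) ∧
    ((1 + y) ^ a * z - (1 + z) ^ a * y =
      (y - z) * (-1 + ∑ i ∈ Finset.range (a + 1), ∑ j ∈ Finset.range (a + 1),
        if 1 ≤ i ∧ 1 ≤ j ∧ i + j ≤ a then (a.choose (i + j) : MvPolynomial (Fin 2) ℤ) * y ^ i * z ^ j else 0)) := by
  intro y z
  obtain ⟨b, rfl⟩ : ∃ b, a = b + 1 := ⟨a - 1, by omega⟩
  rw [Nat.add_sub_cancel]
  constructor
  · have hS : ∑ i ∈ Finset.range (b + 1), ∑ j ∈ Finset.range (b + 1),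
        (if i + j + 1 ≤ b then (b.choose (i + j + 1) : MvPolynomial (Fin 2) ℤ) * y ^ i * z ^ j else 0) =
      ∑ i ∈ Finset.range (b + 1), ∑ j ∈ Finset.range (b + 1),
        (if i + j < b + 1 then (fun k => (b.choose (k + 1) : MvPolynomial (Fin 2) ℤ)) (i + j) * y ^ i * z ^ j
          else 0) := by
      refine Finset.sum_congr rfl fun i _ => Finset.sum_congr rfl fun j _ => ?_
      by_cases h : i + j + 1 ≤ b
      · rw [if_pos h, if_pos (by omega)]
      · by_cases h' : i + j < b + 1
        · rw [if_neg h, if_pos h', show i + j = b by omega]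
          simp [Nat.choose_succ_self]
        · rw [if_neg h, if_neg h']
    rw [hS, sub_mul_double_sum y z (fun k => (b.choose (k + 1) : MvPolynomial (Fin 2) ℤ))]
    have e : ∀ w : MvPolynomial (Fin 2) ℤ, (1 + w) ^ b =
        (∑ k ∈ Finset.range b, (b.choose (k + 1) : MvPolynomial (Fin 2) ℤ) * w ^ (k + 1)) + 1 := by
      intro w
      rw [add_comm, add_pow, Finset.sum_range_succ']
      simp [mul_comm]
    rw [e, e, Finset.sum_range_succ, Nat.choose_succ_self]
    simp [mul_sub]
  · have hS : ∑ i ∈ Finset.range (b + 1 + 1), ∑ j ∈ Finset.range (b + 1 + 1),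
        (if 1 ≤ i ∧ 1 ≤ j ∧ i + j ≤ b + 1 then
          ((b + 1).choose (i + j) : MvPolynomial (Fin 2) ℤ) * y ^ i * z ^ j else 0) =
      (y * z) * ∑ i ∈ Finset.range (b + 1), ∑ j ∈ Finset.range (b + 1),
        (if i + j < b + 1 then (fun k => ((b + 1).choose (k + 2) : MvPolynomial (Fin 2) ℤ)) (i + j) * y ^ i * z ^ j
          else 0) := by
      rw [Finset.sum_range_succ', Finset.mul_sum]
      simp only [show ¬ (1 ≤ 0) by omega, false_and, if_false, Finset.sum_const_zero, add_zero]
      refine Finset.sum_congr rfl fun i _ => ?_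
      rw [Finset.sum_range_succ', Finset.mul_sum]
      simp only [show ¬ (1 ≤ 0) by omega, false_and, and_false, if_false, add_zero]
      refine Finset.sum_congr rfl fun j _ => ?_
      rw [show i + 1 + (j + 1) = i + j + 2 by omega]
      by_cases h : i + j + 2 ≤ b + 1
      · rw [if_pos ⟨by omega, by omega, h⟩, if_pos (by omega)]; ring
      · rw [if_neg (by tauto)]
        by_cases h' : i + j < b + 1
        · rw [if_pos h', Nat.choose_eq_zero_of_lt (by omega)]; simp
        · rw [if_neg h', mul_zero]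
    rw [hS, mul_add, mul_left_comm, sub_mul_double_sum y z (fun k => ((b + 1).choose (k + 2) : MvPolynomial (Fin 2) ℤ)),
      Finset.mul_sum]
    have e : ∀ w : MvPolynomial (Fin 2) ℤ, (1 + w) ^ (b + 1) =
        (∑ k ∈ Finset.range b, ((b + 1).choose (k + 2) : MvPolynomial (Fin 2) ℤ) * w ^ (k + 2))
          + ((b + 1 : ℕ) : MvPolynomial (Fin 2) ℤ) * w + 1 := by
      intro w
      rw [add_comm, add_pow, Finset.sum_range_succ', Finset.sum_range_succ']
      simp [mul_comm]
    rw [e, e, Finset.sum_range_succ, Nat.choose_eq_zero_of_lt (by omega : b + 1 < b + 2)]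
    simp only [Nat.cast_zero, zero_mul, mul_zero, add_zero, add_mul, Finset.sum_mul]
    rw [show ∑ k ∈ Finset.range b, y * z * (((b + 1).choose (k + 2) : MvPolynomial (Fin 2) ℤ) * (y ^ (k + 1) - z ^ (k + 1))) =
      ∑ k ∈ Finset.range b, ((b + 1).choose (k + 2) : MvPolynomial (Fin 2) ℤ) * y ^ (k + 2) * z -
      ∑ k ∈ Finset.range b, ((b + 1).choose (k + 2) : MvPolynomial (Fin 2) ℤ) * z ^ (k + 2) * y by
        rw [← Finset.sum_sub_distrib]; exact Finset.sum_congr rfl fun k _ => by ring]
    ring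

end Groth.Agent.S8724
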