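import Groth.Statements.S8727
import Groth.Agent.L05.ArFamily.Main
import Groth.Agent.L05.InterPair.Form
-- import your own Groth.Agent.* helpers here

set_option autoImplicit false
universe u
open CategoryTheory CategoryTheory.Limits AlgebraicGeometry
open ArSurf

namespace Groth.Agent.S8727

/-- The assertion on the kernel of the intersection form: let R be a discrete valuation ring, X an
arithmetic surface over Spec R (regular, integral, of dimension 2, flat and projective over R) whose
special fibre is connected, Γ_1, ..., Γ_r pairwise distinct vertical prime divisors whose union is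
the whole special fibre, n_i the multiplicity of Γ_i in the special fibre, i.e. the length of
O_{X,γ_i}/m_R O_{X,γ_i} for γ_i the generic point of Γ_i, and L_j invertible O_X-modules with L_j ⊗
I(Γ_j) ≅ O_X. Then for integers a_1, ..., a_r one has Σ_j a_j (Γ_i · Γ_j) = 0 for every i, where Γ_i
· Γ_j = deg(L_j|_{Γ_i}) over the residue field, if and only if (a_1, ..., a_r) is a rational
multiple of (n_1, ..., n_r): the kernel of the (negative semi-definite) intersection form on
vertical divisors is spanned by the special fibre. -/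
theorem result (R : Type u) [CommRing R] [IsDomain R] [IsDiscreteValuationRing R]
    (X : Over (Spec (CommRingCat.of R))) (hX : ArSurf.IsArithSurface R X)
    (hconn : _root_.IsConnected {x : ↥X.left | X.hom.base x = IsLocalRing.closedPoint R})
    {r : ℕ} (Γ : Fin r → ArSurf.VertComp R X)
    (hdist : Function.Injective fun i => Set.range (Γ i).ι.base)
    (hcov : ∀ x : ↥X.left, X.hom.base x = IsLocalRing.closedPoint R → ∃ i, x ∈ Set.range (Γ i).ι.base)
    (L : Fin r → X.left.Modules) (hL : ∀ j, ClSub.IsInverseOf (L j) (ClSub.idealMod ((Γ j).ι.ker)))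
    (a : Fin r → ℤ) :
    let γ : Fin r → ↥X.left := fun i => (Γ i).ι.base (genericPoint ↥(Γ i).curve.left)
    let ρ : ∀ i, R →+* ↑(X.left.presheaf.stalk (γ i)) := fun i =>
      (X.left.presheaf.germ ⊤ (γ i) trivial).hom.comp
        (X.hom.appTop.hom.comp (Scheme.ΓSpecIso (CommRingCat.of R)).inv.hom)
    let n : Fin r → ℕ := fun i => (Module.length ↑(X.left.presheaf.stalk (γ i))
      (↑(X.left.presheaf.stalk (γ i)) ⧸ (IsLocalRing.maximalIdeal R).map (ρ i))).toNat
    (∀ i, ∑ j, a j * ArSurf.inter R X (L j) (Γ i) = 0) ↔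
      ∃ c : ℚ, ∀ i, (a i : ℚ) = c * (n i : ℚ) := by
  obtain ⟨hreg, hint, hdim, hflat, m, e, he, hfac⟩ := hX
  haveI := hint
  haveI := hflat
  haveI := he
  haveI : IsProper X.hom := hfac ▸ inferInstance
  haveI : IsLocallyNoetherian X.left := LocallyOfFiniteType.isLocallyNoetherian X.hom
  intro γ ρ n
  have hΓ : Models.IsComponentList R X Γ := Groth.L05.ArFamily.isComponentList_of_cover Γ hdist hcov
  have hn : ∀ i, n i = Models.mult R X (Γ i) := fun i => rfl
  constructor
  · intro h
    obtain ⟨c, hc⟩ := (Groth.L05.InterPair.form_nonpos_and_eq_zero_iff hreg hΓ hL hconn.isPreconnected a).2.1 (by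
      rw [Fintype.sum_prod_type]
      refine Finset.sum_eq_zero fun i _ => ?_
      simp only [mul_assoc, ← Finset.mul_sum, h i, mul_zero])
    exact ⟨c, fun i => by rw [hn]; exact hc i⟩
  · rintro ⟨c, hc⟩ i
    have h := Groth.L05.InterPair.sum_mult_mul_inter hreg hΓ hL (Γ i)
    have h' : (∑ j, (a j : ℚ) * (ArSurf.inter R X (L j) (Γ i) : ℚ)) =
        c * ∑ j, (Models.mult R X (Γ j) : ℚ) * (ArSurf.inter R X (L j) (Γ i) : ℚ) := by
      rw [Finset.mul_sum]
      exact Finset.sum_congr rfl fun j _ => by rw [hc j, hn]; ring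
    have h0 : (∑ j, (Models.mult R X (Γ j) : ℚ) * (ArSurf.inter R X (L j) (Γ i) : ℚ)) = 0 := by
      exact_mod_cast h
    rw [h0, mul_zero] at h'
    exact_mod_cast h'

end Groth.Agent.S8727
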