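import Groth.Statements.S8728
import Groth.Agent.L05.InterPair.Main

set_option autoImplicit false
universe u
open CategoryTheory CategoryTheory.Limits AlgebraicGeometry
open ArSurf

namespace Groth.Agent.S8728

/-- For a vertical prime divisor against an effective divisor: let R be a discrete valuation ring, X an
arithmetic surface over Spec R (regular, integral, of dimension 2, flat and projective), Γ a
vertical prime divisor of X over the closed point, E ⊂ X an effective Cartier divisor given by an
ideal sheaf I that is locally generated by a single nonzerodivisor, with Γ not contained in E (the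
generic point of Γ lies outside the support of I), and L an O_X-module with L ⊗ I ≅ O_X (L =
O_X(E)). Then the intersection number (Γ · E) = deg_k(L|_Γ) is nonnegative, and it vanishes if and
only if E and Γ are disjoint. -/
theorem result (R : Type u) [CommRing R] [IsDomain R] [IsDiscreteValuationRing R]
    (X : Over (Spec (CommRingCat.of R))) (hX : ArSurf.IsArithSurface R X) (Γ : ArSurf.VertComp R X)
    (I : X.left.IdealSheafData) (hI : FGA.IsEffCartier I)
    (hΓ : Γ.ι.base (genericPoint ↥Γ.curve.left) ∉ (I.support : Set ↥X.left))
    (L : X.left.Modules) (hL : ClSub.IsInverseOf L (ClSub.idealMod I)) :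
    0 ≤ ArSurf.inter R X L Γ ∧
      (ArSurf.inter R X L Γ = 0 ↔ Disjoint (Set.range Γ.ι.base) (I.support : Set ↥X.left)) := by
  obtain ⟨hreg, hint, hdim, hflat, m, e, he, hfac⟩ := hX
  haveI := hint
  haveI := hflat
  haveI := he
  haveI : IsProper X.hom := hfac ▸ inferInstance
  haveI : IsLocallyNoetherian X.left := LocallyOfFiniteType.isLocallyNoetherian X.hom
  rw [Groth.L05.InterPair.inter_eq_finrank Γ hI hΓ hL]
  refine ⟨Int.natCast_nonneg _, ?_⟩
  rw [Int.natCast_eq_zero, Groth.L05.InterPair.finrank_eq_zero_iff Γ (I.comap Γ.ι)]
  constructor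
  · intro h
    rw [Set.disjoint_left]
    rintro _ ⟨y, rfl⟩ hy
    have hy' : y ∈ ((I.comap Γ.ι).support : Set Γ.curve.left) := by
      rw [Scheme.IdealSheafData.support_comap]; exact hy
    rw [← (I.comap Γ.ι).range_subschemeι] at hy'
    obtain ⟨z, -⟩ := hy'
    exact h.elim z
  · intro h
    refine ⟨fun z => ?_⟩
    have hz : (I.comap Γ.ι).subschemeι z ∈ ((I.comap Γ.ι).support : Set Γ.curve.left) := by
      rw [← (I.comap Γ.ι).range_subschemeι]; exact ⟨z, rfl⟩
    rw [Scheme.IdealSheafData.support_comap] at hz
    exact Set.disjoint_left.1 h ⟨_, rfl⟩ hz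

end Groth.Agent.S8728
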