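import Groth.Statements.S8731
import Groth.Agent.L21.PlaneCurve.Plane
import Groth.Agent.L22.Adjunction.SmoothClosed
import Groth.Agent.L18.CIProjChart
import Groth.Agent.L16.CohClosedPush

set_option autoImplicit false
universe u
open CategoryTheory CategoryTheory.Limits AlgebraicGeometry
open LefPen

namespace Groth.Agent.S8731
set_option backward.isDefEq.respectTransparency false
set_option backward.isDefEq.respectTransparency.types false
set_option linter.style.haveILetI false

/-- (iv), the assertions on the structure sheaf: let k be an algebraically closed field, n >= 1, and Q a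
quadratic form in n + 2 variables whose zero scheme X = V(Q) ⊂ P^{n+1}_k is smooth over k of
relative dimension n (a smooth quadric of dimension n). Then H^i(X, O_X) = 0 for every i >= 1, and
the structure map identifies k with H^0(X, O_X). (The published item also computes H^1(X, O_X(1)),
the canonical sheaf and the Picard group, not stated here.) -/
theorem result (k : Type u) [Field k] [IsAlgClosed k] (n : ℕ) (hn : 1 ≤ n)
    (Q : LefPen.Form (n + 1) k 2)
    [SmoothOfRelativeDimension n ((LefPen.hypIdeal Q).subschemeι ≫ CohB1.ProjSpace.toSpec (n + 1) k)] :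
    (∀ i : ℕ, 1 ≤ i → Subsingleton (Coh.HH (LefPen.hypIdeal Q).subscheme
        (Coh.structureModule (LefPen.hypIdeal Q).subscheme) i)) ∧
      Function.Bijective ((LefPen.hypIdeal Q).subschemeι ≫ CohB1.ProjSpace.toSpec (n + 1) k).appTop.hom := by
  classical
  set I := LefPen.hypIdeal Q
  have hQ : Q ≠ 0 := by
    intro h0
    haveI : IsIntegral (CohB1.ProjSpace (n + 1) k) := Groth.L16.ProjSpace.isIntegral (n := n + 1) (R := k)
    have hsurj : Surjective I.subschemeι := ⟨fun x => by
      obtain ⟨i, hi⟩ := Groth.L21.PlaneCurve.exists_mem_chart x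
      show x ∈ Set.range I.subschemeι
      rw [Scheme.IdealSheafData.range_subschemeι, SetLike.mem_coe, Scheme.IdealSheafData.mem_support_iff_of_mem
        (U := ⟨_, Groth.L21.PlaneCurve.isAffineOpen_chart i⟩) hi, Groth.L21.PlaneCurve.hypIdeal_chart,
        Scheme.zeroLocus_span, Scheme.mem_zeroLocus_iff]
      rintro s rfl
      rw [h0, ← Groth.L18.CIProj.deh_form]
      simp⟩
    haveI := hsurj
    haveI : IsIso I.subschemeι := isIso_of_isClosedImmersion_of_surjective _
    have h1 := Groth.L22.Adjunction.topologicalKrullDim_le_relDim (I.subschemeι ≫ CohB1.ProjSpace.toSpec (n + 1) k) n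
    rw [(Scheme.Hom.homeomorph I.subschemeι).isHomeomorph.topologicalKrullDim_eq,
      Groth.L16.ProjSpace.topologicalKrullDim_eq_of_field (n + 1) k] at h1
    exact absurd (by exact_mod_cast h1 : n + 1 ≤ n) (by omega)
  have hI := Groth.L21.PlaneCurve.nonempty_idealMod_iso hQ
  letI : I.subscheme.Over (Spec (CommRingCat.of k)) := ⟨I.subschemeι ≫ CohB1.ProjSpace.toSpec (n + 1) k⟩
  obtain ⟨e0⟩ := Groth.L22.Reg.nonempty_O_zero (n + 1) k
  let e : Groth.L21.PlaneCurve.OC I 0 ≅ Coh.structureModule I.subscheme :=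
    (Scheme.Modules.pullback _).mapIso e0 ≪≫ Groth.L29.LocFree.pullbackUnitIso _
  haveI := Groth.L21.PlaneCurve.properProj k (n + 1)
  haveI := Groth.L21.PlaneCurve.isQCoh_OC I 0
  haveI : IsProper (CohB1.ProjSpace.toSpec (n + 1) k) := inferInstance
  haveI : IsProper (I.subscheme ↘ Spec (CommRingCat.of k)) :=
    inferInstanceAs (IsProper (I.subschemeι ≫ CohB1.ProjSpace.toSpec (n + 1) k))
  haveI := Groth.L21.PlaneCurve.isLocallyNoetherian_sub I
  have hh : ∀ p, Groth.L21.RR.h k p (Coh.structureModule I.subscheme) =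
      Groth.L21.RR.h k p (Groth.L21.PlaneCurve.OX I 0) := fun p =>
    ((Groth.L21.PlaneCurve.h_OX_eq I rfl 0 p).trans (Groth.L21.RR.h_congr k e p)).symm
  have hfin : ∀ p, Module.Finite k (Coh.HH I.subscheme (Coh.structureModule I.subscheme) p) := fun p =>
    Groth.L21.RR.finite_HH' k Groth.L16.CohClosedPush.isCoh_structure p
  constructor
  · intro i hi
    haveI := hfin i
    refine Module.finrank_zero_iff.1 ((hh i).trans ?_)
    by_cases him : i = n
    · subst him
      rw [Groth.L21.PlaneCurve.h_top_OX I hI 0 hi, Nat.choose_eq_zero_of_lt, Nat.zero_sub]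
      omega
    · exact Groth.L21.RR.h_eq_zero_of_subsingleton k
        (Groth.L21.PlaneCurve.subsingleton_OX_mid I hI 0 (by omega) him)
  · have h0 : Groth.L21.RR.h k 0 (Coh.structureModule I.subscheme) = 1 := by
      rw [hh, Groth.L21.PlaneCurve.h0_OX I hI 0 (by omega),
        Nat.choose_eq_zero_of_lt (show ((0 : ℤ) - ((2 : ℕ) : ℤ) + ((n : ℤ) + 1)).toNat < n + 1 by omega), Nat.sub_zero,
        show ((0 : ℤ) + ((n : ℤ) + 1)).toNat = n + 1 by omega, Nat.choose_self]
    haveI : Nontrivial Γ(I.subscheme, ⊤) := by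
      haveI := Groth.L21.PlaneCurve.connectedSpace_of_h0_eq_one h0
      haveI : Nonempty I.subscheme := ConnectedSpace.toNonempty
      haveI : Nonempty ↥((⊤ : I.subscheme.Opens)) := ⟨⟨Classical.arbitrary _, trivial⟩⟩
      haveI : Nonempty (⊤ : I.subscheme.Opens).toScheme := ⟨⟨Classical.arbitrary _, trivial⟩⟩
      exact @Scheme.component_nontrivial I.subscheme ⊤ ⟨⟨Classical.arbitrary _, trivial⟩⟩
    haveI : Nontrivial (Coh.Γtop I.subscheme) := ‹Nontrivial Γ(I.subscheme, ⊤)›
    let c := Coh.toGlobal (I.subscheme ↘ Spec (CommRingCat.of k))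
    have hbij : Function.Bijective c := ⟨c.injective, fun y => Groth.L21.PlaneCurve.exists_const h0 y⟩
    let es := (Scheme.ΓSpecIso (CommRingCat.of k)).commRingCatIsoToRingEquiv
    have : ∀ x, (I.subschemeι ≫ CohB1.ProjSpace.toSpec (n + 1) k).appTop.hom x = c (es x) := fun x => by
      show _ = (I.subschemeι ≫ CohB1.ProjSpace.toSpec (n + 1) k).appTop.hom (es.symm (es x))
      rw [RingEquiv.symm_apply_apply]
    rw [show ⇑(I.subschemeι ≫ CohB1.ProjSpace.toSpec (n + 1) k).appTop.hom = c ∘ es from funext this]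
    exact hbij.comp es.bijective

end Groth.Agent.S8731
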