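import Groth.Statements.S8737
import Groth.Agent.L12.EvenCentre.Clifford

set_option autoImplicit false
universe u v
open SGA7II

namespace Groth.Agent.S8737

/-- Let A be a commutative ring, V a free A-module of rank 2m with m >= 1, and Q a quadratic form on V
which is non-degenerate in the sense that its polar bilinear form induces a bijection V -> Hom_A(V,
A). Let Z be the centre of the even Clifford algebra C^+(Q), and regard C^+(Q) as a Z-algebra
through the inclusion of the centre. Then Z is an etale A-algebra which is finitely generated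
projective of rank 2 at every prime of A, and C^+(Q) is an Azumaya algebra over Z. (The published
statement allows V locally free of rank 2m; this row takes V free.) -/
theorem result (A : Type u) [CommRing A] (V : Type v) [AddCommGroup V] [Module A V]
    [Module.Free A V] [Module.Finite A V] (m : ℕ) (hm : 1 ≤ m) (hV : Module.finrank A V = 2 * m)
    (Q : QuadraticForm A V) (hQ : Function.Bijective (QuadraticMap.polarBilin Q)) :
    letI : Algebra ↥(Subalgebra.center A ↥(CliffordAlgebra.even Q)) ↥(CliffordAlgebra.even Q) :=
      (Subalgebra.center A ↥(CliffordAlgebra.even Q)).val.toRingHom.toAlgebra'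
        (fun c x => (Subalgebra.mem_center_iff.mp c.2 x).symm)
    Algebra.Etale A ↥(Subalgebra.center A ↥(CliffordAlgebra.even Q)) ∧
      Module.Finite A ↥(Subalgebra.center A ↥(CliffordAlgebra.even Q)) ∧
      Module.Projective A ↥(Subalgebra.center A ↥(CliffordAlgebra.even Q)) ∧
      (∀ p : PrimeSpectrum A, Module.rankAtStalk ↥(Subalgebra.center A ↥(CliffordAlgebra.even Q)) p = 2) ∧
      IsAzumaya ↥(Subalgebra.center A ↥(CliffordAlgebra.even Q)) ↥(CliffordAlgebra.even Q) := by
  classical
  rcases subsingleton_or_nontrivial A with hA | hA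
  · exfalso
    simp [Module.finrank, rank_subsingleton] at hV
    omega
  obtain ⟨k, rfl⟩ : ∃ k, m = k + 1 := ⟨m - 1, by omega⟩
  let b : Module.Basis (Fin ((k + 1) * 2)) A V :=
    (Module.finBasis A V).reindex (finCongr (by rw [hV, mul_comm]))
  let E := b.equivFun
  let Q' : QuadraticForm A (Fin ((k + 1) * 2) → A) := Q.comp E.symm.toLinearMap
  have hQ' : QuadGrp.IsRegular Q' := by
    have h : (QuadraticMap.polarBilin Q' : _ → _) =
        (fun g => g.comp E.symm.toLinearMap) ∘ (QuadraticMap.polarBilin Q) ∘ E.symm := by
      funext x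
      refine LinearMap.ext fun y => ?_
      simp [Q', QuadraticMap.polar]
    unfold QuadGrp.IsRegular
    rw [h]
    exact (LinearEquiv.arrowCongr E (LinearEquiv.refl A A)).bijective.comp (hQ.comp E.symm.bijective)
  obtain ⟨A', _, _, hff, -, -, ⟨e⟩⟩ :=
    Groth.L15.QG.exists_fppf_split_algEquivs (Pi.basisFun A (Fin ((k + 1) * 2))) hQ'
  haveI := hff
  let iso : Q.IsometryEquiv Q' :=
    { E with map_app' := fun x => by simp [Q'] }
  obtain ⟨c⟩ := Groth.L12.EvenCentre.nonempty_even_congr iso
  exact Groth.L12.EvenCentre.split_conclusion (A' := A')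
    ((Algebra.TensorProduct.congr (AlgEquiv.refl : A' ≃ₐ[A'] A') c).trans e)


end Groth.Agent.S8737
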