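import Groth.Statements.S8747
import Groth.Agent.L23.Adeq.Split

set_option autoImplicit false
set_option backward.isDefEq.respectTransparency.types false
universe u
open CategoryTheory Limits
open Adeq

namespace Groth.Agent.S8747

/-- A short exact sequence `0 → underline(M) → G → L → 0` of module-valued functors on `A`-algebras with
`L` linearly adequate splits, and `G` is adequate. -/
theorem result (A : Type u) [CommRing A]
    (S : ShortComplex (Adeq.MVF A)) (hS : S.ShortExact) (M : ModuleCat.{u + 1} A)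
    (e : S.X₁ ≅ (Adeq.underline A).obj M) (hL : Adeq.linAdequate A S.X₃) :
    Nonempty S.Splitting ∧ Adeq.adequate A S.X₂ := by
  obtain ⟨sp⟩ := Groth.L23.Adq.exists_splitting S hS M e hL
  obtain ⟨P, P', φ₀, _, _, _, _, ⟨k⟩⟩ := hL
  refine ⟨⟨sp⟩, ?_⟩
  obtain ⟨e₁⟩ := Groth.L23.Adq.nonempty_emb (F := S.X₁) ⟨M, ModuleCat.of A PUnit, 0,
    ⟨e ≪≫ (kernelIsoOfEq ((Adeq.underline A).map_zero _ _) ≪≫ kernelZeroIsoSource).symm⟩⟩
  exact Groth.L23.Adq.adequate_of_splitting sp e₁ (Groth.L23.Adq.embOfIso (Groth.L23.Adq.kerEmb φ₀) k)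

end Groth.Agent.S8747
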