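import Groth.Statements.S8773
import Mathlib.LinearAlgebra.TensorProduct.RightExactness
-- import your own Groth.Agent.* helpers here

set_option autoImplicit false
universe u
open PureExt

open TensorProduct

namespace Groth.Agent.S8773

/-- If `L → M → N` is a universally exact sequence of `R`-modules (exact after tensoring with any
module) then the inclusion of the image of `M → N` into `N` is universally injective. -/
theorem result (R : Type u) [CommRing R]
    {L M N : Type u} [AddCommGroup L] [Module R L] [AddCommGroup M] [Module R M] [AddCommGroup N] [Module R N]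
    (f : L →ₗ[R] M) (g : M →ₗ[R] N)
    (h : ∀ (Q : Type u) [AddCommGroup Q] [Module R Q], Function.Exact (f.rTensor Q) (g.rTensor Q)) :
    CAlgX.UniversallyInjective R (LinearMap.range g).subtype := by
  intro Q _ _
  rw [injective_iff_map_eq_zero]
  intro x hx
  obtain ⟨y, rfl⟩ := LinearMap.rTensor_surjective Q g.surjective_rangeRestrict x
  rw [← LinearMap.rTensor_comp_apply, LinearMap.subtype_comp_codRestrict] at hx
  obtain ⟨z, rfl⟩ := (h Q y).1 hx
  have h0 : g ∘ₗ f = 0 := LinearMap.ext fun l =>
    (TensorProduct.rid R N).symm.injective (by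
      simpa using (h R (f l ⊗ₜ (1 : R))).2 ⟨l ⊗ₜ 1, by simp⟩)
  have : g.rangeRestrict ∘ₗ f = 0 := LinearMap.ext fun l => Subtype.ext (LinearMap.congr_fun h0 l)
  rw [← LinearMap.rTensor_comp_apply, this, LinearMap.rTensor_zero, LinearMap.zero_apply]

end Groth.Agent.S8773
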