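import Groth.Statements.S8795
import Groth.Agent.L04.LC.CompletionTors

set_option autoImplicit false
universe u
open CategoryTheory
attribute [local instance] HasDerivedCategory.standard
open LocCoh

namespace Groth.Agent.S8795

/-- Let (A, m) be a Noetherian local ring which is I-adically complete for an ideal I and has a
dualizing complex; let d be a natural with cd(A, I) ≤ d, M a finite A-module and s a natural. Assume
that every prime p ∉ V(I) with V(p) ∩ V(I) ≠ {m} satisfies depth(M_p) ≥ s or depth(M_p) + dim(A/p) >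
d + s, and that derived I-adic completion (left adjoint to the inclusion of derived complete
objects) exists on D(A). Then there is an ideal J₀ with V(J₀) ∩ V(I) = {m} such that for every ideal
J ⊆ J₀ with V(J) ∩ V(I) = {m} whose total right derived functor RΓ_J exists, the canonical map from
RΓ_J(M) to its derived I-adic completion induces a bijection on cohomology in every degree i ≤ s.
(The identification of that completion with the completion of RΓ_m(M) is not part of this
statement.) -/
theorem result (A : Type u) [CommRing A] [IsNoetherianRing A] [IsLocalRing A] (I : Ideal A) [IsAdicComplete I A] (hdc : ∃ ω : Dual.D A, Dual.IsDualizing A ω) [DRing.HasDerivedCompletion I] (d : ℕ) (hcd : LocCoh.CdLE A I d) (M : Type u) [AddCommGroup M] [Module A M] [Module.Finite A M] (s : ℕ) (h4 : ∀ p : PrimeSpectrum A, ¬ I ≤ p.asIdeal → (∃ r : PrimeSpectrum A, p ≤ r ∧ I ≤ r.asIdeal ∧ r.asIdeal ≠ IsLocalRing.maximalIdeal A) → (s : ℕ∞) ≤ LocCoh.depth (Localization.AtPrime p.asIdeal) (LocalizedModule p.asIdeal.primeCompl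 M) ∨ (((d + s : ℕ) : ℕ∞) : WithBot ℕ∞) < ((LocCoh.depth (Localization.AtPrime p.asIdeal) (LocalizedModule p.asIdeal.primeCompl M) : ℕ∞) : WithBot ℕ∞) + ringKrullDim (A ⧸ p.asIdeal)) : ∃ J₀ : Ideal A, PrimeSpectrum.zeroLocus ((J₀ : Ideal A) : Set A) ∩ PrimeSpectrum.zeroLocus ((I : Ideal A) : Set A) = {IsLocalRing.closedPoint A} ∧ ∀ (J : Ideal A) [DRing.HasRgammaI J], J ≤ J₀ → PrimeSpectrum.zeroLocus ((J : Ideal A) : Set A) ∩ PrimeSpectrum.zeroLocus ((I : Ideal A) : Set A) = {IsLocalRing.closedPoint A} → ∀ i : ℤ, i ≤ s → Function.Bijective ((DerivedCategory.homologyFunctor (ModuleCat.{u} A) i).map (DRing.toDerivedCompletion I ((DRing.RgammaI J).obj (Dual.inD A M)))).hom := by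

    obtain ⟨ω, hω⟩ := hdc
    obtain ⟨W, hinj, hK, hW⟩ := Groth.L04.ComplTors.exists_dualizing_rep hω
    haveI := hinj
    haveI := hK
    haveI := Groth.L10.DualUnbounded.hasRgammaI (IsLocalRing.maximalIdeal A)
    have hIm : I ≤ IsLocalRing.maximalIdeal A :=
      (IsAdicComplete.le_jacobson_bot I).trans (IsLocalRing.jacobson_eq_maximalIdeal ⊥ bot_ne_top).le
    obtain ⟨J₀, hle, hV, htors⟩ := Groth.L04.ComplTors.exists_torsion I (IsLocalRing.maximalIdeal A) hW M s d hcd
      (fun p hI hq m hm => by
      by_cases hsm : s ≤ m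
      · exact Or.inl hsm
      refine Or.inr fun q hpq hqJ hqI => ?_
      obtain rfl : q = IsLocalRing.closedPoint A :=
        PrimeSpectrum.ext (le_antisymm (IsLocalRing.le_maximalIdeal q.isPrime.ne_top) hqJ)
      obtain ⟨r, h1, h2, h3⟩ := hq
      rcases h4 p hI ⟨r, h1, h2, fun h => h3 h.ge⟩ with h | h
      · exact absurd (by
          change (s : ℕ∞) ≤ Groth.L04.AlgKill.dep M p at h
          rw [hm] at h
          exact_mod_cast h) hsm
      · change _ < ((Groth.L04.AlgKill.dep M p : ℕ∞) : WithBot ℕ∞) + _ at h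
        rw [hm, Groth.L04.ComplTors.ringKrullDim_quotient_eq hW p] at h
        have := Groth.L04.ComplTors.lt_of_lt_dimBetween hW hpq (d + s) m h
        lia)
    have hV0 : PrimeSpectrum.zeroLocus ((IsLocalRing.maximalIdeal A : Ideal A) : Set A) ∩
        PrimeSpectrum.zeroLocus (I : Set A) = {IsLocalRing.closedPoint A} := by
      ext q
      constructor
      · exact fun hq => PrimeSpectrum.ext (le_antisymm (IsLocalRing.le_maximalIdeal q.isPrime.ne_top) hq.1)
      · rintro rfl
        exact ⟨le_refl (IsLocalRing.maximalIdeal A), hIm⟩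
    refine ⟨J₀, ?_, fun J' _ hJ' hV' i hi => ?_⟩
    · rw [← hV0]
      exact Set.Subset.antisymm (fun q hq => ⟨hV q hq.1 hq.2, hq.2⟩) (fun q hq => ⟨hle.trans hq.1, hq.2⟩)
    exact Groth.L04.ComplTors.bijective_of_torsion I _ M s J₀ htors J' hJ' (hV'.trans hV0.symm) i hi

end Groth.Agent.S8795
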