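import Groth.Statements.S8802
import Groth.Agent.L29.Formal.RegularSplit

set_option autoImplicit false
set_option backward.isDefEq.respectTransparency false
universe u
open CategoryTheory AlgebraicGeometry Opposite
open Algz

namespace Groth.Agent.S8802

/-- Let A be a Noetherian ring, I ⊆ 𝔞 ideals, U the complement of V(𝔞) in Spec A, and (F_n) an object of
Coh(U, IO_U), indexed here from 0. Assume: (1) there are f_1, …, f_d ∈ I such that for every point y
of U lying in V(I) the ideal IO_{U,y} is generated by the images of f_1, …, f_d and f_1, …, f_d form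
a regular sequence on the completed stalk F^∧_y over the completed local ring; (2) writing F_0 for
the first term of the system, both cohomology groups H^1(U, F_0) and H^0(U, F_0) are finitely
generated over A. Under these hypotheses the system (F_n) admits a canonical extension to all of
Spec A. -/
theorem result (A : Type u) [CommRing A] [IsNoetherianRing A] (I 𝔞 : Ideal A) (hI𝔞 : I ≤ 𝔞) (G : ℕᵒᵖ ⥤ (↑(LocCoh.puncturedOpen A 𝔞) : Scheme.{u}).Modules) (hG : Formal.IsCohFormal I G) (d : ℕ) (f : Fin d → A) (hfI : ∀ j, f j ∈ I) (h1 : ∀ (y : (↑(LocCoh.puncturedOpen A 𝔞) : Scheme.{u})), (LocCoh.puncturedOpen A 𝔞).ι.base y ∈ PrimeSpectrum.zeroLocus (R := A) I → Algz.stalkIdeal I y = Ideal.span (Set.range (fun j => Algz.toStalk A (↑(LocCoh.puncturedOpen A 𝔞) : Scheme.{u}) y (f j))) ∧ RingTheory.Sequence.IsRegular ↥(Algz.hatStalk I G y) (List.ofFn (fun j => algebraMap ((↑(LocCoh.puncturedOpen A 𝔞) : Scheme.{u}).presheaf.stalk y) (Algz.hatRing I y) (Algz.toStalk A (↑(LocCoh.puncturedOpen A 𝔞) : Scheme.{u})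 y (f j))))) (h2 : Module.Finite A (Coh.HH (↑(LocCoh.puncturedOpen A 𝔞) : Scheme.{u}) (G.obj (op 0)) 0) ∧ Module.Finite A (Coh.HH (↑(LocCoh.puncturedOpen A 𝔞) : Scheme.{u}) (G.obj (op 0)) 1)) : Algz.CanonicallyExtends A I (LocCoh.puncturedOpen A 𝔞) G := by
  haveI : IsNoetherianRing (CommRingCat.of A) := ‹IsNoetherianRing A›
  let U := LocCoh.puncturedOpen A 𝔞
  haveI : IsLocallyNoetherian (U : Scheme.{u}) := isLocallyNoetherian_of_isOpenImmersion U.ι
  obtain ⟨s, hs⟩ := (IsNoetherian.noetherian I : I.FG)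
  let g : Fin s.card → A := fun i => s.equivFin.symm i
  have hI : I = Ideal.span (Set.range (Fin.append f g)) := by
    refine le_antisymm ?_ (Ideal.span_le.2 ?_)
    · conv_lhs => rw [← hs]
      refine Ideal.span_mono fun x hx => ⟨Fin.natAdd d (s.equivFin ⟨x, hx⟩), ?_⟩
      simp [g]
    · rintro _ ⟨i, rfl⟩
      induction i using Fin.addCases with
      | left i => simpa using hfI i
      | right i =>
        rw [Fin.append_right, SetLike.mem_coe, ← hs]
        exact Ideal.subset_span (s.equivFin.symm i).2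
  haveI := h2.1
  haveI := h2.2
  refine Groth.L29.Graded.canonicallyExtends hG (Fin.append f g) hI (Groth.L29.RegHat.split hG f g hI fun y => ?_)
  by_cases hy : U.ι.base y ∈ PrimeSpectrum.zeroLocus (R := A) I
  · exact Or.inr ⟨(h1 y hy).1, (h1 y hy).2.toIsWeaklyRegular⟩
  · obtain ⟨c, hc, hcy⟩ := Set.not_subset.1 hy
    refine Or.inl ⟨c, hc, ?_⟩
    change IsUnit ((U : Scheme.{u}).presheaf.germ ⊤ y trivial
      (((U : Scheme.{u}) ↘ Spec (CommRingCat.of A)).appTop ((Scheme.ΓSpecIso (CommRingCat.of A)).inv c)))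
    rw [← Scheme.mem_basicOpen_top]
    have hpre : ((U : Scheme.{u}) ↘ Spec (CommRingCat.of A)) ⁻¹ᵁ
        ((Spec (CommRingCat.of A)).basicOpen ((Scheme.ΓSpecIso (CommRingCat.of A)).inv c)) =
        (U : Scheme.{u}).basicOpen _ := Scheme.preimage_basicOpen _ _
    refine hpre.le ?_
    change ((U : Scheme.{u}) ↘ Spec (CommRingCat.of A)) y ∈
      (Spec (CommRingCat.of A)).basicOpen ((Scheme.ΓSpecIso (CommRingCat.of A)).inv c)
    rw [basicOpen_eq_of_affine]
    exact hcy

end Groth.Agent.S8802
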