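import Groth.Statements.S8812
import Mathlib.Order.KrullDimension
import Mathlib.Topology.Specialization
import Mathlib.Algebra.BigOperators.Fin

set_option autoImplicit false
universe u
open CategoryTheory AlgebraicGeometry
open Algz

namespace Groth.Agent.S8812

variable {Y : Type u} [TopologicalSpace Y] [T0Space Y]

omit [T0Space Y] in
theorem codimPt_congr {w v w' v' : Y} (hw : w = w') (hv : v = v') (h : w ⤳ v) (h' : w' ⤳ v') :
    codimPt w v h = codimPt w' v' h' := by
  subst hw hv
  rfl

theorem eq_of_codimPt_eq_zero {w v : Y} (h : w ⤳ v) (h0 : codimPt w v h = 0) : w = v := by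
  have hmin := Order.height_eq_zero.1 h0
  have h1 := @hmin ⟨Specialization.toEquiv v, le_refl (Specialization.toEquiv v)⟩
    (show Specialization.toEquiv v ≤ Specialization.toEquiv w from h)
  have h2 : v ⤳ w := h1
  exact (h.antisymm h2).eq

theorem codimPt_self (w : Y) (h : w ⤳ w) : codimPt w w h = 0 := by
  refine Order.height_eq_zero.2 fun z hz => ?_
  exact z.2

theorem one_le_codimPt {w v : Y} (h : w ⤳ v) (hne : w ≠ v) : 1 ≤ codimPt w v h :=
  Order.one_le_iff_pos.2 (pos_iff_ne_zero.2 fun h0 => hne (eq_of_codimPt_eq_zero h h0))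

omit [T0Space Y] in
theorem codimPt_le {w v v' : Y} (h : w ⤳ v) (hv : v ⤳ v') :
    codimPt w v h ≤ codimPt w v' (h.trans hv) := by
  let f : Set.Ici (Specialization.toEquiv v) → Set.Ici (Specialization.toEquiv v') :=
    fun z => ⟨z.1, le_trans (show Specialization.toEquiv v' ≤ Specialization.toEquiv v from hv) z.2⟩
  exact Order.height_le_height_apply_of_strictMono f (fun a b hab => hab)
    ⟨Specialization.toEquiv w, h⟩

theorem sum_filter_snoc {k : ℕ} (f : Fin (k + 1) → ℕ∞) (P : Fin (k + 1) → Prop) [DecidablePred P] :
    ∑ j ∈ Finset.univ.filter P, f j =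
      ∑ j ∈ Finset.univ.filter (fun j : Fin k => P j.castSucc), f j.castSucc +
        if P (Fin.last k) then f (Fin.last k) else 0 := by
  rw [Finset.sum_filter, Finset.sum_filter, Fin.sum_univ_castSucc]

variable {Z : Set Y} {y y' : Y}

theorem exists_system (hZ : IsClosed Z) (hy : y ⤳ y') (hne : y ≠ y') {k : ℕ} (S : DSystem Z y k) :
    ∃ (k' : ℕ) (S' : DSystem Z y' k'), S'.delta ≤ S.delta := by
  classical
  by_cases hc : S.c (Fin.last k) = 0
  · have hv : S.v (Fin.last k) = y :=
      ((eq_of_codimPt_eq_zero _ hc).symm).trans S.last_eq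
    cases k with
    | zero =>
      have hyZ : y ∈ Z := hv ▸ S.start_mem
      let S' : DSystem Z y' 0 :=
        { v := fun _ => y'
          w := fun _ => y'
          spec := fun _ => specializes_rfl
          spec_succ := fun i => i.elim0
          start_mem := hy.mem_closed hZ hyZ
          last_eq := rfl }
      refine ⟨0, S', ?_⟩
      have : ∀ j, S'.c j = 0 := fun j => codimPt_self y' _
      simp [DSystem.delta, this]
    | succ k =>
      let V := Function.update S.v (Fin.last (k + 1)) y'
      let W := Function.update S.w (Fin.last (k + 1)) y'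
      have hV : ∀ i, i ≠ Fin.last (k + 1) → V i = S.v i := fun i hi => Function.update_of_ne hi _ _
      have hW : ∀ i, i ≠ Fin.last (k + 1) → W i = S.w i := fun i hi => Function.update_of_ne hi _ _
      have hVl : V (Fin.last (k + 1)) = y' := Function.update_self _ _ _
      have hWl : W (Fin.last (k + 1)) = y' := Function.update_self _ _ _
      have hcs : ∀ i : Fin (k + 1), i.castSucc ≠ Fin.last (k + 1) := fun i => (Fin.castSucc_lt_last i).ne
      have hVs : ∀ i : Fin (k + 1), S.v i.succ ⤳ V i.succ := fun i => by
        by_cases hi : i.succ = Fin.last (k + 1)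
        · rw [hi, hVl, hv]; exact hy
        · rw [hV _ hi]
      let S' : DSystem Z y' (k + 1) :=
        { v := V
          w := W
          spec := fun i => by
            by_cases hi : i = Fin.last (k + 1)
            · rw [hi, hVl, hWl]
            · rw [hV _ hi, hW _ hi]; exact S.spec i
          spec_succ := fun i => by
            rw [hW _ (hcs i)]
            exact (S.spec_succ i).trans (hVs i)
          start_mem := by
            rw [hV _ (Fin.last_pos).ne]
            exact S.start_mem
          last_eq := hWl }
      refine ⟨k + 1, S', add_le_add le_rfl (Finset.sup_mono_fun fun i _ => tsub_le_tsub ?_ ?_)⟩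
      · refine Finset.sum_le_sum fun j _ => ?_
        by_cases hj : j = Fin.last (k + 1)
        · subst hj
          exact ((codimPt_congr hWl hVl _ specializes_rfl).trans (codimPt_self y' _)).le.trans zero_le
        · exact (codimPt_congr (hW _ hj) (hV _ hj) _ _).le
      · refine Finset.sum_le_sum fun j _ => ?_
        exact (codimPt_le (S.spec_succ j) (hVs j)).trans
          (codimPt_congr (hW _ (hcs j)).symm rfl _ _).le
  · let b0 : ℕ∞ := codimPt y y' hy
    have hb0 : 1 ≤ b0 := one_le_codimPt hy hne
    let S' : DSystem Z y' (k + 1) :=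
      { v := Fin.snoc (α := fun _ => Y) S.v y'
        w := Fin.snoc (α := fun _ => Y) S.w y'
        spec := fun i => by
          induction i using Fin.lastCases with
          | last => simpa using specializes_rfl
          | cast i => simpa using S.spec i
        spec_succ := fun i => by
          induction i using Fin.lastCases with
          | last => simpa [S.last_eq] using hy
          | cast i =>
            rw [Fin.succ_castSucc, Fin.snoc_castSucc, Fin.snoc_castSucc]
            exact S.spec_succ i
        start_mem := by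
          rw [← Fin.castSucc_zero, Fin.snoc_castSucc]
          exact S.start_mem
        last_eq := by simp }
    have hcl : S'.c (Fin.last (k + 1)) = 0 :=
      (codimPt_congr (Fin.snoc_last (α := fun _ => Y) y' S.w) (Fin.snoc_last (α := fun _ => Y) y' S.v) _
        specializes_rfl).trans (codimPt_self y' _)
    have hci : ∀ i : Fin (k + 1), S'.c i.castSucc = S.c i := fun i =>
      codimPt_congr (Fin.snoc_castSucc (α := fun _ => Y) y' S.w i) (Fin.snoc_castSucc (α := fun _ => Y) y' S.v i) _ _
    have hbl : S'.b (Fin.last k) = b0 :=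
      codimPt_congr ((Fin.snoc_castSucc (α := fun _ => Y) y' S.w _).trans S.last_eq)
        (show Fin.snoc (α := fun _ => Y) S.v y' (Fin.last k).succ = y' by simp) _ _
    have hbi : ∀ i : Fin k, S'.b i.castSucc = S.b i := fun i =>
      codimPt_congr (Fin.snoc_castSucc (α := fun _ => Y) y' S.w _)
        (show Fin.snoc (α := fun _ => Y) S.v y' i.castSucc.succ = S.v i.succ by
          rw [Fin.succ_castSucc, Fin.snoc_castSucc]) _ _
    let T : Fin (k + 1) → ℕ∞ := fun i =>
      (∑ j ∈ Finset.univ.filter (fun j : Fin (k + 1) => i ≤ j), S.c j) -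
        ∑ j ∈ Finset.univ.filter (fun j : Fin k => i.val ≤ j.val), S.b j
    let M := Finset.univ.sup T
    have hM : 1 ≤ M := by
      refine le_trans ?_ (Finset.le_sup (f := T) (Finset.mem_univ (Fin.last k)))
      have e1 : Finset.univ.filter (fun j : Fin (k + 1) => Fin.last k ≤ j) = {Fin.last k} := by
        ext j; simp [Fin.last_le_iff]
      have e2 : Finset.univ.filter (fun j : Fin k => (Fin.last k).val ≤ j.val) = ∅ := by
        ext j; simp
      show 1 ≤ _ - _
      rw [e1, e2, Finset.sum_singleton, Finset.sum_empty, tsub_zero]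
      exact Order.one_le_iff_pos.2 (pos_iff_ne_zero.2 hc)
    refine ⟨k + 1, S', ?_⟩
    show ((k + 1 : ℕ) : ℕ∞) + _ ≤ (k : ℕ∞) + M
    rw [Nat.cast_add, Nat.cast_one, add_assoc]
    refine add_le_add le_rfl ?_
    refine (add_le_add le_rfl (Finset.sup_le (a := M - 1) fun i _ => ?_)).trans (add_tsub_cancel_of_le hM).le
    induction i using Fin.lastCases with
    | last =>
      refine le_trans tsub_le_self (le_of_eq_of_le ?_ zero_le)
      refine Finset.sum_eq_zero fun j hj => ?_
      obtain rfl : j = Fin.last (k + 1) := Fin.last_le_iff.1 (Finset.mem_filter.1 hj).2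
      exact hcl
    | cast i =>
      rw [sum_filter_snoc S'.c, sum_filter_snoc S'.b, if_pos (Fin.le_last _),
        if_pos (show i.castSucc.val ≤ (Fin.last k).val by simpa using Nat.le_of_lt_succ i.isLt), hcl, hbl,
        add_zero]
      simp only [hci, hbi, Fin.castSucc_le_castSucc_iff, Fin.val_castSucc]
      rw [tsub_add_eq_tsub_tsub]
      exact tsub_le_tsub (Finset.le_sup (f := T) (Finset.mem_univ i)) hb0

/-- Let Y be a Noetherian scheme and Z ⊆ Y a closed subset. If y specializes to y' then δ_Z(y') ≤
δ_Z(y); equivalently each set {y | δ_Z(y) ≤ k} is stable under specialization. -/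
theorem result (Y : Scheme.{u}) [IsNoetherian Y] (Z : Set Y) (hZ : IsClosed Z) (y y' : Y) (h : y ⤳ y') : Algz.deltaZ Z y' ≤ Algz.deltaZ Z y := by
  by_cases hne : y = y'
  · subst hne; exact le_rfl
  refine le_iInf₂ fun k S => ?_
  obtain ⟨k', S', hS'⟩ := exists_system hZ h hne S
  exact (iInf₂_le k' S').trans hS'

end Groth.Agent.S8812
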