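import Groth.Statements.S8813
import Mathlib.AlgebraicGeometry.Stalk
import Mathlib.AlgebraicGeometry.Morphisms.Preimmersion
import Mathlib.RingTheory.KrullDimension.Basic
import Mathlib.RingTheory.Spectrum.Prime.Topology

set_option autoImplicit false
universe u
open CategoryTheory AlgebraicGeometry
open Algz

namespace Groth.Agent.S8813

/-- Let Y be a Noetherian scheme, Z ⊆ Y a closed subset, y a point of Y and z a point of Z lying in the
closure of y. Then δ_Z(y) is at most the dimension of the local ring at z of the closure of y with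
its reduced structure, that is, the Krull dimension of O_{Y,z}/𝔭 where 𝔭 is the prime ideal of the
local ring O_{Y,z} given by the point of Spec O_{Y,z} that maps to y. -/
theorem result (Y : Scheme.{u}) [IsNoetherian Y] (Z : Set Y) (hZ : IsClosed Z) (y z : Y) (h : y ⤳ z) (hz : z ∈ Z) (P : PrimeSpectrum (Y.presheaf.stalk z)) (hP : (Y.fromSpecStalk z).base P = y) : ((Algz.deltaZ Z y : ℕ∞) : WithBot ℕ∞) ≤ ringKrullDim (↥(Y.presheaf.stalk z) ⧸ P.asIdeal) := by
  have hle : Algz.deltaZ Z y ≤ Algz.codimPt y z h := by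
    refine iInf₂_le_of_le 0
      { v := fun _ => z, w := fun _ => y, spec := fun _ => h, spec_succ := fun i => i.elim0,
        start_mem := hz, last_eq := rfl } (le_of_eq ?_)
    simp [Algz.DSystem.delta, Algz.DSystem.c]
  refine le_trans (WithBot.coe_le_coe.mpr hle) ?_
  unfold Algz.codimPt
  rw [Order.height_eq_krullDim_Iic, ringKrullDim, ← Order.krullDim_orderDual (α := PrimeSpectrum _)]
  have emb := (Y.fromSpecStalk z).isEmbedding
  set y0 : Set.Ici (Specialization.toEquiv z) := ⟨Specialization.toEquiv y, Specialization.toEquiv_le_toEquiv.mpr h⟩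
  have hrange : ∀ x : Set.Iic y0, ∃ Q : PrimeSpectrum (Y.presheaf.stalk z),
      (Y.fromSpecStalk z).base Q = Specialization.ofEquiv x.1.1 := fun x => by
    have hx : Specialization.ofEquiv x.1.1 ∈ Set.range (Y.fromSpecStalk z).base := by
      erw [Scheme.range_fromSpecStalk]
      exact x.1.2
    obtain ⟨Q, hQ⟩ := hx
    exact ⟨Q, hQ⟩
  choose Q hQ using hrange
  have hPQ : ∀ x, Q x ∈ PrimeSpectrum.zeroLocus (P.asIdeal : Set (Y.presheaf.stalk z)) := fun x => by
    refine PrimeSpectrum.mem_zeroLocus _ _ |>.mpr (SetLike.coe_subset_coe.mpr ?_)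
    refine (PrimeSpectrum.le_iff_specializes P (Q x)).mpr (emb.isInducing.specializes_iff.mp ?_)
    erw [hP, hQ x]
    exact x.2
  refine Order.krullDim_le_of_strictMono (fun x => OrderDual.toDual
    ((Ideal.primeSpectrumQuotientOrderIsoZeroLocus P.asIdeal).symm ⟨Q x, hPQ x⟩)) fun a b hab => ?_
  refine OrderDual.toDual_lt_toDual.mpr ((OrderIso.lt_iff_lt _).mpr ?_)
  refine lt_of_le_not_ge (α := {x // x ∈ PrimeSpectrum.zeroLocus _}) ?_ fun hge => hab.not_ge ?_
  · show Q b ≤ Q a
    refine (PrimeSpectrum.le_iff_specializes _ _).mpr (emb.isInducing.specializes_iff.mp ?_)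
    erw [hQ a, hQ b]
    exact hab.le
  · have h1 : Q a ≤ Q b := hge
    have h2 := ((PrimeSpectrum.le_iff_specializes _ _).mp h1).map (Y.fromSpecStalk z).continuous
    erw [hQ a, hQ b] at h2
    exact h2

end Groth.Agent.S8813
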