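import Groth.Statements.S8814
import Mathlib.Order.KrullDimension
import Mathlib.Topology.Specialization
import Mathlib.Algebra.BigOperators.Fin
import Mathlib.Tactic.Ring

set_option autoImplicit false
universe u
open CategoryTheory AlgebraicGeometry
open Algz

namespace Groth.Agent.S8814

variable {Y : Scheme.{u}} {δ : Y → ℤ} (hδ : Cyc.IsDimFun Y δ)

include hδ in
theorem exists_step {w v : Y} (h : w ⤳ v) (hne : w ≠ v) :
    ∃ z : Y, w ⤳ z ∧ z ⤳ v ∧ z ≠ w ∧ δ w = δ z + 1 := by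
  obtain ⟨m, ⟨z, hwz, hzv, hzw, rfl⟩, hmax⟩ := Int.exists_greatest_of_bdd
    (P := fun m => ∃ z : Y, w ⤳ z ∧ z ⤳ v ∧ z ≠ w ∧ δ z = m)
    ⟨δ w, fun m ⟨z, hwz, _, hzw, hz⟩ => hz ▸ (hδ w z hwz hzw.symm).1.le⟩
    ⟨δ v, v, h, specializes_rfl, hne.symm, rfl⟩
  refine ⟨z, hwz, hzv, hzw, (hδ w z hwz hzw.symm).2 fun a hwa haz => ?_⟩
  by_contra hcon
  push Not at hcon
  have := (hδ a z haz hcon.2).1
  have := hmax (δ a) ⟨a, hwa, haz.trans hzv, hcon.1, rfl⟩
  omega

include hδ in
theorem codimPt_eq {w v : Y} (h : w ⤳ v) :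
    0 ≤ δ w - δ v ∧ codimPt w v h = ((δ w - δ v).toNat : ℕ∞) := by
  have hnn : ∀ {a b : Y}, a ⤳ b → 0 ≤ δ a - δ b := fun {a b} hab => by
    by_cases he : a = b
    · simp [he]
    · have := (hδ a b hab he).1
      omega
  refine ⟨hnn h, le_antisymm ?_ ?_⟩
  · let f : Set.Ici (Specialization.toEquiv v) → ℕ := fun z => (δ (Specialization.ofEquiv z.1) - δ v).toNat
    have hf : StrictMono f := fun a b hab => by
      have hb : Specialization.ofEquiv b.1 ⤳ Specialization.ofEquiv a.1 := hab.le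
      have hne : Specialization.ofEquiv b.1 ≠ Specialization.ofEquiv a.1 := fun he =>
        hab.ne (Subtype.ext (Specialization.ofEquiv.injective he.symm))
      have h1 := (hδ _ _ hb hne).1
      have h2 := hnn (show Specialization.ofEquiv a.1 ⤳ v from a.2)
      show (δ _ - δ v).toNat < (δ _ - δ v).toNat
      omega
    refine (Order.height_le_height_apply_of_strictMono f hf ⟨Specialization.toEquiv w, h⟩).trans ?_
    rw [Order.height_nat]
    rfl
  · suffices H : ∀ (m : ℕ) (a : Y) (ha : a ⤳ v), δ a - δ v = m → (m : ℕ∞) ≤ codimPt a v ha from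
      H _ w h (Int.toNat_of_nonneg (hnn h)).symm
    intro m
    induction m with
    | zero => intro a ha _; simp
    | succ m ih =>
      intro a ha hm
      have hne : a ≠ v := fun he => by subst he; omega
      obtain ⟨z, haz, hzv, hza, hz⟩ := exists_step hδ ha hne
      have h1 := ih z hzv (by omega)
      have hlt : (⟨Specialization.toEquiv z, hzv⟩ : Set.Ici (Specialization.toEquiv v)) <
          ⟨Specialization.toEquiv a, ha⟩ := by
        refine lt_of_le_of_ne (show Specialization.toEquiv z ≤ Specialization.toEquiv a from haz) fun he => hza ?_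
        exact Specialization.toEquiv.injective (congrArg Subtype.val he)
      push_cast
      exact (add_le_add h1 le_rfl).trans (Order.height_add_one_le hlt)

include hδ in
theorem le_delta {Z : Set Y} {y : Y} {k : ℕ} (S : DSystem Z y k) (n : ℕ) (hn : S.delta ≤ n) :
    δ y ≤ n + δ (S.v 0) := by
  let C : Fin (k + 1) → ℕ := fun i => (δ (S.w i) - δ (S.v i)).toNat
  let B : Fin k → ℕ := fun i => (δ (S.w i.castSucc) - δ (S.v i.succ)).toNat
  have hC : ∀ i, S.c i = C i := fun i => (codimPt_eq hδ (S.spec i)).2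
  have hB : ∀ i, S.b i = B i := fun i => (codimPt_eq hδ (S.spec_succ i)).2
  have h0 : ((∑ i, C i - ∑ i, B i : ℕ) : ℕ∞) ≤ n := by
    refine le_trans (le_trans ?_ (Finset.le_sup (f := fun i : Fin (k + 1) =>
      (∑ j ∈ Finset.univ.filter (fun j : Fin (k + 1) => i ≤ j), S.c j) -
        ∑ j ∈ Finset.univ.filter (fun j : Fin k => i.val ≤ j.val), S.b j) (Finset.mem_univ 0))) (le_trans le_add_self hn)
    have e1 : Finset.univ.filter (fun j : Fin (k + 1) => (0 : Fin (k + 1)) ≤ j) = Finset.univ := by simp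
    have e2 : Finset.univ.filter (fun j : Fin k => (0 : Fin (k + 1)).val ≤ j.val) = Finset.univ := by simp
    show _ ≤ _ - _
    rw [e1, e2, Finset.sum_congr rfl fun i _ => hC i, Finset.sum_congr rfl fun i _ => hB i,
      ← Nat.cast_sum, ← Nat.cast_sum, ENat.coe_sub]
  have h1 : ∑ i, C i - ∑ i, B i ≤ n := by exact_mod_cast h0
  have hCi : ∀ i, (C i : ℤ) = δ (S.w i) - δ (S.v i) := fun i => Int.toNat_of_nonneg (codimPt_eq hδ (S.spec i)).1
  have hBi : ∀ i, (B i : ℤ) = δ (S.w i.castSucc) - δ (S.v i.succ) := fun i =>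
    Int.toNat_of_nonneg (codimPt_eq hδ (S.spec_succ i)).1
  have key : ((∑ i, C i : ℕ) : ℤ) - ((∑ i, B i : ℕ) : ℤ) = δ y - δ (S.v 0) := by
    rw [Nat.cast_sum, Nat.cast_sum, Finset.sum_congr rfl fun i _ => hCi i, Finset.sum_congr rfl fun i _ => hBi i,
      Finset.sum_sub_distrib, Finset.sum_sub_distrib, Fin.sum_univ_castSucc (fun i => δ (S.w i)),
      Fin.sum_univ_succ (fun i => δ (S.v i)), S.last_eq]
    ring
  omega

/-- Let Y be a Noetherian scheme, Z ⊆ Y a closed subset and δ a dimension function on Y. If δ_Z(y) is a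
natural number n, then δ(y) ≤ n + δ(z) for some z ∈ Z; in other words δ(y) ≤ δ_Z(y) + δ_max with
δ_max the maximum of δ on Z. -/
theorem result (Y : Scheme.{u}) [IsNoetherian Y] (Z : Set Y) (hZ : IsClosed Z) (δ : Y → ℤ) (hδ : Cyc.IsDimFun Y δ) (y : Y) (n : ℕ) (hn : Algz.deltaZ Z y = n) : ∃ z ∈ Z, δ y ≤ n + δ z := by
  have hlt : Algz.deltaZ Z y < (n + 1 : ℕ) := by
    rw [hn]
    exact_mod_cast Nat.lt_succ_self n
  obtain ⟨k, S, hS⟩ : ∃ (k : ℕ) (S : DSystem Z y k), S.delta < (n + 1 : ℕ) := by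
    simpa [Algz.deltaZ, iInf_lt_iff] using hlt
  refine ⟨S.v 0, S.start_mem, le_delta hδ S n ?_⟩
  push_cast at hS
  exact (ENat.lt_coe_add_one_iff).1 hS

end Groth.Agent.S8814
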