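import Groth.Statements.S8815
import Groth.Agent.S8814
import Groth.Agent.L10.FormCat.Basic

set_option autoImplicit false
universe u
open CategoryTheory AlgebraicGeometry
open Algz

namespace Groth.Agent.S8815

open Groth.L10.FormCat in
theorem isDimFun_qd (A : Type u) [CommRing A] [IsNoetherianRing A] [IsLocalRing A] (hA : CAlg.IsCatenary A) :
    Cyc.IsDimFun (Spec (CommRingCat.of A)) (fun y => (qd (A := A) y : ℤ)) := by
  intro x y hxy hne
  let p : PrimeSpectrum A := x
  let q : PrimeSpectrum A := y
  have hle : p ≤ q := (PrimeSpectrum.le_iff_specializes p q).2 hxy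
  have hlt : p < q := lt_of_le_of_ne hle hne
  have htop : ∀ r : PrimeSpectrum A, Order.coheight r < ⊤ := fun r =>
    WithBot.coe_lt_coe.1 ((Order.coheight_le_krullDim r).trans_lt ringKrullDim_lt_top)
  refine ⟨?_, fun hz => ?_⟩
  · show (qd q : ℤ) < (qd p : ℤ)
    have h2 := Order.coheight_strictAnti hlt (htop q)
    rw [← ENat.natCast_toNat (htop p).ne, ← ENat.natCast_toNat (htop q).ne] at h2
    exact_mod_cast h2
  · have hcov : p ⋖ q := ⟨hlt, fun r hpr hrq => by
      rcases hz r ((PrimeSpectrum.le_iff_specializes p r).1 hpr.le) ((PrimeSpectrum.le_iff_specializes r q).1 hrq.le) with h | h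
      · exact hpr.ne h.symm
      · exact hrq.ne h⟩
    show (qd p : ℤ) = (qd q : ℤ) + 1
    exact_mod_cast covBy_step hA hcov

theorem qd_closedPoint (A : Type u) [CommRing A] [IsNoetherianRing A] [IsLocalRing A] :
    Groth.L10.FormCat.qd (IsLocalRing.closedPoint A) = 0 := by
  have : IsMax (IsLocalRing.closedPoint A) := fun r _ => IsLocalRing.le_maximalIdeal r.isPrime.ne_top
  simp [Groth.L10.FormCat.qd, Order.coheight_eq_zero.2 this]

/-- Let A be a catenary Noetherian local ring, Y = Spec A and Z the closed point. Then δ_Z(y) equals the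
dimension of the closure of y, i.e. dim(A/p_y), for every point y. -/
theorem result (A : Type u) [CommRing A] [IsNoetherianRing A] [IsLocalRing A] (hA : CAlg.IsCatenary A) (y : Spec (CommRingCat.of A)) : ((Algz.deltaZ ({IsLocalRing.closedPoint A} : Set (Spec (CommRingCat.of A))) y : ℕ∞) : WithBot ℕ∞) = ringKrullDim (A ⧸ y.asIdeal) := by
  classical
  rw [Groth.L10.FormCat.dim_quot]
  refine congrArg _ ?_
  let δ : Spec (CommRingCat.of A) → ℤ := fun y => (Groth.L10.FormCat.qd (A := A) y : ℤ)
  have hδ : Cyc.IsDimFun (Spec (CommRingCat.of A)) δ := isDimFun_qd A hA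
  have hm : δ (IsLocalRing.closedPoint A) = 0 := by simp [δ, qd_closedPoint]
  have hsp : y ⤳ (IsLocalRing.closedPoint A : Spec (CommRingCat.of A)) :=
    (PrimeSpectrum.le_iff_specializes (R := A) y (IsLocalRing.closedPoint A)).1
      (IsLocalRing.le_maximalIdeal y.isPrime.ne_top)
  refine le_antisymm ?_ ?_
  · let S : DSystem ({IsLocalRing.closedPoint A} : Set (Spec (CommRingCat.of A))) y 0 :=
      { v := fun _ => IsLocalRing.closedPoint A
        w := fun _ => y
        spec := fun _ => hsp
        spec_succ := fun i => i.elim0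
        start_mem := rfl
        last_eq := rfl }
    refine le_trans (iInf₂_le 0 S) ?_
    have h1 := (Groth.Agent.S8814.codimPt_eq hδ hsp).2
    have hd : S.delta = codimPt y (IsLocalRing.closedPoint A : Spec (CommRingCat.of A)) hsp := by
      simp [DSystem.delta, DSystem.c, S]
    rw [hd, h1, hm, sub_zero]
    simp [δ]
  · by_contra hcon
    push Not at hcon
    obtain ⟨k, S, hS⟩ : ∃ (k : ℕ) (S : DSystem ({IsLocalRing.closedPoint A} : Set (Spec (CommRingCat.of A))) y k),
        S.delta < (Groth.L10.FormCat.qd (A := A) y : ℕ∞) := by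
      simpa [Algz.deltaZ, iInf_lt_iff] using hcon
    obtain ⟨m, hmd⟩ := ENat.ne_top_iff_exists.1 (hS.trans_le le_top).ne
    have h2 := Groth.Agent.S8814.le_delta hδ S m hmd.ge
    rw [show S.v 0 = IsLocalRing.closedPoint A from S.start_mem, hm, add_zero] at h2
    rw [← hmd] at hS
    have h3 : m < Groth.L10.FormCat.qd (A := A) y := by exact_mod_cast hS
    have h4 : (Groth.L10.FormCat.qd (A := A) y : ℤ) ≤ (m : ℤ) := h2
    omega

end Groth.Agent.S8815
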