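import Groth.Statements.S8816
import Mathlib.Order.KrullDimension
import Mathlib.Topology.Specialization
import Mathlib.Algebra.BigOperators.Fin

set_option autoImplicit false
universe u
open CategoryTheory AlgebraicGeometry
open Algz

namespace Groth.Agent.S8816

variable {Y : Type u} [TopologicalSpace Y] [T0Space Y]

omit [T0Space Y] in
theorem codimPt_congr {w v w' v' : Y} (hw : w = w') (hv : v = v') (h : w ⤳ v) (h' : w' ⤳ v') :
    codimPt w v h = codimPt w' v' h' := by
  subst hw hv
  rfl

theorem eq_of_codimPt_eq_zero {w v : Y} (h : w ⤳ v) (h0 : codimPt w v h = 0) : w = v := by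
  have hmin := Order.height_eq_zero.1 h0
  have h1 := @hmin ⟨Specialization.toEquiv v, le_refl (Specialization.toEquiv v)⟩
    (show Specialization.toEquiv v ≤ Specialization.toEquiv w from h)
  exact (h.antisymm h1).eq

theorem codimPt_self (w : Y) (h : w ⤳ w) : codimPt w w h = 0 :=
  Order.height_eq_zero.2 fun z _ => z.2

theorem codimPt_le_one {w v : Y} (h : w ⤳ v) (hi : ∀ z : Y, w ⤳ z → z ⤳ v → z = w ∨ z = v) :
    codimPt w v h ≤ 1 := by
  classical
  let f : Set.Ici (Specialization.toEquiv v) → ℕ∞ := fun z => Order.height z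
  rw [show ((1 : ℕ∞)) = ((1 : ℕ) : ℕ∞) from rfl]
  refine Order.height_le_coe_iff.2 fun z hz => ?_
  rw [Nat.cast_one, Order.lt_one_iff, Order.height_eq_zero]
  intro a ha
  have hwz : w ⤳ Specialization.ofEquiv z.1 := hz.le
  rcases hi _ hwz z.2 with he | he
  · exact absurd (Subtype.ext (Specialization.ofEquiv.injective he) : z = ⟨Specialization.toEquiv w, h⟩) hz.ne
  · have : z.1 = Specialization.toEquiv v := Specialization.ofEquiv.injective he
    show z.1 ≤ a.1
    rw [this]
    exact a.2

/-- Let Y be a Noetherian scheme and Z ⊆ Y closed. Given points y_0, …, y_k and y'_0, …, y'_{k-1} of Y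
with y_0 ∈ Z such that each y'_i specializes to y_{i+1} with y'_i ≠ y_{i+1}, and each y'_i ⤳ y_i is
an immediate specialization (y'_i ≠ y_i and no point strictly between), one has δ_Z(y_k) ≤ k. (The
published statement also allows y'_i = y_{i+1}. In that generality the bound needs catenarity: for a
Noetherian local domain of dimension 3 having a saturated chain of primes (0) ⊂ 𝔭 ⊂ 𝔪 of length 2,
with Z the closed point and the pattern y_0 = 𝔪, y'_0 = y_1 = 𝔭, y'_1 = y_2 = (0), one has k = 2 but
δ_Z((0)) = 3. The published proof handles nontrivial specializations y'_i ⤳ y_{i+1}, for which the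
closures of the y_i and y'_i form a system of value k, and reduces to that case by shortening the
chain, which does not preserve immediacy; this row states the case the proof establishes.) -/
theorem result (Y : Scheme.{u}) [IsNoetherian Y] (Z : Set Y) (hZ : IsClosed Z) (k : ℕ) (y : Fin (k + 1) → Y) (y' : Fin k → Y) (h0 : y 0 ∈ Z) (hdown : ∀ i : Fin k, y' i ⤳ y i.castSucc ∧ y' i ≠ y i.castSucc ∧ ∀ z : Y, y' i ⤳ z → z ⤳ y i.castSucc → z = y' i ∨ z = y i.castSucc) (hup : ∀ i : Fin k, y' i ⤳ y i.succ ∧ y' i ≠ y i.succ) : Algz.deltaZ Z (y (Fin.last k)) ≤ k := by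
  classical
  let W : Fin (k + 1) → Y := Fin.snoc (α := fun _ => (Y : Type u)) y' (y (Fin.last k))
  have hWc : ∀ i : Fin k, W i.castSucc = y' i := fun i => Fin.snoc_castSucc (α := fun _ => (Y : Type u)) _ _ i
  have hWl : W (Fin.last k) = y (Fin.last k) := Fin.snoc_last (α := fun _ => (Y : Type u)) _ _
  let S : DSystem Z (y (Fin.last k)) k :=
    { v := y
      w := W
      spec := fun i => by
        induction i using Fin.lastCases with
        | last => rw [hWl]
        | cast i => rw [hWc]; exact (hdown i).1
      spec_succ := fun i => by rw [hWc]; exact (hup i).1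
      start_mem := h0
      last_eq := hWl }
  refine le_trans (iInf₂_le k S) ?_
  have hcl : S.c (Fin.last k) = 0 :=
    (codimPt_congr hWl rfl _ specializes_rfl).trans (codimPt_self _ _)
  have hb : ∀ i, 1 ≤ S.b i := fun i => by
    refine Order.one_le_iff_pos.2 (pos_iff_ne_zero.2 fun hb0 => (hup i).2 ?_)
    exact (hWc i).symm.trans (eq_of_codimPt_eq_zero _ hb0)
  have hc : ∀ i : Fin k, S.c i.castSucc ≤ 1 := fun i =>
    (codimPt_congr (hWc i) rfl _ (hdown i).1).le.trans (codimPt_le_one _ (hdown i).2.2)
  show (k : ℕ∞) + _ ≤ k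
  refine (add_le_add le_rfl (Finset.sup_le (a := 0) fun i _ => ?_)).trans (add_zero _).le
  refine (tsub_eq_zero_of_le ?_).le
  rw [Finset.sum_filter, Finset.sum_filter, Fin.sum_univ_castSucc, if_pos (Fin.le_last _), hcl, add_zero]
  refine Finset.sum_le_sum fun j _ => ?_
  by_cases hj : i.val ≤ j.val
  · rw [if_pos (show i ≤ j.castSucc from hj), if_pos hj]
    exact (hc j).trans (hb j)
  · rw [if_neg (show ¬ i ≤ j.castSucc from hj), if_neg hj]

end Groth.Agent.S8816
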