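import Groth.Statements.S8817
import Mathlib.AlgebraicGeometry.OpenImmersion
import Mathlib.Order.KrullDimension

set_option autoImplicit false
universe u
open CategoryTheory AlgebraicGeometry
open Algz

namespace Groth.Agent.S8817

section
open Topology

/-- codimension is computed inside an open subspace -/
private theorem s17_codim {X Y : Type u} [TopologicalSpace X] [TopologicalSpace Y] {f : X → Y} (hf : IsOpenEmbedding f)
    {w v : X} (h : w ⤳ v) (h' : f w ⤳ f v) : Algz.codimPt (f w) (f v) h' = Algz.codimPt w v h := by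
  let F : Set.Ici (Specialization.toEquiv v) → Set.Ici (Specialization.toEquiv (f v)) := fun z =>
    ⟨Specialization.toEquiv (f (Specialization.ofEquiv z.1)),
      (hf.isInducing.specializes_iff.mpr (show Specialization.ofEquiv z.1 ⤳ v from z.2) :
        f (Specialization.ofEquiv z.1) ⤳ f v)⟩
  have hle : ∀ a b, F a ≤ F b ↔ a ≤ b := fun a b =>
    hf.isInducing.specializes_iff (x := Specialization.ofEquiv b.1) (y := Specialization.ofEquiv a.1)
  have hbij : Function.Bijective F := by
    refine ⟨fun a b e => Subtype.ext (hf.injective (congrArg (fun z => Specialization.ofEquiv z.1) e)), fun z => ?_⟩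
    obtain ⟨x, hx⟩ := (show Specialization.ofEquiv z.1 ⤳ f v from z.2).mem_open hf.isOpen_range ⟨v, rfl⟩
    exact ⟨⟨Specialization.toEquiv x, hf.isInducing.specializes_iff.mp (show f x ⤳ f v by rw [hx]; exact z.2)⟩,
      Subtype.ext hx⟩
  let G : _ ≃o _ := { Equiv.ofBijective F hbij with map_rel_iff' := hle _ _ }
  exact Order.height_orderIso G ⟨Specialization.toEquiv w, h⟩

end


/-- Let Y be a Noetherian scheme, Z ⊆ Y a closed subset and Y' ⊆ Y an open subscheme. For a point y' of
Y' the distance function of Y' relative to Y' ∩ Z at y' is at least the distance function of Y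
relative to Z at y'. -/
theorem result (Y : Scheme.{u}) [IsNoetherian Y] (Z : Set Y) (hZ : IsClosed Z) (Y' : Y.Opens) (y' : (↑Y' : Scheme.{u})) : Algz.deltaZ Z (Y'.ι.base y') ≤ Algz.deltaZ ((fun x : (↑Y' : Scheme.{u}) => Y'.ι.base x) ⁻¹' Z) y' := by
  refine le_iInf₂ fun k S => ?_
  let S' : Algz.DSystem Z (Y'.ι.base y') k :=
    { v := fun i => Y'.ι.base (S.v i)
      w := fun i => Y'.ι.base (S.w i)
      spec := fun i => (S.spec i).map Y'.ι.continuous
      spec_succ := fun i => (S.spec_succ i).map Y'.ι.continuous
      start_mem := S.start_mem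
      last_eq := congrArg Y'.ι.base S.last_eq }
  have hc : S'.c = S.c := funext fun i => s17_codim Y'.ι.isOpenEmbedding _ _
  have hb : S'.b = S.b := funext fun i => s17_codim Y'.ι.isOpenEmbedding _ _
  refine iInf₂_le_of_le k S' (le_of_eq ?_)
  simp only [Algz.DSystem.delta, hc, hb]

end Groth.Agent.S8817
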