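import Groth.Statements.S8820
import Groth.Agent.L07.DimJacobson
import Mathlib.Order.KrullDimension
import Mathlib.Topology.Specialization

set_option autoImplicit false
universe u
open CategoryTheory AlgebraicGeometry Limits
open Algz

set_option backward.isDefEq.respectTransparency false
set_option backward.isDefEq.respectTransparency.types false

namespace Groth.Agent.S8820

open Groth.L22

/-- The codimension of the closure of a point in the closure of another is the dimension of the local ring. -/
theorem codimPt_eq_ringKrullDim {X : Scheme.{u}} {w v : X} (h : w ⤳ v) :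
    ((Algz.codimPt w v h : ℕ∞) : WithBot ℕ∞) = ringKrullDim (Cyc.LocQuot v w h) := by
  haveI := DimFormula.isDomain_locQuot v w h
  unfold Algz.codimPt
  rw [Order.height_eq_krullDim_Iic, ringKrullDim, ← Order.krullDim_orderDual (α := PrimeSpectrum _)]
  set y0 : Set.Ici (Specialization.toEquiv v) :=
    ⟨Specialization.toEquiv w, Specialization.toEquiv_le_toEquiv.mpr h⟩
  have hmem : ∀ p, w ⤳ LocQuotDim.pt v w h p ∧ LocQuotDim.pt v w h p ⤳ v := fun p =>
    (Groth.L07.DimJacobson.range_pt v w h).subset ⟨p, rfl⟩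
  let φ : (PrimeSpectrum (Cyc.LocQuot v w h))ᵒᵈ → Set.Iic y0 := fun p =>
    ⟨⟨Specialization.toEquiv (LocQuotDim.pt v w h (OrderDual.ofDual p)), (hmem _).2⟩, (hmem _).1⟩
  have hle : ∀ {p q}, φ p ≤ φ q ↔ p ≤ q := fun {p q} =>
    Iff.trans Iff.rfl (LocQuotDim.pt_specializes_iff v w h (OrderDual.ofDual q) (OrderDual.ofDual p))
  have hsurj : Function.Surjective φ := fun x => by
    obtain ⟨p, hp⟩ := LocQuotDim.exists_pt v w h
      (show w ⤳ Specialization.ofEquiv x.1.1 from x.2) (show Specialization.ofEquiv x.1.1 ⤳ v from x.1.2)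
    refine ⟨OrderDual.toDual p, Subtype.ext (Subtype.ext ?_)⟩
    show Specialization.toEquiv (LocQuotDim.pt v w h p) = x.1.1
    rw [hp]
    rfl
  have hinj : Function.Injective φ := fun p q hpq => le_antisymm (hle.mp hpq.le) (hle.mp hpq.ge)
  exact (Order.krullDim_eq_of_orderIso ⟨Equiv.ofBijective φ ⟨hinj, hsurj⟩, hle⟩).symm

theorem exists_codimPt_eq {X : Scheme.{u}} [IsLocallyNoetherian X] {w v : X} (h : w ⤳ v) :
    ∃ n : ℕ, Algz.codimPt w v h = n ∧ ringKrullDim (Cyc.LocQuot v w h) = (n : WithBot ℕ∞) := by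
  obtain ⟨D, hD, -⟩ := LocQuotDim.exists_dim_locQuot v w h
  exact ⟨D, WithBot.coe_injective ((codimPt_eq_ringKrullDim h).trans hD), hD⟩

/-- The transcendence degree of a residue field extension is at most the dimension of the fibre. -/
theorem exists_rtrdeg_le {X Y : Scheme.{u}} (f : X ⟶ Y) [LocallyOfFiniteType f] (x : X) {e : ℕ}
    (hfib : topologicalKrullDim ↑(pullback f (Y.fromSpecResidueField (f x))) ≤ (e : WithBot ℕ∞)) :
    ∃ n : ℕ, Cyc.rtrdeg f x = n ∧ n ≤ e := by
  letI : (f.fiber (f x)).Over (Spec (CommRingCat.of (Y.residueField (f x)))) :=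
    ⟨f.fiberToSpecResidueField (f x)⟩
  haveI : LocallyOfFiniteType ((f.fiber (f x)) ↘ Spec (CommRingCat.of (Y.residueField (f x)))) :=
    MorphismProperty.pullback_snd f (Y.fromSpecResidueField (f x)) inferInstance
  obtain ⟨n, hn, htr⟩ :=
    SchemeDim.exists_dim_closure_eq_trdeg (Y.residueField (f x)) (f.fiber (f x)) (f.asFiber x)
  refine ⟨n, ?_, ?_⟩
  · have := Cyc.rtrdeg_fiberι f (f x) (f.asFiber x)
    rw [f.fiberι_asFiber] at this
    rw [this, htr]
  · have h1 : topologicalKrullDim ↥(closure {f.asFiber x}) ≤ (e : WithBot ℕ∞) :=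
      ((Topology.IsEmbedding.subtypeVal).isInducing.topologicalKrullDim_le).trans hfib
    rw [hn] at h1
    exact_mod_cast h1

end Groth.Agent.S8820

namespace Groth.Agent.S8820

open Groth.L22 in
/-- Let Y be a universally catenary Noetherian scheme (every local ring universally catenary), Z ⊆ Y a
closed subset, f : Y' → Y a morphism of finite type from a Noetherian scheme all of whose fibres
have dimension at most e, and Z' = f⁻¹(Z). Then for every point y' of Y' with image y, if the
residue field extension κ(y')/κ(y) has transcendence degree t, one has δ_Z(y) + t ≤ δ_{Z'}(y') + e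
(equivalently δ_Z(y) ≤ δ_{Z'}(y') + e − t; written without subtraction). -/
theorem result (Y Y' : Scheme.{u}) [IsNoetherian Y] [IsNoetherian Y'] (hY : ∀ y : Y, CAlg.IsUniversallyCatenary (Y.presheaf.stalk y)) (Z : Set Y) (hZ : IsClosed Z) (f : Y' ⟶ Y) [LocallyOfFiniteType f] (e : ℕ) (hfib : ∀ y : Y, topologicalKrullDim ↑(pullback f (Y.fromSpecResidueField y)) ≤ (e : WithBot ℕ∞)) (y' : Y') (t : ℕ) (ht : @Algebra.trdeg (Y.residueField (f.base y')) (Y'.residueField y') _ _ (f.residueFieldMap y').hom.toAlgebra = t) : Algz.deltaZ Z (f.base y') + t ≤ Algz.deltaZ (f.base ⁻¹' Z) y' + e := by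
  classical
  choose τ hτ hτe using fun z : Y' => exists_rtrdeg_le f z (hfib (f z))
  have htτ : τ y' = t := by
    have h1 : Cyc.rtrdeg f y' = t := ht
    rw [hτ y'] at h1
    exact_mod_cast h1
  have step : ∀ (w v : Y') (h : w ⤳ v), ∃ m n : ℕ, Algz.codimPt w v h = m ∧
      Algz.codimPt (f w) (f v) (h.map f.continuous) = n ∧ m + τ v = n + τ w := by
    intro w v h
    obtain ⟨m, hm, hm'⟩ := exists_codimPt_eq h
    obtain ⟨n, hn, hn'⟩ := exists_codimPt_eq (X := Y) (h.map f.continuous)
    have key := (DimFormula.scheme_dim_formula f h (hτ v) (hτ w)).2 (hY _)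
    rw [hm', hn'] at key
    exact ⟨m, n, hm, hn, by exact_mod_cast key⟩
  rw [Algz.deltaZ, Algz.deltaZ]
  conv_rhs => rw [ENat.iInf_add]
  refine le_iInf fun k => ?_
  conv_rhs => rw [ENat.iInf_add]
  refine le_iInf fun S => ?_
  let T : Algz.DSystem Z (f y') k :=
    { v := fun i => f (S.v i)
      w := fun i => f (S.w i)
      spec := fun i => (S.spec i).map f.continuous
      spec_succ := fun i => (S.spec_succ i).map f.continuous
      start_mem := S.start_mem
      last_eq := congrArg (fun z => f z) S.last_eq }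
  refine (add_le_add (iInf₂_le_of_le k T le_rfl) le_rfl).trans ?_
  choose cm cn hcm hcn hc using fun i : Fin (k + 1) => step (S.w i) (S.v i) (S.spec i)
  choose bm bn hbm hbn hb using fun i : Fin k => step (S.w i.castSucc) (S.v i.succ) (S.spec_succ i)
  let A : Fin (k + 1) → (Fin (k + 1) → ℕ) → ℕ := fun i g =>
    ∑ j ∈ Finset.univ.filter (fun j : Fin (k + 1) => i ≤ j), g j
  let B : Fin (k + 1) → (Fin k → ℕ) → ℕ := fun i g =>
    ∑ j ∈ Finset.univ.filter (fun j : Fin k => i.val ≤ j.val), g j
  have tel : ∀ i, A i cm + B i bn + τ (S.v i) = A i cn + B i bm + t := by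
    refine Fin.reverseInduction ?_ ?_
    · have e1 : (Finset.univ.filter fun j : Fin (k + 1) => Fin.last k ≤ j) = {Fin.last k} := by
        ext j; simp [Fin.last_le_iff]
      have e2 : (Finset.univ.filter fun j : Fin k => (Fin.last k).val ≤ j.val) = ∅ := by
        ext j; simp
      simp only [A, B, e1, e2, Finset.sum_singleton, Finset.sum_empty]
      have h1 := hc (Fin.last k)
      rw [S.last_eq] at h1
      omega
    · intro i ih
      have e1 : (Finset.univ.filter fun j : Fin (k + 1) => i.castSucc ≤ j) =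
          insert i.castSucc (Finset.univ.filter fun j : Fin (k + 1) => i.succ ≤ j) := by
        ext j; simp only [Finset.mem_filter, Finset.mem_univ, true_and, Finset.mem_insert, Fin.le_def,
          Fin.ext_iff, Fin.val_castSucc, Fin.val_succ]; omega
      have e2 : (Finset.univ.filter fun j : Fin k => i.castSucc.val ≤ j.val) =
          insert i (Finset.univ.filter fun j : Fin k => i.succ.val ≤ j.val) := by
        ext j; simp only [Finset.mem_filter, Finset.mem_univ, true_and, Finset.mem_insert, Fin.ext_iff,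
          Fin.val_castSucc, Fin.val_succ]; omega
      simp only [A, B, e1, e2] at ih ⊢
      rw [Finset.sum_insert (by simp [Fin.le_def]), Finset.sum_insert (by simp [Fin.le_def]),
        Finset.sum_insert (by simp), Finset.sum_insert (by simp)]
      have h1 := hc i.castSucc
      have h2 := hb i
      omega
  have hT : ∀ i, T.c i = cn i := hcn
  have hTb : ∀ i, T.b i = bn i := hbn
  have hS : ∀ i, S.c i = cm i := hcm
  have hSb : ∀ i, S.b i = bm i := hbm
  simp only [Algz.DSystem.delta, hT, hTb, hS, hSb, ← Nat.cast_sum, ← ENat.coe_sub]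
  obtain ⟨i, -, hi⟩ := Finset.exists_mem_eq_sup (Finset.univ : Finset (Fin (k + 1))) Finset.univ_nonempty
    fun i => ((A i cn - B i bn : ℕ) : ℕ∞)
  refine le_trans (le_of_eq (congrArg (fun s => (k : ℕ∞) + s + (t : ℕ∞)) hi)) ?_
  refine le_trans ?_ (add_le_add (add_le_add le_rfl
    (Finset.le_sup (f := fun i => ((A i cm - B i bm : ℕ) : ℕ∞)) (Finset.mem_univ i))) le_rfl)
  have h1 := tel i
  have h2 := hτe (S.v i)
  have h3 := hτe y'
  have h4 : k + (A i cn - B i bn) + t ≤ k + (A i cm - B i bm) + e := by omega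
  exact_mod_cast h4

end Groth.Agent.S8820
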