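import Groth.Statements.S8821
import Groth.Agent.L29.Formal.Regular
import Mathlib.CategoryTheory.Abelian.Refinements

set_option autoImplicit false
set_option backward.isDefEq.respectTransparency false
universe u
open CategoryTheory AlgebraicGeometry
open Formal2

namespace Groth.Agent.S8821

open CategoryTheory.Limits (comp_zero)

/-- Implication (4) ⇒ (2), for an O_X-module over a base ring A and f ∈ A. Let X be a scheme over Spec
A, f ∈ A and F an O_X-module on which multiplication by f is a monomorphism. Then for every n ≥ 1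
there is a monomorphism i : F/fF → F/f^{n+1}F through which multiplication by f^n on F/f^{n+1}F
factors (projection to F/fF followed by i), and F/fF → F/f^{n+1}F → F/f^nF, with second map the
transition map, is a short exact sequence. (Stated for schemes; the published statement is for
ringed spaces.) -/
theorem result (A : Type u) [CommRing A] (X : Scheme.{u}) [X.Over (Spec (CommRingCat.of A))] (f : A) (F : X.Modules) (hF : Mono (Formal.smulMod A F f)) (n : ℕ) (hn : 1 ≤ n) : ∃ i : Formal.modPow (Ideal.span ({f} : Set A)) 1 F ⟶ Formal.modPow (Ideal.span ({f} : Set A)) (n + 1) F, Mono i ∧ Formal2.modPowLE (Ideal.span ({f} : Set A)) (Nat.le_add_left 1 n) F ≫ i = Formal.smulMod A (Formal.modPow (Ideal.span ({f} : Set A)) (n + 1) F) (f ^ n) ∧ ∃ w : i ≫ Formal.modPowTrans (Ideal.span ({f} : Set A)) n F = 0, (ShortComplex.mk i (Formal.modPowTrans (Ideal.span ({f} : Set A)) n F) w).ShortExact := by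
  let I : Ideal A := Ideal.span ({f} : Set A)
  let P := Formal.modPow I (n + 1) F
  let π₁ := Formal.modPowπ I 1 F
  let π := Formal.modPowπ I (n + 1) F
  haveI : Epi π₁ := inferInstanceAs (Epi (Limits.cokernel.π _))
  haveI : Epi π := inferInstanceAs (Epi (Limits.cokernel.π _))
  have hπ : ∀ k, Formal.smulMod A F (f ^ k) ≫ Formal.modPowπ I k F = 0 := Groth.L29.FormalReg.smulMod_π F f
  have h0 : Formal.smulFamily (I ^ 1) F ≫ Formal.smulMod A F (f ^ n) ≫ π = 0 :=
    Groth.L29.FormalReg.desc_cond F f 1 _ (by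
      rw [← Category.assoc, ← Groth.L16.Rees.smulMod_mul, ← pow_add, hπ])
  let i : Formal.modPow I 1 F ⟶ P := Limits.cokernel.desc _ _ h0
  have hi : π₁ ≫ i = Formal.smulMod A F (f ^ n) ≫ π := Limits.cokernel.π_desc _ _ _
  haveI := Groth.L29.FormalReg.mono_pow F f hF n
  have hw : i ≫ Formal.modPowTrans I n F = 0 := by
    rw [← cancel_epi π₁, comp_zero, reassoc_of% hi]
    change _ ≫ Formal.modPowπ I (n + 1) F ≫ Formal.modPowTrans I n F = 0
    rw [Formal.modPowπ_trans, hπ]
  haveI hmono : Mono i := Preadditive.mono_of_cancel_zero _ fun {T} z hz => by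
    obtain ⟨T', p, hp, y, hy⟩ := surjective_up_to_refinements_of_epi π₁ z
    have h1 : (y ≫ Formal.smulMod A F (f ^ n)) ≫ π = 0 := by
      rw [Category.assoc, ← hi, ← reassoc_of% hy, hz, comp_zero]
    obtain ⟨T'', q, hq, w, hw⟩ := (Groth.L29.FormalReg.seq_shortExact F f hF (n + 1)).exact.exact_up_to_refinements _ h1
    have h2 : q ≫ y = w ≫ Formal.smulMod A F (f ^ 1) := by
      rw [← cancel_mono (Formal.smulMod A F (f ^ n)), Category.assoc, Category.assoc, hw]
      change w ≫ Formal.smulMod A F (f ^ (n + 1)) = _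
      rw [← Groth.L16.Rees.smulMod_mul, ← pow_add, add_comm n 1]
    rw [← cancel_epi p, ← cancel_epi q, comp_zero, comp_zero, hy, reassoc_of% h2, hπ 1, comp_zero]
  refine ⟨i, hmono, ?_, hw, ?_⟩
  · rw [← cancel_epi π]
    change π ≫ Formal2.modPowLE I _ F ≫ i = _
    rw [← Category.assoc, Formal2.modPowπ_modPowLE, hi, Groth.L16.Rees.smulMod_naturality]
  · haveI : Epi (Formal.modPowTrans I n F) := by
      haveI : Epi (π ≫ Formal.modPowTrans I n F) := by
        change Epi (Formal.modPowπ I (n + 1) F ≫ Formal.modPowTrans I n F)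
        rw [Formal.modPowπ_trans]
        exact inferInstanceAs (Epi (Limits.cokernel.π _))
      exact epi_of_epi π _
    haveI : Mono (ShortComplex.mk i (Formal.modPowTrans I n F) hw).f := hmono
    refine ⟨(ShortComplex.exact_iff_exact_up_to_refinements _).2 fun T z hz => ?_⟩
    obtain ⟨T', p, hp, y, hy⟩ := surjective_up_to_refinements_of_epi π z
    change z ≫ Formal.modPowTrans I n F = 0 at hz
    have h1 : y ≫ Formal.modPowπ I n F = 0 := by
      rw [← Formal.modPowπ_trans, ← Category.assoc, ← hy, Category.assoc, hz, comp_zero]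
    obtain ⟨T'', q, hq, w, hw'⟩ := (Groth.L29.FormalReg.seq_shortExact F f hF n).exact.exact_up_to_refinements _ h1
    change q ≫ y = w ≫ Formal.smulMod A F (f ^ n) at hw'
    refine ⟨T'', q ≫ p, epi_comp _ _, w ≫ π₁, ?_⟩
    change (q ≫ p) ≫ z = (w ≫ π₁) ≫ i
    rw [Category.assoc, hy, Category.assoc, hi, reassoc_of% hw']

end Groth.Agent.S8821
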