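import Groth.Statements.S8822
import Groth.Agent.L01.AdicNoeth
import Groth.Agent.S9405
import Mathlib.RingTheory.FiniteType

set_option autoImplicit false
universe u v
open AdicRing

namespace Groth.Agent.S8822

/-- Let A be a Noetherian ring and I an ideal. Let B be an A-algebra which is complete for the IB-adic
topology and such that B/IB is of finite type over A, and let J be an ideal of B. Then B/J is
complete for the I(B/J)-adic topology (so B/J is again an object of the same category, the finite
type condition on (B/J)/I(B/J) being immediate). -/
theorem result (A : Type u) [CommRing A] [IsNoetherianRing A] (I : Ideal A) (B : Type v) [CommRing B] [Algebra A B] [IsAdicComplete (I.map (algebraMap A B)) B] (hB : Algebra.FiniteType A (B ⧸ I.map (algebraMap A B))) (J : Ideal B) : IsAdicComplete (I.map (algebraMap A (B ⧸ J))) (B ⧸ J) := by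
  haveI : IsNoetherianRing (B ⧸ I.map (algebraMap A B)) := Algebra.FiniteType.isNoetherianRing A _
  haveI : IsNoetherianRing B := Groth.L01.AdicNoeth.isNoetherianRing_of_quotient (I.map (algebraMap A B))
    (Ideal.FG.map (IsNoetherian.noetherian I) _)
  rw [IsScalarTower.algebraMap_eq A B (B ⧸ J), ← Ideal.map_map]
  exact (IsAdicComplete.map_algebraMap_iff (S := B ⧸ J) _ _).mpr
    (Groth.Agent.S9405.isAdicComplete_of_finite (I.map (algebraMap A B)) (B ⧸ J))

end Groth.Agent.S8822
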