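import Groth.Statements.S8823
import Groth.Agent.L14.Popescu.Nbhd
import Groth.Agent.S0600
import Groth.Agent.S0599

set_option autoImplicit false
universe u
open AdicRing

namespace Groth.Agent.S8823

/-- Let A be a Noetherian G-ring and I an ideal of A. Let B and C be A-algebras of finite type, φ an
A-algebra map from the IB-adic completion of B to the IC-adic completion of C, and N ≥ 1. Then one
can find an etale C-algebra C' for which the induced map C/IC → C'/IC' is a bijection, together with
a homomorphism of A-algebras ψ : B → C' that approximates φ to order N: given any b ∈ B, some c ∈ C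
satisfies ψ(b) − c ∈ I^N C', while the image of φ(b) in C/I^N C (the N-th truncation of the
completion) coincides with the class of c. -/
theorem result (A : Type u) [CommRing A] (hA : CAlg.IsGRing A) (I : Ideal A) (B C : Type u) [CommRing B] [Algebra A B] [Algebra.FiniteType A B] [CommRing C] [Algebra A C] [Algebra.FiniteType A C] (φ : (AdicCompletion (I.map (algebraMap A B)) B) →ₐ[A] (AdicCompletion (I.map (algebraMap A C)) C)) (N : ℕ) (hN : 1 ≤ N) : ∃ (C' : Type u) (_ : CommRing C') (_ : Algebra C C') (_ : Algebra A C') (_ : IsScalarTower A C C') (_ : Algebra.Etale C C') (ψ : B →ₐ[A] C'), ((∀ c' : C', ∃ c : C, algebraMap C C' c - c' ∈ I.map (algebraMap A C')) ∧ ∀ c : C, algebraMap C C' c ∈ I.map (algebraMap A C') → c ∈ I.map (algebraMap A C)) ∧ ∀ b : B, ∃ c : C, ψ b - algebraMap C C' c ∈ (I.map (algebraMap A C')) ^ N ∧ AdicCompletion.eval (I.map (algebraMap A C)) C N (φ (AdicCompletion.of (I.map (algebraMap A B)) B b)) = Submodule.Quotient.mk c := by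
  haveI : IsNoetherianRing A := hA.1
  haveI : IsNoetherianRing C := Algebra.FiniteType.isNoetherianRing A C
  haveI : Algebra.FinitePresentation A B := Algebra.FinitePresentation.of_finiteType.mp inferInstance
  let J := I.map (algebraMap A C)
  have hreg := Groth.Agent.S0600.result C (Groth.Agent.S0599.result A hA C) J
  let φB : B →ₐ[A] AdicCompletion J C :=
    φ.comp (IsScalarTower.toAlgHom A B (AdicCompletion (I.map (algebraMap A B)) B))
  let φD : TensorProduct A C B →ₐ[C] AdicCompletion J C :=
    Algebra.TensorProduct.lift (Algebra.ofId C _) φB fun _ _ => Commute.all _ _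
  obtain ⟨C', iR, iC, hE, ω, r, hsurj, hinj, hrω, hker⟩ := Groth.L14.Popescu.exists_nbhd_approx J hreg φD N hN
  letI : Algebra A C' := ((algebraMap C C').comp (algebraMap A C)).toAlgebra
  haveI : IsScalarTower A C C' := IsScalarTower.of_algebraMap_eq' rfl
  let ψ : B →ₐ[A] C' := (ω.restrictScalars A).comp Algebra.TensorProduct.includeRight
  have hmap : J.map (algebraMap C C') = I.map (algebraMap A C') := by
    rw [Ideal.map_map]; rfl
  refine ⟨C', iR, iC, inferInstance, inferInstance, hE, ψ, ⟨fun z => ?_, fun c hc => ?_⟩, fun b => ?_⟩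
  · obtain ⟨c, hc⟩ := hsurj z
    refine ⟨c, ?_⟩
    rw [← hmap, ← neg_sub]
    exact Ideal.neg_mem_iff _ |>.mpr hc
  · exact hinj c (hmap ▸ hc)
  · obtain ⟨c, hc⟩ := Submodule.Quotient.mk_surjective _
      (AdicCompletion.eval J C N (φ (AdicCompletion.of (I.map (algebraMap A B)) B b)))
    refine ⟨c, ?_, hc.symm⟩
    have h1 : AdicCompletion.evalₐ J N (φ (AdicCompletion.of (I.map (algebraMap A B)) B b)) =
        Ideal.Quotient.mk (J ^ N) c := by
      rw [← AdicCompletion.factor_eval_eq_evalₐ J _ (le_of_eq (Ideal.mul_top _)), ← hc]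
      rfl
    rw [← hmap, ← Ideal.map_pow]
    refine hker _ ?_
    rw [map_sub, r.commutes, Ideal.Quotient.algebraMap_eq]
    show r (ω ((1 : C) ⊗ₜ[A] b)) - _ = 0
    rw [hrω, Algebra.TensorProduct.lift_tmul, map_one, one_mul]
    exact sub_eq_zero.mpr h1

end Groth.Agent.S8823
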