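import Groth.Statements.S8826
import Groth.Agent.L14.Elkik.Approx
import Groth.Agent.L03.PairNoeth
import Groth.Agent.L06.NormalCompletion

set_option autoImplicit false
universe u
open AdicRing

namespace Groth.Agent.S8826

/-- Let A be a Noetherian ring and I an ideal. Let B be an A-algebra of finite type such that Spec B →
Spec A is etale over the complement of V(I) (B_a etale over A for every a ∈ I), let C be a
Noetherian A-algebra with a henselization Cʰ of the pair (C, IC), and let φ be an A-algebra map from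
the IB-adic completion of B to the IC-adic completion of C. Then there is exactly one A-algebra map
ψ : B → Cʰ which induces φ on completions, in the sense that for every n and every b ∈ B there is c
∈ C with ψ(b) − c ∈ I^n Cʰ and with the n-th truncation of φ(b) in C/I^n C equal to the class of c
(recall C/I^n C = Cʰ/I^n Cʰ). (The second assertion, that such maps factor through an etale
neighbourhood, is not stated.) -/
theorem result (A : Type u) [CommRing A] [IsNoetherianRing A] (I : Ideal A) (B : Type u) [CommRing B] [Algebra A B] [Algebra.FiniteType A B] (hB : ∀ a ∈ I, Algebra.Etale A (Localization.Away (algebraMap A B a))) (C : Type u) [CommRing C] [Algebra A C] [IsNoetherianRing C] (Ch : Type u) [CommRing Ch] [Algebra C Ch] [Algebra A Ch] [IsScalarTower A C Ch] (hCh : Hens2.IsPairHenselization C (I.map (algebraMap A C)) Ch) (φ : (AdicCompletion (I.map (algebraMap A B)) B) →ₐ[A] (AdicCompletion (I.map (algebraMap A C)) C)) : ∃! ψ : B →ₐ[A] Ch, ∀ (n : ℕ) (b : B), ∃ c : C, ψ b -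 algebraMap C Ch c ∈ (I.map (algebraMap A Ch)) ^ n ∧ AdicCompletion.eval (I.map (algebraMap A C)) C n (φ (AdicCompletion.of (I.map (algebraMap A B)) B b)) = Submodule.Quotient.mk c := by
  classical
  haveI : IsNoetherianRing Ch := Groth.L03.PairNoeth.isNoetherianRing_of_isPairHenselization C _ hCh
  let IC := I.map (algebraMap A C)
  let S := AdicCompletion IC C
  let IS := I.map (algebraMap A S)
  have hIS : IS = IC.map (algebraMap C S) := by
    simp only [IS, IC, Ideal.map_map]
    congr 1
  have hICh : IC.map (algebraMap C Ch) = I.map (algebraMap A Ch) := by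
    rw [Ideal.map_map, ← IsScalarTower.algebraMap_eq]
  haveI hHen : HenselianRing Ch (I.map (algebraMap A Ch)) := hICh ▸ hCh.1
  haveI : IsNoetherianRing S := Groth.Agent.S0543.result C IC
  haveI hSc : IsAdicComplete IS S := hIS ▸ Groth.L06.NormalTensor.isAdicComplete_completion C IC
  obtain ⟨χ, hχ, -⟩ := hCh.2 S IS (algebraMap C S) inferInstance (le_of_eq hIS.symm)
  have hχI : ∀ n, ∀ x ∈ (I.map (algebraMap A Ch)) ^ n, χ x ∈ IS ^ n := fun n x hx => by
    have h1 := Ideal.mem_map_of_mem χ hx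
    rwa [Ideal.map_pow, ← hICh, Ideal.map_map, hχ, ← hIS] at h1
  have hker : ∀ (n : ℕ) (x : S), AdicCompletion.evalₐ IC n x = 0 ↔ x ∈ IS ^ n := fun n x => by
    rw [Groth.L14.Popescu.evalₐ_eq_zero_iff (IsNoetherian.noetherian IC), hIS, Ideal.map_pow]
  have hev : ∀ (n : ℕ) (x : S) (c : C),
      AdicCompletion.eval IC C n x = Submodule.Quotient.mk c ↔ x - algebraMap C S c ∈ IS ^ n := fun n x c => by
    rw [← hker, map_sub, sub_eq_zero, AdicCompletion.algebraMap_apply, AdicCompletion.evalₐ_of,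
      ← AdicCompletion.factor_eval_eq_evalₐ IC x (le_of_eq (Ideal.mul_top _))]
    obtain ⟨c', hc'⟩ := Ideal.Quotient.mk_surjective (AdicCompletion.eval IC C n x)
    rw [← hc']
    show Submodule.Quotient.mk c' = _ ↔ Ideal.Quotient.mk _ c' = _
    rw [Submodule.Quotient.eq, Ideal.Quotient.eq, smul_eq_mul, Ideal.mul_top]
    rfl
  have hsurj : ∀ (n : ℕ) (y : Ch), ∃ c : C, y - algebraMap C Ch c ∈ (I.map (algebraMap A Ch)) ^ n := fun n y => by
    obtain ⟨x, hx⟩ := (Groth.L05.Henselization.quotientMap_pow_bijective C IC hCh n).2 (Ideal.Quotient.mk _ y)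
    obtain ⟨c, rfl⟩ := Ideal.Quotient.mk_surjective x
    refine ⟨c, ?_⟩
    rw [Ideal.quotientMap_mk, Ideal.Quotient.eq, Ideal.map_pow, hICh] at hx
    rw [← neg_sub]
    exact neg_mem hx
  let φ₀ : B →ₐ[A] S := φ.comp (IsScalarTower.toAlgHom A B _)
  have huniq : ∀ ψ : B →ₐ[A] Ch,
      (∀ (n : ℕ) (b : B), ∃ c : C, ψ b - algebraMap C Ch c ∈ (I.map (algebraMap A Ch)) ^ n ∧
        AdicCompletion.eval IC C n (φ₀ b) = Submodule.Quotient.mk c) ↔
      ∀ b, χ (ψ b) = φ₀ b := by
    intro ψ
    have hχc : ∀ c, χ (algebraMap C Ch c) = algebraMap C S c := fun c => RingHom.congr_fun hχ c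
    refine ⟨fun h b => sub_eq_zero.mp (IsHausdorff.haus (I := IS) inferInstance _ fun n => ?_), fun h n b => ?_⟩
    · obtain ⟨c, hc, hc'⟩ := h n b
      have h1 := hχI n _ hc
      rw [map_sub, hχc] at h1
      rw [SModEq.zero, smul_eq_mul, Ideal.mul_top]
      have h2 := sub_mem h1 ((hev n _ c).mp hc')
      rwa [sub_sub_sub_cancel_right] at h2
    · obtain ⟨c, hc⟩ := hsurj n (ψ b)
      refine ⟨c, hc, (hev n _ c).mpr ?_⟩
      have h1 := hχI n _ hc
      rwa [map_sub, hχc, h] at h1
  have hχA : ∀ a, χ (algebraMap A Ch a) = algebraMap A S a := fun a => by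
    rw [IsScalarTower.algebraMap_apply A C Ch, ← RingHom.comp_apply, hχ, ← IsScalarTower.algebraMap_apply]
  let χA : Ch →ₐ[A] S := { χ with commutes' := hχA }
  obtain ⟨k, hk⟩ := Groth.L14.Elkik.exists_eq_of_congruent I (IsNoetherian.noetherian I)
    (fun a ha => haveI := hB a ha; inferInstance) (B := B) S (IsAdicComplete.le_jacobson_bot IS)
  obtain ⟨k₀, hk₀⟩ := Groth.L14.Elkik.exists_algHom_approx I (IsNoetherian.noetherian I) (B := B)
    (fun a ha => haveI := hB a ha; ⟨inferInstance, inferInstance⟩) Ch k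
  let σC : C ⧸ IC ^ max k₀ k →ₐ[A] Ch ⧸ (I.map (algebraMap A Ch)) ^ k₀ :=
    Ideal.quotientMapₐ _ (IsScalarTower.toAlgHom A C Ch) (by
      rw [← Ideal.map_le_iff_le_comap]
      show Ideal.map (algebraMap C Ch) _ ≤ _
      rw [Ideal.map_pow, hICh]
      exact Ideal.pow_le_pow_right (le_max_left _ _))
  obtain ⟨τ, hτ⟩ := hk₀ (σC.comp (((AdicCompletion.evalₐ IC (max k₀ k)).restrictScalars A).comp φ₀))
  have hex : ∀ b, χ (τ b) = φ₀ b := fun b => (AlgHom.congr_fun (hk φ₀ (χA.comp τ) fun b => by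
    obtain ⟨c, hc⟩ := Ideal.Quotient.mk_surjective (AdicCompletion.evalₐ IC (max k₀ k) (φ₀ b))
    have h1 := hχI k _ (hτ b (algebraMap C Ch c) (by
      show _ = σC (AdicCompletion.evalₐ IC (max k₀ k) (φ₀ b))
      rw [← hc]
      rfl))
    rw [map_sub, show χ (algebraMap C Ch c) = algebraMap C S c from RingHom.congr_fun hχ c] at h1
    have h2 : φ₀ b - algebraMap C S c ∈ IS ^ k := Ideal.pow_le_pow_right (le_max_right k₀ k) ((hker _ _).mp (by
      rw [map_sub, AdicCompletion.algebraMap_apply, AdicCompletion.evalₐ_of, sub_eq_zero]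
      exact hc.symm))
    have h3 := sub_mem h1 h2
    rwa [sub_sub_sub_cancel_right] at h3) b).symm
  refine ⟨τ, (huniq τ).mpr hex, fun ψ hψ => ?_⟩
  obtain ⟨k', hk'⟩ := Groth.L14.Elkik.exists_eq_of_congruent I (IsNoetherian.noetherian I) (B := B)
    (fun a ha => haveI := hB a ha; inferInstance) Ch HenselianRing.jac
  refine hk' ψ τ fun b => ?_
  obtain ⟨c, hc, hc'⟩ := hψ k' b
  obtain ⟨c', hc₂, hc₂'⟩ := (huniq τ).mpr hex k' b
  have h1 : c' - c ∈ IC ^ k' := by
    have := hc₂'.symm.trans hc'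
    rw [Submodule.Quotient.eq, smul_eq_mul, Ideal.mul_top] at this
    exact this
  have h2 := Ideal.mem_map_of_mem (algebraMap C Ch) h1
  rw [Ideal.map_pow, hICh, map_sub] at h2
  have h3 := add_mem (sub_mem hc₂ hc) h2
  convert h3 using 1
  ring

end Groth.Agent.S8826
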