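import Groth.Statements.S8831
import Groth.Agent.L04.LC.PuncturedArtinian

set_option autoImplicit false
universe u
open CategoryTheory AlgebraicGeometry Opposite
open LocCoh

namespace Groth.Agent.S8831

/-- Let (A, m) be a Noetherian local ring and U = Spec A ∖ {m} the punctured spectrum. Suppose we are
given a system (F_n), indexed inversely by n, of coherent modules on U. In each positive degree i,
the cohomology groups H^i(U, F_n) then form a Mittag-Leffler system; concretely, given any n one can
find r ≥ n such that for all s ≥ r the image of H^i(U, F_s) → H^i(U, F_n) equals the image of H^i(U,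
F_r) → H^i(U, F_n). -/
theorem result (A : Type u) [CommRing A] [IsNoetherianRing A] [IsLocalRing A] (G : ℕᵒᵖ ⥤ (↑(LocCoh.puncturedOpen A (IsLocalRing.maximalIdeal A)) : Scheme.{u}).Modules) (hG : ∀ n : ℕᵒᵖ, Coh.IsCoh (G.obj n)) (i : ℕ) (hi : 0 < i) (n : ℕ) : ∃ (r : ℕ) (hnr : n ≤ r), ∀ (s : ℕ) (hrs : r ≤ s), Set.range (Sheaf.H.map ((SheafOfModules.toSheaf _).map (G.map (homOfLE (hnr.trans hrs : n ≤ s)).op)) i) = Set.range (Sheaf.H.map ((SheafOfModules.toSheaf _).map (G.map (homOfLE (hnr : n ≤ r)).op)) i) := by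

    haveI := Groth.L04.PunctLin.isArtinian_HH (G.obj (op n)) (hG (op n)) i hi
    let R : ℕ → Submodule A (Coh.HH (↑(LocCoh.puncturedOpen A (IsLocalRing.maximalIdeal A)) : Scheme.{u}) (G.obj (op n)) i) :=
      fun k => LinearMap.range (Groth.L16.CohLinear.overLin A
        (Groth.L16.CohLinear.hmap (G.map (homOfLE (Nat.le_add_right n k)).op) i))
    have hR : Antitone R := antitone_nat_of_succ_le fun k => by
      rintro _ ⟨x, rfl⟩
      refine ⟨Groth.L16.CohLinear.hmap (G.map (homOfLE (Nat.le_succ (n + k))).op) i x, ?_⟩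
      refine (Groth.L16.CohLinear.hmap_comp _ _ i x).symm.trans ?_
      rw [← G.map_comp]
      rfl
    obtain ⟨k, hk⟩ := IsArtinian.monotone_stabilizes
      ⟨fun k => OrderDual.toDual (R k), fun a b h => hR h⟩
    refine ⟨n + k, Nat.le_add_right n k, fun s hs => ?_⟩
    obtain ⟨l, rfl⟩ := Nat.exists_eq_add_of_le ((Nat.le_add_right n k).trans hs)
    exact congrArg SetLike.coe (OrderDual.toDual.injective (hk l (by omega))).symm

end Groth.Agent.S8831
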