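import Groth.Statements.S8833
import Mathlib.RingTheory.Filtration
import Mathlib.LinearAlgebra.TensorProduct.Basis
import Mathlib.RingTheory.MvPolynomial.Basic
import Mathlib.RingTheory.MvPolynomial.Tower
import Mathlib.RingTheory.MvPolynomial.Ideal
import Mathlib.RingTheory.Noetherian.Basic

set_option autoImplicit false
universe u
open scoped BigOperators TensorProduct
open LocCoh

namespace Groth.Agent.S8833

open TensorProduct

/-- Artin–Rees for the torsion: deep multiples have no torsion. -/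
theorem exists_pow_inf_torsion {B : Type u} [CommRing B] [IsNoetherianRing B] (J : Ideal B) (N : Type u)
    [AddCommGroup N] [Module B N] [Module.Finite B N] :
    ∃ k : ℕ, ∀ z ∈ (J ^ k • ⊤ : Submodule B N), ∀ m : ℕ, (∀ t ∈ J ^ m, t • z = 0) → z = 0 := by
  let T : Submodule B N :=
    { carrier := {z | ∃ m : ℕ, ∀ t ∈ J ^ m, t • z = 0}
      zero_mem' := ⟨0, fun t _ => smul_zero t⟩
      add_mem' := fun {x y} ⟨a, ha⟩ ⟨b, hb⟩ => ⟨a + b, fun t ht => by
        rw [smul_add, ha t (Ideal.pow_le_pow_right (Nat.le_add_right a b) ht),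
          hb t (Ideal.pow_le_pow_right (Nat.le_add_left b a) ht), add_zero]⟩
      smul_mem' := fun s x ⟨a, ha⟩ => ⟨a, fun t ht => by rw [smul_comm, ha t ht, smul_zero]⟩ }
  obtain ⟨s, hs⟩ := (IsNoetherian.noetherian T : T.FG)
  choose m hm using fun x : T => x.2
  let k₀ := s.attach.sup fun x => m ⟨x.1, hs ▸ Submodule.subset_span x.2⟩
  have hk₀ : J ^ k₀ • T = ⊥ := by
    rw [eq_bot_iff, Submodule.smul_le]
    intro t ht x hx
    rw [← hs] at hx
    induction hx using Submodule.span_induction with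
    | mem x hx =>
      exact hm ⟨x, hs ▸ Submodule.subset_span hx⟩ t (Ideal.pow_le_pow_right
        (Finset.le_sup (f := fun x : {x // x ∈ s} => m ⟨x.1, hs ▸ Submodule.subset_span x.2⟩)
          (Finset.mem_attach s ⟨x, hx⟩)) ht)
    | zero => rw [smul_zero]; exact Submodule.zero_mem _
    | add a b _ _ ha hb => rw [smul_add]; exact Submodule.add_mem _ ha hb
    | smul b a _ ha => rw [smul_comm]; exact Submodule.smul_mem _ b ha
  obtain ⟨k, hk⟩ := J.exists_pow_inf_eq_pow_smul T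
  refine ⟨k + k₀, fun z hz m hzm => ?_⟩
  have h1 : z ∈ (J ^ (k + k₀) • ⊤ : Submodule B N) ⊓ T := ⟨hz, m, hzm⟩
  rw [hk _ (Nat.le_add_right k k₀), Nat.add_sub_cancel_left] at h1
  have h2 : z ∈ J ^ k₀ • T := Submodule.smul_mono le_rfl inf_le_right h1
  rwa [hk₀, Submodule.mem_bot] at h2

section

variable {A : Type u} [CommRing A] (I : Ideal A) (c k : ℕ) {r : ℕ} (φ : Fin r → (↥(I ^ c) →ₗ[A] A))
  (Φ : ℕ → A → MvPolynomial (Fin r) A)

theorem phi_mem (j : Fin r) : ∀ (g : A) (hg : g ∈ I ^ (c + k)),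
    φ j ⟨g, Ideal.pow_le_pow_right (Nat.le_add_right c k) hg⟩ ∈ I ^ k := by
  intro g hg
  have hg' : g ∈ (I ^ k • (⊤ : Submodule A ↥(I ^ c))).map (Submodule.subtype (I ^ c)) := by
    rw [Submodule.map_smul'', Submodule.map_top, Submodule.range_subtype, smul_eq_mul, ← pow_add, add_comm]
    exact hg
  obtain ⟨x, hx, hxg⟩ := hg'
  obtain rfl : x = ⟨g, Ideal.pow_le_pow_right (Nat.le_add_right c k) hg⟩ := Subtype.ext hxg
  have h := Submodule.mem_map_of_mem (f := φ j) hx
  rw [Submodule.map_smul''] at h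
  have h' := Submodule.smul_mono (le_refl (I ^ k)) (le_top : Submodule.map (φ j) ⊤ ≤ ⊤) h
  rwa [smul_eq_mul, Ideal.mul_top] at h'

variable (hadd : ∀ n : ℕ, ∀ g ∈ I ^ (n * (c + k)), ∀ h ∈ I ^ (n * (c + k)), Φ n (g + h) = Φ n g + Φ n h)
  (hmul : ∀ n m : ℕ, ∀ g ∈ I ^ (n * (c + k)), ∀ h ∈ I ^ (m * (c + k)), Φ (n + m) (g * h) = Φ n g * Φ m h)
  (h11 : ∀ (g : A) (hg : g ∈ I ^ (c + k)), Φ 1 g =
    ∑ j, MvPolynomial.C (φ j ⟨g, Ideal.pow_le_pow_right (Nat.le_add_right c k) hg⟩) * MvPolynomial.X j)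

include hadd hmul h11

theorem coeff_mem (n : ℕ) (hn : 0 < n) (g : A) (hg : g ∈ I ^ (n * (c + k))) (a : Fin r →₀ ℕ) :
    (Φ n g).coeff a ∈ I ^ k := by
  obtain ⟨n, rfl⟩ : ∃ m, n = 1 + m := ⟨n - 1, by omega⟩
  refine MvPolynomial.mem_map_C_iff.1 ?_ a
  have hg' : g ∈ I ^ (c + k) * I ^ (n * (c + k)) := by rwa [← pow_add, show c + k + n * (c + k) = (1 + n) * (c + k) by ring]
  have hle : I ^ (c + k) * I ^ (n * (c + k)) = I ^ ((1 + n) * (c + k)) := by rw [← pow_add]; congr 1; ring
  refine Submodule.mul_induction_on' (C := fun g _ => Φ (1 + n) g ∈ (I ^ k).map MvPolynomial.C) ?_ ?_ hg'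
  · intro x hx y hy
    rw [hmul 1 n x (by rwa [one_mul]) y hy, h11 x hx]
    exact Ideal.mul_mem_right _ _ (Ideal.sum_mem _ fun j _ =>
      Ideal.mul_mem_right _ _ (Ideal.mem_map_of_mem _ (phi_mem I c k φ j x hx)))
  · intro x hx y hy ihx ihy
    rw [hadd _ x (hle ▸ hx) y (hle ▸ hy)]
    exact Ideal.add_mem _ ihx ihy

theorem eval_eq (f : Fin r → A) (hφ : ∀ x : ↥(I ^ c), (x : A) = ∑ j, f j * φ j x)
    (h00 : ∀ a : A, Φ 0 a = MvPolynomial.C a) : ∀ (n : ℕ) (g : A), g ∈ I ^ (n * (c + k)) →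
      MvPolynomial.aeval f (Φ n g) = g := by
  intro n
  induction n with
  | zero => intro g _; rw [h00]; simp
  | succ n ih =>
    intro g hg
    have hle : I ^ (n * (c + k)) * I ^ (c + k) = I ^ ((n + 1) * (c + k)) := by rw [← pow_add]; congr 1; ring
    have hg' : g ∈ I ^ (n * (c + k)) * I ^ (c + k) := hle.symm ▸ hg
    refine Submodule.mul_induction_on' (C := fun g _ => MvPolynomial.aeval f (Φ (n + 1) g) = g) ?_ ?_ hg'
    · intro x hx y hy
      rw [hmul n 1 x hx y (by rwa [one_mul]), map_mul, ih x hx, h11 y hy, map_sum]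
      congr 1
      simp only [map_mul, MvPolynomial.aeval_C, MvPolynomial.aeval_X, Algebra.algebraMap_self, RingHom.id_apply]
      exact (Finset.sum_congr rfl fun j _ => mul_comm _ _).trans
        (hφ ⟨y, Ideal.pow_le_pow_right (Nat.le_add_right c k) hy⟩).symm
    · intro x hx y hy ihx ihy
      rw [hadd _ x (hle ▸ hx) y (hle ▸ hy), map_add, ihx, ihy]

end

/-- Let A be a Noetherian ring, f_1, …, f_r ∈ A and I = (f_1, …, f_r) with cd(A, I) = 1; let c ≥ 1 and
φ_j : I^c → A be A-linear maps with x = Σ_j f_j φ_j(x) for all x ∈ I^c. Let B be a Noetherian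
A-algebra and N a finite B-module. Then there is c' ≥ c with the following property. Write φ_j again
for the restrictions of the φ_j to I^{c'} and let Φ be a graded A-algebra homomorphism from ⊕_{n ≥
0} I^{nc'} to A[T_1, …, T_r] with Φ(g) = Σ_j φ_j(g) T_j for g ∈ I^{c'} (there is exactly one; it is
encoded by functions Φ_n : A → A[T_1, …, T_r] whose values on I^{nc'} are additive, A-homogeneous,
homogeneous of degree n and multiplicative across degrees, with Φ_0 the structure map and Φ_1 as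
prescribed). Then for every n there is a unique B-linear map Ψ_n from the submodule I^{nc'}N of N to
N[T_1, …, T_r] = B[T_1, …, T_r] ⊗_B N with Ψ_n(g x) = Φ_n(g) ⊗ x for g ∈ I^{nc'} and x ∈ N; that is,
the Ψ_n form the unique graded B-module map from ⊕_n I^{nc'}N to N[T_1, …, T_r] with this property.
Moreover substituting T_j ↦ f_j after Ψ_n gives back the inclusion of I^{nc'}N into N. -/
theorem result (A : Type u) [CommRing A] [IsNoetherianRing A] (r : ℕ) (f : Fin r → A) (I : Ideal A) (hI : I = Ideal.span (Set.range f)) (h1 : LocCoh.CdLE A I 1) (h0 : ¬ LocCoh.CdLE A I 0) (c : ℕ) (hc : 1 ≤ c) (φ : Fin r → (↥(I ^ c) →ₗ[A] A)) (hφ : ∀ x : ↥(I ^ c), (x : A) = ∑ j, f j * φ j x) (B : Type u) [CommRing B] [Algebra A B] [IsNoetherianRing B] (N : Type u) [AddCommGroup N] [Module B N] [Module.Finite B N] : ∃ c' : ℕ, ∃ hcc' : c ≤ c', ∀ Φ : ℕ → A → MvPolynomial (Fin r) A, ((∀ n : ℕ, ∀ g ∈ I ^ (n * c'), ∀ h ∈ I ^ (n * c'), Φ n (g + h) = Φ n g + Φ n h) ∧ (∀ (n : ℕ) (a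 : A), ∀ g ∈ I ^ (n * c'), Φ n (a * g) = a • Φ n g) ∧ (∀ n : ℕ, ∀ g ∈ I ^ (n * c'), (Φ n g).IsHomogeneous n) ∧ (∀ n m : ℕ, ∀ g ∈ I ^ (n * c'), ∀ h ∈ I ^ (m * c'), Φ (n + m) (g * h) = Φ n g * Φ m h) ∧ (∀ a : A, Φ 0 a = MvPolynomial.C a) ∧ (∀ (g : A) (hg : g ∈ I ^ c'), Φ 1 g = ∑ j, MvPolynomial.C (φ j ⟨g, Ideal.pow_le_pow_right hcc' hg⟩) * MvPolynomial.X j)) → ∀ n : ℕ, ∃ Ψ : ↥(Submodule.span B {y : N | ∃ g ∈ I ^ (n * c'), ∃ x : N, y = algebraMap A B g • x}) →ₗ[B] (MvPolynomial (Fin r) B ⊗[B] N), (∀ (g : A) (hg : g ∈ I ^ (n * c')) (x : N), Ψ ⟨algebraMap A B g • x, Submodule.subset_span ⟨g, hg, x, rfl⟩⟩ = MvPolynomial.map (algebraMap A B) (Φ n g) ⊗ₜ[B] x) ∧ (∀ y : ↥(Submodule.span B {y : N | ∃ g ∈ I ^ (n * c'), ∃ x : N, y = algebraMap A B g • x}), TensorProduct.lift ((LinearMap.lsmul B N).comp (MvPolynomial.aeval (fun j ↦ algebraMap A B (f j))).toLinearMap) (Ψ y) = (y : N)) ∧ (∀ Ψ' : ↥(Submodule.span B {y : N | ∃ g ∈ I ^ (n * c'), ∃ x : N, y = algebraMap A B g •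 x}) →ₗ[B] (MvPolynomial (Fin r) B ⊗[B] N), (∀ (g : A) (hg : g ∈ I ^ (n * c')) (x : N), Ψ' ⟨algebraMap A B g • x, Submodule.subset_span ⟨g, hg, x, rfl⟩⟩ = MvPolynomial.map (algebraMap A B) (Φ n g) ⊗ₜ[B] x) → Ψ' = Ψ) := by

    obtain ⟨k, hk⟩ := exists_pow_inf_torsion (I.map (algebraMap A B)) N
    refine ⟨c + k, Nat.le_add_right c k, fun Φ hΦ n => ?_⟩
    obtain ⟨hadd, hsmul, -, hmul, h00, h11⟩ := hΦ
    set J := I.map (algebraMap A B) with hJdef
    let G := {g : A // g ∈ I ^ (n * (c + k))} × N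
    let S := Submodule.span B {y : N | ∃ g ∈ I ^ (n * (c + k)), ∃ x : N, y = algebraMap A B g • x}
    let π : (G →₀ B) →ₗ[B] S := Finsupp.linearCombination B fun p : G =>
      (⟨algebraMap A B p.1.1 • p.2, Submodule.subset_span ⟨p.1.1, p.1.2, p.2, rfl⟩⟩ : S)
    let L : (G →₀ B) →ₗ[B] (MvPolynomial (Fin r) B ⊗[B] N) := Finsupp.linearCombination B fun p : G =>
      MvPolynomial.map (algebraMap A B) (Φ n p.1.1) ⊗ₜ[B] p.2
    have hπ : Function.Surjective π := by
      rintro ⟨y, hy⟩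
      induction hy using Submodule.span_induction with
      | mem y hy =>
        obtain ⟨g, hg, x, rfl⟩ := hy
        exact ⟨Finsupp.single (⟨g, hg⟩, x) 1, by
          simp only [π, Finsupp.linearCombination_single, one_smul]⟩
      | zero => exact ⟨0, by simp; rfl⟩
      | add a b _ _ ha hb =>
        obtain ⟨u, hu⟩ := ha
        obtain ⟨v, hv⟩ := hb
        exact ⟨u + v, by rw [map_add, hu, hv]; rfl⟩
      | smul t a _ ha =>
        obtain ⟨u, hu⟩ := ha
        exact ⟨t • u, by rw [map_smul, hu]; rfl⟩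
    have hk' : LinearMap.ker π ≤ LinearMap.ker L := by
      intro v hv
      have hv' : ∑ p ∈ v.support, v p • (algebraMap A B p.1.1 • p.2) = 0 := by
        have h : ((π v : S) : N) = 0 := by rw [LinearMap.mem_ker.1 hv]; rfl
        simpa [π, Finsupp.linearCombination_apply, Finsupp.sum] using h
      rcases Nat.eq_zero_or_pos n with rfl | hn
      · have h0L : ∀ p : G, MvPolynomial.map (algebraMap A B) (Φ 0 p.1.1) ⊗ₜ[B] p.2 =
            (1 : MvPolynomial (Fin r) B) ⊗ₜ[B] (algebraMap A B p.1.1 • p.2) := fun p => by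
          rw [h00, MvPolynomial.map_C, ← TensorProduct.smul_tmul, Algebra.smul_def, mul_one, MvPolynomial.algebraMap_eq]
        rw [LinearMap.mem_ker]
        simp only [L, Finsupp.linearCombination_apply, Finsupp.sum, h0L, ← TensorProduct.tmul_smul,
          ← TensorProduct.tmul_sum, hv', TensorProduct.tmul_zero]
      rw [LinearMap.mem_ker]
      let e := TensorProduct.equivFinsuppOfBasisLeft (R := B) (N := N) (MvPolynomial.basisMonomials (Fin r) B)
      apply e.injective
      refine Finsupp.ext fun a => ?_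
      rw [map_zero, Finsupp.zero_apply]
      have hz : e (L v) a = ∑ p ∈ v.support, v p • (algebraMap A B ((Φ n p.1.1).coeff a) • p.2) := by
        simp only [L, Finsupp.linearCombination_apply, Finsupp.sum, map_sum, map_smul, Finsupp.finsetSum_apply,
          Finsupp.smul_apply, e, TensorProduct.equivFinsuppOfBasisLeft_apply_tmul_apply]
        exact Finset.sum_congr rfl fun p _ =>
          congrArg (fun b : B => v p • b • p.2) (MvPolynomial.coeff_map _ _ _)
      rw [hz]
      refine hk _ (Submodule.sum_mem _ fun p _ => Submodule.smul_mem _ _ (Submodule.smul_mem_smul ?_ trivial))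
        (n * (c + k)) ?_
      · rw [hJdef, ← Ideal.map_pow]
        exact Ideal.mem_map_of_mem _ (coeff_mem I c k φ Φ hadd hmul h11 n hn p.1.1 p.1.2 a)
      · rw [hJdef, ← Ideal.map_pow]
        intro t ht
        refine (Ideal.map_le_iff_le_comap (K := (Submodule.span B {_}).annihilator)).2 (fun h hh => ?_) ht |>
          fun ht' => Submodule.mem_annihilator_span_singleton _ _ |>.1 ht'
        rw [Ideal.mem_comap, Submodule.mem_annihilator_span_singleton, Finset.smul_sum]
        have key : ∀ g ∈ I ^ (n * (c + k)), h * (Φ n g).coeff a = g * (Φ n h).coeff a := fun g hg => by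
          have h' := congrArg (MvPolynomial.coeff a) ((hsmul n h g hg).symm.trans
            ((congrArg (Φ n) (mul_comm h g)).trans (hsmul n g h hh)))
          simpa [MvPolynomial.coeff_smul] using h'
        calc ∑ p ∈ v.support, algebraMap A B h • (v p • (algebraMap A B ((Φ n p.1.1).coeff a) • p.2))
            = ∑ p ∈ v.support, algebraMap A B ((Φ n h).coeff a) • (v p • (algebraMap A B p.1.1 • p.2)) :=
              Finset.sum_congr rfl fun p _ => by
                simp only [smul_smul]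
                congr 1
                have := congrArg (algebraMap A B) (key p.1.1 p.1.2)
                rw [map_mul, map_mul] at this
                linear_combination (v p) * this
          _ = 0 := by rw [← Finset.smul_sum, hv', smul_zero]
    let Ψ : S →ₗ[B] (MvPolynomial (Fin r) B ⊗[B] N) :=
      (LinearMap.ker π).liftQ L hk' ∘ₗ (π.quotKerEquivOfSurjective hπ).symm.toLinearMap
    have hΨ : ∀ v, Ψ (π v) = L v := fun v => by
      have h : (π.quotKerEquivOfSurjective hπ).symm (π v) = Submodule.Quotient.mk v := by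
        rw [LinearEquiv.symm_apply_eq]; rfl
      change (LinearMap.ker π).liftQ L hk' _ = _
      rw [LinearEquiv.coe_coe, h]
      exact Submodule.liftQ_apply _ _ _
    have hgen : ∀ (g : A) (hg : g ∈ I ^ (n * (c + k))) (x : N),
        Ψ ⟨algebraMap A B g • x, Submodule.subset_span ⟨g, hg, x, rfl⟩⟩ =
          MvPolynomial.map (algebraMap A B) (Φ n g) ⊗ₜ[B] x := fun g hg x => by
      have := hΨ (Finsupp.single (⟨g, hg⟩, x) 1)
      simpa [π, L] using this
    refine ⟨Ψ, hgen, fun y => ?_, fun Ψ' hΨ' => LinearMap.ext fun y => ?_⟩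
    · obtain ⟨v, rfl⟩ := hπ y
      rw [hΨ]
      simp only [L, π, Finsupp.linearCombination_apply, Finsupp.sum, map_sum, map_smul, TensorProduct.lift.tmul,
        Submodule.coe_sum, Submodule.coe_smul]
      refine Finset.sum_congr rfl fun p _ => congrArg (v p • ·) ?_
      simp only [LinearMap.coe_comp, AlgHom.toLinearMap_apply, Function.comp_apply, LinearMap.lsmul_apply]
      rw [MvPolynomial.aeval_map_algebraMap]
      rw [← Function.comp_def (algebraMap A B) f, MvPolynomial.aeval_algebraMap_apply,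
        eval_eq I c k φ Φ hadd hmul h11 f hφ h00 n p.1.1 p.1.2]
    · obtain ⟨v, rfl⟩ := hπ y
      have h : Ψ' ∘ₗ π = Ψ ∘ₗ π := Finsupp.lhom_ext fun p b => by
        simp only [π, LinearMap.coe_comp, Function.comp_apply, Finsupp.linearCombination_single, map_smul]
        congr 1
        exact (hΨ' p.1.1 p.1.2 p.2).trans (hgen p.1.1 p.1.2 p.2).symm
      exact LinearMap.congr_fun h v

end Groth.Agent.S8833
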