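import Groth.Statements.S8849
import Groth.Agent.L15.CartierFlat
import Groth.Agent.S1702
import Groth.Agent.L20.FlatStalk
import Groth.Agent.L19.Ass.Basic

set_option autoImplicit false
universe u
open CategoryTheory CategoryTheory.Limits AlgebraicGeometry TopologicalSpace
open SDiv

namespace Groth.Agent.S8849

/-- Let f : X ⟶ S be a morphism of schemes and 𝓘 the ideal sheaf of an effective Cartier divisor D ⊆ X
with D flat over S (a relative effective Cartier divisor). If f is flat at every point of X not in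
D, then f is flat. -/
theorem result {X S : Scheme.{u}} (f : X ⟶ S) (𝓘 : X.IdealSheafData)
    (hD : BlowUp.IsEffCartierIdeal 𝓘 ∧ Flat (𝓘.subschemeι ≫ f))
    (hflat : ∀ x : ↥X, x ∉ 𝓘.support → (f.stalkMap x).hom.Flat) : Flat f := by
  rw [Flat.iff_flat_stalkMap]
  intro x
  by_cases hxs : x ∈ 𝓘.support
  swap
  · exact hflat x hxs
  obtain ⟨hI, fI⟩ := hD
  obtain ⟨U₁, hx₁, t₁, -, -, hU₁⟩ := Groth.L22.Ideals.exists_generator hI x
  obtain ⟨V, hV, hxV, -⟩ := exists_isAffineOpen_mem_and_subset (x := f x) (U := ⊤) trivial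
  obtain ⟨U, hU, hxU, hle⟩ := exists_isAffineOpen_mem_and_subset
    (x := x) (U := U₁.1 ⊓ f ⁻¹ᵁ V) ⟨hx₁, hxV⟩
  have e : U ≤ f ⁻¹ᵁ V := fun y hy => (hle hy).2
  obtain ⟨hn, he⟩ := hU₁ ⟨U, hU⟩ (fun y hy => (hle hy).1)
  letI := (f.appLE V U e).hom.toAlgebra
  have hq := (Groth.Agent.S1702.flat_ring_iff f 𝓘 ⟨U, hU⟩ V e).1
    ((𝓘.subschemeι ≫ f).flat_appLE hV (hU.preimage _) _)
  rw [he] at hq
  haveI := (RingHom.flat_algebraMap_iff (R := Γ(S, V)) (S := Γ(X, U) ⧸ Ideal.span {_})).1 hq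
  haveI : Module.Flat Γ(S, V) Γ(X, U) := by
    refine Groth.L15.CartierFlat.flat_of_flat_off hn fun q hqp hnq => ?_
    have hy := Groth.L19.Ass.fromSpec_mem hU (⟨q, hqp⟩ : Spec Γ(X, U))
    have hys : hU.fromSpec ⟨q, hqp⟩ ∉ 𝓘.support := by
      intro hmem
      rw [Scheme.IdealSheafData.mem_support_iff_of_mem (U := ⟨U, hU⟩) hy] at hmem
      have h1 : hU.fromSpec ⟨q, hqp⟩ ∈ hU.fromSpec '' PrimeSpectrum.zeroLocus (𝓘.ideal ⟨U, hU⟩ : Set Γ(X, U)) := by
        rw [hU.fromSpec_image_zeroLocus]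
        exact ⟨hmem, hy⟩
      obtain ⟨q', hq', hqq⟩ := h1
      rw [hU.fromSpec.isOpenEmbedding.injective hqq, he] at hq'
      exact hnq (hq' (Ideal.mem_span_singleton_self _))
    have h2 := (Groth.L20.flat_stalkMap_iff f hV hU e hy).1 (hflat _ hys)
    have key : ∀ (p : Spec Γ(X, U)), p = ⟨q, hqp⟩ → Module.Flat Γ(S, V) (LocalizedModule p.asIdeal.primeCompl Γ(X, U)) →
        Module.Flat Γ(S, V) (LocalizedModule q.primeCompl Γ(X, U)) := by
      rintro _ rfl h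
      exact h
    exact key _ (Groth.L19.Ass.primeIdealOf_fromSpec hU ⟨q, hqp⟩ hy) h2
  exact (Groth.L20.flat_stalkMap_iff f hV hU e hxU).2
    (Module.Flat.trans Γ(S, V) Γ(X, U) (LocalizedModule (hU.primeIdealOf ⟨x, hxU⟩).asIdeal.primeCompl Γ(X, U)))

end Groth.Agent.S8849
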