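import Groth.Statements.S8850
import Mathlib.AlgebraicGeometry.Morphisms.SchemeTheoreticallyDominant

set_option autoImplicit false
universe u
open CategoryTheory CategoryTheory.Limits AlgebraicGeometry TopologicalSpace
open SDiv

namespace Groth.Agent.S8850

private lemma toImage_isSTD {U Z : Scheme.{u}} (γ : U ⟶ Z) [QuasiCompact γ] :
    IsSchemeTheoreticallyDominant γ.toImage := by
  rw [isSchemeTheoreticallyDominant_iff]
  refine Scheme.IdealSheafData.ext_of_iSup_eq_top
    (fun V : Z.affineOpens => ⟨γ.imageι ⁻¹ᵁ V.1, V.2.preimage γ.imageι⟩) ?_ ?_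
  · rw [← Scheme.Hom.preimage_iSup, iSup_affineOpens_eq_top]
    rfl
  · intro V
    rw [Scheme.Hom.ker_apply, Scheme.IdealSheafData.ideal_bot]
    exact (RingHom.injective_iff_ker_eq_bot _).mp (γ.toImage_app_injective V)


/-- Let S be a scheme, X a Noetherian S-scheme, Y a proper S-scheme, U ⊆ X an open subscheme and f : U ⟶
Y a morphism compatible with the structure morphisms to S. Then there are a proper morphism p : X' ⟶
X restricting to an isomorphism over U and an S-morphism f' : X' ⟶ Y whose restriction to p⁻¹(U) is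
f composed with p. The published statement takes U dense, so that f is an S-rational map; this row
allows any open U, which its proof does not need. -/
theorem result {X Y S : Scheme.{u}} [IsNoetherian X] (a : X ⟶ S) (b : Y ⟶ S)
    [IsProper b] (U : X.Opens) (f : (U : Scheme.{u}) ⟶ Y) (hf : f ≫ b = U.ι ≫ a) :
    ∃ (X' : Scheme.{u}) (p : X' ⟶ X) (f' : X' ⟶ Y), IsProper p ∧ IsIso (p ∣_ U) ∧ f' ≫ b = p ≫ a ∧
      (p ⁻¹ᵁ U).ι ≫ f' = (p ∣_ U) ≫ f := by
  let γ : (U : Scheme.{u}) ⟶ pullback a b := pullback.lift U.ι f hf.symm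
  have hγ1 : γ ≫ pullback.fst a b = U.ι := pullback.lift_fst _ _ _
  have hγ2 : γ ≫ pullback.snd a b = f := pullback.lift_snd _ _ _
  haveI : QuasiCompact γ := by
    haveI : QuasiCompact (γ ≫ pullback.fst a b) := by rw [hγ1]; infer_instance
    exact QuasiCompact.of_comp γ (pullback.fst a b)
  haveI hstd := toImage_isSTD γ
  let p : γ.image ⟶ X := γ.imageι ≫ pullback.fst a b
  let f' : γ.image ⟶ Y := γ.imageι ≫ pullback.snd a b
  have hp : γ.toImage ≫ p = U.ι := by rw [Scheme.Hom.toImage_imageι_assoc, hγ1]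
  have hf' : γ.toImage ≫ f' = f := by rw [Scheme.Hom.toImage_imageι_assoc, hγ2]
  have hr : Set.range γ.toImage ⊆ Set.range (p ⁻¹ᵁ U).ι := by
    rw [Scheme.Opens.range_ι]
    rintro _ ⟨x, rfl⟩
    change (γ.toImage ≫ p).base x ∈ (U : Set X)
    rw [hp]
    exact x.2
  let g : (U : Scheme.{u}) ⟶ (p ⁻¹ᵁ U : Scheme.{u}) := IsOpenImmersion.lift (p ⁻¹ᵁ U).ι γ.toImage hr
  have hg : g ≫ (p ⁻¹ᵁ U).ι = γ.toImage := IsOpenImmersion.lift_fac _ _ _
  have hgp : g ≫ (p ∣_ U) = 𝟙 _ := by
    rw [← cancel_mono U.ι, Category.assoc, morphismRestrict_ι, ← Category.assoc, hg, hp, Category.id_comp]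
  haveI : IsClosedImmersion g := by
    haveI : IsClosedImmersion (g ≫ (p ∣_ U)) := by rw [hgp]; infer_instance
    exact IsClosedImmersion.of_comp g (p ∣_ U)
  haveI : IsSchemeTheoreticallyDominant g := by
    refine IsSchemeTheoreticallyDominant.of_isPullback (f := γ.toImage) (g := (p ⁻¹ᵁ U).ι)
      (pX := 𝟙 _) ?_
    refine ⟨⟨by rw [Category.id_comp, hg]⟩, ⟨PullbackCone.IsLimit.mk _ (fun s => s.fst) (fun s => by simp)
      (fun s => ?_) (fun s m h₁ h₂ => by simpa using h₁)⟩⟩
    rw [← cancel_mono (p ⁻¹ᵁ U).ι, Category.assoc, hg, s.condition]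
  haveI : IsIso g := IsClosedImmersion.isIso_iff_ker_eq_bot.mpr g.ker_eq_bot
  haveI : IsIso (g ≫ (p ∣_ U)) := by rw [hgp]; infer_instance
  refine ⟨γ.image, p, f', inferInstance, IsIso.of_isIso_comp_left g (p ∣_ U), ?_, ?_⟩
  · simp only [f', p, Category.assoc, pullback.condition]
  · rw [← cancel_epi g, ← Category.assoc, hg, hf', ← Category.assoc, hgp, Category.id_comp]

end Groth.Agent.S8850
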