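
import Groth.Statements.S8851
import Groth.Agent.L22.BlowUp
import Mathlib.AlgebraicGeometry.Properties

set_option autoImplicit false
universe u
open CategoryTheory CategoryTheory.Limits AlgebraicGeometry TopologicalSpace
open SDiv

namespace Groth.Agent.S8851

/-- Let X be a reduced scheme, 𝓘 a quasi-coherent ideal sheaf on X and b : X' ⟶ X a blowing up of X in
𝓘. Then X' is reduced. -/
theorem result {X X' : Scheme.{u}} [IsReduced X] (𝓘 : X.IdealSheafData) (b : X' ⟶ X)
    (hb : BlowUp.IsBlowUp b 𝓘) : IsReduced X' := by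
  haveI : ∀ x : X, _root_.IsReduced (X.presheaf.stalk x) := fun x => inferInstance
  refine @isReduced_of_isReduced_stalk _ fun x => ⟨fun s hs => ?_⟩
  obtain ⟨U, hxU, s, rfl⟩ := X'.presheaf.exists_germ_eq s
  obtain ⟨n, hn⟩ := hs
  rw [← map_pow, ← map_zero (X'.presheaf.germ U x hxU).hom] at hn
  obtain ⟨W, hxW, i₁, i₂, hW⟩ := X'.presheaf.germ_eq x hxU hxU _ _ hn
  obtain ⟨_, ⟨V, hV, rfl⟩, hxV, hVW⟩ := X'.isBasis_affineOpens.exists_subset_of_mem_open hxW W.2
  have hVU : V ≤ U := fun y hy => i₁.le (hVW hy)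
  suffices X'.presheaf.map (homOfLE hVU).op s = 0 by
    have h := congrArg (X'.presheaf.germ V x hxV) this
    rwa [map_zero, TopCat.Presheaf.germ_res_apply] at h
  refine Groth.L22.Ideals.eq_zero_of_eq_zero_off_exceptional hb (V := ⟨V, hV⟩) _ fun y hy hyI => ?_
  haveI := Groth.L22.Ideals.isIso_stalkMap hb y hyI
  haveI : _root_.IsReduced (X'.presheaf.stalk y) :=
    isReduced_of_injective (asIso (b.stalkMap y)).commRingCatIsoToRingEquiv.symm
      (RingEquiv.injective _)
  refine eq_zero_of_pow_eq_zero (n := n) ?_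
  rw [TopCat.Presheaf.germ_res_apply, ← map_pow]
  have h := congrArg (X'.presheaf.germ W y (hVW hy)) hW
  simpa [TopCat.Presheaf.germ_res_apply] using h

end Groth.Agent.S8851
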