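
import Groth.Statements.S8854
import Mathlib.RingTheory.Ideal.AssociatedPrime.Basic
import Mathlib.RingTheory.UniqueFactorizationDomain.Ideal
import Mathlib.RingTheory.Ideal.Height
import Mathlib.RingTheory.Ideal.AssociatedPrime.Finiteness

set_option autoImplicit false
universe u
open SDiv

namespace Groth.Agent.S8854

/-- Let R be a Noetherian unique factorisation domain and I ⊆ R an ideal such that every associated
prime of R/I is minimal over I (R/I has no embedded primes) and every prime minimal over I has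
height 1. Then I is principal: it is generated by one element. -/
theorem result (R : Type u) [CommRing R] [IsDomain R] [IsNoetherianRing R]
    [UniqueFactorizationMonoid R] (I : Ideal R)
    (h1 : ∀ p : Ideal R, p ∈ associatedPrimes R (R ⧸ I) → p ∈ I.minimalPrimes)
    (h2 : ∀ p : Ideal R, p ∈ I.minimalPrimes → p.height = 1) :
    ∃ f : R, I = Ideal.span {f} := by
  rcases eq_or_ne I ⊤ with rfl | htop
  · exact ⟨1, Ideal.span_singleton_one.symm⟩
  have hI0 : I ≠ ⊥ := by
    rintro rfl
    have hb : (⊥ : Ideal R) ∈ (⊥ : Ideal R).minimalPrimes :=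
      ⟨⟨Ideal.isPrime_bot, le_rfl⟩, fun J _ _ => bot_le⟩
    have := h2 ⊥ hb
    rw [Ideal.height_bot] at this
    exact zero_ne_one this
  obtain ⟨a, haI, ha0⟩ := Submodule.exists_mem_ne_zero_of_ne_bot hI0
  obtain ⟨b, ⟨f, hb, hIf⟩, hmin⟩ :=
    (wellFounded_dvdNotUnit (α := R)).has_min
      {b | ∃ f, a = f * b ∧ I ≤ Ideal.span {f}} ⟨a, 1, (one_mul a).symm, by simp⟩
  have hf0 : f ≠ 0 := fun h => ha0 (by rw [hb, h, zero_mul])
  refine ⟨f, le_antisymm hIf ?_⟩
  rw [Ideal.span_singleton_le_iff_mem]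
  set J : Ideal R := Submodule.comap (LinearMap.mulLeft R f) I with hJ
  have hmemJ : ∀ x, x ∈ J ↔ f * x ∈ I := fun x => Iff.rfl
  by_contra hfI
  have hJtop : J ≠ ⊤ := fun h => hfI (by simpa using (hmemJ 1).1 (h ▸ Submodule.mem_top))
  -- an associated prime of `R/J` is an associated prime of `R/I`
  haveI : Nontrivial (R ⧸ J) := Submodule.Quotient.nontrivial_iff.2 hJtop
  obtain ⟨p, hp⟩ := associatedPrimes.nonempty R (R ⧸ J)
  let g : (R ⧸ J) →ₗ[R] (R ⧸ I) :=
    Submodule.mapQ J I (LinearMap.mulLeft R f) le_rfl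
  have hg : Function.Injective g := by
    rw [← LinearMap.ker_eq_bot, Submodule.ker_mapQ, ← hJ]
    exact Submodule.mkQ_map_self J
  have hpI : p ∈ associatedPrimes R (R ⧸ I) := associatedPrimes.subset_of_injective hg hp
  have hmin' := h1 p hpI
  haveI : p.IsPrime := hmin'.1.1
  have hh := h2 p hmin'
  have hJp : J ≤ p := by
    intro x hx
    have hann := hp.annihilator_le
    rw [Submodule.annihilator_top, Ideal.annihilator_quotient] at hann
    exact hann hx
  obtain ⟨π, hπp, hπ⟩ := Ideal.IsPrime.exists_mem_prime_of_ne_bot (inferInstance : p.IsPrime)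
    (Ideal.ne_bot_of_height_eq_one hh)
  have hpπ : p = Ideal.span {π} := by
    refine Ideal.eq_span_singleton_of_height_eq_one hh hπp hπ
  have hfπ : I ≤ Ideal.span {f * π} := by
    intro y hy
    obtain ⟨c, rfl⟩ := Ideal.mem_span_singleton'.1 (hIf hy)
    have : c ∈ J := (hmemJ c).2 (by rwa [mul_comm])
    obtain ⟨d, rfl⟩ := Ideal.mem_span_singleton'.1 (hpπ ▸ hJp this)
    exact Ideal.mem_span_singleton'.2 ⟨d, by ring⟩
  obtain ⟨d, hd⟩ := Ideal.mem_span_singleton'.1 (hfπ haI)
  have hbd : b = π * d := mul_left_cancel₀ hf0 (by rw [← hb, ← hd]; ring)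
  refine hmin d ⟨f * π, by rw [← hd]; ring, hfπ⟩ ⟨?_, π, hπ.not_unit, by rw [hbd]; ring⟩
  rintro rfl
  exact ha0 (by rw [hb, hbd]; simp)

end Groth.Agent.S8854
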