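import Groth.Statements.S8858
import Groth.Agent.L13.ModPair.Colon
import Groth.Agent.L13.BlowUp.Exists
import Groth.Agent.L22.Ideal

set_option autoImplicit false
set_option linter.style.haveILetI false
universe u
open CategoryTheory CategoryTheory.Limits AlgebraicGeometry TopologicalSpace
open SDiv

namespace Groth.Agent.S8858

/-- Let X be a quasi-compact and quasi-separated scheme, U ⊆ X a quasi-compact open subscheme, and b_i :
X_i ⟶ X, i < n, blowing ups of X in quasi-coherent ideal sheaves 𝓘_i of finite type with support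
disjoint from U (U-admissible blow-ups). Then there is a U-admissible blow-up c : X' ⟶ X such that
(a) c factors as X' ⟶ X_i ⟶ X for every i, and (b) each factor X' ⟶ X_i is a blowing up of X_i in a
quasi-coherent ideal sheaf of finite type whose support is disjoint from the inverse image of U. -/
theorem result (X : Scheme.{u}) [CompactSpace ↥X] [QuasiSeparatedSpace ↥X]
    (U : X.Opens) (hU : IsCompact (U : Set ↥X)) {n : ℕ} (Xi : Fin n → Scheme.{u}) (b : ∀ i, Xi i ⟶ X)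
    (𝓘 : Fin n → X.IdealSheafData) (hb : ∀ i, BlowUp.IsBlowUp (b i) (𝓘 i)) (ha : ∀ i, BlowUp.IsAdmissibleFor U (𝓘 i)) :
    ∃ (𝓙 : X.IdealSheafData) (X' : Scheme.{u}) (c : X' ⟶ X), BlowUp.IsBlowUp c 𝓙 ∧ BlowUp.IsAdmissibleFor U 𝓙 ∧
      ∀ i, ∃ (g : X' ⟶ Xi i) (𝓚 : (Xi i).IdealSheafData), g ≫ b i = c ∧ BlowUp.IsBlowUp g 𝓚 ∧
        BlowUp.IsAdmissibleFor ((b i) ⁻¹ᵁ U) 𝓚 := by
  classical
  let 𝓙 : X.IdealSheafData := ∏ i, 𝓘 i
  have hfg : BlowUp.IsFiniteTypeIdeal 𝓙 ∧ Disjoint (𝓙.support : Set X) (U : Set X) := by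
    refine Finset.prod_induction 𝓘 (fun I => BlowUp.IsFiniteTypeIdeal I ∧ Disjoint (I.support : Set X) (U : Set X))
      (fun I J hI hJ => ⟨fun V => ?_, ?_⟩) ⟨fun V => ?_, ?_⟩ fun i _ => ha i
    · rw [Scheme.IdealSheafData.ideal_mul, Pi.mul_apply]
      exact Submodule.FG.mul (hI.1 V) (hJ.1 V)
    · rw [Scheme.IdealSheafData.support_mul, Closeds.coe_sup]
      exact Set.disjoint_union_left.2 ⟨hI.2, hJ.2⟩
    · change ((⊤ : X.IdealSheafData).ideal V).FG
      rw [Scheme.IdealSheafData.ideal_top, Pi.top_apply]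
      exact Module.Finite.fg_top
    · change Disjoint ((⊤ : X.IdealSheafData).support : Set X) _
      rw [Scheme.IdealSheafData.support_top]
      exact Set.empty_disjoint _
  obtain ⟨X', c, hc⟩ := Groth.L13.BU.exists_isBlowUp 𝓙
  have hsplit : ∀ i, 𝓙 = 𝓘 i * ∏ j ∈ Finset.univ.erase i, 𝓘 j := fun i =>
    (Finset.mul_prod_erase Finset.univ 𝓘 (Finset.mem_univ i)).symm
  have hfac : ∀ (i) {Y : Scheme.{u}} (f : Y ⟶ X), BlowUp.IsEffCartierIdeal (𝓙.comap f) →
      BlowUp.IsEffCartierIdeal ((𝓘 i).comap f) := fun i Y f hf => by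
    rw [hsplit i, Groth.L22.Ideals.comap_mul] at hf
    exact Groth.L22.Ideals.isEffCartier_left_of_mul hf
  refine ⟨𝓙, X', c, hc, hfg, fun i => ?_⟩
  obtain ⟨g, hg, -⟩ := (hb i).2 X' c (hfac i c hc.1)
  refine ⟨g, 𝓙.comap (b i), hg, ⟨?_, fun Y h hY => ?_⟩,
    fun V => ((Groth.L13.MP.LocFG.of_fg hfg.1).comap (b i)).fg V, ?_⟩
  · rw [← Scheme.IdealSheafData.comap_comp, hg]
    exact hc.1
  · rw [← Scheme.IdealSheafData.comap_comp] at hY
    obtain ⟨k, hk, hku⟩ := hc.2 Y (h ≫ b i) hY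
    refine ⟨k, ((hb i).2 Y (h ≫ b i) (hfac i _ hY)).unique
      (show (k ≫ g) ≫ b i = h ≫ b i by rw [Category.assoc, hg]; exact hk) rfl, fun l hl => hku l ?_⟩
    show l ≫ c = h ≫ b i
    rw [← hg, ← Category.assoc, hl]
  · rw [Scheme.IdealSheafData.support_comap]
    exact hfg.2.preimage _

end Groth.Agent.S8858
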