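import Groth.Agent.L18.NormApps
import Groth.Statements.S8860
-- import your own Groth.Agent.* helpers here

set_option autoImplicit false
universe u
open CategoryTheory CategoryTheory.Limits AlgebraicGeometry TopologicalSpace
open SDiv

namespace Groth.Agent.S8860

/-- Let π : X ⟶ Y be a finite surjective morphism of schemes with X quasi-affine. If either π is finite
locally free (finite, flat and locally of finite presentation), or Y is integral with all local
rings integrally closed domains (normal), then Y is quasi-affine. -/
theorem result {X Y : Scheme.{u}} (π : X ⟶ Y) [IsFinite π] [Surjective π]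
    (hX : X.IsQuasiAffine) (h : Mor2.IsFinLocFree π ∨ (IsIntegral Y ∧ Pi1.IsNormalScheme Y)) :
    Y.IsQuasiAffine := by
  rcases h with ⟨_, hflat, hfp⟩ | ⟨_, hY⟩
  · exact Groth.L18.NormApps.isQuasiAffine_of_finite_flat π hX
  · exact Groth.L18.NormApps.isQuasiAffine_of_finite_normal π hY hX

end Groth.Agent.S8860
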