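
import Groth.Statements.S8861
import Groth.Agent.L22.WeakAssPoints

set_option autoImplicit false
universe u
open CategoryTheory CategoryTheory.Limits AlgebraicGeometry TopologicalSpace
open SDiv

namespace Groth.Agent.S8861

/-- Let f : X ⟶ Y be a morphism of schemes and 𝓘 the ideal sheaf of an effective Cartier divisor D ⊆ Y.
If f x ∉ D for every weakly associated point x of X (weakly associated point of the structure
sheaf), then the inverse image ideal sheaf of 𝓘 on X is the ideal of an effective Cartier divisor,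
i.e. the pullback of D by f is defined. -/
theorem result {X Y : Scheme.{u}} (f : X ⟶ Y) (𝓘 : Y.IdealSheafData)
    (hD : BlowUp.IsEffCartierIdeal 𝓘)
    (h : ∀ x : ↥X, Curv2.IsWeakAssPoint (Coh.structureModule X) x → f x ∉ 𝓘.support) :
    BlowUp.IsEffCartierIdeal (𝓘.comap f) := by
  intro x
  obtain ⟨U, hxU, t, -, hIU, -⟩ := Groth.L22.Ideals.exists_generator hD (f x)
  obtain ⟨_, ⟨V, hV, rfl⟩, hxV, hVU⟩ := X.isBasis_affineOpens.exists_subset_of_mem_open
    (a := x) (show x ∈ f ⁻¹ᵁ U.1 from hxU) (f ⁻¹ᵁ U.1).2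
  refine ⟨⟨V, hV⟩, hxV, f.appLE U.1 V hVU t, ?_, by
    rw [Groth.L22.Ideals.comap_ideal f 𝓘 U ⟨V, hV⟩ hVU, hIU, Ideal.map_span, Set.image_singleton]⟩
  refine Groth.L22.mem_nonZeroDivisors_of_weakAss hV fun z hz hwa => ?_
  have hD' := h z hwa
  rw [Scheme.IdealSheafData.mem_support_iff_of_mem (U := U) (hVU hz), hIU, Scheme.zeroLocus_span,
    Scheme.zeroLocus_singleton] at hD'
  refine (X.mem_basicOpen _ z hz).1 ?_
  rw [Scheme.basicOpen_appLE]
  exact ⟨hz, not_not.1 hD'⟩

end Groth.Agent.S8861
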