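
import Groth.Statements.S8862
import Groth.Agent.L22.MaximalPoints

set_option autoImplicit false
universe u
open CategoryTheory CategoryTheory.Limits AlgebraicGeometry TopologicalSpace
open SDiv

namespace Groth.Agent.S8862

/-- Let f : X ⟶ Y be a morphism of schemes with X reduced and 𝓘 the ideal sheaf of an effective Cartier
divisor D ⊆ Y. If f ξ ∉ D for every generic point ξ of an irreducible component of X (every point of
X with no proper generization), then the inverse image ideal sheaf of 𝓘 on X is the ideal of an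
effective Cartier divisor. -/
theorem result {X Y : Scheme.{u}} [IsReduced X] (f : X ⟶ Y) (𝓘 : Y.IdealSheafData)
    (hD : BlowUp.IsEffCartierIdeal 𝓘)
    (h : ∀ ξ : ↥X, (∀ y : ↥X, y ⤳ ξ → y = ξ) → f ξ ∉ 𝓘.support) :
    BlowUp.IsEffCartierIdeal (𝓘.comap f) := by
  intro x
  obtain ⟨U, hxU, t, ht, hIU, -⟩ := Groth.L22.Ideals.exists_generator hD (f x)
  obtain ⟨_, ⟨V, hV, rfl⟩, hxV, hVU⟩ := X.isBasis_affineOpens.exists_subset_of_mem_open
    (a := x) (show x ∈ f ⁻¹ᵁ U.1 from hxU) (f ⁻¹ᵁ U.1).2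
  refine ⟨⟨V, hV⟩, hxV, f.appLE U.1 V hVU t, ?_, by
    rw [Groth.L22.Ideals.comap_ideal f 𝓘 U ⟨V, hV⟩ hVU, hIU, Ideal.map_span, Set.image_singleton]⟩
  rw [mem_nonZeroDivisors_iff_right]
  intro a ha
  refine IsReduced.eq_zero a ?_
  rw [← mem_nilradical, nilradical, Ideal.zero_eq_bot, ← Ideal.sInf_minimalPrimes (I := (⊥ : Ideal Γ(X, V))),
    Submodule.mem_sInf]
  intro q hq
  let qp : Spec Γ(X, V) := ⟨q, hq.1.1⟩
  haveI := hq.1.1
  refine ((hq.1.1.mem_or_mem (by rw [ha]; exact zero_mem _)).resolve_right ?_)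
  intro htq
  set ξ := hV.fromSpec qp with hξ
  have hξV : ξ ∈ V := hV.range_fromSpec.subset ⟨qp, rfl⟩
  have hξD := h ξ (Groth.L22.maximal_fromSpec hV qp hq)
  have hfξ : f ξ ∈ U.1 := hVU hξV
  rw [Scheme.IdealSheafData.mem_support_iff_of_mem (U := U) hfξ, hIU, Scheme.zeroLocus_span,
    Scheme.zeroLocus_singleton] at hξD
  have hb : f ξ ∈ Y.basicOpen t := not_not.1 hξD
  have : ξ ∈ X.basicOpen (f.appLE U.1 V hVU t) := by
    rw [Scheme.basicOpen_appLE]
    exact ⟨hξV, hb⟩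
  have h2 : qp ∈ hV.fromSpec ⁻¹ᵁ X.basicOpen (f.appLE U.1 V hVU t) := this
  rw [hV.fromSpec_preimage_basicOpen] at h2
  exact h2 htq

end Groth.Agent.S8862
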