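import Groth.Statements.S8866
import Groth.Agent.L21.Mero.Frac

set_option autoImplicit false
set_option backward.isDefEq.respectTransparency false
universe u
open CategoryTheory CategoryTheory.Limits AlgebraicGeometry TopologicalSpace
open SDiv

namespace Groth.Agent.S8866

/-- Let X be a reduced scheme in which every quasi-compact open subset has only finitely many
irreducible components, and fix an O_X-module L that is invertible. A regular meromorphic section of
L then exists. For an integral scheme this is the case of one irreducible component. -/
theorem result (X : Scheme.{u}) [IsReduced X]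
    (hfin : ∀ U : X.Opens, IsCompact (U : Set ↥X) → (irreducibleComponents ↥(U : Scheme.{u})).Finite)
    (L : X.Modules) (hL : PicF.IsInvertible L) : Mero.HasRegularMero L := by
  have hfin : ∀ x : X, ∃ W : X.Opens, x ∈ W ∧
      {η : X | η ∈ W ∧ Curv2.IsWeakAssPoint (Coh.structureModule X) η}.Finite := fun x => by
    obtain ⟨W, hW, hxW, -⟩ := exists_isAffineOpen_mem_and_subset (x := x) (U := ⊤) trivial
    exact ⟨W, hxW, (Groth.L21.Mero.finite_maximal_affine hfin hW).subset fun η hη =>
      ⟨hη.1, Groth.L22.maximal_of_weakAss hη.2⟩⟩
  obtain ⟨D, ⟨φ⟩⟩ := Groth.L21.Mero.exists_iso_divMod_of_weakAss_maximal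
    (fun η hη => Groth.L22.maximal_of_weakAss hη) hfin hL
  exact Groth.L21.Mero.hasRegularMero_of_iso φ

end Groth.Agent.S8866
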