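import Groth.Statements.S8867
import Groth.Agent.L21.Mero.Frac

set_option autoImplicit false
set_option backward.isDefEq.respectTransparency false
universe u
open CategoryTheory CategoryTheory.Limits AlgebraicGeometry TopologicalSpace
open SDiv

namespace Groth.Agent.S8867

/-- Let X be a locally Noetherian scheme with no embedded points, i.e. every associated point of O_X is
maximal among the associated points of O_X under specialization, and L an invertible O_X-module.
Then some meromorphic section of L is regular. -/
theorem result (X : Scheme.{u}) [IsLocallyNoetherian X]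
    (hne : ∀ x : ↥X, Curv2.IsAssPoint (Coh.structureModule X) x →
      ∀ y : ↥X, Curv2.IsAssPoint (Coh.structureModule X) y → y ⤳ x → y = x)
    (L : X.Modules) (hL : PicF.IsInvertible L) : Mero.HasRegularMero L := by
  obtain ⟨D, ⟨φ⟩⟩ := Groth.L21.Mero.exists_iso_divMod_of_weakAss_maximal
    (fun η hη => Groth.L21.Mero.maximal_of_noEmbedded hne hη)
    (fun x => by
      obtain ⟨W, hW, hxW, -⟩ := exists_isAffineOpen_mem_and_subset (x := x) (U := ⊤) trivial
      exact ⟨W, hxW, Groth.L21.Mero.finite_weakAss_affine hW⟩) hL
  exact Groth.L21.Mero.hasRegularMero_of_iso φ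

end Groth.Agent.S8867
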