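import Groth.Statements.S8868
import Groth.Agent.L21.Mod.Stalks
import Groth.Agent.L15.WeakAss
-- import your own Groth.Agent.* helpers here

set_option autoImplicit false
universe u
open CategoryTheory CategoryTheory.Limits AlgebraicGeometry TopologicalSpace
open SDiv

namespace Groth.Agent.S8868

/-- Let X be a scheme and F a quasi-coherent O_X-module. Then F is zero if and only if F has no weakly
associated point. -/
theorem result (X : Scheme.{u}) (F : X.Modules) (hF : Coh.IsQCoh F) :
    IsZero F ↔ ∀ x : ↥X, ¬ Curv2.IsWeakAssPoint F x := by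
  haveI := hF
  rw [Groth.L21.Mod.isZero_iff_stalk_subsingleton]
  refine ⟨fun h x hx => ?_, fun h x => ?_⟩
  · obtain ⟨m, hm⟩ := hx
    haveI := h x
    refine (IsLocalRing.maximalIdeal.isMaximal (X.presheaf.stalk x)).ne_top ?_
    rw [← hm, Ideal.eq_top_iff_one]
    exact Ideal.le_radical (LinearMap.mem_ker.mpr (Subsingleton.elim _ _))
  · refine ⟨fun a b => ?_⟩
    have key : ∀ c : F.presheaf.stalk x, c = 0 := fun c => by
      obtain ⟨U, hxU, s, rfl⟩ := F.presheaf.exists_germ_eq c
      obtain ⟨_, ⟨V, hV, rfl⟩, hxV, hVU⟩ := X.isBasis_affineOpens.exists_subset_of_mem_open hxU U.2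
      replace hV : IsAffineOpen V := hV
      have h0 : F.presheaf.map (homOfLE hVU : V ⟶ U).op s = 0 := by
        by_contra hne
        obtain ⟨z, -, hz, -⟩ := Groth.L15.WeakAss.exists_weakAss_germ_ne_zero F hV hne
        exact h z hz
      rw [← F.presheaf.germ_res_apply (homOfLE hVU : V ⟶ U) x hxV s, h0, map_zero]
    rw [key a, key b]

end Groth.Agent.S8868
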