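import Groth.Statements.S8870
import Groth.Agent.L15.WeakAss
import Groth.Agent.L00.StalkFunctor
import Mathlib.Algebra.Homology.ShortComplex.ModuleCat
import Mathlib.Algebra.Homology.ShortComplex.ExactFunctor

set_option autoImplicit false
universe u
open CategoryTheory CategoryTheory.Limits AlgebraicGeometry TopologicalSpace
open SDiv

namespace Groth.Agent.S8870

/-- Let X be a scheme and 0 → F₁ → F₂ → F₃ → 0 a short exact sequence of quasi-coherent O_X-modules.
Then WeakAss(F₂) ⊆ WeakAss(F₁) ∪ WeakAss(F₃) and WeakAss(F₁) ⊆ WeakAss(F₂). -/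
theorem result (X : Scheme.{u}) (S : ShortComplex X.Modules) (hS : S.ShortExact)
    (h₁ : Coh.IsQCoh S.X₁) (h₂ : Coh.IsQCoh S.X₂) (h₃ : Coh.IsQCoh S.X₃) :
    (∀ x : ↥X, Curv2.IsWeakAssPoint S.X₂ x → Curv2.IsWeakAssPoint S.X₁ x ∨ Curv2.IsWeakAssPoint S.X₃ x) ∧
      (∀ x : ↥X, Curv2.IsWeakAssPoint S.X₁ x → Curv2.IsWeakAssPoint S.X₂ x) := by
  have key : ∀ x : ↥X, ∃ (a : S.X₁.presheaf.stalk x →ₗ[X.presheaf.stalk x] S.X₂.presheaf.stalk x)
      (b : S.X₂.presheaf.stalk x →ₗ[X.presheaf.stalk x] S.X₃.presheaf.stalk x),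
      Function.Injective a ∧ Function.Exact a b := fun x => by
    haveI : (Groth.L00.Stk.F X x).Additive := Functor.additive_of_preserves_binary_products _
    have h := hS.map_of_exact (Groth.L00.Stk.F X x)
    exact ⟨((Groth.L00.Stk.F X x).map S.f).hom, ((Groth.L00.Stk.F X x).map S.g).hom,
      h.moduleCat_injective_f, (ShortComplex.ShortExact.moduleCat_exact_iff_function_exact _).1 h.exact⟩
  constructor
  · intro x hx
    obtain ⟨a, b, ha, hab⟩ := key x
    obtain ⟨m, hm⟩ := (Groth.L15.WeakAss.isWeakAssPoint_iff _ x).1 hx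
    rcases eq_or_ne (b m) 0 with h0 | h0
    · obtain ⟨n, rfl⟩ := (hab m).1 h0
      refine Or.inl ((Groth.L15.WeakAss.isWeakAssPoint_iff _ x).2 ⟨n, ?_⟩)
      refine Eq.trans (congrArg Ideal.radical ?_) hm
      ext r
      rw [Groth.L15.WeakAss.mem_colon, Groth.L15.WeakAss.mem_colon, ← map_smul, map_eq_zero_iff _ ha]
    · refine Or.inr ((Groth.L15.WeakAss.isWeakAssPoint_iff _ x).2 ⟨b m, le_antisymm
        ((IsLocalRing.maximalIdeal.isMaximal _).isPrime.radical_le_iff.2 (IsLocalRing.le_maximalIdeal ?_))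
        (hm.ge.trans (Ideal.radical_mono fun r hr => ?_))⟩)
      · rw [Ne, Ideal.eq_top_iff_one, Groth.L15.WeakAss.mem_colon, one_smul]
        exact h0
      · rw [Groth.L15.WeakAss.mem_colon, ← map_smul, Groth.L15.WeakAss.mem_colon.1 hr, map_zero]
  · intro x hx
    obtain ⟨a, b, ha, -⟩ := key x
    obtain ⟨m, hm⟩ := (Groth.L15.WeakAss.isWeakAssPoint_iff _ x).1 hx
    refine (Groth.L15.WeakAss.isWeakAssPoint_iff _ x).2 ⟨a m, Eq.trans (congrArg Ideal.radical ?_) hm⟩
    ext r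
    rw [Groth.L15.WeakAss.mem_colon, Groth.L15.WeakAss.mem_colon, ← map_smul, map_eq_zero_iff _ ha]

end Groth.Agent.S8870
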