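import Groth.Statements.S8871
import Groth.Agent.L15.WeakAss
import Groth.Agent.L04.Depth
import Mathlib.RingTheory.Ideal.AssociatedPrime.Localization
import Mathlib.RingTheory.KrullDimension.Module

set_option autoImplicit false
universe u
open CategoryTheory CategoryTheory.Limits AlgebraicGeometry TopologicalSpace
open SDiv

namespace Groth.Agent.S8871

/-- Let X be a locally Noetherian scheme and F a coherent O_X-module. Then F has no embedded associated
points (every associated point of F is maximal among the associated points of F under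
specialization) if and only if F has property (S_1): for every point x, depth F_x ≥ min(1, dim Supp
F_x), where dim Supp F_x is the Krull dimension of the support of the O_{X,x}-module F_x (for F_x =
0 the depth is infinite and the support empty, so the condition holds). -/
theorem result (X : Scheme.{u}) [IsLocallyNoetherian X] (F : X.Modules) (hF : Coh.IsCoh F) :
    (∀ x : ↥X, Curv2.IsAssPoint F x → ∀ y : ↥X, Curv2.IsAssPoint F y → y ⤳ x → y = x) ↔
      ∀ x : ↥X, min (1 : WithBot ℕ∞) (Module.supportDim ↑(X.presheaf.stalk x) ↑(F.presheaf.stalk x)) ≤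
        ((LocCoh.depth (X.presheaf.stalk x) (F.presheaf.stalk x) : ℕ∞) : WithBot ℕ∞) := by
  haveI : Coh.IsQCoh F := hF.1
  constructor
  · intro h x
    obtain ⟨_, ⟨V, hV, rfl⟩, hxV, -⟩ :=
      X.isBasis_affineOpens.exists_subset_of_mem_open (Set.mem_univ x) isOpen_univ
    replace hV : IsAffineOpen V := hV
    change x ∈ V at hxV
    letI := X.presheaf.algebra_section_stalk ⟨x, hxV⟩
    haveI := hV.isLocalization_stalk ⟨x, hxV⟩
    haveI : IsNoetherianRing Γ(X, V) := IsLocallyNoetherian.component_noetherian ⟨V, hV⟩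
    haveI : IsNoetherianRing (X.presheaf.stalk x) :=
      IsLocalization.isNoetherianRing (hV.primeIdealOf ⟨x, hxV⟩).asIdeal.primeCompl _ inferInstance
    letI := Groth.L20.ModStalk.stalkModule F hxV
    haveI := Groth.L20.ModStalk.isLocalizedModule_germ F hV hxV
    haveI : IsScalarTower Γ(X, V) (X.presheaf.stalk x) (F.presheaf.stalk x) :=
      IsScalarTower.of_algebraMap_smul fun _ _ => rfl
    haveI : Module.Finite Γ(X, V) Γ(F, V) := Groth.L20.ModStalk.finite_sections F hF hV
    haveI : Module.Finite (X.presheaf.stalk x) (F.presheaf.stalk x) :=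
      Module.Finite.of_isLocalizedModule (hV.primeIdealOf ⟨x, hxV⟩).asIdeal.primeCompl (Groth.L20.ModStalk.germₗ F hxV)
    rcases Groth.L04.exists_regular_or_killed (IsLocalRing.maximalIdeal (X.presheaf.stalk x))
        (F.presheaf.stalk x) with ⟨r, hr, hreg⟩ | ⟨z, hz, hzm⟩
    · refine le_trans (min_le_left _ _) ?_
      exact WithBot.coe_le_coe.2 (Groth.L04.one_le_idealDepth_of_regular hr hreg)
    have hcol : Submodule.colon (⊥ : Submodule (X.presheaf.stalk x) (F.presheaf.stalk x)) {z} =
        IsLocalRing.maximalIdeal (X.presheaf.stalk x) := by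
      refine le_antisymm (IsLocalRing.le_maximalIdeal ?_) fun a ha => Groth.L15.WeakAss.mem_colon.2 (hzm a ha)
      rw [Ne, Ideal.eq_top_iff_one, Groth.L15.WeakAss.mem_colon, one_smul]
      exact hz
    have hass : Curv2.IsAssPoint F x :=
      ⟨(IsLocalRing.maximalIdeal.isMaximal _).isPrime, z,
        (by rw [hcol, (IsLocalRing.maximalIdeal.isMaximal _).isPrime.radical])⟩
    refine le_trans (min_le_right _ _) (le_trans ?_ (WithBot.coe_le_coe.2 zero_le))
    refine Order.krullDim_nonpos_iff_forall_isMax.2 fun Q => ?_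
    intro Q' hQQ'
    have hQm : Q.1.asIdeal = IsLocalRing.maximalIdeal (X.presheaf.stalk x) := by
      let g : Γ(X, V) →+* X.presheaf.stalk x := algebraMap _ _
      let q : Ideal Γ(X, V) := Q.1.asIdeal.comap g
      have hqp : q ≤ (hV.primeIdealOf ⟨x, hxV⟩).asIdeal := by
        refine le_trans (Ideal.comap_mono (IsLocalRing.le_maximalIdeal Q.1.isPrime.ne_top)) ?_
        exact (IsLocalization.AtPrime.under_maximalIdeal (X.presheaf.stalk x) _).le
      have hann : Module.annihilator Γ(X, V) Γ(F, V) ≤ q := by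
        intro a ha
        refine Module.mem_support_iff_of_finite.1 Q.2 ?_
        rw [Module.mem_annihilator]
        intro m
        obtain ⟨⟨n, t⟩, hnt⟩ := IsLocalizedModule.surj (hV.primeIdealOf ⟨x, hxV⟩).asIdeal.primeCompl
          (Groth.L20.ModStalk.germₗ F hxV) m
        have hu : IsUnit (g t) := IsLocalization.map_units (X.presheaf.stalk x) t
        refine hu.smul_left_cancel.1 ?_
        rw [smul_zero, smul_comm, show g t • m = Groth.L20.ModStalk.germₗ F hxV n from hnt]
        show a • Groth.L20.ModStalk.germₗ F hxV n = 0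
        rw [← map_smul, Module.mem_annihilator.1 ha n, map_zero]
      obtain ⟨q', hq', hq'q⟩ := Ideal.exists_minimalPrimes_le hann
      haveI := hq'.isPrime
      have hy := Groth.L19.Ass.fromSpec_mem_ass F hV
        (Module.associatedPrimes.minimalPrimes_annihilator_subset_associatedPrimes _ _ hq')
      have hsp : hV.fromSpec ⟨q', hq'.isPrime⟩ ⤳ x := by
        show hV.fromSpec ⟨q', hq'.isPrime⟩ ⤳ (⟨x, hxV⟩ : V).1
        rw [← hV.fromSpec_primeIdealOf ⟨x, hxV⟩]
        exact ((PrimeSpectrum.le_iff_specializes (⟨q', hq'.isPrime⟩ : PrimeSpectrum Γ(X, V))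
          (hV.primeIdealOf ⟨x, hxV⟩)).1 (hq'q.trans hqp)).map hV.fromSpec.continuous
      have heq := h x hass _ hy hsp
      have hpq' : (hV.primeIdealOf ⟨x, hxV⟩).asIdeal = q' := by
        have : hV.primeIdealOf ⟨x, hxV⟩ = ⟨q', hq'.isPrime⟩ := by
          refine hV.fromSpec.isOpenEmbedding.injective ?_
          rw [hV.fromSpec_primeIdealOf]
          exact heq.symm
        exact congrArg PrimeSpectrum.asIdeal this
      refine le_antisymm (IsLocalRing.le_maximalIdeal Q.1.isPrime.ne_top) ?_
      rw [← IsLocalization.AtPrime.map_eq_maximalIdeal (hV.primeIdealOf ⟨x, hxV⟩).asIdeal (X.presheaf.stalk x)]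
      exact Ideal.map_le_iff_le_comap.2 (hpq'.le.trans hq'q)
    show Q'.1.asIdeal ≤ Q.1.asIdeal
    rw [hQm]
    exact IsLocalRing.le_maximalIdeal Q'.1.isPrime.ne_top
  · intro h x hx y hy hyx
    by_contra hne
    obtain ⟨_, ⟨V, hV, rfl⟩, hxV, -⟩ :=
      X.isBasis_affineOpens.exists_subset_of_mem_open (Set.mem_univ x) isOpen_univ
    replace hV : IsAffineOpen V := hV
    change x ∈ V at hxV
    have hyV : y ∈ V := hyx.mem_open V.2 hxV
    letI := X.presheaf.algebra_section_stalk ⟨x, hxV⟩
    haveI := hV.isLocalization_stalk ⟨x, hxV⟩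
    haveI : IsNoetherianRing Γ(X, V) := IsLocallyNoetherian.component_noetherian ⟨V, hV⟩
    haveI : IsNoetherianRing (X.presheaf.stalk x) :=
      IsLocalization.isNoetherianRing (hV.primeIdealOf ⟨x, hxV⟩).asIdeal.primeCompl _ inferInstance
    letI := Groth.L20.ModStalk.stalkModule F hxV
    haveI := Groth.L20.ModStalk.isLocalizedModule_germ F hV hxV
    haveI : IsScalarTower Γ(X, V) (X.presheaf.stalk x) (F.presheaf.stalk x) :=
      IsScalarTower.of_algebraMap_smul fun _ _ => rfl
    haveI : Module.Finite Γ(X, V) Γ(F, V) := Groth.L20.ModStalk.finite_sections F hF hV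
    haveI : Module.Finite (X.presheaf.stalk x) (F.presheaf.stalk x) :=
      Module.Finite.of_isLocalizedModule (hV.primeIdealOf ⟨x, hxV⟩).asIdeal.primeCompl (Groth.L20.ModStalk.germₗ F hxV)
    obtain ⟨n, hn⟩ := Groth.L15.WeakAss.exists_minimal_of_isWeakAssPoint F hV hyV
      (Groth.L15.WeakAss.isWeakAssPoint_of_isAssPoint hy)
    set p := hV.primeIdealOf ⟨x, hxV⟩ with hp
    set q := hV.primeIdealOf ⟨y, hyV⟩ with hq
    have hqp : q.asIdeal ≤ p.asIdeal := by
      refine (PrimeSpectrum.le_iff_specializes q p).2 ?_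
      refine hV.fromSpec.isOpenEmbedding.isInducing.specializes_iff.1 ?_
      show hV.fromSpec q ⤳ hV.fromSpec p
      rw [hp, hq, hV.fromSpec_primeIdealOf, hV.fromSpec_primeIdealOf]
      exact hyx
    have hd : Disjoint (p.asIdeal.primeCompl : Set Γ(X, V)) q.asIdeal :=
      Set.disjoint_left.2 fun a ha haq => ha (hqp haq)
    have hQ := IsLocalization.isPrime_of_isPrime_disjoint p.asIdeal.primeCompl (X.presheaf.stalk x) q.asIdeal q.2 hd
    have hQc : (Ideal.map (algebraMap Γ(X, V) (X.presheaf.stalk x)) q.asIdeal).comap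
        (algebraMap Γ(X, V) (X.presheaf.stalk x)) = q.asIdeal :=
      IsLocalization.under_map_of_isPrime_disjoint p.asIdeal.primeCompl (X.presheaf.stalk x) q.2 hd
    let Q : PrimeSpectrum (X.presheaf.stalk x) := ⟨_, hQ⟩
    have hQs : Q ∈ Module.support (X.presheaf.stalk x) (F.presheaf.stalk x) := by
      refine Module.mem_support_iff_exists_annihilator.2 ⟨Groth.L20.ModStalk.germₗ F hxV n, fun r hr => ?_⟩
      obtain ⟨a, t, rfl⟩ := IsLocalization.exists_mk'_eq p.asIdeal.primeCompl r
      rw [Submodule.mem_annihilator_span_singleton] at hr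
      have h0 : Groth.L20.ModStalk.germₗ F hxV (a • n) = 0 := by
        rw [map_smul]
        show algebraMap Γ(X, V) (X.presheaf.stalk x) a • Groth.L20.ModStalk.germₗ F hxV n = 0
        rw [← IsLocalization.mk'_spec (X.presheaf.stalk x) a t, mul_comm, ← smul_smul, hr, smul_zero]
      obtain ⟨⟨c, hc⟩, hcn⟩ := (IsLocalizedModule.eq_zero_iff p.asIdeal.primeCompl (Groth.L20.ModStalk.germₗ F hxV)).1 h0
      have h2 : c * a ∈ q.asIdeal := hn.le (Groth.L15.WeakAss.mem_colon.2 (by rw [mul_smul]; exact hcn))
      have ha : a ∈ q.asIdeal := (q.2.mem_or_mem h2).resolve_left fun hcq => hc (hqp hcq)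
      show IsLocalization.mk' _ a t ∈ Ideal.map _ q.asIdeal
      rw [IsLocalization.mk'_eq_mul_mk'_one]
      exact Ideal.mul_mem_right _ _ (Ideal.mem_map_of_mem _ ha)
    have hdep : LocCoh.depth (X.presheaf.stalk x) (F.presheaf.stalk x) = 0 := by
      by_contra hd0
      obtain ⟨hpr, m, hm⟩ := (Groth.L19.Ass.mem_iff F x).1 hx |> isAssociatedPrime_iff.mp
      have h1 : (1 : ℕ∞) ≤ LocCoh.idealDepth (IsLocalRing.maximalIdeal (X.presheaf.stalk x)) (F.presheaf.stalk x) :=
        Order.one_le_iff_pos.2 (pos_iff_ne_zero.2 hd0)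
      have hm0 := Groth.L04.hom_zero_of_one_le (z := m) h1 fun a ha =>
        Groth.L15.WeakAss.mem_colon.1 (hm ▸ ha)
      exact hpr.ne_top (hm.trans (by rw [hm0]; exact (Ideal.eq_top_iff_one _).2 (Groth.L15.WeakAss.mem_colon.2 (smul_zero _))))
    have hmin := h x
    rw [hdep] at hmin
    have hsd : Module.supportDim (X.presheaf.stalk x) (F.presheaf.stalk x) ≤ 0 := by
      rcases min_le_iff.1 hmin with h1 | h1
      · exact absurd h1 (by simp)
      · exact h1
    haveI : Nontrivial (F.presheaf.stalk x) := Module.nonempty_support_iff.1 ⟨Q, hQs⟩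
    have hs0 : Module.supportDim (X.presheaf.stalk x) (F.presheaf.stalk x) = 0 :=
      le_antisymm hsd (Order.krullDim_nonneg_iff.2 ⟨⟨Q, hQs⟩⟩)
    have hQmax : Q = IsLocalRing.closedPoint (X.presheaf.stalk x) := by
      have := support_of_supportDim_eq_zero (X.presheaf.stalk x) (F.presheaf.stalk x) hs0
      rw [this, PrimeSpectrum.zeroLocus_eq_singleton] at hQs
      exact hQs
    have hqeq : q = p := PrimeSpectrum.ext (by
      rw [← hQc]
      have h1 : Ideal.map (algebraMap Γ(X, V) (X.presheaf.stalk x)) q.asIdeal =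
          IsLocalRing.maximalIdeal (X.presheaf.stalk x) := congrArg PrimeSpectrum.asIdeal hQmax
      rw [h1]
      exact IsLocalization.AtPrime.under_maximalIdeal (X.presheaf.stalk x) p.asIdeal)
    apply hne
    have := congrArg hV.fromSpec hqeq
    rwa [hp, hq, hV.fromSpec_primeIdealOf, hV.fromSpec_primeIdealOf] at this

end Groth.Agent.S8871
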