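import Groth.Statements.S8874
import Groth.Agent.L15.FittFree

set_option autoImplicit false
universe u
open CategoryTheory CategoryTheory.Limits AlgebraicGeometry TopologicalSpace
open SDiv

namespace Groth.Agent.S8874

/-- Let S be a scheme, F a quasi-coherent O_S-module of finite type, s a point of S and r a natural
number. Then F can be generated by r sections over some open neighbourhood of s if and only if the
r-th Fitting ideal of F is the unit ideal at s, i.e. s does not lie in the closed subset cut out by
Fit_r(F). -/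
theorem result (S : Scheme.{u}) (F : S.Modules) (hF : Coh.IsQCoh F) (hft : CohB1.IsFT F)
    (s : ↥S) (r : ℕ) :
    (∃ U : S.Opens, s ∈ U ∧ ∃ π : FlatMod.freeMod (↑U) r ⟶ F.restrict U.ι, Epi π) ↔
      s ∉ (Fitt.sheafIdeal F r).support := by
  haveI : Coh.IsQCoh F := hF
  constructor
  · rintro ⟨U, hsU, π, hπ⟩
    obtain ⟨_, ⟨W, hW, rfl⟩, hsW, hWU⟩ :=
      S.isBasis_affineOpens.exists_subset_of_mem_open hsU U.2
    replace hW : IsAffineOpen W := hW
    obtain ⟨φ, hφ, -⟩ := Groth.L15.FittSheaf.exists_sections_of_free_hom F π hW hWU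
    haveI := Groth.L20.ModStalk.finite_sections F ⟨hF, hft⟩ hW
    rw [Groth.L15.FittSheaf.notMem_support_iff F hft r (U := ⟨W, hW⟩) hsW]
    intro hle
    refine (hW.primeIdealOf ⟨s, hsW⟩).2.ne_top (top_unique ?_)
    refine le_trans (le_of_eq (Groth.L13.Fitting.ideal_eq_top_of_gens
      (fun i : Fin r => φ (Finsupp.single ⟨i⟩ 1)) ?_ le_rfl).symm) hle
    refine top_unique fun z _ => ?_
    obtain ⟨c, rfl⟩ := hφ z
    induction c using Finsupp.induction_linear with
    | zero => rw [map_zero]; exact zero_mem _
    | add a b ha hb => rw [map_add]; exact add_mem (ha trivial) (hb trivial)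
    | single i a =>
      rw [← Finsupp.smul_single_one, map_smul]
      exact Submodule.smul_mem _ _ (Submodule.subset_span ⟨i.down, rfl⟩)
  · intro h
    obtain ⟨W, hW, hsW, φ, hφ⟩ := Groth.L15.FittSheaf.exists_gens_of_notMem_support F hft h
    obtain ⟨π, hπ, -⟩ := Groth.L15.FittSheaf.exists_free_hom_of_sections F hW φ hφ
    exact ⟨_, by rw [hW.opensRange_fromSpec]; exact hsW, π, hπ⟩

end Groth.Agent.S8874
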