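import Groth.Statements.S8875
import Groth.Agent.L15.FittFree

set_option autoImplicit false
universe u
open CategoryTheory CategoryTheory.Limits AlgebraicGeometry TopologicalSpace
open SDiv

namespace Groth.Agent.S8875

/-- (1) ⇔ (3): let S be a scheme, F a quasi-coherent O_S-module of finite type and r ≥ 0. Then F is
finite locally free of rank r if and only if Fit_k(F) = 0 for every k < r and Fit_k(F) = O_S for
every k ≥ r. -/
theorem result (S : Scheme.{u}) (F : S.Modules) (hF : Coh.IsQCoh F) (hft : CohB1.IsFT F)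
    (r : ℕ) :
    FlatMod.IsFinLocFreeOfRank r F ↔
      (∀ k : ℕ, k < r → Fitt.sheafIdeal F k = ⊥) ∧ (∀ k : ℕ, r ≤ k → Fitt.sheafIdeal F k = ⊤) := by
  haveI : Coh.IsQCoh F := hF
  classical
  constructor
  · intro h
    have hb : ∀ x : S, ∃ (W : S.affineOpens) (_ : x ∈ W.1),
        Nonempty (Module.Basis (Fin r) Γ(S, W.1) Γ(F, W.1)) := by
      intro x
      obtain ⟨U, hxU, ⟨e⟩⟩ := h x
      obtain ⟨_, ⟨W, hW, rfl⟩, hxW, hWU⟩ :=
        S.isBasis_affineOpens.exists_subset_of_mem_open hxU U.2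
      replace hW : IsAffineOpen W := hW
      obtain ⟨φ, hφ, hφ'⟩ := Groth.L15.FittSheaf.exists_sections_of_free_hom F e.inv hW hWU
      exact ⟨⟨W, hW⟩, hxW, ⟨(Module.Basis.ofRepr (LinearEquiv.ofBijective φ ⟨hφ' inferInstance, hφ⟩).symm).reindex
        Equiv.ulift⟩⟩
    choose W hxW hb using hb
    have hcov : ⨆ x, (W x).1 = ⊤ := top_unique fun x _ => Opens.mem_iSup.2 ⟨x, hxW x⟩
    refine ⟨fun k hk => ?_, fun k hk => ?_⟩ <;>
      refine Scheme.IdealSheafData.ext_of_iSup_eq_top W hcov fun x => ?_ <;>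
      obtain ⟨b⟩ := hb x <;>
      haveI := Groth.L20.ModStalk.finite_sections F ⟨hF, hft⟩ (W x).2 <;>
      rw [Groth.L15.FittSheaf.sheafIdeal_ideal F hft, Groth.L13.Fitting.ideal_of_basis b]
    · rw [if_neg (by omega)]; rfl
    · rw [if_pos hk]; rfl
  · rintro ⟨h0, h1⟩ x
    obtain ⟨W, hW, hxW, φ, hφ⟩ := Groth.L15.FittSheaf.exists_gens_of_notMem_support F hft (x := x)
      (show x ∉ (Fitt.sheafIdeal F r).support by rw [h1 r le_rfl]; exact fun h => h)
    haveI := Groth.L20.ModStalk.finite_sections F ⟨hF, hft⟩ hW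
    obtain ⟨π, hπ, hπ'⟩ := Groth.L15.FittSheaf.exists_free_hom_of_sections F hW φ hφ
    have hli := Groth.L13.Fitting.linearIndependent_of_bot (fun i : Fin r => φ (Finsupp.single ⟨i⟩ 1)) (by
      refine top_unique fun z _ => ?_
      obtain ⟨c, rfl⟩ := hφ z
      induction c using Finsupp.induction_linear with
      | zero => rw [map_zero]; exact zero_mem _
      | add a b ha hb => rw [map_add]; exact add_mem (ha trivial) (hb trivial)
      | single i a =>
        rw [← Finsupp.smul_single_one, map_smul]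
        exact Submodule.smul_mem _ _ (Submodule.subset_span ⟨i.down, rfl⟩))
      (fun k hk => by
        rw [← Groth.L15.FittSheaf.sheafIdeal_ideal F hft k ⟨W, hW⟩, h0 k hk]; rfl)
    haveI : IsIso π := hπ' (by
      refine (injective_iff_map_eq_zero φ).2 fun c hc => ?_
      have h2 := Fintype.linearIndependent_iff.1 hli (fun i => c ⟨i⟩) (by
        refine Eq.trans ?_ hc
        conv_rhs => rw [← Finsupp.univ_sum_single c, map_sum]
        refine Fintype.sum_equiv Equiv.ulift.symm _ _ fun i => ?_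
        rw [← map_smul, Finsupp.smul_single_one]
        rfl)
      ext i
      exact h2 i.down)
    exact ⟨_, by rw [hW.opensRange_fromSpec]; exact hxW, ⟨(asIso π).symm⟩⟩

end Groth.Agent.S8875
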