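import Groth.Statements.S8877
import Groth.Agent.L15.FittSheaf

set_option autoImplicit false
universe u
open CategoryTheory CategoryTheory.Limits AlgebraicGeometry TopologicalSpace
open SDiv

namespace Groth.Agent.S8877

/-- Let S be a scheme and F a quasi-coherent O_S-module of finite type, and let Z_r ⊆ S be the closed
subset cut out by the r-th Fitting ideal of F. Then the intersection of all the Z_r is empty. -/
theorem result (S : Scheme.{u}) (F : S.Modules) (hF : Coh.IsQCoh F) (hft : CohB1.IsFT F)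
    (s : ↥S) : ∃ r : ℕ, s ∉ (Fitt.sheafIdeal F r).support := by
  haveI : Coh.IsQCoh F := hF
  obtain ⟨_, ⟨W, hW, rfl⟩, hxW, -⟩ :=
    S.isBasis_affineOpens.exists_subset_of_mem_open (Set.mem_univ s) isOpen_univ
  replace hW : IsAffineOpen W := hW
  haveI := Groth.L20.ModStalk.finite_sections F ⟨hF, hft⟩ hW
  obtain ⟨n, g, hg⟩ := Groth.L13.Fitting.exists_gens (R := Γ(S, W)) (M := Γ(F, W))
  refine ⟨n, (Groth.L15.FittSheaf.notMem_support_iff F hft n (U := ⟨W, hW⟩) hxW).2 fun hle => ?_⟩
  exact (hW.primeIdealOf ⟨s, hxW⟩).2.ne_top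
    (top_unique ((Groth.L13.Fitting.ideal_eq_top_of_gens g hg le_rfl).ge.trans hle))

end Groth.Agent.S8877
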