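import Groth.Statements.S8882
import Mathlib.Algebra.CharP.Lemmas

set_option autoImplicit false
universe u
open CategoryTheory CategoryTheory.Limits AlgebraicGeometry TopologicalSpace
open SDiv

namespace Groth.Agent.S8882

/-- Let X be a Noetherian scheme on which a prime number p is zero (p·O_X = 0). Then the closed
immersion X_red ⟶ X cut out by the nilradical carries a norm whose degree is p^e for some e > 0. -/
theorem result (X : Scheme.{u}) [IsNoetherian X] (p : ℕ) (hp : p.Prime)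
    (hpX : (p : Γ(X, ⊤)) = 0) : ∃ e : ℕ, 0 < e ∧ Nrm.HasNorm X.nilradical.subschemeι (p ^ e) := by
  classical
  haveI := Fact.mk hp
  set π := X.nilradical.subschemeι with hπ
  have hsupp : Function.Surjective π.base := fun x => by
    have : x ∈ Set.range π.base := by
      rw [hπ, Scheme.IdealSheafData.range_subschemeι, Scheme.support_nilradical]; trivial
    exact this
  -- a uniform bound for the nilpotents in the stalks
  have hloc : ∀ (V : X.affineOpens), ∃ n : ℕ, ∀ (x : X) (hx : x ∈ V.1) (y : X.presheaf.stalk x),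
      IsNilpotent y → y ^ n = 0 := fun V => by
    haveI := IsLocallyNoetherian.component_noetherian (X := X) V
    obtain ⟨n, hn⟩ := (inferInstance : IsNoetherianRing Γ(X, V.1)) |> fun _ =>
      IsNoetherianRing.isNilpotent_nilradical Γ(X, V.1)
    refine ⟨n, fun x hx y ⟨k, hy⟩ => ?_⟩
    letI := TopCat.Presheaf.algebra_section_stalk X.presheaf ⟨x, hx⟩
    haveI := V.2.isLocalization_stalk ⟨x, hx⟩
    obtain ⟨a, s, rfl⟩ := IsLocalization.exists_mk'_eq (V.2.primeIdealOf ⟨x, hx⟩).asIdeal.primeCompl y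
    rw [← IsLocalization.mk'_pow, IsLocalization.mk'_eq_zero_iff] at hy ⊢
    obtain ⟨m, hm⟩ := hy
    have hma : IsNilpotent ((m : Γ(X, V.1)) * a) := ⟨k + 1, by
      have : ((m : Γ(X, V.1)) * a) ^ (k + 1) = ((m : Γ(X, V.1)) * a ^ k) * ((m : Γ(X, V.1)) ^ k * a) := by ring
      rw [this, hm, zero_mul]⟩
    have h0 := Ideal.pow_mem_pow (mem_nilradical.2 hma) n
    rw [hn, Ideal.zero_eq_bot, Ideal.mem_bot, mul_pow] at h0
    exact ⟨m ^ n, by simpa using h0⟩
  choose nV hnV using hloc
  obtain ⟨t, ht⟩ := isCompact_univ.elim_finite_subcover (fun V : X.affineOpens => (V.1 : Set X))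
    (fun V => V.1.2) (fun x _ => by
      obtain ⟨V, hV, hxV, -⟩ := Opens.isBasis_iff_nbhd.1 X.isBasis_affineOpens (show x ∈ (⊤ : X.Opens) from trivial)
      exact Set.mem_iUnion.2 ⟨⟨V, hV⟩, hxV⟩)
  set e := (t.sup nV) + 1 with he
  refine ⟨e, Nat.succ_pos _, ?_⟩
  set q := p ^ e with hq
  have hq1 : 1 ≤ q := Nat.one_le_pow _ _ hp.pos
  have hnil : ∀ (U : X.Opens) (a : Γ(X, U)), IsNilpotent a → a ^ q = 0 := fun U a ha => by
    refine TopCat.Presheaf.section_ext X.sheaf U _ _ fun x hx => ?_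
    obtain ⟨V, hVt, hxV⟩ := Set.mem_iUnion₂.1 (ht (Set.mem_univ x))
    show X.presheaf.germ U x hx _ = X.presheaf.germ U x hx _
    rw [map_zero, map_pow]
    refine pow_eq_zero_of_le ?_ (hnV V x hxV _ (ha.map (X.presheaf.germ U x hx).hom))
    exact ((Finset.le_sup hVt).trans (Nat.le_succ _)).trans (Nat.lt_pow_self hp.one_lt).le
  have hpU : ∀ U : X.Opens, (p : Γ(X, U)) = 0 := fun U => by
    rw [← map_natCast (X.presheaf.map (homOfLE (le_top : U ≤ ⊤)).op).hom p, hpX, map_zero]
  have hK : ∀ (V : X.affineOpens) (a b : Γ(X, V.1)), π.app V.1 a = π.app V.1 b → a ^ q = b ^ q := by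
    intro V a b hab
    have hm : a - b ∈ RingHom.ker (π.app V.1).hom := by rw [RingHom.mem_ker, map_sub, hab, sub_self]
    rw [hπ, Scheme.IdealSheafData.ker_subschemeι_app] at hm
    have hab' : IsNilpotent (a - b) := mem_nilradical.1 hm
    obtain ⟨r, hr⟩ := exists_add_pow_prime_pow_eq hp (a - b) b e
    rw [sub_add_cancel, hnil _ _ hab', hpU] at hr
    simpa using hr
  have hsurj : ∀ V : X.affineOpens, Function.Surjective (π.app V.1) :=
    fun V => X.nilradical.subschemeι_app_surjective V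
  choose lift hlift using hsurj
  let rY : ∀ {U V : X.Opens}, V ≤ U → Γ(X, U) → Γ(X, V) := fun h a => X.presheaf.map (homOfLE h).op a
  let rX : ∀ {U V : X.Opens}, V ≤ U → Γ(X.nilradical.subscheme, π ⁻¹ᵁ U) → Γ(X.nilradical.subscheme, π ⁻¹ᵁ V) :=
    fun h a => X.nilradical.subscheme.presheaf.map ((Opens.map π.base).map (homOfLE h)).op a
  have rYY : ∀ {U V W : X.Opens} (h : V ≤ U) (h' : W ≤ V) (a : Γ(X, U)), rY h' (rY h a) = rY (h'.trans h) a := by
    intro U V W h h' a
    show (X.presheaf.map _ ≫ X.presheaf.map _) a = _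
    rw [← X.presheaf.map_comp]; rfl
  have rXX : ∀ {U V W : X.Opens} (h : V ≤ U) (h' : W ≤ V) (a : Γ(X.nilradical.subscheme, π ⁻¹ᵁ U)),
      rX h' (rX h a) = rX (h'.trans h) a := by
    intro U V W h h' a
    show (X.nilradical.subscheme.presheaf.map _ ≫ X.nilradical.subscheme.presheaf.map _) a = _
    rw [← X.nilradical.subscheme.presheaf.map_comp]; rfl
  have rpi : ∀ {U V : X.Opens} (h : V ≤ U) (a : Γ(X, U)), π.app V (rY h a) = rX h (π.app U a) := fun h a =>
    ConcreteCategory.congr_hom (π.naturality (homOfLE h).op) a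
  -- the defining property
  let P : ∀ (U : X.Opens), Γ(X.nilradical.subscheme, π ⁻¹ᵁ U) → Γ(X, U) → Prop := fun U s N =>
    ∀ (V : X.affineOpens) (h : V.1 ≤ U) (a : Γ(X, V.1)), π.app V.1 a = rX h s → rY h N = a ^ q
  have ext : ∀ (U : X.Opens) (a b : Γ(X, U)), (∀ (V : X.affineOpens) (h : V.1 ≤ U), rY h a = rY h b) → a = b := by
    intro U a b hab
    refine X.sheaf.eq_of_locally_eq' (fun V : {V : X.affineOpens // V.1 ≤ U} => V.1.1) U (fun V => homOfLE V.2) ?_ a b
      fun V => hab V.1 V.2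
    intro x hx
    obtain ⟨V, hV, hxV, hVU⟩ := Opens.isBasis_iff_nbhd.1 X.isBasis_affineOpens hx
    exact Opens.mem_iSup.2 ⟨⟨⟨V, hV⟩, hVU⟩, hxV⟩
  have uniq : ∀ U s N N', P U s N → P U s N' → N = N' := fun U s N N' hN hN' => ext U N N' fun V h =>
    (hN V h _ (hlift V _)).trans (hN' V h _ (hlift V _)).symm
  have glue : ∀ U s, ∃ N, P U s N := by
    intro U s
    obtain ⟨N, hN, -⟩ := X.sheaf.existsUnique_gluing' (fun V : {V : X.affineOpens // V.1 ≤ U} => V.1.1) U
      (fun V => homOfLE V.2) (by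
        intro x hx
        obtain ⟨V, hV, hxV, hVU⟩ := Opens.isBasis_iff_nbhd.1 X.isBasis_affineOpens hx
        exact Opens.mem_iSup.2 ⟨⟨⟨V, hV⟩, hVU⟩, hxV⟩)
      (fun V => lift V.1 (rX V.2 s) ^ q) (by
        intro V W
        refine ext _ _ _ fun T hT => ?_
        show rY hT (rY inf_le_left _) = rY hT (rY inf_le_right _)
        rw [rYY, rYY]
        show X.presheaf.map _ _ = X.presheaf.map _ _
        rw [map_pow, map_pow]
        refine hK T _ _ ?_
        show π.app T.1 (rY _ _) = π.app T.1 (rY _ _)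
        rw [rpi, rpi, hlift, hlift, rXX, rXX])
    refine ⟨N, fun V h a ha => ?_⟩
    have := hN ⟨V, h⟩
    exact this.trans (hK V _ a ((hlift V _).trans ha.symm))
  choose N hN using glue
  refine ⟨{
    one_le := hq1
    norm := fun U =>
      { toFun := N U
        map_one' := uniq U 1 _ _ (hN U 1) fun V h a ha => ?_
        map_mul' := fun s s' => uniq U (s * s') _ _ (hN U _) fun V h a ha => ?_ }
    norm_res := fun {U W} i s => uniq W _ _ _ (fun V h a ha => ?_) (hN W _)
    norm_app := fun U g => uniq U _ _ _ (hN U _) fun V h a ha => ?_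
    norm_mem := fun U s x hx hs => ?_ }⟩
  · show X.presheaf.map _ 1 = _
    rw [map_one, ← one_pow q]
    exact (hK V a 1 (by rw [ha, map_one]; exact map_one _)).symm
  · show X.presheaf.map _ (N U s * N U s') = _
    rw [map_mul]
    show rY h (N U s) * rY h (N U s') = _
    rw [hN U s V h _ (hlift V _), hN U s' V h _ (hlift V _), ← mul_pow]
    exact (hK V a _ (by rw [ha, map_mul, hlift, hlift]; exact map_mul _ _ _)).symm
  · show rY h (rY i.le (N U s)) = _
    rw [rYY]
    exact hN U s V (h.trans i.le) a (ha.trans (rXX i.le h s))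
  · show X.presheaf.map _ (g ^ q) = _
    rw [map_pow]
    exact hK V _ a ((rpi h g).trans ha.symm)
  · obtain ⟨V, hV, hxV, hVU⟩ := Opens.isBasis_iff_nbhd.1 X.isBasis_affineOpens hx
    have hlf := hlift ⟨V, hV⟩ (rX hVU s)
    show X.presheaf.germ U (π.base x) hx (N U s) ∈ _
    rw [← X.presheaf.germ_res_apply (homOfLE hVU) (π.base x) hxV (N U s)]
    show X.presheaf.germ V _ hxV (rY hVU (N U s)) ∈ _
    rw [hN U s ⟨V, hV⟩ hVU _ hlf, map_pow]
    refine Ideal.pow_mem_of_mem _ ?_ q hq1
    refine (IsLocalRing.mem_maximalIdeal _).2 fun hu => (IsLocalRing.mem_maximalIdeal _).1 hs ?_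
    have h1 := hu.map (π.stalkMap x).hom
    rw [Scheme.Hom.germ_stalkMap_apply, hlf] at h1
    show IsUnit _
    rwa [X.nilradical.subscheme.presheaf.germ_res_apply] at h1
end Groth.Agent.S8882
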