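import Groth.Statements.S8884
import Groth.Agent.L12.KBun.Atlas
import Groth.Agent.L18.Grass.QuotExist
import Groth.Agent.L18.Grass.GrassGeom
import Groth.Agent.L18.KRRAmple
import Groth.Agent.L03.VBPn.NullCorr
import Groth.Agent.L06.ImmImage
import Mathlib.Algebra.Category.ModuleCat.Free
import Groth.Agent.L13.RatSing.Birat
import Groth.Agent.L13.Nagata.Image
import Groth.Agent.L22.Bundle.UPBridge
import Groth.Agent.L29.DCoh.Amplitude

set_option autoImplicit false
universe u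
open CategoryTheory CategoryTheory.Limits AlgebraicGeometry TopologicalSpace
open SDiv

set_option backward.isDefEq.respectTransparency.types false
set_option linter.style.haveILetI false
set_option backward.isDefEq.respectTransparency.types false
open AlgebraicGeometry CategoryTheory CategoryTheory.Limits

namespace Groth.Agent.S8884

/-- A short exact sequence with locally free last term stays exact under pullback. -/
theorem shortExact_pullback {X X' : Scheme.{u}} {S : ShortComplex X.Modules} (hS : S.ShortExact) {r : ℕ}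
    (h3 : FlatMod.IsFinLocFreeOfRank r S.X₃) (g : X' ⟶ X) : (S.map (Scheme.Modules.pullback g)).ShortExact :=
  Groth.L03.VBPn.shortExact_pullback_of_locFree hS h3 g

/-- The kernel of a surjection of a bundle of rank `r + 1` onto a line bundle has rank `r`. -/
theorem isFinLocFreeOfRank_kernel {X : Scheme.{u}} [ConnectedSpace X] {E L : X.Modules} {r : ℕ}
    (hE : FlatMod.IsFinLocFreeOfRank (r + 1) E) (hL : FlatMod.IsFinLocFreeOfRank 1 L) (p : E ⟶ L) [Epi p] :
    FlatMod.IsFinLocFreeOfRank r (kernel p) := by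
  obtain ⟨n, hn⟩ := Groth.L18.KRRAmple.exists_rank (Groth.L29.DC.isFinLocFree_kernel_of_epi p
    (Groth.L18.KRRAmple.isFinLocFree_of_rank hE) (Groth.L18.KRRAmple.isFinLocFree_of_rank hL))
  obtain ⟨x⟩ := (inferInstance : Nonempty X)
  let T : ShortComplex X.Modules := ShortComplex.mk (kernel.ι p) p (kernel.condition p)
  have hT : T.ShortExact :=
    { exact := T.exact_of_f_is_kernel (kernelIsKernel p), mono_f := inferInstanceAs (Mono (kernel.ι p)),
      epi_g := inferInstanceAs (Epi p) }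
  haveI := hT.mono_f
  haveI := hT.epi_g
  have hx : (T.map (Groth.L00.Stk.F X x)).ShortExact := hT.map_of_exact _
  obtain ⟨e₁⟩ := Groth.L22.CurveDeg.nonempty_stalk_equiv hn x
  obtain ⟨e₂⟩ := Groth.L22.CurveDeg.nonempty_stalk_equiv hE x
  obtain ⟨e₃⟩ := Groth.L22.CurveDeg.nonempty_stalk_equiv hL x
  haveI : Module.Free (X.presheaf.stalk x) (T.map (Groth.L00.Stk.F X x)).X₁ := Module.Free.of_equiv e₁
  haveI : Module.Finite (X.presheaf.stalk x) (T.map (Groth.L00.Stk.F X x)).X₁ := Module.Finite.equiv e₁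
  haveI : Module.Free (X.presheaf.stalk x) (T.map (Groth.L00.Stk.F X x)).X₃ := Module.Free.of_equiv e₃
  haveI : Module.Finite (X.presheaf.stalk x) (T.map (Groth.L00.Stk.F X x)).X₃ := Module.Finite.equiv e₃
  have h := ModuleCat.free_shortExact_finrank_add hx
    (e₁.finrank_eq.symm.trans (Module.finrank_fin_fun _)) (e₃.finrank_eq.symm.trans (Module.finrank_fin_fun _))
  have h2 : Module.finrank (X.presheaf.stalk x) (T.map (Groth.L00.Stk.F X x)).X₂ = r + 1 :=
    e₂.finrank_eq.symm.trans (Module.finrank_fin_fun _)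
  obtain rfl : r = n := Nat.succ_injective (h2.symm.trans h)
  exact hn

/-- A bundle of rank zero is zero. -/
theorem isZero_of_rank_zero {X : Scheme.{u}} {E : X.Modules} (hE : FlatMod.IsFinLocFreeOfRank 0 E) : IsZero E := by
  refine (Groth.L00.Stk.isZero_iff _).2 fun x => ?_
  obtain ⟨e⟩ := Groth.L22.CurveDeg.nonempty_stalk_equiv hE x
  haveI : Subsingleton ((Groth.L00.Stk.F X x).obj E) := e.symm.injective.subsingleton
  exact ModuleCat.isZero_of_subsingleton _

/-- Over an integral scheme a bundle of positive rank has, after a modification, a line bundle quotient. -/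
theorem exists_line_quotient {X : Scheme.{u}} [IsIntegral X] {r : ℕ} {E : X.Modules}
    (hE : FlatMod.IsFinLocFreeOfRank (r + 1) E) :
    ∃ (X' : Scheme.{u}) (f : X' ⟶ X) (_ : IsIntegral X') (_ : IsProper f) (U : X.Opens) (_ : (U : Set X).Nonempty)
      (_ : IsIso (f ∣_ U)) (L : X'.Modules) (p : (Scheme.Modules.pullback f).obj E ⟶ L),
      FlatMod.IsFinLocFreeOfRank 1 L ∧ Epi p := by
  haveI := Groth.L29.DC.PCQCoh.isQCoh_of_isFinLocFree (Groth.L18.KRRAmple.isFinLocFree_of_rank hE)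
  obtain ⟨P, π, O1, q, hG⟩ := Groth.L18.QuotExist.exists_isGrass E 1
  have hPB := hG.isProjBundle
  obtain ⟨A⟩ := Groth.L12.KBun.exists_atlas hPB hE
  haveI := A.isProper
  obtain ⟨x⟩ := (inferInstance : Nonempty X)
  obtain ⟨V, hxV, b, hb⟩ := Groth.L18.GrassGeom.exists_freeBasis hE x
  obtain ⟨h, -, hh, -⟩ := Groth.L19.ProjBdl.exists_hom hPB hb (V.1.ι) (by simp)
    (fun i => if i = 0 then 1 else 0) 0 (if_pos rfl)
  haveI : Nonempty (V.1 : Scheme.{u}) := ⟨⟨x, hxV⟩⟩
  haveI : IsIntegral (V.1 : Scheme.{u}) := isIntegral_of_isOpenImmersion V.1.ι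
  haveI : IsImmersion (h ≫ π) := by rw [hh]; infer_instance
  haveI : IsImmersion h := IsImmersion.of_comp h π
  haveI := Groth.L06.ImmImage.isReduced_image h
  haveI := Groth.L06.ImmImage.isOpenImmersion_toImage_of_reduced h
  have hd := Groth.L06.ImmImage.denseRange_toImage_of_reduced h
  have hs : h.toImage ≫ h.imageι = h := h.toImage_imageι
  haveI : Nonempty h.image := ⟨h.toImage ⟨x, hxV⟩⟩
  haveI : IrreducibleSpace h.image := by
    have h1 : IsPreirreducible (Set.univ : Set (V.1 : Scheme.{u})) := PreirreducibleSpace.isPreirreducible_univ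
    have h2 := (h1.image h.toImage h.toImage.continuous.continuousOn).closure
    rw [Set.image_univ, hd.closure_eq] at h2
    haveI : PreirreducibleSpace h.image := ⟨h2⟩
    exact ⟨inferInstance⟩
  haveI : IsIntegral h.image := isIntegral_of_irreducibleSpace_of_isReduced _
  let f := h.imageι ≫ π
  have hf : h.toImage ≫ f = V.1.ι := by simp only [f, reassoc_of% hs, hh]
  have hpre : f ⁻¹ᵁ V.1.ι.opensRange ≤ h.toImage.opensRange := by
    intro y hy
    rw [Scheme.Opens.opensRange_ι] at hy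
    let t : (V.1 : Scheme.{u}) ⟶ ((f ⁻¹ᵁ V.1 : h.image.Opens) : Scheme.{u}) :=
      IsOpenImmersion.lift (f ⁻¹ᵁ V.1).ι h.toImage (by
        rw [Scheme.Opens.range_ι]; rintro _ ⟨v, rfl⟩
        show f (h.toImage v) ∈ V.1
        rw [← Scheme.Hom.comp_apply, hf]; exact v.2)
    have ht : t ≫ (f ⁻¹ᵁ V.1).ι = h.toImage := IsOpenImmersion.lift_fac _ _ _
    have ht1 : t ≫ (f ∣_ V.1) = 𝟙 _ := by
      rw [← cancel_mono V.1.ι, Category.assoc, morphismRestrict_ι, reassoc_of% ht, hf, Category.id_comp]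
    haveI : IsClosedImmersion (t ≫ (f ∣_ V.1)) := by rw [ht1]; infer_instance
    haveI : IsClosedImmersion t := IsClosedImmersion.of_comp t (f ∣_ V.1)
    have hy' : (⟨y, hy⟩ : ↥(f ⁻¹ᵁ V.1)) ∈ Set.range t := by
      rw [← t.isClosedEmbedding.isClosed_range.closure_eq]
      refine mem_closure_iff.2 fun Q hQ hyQ => ?_
      obtain ⟨_, ⟨w, hw, rfl⟩, ⟨v, hv⟩⟩ := Dense.inter_open_nonempty (s := Set.range h.toImage) hd _
        ((f ⁻¹ᵁ V.1).ι.isOpenEmbedding.isOpenMap _ hQ) ⟨_, ⟨y, hy⟩, hyQ, rfl⟩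
      refine ⟨w, hw, v, (f ⁻¹ᵁ V.1).ι.isOpenEmbedding.injective ?_⟩
      rw [← Scheme.Hom.comp_apply, ht]
      exact hv
    obtain ⟨v, hv⟩ := hy'
    refine ⟨v, ?_⟩
    rw [← ht, Scheme.Hom.comp_apply, hv]
    rfl
  have hiso : IsIso (f ∣_ V.1) := by
    have := Groth.L13.Nagata.isIso_restrict_of_section f V.1.ι h.toImage hf hpre
    rwa [Scheme.Opens.opensRange_ι] at this
  haveI := hPB.epi
  haveI : (Scheme.Modules.pullback h.imageι).IsLeftAdjoint :=
    (Scheme.Modules.pullbackPushforwardAdjunction h.imageι).isLeftAdjoint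
  haveI : Epi ((Scheme.Modules.pullback h.imageι).map q) := inferInstance
  exact ⟨h.image, f, inferInstance, inferInstance, V.1, ⟨x, hxV⟩, hiso, _,
    (Scheme.Modules.pullbackComp h.imageι π).inv.app E ≫ (Scheme.Modules.pullback h.imageι).map q,
    Groth.L18.MapEpi.isFinLocFreeOfRank_pullback _ hPB.invertible, epi_comp _ _⟩

/-- Every bundle of rank `r` over an integral scheme is filtered by line bundles after a modification. -/
theorem exists_filtration : ∀ (n : ℕ) (X : Scheme.{u}) [IsIntegral X] (E : X.Modules),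
    FlatMod.IsFinLocFreeOfRank n E →
    ∃ (X' : Scheme.{u}) (f : X' ⟶ X) (_ : IsIntegral X') (_ : IsProper f) (U : X.Opens) (_ : (U : Set ↥X).Nonempty)
      (_ : IsIso (f ∣_ U)) (r : ℕ) (M : Fin (r + 1) → X'.Modules) (L : Fin r → X'.Modules),
      IsZero (M 0) ∧ Nonempty (M (Fin.last r) ≅ (Scheme.Modules.pullback f).obj E) ∧
        ∀ i : Fin r, PicF.IsInvertible (L i) ∧
          ∃ S : ShortComplex X'.Modules, S.ShortExact ∧ Nonempty (S.X₁ ≅ M i.castSucc) ∧
            Nonempty (S.X₂ ≅ M i.succ) ∧ Nonempty (S.X₃ ≅ L i) := by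
  intro n
  induction n with
  | zero =>
    intro X _ E hE
    obtain ⟨x⟩ := (inferInstance : Nonempty X)
    refine ⟨X, 𝟙 X, inferInstance, inferInstance, ⊤, ⟨x, trivial⟩, inferInstance, 0, fun _ => E, fun i => i.elim0,
      isZero_of_rank_zero hE, ⟨((Scheme.Modules.pullbackId X).app E).symm⟩, fun i => i.elim0⟩
  | succ n ih =>
    intro X _ E hE
    obtain ⟨X₁, f₁, hX₁, hf₁, U₁, hU₁, hi₁, L₁, p, hL₁, hp⟩ := exists_line_quotient hE
    haveI := hp
    have hE₁ := Groth.L18.MapEpi.isFinLocFreeOfRank_pullback f₁ hE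
    obtain ⟨X₂, f₂, hX₂, hf₂, U₂, hU₂, hi₂, r, M, L, h0, ⟨e⟩, hM⟩ :=
      ih X₁ (kernel p) (isFinLocFreeOfRank_kernel hE₁ hL₁ p)
    obtain ⟨x₁, hx₁⟩ := hU₁
    haveI := hi₁
    obtain ⟨x₁', -⟩ := (f₁ ∣_ U₁).surjective ⟨x₁, hx₁⟩
    obtain ⟨y, hy₁, hy₂⟩ := nonempty_preirreducible_inter (U₂.2) ((f₁ ⁻¹ᵁ U₁).2) hU₂ ⟨_, x₁'.2⟩
    let W₀ : (U₁ : Scheme.{u}).Opens := inv (f₁ ∣_ U₁) ⁻¹ᵁ ((f₁ ⁻¹ᵁ U₁).ι ⁻¹ᵁ U₂)
    let W : X.Opens := U₁.ι ''ᵁ W₀
    have hWU : W ≤ U₁ := fun z ⟨w, _, hw⟩ => hw ▸ w.2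
    have hW₂ : f₁ ⁻¹ᵁ W ≤ U₂ := by
      rintro z ⟨w, hw, hwz⟩
      have hz : f₁ z ∈ U₁ := hwz ▸ w.2
      have : inv (f₁ ∣_ U₁) w = ⟨z, hz⟩ := by
        rw [show w = (f₁ ∣_ U₁) ⟨z, hz⟩ from U₁.ι.isOpenEmbedding.injective
          (hwz.trans (congrArg (fun φ : _ ⟶ X => φ (⟨z, hz⟩ : ↥(f₁ ⁻¹ᵁ U₁))) (morphismRestrict_ι f₁ U₁)).symm)]
        rw [← Scheme.Hom.comp_apply, IsIso.hom_inv_id]
        rfl
      have h' : (f₁ ⁻¹ᵁ U₁).ι (inv (f₁ ∣_ U₁) w) ∈ U₂ := hw
      rwa [this] at h'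
    have hWne : (W : Set X).Nonempty := by
      refine ⟨_, (f₁ ∣_ U₁) ⟨y, hy₂⟩, ?_, rfl⟩
      show (f₁ ⁻¹ᵁ U₁).ι (inv (f₁ ∣_ U₁) ((f₁ ∣_ U₁) ⟨y, hy₂⟩)) ∈ U₂
      rw [← Scheme.Hom.comp_apply (f₁ ∣_ U₁), IsIso.hom_inv_id]
      exact hy₁
    haveI := hi₂
    have hr₁ := Groth.L13.RatSing.isIso_restrict_le f₁ hWU
    have hr₂ := Groth.L13.RatSing.isIso_restrict_le f₂ hW₂
    haveI := hf₁
    haveI := hf₂
    have hiso : IsIso ((f₂ ≫ f₁) ∣_ W) := by rw [morphismRestrict_comp]; exact IsIso.comp_isIso' hr₂ hr₁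
    let T : ShortComplex X₁.Modules := ShortComplex.mk (kernel.ι p) p (kernel.condition p)
    have hT : T.ShortExact :=
      { exact := T.exact_of_f_is_kernel (kernelIsKernel p), mono_f := inferInstanceAs (Mono (kernel.ι p)),
        epi_g := inferInstanceAs (Epi p) }
    have hT' := shortExact_pullback hT hL₁ f₂
    refine ⟨X₂, f₂ ≫ f₁, hX₂, inferInstance, W, hWne, hiso, r + 1,
      Fin.snoc M ((Scheme.Modules.pullback f₂).obj ((Scheme.Modules.pullback f₁).obj E)),
      Fin.snoc L ((Scheme.Modules.pullback f₂).obj L₁), ?_, ?_, Fin.lastCases ?_ ?_⟩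
    · rw [← Fin.castSucc_zero, Fin.snoc_castSucc]; exact h0
    · rw [Fin.snoc_last]; exact ⟨(Scheme.Modules.pullbackComp f₂ f₁).app E⟩
    · rw [Fin.snoc_last, Fin.snoc_castSucc, Fin.succ_last, Fin.snoc_last]
      exact ⟨Groth.L22.Bundle.isInvertible_of_one (Groth.L18.MapEpi.isFinLocFreeOfRank_pullback f₂ hL₁),
        _, hT', ⟨e.symm⟩, ⟨Iso.refl _⟩, ⟨Iso.refl _⟩⟩
    · intro i
      rw [Fin.snoc_castSucc, Fin.snoc_castSucc, Fin.succ_castSucc, Fin.snoc_castSucc]
      exact hM i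

end Groth.Agent.S8884
namespace Groth.Agent.S8884

/-- Let X be an integral scheme and E a finite locally free O_X-module. Then there exists a modification
f : X' ⟶ X, i.e. X' is integral and f is proper and restricts to an isomorphism over some nonempty
open of X, such that f^*E is an iterated extension of invertible O_{X'}-modules: modules 0 = M_0,
M_1, …, M_r with M_r ≅ f^*E and short exact sequences 0 → M_i → M_{i+1} → L_i → 0 with every L_i
invertible. -/
theorem result (X : Scheme.{u}) [IsIntegral X] (E : X.Modules)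
    (hE : FlatMod.IsFinLocFree E) :
    ∃ (X' : Scheme.{u}) (f : X' ⟶ X) (_ : IsIntegral X') (_ : IsProper f) (U : X.Opens) (_ : (U : Set ↥X).Nonempty)
      (_ : IsIso (f ∣_ U)) (r : ℕ) (M : Fin (r + 1) → X'.Modules) (L : Fin r → X'.Modules),
      IsZero (M 0) ∧ Nonempty (M (Fin.last r) ≅ (Scheme.Modules.pullback f).obj E) ∧
        ∀ i : Fin r, PicF.IsInvertible (L i) ∧
          ∃ S : ShortComplex X'.Modules, S.ShortExact ∧ Nonempty (S.X₁ ≅ M i.castSucc) ∧
            Nonempty (S.X₂ ≅ M i.succ) ∧ Nonempty (S.X₃ ≅ L i) := by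
  obtain ⟨n, hn⟩ := Groth.L18.KRRAmple.exists_rank hE
  exact exists_filtration n X E hn


end Groth.Agent.S8884
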