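import Groth.Statements.S8886
import Mathlib.AlgebraicGeometry.Morphisms.UniversallyOpen
import Mathlib.AlgebraicGeometry.FunctionField
import Mathlib.RingTheory.Flat.TorsionFree
import Mathlib.RingTheory.LocalProperties.Reduced
import Mathlib.Algebra.Module.Torsion.Basic
-- import your own Groth.Agent.* helpers here

set_option autoImplicit false
universe u
open CategoryTheory CategoryTheory.Limits AlgebraicGeometry TopologicalSpace
open SDiv

namespace Groth.Agent.S8886

/-- Let f : X ⟶ Y be a flat morphism of schemes with Y integral. If the scheme-theoretic fibre of f over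
the generic point of Y is integral, then X is integral. -/
theorem result {X Y : Scheme.{u}} (f : X ⟶ Y) [Flat f] [IsIntegral Y]
    (h : IsIntegral (f.fiber (genericPoint ↥Y))) : IsIntegral X := by
  haveI := h
  set η : ↥Y := genericPoint ↥Y with hη
  -- the fibre inclusion is flat
  haveI : Flat (Y.fromSpecResidueField η) := by
    refine Flat.of_stalkMap _ fun w => ?_
    have hw : Y.fromSpecResidueField η w = η := by
      have : Y.fromSpecResidueField η w ∈ Set.range (Y.fromSpecResidueField η) := ⟨w, rfl⟩
      rw [Scheme.range_fromSpecResidueField] at this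
      exact this
    have hF : IsField (Y.presheaf.stalk (Y.fromSpecResidueField η w)) := by
      rw [hw]; exact Field.toIsField Y.functionField
    letI := hF.toField
    algebraize [((Y.fromSpecResidueField η).stalkMap w).hom]
    exact Module.Flat.of_free
  haveI : Flat (f.fiberι η) := by
    haveI : MorphismProperty.IsStableUnderBaseChange @Flat := Flat.isStableUnderBaseChange
    exact MorphismProperty.IsStableUnderBaseChange.of_isPullback (IsPullback.of_hasPullback f (Y.fromSpecResidueField η)).flip inferInstance
  -- every point is a specialization of a point over the generic point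
  have hgen : ∀ x : ↥X, ∃ x', x' ⤳ x ∧ f x' = η := fun x =>
    Flat.generalizingMap f (genericPoint_specializes (f x))
  have hdense : closure (Set.range (f.fiberι η)) = Set.univ := by
    refine Set.eq_univ_of_forall fun x => ?_
    obtain ⟨x', hx', he⟩ := hgen x
    rw [Scheme.Hom.range_fiberι]
    exact hx'.mem_closed isClosed_closure (subset_closure he)
  haveI : IrreducibleSpace ↥X := by
    have h1 : IsIrreducible (Set.range (f.fiberι η)) := by
      rw [← Set.image_univ]
      exact IrreducibleSpace.isIrreducible_univ _ |>.image _ (f.fiberι η).continuous.continuousOn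
    have h2 := h1.closure
    rw [hdense] at h2
    exact { toPreirreducibleSpace := ⟨h2.2⟩, toNonempty := h2.1.to_type }
  -- stalks over the generic point are reduced
  have hred : ∀ x : ↥X, f x = η → _root_.IsReduced (X.presheaf.stalk x) := by
    intro x hx
    obtain ⟨w, rfl⟩ : x ∈ Set.range (f.fiberι η) := by
      rw [Scheme.Hom.range_fiberι]; exact hx
    refine isReduced_of_injective ((f.fiberι η).stalkMap w).hom ?_
    have hfl := Flat.stalkMap (f.fiberι η) w
    algebraize [((f.fiberι η).stalkMap w).hom]
    have : Module.FaithfullyFlat (X.presheaf.stalk (f.fiberι η w))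
        ((f.fiber η).presheaf.stalk w) :=
      @Module.FaithfullyFlat.of_flat_of_isLocalHom _ _ _ _ _ _ _
        hfl ((f.fiberι η).toLRSHom.prop w)
    exact ‹RingHom.FaithfullyFlat _›.injective
  haveI : IsReduced X := by
    haveI : ∀ x : ↥X, _root_.IsReduced (X.presheaf.stalk x) := fun x => by
      obtain ⟨_, ⟨V, hV, rfl⟩, hxV, -⟩ :=
        Y.isBasis_affineOpens.exists_subset_of_mem_open (Set.mem_univ (f x)) isOpen_univ
      obtain ⟨_, ⟨U, hU, rfl⟩, hxU, hUV⟩ :=
        X.isBasis_affineOpens.exists_subset_of_mem_open (show x ∈ f ⁻¹ᵁ V from hxV) (f ⁻¹ᵁ V).isOpen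
      replace hV : IsAffineOpen V := hV
      replace hU : IsAffineOpen U := hU
      haveI : Nonempty V := ⟨⟨f x, hxV⟩⟩
      set φ := f.appLE V U hUV with hφ
      have hfl : φ.hom.Flat := f.flat_appLE hV hU hUV
      haveI := hU.isLocalization_stalk ⟨x, hxU⟩
      suffices hU' : _root_.IsReduced Γ(X, U) by
        letI := TopCat.Presheaf.algebra_section_stalk X.presheaf (⟨x, hxU⟩ : U)
        exact isReduced_localizationPreserves (hU.primeIdealOf ⟨x, hxU⟩).asIdeal.primeCompl _ hU'
      refine ⟨fun r hr => ?_⟩
      by_contra hr0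
      let I : Ideal Γ(X, U) := Ideal.torsionOf _ _ r
      let T : Submonoid Γ(X, U) := (nonZeroDivisors Γ(Y, V)).map φ.hom
      have hdisj : Disjoint (I : Set Γ(X, U)) T := by
        rw [Set.disjoint_left]
        rintro _ ha ⟨s, hs, rfl⟩
        have hs' : s ≠ 0 := nonZeroDivisors.ne_zero hs
        refine hr0 ?_
        letI := φ.hom.toAlgebra
        haveI : Module.Flat Γ(Y, V) Γ(X, U) := hfl
        have hreg : IsSMulRegular Γ(X, U) s :=
          Module.Flat.isSMulRegular_of_isRegular (IsRegular.of_ne_zero hs')
        refine hreg ?_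
        simpa [Algebra.smul_def, RingHom.algebraMap_toAlgebra, I, Ideal.mem_torsionOf_iff, mul_comm]
          using ha
      obtain ⟨P, hP, hIP, hPT⟩ := Ideal.exists_le_prime_disjoint I T hdisj
      have hbot : (PrimeSpectrum.comap φ.hom ⟨P, hP⟩).asIdeal = ⊥ := by
        refine (Submodule.eq_bot_iff _).2 fun s hs => ?_
        by_contra hs0
        exact Set.disjoint_left.1 hPT hs ⟨s, mem_nonZeroDivisors_of_ne_zero hs0, rfl⟩
      have hpt : f (hU.fromSpec ⟨P, hP⟩) = η := by
        have hmem : η ∈ V :=
          ((genericPoint_spec ↥Y).mem_open_set_iff V.isOpen).mpr ⟨f x, trivial, hxV⟩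
        have e1 : f (hU.fromSpec ⟨P, hP⟩) = hV.fromSpec (PrimeSpectrum.comap φ.hom ⟨P, hP⟩) := by
          show (hU.fromSpec ≫ f) ⟨P, hP⟩ = _
          rw [← IsAffineOpen.SpecMap_appLE_fromSpec f hV hU hUV]
          rfl
        have e2 : (hV.primeIdealOf ⟨η, hmem⟩) = PrimeSpectrum.comap φ.hom ⟨P, hP⟩ := by
          rw [hV.primeIdealOf_genericPoint, genericPoint_eq_bot_of_affine]
          exact PrimeSpectrum.ext hbot.symm
        rw [e1, ← e2, hV.fromSpec_primeIdealOf]
      have hyU : hU.fromSpec ⟨P, hP⟩ ∈ U := by
        have : hU.fromSpec ⟨P, hP⟩ ∈ Set.range hU.fromSpec := ⟨_, rfl⟩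
        rwa [hU.range_fromSpec] at this
      haveI := hred _ hpt
      letI := TopCat.Presheaf.algebra_section_stalk X.presheaf
        (⟨hU.fromSpec ⟨P, hP⟩, hyU⟩ : U)
      haveI : IsLocalization P.primeCompl (X.presheaf.stalk (hU.fromSpec ⟨P, hP⟩)) :=
        hU.isLocalization_stalk' ⟨P, hP⟩ hyU
      have hz : algebraMap Γ(X, U) (X.presheaf.stalk (hU.fromSpec ⟨P, hP⟩)) r = 0 :=
        (hr.map _).eq_zero
      obtain ⟨t, ht⟩ := (IsLocalization.map_eq_zero_iff P.primeCompl _ r).1 hz
      exact t.2 (hIP (by simpa [I, Ideal.mem_torsionOf_iff, mul_comm] using ht))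
    exact isReduced_of_isReduced_stalk _
  exact isIntegral_of_irreducibleSpace_of_isReduced _

end Groth.Agent.S8886
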