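import Groth.Statements.S8887
import Groth.Agent.L15.CohFlat
import Mathlib.AlgebraicGeometry.FunctionField
import Mathlib.LinearAlgebra.Dimension.Free

set_option autoImplicit false
universe u
open CategoryTheory CategoryTheory.Limits AlgebraicGeometry TopologicalSpace
open SDiv

namespace Groth.Agent.S8887

/-- Let X be an integral scheme and F a quasi-coherent O_X-module of finite type, of rank r (r being the
finite dimension of the generic stalk of F as a vector space over the function field of X). Then one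
can find an open subset U of X, not empty, on which the restriction of F is isomorphic to the free
module of rank r. -/
theorem result (X : Scheme.{u}) [IsIntegral X] (F : X.Modules) (hF : Coh.IsQCoh F)
    (hft : CohB1.IsFT F) :
    ∃ U : X.Opens, (U : Set ↥X).Nonempty ∧
      Nonempty (F.restrict U.ι ≅ FlatMod.freeMod (↑U)
        (Module.finrank ↑(X.presheaf.stalk (genericPoint ↥X)) ↑(F.presheaf.stalk (genericPoint ↥X)))) := by
  haveI : Coh.IsQCoh F := hF
  classical
  set η := genericPoint ↥X with hη_def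
  haveI : Nonempty ↥X := ⟨η⟩
  obtain ⟨_, ⟨V, hV, rfl⟩, hηV, -⟩ :=
    X.isBasis_affineOpens.exists_subset_of_mem_open (Set.mem_univ η) isOpen_univ
  change X.Opens at V
  replace hV : IsAffineOpen V := hV
  haveI := Groth.L20.ModStalk.finite_sections F ⟨hF, hft⟩ hV
  letI : Field (X.presheaf.stalk η) := inferInstanceAs (Field X.functionField)
  letI := X.presheaf.algebra_section_stalk ⟨η, hηV⟩
  haveI := hV.isLocalization_stalk ⟨η, hηV⟩
  letI := Groth.L20.ModStalk.stalkModule F hηV
  haveI := Groth.L20.ModStalk.isLocalizedModule_germ F hV hηV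
  set S := (hV.primeIdealOf ⟨η, hηV⟩).asIdeal.primeCompl with hS
  let g : Γ(F, V) → F.presheaf.stalk η := fun n => F.presheaf.germ V η hηV n
  haveI : Module.Finite (X.presheaf.stalk η) (F.presheaf.stalk η) := by
    haveI : IsScalarTower Γ(X, V) (X.presheaf.stalk η) (F.presheaf.stalk η) :=
      IsScalarTower.of_algebraMap_smul fun _ _ => rfl
    exact Module.Finite.of_isLocalizedModule S (Rₚ := X.presheaf.stalk η) (Groth.L20.ModStalk.germₗ F hηV)
  set r := Module.finrank ↑(X.presheaf.stalk η) ↑(F.presheaf.stalk η) with hr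
  let b := Module.finBasis (X.presheaf.stalk η) (F.presheaf.stalk η)
  choose m hm using fun i => IsLocalizedModule.surj S (Groth.L20.ModStalk.germₗ F hηV) (b i)
  have hu : ∀ i, IsUnit (X.presheaf.germ V η hηV ((m i).2 : Γ(X, V))) := fun i =>
    IsLocalization.map_units (X.presheaf.stalk η) (m i).2
  let b' := b.unitsSMul fun i => (hu i).unit
  have hb' : ∀ i, b' i = g (m i).1 := fun i => by
    rw [Module.Basis.unitsSMul_apply]
    exact hm i
  have hgen : ∀ n : Γ(F, V), ∃ f : Γ(X, V), f ∈ S ∧
      f • n ∈ Submodule.span Γ(X, V) (Set.range fun i => (m i).1) := by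
    intro n
    choose a ha using fun i => IsLocalization.exists_mk'_eq S (b'.repr (g n) i)
    choose t ht using ha
    let T : S := ∏ i, t i
    have hT : ∀ i, ∃ c : Γ(X, V), algebraMap Γ(X, V) (X.presheaf.stalk η) T * b'.repr (g n) i =
        algebraMap Γ(X, V) (X.presheaf.stalk η) c := fun i => by
      refine ⟨(∏ j ∈ Finset.univ.erase i, (t j : Γ(X, V))) * a i, ?_⟩
      rw [map_mul, ← ht i, show (T : Γ(X, V)) = (∏ j ∈ Finset.univ.erase i, (t j : Γ(X, V))) * t i by
        rw [Submonoid.coe_finset_prod, Finset.prod_erase_mul _ _ (Finset.mem_univ i)]]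
      rw [map_mul, mul_assoc, IsLocalization.mk'_spec']
    choose c hc using hT
    have h0 : g ((T : Γ(X, V)) • n) = g (∑ i, c i • (m i).1) := by
      show F.presheaf.germ V η hηV _ = F.presheaf.germ V η hηV _
      rw [Groth.L20.ModStalk.germ_smul, map_sum]
      conv_lhs => rw [show F.presheaf.germ V η hηV n = g n from rfl, ← b'.sum_repr (g n), Finset.smul_sum]
      refine Finset.sum_congr rfl fun i _ => ?_
      rw [smul_smul, Groth.L20.ModStalk.germ_smul, hb']
      exact congrArg (· • g (m i).1) (hc i)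
    obtain ⟨u, hu'⟩ := (IsLocalizedModule.eq_iff_exists S (Groth.L20.ModStalk.germₗ F hηV)).1 h0
    refine ⟨u * T, mul_mem u.2 T.2, ?_⟩
    rw [mul_smul, show (u : Γ(X, V)) • (T : Γ(X, V)) • n = (u : Γ(X, V)) • ∑ i, c i • (m i).1 from hu']
    exact Submodule.smul_mem _ _ (Submodule.sum_mem _ fun i _ =>
      Submodule.smul_mem _ _ (Submodule.subset_span ⟨i, rfl⟩))
  choose f hfS hf using hgen
  obtain ⟨s, hs⟩ := (Module.Finite.fg_top : (⊤ : Submodule Γ(X, V) Γ(F, V)).FG)
  let f₀ : Γ(X, V) := ∏ x ∈ s, f x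
  have hf₀S : f₀ ∈ S := Submonoid.prod_mem S fun x _ => hfS x
  have hf₀ : ∀ n : Γ(F, V), f₀ • n ∈ Submodule.span Γ(X, V) (Set.range fun i => (m i).1) := by
    intro n
    have hn : n ∈ Submodule.span Γ(X, V) (s : Set Γ(F, V)) := hs ▸ Submodule.mem_top
    induction hn using Submodule.span_induction with
    | mem x hx =>
      rw [show f₀ = (∏ y ∈ s.erase x, f y) * f x from (Finset.prod_erase_mul _ _ hx).symm, mul_smul]
      exact Submodule.smul_mem _ _ (hf x)
    | zero => rw [smul_zero]; exact zero_mem _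
    | add x y _ _ hx hy => rw [smul_add]; exact add_mem hx hy
    | smul a x _ hx => rw [smul_comm]; exact Submodule.smul_mem _ _ hx
  have hηW : η ∈ X.basicOpen f₀ :=
    (X.mem_basicOpen f₀ η hηV).2 (IsLocalization.map_units (X.presheaf.stalk η) (⟨f₀, hf₀S⟩ : S))
  set W := X.basicOpen f₀ with hW_def
  have hW : IsAffineOpen W := hV.basicOpen f₀
  let v : Fin r → Γ(F, W) := fun i => Groth.L18.Frame.rs F (X.basicOpen_le f₀) (m i).1
  have hv : ∀ i, F.presheaf.germ W η hηW (v i) = b' i := fun i => by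
    rw [hb']; exact Groth.L20.ModStalk.germ_rs F _ hηW _
  have hli : LinearIndependent Γ(X, W) v := by
    rw [Fintype.linearIndependent_iff]
    intro c hc i
    refine AlgebraicGeometry.germ_injective_of_isIntegral X η hηW ?_
    rw [map_zero]
    refine Fintype.linearIndependent_iff.1 b'.linearIndependent (fun j => X.presheaf.germ W η hηW (c j)) ?_ i
    have h1 := congrArg (F.presheaf.germ W η hηW) hc
    rw [map_zero, map_sum] at h1
    refine Eq.trans (Finset.sum_congr rfl fun j _ => ?_) h1
    rw [Groth.L20.ModStalk.germ_smul, hv]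
  have hsp : ⊤ ≤ Submodule.span Γ(X, W) (Set.range v) := by
    intro y _
    letI := Module.compHom Γ(F, W) (X.presheaf.map (homOfLE (X.basicOpen_le f₀)).op).hom
    haveI := Groth.L20.ModStalk.isLocalizedModule_res F hV f₀
    obtain ⟨⟨n, ⟨_, k, rfl⟩⟩, hk⟩ := IsLocalizedModule.surj (Submonoid.powers f₀)
      ({ toFun := fun s => Groth.L18.Frame.rs F (X.basicOpen_le f₀) s
         map_add' := fun a b => map_add _ a b
         map_smul' := fun a s => Groth.L18.Frame.rs_smul F (X.basicOpen_le f₀) a s } : Γ(F, V) →ₗ[Γ(X, V)] Γ(F, W)) y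
    let φ : Γ(X, V) →+* Γ(X, W) := (X.presheaf.map (homOfLE (X.basicOpen_le f₀)).op).hom
    letI : Algebra Γ(X, V) Γ(X, W) := φ.toAlgebra
    haveI : IsLocalization.Away f₀ Γ(X, W) := hV.isLocalization_basicOpen f₀
    have hunit : IsUnit (φ (f₀ ^ (k + 1))) := by
      rw [map_pow]
      exact IsUnit.pow _ (IsLocalization.Away.algebraMap_isUnit f₀)
    have hspan : ∀ x ∈ Submodule.span Γ(X, V) (Set.range fun i => (m i).1),
        Groth.L18.Frame.rs F (X.basicOpen_le f₀) x ∈ Submodule.span Γ(X, W) (Set.range v) := by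
      intro x hx
      induction hx using Submodule.span_induction with
      | mem x hx => obtain ⟨i, rfl⟩ := hx; exact Submodule.subset_span ⟨i, rfl⟩
      | zero =>
        rw [show Groth.L18.Frame.rs F (X.basicOpen_le f₀) (0 : Γ(F, V)) = 0 from map_zero _]
        exact zero_mem _
      | add x z _ _ hx hz =>
        rw [show Groth.L18.Frame.rs F (X.basicOpen_le f₀) (x + z) = _ from map_add _ x z]
        exact add_mem hx hz
      | smul a x _ hx => rw [Groth.L18.Frame.rs_smul]; exact Submodule.smul_mem _ _ hx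
    have h2 : φ (f₀ ^ (k + 1)) • y = Groth.L18.Frame.rs F (X.basicOpen_le f₀) (f₀ • n) := by
      rw [Groth.L18.Frame.rs_smul, pow_succ', map_mul, mul_smul]
      exact congrArg (φ f₀ • ·) hk
    have h3 := Submodule.smul_mem _ (↑hunit.unit⁻¹ : Γ(X, W)) (hspan _ (hf₀ n))
    rwa [← h2, smul_smul, IsUnit.val_inv_mul, one_smul] at h3
  let bW : Module.Basis (Fin r) Γ(X, W) Γ(F, W) := Module.Basis.mk hli hsp
  obtain ⟨e⟩ := Groth.L15.CohFlat.exists_sectionsEquiv F hW
  haveI : (F.restrict hW.fromSpec).IsQuasicoherent := Scheme.Modules.isQuasicoherent_restrictFunctor _ F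
  haveI : IsIso (F.restrict hW.fromSpec).fromTildeΓ :=
    Scheme.Modules.isIso_fromTildeΓ_of_isQuasicoherent _
  let i₁ : F.restrict hW.fromSpec ≅ FlatMod.freeMod (Spec Γ(X, W)) r :=
    (asIso (F.restrict hW.fromSpec).fromTildeΓ).symm ≪≫ (tilde.functor Γ(X, W)).mapIso
      ((e.trans (bW.repr.trans (Finsupp.domLCongr Equiv.ulift.symm))).toModuleIso) ≪≫
      Groth.L19.PullChart.freeTildeIso Γ(X, W) r
  obtain ⟨i₂⟩ := Groth.L19.PullChart.exists_free_of_chart F hW.fromSpec i₁
  exact ⟨hW.fromSpec.opensRange, ⟨η, by rw [hW.opensRange_fromSpec]; exact hηW⟩, ⟨i₂⟩⟩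

end Groth.Agent.S8887
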