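import Groth.Statements.S8888
-- import your own Groth.Agent.* helpers here

import Groth.Agent.L00.StalkFunctor
import Groth.Agent.L19.SupportPullback

set_option autoImplicit false
universe u
open CategoryTheory CategoryTheory.Limits AlgebraicGeometry TopologicalSpace
open SDiv

namespace Groth.Agent.S8888

/-- Let f : X ⟶ Y be a dominant morphism of integral schemes and G a quasi-coherent O_Y-module. Then the
rank of f^*G on X, the dimension of its stalk at the generic point of X over the function field of
X, equals the rank of G on Y. -/
theorem result {X Y : Scheme.{u}} [IsIntegral X] [IsIntegral Y] (f : X ⟶ Y) [IsDominant f]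
    (G : Y.Modules) (hG : Coh.IsQCoh G) :
    Module.rank ↑(X.presheaf.stalk (genericPoint ↥X)) ↑(((Scheme.Modules.pullback f).obj G).presheaf.stalk (genericPoint ↥X)) =
      Module.rank ↑(Y.presheaf.stalk (genericPoint ↥Y)) ↑(G.presheaf.stalk (genericPoint ↥Y)) := by
  haveI := hG
  have hη : f (genericPoint X) = genericPoint Y := by
    have hcl : closure (Set.range f) ⊆ closure {f (genericPoint X)} :=
      closure_minimal (Set.range_subset_iff.2 fun x =>
        (((genericPoint_spec X).specializes trivial).map f.continuous).mem_closure) isClosed_closure
    rw [(f.denseRange).closure_eq] at hcl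
    exact ((specializes_iff_mem_closure.2 (hcl (Set.mem_univ (genericPoint Y)))).antisymm
      ((genericPoint_spec Y).specializes trivial)).eq
  set y := f (genericPoint X) with hy
  have hfree : ∀ z : Y, z = genericPoint Y → Module.Free (Y.presheaf.stalk z) (G.presheaf.stalk z) := by
    rintro z rfl
    letI : Field (Y.presheaf.stalk (genericPoint Y)) := inferInstanceAs (Field Y.functionField)
    exact Module.Free.of_divisionRing _ _
  have hrank : ∀ z : Y, z = genericPoint Y → Module.rank (Y.presheaf.stalk z) (G.presheaf.stalk z) =
      Module.rank (Y.presheaf.stalk (genericPoint Y)) (G.presheaf.stalk (genericPoint Y)) := by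
    rintro z rfl
    rfl
  haveI := hfree y hη
  letI : Algebra (Y.presheaf.stalk y) (X.presheaf.stalk (genericPoint X)) :=
    (f.stalkMap (genericPoint X)).hom.toAlgebra
  let e : ((Scheme.Modules.pullback f).obj G).presheaf.stalk (genericPoint X) ≃ₗ[X.presheaf.stalk (genericPoint X)]
      TensorProduct (Y.presheaf.stalk y) (X.presheaf.stalk (genericPoint X)) (G.presheaf.stalk y) :=
    ((Groth.L00.PullStalk.stalkIso f (genericPoint X)).app G).toLinearEquiv
  rw [e.rank_eq, Module.rank_baseChange, Cardinal.lift_id, hrank y hη]

end Groth.Agent.S8888
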