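import Groth.Statements.S8889
import Groth.Agent.L21.Mod.Stalks
import Groth.Agent.L15.WeakAss
-- import your own Groth.Agent.* helpers here

set_option autoImplicit false
universe u
open CategoryTheory CategoryTheory.Limits AlgebraicGeometry TopologicalSpace
open SDiv

namespace Groth.Agent.S8889

/-- Let X be a scheme and φ : F ⟶ G a morphism of quasi-coherent O_X-modules. Assume that for every
point x of X either the stalk map F_x → G_x is injective or x is not a weakly associated point of F.
Then φ is injective. -/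
theorem result (X : Scheme.{u}) {F G : X.Modules} (φ : F ⟶ G) (hF : Coh.IsQCoh F)
    (hG : Coh.IsQCoh G)
    (h : ∀ x : ↥X, Function.Injective ((TopCat.Presheaf.stalkFunctor AddCommGrpCat.{u} x).map (Scheme.Modules.Hom.mapPresheaf φ)) ∨ ¬ Curv2.IsWeakAssPoint F x) :
    Mono φ := by
  haveI := hF
  rw [Groth.L21.Mod.mono_iff_stalk_injective]
  intro x
  refine (injective_iff_map_eq_zero ((Groth.L21.Mod.stalkF X x).map φ).hom).2 fun c hc => ?_
  obtain ⟨U, hxU, s, rfl⟩ := F.presheaf.exists_germ_eq c
  change (TopCat.Presheaf.stalkFunctor AddCommGrpCat.{u} x).map (Scheme.Modules.Hom.mapPresheaf φ)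
    (F.presheaf.germ U x hxU s) = 0 at hc
  rw [TopCat.Presheaf.stalkFunctor_map_germ_apply] at hc
  obtain ⟨W, hxW, iU, iU', hW⟩ := G.presheaf.germ_eq x hxU hxU ((Scheme.Modules.Hom.mapPresheaf φ).app (Opposite.op U) s) 0
    (hc.trans (map_zero _).symm)
  obtain ⟨_, ⟨V, hV, rfl⟩, hxV, hVW⟩ := X.isBasis_affineOpens.exists_subset_of_mem_open hxW W.2
  replace hV : IsAffineOpen V := hV
  have hφ : (Scheme.Modules.Hom.mapPresheaf φ).app (Opposite.op V) (F.presheaf.map (homOfLE hVW ≫ iU).op s) = 0 := by
    refine (ConcreteCategory.congr_hom ((Scheme.Modules.Hom.mapPresheaf φ).naturality (homOfLE hVW ≫ iU).op) s).trans ?_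
    show G.presheaf.map (iU.op ≫ (homOfLE hVW).op) ((Scheme.Modules.Hom.mapPresheaf φ).app (Opposite.op U) s) = 0
    rw [Functor.map_comp, ConcreteCategory.comp_apply]
    exact (congrArg _ (hW.trans (map_zero _))).trans (map_zero _)
  have h0 : F.presheaf.map (homOfLE hVW ≫ iU).op s = 0 := by
    by_contra hne
    obtain ⟨z, hzV, hz, hzs⟩ := Groth.L15.WeakAss.exists_weakAss_germ_ne_zero F hV hne
    refine ((h z).resolve_right fun hn => hn hz) |> fun hi => hzs (hi ?_)
    erw [TopCat.Presheaf.stalkFunctor_map_germ_apply]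
    refine ((congrArg _ hφ).trans (map_zero _)).trans ?_
    exact (map_zero ((TopCat.Presheaf.stalkFunctor AddCommGrpCat.{u} z).map (Scheme.Modules.Hom.mapPresheaf φ)).hom).symm
  rw [← F.presheaf.germ_res_apply (homOfLE hVW ≫ iU) x hxV s]
  exact (congrArg _ h0).trans (map_zero _)

end Groth.Agent.S8889
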