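import Groth.Statements.S8891
import Groth.Agent.S8890

set_option autoImplicit false
universe u
open CategoryTheory CategoryTheory.Limits AlgebraicGeometry TopologicalSpace
open SDiv

namespace Groth.Agent.S8891

/-- Let X be an integral locally Noetherian scheme and φ : F ⟶ G a morphism of quasi-coherent
O_X-modules with F coherent and G torsion free. Assume that for every point x either the stalk map
F_x → G_x is an isomorphism, or depth(F_x) ≥ 2 and x is not the generic point of X. Then φ is an
isomorphism. (The published statement allows the second alternative at the generic point as well;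
since the zero module has infinite depth, F = 0 and G = O_X then satisfy every hypothesis while 0 →
O_X is not an isomorphism. The general criterion this is a special case of requires x not to be
associated to G, which for torsion-free G ≠ 0 fails exactly at the generic point; so the generic
point is excluded from the second alternative here.) -/
theorem result (X : Scheme.{u}) [IsIntegral X] [IsLocallyNoetherian X] {F G : X.Modules}
    (φ : F ⟶ G) (hF : Coh.IsCoh F) (hG : Coh.IsQCoh G)
    (htf : ∀ x : ↥X, NoZeroSMulDivisors ↑(X.presheaf.stalk x) ↑(G.presheaf.stalk x))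
    (h : ∀ x : ↥X, Function.Bijective ((TopCat.Presheaf.stalkFunctor AddCommGrpCat.{u} x).map (Scheme.Modules.Hom.mapPresheaf φ)) ∨
      ((2 : ℕ∞) ≤ LocCoh.depth (X.presheaf.stalk x) (F.presheaf.stalk x) ∧ x ≠ genericPoint ↥X)) :
    IsIso φ := by
  refine Groth.Agent.S8890.result X φ hF hG fun x => ?_
  rcases h x with hb | ⟨hd, hx⟩
  · exact Or.inl hb
  · refine Or.inr ⟨hd, ?_⟩
    rintro ⟨hp, m, hm⟩
    haveI := htf x
    refine hx ?_
    have hmax : IsLocalRing.maximalIdeal (X.presheaf.stalk x) = ⊥ := by
      refine eq_bot_iff.2 fun a ha => ?_
      obtain ⟨n, hn⟩ := hm.le ha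
      rw [Groth.L15.WeakAss.mem_colon] at hn
      rcases smul_eq_zero.1 hn with h0 | h0
      · exact (pow_eq_zero_iff'.1 h0).1
      · subst h0
        refine absurd (hm.trans ?_) hp.ne_top
        rw [Ideal.radical_eq_top, Ideal.eq_top_iff_one, Groth.L15.WeakAss.mem_colon, one_smul]
    obtain ⟨p, hp'⟩ : ∃ p, X.fromSpecStalk x p = genericPoint ↥X :=
      Scheme.range_fromSpecStalk.ge ((genericPoint_spec ↥X).specializes trivial)
    have h1 : p = IsLocalRing.closedPoint _ := PrimeSpectrum.ext (le_antisymm
      (IsLocalRing.le_maximalIdeal p.2.ne_top) (hmax.trans_le bot_le))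
    rw [h1, Scheme.fromSpecStalk_closedPoint] at hp'
    exact hp' 

end Groth.Agent.S8891
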