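import Groth.Statements.S8892
import Groth.Agent.L07.TransImm
import Groth.Agent.S8905
import Groth.Agent.S9273

set_option autoImplicit false
set_option linter.style.haveILetI false
universe u
open CategoryTheory CategoryTheory.Limits AlgebraicGeometry TopologicalSpace
open SDiv

namespace Groth.Agent.S8892

/-- Let f : X ⟶ S be a morphism of schemes and i : Z ⟶ X an H_1-regular (resp. quasi-regular) immersion
such that Z ⟶ S is flat. Then for every morphism g : S' ⟶ S the base change of i to X ×_S S' is an
H_1-regular (resp. quasi-regular) immersion, again flat over S'. -/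
theorem result {Z X S S' : Scheme.{u}} (f : X ⟶ S) (i : Z ⟶ X) (k : RegImm.Kind)
    (hk : k = RegImm.Kind.h1 ∨ k = RegImm.Kind.quasi) (hi : RegImm.IsRelRegularImmersion k f i) (g : S' ⟶ S) :
    RegImm.IsRelRegularImmersion k (pullback.snd f g) (pullback.snd i (pullback.fst f g)) := by
  obtain ⟨hreg, hflat⟩ := hi
  refine ⟨?_, ?_⟩
  · refine Groth.L07.TransImm.regularImmersion_baseChange k (IsPullback.of_hasPullback f g)
      (IsPullback.of_hasPullback i (pullback.fst f g)) hreg.1 fun z => ?_
    obtain ⟨U, V, hU, hV, e, -, hzU, hcl, rs, hrs, hker⟩ :=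
      Groth.L07.TransImm.exists_seqChart f i k hreg z ⊤ trivial
    refine ⟨U, hU, V, hV, e, hzU, hcl, rs, hker, fun A' _ φ => ?_⟩
    letI := (f.appLE V U e).hom.toAlgebra
    letI := φ.toAlgebra
    intro _
    have hquot : Module.Flat Γ(S, V) (Γ(X, U) ⧸ Ideal.span (Set.range rs.get)) := by
      have := Groth.L07.TransImm.flat_quot_ker f i hU hV e hcl
      rwa [hker, ← Groth.L07.H1Seq.span_range_get] at this
    rcases hk with rfl | rfl
    · show CAlgX.IsH1Regular (rs.map (Algebra.TensorProduct.includeRight
        (R := Γ(S, V)) (A := A') (B := Γ(X, U))).toRingHom).get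
      rw [Groth.L03.RegImmFlat.get_map_eq]
      exact Groth.L03.RegImmFlat.isH1Regular_cast (List.length_map _)
        (Groth.Agent.S9273.result Γ(S, V) Γ(X, U) A' rs.length rs.get hquot hrs)
    · show CAlgX.IsQuasiRegular (rs.map (Algebra.TensorProduct.includeRight
        (R := Γ(S, V)) (A := A') (B := Γ(X, U))).toRingHom).get
      rw [Groth.L03.RegImmFlat.get_map_eq]
      exact Groth.L03.RegImmFlat.isQuasiRegular_cast (List.length_map _)
        (Groth.L03.QuasiRegularBC.baseChange A' rs.get hquot hrs)
  · exact MorphismProperty.of_isPullback (P := @Flat)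
      ((IsPullback.of_hasPullback i (pullback.fst f g)).paste_vert (IsPullback.of_hasPullback f g)) hflat

end Groth.Agent.S8892
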