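import Groth.Statements.S8895
import Groth.Agent.L07.TransImm
import Groth.Agent.S8905
import Groth.Agent.S9273

set_option autoImplicit false
set_option linter.style.haveILetI false
universe u
open CategoryTheory CategoryTheory.Limits AlgebraicGeometry TopologicalSpace
open SDiv

namespace Groth.Agent.S8895

/-- Let f : X ⟶ S be locally of finite presentation and i : Z ⟶ X a relative H_1-regular immersion. Then
(1) there is an open subscheme U ⊆ X containing the image of Z such that U ⟶ S is flat, and (2) i is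
a regular immersion and remains one after any base change S' ⟶ S. -/
theorem result {Z X S : Scheme.{u}} (f : X ⟶ S) [LocallyOfFinitePresentation f] (i : Z ⟶ X)
    (hi : RegImm.IsRelRegularImmersion RegImm.Kind.h1 f i) :
    (∃ U : X.Opens, Set.range (fun z : ↥Z => i z) ⊆ (U : Set ↥X) ∧ Flat (U.ι ≫ f)) ∧
      RegImm.IsRegularImmersion RegImm.Kind.regular i ∧
      ∀ (S' : Scheme.{u}) (g : S' ⟶ S), RegImm.IsRegularImmersion RegImm.Kind.regular (pullback.snd i (pullback.fst f g)) := by
  have hflat : ∀ z : Z, (f.stalkMap (i z)).hom.Flat := fun z =>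
    Groth.L07.TransImm.flat_stalkMap_of_relH1 f i hi z
  have hq : RegImm.IsRelRegularImmersion RegImm.Kind.quasi f i :=
    ⟨(Groth.Agent.S8905.result i).2.2 hi.1, hi.2⟩
  have htr : RegImm.IsTransRegularImmersion f i :=
    ⟨hi.1.1, fun z => Groth.L07.TransImm.transAt_of_relQuasi f i hq z (hflat z)⟩
  refine ⟨?_, ⟨hi.1.1, fun z => Groth.L07.TransImm.regularAt_of_trans (htr.2 z)⟩, fun S' g => ?_⟩
  · let U : X.Opens := ⟨{x : X | (f.stalkMap x).hom.Flat}, Groth.L20.isOpen_flat_stalkMap f⟩
    refine ⟨U, fun _ ⟨z, hz⟩ => hz ▸ hflat z, ?_⟩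
    rw [Flat.iff_flat_stalkMap]
    intro x
    rw [Scheme.Hom.stalkMap_comp]
    exact RingHom.Flat.comp x.2 (RingHom.Flat.of_bijective (ConcreteCategory.bijective_of_isIso (U.ι.stalkMap x)))
  · exact Groth.L07.TransImm.regular_baseChange (IsPullback.of_hasPullback f g)
      (IsPullback.of_hasPullback i (pullback.fst f g)) htr

end Groth.Agent.S8895
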