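import Groth.Statements.S8896
import Groth.Agent.L07.TransImm
import Groth.Agent.S8905
import Groth.Agent.S9273

set_option autoImplicit false
set_option linter.style.haveILetI false
universe u
open CategoryTheory CategoryTheory.Limits AlgebraicGeometry TopologicalSpace
open SDiv

namespace Groth.Agent.S8896

/-- Let φ : X ⟶ S be flat and locally of finite presentation and 𝓘 a quasi-coherent ideal sheaf on X
whose closed subscheme T is flat and locally of finite presentation over S. If for every point s of
S the fibre T_s ⟶ X_s (base change of T ⟶ X to the scheme-theoretic fibre) is a quasi-regular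
immersion, then T ⟶ X is a relative quasi-regular immersion. -/
theorem result {X S : Scheme.{u}} (φ : X ⟶ S) [Flat φ] [LocallyOfFinitePresentation φ]
    (𝓘 : X.IdealSheafData) [Flat (𝓘.subschemeι ≫ φ)] [LocallyOfFinitePresentation (𝓘.subschemeι ≫ φ)]
    (hfib : ∀ s : ↥S, RegImm.IsRegularImmersion RegImm.Kind.quasi (pullback.snd 𝓘.subschemeι (φ.fiberι s))) :
    RegImm.IsRelRegularImmersion RegImm.Kind.quasi φ 𝓘.subschemeι := by
  have htr : ∀ z, RegImm.IsTransRegularImmersionAt φ 𝓘.subschemeι z := fun z =>
    Groth.L07.TransImm.transAt_of_fibre φ 𝓘.subschemeι z (Flat.stalkMap φ _)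
      (IsPullback.of_hasPullback 𝓘.subschemeι (φ.fiberι (φ (𝓘.subschemeι z)))) (hfib _)
  have hreg : RegImm.IsRegularImmersion RegImm.Kind.regular 𝓘.subschemeι :=
    ⟨inferInstance, fun z => Groth.L07.TransImm.regularAt_of_trans (htr z)⟩
  have h := Groth.Agent.S8905.result 𝓘.subschemeι
  exact ⟨h.2.2 (h.2.1 (h.1 hreg)), inferInstance⟩

end Groth.Agent.S8896
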