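
import Groth.Statements.S8898
import Groth.Agent.L22.BlowUp

set_option autoImplicit false
universe u
open CategoryTheory CategoryTheory.Limits AlgebraicGeometry TopologicalSpace
open SDiv

namespace Groth.Agent.S8898

/-- Let X be a scheme, 𝓘 a quasi-coherent ideal sheaf and b : X' ⟶ X a blowing up of X in 𝓘. Then the
pullback b⁻¹D is defined for every effective Cartier divisor D ⊆ X (the inverse image ideal of the
ideal of D is again the ideal of an effective Cartier divisor), and pullbacks of meromorphic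
functions are defined for b (b carries regular sections of O_X, i.e. sections whose germs are
nonzerodivisors, to regular sections of O_{X'}). -/
theorem result {X X' : Scheme.{u}} (𝓘 : X.IdealSheafData) (b : X' ⟶ X) (hb : BlowUp.IsBlowUp b 𝓘) :
    (∀ 𝓓 : X.IdealSheafData, BlowUp.IsEffCartierIdeal 𝓓 → BlowUp.IsEffCartierIdeal (𝓓.comap b)) ∧
      ∀ (U : X.Opens) (s : Γ(X, U)), s ∈ Mero.regSub X U → b.app U s ∈ Mero.regSub X' (b ⁻¹ᵁ U) := by
  refine ⟨fun 𝓓 h𝓓 => Groth.L22.Ideals.isEffCartier_comap hb h𝓓, fun U s hs x => ?_⟩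
  obtain ⟨_, ⟨V, hV, rfl⟩, hxV, hVU⟩ := X'.isBasis_affineOpens.exists_subset_of_mem_open
    (a := x.1) x.2 (b ⁻¹ᵁ U).2
  have hnzd : X'.presheaf.map (homOfLE (show V ≤ b ⁻¹ᵁ U from hVU)).op (b.app U s) ∈
      nonZeroDivisors Γ(X', V) := by
    rw [mem_nonZeroDivisors_iff_right]
    intro a ha
    refine Groth.L22.Ideals.eq_zero_of_eq_zero_off_exceptional hb (V := ⟨V, hV⟩) a
      fun y hy hyI => ?_
    haveI := Groth.L22.Ideals.isIso_stalkMap hb y hyI
    have hgerm : X'.presheaf.germ (b ⁻¹ᵁ U) y (hVU hy) (b.app U s) ∈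
        nonZeroDivisors (X'.presheaf.stalk y) := by
      have h1 : X'.presheaf.germ (b ⁻¹ᵁ U) y (hVU hy) (b.app U s) =
          b.stalkMap y (X.presheaf.germ U (b y) (hVU hy) s) := by
        rw [Scheme.Hom.germ_stalkMap_apply]
      rw [h1]
      have hreg := hs ⟨b y, hVU hy⟩
      rw [mem_nonZeroDivisors_iff_right] at hreg ⊢
      intro c hc
      let e := (asIso (b.stalkMap y)).commRingCatIsoToRingEquiv
      obtain ⟨c, rfl⟩ := e.surjective c
      change e c * e _ = 0 at hc
      rw [← map_mul, e.map_eq_zero_iff] at hc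
      rw [hreg c hc, map_zero]
    have h2 := congrArg (X'.presheaf.germ V y hy) ha
    rw [map_mul, map_zero, TopCat.Presheaf.germ_res_apply] at h2
    exact hgerm.2 _ h2
  have := Groth.L22.Mero.mem_regSub_of_mem_nonZeroDivisors hV hnzd ⟨x.1, hxV⟩
  rwa [TopCat.Presheaf.germ_res_apply] at this

end Groth.Agent.S8898
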