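import Groth.Statements.S8899
import Groth.Agent.L15.WeakAss
import Groth.Agent.L00.PullStalk
import Mathlib.RingTheory.Flat.Basic

set_option autoImplicit false
universe u
open CategoryTheory CategoryTheory.Limits AlgebraicGeometry TopologicalSpace
open SDiv

namespace Groth.Agent.S8899

open scoped TensorProduct
open IsLocalRing

theorem mem_map_of_smul_eq_zero {A B M : Type u} [CommRing A] [CommRing B] [Algebra A B] [Module.Flat A B]
    [AddCommGroup M] [Module A M] (m : M) (b : B) (h : b • ((1 : B) ⊗ₜ[A] m) = 0) :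
    b ∈ Ideal.map (algebraMap A B) (Submodule.colon (⊥ : Submodule A M) {m}) := by
  set I := Submodule.colon (⊥ : Submodule A M) {m}
  have hex : Function.Exact I.subtype (LinearMap.toSpanSingleton A M m) := by
    rw [LinearMap.exact_iff, Groth.L15.WeakAss.ker_toSpanSingleton, Submodule.range_subtype]
  have hex' := Module.Flat.lTensor_exact (M := B) hex
  have h0 : (LinearMap.toSpanSingleton A M m).lTensor B (b ⊗ₜ[A] (1 : A)) = 0 := by
    rw [LinearMap.lTensor_tmul, LinearMap.toSpanSingleton_apply, one_smul, ← h, TensorProduct.smul_tmul',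
      smul_eq_mul, mul_one]
  obtain ⟨z, hz⟩ := (hex' _).1 h0
  have h1 : ∀ z : B ⊗[A] I, TensorProduct.rid A B (I.subtype.lTensor B z) ∈
      Ideal.map (algebraMap A B) I := by
    intro z
    induction z using TensorProduct.induction_on with
    | zero => simp
    | tmul c a =>
      rw [LinearMap.lTensor_tmul, TensorProduct.rid_tmul, Algebra.smul_def]
      exact Ideal.mul_mem_right _ _ (Ideal.mem_map_of_mem _ a.2)
    | add u v hu hv => simp only [map_add]; exact add_mem hu hv
  have h2 := h1 z
  rwa [hz, TensorProduct.rid_tmul, one_smul] at h2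

theorem weakAss_extendScalars {A B M : Type u} [CommRing A] [CommRing B] [IsLocalRing A] [IsLocalRing B]
    [Algebra A B] [IsLocalHom (algebraMap A B)] [Module.Flat A B] [AddCommGroup M] [Module A M]
    (hgen : ∀ Q : Ideal B, Q.IsPrime → (maximalIdeal A).map (algebraMap A B) ≤ Q → Q = maximalIdeal B)
    (m : M) (hm : (Submodule.colon (⊥ : Submodule A M) {m}).radical = maximalIdeal A) :
    (Submodule.colon (⊥ : Submodule B (B ⊗[A] M)) {(1 : B) ⊗ₜ[A] m}).radical = maximalIdeal B := by
  refine le_antisymm ((maximalIdeal.isMaximal B).isPrime.radical_le_iff.2 fun b hb => ?_) ?_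
  · have h := mem_map_of_smul_eq_zero m b (Groth.L15.WeakAss.mem_colon.1 hb)
    refine Ideal.map_le_iff_le_comap.2 ?_ h
    exact (Ideal.le_radical.trans hm.le).trans
      (le_of_eq (((IsLocalRing.local_hom_TFAE (algebraMap A B)).out 0 4 rfl rfl).1 inferInstance).symm)
  · rw [Ideal.radical_eq_sInf, le_sInf_iff]
    rintro Q ⟨hQ, hQp⟩
    refine (hgen Q hQp (Ideal.map_le_iff_le_comap.2 ?_)).ge
    rw [← hm]
    refine (hQp.comap _).radical_le_iff.2 fun a ha => hQ ?_
    rw [Groth.L15.WeakAss.mem_colon, TensorProduct.smul_tmul', smul_eq_mul, mul_one]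
    rw [Algebra.algebraMap_eq_smul_one, TensorProduct.smul_tmul, Groth.L15.WeakAss.mem_colon.1 ha,
      TensorProduct.tmul_zero]


/-- Let f : X ⟶ S be a morphism of schemes, G a quasi-coherent O_S-module and x a point of X over s = f
x such that f is flat at x, no point of f⁻¹(s) other than x specialises to x (x is the generic point
of some irreducible component of the fibre X_s), and s is weakly associated to G. Then x is weakly
associated to f^*G. -/
theorem result {X S : Scheme.{u}} (f : X ⟶ S) (G : S.Modules) (hG : Coh.IsQCoh G)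
    (x : ↥X) (hfl : (f.stalkMap x).hom.Flat) (hgen : ∀ y : ↥X, f y = f x → y ⤳ x → y = x)
    (hs : Curv2.IsWeakAssPoint G (f x)) : Curv2.IsWeakAssPoint ((Scheme.Modules.pullback f).obj G) x := by
  obtain ⟨m, hm⟩ := (Groth.L15.WeakAss.isWeakAssPoint_iff G (f x)).1 hs
  letI : Algebra (S.presheaf.stalk (f x)) (X.presheaf.stalk x) := (f.stalkMap x).hom.toAlgebra
  haveI : Module.Flat (S.presheaf.stalk (f x)) (X.presheaf.stalk x) := hfl
  haveI : IsLocalHom (algebraMap (S.presheaf.stalk (f x)) (X.presheaf.stalk x)) :=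
    inferInstanceAs (IsLocalHom (f.stalkMap x).hom)
  have key := weakAss_extendScalars (B := X.presheaf.stalk x) (fun Q hQ hle => ?_) m hm
  · let e : ((Scheme.Modules.pullback f).obj G).presheaf.stalk x ≃ₗ[X.presheaf.stalk x]
        X.presheaf.stalk x ⊗[S.presheaf.stalk (f x)] G.presheaf.stalk (f x) :=
      ((Groth.L00.PullStalk.stalkIso f x).app G).toLinearEquiv
    refine (Groth.L15.WeakAss.isWeakAssPoint_iff _ x).2 ⟨e.symm (1 ⊗ₜ[S.presheaf.stalk (f x)] m), ?_⟩
    refine Eq.trans (congrArg Ideal.radical ?_) key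
    ext r
    rw [Groth.L15.WeakAss.mem_colon, Groth.L15.WeakAss.mem_colon, ← e.symm.map_smul, e.symm.map_eq_zero_iff]
  · haveI := hQ
    have h1 : Q.comap (f.stalkMap x).hom = maximalIdeal _ :=
      ((maximalIdeal.isMaximal _).eq_of_le (Ideal.comap_ne_top _ hQ.ne_top)
        (Ideal.map_le_iff_le_comap.1 hle)).symm
    let q : Spec (X.presheaf.stalk x) := ⟨Q, hQ⟩
    have h2 : Spec.map (f.stalkMap x) q = IsLocalRing.closedPoint _ := PrimeSpectrum.ext h1
    have h3 : f (X.fromSpecStalk x q) = f x := by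
      rw [← Scheme.Hom.comp_apply, ← Scheme.SpecMap_stalkMap_fromSpecStalk, Scheme.Hom.comp_apply, h2,
        Scheme.fromSpecStalk_closedPoint]
    have h4 : X.fromSpecStalk x q ⤳ x := Scheme.range_fromSpecStalk.le ⟨q, rfl⟩
    have h5 : X.fromSpecStalk x q = X.fromSpecStalk x (IsLocalRing.closedPoint _) :=
      (hgen _ h3 h4).trans Scheme.fromSpecStalk_closedPoint.symm
    exact congrArg PrimeSpectrum.asIdeal ((X.fromSpecStalk x).isEmbedding.injective h5)

end Groth.Agent.S8899
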