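import Groth.Statements.S9592
import Groth.Agent.L03.WeakAss
import Mathlib.RingTheory.IsTensorProduct
import Mathlib.RingTheory.AlgebraicIndependent.Transcendental
import Mathlib.RingTheory.QuasiFinite.Basic
import Mathlib.RingTheory.Ideal.GoingUp
import Mathlib.LinearAlgebra.Matrix.Block
import Mathlib.Data.Finsupp.Lex
import Mathlib.LinearAlgebra.Basis.VectorSpace
import Mathlib.FieldTheory.IntermediateField.Adjoin.Algebra
import Mathlib.LinearAlgebra.Matrix.Adjugate
import Mathlib.RingTheory.MvPolynomial.Basic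

set_option autoImplicit false
universe u
open CAlg

namespace Groth.Agent.S9592

open TensorProduct

section
variable {k K R : Type u} [Field k] [Field K] [Algebra k K] [CommRing R] [Algebra k R] {RK : Type u}
  [CommRing RK] [Algebra k RK] [Algebra K RK] [Algebra R RK] [IsScalarTower k K RK] [IsScalarTower k R RK]
  [Algebra.IsPushout k K R RK] {M MK : Type u} [AddCommGroup M] [Module R M] [AddCommGroup MK] [Module RK MK]
  [Module R MK] [IsScalarTower R RK MK] {f : M →ₗ[R] MK}

local notation "ι" => algebraMap K RK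

lemma hbase : IsBaseChange R (IsScalarTower.toAlgHom k K RK).toLinearMap :=
  (Algebra.IsPushout.symm (inferInstance : Algebra.IsPushout k K R RK)).out

/-- The map induced on `RK` by a `k`-linear map of `K`. -/
noncomputable def hatR (g : K →ₗ[k] K) : RK →ₗ[R] RK :=
  (hbase (k := k) (K := K) (R := R)).lift ((IsScalarTower.toAlgHom k K RK).toLinearMap ∘ₗ g)

lemma hatR_ι (g : K →ₗ[k] K) (μ : K) : hatR (R := R) g (ι μ) = (ι (g μ) : RK) :=
  (hbase (k := k) (K := K) (R := R)).lift_eq _ μ

include k in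
@[elab_as_elim]
lemma indR {P : RK → Prop} (x : RK) (h0 : P 0) (hι : ∀ μ, P (ι μ)) (hs : ∀ (r : R) x, P x → P (r • x))
    (ha : ∀ x y, P x → P y → P (x + y)) : P x :=
  (hbase (k := k) (K := K) (R := R) (RK := RK)).inductionOn x P h0 hι hs ha

lemma hatR_mul (g : K →ₗ[k] K) (l : K) (hg : ∀ μ, g (l * μ) = l * g μ) (x : RK) :
    hatR (R := R) g (ι l * x) = ι l * hatR (R := R) g x := by
  refine indR (k := k) (K := K) (R := R) x ?_ (fun μ => ?_) (fun r x hx => ?_) (fun x y hx hy => ?_)
  · simp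
  · rw [← map_mul, hatR_ι, hatR_ι, hg, map_mul]
  · rw [mul_smul_comm, map_smul, hx, map_smul, mul_smul_comm]
  · rw [mul_add, map_add, hx, hy, map_add, mul_add]

/-- The map induced on `MK` by a `k`-linear map of `K`. -/
noncomputable def hatM (hf : IsBaseChange RK f) (g : K →ₗ[k] K) : MK →ₗ[R] MK :=
  (hf.equiv.restrictScalars R).toLinearMap ∘ₗ LinearMap.rTensor M (hatR (R := R) g) ∘ₗ
    (hf.equiv.restrictScalars R).symm.toLinearMap

lemma hatM_smul (hf : IsBaseChange RK f) (g : K →ₗ[k] K) (s : RK) (m : M) :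
    hatM hf g (s • f m) = hatR (R := R) g s • f m := by
  show hf.equiv (LinearMap.rTensor M (hatR (R := R) g) (hf.equiv.symm (s • f m))) = _
  rw [← hf.equiv_tmul, LinearEquiv.symm_apply_apply, LinearMap.rTensor_tmul, hf.equiv_tmul]

@[elab_as_elim]
lemma indM (hf : IsBaseChange RK f) {P : MK → Prop} (y : MK) (h0 : P 0) (hsf : ∀ (s : RK) m, P (s • f m))
    (ha : ∀ x y, P x → P y → P (x + y)) : P y := by
  rw [← hf.equiv.apply_symm_apply y]
  induction hf.equiv.symm y using TensorProduct.induction_on with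
  | zero => rw [map_zero]; exact h0
  | tmul s m => rw [hf.equiv_tmul]; exact hsf s m
  | add a b iha ihb => rw [map_add]; exact ha _ _ iha ihb

lemma smul_comm' (r : R) (s : RK) (y : MK) : s • r • y = r • s • y := smul_comm s r y

variable (R RK) in
/-- The `R`-span of the constants in a subset of `K`. -/
def SR (L : Set K) : Submodule R RK := Submodule.span R ((algebraMap K RK) '' L)

variable (RK f) in
/-- The `R`-span in `MK` of `L • M`. -/
def SM (L : Set K) : Submodule R MK := Submodule.span R {y | ∃ l ∈ L, ∃ m, y = algebraMap K RK l • f m}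

lemma SM_mono {L L' : Set K} (h : L ⊆ L') : SM RK f L ≤ SM RK f L' :=
  Submodule.span_mono (by rintro y ⟨l, hl, e⟩; exact ⟨l, h hl, e⟩)

lemma SR_smul_SM {L : Set K} (hmul : ∀ a ∈ L, ∀ b ∈ L, a * b ∈ L) {a : RK} (ha : a ∈ SR R RK L)
    {y : MK} (hy : y ∈ SM RK f L) : a • y ∈ SM RK f L := by
  induction ha using Submodule.span_induction with
  | mem x hx =>
    obtain ⟨l, hl, rfl⟩ := hx
    induction hy using Submodule.span_induction with
    | mem x hx =>
      obtain ⟨l', hl', m, rfl⟩ := hx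
      rw [← mul_smul, ← map_mul]
      exact Submodule.subset_span ⟨_, hmul _ hl _ hl', m, rfl⟩
    | zero => simp
    | add x y _ _ hx hy => rw [smul_add]; exact add_mem hx hy
    | smul r x _ hx => rw [smul_comm' r]; exact Submodule.smul_mem _ r hx
  | zero => simp
  | add x y _ _ hx hy => rw [add_smul]; exact add_mem hx hy
  | smul r x _ hx => rw [smul_assoc]; exact Submodule.smul_mem _ r hx

lemma hatR_SR_mul {L : Set K} (g : K →ₗ[k] K) (hg : ∀ l ∈ L, ∀ μ, g (l * μ) = l * g μ) {a : RK}
    (ha : a ∈ SR R RK L) (x : RK) : hatR (R := R) g (a * x) = a * hatR (R := R) g x := by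
  induction ha using Submodule.span_induction with
  | mem y hy => obtain ⟨l, hl, rfl⟩ := hy; exact hatR_mul g l (hg l hl) x
  | zero => simp
  | add y z _ _ hy hz => rw [add_mul, map_add, hy, hz, add_mul]
  | smul r y _ hy => rw [smul_mul_assoc, map_smul, hy, smul_mul_assoc]

lemma hatM_SR_smul (hf : IsBaseChange RK f) {L : Set K} (g : K →ₗ[k] K)
    (hg : ∀ l ∈ L, ∀ μ, g (l * μ) = l * g μ) {a : RK} (ha : a ∈ SR R RK L) (y : MK) :
    hatM hf g (a • y) = a • hatM hf g y := by
  refine indM hf y ?_ (fun s m => ?_) (fun x y hx hy => ?_)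
  · simp
  · rw [← mul_smul, hatM_smul, hatM_smul, hatR_SR_mul g hg ha, mul_smul]
  · rw [smul_add, map_add, hx, hy, map_add, smul_add]

/-- For `y` with coefficients in `L`, `hatM` of `s • y` only sees `hatR s`. -/
lemma hatM_smul_SM (hf : IsBaseChange RK f) {L : Set K} (g : K →ₗ[k] K)
    (hg : ∀ l ∈ L, ∀ μ, g (l * μ) = l * g μ) (s : RK) {y : MK} (hy : y ∈ SM RK f L) :
    hatM hf g (s • y) = hatR (R := R) g s • y := by
  induction hy using Submodule.span_induction with
  | mem x hx =>
    obtain ⟨l, hl, m, rfl⟩ := hx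
    rw [← mul_smul, mul_comm, hatM_smul, hatR_mul g l (hg l hl), mul_comm, mul_smul]
  | zero => simp
  | add x y _ _ hx hy => rw [smul_add, map_add, hx, hy, smul_add]
  | smul r x _ hx => rw [smul_comm' r, map_smul, hx, smul_comm' r]

lemma f_injective (hf : IsBaseChange RK f) (k : Type u) [Field k] {K : Type u} [Field K] [Algebra k K]
    [Algebra k R] [Algebra k RK] [Algebra K RK] [IsScalarTower k K RK] [IsScalarTower k R RK]
    [Algebra.IsPushout k K R RK] : Function.Injective f := by
  obtain ⟨π, hπ⟩ := (Algebra.linearMap k K).exists_leftInverse_of_injective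
    (LinearMap.ker_eq_bot.mpr (algebraMap k K).injective)
  let ε : RK →ₗ[R] R := (hbase (k := k) (K := K) (R := R)).lift (Algebra.linearMap k R ∘ₗ π)
  have hε : ε 1 = 1 := by
    rw [← map_one (algebraMap K RK)]
    refine ((hbase (k := k) (K := K) (R := R)).lift_eq _ (1 : K)).trans ?_
    show algebraMap k R (π 1) = 1
    rw [← map_one (algebraMap k K), show π (algebraMap k K 1) = 1 from LinearMap.congr_fun hπ 1, map_one]
  intro a b hab
  have := congrArg (fun z => TensorProduct.lid R M (LinearMap.rTensor M ε z)) (congrArg hf.equiv.symm hab)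
  simpa [IsBaseChange.equiv_symm_apply, hε] using this

variable (L : IntermediateField k K)

/-- The coordinate functions of `K` over `L`, as `k`-linear maps. -/
noncomputable def coordL (i : Module.Basis.ofVectorSpaceIndex L K) : K →ₗ[k] K where
  toFun μ := ((Module.Basis.ofVectorSpace L K).repr μ i : L)
  map_add' a b := by simp
  map_smul' c a := by
    rw [← IsScalarTower.algebraMap_smul L c a, map_smul, Finsupp.smul_apply]
    simp [Algebra.smul_def]

lemma coordL_mul (i : Module.Basis.ofVectorSpaceIndex L K) :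
    ∀ l ∈ (L : Set K), ∀ μ, coordL L i (l * μ) = l * coordL L i μ := fun l hl μ => by
  show ((Module.Basis.ofVectorSpace L K).repr ((⟨l, hl⟩ : L) • μ) i : K) = _
  rw [map_smul, Finsupp.smul_apply]
  rfl

lemma decompR (s : RK) : ∃ T : Finset (Module.Basis.ofVectorSpaceIndex L K), ∀ T', T ⊆ T' →
    s = ∑ i ∈ T', ι (i : K) * hatR (R := R) (coordL L i) s := by
  classical
  refine indR (k := k) (K := K) (R := R) s ⟨∅, fun T' _ => by simp⟩ (fun μ => ?_) (fun r x hx => ?_) (fun x y hx hy => ?_)
  · refine ⟨((Module.Basis.ofVectorSpace L K).repr μ).support, fun T' hT' => ?_⟩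
    simp only [hatR_ι, ← map_mul, ← map_sum]
    congr 1
    conv_lhs => rw [← (Module.Basis.ofVectorSpace L K).linearCombination_repr μ,
      Finsupp.linearCombination_apply, Finsupp.sum_of_support_subset _ hT' _ (by simp)]
    refine Finset.sum_congr rfl fun i _ => ?_
    rw [Module.Basis.ofVectorSpace_apply_self, mul_comm]
    rfl
  · obtain ⟨T, hT⟩ := hx
    refine ⟨T, fun T' h => ?_⟩
    conv_lhs => rw [hT T' h, Finset.smul_sum]
    exact Finset.sum_congr rfl fun i _ => by rw [map_smul, mul_smul_comm]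
  · obtain ⟨T, hT⟩ := hx; obtain ⟨U, hU⟩ := hy
    refine ⟨T ∪ U, fun T' h => ?_⟩
    conv_lhs => rw [hT T' (Finset.union_subset_left h), hU T' (Finset.union_subset_right h), ← Finset.sum_add_distrib]
    exact Finset.sum_congr rfl fun i _ => by rw [map_add, mul_add]

lemma decompM (hf : IsBaseChange RK f) (y : MK) : ∃ T : Finset (Module.Basis.ofVectorSpaceIndex L K), ∀ T', T ⊆ T' →
    y = ∑ i ∈ T', ι (i : K) • hatM hf (coordL L i) y := by
  classical
  refine indM hf y ⟨∅, fun T' _ => by simp⟩ (fun s m => ?_) (fun x y hx hy => ?_)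
  · obtain ⟨T, hT⟩ := decompR (R := R) L s
    refine ⟨T, fun T' h => ?_⟩
    conv_lhs => rw [hT T' h, Finset.sum_smul]
    exact Finset.sum_congr rfl fun i _ => by rw [hatM_smul, mul_smul]
  · obtain ⟨T, hT⟩ := hx; obtain ⟨U, hU⟩ := hy
    refine ⟨T ∪ U, fun T' h => ?_⟩
    conv_lhs => rw [hT T' (Finset.union_subset_left h), hU T' (Finset.union_subset_right h), ← Finset.sum_add_distrib]
    exact Finset.sum_congr rfl fun i _ => by rw [map_add, smul_add]

lemma coordR_mem (i : Module.Basis.ofVectorSpaceIndex L K) (s : RK) :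
    hatR (R := R) (coordL L i) s ∈ SR R RK (L : Set K) := by
  refine indR (k := k) (K := K) (R := R) s (by simp) (fun μ => ?_) (fun r x hx => ?_) (fun x y hx hy => ?_)
  · rw [hatR_ι]; exact Submodule.subset_span ⟨_, SetLike.coe_mem _, rfl⟩
  · rw [map_smul]; exact Submodule.smul_mem _ r hx
  · rw [map_add]; exact add_mem hx hy

lemma coordM_mem (hf : IsBaseChange RK f) (i : Module.Basis.ofVectorSpaceIndex L K) (y : MK) :
    hatM hf (coordL L i) y ∈ SM RK f (L : Set K) := by
  refine indM hf y (by simp) (fun s m => ?_) (fun x y hx hy => ?_)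
  · rw [hatM_smul]
    refine SR_smul_SM (fun a ha b hb => L.mul_mem ha hb) (coordR_mem L i s) ?_
    have : ι (1 : K) • f m ∈ SM RK f (L : Set K) := Submodule.subset_span ⟨1, L.one_mem, m, rfl⟩
    rwa [map_one, one_smul] at this
  · rw [map_add]; exact add_mem hx hy

variable (q : Ideal RK)

/-- `q` is minimal over the annihilator of `z`, seen inside `A`. -/
def W (A : Set RK) (z : MK) : Prop :=
  (∀ a ∈ A, a • z = 0 → a ∈ q) ∧ ∀ a ∈ A, a ∈ q → ∃ s ∈ A, s ∉ q ∧ ∃ n : ℕ, (s * a ^ n) • z = 0

/-- Passing to the coefficients over `L`. -/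
lemma W_split [q.IsPrime] (hf : IsBaseChange RK f) {y : MK} (h : W q (SR R RK (L : Set K) : Set RK) y)
    (hmul : ∀ a ∈ SR R RK (L : Set K), ∀ b ∈ SR R RK (L : Set K), a * b ∈ SR R RK (L : Set K))
    (hone : (1 : RK) ∈ SR R RK (L : Set K)) :
    ∃ y' ∈ SM RK f (L : Set K), W q (SR R RK (L : Set K) : Set RK) y' := by
  classical
  obtain ⟨T, hT⟩ := decompM L hf y
  have hpow : ∀ a ∈ SR R RK (L : Set K), ∀ n : ℕ, a ^ n ∈ SR R RK (L : Set K) := fun a ha n => by
    induction n with
    | zero => rwa [pow_zero]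
    | succ n ih => rw [pow_succ]; exact hmul _ ih _ ha
  have hzero : ∀ a ∈ SR R RK (L : Set K), a • y = 0 → ∀ i, a • hatM hf (coordL L i) y = 0 := fun a ha h0 i => by
    rw [← hatM_SR_smul hf _ (coordL_mul L i) ha, h0, map_zero]
  by_contra! hc
  have hi : ∀ i, ∃ a ∈ SR R RK (L : Set K), a • hatM hf (coordL L i) y = 0 ∧ a ∉ q := fun i => by
    by_contra! h'
    exact hc _ (coordM_mem L hf i y) ⟨fun a ha h0 => h' a ha h0, fun a ha haq => by
      obtain ⟨s, hs, hsq, n, hn⟩ := h.2 a ha haq
      exact ⟨s, hs, hsq, n, hzero _ (hmul _ hs _ (hpow a ha n)) hn i⟩⟩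
  choose a ha ha0 haq using hi
  have hprod : ∏ i ∈ T, a i ∈ SR R RK (L : Set K) :=
    Finset.prod_induction _ (· ∈ SR R RK (L : Set K)) (fun x y hx hy => hmul x hx y hy) hone fun i _ => ha i
  refine absurd (h.1 _ hprod ?_) (fun hq => ?_)
  · rw [hT T subset_rfl, Finset.smul_sum]
    refine Finset.sum_eq_zero fun i hi => ?_
    rw [smul_comm, ← Finset.prod_erase_mul T a hi, mul_smul, ha0, smul_zero, smul_zero]
  · obtain ⟨i, -, hi⟩ := (‹q.IsPrime›.prod_mem_iff).mp hq
    exact haq i hi

/-- Descending the scalars to `L`. -/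
lemma W_desc (hf : IsBaseChange RK f) {A : Set RK} (hA : (SR R RK (L : Set K) : Set RK) ⊆ A) {y : MK}
    (hy : y ∈ SM RK f (L : Set K)) (h : W q A y)
    (hmul : ∀ a ∈ SR R RK (L : Set K), ∀ b ∈ SR R RK (L : Set K), a * b ∈ SR R RK (L : Set K))
    (hone : (1 : RK) ∈ SR R RK (L : Set K)) :
    W q (SR R RK (L : Set K) : Set RK) y := by
  refine ⟨fun a ha => h.1 a (hA ha), fun a ha haq => ?_⟩
  obtain ⟨s, -, hsq, n, hn⟩ := h.2 a (hA ha) haq
  have hpow : a ^ n ∈ SR R RK (L : Set K) := by
    clear hn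
    induction n with
    | zero => rwa [pow_zero]
    | succ n ih => rw [pow_succ]; exact hmul _ ih _ ha
  obtain ⟨T, hT⟩ := decompR (R := R) L s
  obtain ⟨i, hi⟩ : ∃ i, hatR (R := R) (coordL L i) s ∉ q := by
    by_contra! hall
    exact hsq (hT T subset_rfl ▸ q.sum_mem fun i _ => q.mul_mem_left _ (hall i))
  refine ⟨_, coordR_mem L i s, hi, n, ?_⟩
  rw [mul_smul, ← hatM_smul_SM hf _ (coordL_mul L i) s (SR_smul_SM (fun a ha b hb => L.mul_mem ha hb) hpow hy),
    ← mul_smul, hn, map_zero]

end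

/-- A polynomial with a coefficient outside a prime `p` killing a polynomial with module coefficients:
some element outside `p` kills all the coefficients. -/
lemma mcCoy {R M : Type*} [CommRing R] [AddCommGroup M] [Module R M] {r : ℕ} (p : Ideal R) [p.IsPrime]
    (g : MvPolynomial (Fin r) R) (z : (Fin r →₀ ℕ) →₀ M) (hg : ∃ i, g.coeff i ∉ p)
    (h : ∀ γ, ∑ α ∈ z.support, (if α ≤ γ then g.coeff (γ - α) else 0) • z α = 0) :
    ∃ u ∉ p, ∀ α, u • z α = 0 := by
  classical
  let S : Finset (Lex (Fin r →₀ ℕ)) := (g.support.filter fun i => g.coeff i ∉ p).image toLex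
  have hS : S.Nonempty := by
    obtain ⟨i, hi⟩ := hg
    exact ⟨toLex i, Finset.mem_image_of_mem _ (Finset.mem_filter.mpr ⟨MvPolynomial.mem_support_iff.mpr fun h0 => hi (by rw [h0]; exact p.zero_mem), hi⟩)⟩
  obtain ⟨i, hi, hiS⟩ := Finset.mem_image.mp (S.max'_mem hS)
  have hi2 : g.coeff i ∉ p := (Finset.mem_filter.mp hi).2
  have hhigh : ∀ j, toLex i < toLex j → g.coeff j ∈ p := fun j hj => by
    by_contra hjp
    have hjS : toLex j ∈ S := Finset.mem_image_of_mem _ (Finset.mem_filter.mpr ⟨MvPolynomial.mem_support_iff.mpr fun h0 => hjp (by rw [h0]; exact p.zero_mem), hjp⟩)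
    exact absurd (S.le_max' _ hjS) (not_le.mpr (hiS ▸ hj))
  let T : Matrix z.support z.support R := fun n j => if (j : Fin r →₀ ℕ) ≤ i + (n : Fin r →₀ ℕ) then g.coeff (i + (n : Fin r →₀ ℕ) - (j : Fin r →₀ ℕ)) else 0
  have hdet : T.det ∉ p := by
    rw [← Ideal.Quotient.eq_zero_iff_mem, RingHom.map_det]
    have htri : Matrix.BlockTriangular ((Ideal.Quotient.mk p).mapMatrix T)
        (fun n : z.support => toLex (n : Fin r →₀ ℕ)) := by
      intro n j hlt
      have hlt' : toLex (j : Fin r →₀ ℕ) < toLex (n : Fin r →₀ ℕ) := hlt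
      show Ideal.Quotient.mk p (T n j) = 0
      rw [Ideal.Quotient.eq_zero_iff_mem]
      show (if (j : Fin r →₀ ℕ) ≤ i + (n : Fin r →₀ ℕ) then g.coeff (i + (n : Fin r →₀ ℕ) - (j : Fin r →₀ ℕ)) else 0) ∈ p
      split_ifs with hle
      · refine hhigh _ ?_
        have heq : i + (n : Fin r →₀ ℕ) - j + j = i + n := tsub_add_cancel_of_le hle
        refine lt_of_add_lt_add_right (a := toLex (j : Fin r →₀ ℕ)) ?_
        rw [← toLex_add, ← toLex_add, heq, toLex_add, toLex_add]
        exact add_lt_add_right hlt' _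
      · exact p.zero_mem
    have hb : Function.Injective (fun n : z.support => toLex (n : Fin r →₀ ℕ)) := fun a b e =>
      Subtype.ext (toLex.injective e)
    letI : LinearOrder z.support := LinearOrder.lift' _ hb
    rw [Matrix.det_of_isUpperTriangular (fun n j hlt => htri hlt), Finset.prod_eq_zero_iff]
    rintro ⟨n, -, hn⟩
    apply hi2
    rw [← Ideal.Quotient.eq_zero_iff_mem]
    simpa [T] using hn
  refine ⟨T.det, hdet, fun α => ?_⟩
  by_cases hα : α ∈ z.support
  · have hTz : ∀ n, ∑ j : z.support, T n j • z (j : Fin r →₀ ℕ) = 0 := fun n => by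
      have := h (i + (n : Fin r →₀ ℕ))
      rwa [← Finset.sum_coe_sort] at this
    calc T.det • z α = ∑ j : z.support, (T.adjugate * T) ⟨α, hα⟩ j • z (j : Fin r →₀ ℕ) := by
          rw [Matrix.adjugate_mul, Finset.sum_eq_single ⟨α, hα⟩]
          · simp
          · intro b _ hb; simp [Matrix.one_apply_ne (Ne.symm hb)]
          · simp
      _ = ∑ n : z.support, T.adjugate ⟨α, hα⟩ n • ∑ j : z.support, T n j • z (j : Fin r →₀ ℕ) := by
          simp only [Matrix.mul_apply, Finset.sum_smul, Finset.smul_sum, smul_smul]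
          exact Finset.sum_comm
      _ = 0 := Finset.sum_eq_zero fun n _ => by rw [hTz, smul_zero]
  · rw [Finsupp.notMem_support_iff.mp hα, smul_zero]


/-- Let K/k be a field extension, R a k-algebra and M an R-module; let R_K = R ⊗_k K (any pushout of k →
K along k → R) and let M_K be the base change of M to R_K. If a prime q of R_K is weakly associated
to M_K, then its inverse image in R is weakly associated to M. -/
theorem result {k K R : Type u} [Field k] [Field K] [Algebra k K] [CommRing R] [Algebra k R] (RK : Type u) [CommRing RK] [Algebra k RK] [Algebra K RK] [Algebra R RK] [IsScalarTower k K RK] [IsScalarTower k R RK] [Algebra.IsPushout k K R RK] (M : Type u) [AddCommGroup M] [Module R M] (MK : Type u) [AddCommGroup MK] [Module RK MK] [Module R MK] [IsScalarTower R RK MK] (f : M →ₗ[R] MK) (hf : IsBaseChange RK f) (q : Ideal RK) [q.IsPrime] (hq : q ∈ FlatCA.weakAss RK MK) :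
    q.comap (algebraMap R RK) ∈ FlatCA.weakAss R M := by
  classical
  obtain ⟨z, hz⟩ := hq
  obtain ⟨-, hle, hmin⟩ := Groth.L03.WeakAss.minimalPrimes_iff.1 hz
  have W0 : W q (Set.univ : Set RK) z := ⟨fun a _ ha => hle (Groth.L03.WeakAss.mem_annE.2 ha), fun a _ ha => by
    obtain ⟨s, hs, n, hn⟩ := hmin a ha
    exact ⟨s, trivial, hs, n, Groth.L03.WeakAss.mem_annE.1 hn⟩⟩
  -- finitely many constants
  obtain ⟨lam, hlam⟩ : ∃ lam : Finset K, z ∈ SM RK f (lam : Set K) := by
    have hU : ∀ (a b : Finset K) (x y : MK), x ∈ SM RK f (a : Set K) → y ∈ SM RK f (b : Set K) →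
        x + y ∈ SM RK f ((a ∪ b : Finset K) : Set K) := fun a b x y ha hb =>
      add_mem (SM_mono (Finset.coe_subset.mpr Finset.subset_union_left) ha)
        (SM_mono (Finset.coe_subset.mpr Finset.subset_union_right) hb)
    refine indM hf z ⟨∅, Submodule.zero_mem _⟩ (fun s m => ?_) (fun x y ⟨a, ha⟩ ⟨b, hb⟩ => ⟨a ∪ b, hU a b x y ha hb⟩)
    refine indR (k := k) (K := K) (R := R) (P := fun s => ∃ lam : Finset K, s • f m ∈ SM RK f (lam : Set K)) s
      ⟨∅, by rw [zero_smul]; exact Submodule.zero_mem _⟩ (fun μ => ⟨{μ}, Submodule.subset_span ⟨μ, by simp, m, rfl⟩⟩)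
      (fun r x ⟨a, ha⟩ => ⟨a, by rw [smul_assoc]; exact Submodule.smul_mem _ r ha⟩)
      (fun x y ⟨a, ha⟩ ⟨b, hb⟩ => ⟨a ∪ b, by rw [add_smul]; exact hU a b _ _ ha hb⟩)
  have hSR : ∀ L : IntermediateField k K,
      (Algebra.adjoin R (algebraMap K RK '' (L : Set K))).toSubmodule = SR R RK (L : Set K) := fun L =>
    Algebra.adjoin_eq_span_of_subset R (fun x hx => Submodule.subset_span (by
      induction hx using Submonoid.closure_induction with
      | mem x hx => exact hx
      | one => exact ⟨1, L.one_mem, map_one _⟩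
      | mul a b _ _ ha hb =>
        obtain ⟨l, hl, rfl⟩ := ha; obtain ⟨l', hl', rfl⟩ := hb
        exact ⟨l * l', L.mul_mem hl hl', map_mul _ _ _⟩))
  have hmem : ∀ (L : IntermediateField k K) (a : RK), a ∈ SR R RK (L : Set K) ↔ a ∈ Algebra.adjoin R (algebraMap K RK '' (L : Set K)) := fun L a => by
    rw [← hSR L]; rfl
  have hmulL : ∀ (L : IntermediateField k K), ∀ a ∈ SR R RK (L : Set K), ∀ b ∈ SR R RK (L : Set K), a * b ∈ SR R RK (L : Set K) :=
    fun L a ha b hb => (hmem L _).2 (mul_mem ((hmem L _).1 ha) ((hmem L _).1 hb))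
  have honeL : ∀ (L : IntermediateField k K), (1 : RK) ∈ SR R RK (L : Set K) := fun L => (hmem L _).2 (one_mem _)
  set K0 := IntermediateField.adjoin k (lam : Set K) with hK0
  have hz0 : z ∈ SM RK f (K0 : Set K) :=
    SM_mono (IntermediateField.subset_adjoin k _) hlam
  have W1 := W_desc K0 q hf (Set.subset_univ _) hz0 W0 (hmulL K0) (honeL K0)
  -- a maximal algebraically independent subfamily
  obtain ⟨b, hbmem, hbmax⟩ := (lam.powerset.filter fun s : Finset K => AlgebraicIndepOn k id (s : Set K)).exists_maximal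
    ⟨∅, by simp [AlgebraicIndepOn, (algebraMap k K).injective]⟩
  simp only [Finset.mem_filter, Finset.mem_powerset] at hbmem hbmax
  set F := IntermediateField.adjoin k (b : Set K) with hF
  have halgF : ∀ l ∈ lam, IsIntegral F l := by
    intro l hl
    by_cases hlb : l ∈ b
    · exact isIntegral_algebraMap (x := (⟨l, IntermediateField.subset_adjoin k _ hlb⟩ : F))
    · refine IsAlgebraic.isIntegral ?_
      by_contra htr
      have htr' : Transcendental (Algebra.adjoin k (id '' (b : Set K))) (id l) := by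
        rw [Set.image_id]
        intro hal
        let := (Subalgebra.inclusion (IntermediateField.algebra_adjoin_le_adjoin k (b : Set K))).toRingHom.toAlgebra
        have : IsScalarTower (Algebra.adjoin k (b : Set K)) F K := IsScalarTower.of_algebraMap_eq fun _ => rfl
        exact htr (hal.extendScalars (Subalgebra.inclusion_injective _))
      have hins := AlgebraicIndepOn.insert hbmem.2 htr'
      have := hbmax (y := insert l b) ⟨Finset.insert_subset hl hbmem.1, by rw [Finset.coe_insert]; exact hins⟩ (Finset.subset_insert _ _)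
      exact hlb (this (Finset.mem_insert_self l b))
  -- the finite step
  let A := Algebra.adjoin R (algebraMap K RK '' (F : Set K))
  let B := Algebra.adjoin A (algebraMap K RK '' (lam : Set K))
  have hAF : ∀ a : RK, a ∈ A ↔ a ∈ SR R RK (F : Set K) := fun a => (hmem F a).symm
  have hAint : ∀ x ∈ algebraMap K RK '' (lam : Set K), IsIntegral A x := by
    rintro _ ⟨l, hl, rfl⟩
    obtain ⟨P, hP, hP0⟩ := halgF l hl
    let φ : F →+* A := ((algebraMap K RK).comp F.subtype).codRestrict A fun x => Algebra.subset_adjoin ⟨x, x.2, rfl⟩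
    refine ⟨P.map φ, hP.map φ, ?_⟩
    rw [Polynomial.eval₂_map, show (algebraMap A RK).comp φ = (algebraMap K RK).comp (algebraMap F K) from RingHom.ext fun _ => rfl,
      ← Polynomial.hom_eval₂, hP0, map_zero]
  have : Module.Finite A B := Module.Finite.iff_fg.mpr (fg_adjoin_of_finite ((lam.finite_toSet).image _) hAint)
  have hK0B : ∀ a ∈ SR R RK (K0 : Set K), a ∈ B := by
    intro a ha
    induction ha using Submodule.span_induction with
    | mem x hx =>
      obtain ⟨l, hl, rfl⟩ := hx
      have hl' : l ∈ Algebra.adjoin F (lam : Set K) := by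
        rw [← IntermediateField.adjoin_toSubalgebra_of_isAlgebraic (fun x hx => (halgF x hx).isAlgebraic)]
        exact (IntermediateField.adjoin_le_iff.mpr (IntermediateField.subset_adjoin F (lam : Set K)) :
          K0 ≤ (IntermediateField.adjoin F (lam : Set K)).restrictScalars k) hl
      clear hl
      induction hl' using Algebra.adjoin_induction with
      | mem x hx => exact Algebra.subset_adjoin ⟨x, hx, rfl⟩
      | algebraMap x => exact B.algebraMap_mem ⟨algebraMap K RK x, Algebra.subset_adjoin ⟨_, x.2, rfl⟩⟩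
      | add x y hx hy ihx ihy => rw [map_add]; exact add_mem ihx ihy
      | mul x y hx hy ihx ihy => rw [map_mul]; exact mul_mem ihx ihy
    | zero => exact zero_mem _
    | add x y _ _ hx hy => exact add_mem hx hy
    | smul r x _ hx =>
      rw [Algebra.smul_def]
      exact mul_mem (B.algebraMap_mem ⟨algebraMap R RK r, A.algebraMap_mem r⟩) hx
  have hFK0 : F ≤ K0 := IntermediateField.adjoin.mono k _ _ (Finset.coe_subset.mpr hbmem.1)
  have hBK0 : ∀ a ∈ B, a ∈ SR R RK (K0 : Set K) := by
    intro a ha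
    induction ha using Algebra.adjoin_induction with
    | mem x hx => obtain ⟨l, hl, rfl⟩ := hx; exact Submodule.subset_span ⟨l, IntermediateField.subset_adjoin k _ hl, rfl⟩
    | algebraMap x => exact Submodule.span_mono (Set.image_mono hFK0) ((hAF _).1 x.2)
    | add x y _ _ hx hy => exact add_mem hx hy
    | mul x y _ _ hx hy => exact hmulL K0 _ hx _ hy
  set qA : Ideal A := q.comap (algebraMap A RK)
  have : qA.IsPrime := Ideal.IsPrime.comap _
  set qB : Ideal B := q.comap (algebraMap B RK)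
  have hfin : (qA.primesOver B).Finite := Algebra.QuasiFinite.finite_primesOver qA
  have hQ : ∀ Q ∈ qA.primesOver B, Q ≠ qB → ∃ t : B, (t : RK) ∉ q ∧ ∃ g : B, g ∉ Q ∧ ∃ n : ℕ, ((t : RK) * (g : RK) ^ n) • z = 0 := by
    intro Q hQ hne
    have := hQ.1
    have := hQ.2
    have hnle : ¬ qB ≤ Q := fun hle => by
      have : qB.IsPrime := Ideal.IsPrime.comap _
      have hlt := Ideal.IsIntegral.comap_lt_comap (R := A) (I := qB) (J := Q) (lt_of_le_of_ne hle (Ne.symm hne))
      have h1 : qB.comap (algebraMap A B) = qA := by rw [Ideal.comap_comap]; rfl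
      have h2 : Q.comap (algebraMap A B) = qA := (Ideal.over_def Q qA).symm
      exact absurd (h1 ▸ h2 ▸ hlt) (lt_irrefl _)
    obtain ⟨g, hg, hgQ⟩ := Set.not_subset.mp hnle
    obtain ⟨s, hs, hsq, n, hn⟩ := W1.2 (g : RK) (hBK0 _ g.2) hg
    exact ⟨⟨s, hK0B s hs⟩, hsq, g, hgQ, n, hn⟩
  choose! t ht g hg n hn using hQ
  let t' : B := ∏ Q ∈ hfin.toFinset.erase qB, t Q
  have ht' : (t' : RK) ∉ q := fun h => by
    obtain ⟨Q, hQm, hQq⟩ := ((Ideal.IsPrime.comap (algebraMap B RK) : qB.IsPrime).prod_mem_iff).mp (show t' ∈ qB from h)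
    rw [Finset.mem_erase, Set.Finite.mem_toFinset] at hQm
    exact ht Q hQm.2 hQm.1 hQq
  have W2 : W q (SR R RK (F : Set K) : Set RK) ((t' : RK) • z) := by
    refine ⟨fun a ha h0 => ?_, fun a ha haq => ?_⟩
    · rw [← mul_smul] at h0
      have := W1.1 _ (hmulL K0 _ (Submodule.span_mono (Set.image_mono hFK0) ha) _ (hBK0 _ t'.2)) h0
      exact ((Ideal.IsPrime.mem_or_mem inferInstance this).resolve_right ht')
    · let a' : A := ⟨a, (hAF a).2 ha⟩
      let L : Ideal B :=
        { carrier := {x | ∃ m : ℕ, ((x : RK) * a ^ m) • (t' : RK) • z = 0}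
          zero_mem' := ⟨0, by simp⟩
          add_mem' := by
            rintro x y ⟨m, hm⟩ ⟨m', hm'⟩
            refine ⟨m + m', ?_⟩
            have e1 : (((x + y : B) : RK) * a ^ (m + m')) = a ^ m' * ((x : RK) * a ^ m) + a ^ m * ((y : RK) * a ^ m') := by
              push_cast; ring
            rw [e1, add_smul, mul_smul, mul_smul (a ^ m), hm, hm', smul_zero, smul_zero, add_zero]
          smul_mem' := by
            rintro c x ⟨m, hm⟩
            refine ⟨m, ?_⟩
            rw [show ((c • x : B) : RK) * a ^ m = (c : RK) * ((x : RK) * a ^ m) by rw [smul_eq_mul, MulMemClass.coe_mul, mul_assoc], mul_smul, hm, smul_zero] }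
      by_contra! hcon
      have hLA : L.comap (algebraMap A B) ≤ qA := by
        intro x hx
        by_contra hxq
        obtain ⟨m, hm⟩ := hx
        exact hcon (x : RK) ((hAF _).1 x.2) hxq m hm
      obtain ⟨Q, hLQ, hQp, hQover⟩ := Ideal.exists_ideal_over_prime_of_isIntegral qA L hLA
      have hQmem : Q ∈ qA.primesOver B := ⟨hQp, ⟨hQover.symm⟩⟩
      by_cases hQq : Q = qB
      · obtain ⟨s, hs, hsq, m, hm⟩ := W1.2 a (Submodule.span_mono (Set.image_mono hFK0) ha) haq
        have : (⟨s, hK0B s hs⟩ : B) ∈ L := ⟨m, by rw [smul_comm, hm, smul_zero]⟩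
        exact hsq (show (⟨s, hK0B s hs⟩ : B) ∈ qB from hQq ▸ hLQ this)
      · have : g Q ^ n Q ∈ L := ⟨0, by
          have hdvd : t Q ∣ t' := Finset.dvd_prod_of_mem t (by simp [hQq, hQmem])
          obtain ⟨c, hc⟩ := hdvd
          rw [pow_zero, mul_one, ← mul_smul, hc, show ((g Q ^ n Q : B) : RK) * ((t Q * c : B) : RK) = (c : RK) * ((t Q : RK) * (g Q : RK) ^ n Q) by push_cast; ring,
            mul_smul, hn Q hQmem hQq, smul_zero]⟩
        exact hg Q hQmem hQq (hQp.mem_of_pow_mem _ (hLQ this))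
  obtain ⟨y, hyF, W3⟩ := W_split F q hf W2 (hmulL F) (honeL F)
  -- clearing denominators
  let r := b.card
  let e : Fin r → K := fun i => (b.equivFin.symm i : K)
  have he : AlgebraicIndependent k e := hbmem.2.comp b.equivFin.symm b.equivFin.symm.injective
  have hrange : Set.range e = (b : Set K) := by
    ext x; exact ⟨fun ⟨i, hi⟩ => hi ▸ (b.equivFin.symm i).2, fun hx => ⟨b.equivFin ⟨x, hx⟩, by simp [e]⟩⟩
  let P : Set K := Set.range (MvPolynomial.aeval (R := k) e)
  have hPmul : ∀ a ∈ P, ∀ b ∈ P, a * b ∈ P := by rintro _ ⟨x, rfl⟩ _ ⟨y, rfl⟩; exact ⟨x * y, map_mul _ _ _⟩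
  have hPF : P ⊆ F := by
    rintro _ ⟨x, rfl⟩
    have : MvPolynomial.aeval e x ∈ Algebra.adjoin k (Set.range e) := by
      rw [Algebra.adjoin_range_eq_range_aeval]; exact ⟨x, rfl⟩
    rw [hrange] at this
    exact IntermediateField.algebra_adjoin_le_adjoin k _ this
  have hfrac : ∀ l ∈ F, ∃ d ∈ P, d ≠ 0 ∧ d * l ∈ P := by
    intro l hl
    rw [hF, ← hrange, IntermediateField.mem_adjoin_range_iff] at hl
    obtain ⟨u, v, rfl⟩ := hl
    by_cases hv : MvPolynomial.aeval e v = 0
    · exact ⟨1, ⟨1, map_one _⟩, one_ne_zero, by rw [hv, div_zero, mul_zero]; exact ⟨0, map_zero _⟩⟩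
    · exact ⟨_, ⟨v, rfl⟩, hv, by rw [mul_div_cancel₀ _ hv]; exact ⟨u, rfl⟩⟩
  have hclearR : ∀ s ∈ SR R RK (F : Set K), ∃ d ∈ P, d ≠ 0 ∧ algebraMap K RK d * s ∈ SR R RK P := by
    intro s hs
    induction hs using Submodule.span_induction with
    | mem x hx =>
      obtain ⟨l, hl, rfl⟩ := hx
      obtain ⟨d, hd, hd0, hdl⟩ := hfrac l hl
      exact ⟨d, hd, hd0, by rw [← map_mul]; exact Submodule.subset_span ⟨_, hdl, rfl⟩⟩
    | zero => exact ⟨1, ⟨1, map_one _⟩, one_ne_zero, by simp⟩
    | add x y _ _ hx hy =>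
      obtain ⟨d, hd, hd0, hdx⟩ := hx; obtain ⟨d', hd', hd0', hdy⟩ := hy
      have hmulP : ∀ c ∈ P, ∀ w ∈ SR R RK P, algebraMap K RK c * w ∈ SR R RK P := fun c hc w hw => by
        induction hw using Submodule.span_induction with
        | mem w hw => obtain ⟨l, hl, rfl⟩ := hw; rw [← map_mul]; exact Submodule.subset_span ⟨_, hPmul _ hc _ hl, rfl⟩
        | zero => simp
        | add u v _ _ hu hv => rw [mul_add]; exact add_mem hu hv
        | smul r u _ hu => rw [mul_smul_comm]; exact Submodule.smul_mem _ r hu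
      refine ⟨d * d', hPmul _ hd _ hd', mul_ne_zero hd0 hd0', ?_⟩
      rw [mul_add, map_mul, show algebraMap K RK d * algebraMap K RK d' * x = algebraMap K RK d' * (algebraMap K RK d * x) by ring,
        mul_assoc (algebraMap K RK d)]
      exact add_mem (hmulP _ hd' _ hdx) (hmulP _ hd _ hdy)
    | smul r x _ hx =>
      obtain ⟨d, hd, hd0, hdx⟩ := hx
      exact ⟨d, hd, hd0, by rw [mul_smul_comm]; exact Submodule.smul_mem _ r hdx⟩
  have hclearM : ∃ d ∈ P, d ≠ 0 ∧ algebraMap K RK d • y ∈ SM RK f P := by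
    have hone : (1 : K) ∈ P := ⟨1, map_one _⟩
    clear W3
    induction hyF using Submodule.span_induction with
    | mem x hx =>
      obtain ⟨l, hl, m, rfl⟩ := hx
      obtain ⟨d, hd, hd0, hdl⟩ := hfrac l hl
      exact ⟨d, hd, hd0, by rw [← mul_smul, ← map_mul]; exact Submodule.subset_span ⟨_, hdl, m, rfl⟩⟩
    | zero => exact ⟨1, hone, one_ne_zero, by simp⟩
    | add x y _ _ hx hy =>
      obtain ⟨d, hd, hd0, hdx⟩ := hx; obtain ⟨d', hd', hd0', hdy⟩ := hy
      refine ⟨d * d', hPmul _ hd _ hd', mul_ne_zero hd0 hd0', ?_⟩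
      rw [smul_add, map_mul]
      refine add_mem ?_ ?_
      · rw [mul_comm, mul_smul]; exact SR_smul_SM hPmul (Submodule.subset_span ⟨_, hd', rfl⟩) hdx
      · rw [mul_smul]; exact SR_smul_SM hPmul (Submodule.subset_span ⟨_, hd, rfl⟩) hdy
    | smul r x _ hx =>
      obtain ⟨d, hd, hd0, hdx⟩ := hx
      exact ⟨d, hd, hd0, by rw [smul_comm']; exact Submodule.smul_mem _ r hdx⟩
  obtain ⟨d, hdP, hd0, hdy⟩ := hclearM
  have hunit : ∀ c : K, c ≠ 0 → IsUnit (algebraMap K RK c) := fun c hc => (isUnit_iff_ne_zero.mpr hc).map _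
  set bot := (⊥ : IntermediateField k K)
  have hbotP : (bot : Set K) ⊆ P := by
    intro x hx
    obtain ⟨c, rfl⟩ := IntermediateField.mem_bot.mp hx
    exact ⟨MvPolynomial.C c, MvPolynomial.aeval_C _ _⟩
  have hbotR : ∀ a ∈ SR R RK (bot : Set K), ∃ a₀ : R, algebraMap R RK a₀ = a := fun a ha => by
    induction ha using Submodule.span_induction with
    | mem x hx =>
      obtain ⟨l, hl, rfl⟩ := hx
      obtain ⟨c, rfl⟩ := IntermediateField.mem_bot.mp hl
      exact ⟨algebraMap k R c, by rw [← IsScalarTower.algebraMap_apply, ← IsScalarTower.algebraMap_apply]⟩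
    | zero => exact ⟨0, map_zero _⟩
    | add x y _ _ hx hy => obtain ⟨u, rfl⟩ := hx; obtain ⟨v, rfl⟩ := hy; exact ⟨u + v, map_add _ _ _⟩
    | smul c x _ hx => obtain ⟨u, rfl⟩ := hx; exact ⟨c * u, by rw [map_mul, Algebra.smul_def]⟩
  -- the polynomial step
  let φ : MvPolynomial (Fin r) R →ₐ[R] RK := MvPolynomial.aeval fun i => algebraMap K RK (e i)
  let μ : (Fin r →₀ ℕ) → K := fun α => MvPolynomial.aeval e (MvPolynomial.monomial α (1 : k))
  have hμmul : ∀ α β, μ (α + β) = μ α * μ β := fun α β => by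
    simp only [μ, ← map_mul, MvPolynomial.monomial_mul, one_mul]
  have hli : LinearIndependent k μ := by
    have hm := (MvPolynomial.basisMonomials (Fin r) k).linearIndependent.map' (MvPolynomial.aeval (R := k) e).toLinearMap
      (LinearMap.ker_eq_bot.mpr he)
    have heq : μ = (MvPolynomial.aeval (R := k) e).toLinearMap ∘ MvPolynomial.basisMonomials (Fin r) k := by
      funext α; simp [μ]
    rw [heq]; exact hm
  have hμ : ∀ α (c : R), φ (MvPolynomial.monomial α c) = c • algebraMap K RK (μ α) := fun α c => by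
    simp [φ, μ, MvPolynomial.aeval_monomial, Finsupp.prod, map_prod, Algebra.smul_def]
  have hφ : ∀ s ∈ SR R RK P, ∃ G, φ G = s := by
    intro s hs
    induction hs using Submodule.span_induction with
    | mem x hx =>
      obtain ⟨_, ⟨G, rfl⟩, rfl⟩ := hx
      refine ⟨MvPolynomial.map (algebraMap k R) G, ?_⟩
      induction G using MvPolynomial.induction_on with
      | C c => simp [φ, ← IsScalarTower.algebraMap_apply]
      | add a b ha hb => simp [map_add, ha, hb]
      | mul_X a i ha => simp [map_mul, ha, φ]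
    | zero => exact ⟨0, map_zero _⟩
    | add x y _ _ hx hy => obtain ⟨G, rfl⟩ := hx; obtain ⟨H, rfl⟩ := hy; exact ⟨G + H, map_add _ _ _⟩
    | smul c x _ hx => obtain ⟨G, rfl⟩ := hx; exact ⟨c • G, map_smul _ _ _⟩
  -- coefficient functionals
  have hπ : ∀ γ, ∃ π : K →ₗ[k] K, ∀ α, π (μ α) = if α = γ then 1 else 0 := fun γ => by
    obtain ⟨ρ, hρ⟩ := (Finsupp.linearCombination k μ).exists_leftInverse_of_injective (LinearMap.ker_eq_bot.mpr hli)
    refine ⟨Algebra.linearMap k K ∘ₗ Finsupp.lapply γ ∘ₗ ρ, fun α => ?_⟩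
    have h := LinearMap.congr_fun hρ (Finsupp.single α 1)
    simp only [LinearMap.comp_apply, Finsupp.linearCombination_single, one_smul, LinearMap.id_apply] at h
    simp only [LinearMap.comp_apply, h, Finsupp.lapply_apply, Finsupp.single_apply]
    split_ifs <;> simp
  choose π hπ using hπ
  have hy' : ∃ zz : (Fin r →₀ ℕ) →₀ M, algebraMap K RK d • y = zz.sum fun α m => algebraMap K RK (μ α) • f m := by
    revert hdy
    generalize algebraMap K RK d • y = w
    intro hw
    induction hw using Submodule.span_induction with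
    | mem x hx =>
      obtain ⟨_, ⟨G, rfl⟩, m, rfl⟩ := hx
      induction G using MvPolynomial.induction_on' with
      | monomial α c =>
        refine ⟨Finsupp.single α (algebraMap k R c • m), ?_⟩
        rw [Finsupp.sum_single_index (by simp), map_smul, show MvPolynomial.monomial α c = c • MvPolynomial.monomial α (1 : k) by simp [MvPolynomial.smul_monomial],
          map_smul, Algebra.smul_def, map_mul, ← IsScalarTower.algebraMap_apply k K RK, IsScalarTower.algebraMap_apply k R RK,
          mul_smul, algebraMap_smul, ← smul_comm' (algebraMap k R c)]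
      | add a b ha hb =>
        obtain ⟨za, hza⟩ := ha; obtain ⟨zb, hzb⟩ := hb
        exact ⟨za + zb, by rw [map_add, map_add, add_smul, hza, hzb, Finsupp.sum_add_index (by simp) (by simp [smul_add])]⟩
    | zero => exact ⟨0, by simp⟩
    | add x y _ _ hx hy =>
      obtain ⟨za, hza⟩ := hx; obtain ⟨zb, hzb⟩ := hy
      exact ⟨za + zb, by rw [hza, hzb, Finsupp.sum_add_index (by simp) (by simp [smul_add])]⟩
    | smul c x _ hx =>
      obtain ⟨za, hza⟩ := hx
      refine ⟨c • za, ?_⟩
      rw [hza, Finsupp.sum_smul_index' (by simp), Finsupp.smul_sum]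
      simp only [map_smul, smul_comm']
  obtain ⟨zz, hzz⟩ := hy'
  set y' := algebraMap K RK d • y with hy'def
  have hbotF : (SR R RK (bot : Set K) : Set RK) ⊆ SR R RK (F : Set K) := Submodule.span_mono (Set.image_mono (hbotP.trans hPF))
  have hf0 := f_injective (K := K) hf k
  have W4 : W q (SR R RK (bot : Set K) : Set RK) y' := by
    refine ⟨fun a ha h0 => W3.1 a (hbotF ha) ?_, fun a ha haq => ?_⟩
    · rw [smul_comm] at h0; exact (hunit d hd0).smul_eq_zero.mp h0
    obtain ⟨s, hs, hsq, N, hN⟩ := W3.2 a (hbotF ha) haq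
    obtain ⟨d', hd'P, hd'0, hd's⟩ := hclearR s hs
    obtain ⟨G, hG⟩ := hφ _ hd's
    have hGq : φ G ∉ q := hG ▸ fun h => hsq (((‹q.IsPrime›).mem_or_mem h).resolve_left fun h' => ‹q.IsPrime›.ne_top (Ideal.eq_top_of_isUnit_mem _ h' (hunit d' hd'0)))
    obtain ⟨a₀, rfl⟩ := hbotR a ha
    have hGy : φ G • (a₀ ^ N • y') = 0 := by
      rw [hG, ← algebraMap_smul RK (a₀ ^ N) y', map_pow, hy'def, ← mul_smul, ← mul_smul,
        show algebraMap K RK d' * s * algebraMap R RK a₀ ^ N * algebraMap K RK d = algebraMap K RK d' * algebraMap K RK d * (s * algebraMap R RK a₀ ^ N) by ring,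
        mul_smul, hN, smul_zero]
    have hcoef : ∃ i, G.coeff i ∉ q.comap (algebraMap R RK) := by
      by_contra! hall
      apply hGq
      rw [G.as_sum, map_sum]
      refine q.sum_mem fun i _ => ?_
      rw [hμ, Algebra.smul_def]
      exact q.mul_mem_right _ (hall i)
    have hexp : ∀ z' : (Fin r →₀ ℕ) →₀ M, φ G • (z'.sum fun α m => algebraMap K RK (μ α) • f m) =
        ∑ α ∈ z'.support, ∑ β ∈ G.support, algebraMap K RK (μ (β + α)) • f (G.coeff β • z' α) := fun z' => by
      conv_lhs => rw [G.as_sum, map_sum, Finsupp.sum, Finset.smul_sum]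
      refine Finset.sum_congr rfl fun α _ => ?_
      rw [Finset.sum_smul]
      refine Finset.sum_congr rfl fun β _ => ?_
      rw [hμ, hμmul, map_mul, mul_smul (algebraMap K RK (μ β)), smul_assoc, map_smul, smul_comm' (G.coeff β) (algebraMap K RK (μ α)), smul_comm' (G.coeff β) (algebraMap K RK (μ β))]
    have hzero : φ G • ((a₀ ^ N • zz).sum fun α m => algebraMap K RK (μ α) • f m) = 0 := by
      rw [Finsupp.sum_smul_index' (by simp)]
      simp only [map_smul, smul_comm']
      rw [← Finsupp.smul_sum, ← hzz]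
      exact hGy
    obtain ⟨u, hu, hu0⟩ := mcCoy (q.comap (algebraMap R RK)) G (a₀ ^ N • zz) hcoef fun γ => by
      apply hf0
      have := congrArg (hatM hf (π γ)) ((hexp _).symm.trans hzero)
      simp only [map_zero, map_sum, hatM_smul, hatR_ι, hπ] at this
      rw [map_sum, map_zero]
      refine Eq.trans (Finset.sum_congr rfl fun α _ => ?_) this
      by_cases hle : α ≤ γ
      · rw [if_pos hle, Finset.sum_eq_single (γ - α)]
        · rw [if_pos (tsub_add_cancel_of_le hle), map_one, one_smul]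
        · intro b _ hb
          rw [if_neg (fun h => hb (by rw [← h, add_tsub_cancel_right])), map_zero, zero_smul]
        · intro h
          rw [MvPolynomial.notMem_support_iff.mp h, zero_smul, map_zero, smul_zero]
      · rw [if_neg hle, zero_smul, map_zero]
        refine (Finset.sum_eq_zero fun b _ => ?_).symm
        rw [if_neg (fun h : b + α = γ => hle (h ▸ le_add_self)), map_zero, zero_smul]
    refine ⟨algebraMap R RK u, ?_, hu, N, ?_⟩
    · exact (hmem bot _).2 (Subalgebra.algebraMap_mem _ u)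
    · rw [mul_smul, ← map_pow, algebraMap_smul, algebraMap_smul, hzz, Finsupp.smul_sum, Finsupp.smul_sum]
      refine Finset.sum_eq_zero fun α _ => ?_
      show u • a₀ ^ N • algebraMap K RK (μ α) • f (zz α) = 0
      rw [← smul_comm' (a₀ ^ N), ← smul_comm' u, ← map_smul, ← map_smul]
      rw [show u • a₀ ^ N • zz α = u • (a₀ ^ N • zz) α from rfl, hu0, map_zero, smul_zero]
  obtain ⟨x, hx, W5⟩ := W_split bot q hf W4 (hmulL bot) (honeL bot)
  obtain ⟨x₀, rfl⟩ : ∃ x₀, f x₀ = x := by
    clear W5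
    induction hx using Submodule.span_induction with
    | mem x hx =>
      obtain ⟨l, hl, m, rfl⟩ := hx
      obtain ⟨c, rfl⟩ := IntermediateField.mem_bot.mp hl
      exact ⟨algebraMap k R c • m, by rw [map_smul, ← algebraMap_smul RK (algebraMap k R c), ← IsScalarTower.algebraMap_apply, ← IsScalarTower.algebraMap_apply]⟩
    | zero => exact ⟨0, map_zero _⟩
    | add x y _ _ hx hy => obtain ⟨u, rfl⟩ := hx; obtain ⟨v, rfl⟩ := hy; exact ⟨u + v, map_add _ _ _⟩
    | smul c x _ hx => obtain ⟨u, rfl⟩ := hx; exact ⟨c • u, map_smul _ _ _⟩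
  refine ⟨x₀, Groth.L03.WeakAss.minimalPrimes_iff.2 ⟨Ideal.IsPrime.comap _, fun a ha => ?_, fun a ha => ?_⟩⟩
  · exact W5.1 _ ((hmem bot _).2 (Subalgebra.algebraMap_mem _ a)) (by rw [algebraMap_smul, ← map_smul, Groth.L03.WeakAss.mem_annE.1 ha, map_zero])
  · obtain ⟨s, hs, hsq, N, hN⟩ := W5.2 _ ((hmem bot _).2 (Subalgebra.algebraMap_mem _ a)) ha
    obtain ⟨s₀, rfl⟩ := hbotR s hs
    refine ⟨s₀, hsq, N, Groth.L03.WeakAss.mem_annE.2 (hf0 ?_)⟩
    rw [map_zero, map_smul, ← algebraMap_smul RK, map_mul, map_pow]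
    exact hN

end Groth.Agent.S9592
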