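import Groth.Statements.S8900
import Groth.Agent.L07.FieldStalk
import Groth.Agent.S9592
import Groth.Agent.L15.WeakAss
import Groth.Agent.L00.PullStalk

set_option autoImplicit false
set_option maxSynthPendingDepth 3
set_option synthInstance.maxHeartbeats 400000
set_option maxHeartbeats 800000
set_option backward.isDefEq.respectTransparency false
set_option backward.isDefEq.respectTransparency.types false
set_option linter.style.haveILetI false
universe u
open CategoryTheory CategoryTheory.Limits AlgebraicGeometry TopologicalSpace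
open SDiv

open scoped TensorProduct
attribute [local instance] Curv2.stalkAlgebra Algebra.TensorProduct.rightAlgebra
namespace Groth.Agent.S8900

/-- Let K/k be an extension of fields, X a scheme over k, F a quasi-coherent O_X-module, and y a point
of X_K = X ×_k Spec K with image x in X. If y is weakly associated to the pullback of F to X_K, then
x is weakly associated to F. -/
theorem result (k : Type u) [Field k] (K : Type u) [Field K] [Algebra k K] (X : Scheme.{u})
    [X.Over (Spec (CommRingCat.of k))] (F : X.Modules) (hF : Coh.IsQCoh F) (y : ↥(Curv2.bc k X K))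
    (hy : Curv2.IsWeakAssPoint ((Scheme.Modules.pullback (Curv2.bcFst k X K)).obj F) y) :
    Curv2.IsWeakAssPoint F (Curv2.bcFst k X K y) := by
  let p := Curv2.bcFst k X K
  let O := X.presheaf.stalk (p y)
  let B := (Curv2.bc k X K).presheaf.stalk y
  obtain ⟨Q, e, hQ, he⟩ := Groth.L07.FieldStalk.exists_point_compat k X K y
  let RK := K ⊗[k] O
  let φ : RK →+* B := e.symm.toRingHom.comp (algebraMap RK (Localization.AtPrime Q.asIdeal))
  letI : Algebra RK B := φ.toAlgebra
  letI : Algebra O B := (p.stalkMap y).hom.toAlgebra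
  haveI : IsScalarTower O RK B := IsScalarTower.of_algebraMap_eq fun o => by
    show (p.stalkMap y).hom o = e.symm (algebraMap RK _ ((Algebra.TensorProduct.includeRight : O →ₐ[k] RK) o))
    rw [← he o]
    exact (e.symm_apply_apply _).symm
  haveI : IsLocalization.AtPrime B Q.asIdeal := IsLocalization.isLocalization_of_algEquiv Q.asIdeal.primeCompl
    (AlgEquiv.ofRingEquiv (f := e.symm) fun r => rfl)
  let M := F.presheaf.stalk (p y)
  let e' : ((Scheme.Modules.pullback p).obj F).presheaf.stalk y ≃ₗ[B] B ⊗[O] M :=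
    ((Groth.L00.PullStalk.stalkIso p y).app F).toLinearEquiv
  obtain ⟨m₀, hm₀⟩ := (Groth.L15.WeakAss.isWeakAssPoint_iff _ y).1 hy
  have hm : (Submodule.colon (⊥ : Submodule B (B ⊗[O] M)) {e' m₀}).radical = IsLocalRing.maximalIdeal B := by
    refine Eq.trans (congrArg Ideal.radical ?_) hm₀
    ext r
    rw [Groth.L15.WeakAss.mem_colon, Groth.L15.WeakAss.mem_colon, ← e'.map_smul, e'.map_eq_zero_iff]
  let f : RK ⊗[O] M →ₗ[RK] B ⊗[O] M :=
    TensorProduct.AlgebraTensorModule.map (Algebra.linearMap RK B) LinearMap.id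
  have hbc : IsBaseChange B f := by
    refine (TensorProduct.isBaseChange O M RK).of_comp ?_
    have h : (f.restrictScalars O) ∘ₗ (TensorProduct.mk O RK M 1) = TensorProduct.mk O B M 1 := by
      ext v; simp [f]
    rw [h]
    exact TensorProduct.isBaseChange O M B
  haveI : IsLocalizedModule Q.asIdeal.primeCompl f := (isLocalizedModule_iff_isBaseChange Q.asIdeal.primeCompl B f).mpr hbc
  obtain ⟨⟨n, s⟩, hns⟩ := IsLocalizedModule.surj Q.asIdeal.primeCompl f (e' m₀)
  have hs : IsUnit (algebraMap RK B (s : RK)) := IsLocalization.map_units B s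
  have hns' : algebraMap RK B (s : RK) • e' m₀ = f n := by rw [← hns, algebraMap_smul]; rfl
  have hann : ∀ b : B, b • f n = 0 ↔ b • e' m₀ = 0 := fun b => by
    rw [← hns', smul_comm, hs.smul_eq_zero]
  have hmax : ∀ q, q ∈ Q.asIdeal ↔ algebraMap RK B q ∈ IsLocalRing.maximalIdeal B := fun q => by
    conv_lhs => rw [← IsLocalization.AtPrime.under_maximalIdeal B Q.asIdeal]
    rfl
  have hQn : Q.asIdeal ∈ FlatCA.weakAss RK (RK ⊗[O] M) := by
    refine ⟨n, ⟨Q.2, fun a ha => ?_⟩, ?_⟩
    · rw [Submodule.mem_annihilator_span_singleton] at ha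
      refine (hmax a).mpr (hm ▸ Ideal.le_radical ?_)
      rw [Groth.L15.WeakAss.mem_colon, ← hann, algebraMap_smul, ← map_smul, ha, map_zero]
    · rintro P ⟨hP, hnP⟩ hPQ q hq
      obtain ⟨N, hN⟩ : algebraMap RK B q ∈ (Submodule.colon (⊥ : Submodule B (B ⊗[O] M)) {e' m₀}).radical :=
        hm.symm ▸ (hmax q).mp hq
      rw [Groth.L15.WeakAss.mem_colon, ← hann, ← map_pow, algebraMap_smul, ← map_smul] at hN
      obtain ⟨t, ht⟩ := (IsLocalizedModule.eq_zero_iff Q.asIdeal.primeCompl f).mp hN
      have h1 : (t : RK) * q ^ N ∈ P := hnP (by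
        rw [Submodule.mem_annihilator_span_singleton, mul_smul]
        exact ht)
      exact hP.mem_of_pow_mem _ ((hP.mem_or_mem h1).resolve_left fun h => t.2 (hPQ h))
  haveI := Q.2
  obtain ⟨m', hm'⟩ := Groth.Agent.S9592.result (k := k) (K := K) (R := O) RK M (RK ⊗[O] M)
    (TensorProduct.mk O RK M 1) (TensorProduct.isBaseChange O M RK) Q.asIdeal hQn
  refine (Groth.L15.WeakAss.isWeakAssPoint_iff F (p y)).2 ⟨m', ?_⟩
  have hQmax : Q.asIdeal.comap (algebraMap O RK) = IsLocalRing.maximalIdeal O := hQ
  rw [hQmax] at hm'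
  have hc : Submodule.colon (⊥ : Submodule O M) {m'} = (Submodule.span O {m'}).annihilator := by
    ext a
    rw [Groth.L15.WeakAss.mem_colon, Submodule.mem_annihilator_span_singleton]
  rw [hc]
  refine le_antisymm ((IsLocalRing.maximalIdeal.isMaximal O).isPrime.radical_le_iff.2 hm'.1.2) ?_
  rw [Ideal.radical_eq_sInf]
  refine le_sInf fun P hP => ?_
  exact hm'.2 ⟨hP.2, hP.1⟩ (IsLocalRing.le_maximalIdeal hP.2.ne_top)

end Groth.Agent.S8900
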