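
import Groth.Statements.S8902
import Groth.Agent.L22.Mero
import Mathlib.RingTheory.Flat.TorsionFree
import Mathlib.AlgebraicGeometry.Morphisms.Flat
import Mathlib.Tactic.Algebraize

set_option autoImplicit false
universe u
open CategoryTheory CategoryTheory.Limits AlgebraicGeometry TopologicalSpace
open SDiv

namespace Groth.Agent.S8902

/-- Let f : X ⟶ Y be a flat morphism of schemes. Then pullbacks of meromorphic functions are defined for
f: for every open U ⊆ Y and every regular section s of O_Y over U, the pulled-back section of O_X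
over f⁻¹U is regular. -/
theorem result {X Y : Scheme.{u}} (f : X ⟶ Y) [Flat f] (U : Y.Opens) (s : Γ(Y, U))
    (hs : s ∈ Mero.regSub Y U) : f.app U s ∈ Mero.regSub X (f ⁻¹ᵁ U) := by
  intro x
  rw [Scheme.Hom.germ_stalkMap_apply f U x.1 x.2 s |>.symm]
  have hfl : (f.stalkMap x.1).hom.Flat := (Flat.iff_flat_stalkMap f).1 inferInstance x.1
  algebraize [(f.stalkMap x.1).hom]
  have hreg := hs ⟨f x.1, x.2⟩
  have := Module.Flat.isSMulRegular_of_nonZeroDivisors (M := X.presheaf.stalk x.1) hreg
  rw [mem_nonZeroDivisors_iff_right]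
  intro a ha
  refine this ?_
  simp only [smul_zero]
  rw [Algebra.smul_def, mul_comm]
  exact ha

end Groth.Agent.S8902
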