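
import Groth.Statements.S8909
import Groth.Agent.L22.CartierDecomp
import Groth.Agent.L22.BlowUp

set_option autoImplicit false
universe u
open CategoryTheory CategoryTheory.Limits AlgebraicGeometry TopologicalSpace
open SDiv

namespace Groth.Agent.S8909

/-- Let X be a Noetherian scheme and Z ⊆ X a closed subscheme with ideal sheaf 𝓩. Suppose given a family
of integral effective Cartier divisors D_i ⊆ X (ideal sheaves 𝓓_i, i ∈ I) and a closed subset Z' ⊆ X
whose irreducible components all have codimension at least 2 in X (the local ring of X at each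
maximal point of Z' has dimension ≥ 2), such that Z ⊆ Z' ∪ ⋃ D_i set-theoretically. Then there are
integers a_i ≥ 0, almost all zero, such that the effective Cartier divisor D = Σ a_i D_i (with ideal
sheaf the product of the 𝓓_i^{a_i}) is contained in Z as a closed subscheme and the inclusion D → Z
is an isomorphism outside codimension 2: for some open U ⊆ X the ideal sheaves of D and Z agree on U
and every irreducible component of Z ∖ U has codimension ≥ 2 in X. The published statement also
asserts that such D_i and Z' exist when Z is nowhere dense in X and either every local ring of X at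
a point of Z is factorial or X is regular; this row does not. -/
theorem result (X : Scheme.{u}) [IsNoetherian X] (𝓩 : X.IdealSheafData)
    {I : Type u} (𝓓 : I → X.IdealSheafData) (hD : ∀ i, BlowUp.IsEffCartierIdeal (𝓓 i)) (hDint : ∀ i, IsIntegral (𝓓 i).subscheme)
    (Z' : Set ↥X) (hZ' : IsClosed Z')
    (hcodim : ∀ z ∈ Z', (∀ y ∈ Z', y ⤳ z → y = z) → (2 : WithBot ℕ∞) ≤ ringKrullDim ↑(X.presheaf.stalk z))
    (hcover : (𝓩.support : Set ↥X) ⊆ Z' ∪ ⋃ i, ((𝓓 i).support : Set ↥X)) :
    ∃ a : I →₀ ℕ, 𝓩 ≤ a.prod (fun i n => 𝓓 i ^ n) ∧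
      ∃ U : X.Opens, (a.prod (fun i n => 𝓓 i ^ n)).comap U.ι = 𝓩.comap U.ι ∧
        ∀ z ∈ (𝓩.support : Set ↥X) \ (U : Set ↥X), (∀ y ∈ (𝓩.support : Set ↥X) \ (U : Set ↥X), y ⤳ z → y = z) →
          (2 : WithBot ℕ∞) ≤ ringKrullDim ↑(X.presheaf.stalk z) := by
  have hmax : ∀ y : X, (∀ y', y' ⤳ y → y' = y) → y ∉ (𝓩.support : Set ↥X) := by
    intro y hy hmem
    rcases hcover hmem with h | h
    · have h2 := hcodim y h fun y' _ hsp => hy y' hsp
      rw [Groth.L22.CartierDecomp.dim_eq_zero_of_maximal hy] at h2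
      exact absurd h2 (by decide)
    · exact Groth.L22.CartierDecomp.notMem_of_maximal 𝓓 hD hy h
  obtain ⟨a, J, hJ, hJξ⟩ := Groth.L22.CartierDecomp.exists_decomp 𝓓 hD hDint 𝓩 hmax
  have hsub : (J.support : Set ↥X) ⊆ (𝓩.support : Set ↥X) := by
    refine Scheme.IdealSheafData.support_antitone ?_
    intro U
    rw [← hJ, Scheme.IdealSheafData.ideal_mul, Pi.mul_apply]
    exact Ideal.mul_le_right
  refine ⟨a, ?_, J.support.compl, ?_, fun z hz _ => ?_⟩
  · intro U
    rw [← hJ, Scheme.IdealSheafData.ideal_mul, Pi.mul_apply]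
    exact Ideal.mul_le_left
  · have htop : J.comap (Scheme.Opens.ι (X := X) J.support.compl) = ⊤ :=
      Groth.L22.Ideals.comap_eq_top J _ fun y => y.2
    conv_rhs => rw [← hJ, Groth.L22.Ideals.comap_mul, htop]
    exact (mul_one _).symm
  · have hzJ : z ∈ (J.support : Set ↥X) := not_not.1 hz.2
    rcases hcover (hsub hzJ) with h | h
    · obtain ⟨y, hy, hyz, hymax⟩ := Groth.L22.CartierDecomp.exists_maximal_of_mem hZ' h
      exact (hcodim y hy hymax).trans (Groth.L22.CartierDecomp.dim_le_of_specializes hyz)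
    · obtain ⟨i, hi⟩ := Set.mem_iUnion.1 h
      haveI := hDint i
      exact Groth.L22.CartierDecomp.two_le_dim (hD i) hi fun ξ hξ e => hJξ i ξ hξ (e ▸ hzJ)

end Groth.Agent.S8909
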