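import Groth.Statements.S8913
import Groth.Agent.L07.FittStrict
import Groth.Agent.L06.KernelFP
import Groth.Agent.L18.LocFreeFP
import Groth.Agent.L29.BC.Model
import Groth.Agent.L07.PrinParts.Mod
import Groth.Agent.L05.Prufer.Sheaf
import Groth.Agent.L19.LimMod.Zero

set_option autoImplicit false
set_option linter.style.haveILetI false
universe u
open CategoryTheory CategoryTheory.Limits AlgebraicGeometry TopologicalSpace
open SDiv

namespace Groth.Agent.S8913

/-- Let X be a scheme, F a finitely presented O_X-module and U ⊆ X an open subscheme which is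
scheme-theoretically dense and over which F is locally free of constant finite rank r. Then: (1)
Fit_r(F) is of finite type with support disjoint from U, so a blowing up b : X' ⟶ X of X in Fit_r(F)
is U-admissible; (2) the strict transform G of F along such b is locally free of rank r; (3) the
kernel of the surjection b^*F ⟶ G is finitely presented and restricts to zero over b⁻¹U. This row
does not assert that b^*F and the kernel are perfect of tor dimension at most one. -/
theorem result (X : Scheme.{u}) (F : X.Modules) (hF : CohB1.IsFP F)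
    (U : X.Opens) (hU : CInt.IsSchematicallyDense U) (r : ℕ) (hfree : FlatMod.IsFinLocFreeOfRank r (F.restrict U.ι)) :
    BlowUp.IsAdmissibleFor U (Fitt.sheafIdeal F r) ∧
      ∀ (X' : Scheme.{u}) (b : X' ⟶ X), BlowUp.IsBlowUp b (Fitt.sheafIdeal F r) →
        ∀ (G : X'.Modules) (π : (Scheme.Modules.pullback b).obj F ⟶ G), BlowUp.IsStrictTransform b (Fitt.sheafIdeal F r) F G π →
          FlatMod.IsFinLocFreeOfRank r G ∧ CohB1.IsFP (kernel π) ∧ IsZero ((kernel π).restrict (b ⁻¹ᵁ U).ι) := by
  have hQ : Coh.IsQCoh F := Groth.L05.Prufer.isQCoh_of_isFP hF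
  have hC : Coh.IsCoh F := ⟨hQ, Groth.L19.LimMod.isFT_of_isFP hF⟩
  haveI := hQ
  have hdis := Groth.L07.FittStrict.disjoint_support_of_isFinLocFreeOfRank F hC hfree
  refine ⟨⟨fun V => ?_, hdis⟩, fun X' b hb G π hG => ?_⟩
  · haveI := Groth.L20.ModStalk.finitePresentation_sections F hF V.2
    rw [Groth.L15.FittSheaf.sheafIdeal_ideal F hC.2]
    exact Groth.L13.Fitting.ideal_fg_of_finitePresentation r
  have hG1 := Groth.L07.FittStrict.isFinLocFreeOfRank_strict hC
    (Groth.L07.FittStrict.isFinLocFreeOfRank_of_dense hC hU hfree) hb hG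
  have hG2 : FlatMod.IsFinLocFree G := fun x => (hG1 x).elim fun W h => ⟨W, r, h⟩
  haveI := hG.1
  haveI : Coh.IsQCoh ((Scheme.Modules.pullback b).obj F) := Groth.L16.AffineBC.isQCoh_pullback b F
  haveI : Coh.IsQCoh G := Groth.L07.FittStrict.isQCoh_strict hQ hb.1 hG
  exact ⟨hG1, Groth.L06.KernelFP.isFP_kernel (𝟙 X') _ G (Groth.L07.PrinParts.isFP_pullback b hF)
      (Groth.L18.LFP.isFP_of_isFinLocFree G hG2)
      ((Groth.L29.BC.isFlat_iff_isFlatOver_id G).2 (Groth.L29.DC.isFlat_of_isFinLocFree hG2)) π,
    Groth.L07.FittStrict.isZero_kernel_restrict hG U hdis⟩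

end Groth.Agent.S8913
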