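import Groth.Statements.S8915
import Groth.Agent.L15.OmegaCoh
import Groth.Agent.S8876
import Groth.Agent.L16.CohSupport

set_option autoImplicit false
universe u
open CategoryTheory CategoryTheory.Limits AlgebraicGeometry TopologicalSpace
open SDiv

namespace Groth.Agent.S8915

/-- Let f : X ⟶ S be locally of finite type and quasi-separated. Then the closed subset of X defined by
the Fitting ideal Fit_0(Ω_{X/S}) is exactly the set of points at which f is not unramified, i.e.
which have no open neighbourhood on which f is formally unramified. The published statement does not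
assume f quasi-separated; this row does, because the module Ω_{X/S} used here is defined for
quasi-separated f. -/
theorem result {X S : Scheme.{u}} (f : X ⟶ S) [LocallyOfFiniteType f] [QuasiSeparated f]
    (x : ↥X) :
    x ∈ (Fitt.sheafIdeal (Omega.sheaf f) 0).support ↔ ¬ ∃ U : X.Opens, x ∈ U ∧ FormallyUnramified (U.ι ≫ f) := by
  have hcoh := Groth.L15.OmegaCoh.isCoh_omega f
  rw [← SetLike.mem_coe, Groth.Agent.S8876.result X _ hcoh.1 hcoh.2]
  have hu := fun U : X.Opens => Groth.L19.OmegaSh.isZero_iff_formallyUnramified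
    (Groth.L19.OmegaSh.isUniversal_resDer U.ι (Groth.L19.OmegaSh.isUniversal_dOmega (f := f)))
  constructor
  · rintro hx ⟨U, hxU, hU⟩
    have hz := (hu U).1 hU
    refine hx (subsingleton_of_forall_eq 0 fun m => ?_)
    obtain ⟨W, hW, s, rfl⟩ := TopCat.Presheaf.exists_germ_eq (F := (Omega.sheaf f).presheaf) (x := x) m
    have hle : U.ι ''ᵁ (U.ι ⁻¹ᵁ W) ≤ W := by
      rw [Scheme.Hom.image_preimage_eq_opensRange_inf]; exact inf_le_right
    have hxW : x ∈ U.ι ''ᵁ (U.ι ⁻¹ᵁ W) := ⟨⟨x, hxU⟩, hW, rfl⟩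
    rw [← Groth.L20.ModStalk.germ_rs _ hle hxW s]
    have h0 : 𝟙 ((Omega.sheaf f).restrict U.ι) = 0 := hz.eq_of_src _ _
    have h1 : Groth.L18.Frame.rs _ hle s = 0 :=
      congrArg (fun φ : (Omega.sheaf f).restrict U.ι ⟶ (Omega.sheaf f).restrict U.ι => φ.app (U.ι ⁻¹ᵁ W)
      (show Γ((Omega.sheaf f).restrict U.ι, U.ι ⁻¹ᵁ W) from Groth.L18.Frame.rs (Omega.sheaf f) hle s)) h0
    rw [h1, map_zero]
  · intro h hx
    refine h ?_
    refine ⟨⟨(CohB1.support (Omega.sheaf f))ᶜ, (Groth.L16.CohSupport.isClosed_support _ hcoh.2).isOpen_compl⟩,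
      fun hmem => hmem hx, (hu _).2 ?_⟩
    rw [IsZero.iff_id_eq_zero]
    apply Scheme.Modules.hom_ext
    intro W
    ext s
    refine TopCat.Presheaf.section_ext ((Groth.L21.Mod.toAbSh X).obj (Omega.sheaf f)) _ _ _ fun y hy => ?_
    obtain ⟨⟨y', hy'⟩, -, rfl⟩ := hy
    have : Subsingleton ((Omega.sheaf f).presheaf.stalk y') := Classical.not_not.1 hy'
    exact this.elim _ _

end Groth.Agent.S8915
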