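import Groth.Statements.S8917
import Groth.Agent.L15.OmegaCoh
import Groth.Agent.L15.FittSheaf
import Groth.Agent.L22.Ideal
import Groth.Agent.L20.ModPullback
import Mathlib.RingTheory.Kaehler.TensorProduct

set_option autoImplicit false
universe u
open CategoryTheory CategoryTheory.Limits AlgebraicGeometry TopologicalSpace
open SDiv

namespace Groth.Agent.S8917

/-- Let f : X ⟶ S be locally of finite type and quasi-separated and let g : S' ⟶ S be a morphism, X' = X
×_S S' with projections g' : X' ⟶ X and f' : X' ⟶ S'. Then for every i the inverse image ideal sheaf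
under g' of the i-th Fitting ideal of Ω_{X/S} is the i-th Fitting ideal of Ω_{X'/S'}: the Fitting
subschemes of Ω are compatible with base change. The published statement does not assume f
quasi-separated; this row does, because the module Ω_{X/S} used here is defined for quasi-separated
f. -/
theorem result {X S S' : Scheme.{u}} (f : X ⟶ S) [LocallyOfFiniteType f] [QuasiSeparated f] (g : S' ⟶ S)
    (i : ℕ) :
    (Fitt.sheafIdeal (Omega.sheaf f) i).comap (pullback.fst f g) = Fitt.sheafIdeal (Omega.sheaf (pullback.snd f g)) i := by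
  have hcoh := Groth.L15.OmegaCoh.isCoh_omega f
  have hcoh' := Groth.L15.OmegaCoh.isCoh_omega (pullback.snd f g)
  haveI : Coh.IsQCoh (Omega.sheaf f) := hcoh.1
  haveI : Coh.IsQCoh (Omega.sheaf (pullback.snd f g)) := hcoh'.1
  choose W V W' U eV eW eU eU' hW hV hW' hU hxU hpo using fun x =>
    Groth.L20.ModStalk.exists_affine_square (IsPullback.of_hasPullback f g) x
  refine Scheme.IdealSheafData.ext_of_iSup_eq_top (fun x => (⟨U x, hU x⟩ : (pullback f g).affineOpens))
    (top_unique fun x _ => Opens.mem_iSup.2 ⟨x, hxU x⟩) fun x => ?_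
  letI : Algebra Γ(S, W x) Γ(X, V x) := (f.appLE (W x) (V x) (eV x)).hom.toAlgebra
  letI : Algebra Γ(S, W x) Γ(S', W' x) := (g.appLE (W x) (W' x) (eW x)).hom.toAlgebra
  letI : Algebra Γ(X, V x) Γ(pullback f g, U x) := ((pullback.fst f g).appLE (V x) (U x) (eU x)).hom.toAlgebra
  letI : Algebra Γ(S', W' x) Γ(pullback f g, U x) := ((pullback.snd f g).appLE (W' x) (U x) (eU' x)).hom.toAlgebra
  letI : Algebra Γ(S, W x) Γ(pullback f g, U x) :=
    ((f.appLE (W x) (V x) (eV x)) ≫ (pullback.fst f g).appLE (V x) (U x) (eU x)).hom.toAlgebra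
  haveI : IsScalarTower Γ(S, W x) Γ(X, V x) Γ(pullback f g, U x) := IsScalarTower.of_algebraMap_eq fun _ => rfl
  haveI : IsScalarTower Γ(S, W x) Γ(S', W' x) Γ(pullback f g, U x) :=
    IsScalarTower.of_algebraMap_eq fun a => congr($((hpo x).w) a)
  haveI : Algebra.IsPushout Γ(S, W x) Γ(S', W' x) Γ(X, V x) Γ(pullback f g, U x) :=
    (CommRingCat.isPushout_iff_isPushout.1 (hpo x)).symm
  haveI := Groth.L20.ModStalk.finite_sections _ hcoh (hV x)
  haveI := Groth.L20.ModStalk.finite_sections _ hcoh' (hU x)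
  obtain ⟨a⟩ := Groth.L15.OmegaCoh.exists_sections_equiv f (hV x) (hW x) (eV x)
  obtain ⟨b⟩ := Groth.L15.OmegaCoh.exists_sections_equiv (pullback.snd f g) (hU x) (hW' x) (eU' x)
  let c := KaehlerDifferential.tensorKaehlerEquiv Γ(S, W x) Γ(S', W' x) Γ(X, V x) Γ(pullback f g, U x)
  haveI : Module.Finite Γ(X, V x) Ω[Γ(X, V x)⁄Γ(S, W x)] := Module.Finite.equiv a.symm
  rw [Groth.L22.Ideals.comap_ideal (pullback.fst f g) _ ⟨V x, hV x⟩ ⟨U x, hU x⟩ (eU x),
    Groth.L15.FittSheaf.sheafIdeal_ideal _ hcoh.2, Groth.L15.FittSheaf.sheafIdeal_ideal _ hcoh'.2,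
    ← Groth.L13.Fitting.ideal_congr a i, ← Groth.L13.Fitting.ideal_congr (c.trans b) i,
    Groth.L13.Fitting.ideal_baseChange]
  rfl

end Groth.Agent.S8917
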