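import Groth.Statements.S8916
import Groth.Agent.L05.OmegaRank.Main
import Groth.Agent.L15.FittFree
import Groth.Agent.L15.OmegaCoh
import Groth.Agent.L22.FibreSemicont
import Groth.Agent.L22.SchemeDim
import Groth.Agent.L06.RelFPModules
import Groth.Agent.L13.Fitting.LocFree
import Groth.Agent.S6894
import Groth.Agent.S8917
set_option linter.style.haveILetI false
set_option backward.isDefEq.respectTransparency false
set_option backward.isDefEq.respectTransparency.types false


set_option autoImplicit false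
universe u
open CategoryTheory CategoryTheory.Limits AlgebraicGeometry TopologicalSpace
open SDiv

namespace Groth.Agent.S8916

theorem localDim_eq_of_components {k : Type u} [Field k] {Z : Scheme.{u}} (f : Z ⟶ Spec (CommRingCat.of k))
    [LocallyOfFiniteType f] (d : ℕ) (hd : ∀ T ∈ irreducibleComponents ↥Z, topologicalKrullDim ↥T = d) (z : Z) :
    FlatMor.localDim ↥Z z = (d : WithBot ℕ∞) := by
  letI : Z.Over (Spec (CommRingCat.of k)) := ⟨f⟩
  haveI : LocallyOfFiniteType (Z ↘ Spec (CommRingCat.of k)) := ‹LocallyOfFiniteType f›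
  rw [Groth.L22.FibreSemicont.localDim_eq_iSup k z]
  refine le_antisymm (iSup_le fun η => ?_) ?_
  · obtain ⟨T, hT, hηT⟩ := exists_mem_irreducibleComponents_subset_of_isIrreducible _
      (isIrreducible_singleton (x := η.1)).closure
    exact (Groth.L22.SchemeDim.topologicalKrullDim_mono hηT).trans (hd T hT).le
  · obtain ⟨T, hT, hzT⟩ := exists_mem_irreducibleComponents_subset_of_isIrreducible _
      (isIrreducible_singleton (x := z))
    obtain ⟨η, hη⟩ := QuasiSober.sober hT.1 (isClosed_of_mem_irreducibleComponents T hT)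
    refine le_trans ?_ (le_iSup _ (⟨η, hη.specializes (hzT rfl)⟩ : {η : Z // η ⤳ z}))
    rw [show closure ({η} : Set Z) = T from hη.def]
    exact (hd T hT).ge

theorem fibreDimAt_eq {X S : Scheme.{u}} (f : X ⟶ S) [LocallyOfFiniteType f] (d : ℕ)
    (hdim : ∀ s : ↥S, ∀ T ∈ irreducibleComponents ↥(f.fiber s), topologicalKrullDim ↥T = d) (x : X) :
    FlatMor.fibreDimAt f x = (d : WithBot ℕ∞) := by
  haveI : LocallyOfFiniteType (f.fiberToSpecResidueField (f x)) :=
    MorphismProperty.pullback_snd _ _ ‹LocallyOfFiniteType f›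
  exact localDim_eq_of_components (f.fiberToSpecResidueField (f x)) d (hdim (f x)) _

theorem notMem_support_of_smoothLocus {X S : Scheme.{u}} (f : X ⟶ S) [LocallyOfFinitePresentation f]
    [QuasiSeparated f] (d : ℕ) (x : X) (hd : FlatMor.fibreDimAt f x = (d : WithBot ℕ∞))
    (hx : x ∈ f.smoothLocus) : x ∉ (Fitt.sheafIdeal (Omega.sheaf f) d).support := by
  obtain ⟨-, U, n, hxU, ⟨i⟩, hn⟩ :=
    (Groth.L05.OmegaRank.mem_smoothLocus_iff (Groth.L19.OmegaSh.isUniversal_dOmega (f := f)) x).1 hx
  obtain rfl : n = d := by exact_mod_cast hn.symm.trans hd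
  have hcoh := Groth.L15.OmegaCoh.isCoh_omega f
  haveI : Coh.IsQCoh (Omega.sheaf f) := hcoh.1
  obtain ⟨W, hW, hxW, hWU⟩ := exists_isAffineOpen_mem_and_subset (x := x) (U := U) hxU
  obtain ⟨φ, hs, hinj⟩ := Groth.L15.FittSheaf.exists_sections_of_free_hom (Omega.sheaf f) i.inv hW hWU
  rw [Groth.L15.FittSheaf.notMem_support_iff (Omega.sheaf f) hcoh.2 n (U := ⟨W, hW⟩) hxW]
  let b : Module.Basis (ULift.{u} (Fin n)) Γ(X, W) Γ(Omega.sheaf f, W) :=
    Module.Basis.ofRepr (LinearEquiv.ofBijective φ ⟨hinj inferInstance, hs⟩).symm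
  rw [Groth.L13.Fitting.ideal_of_basis (b.reindex Equiv.ulift) n, if_pos le_rfl]
  exact fun h => (hW.primeIdealOf ⟨x, hxW⟩).isPrime.ne_top (top_le_iff.1 h)

theorem mem_smoothLocus_field {k : Type u} [Field k] {Z : Scheme.{u}} (f : Z ⟶ Spec (CommRingCat.of k))
    [LocallyOfFinitePresentation f] [QuasiSeparated f] (d : ℕ) (z : Z)
    (hz : z ∉ (Fitt.sheafIdeal (Omega.sheaf f) d).support)
    (hd : (d : WithBot ℕ∞) ≤ FlatMor.localDim Z z) : z ∈ f.smoothLocus := by
  obtain ⟨W, hW, hzW, -⟩ := exists_isAffineOpen_mem_and_subset (x := z) (U := (⊤ : Z.Opens)) trivial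
  obtain ⟨hA, hφ⟩ := Groth.L07.GeomRedField.exists_field_algebra f hW
  letI := hA
  haveI : Algebra.FiniteType k Γ(Z, W) := by
    haveI : LocallyOfFiniteType (Spec.map (CommRingCat.ofHom (algebraMap k Γ(Z, W)))) := hφ ▸ inferInstance
    exact RingHom.finiteType_algebraMap.mp ((HasRingHomProperty.Spec_iff (P := @LocallyOfFiniteType)).1 this)
  have hcoh := Groth.L15.OmegaCoh.isCoh_omega f
  haveI : Coh.IsQCoh (Omega.sheaf f) := hcoh.1
  obtain ⟨e, -⟩ := Groth.L19.OmegaSh.exists_chart (Groth.L19.OmegaSh.isUniversal_dOmega (f := f))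
    hW.fromSpec (𝟙 (Spec (CommRingCat.of k))) (R := k) (A := Γ(Z, W)) (by rw [Category.comp_id]; exact hφ.symm)
  obtain ⟨a⟩ := Groth.L06.RelFPModules.sections_equiv (Omega.sheaf f) hW
    (ModuleCat.of Γ(Z, W) Ω[Γ(Z, W)⁄k]) e
  set p := hW.primeIdealOf ⟨z, hzW⟩ with hp
  rw [Groth.L15.FittSheaf.notMem_support_iff (Omega.sheaf f) hcoh.2 d (U := ⟨W, hW⟩) hzW] at hz
  haveI := Groth.L20.ModStalk.finite_sections (Omega.sheaf f) hcoh hW
  have hr := (Groth.Agent.S6894.result Γ(Omega.sheaf f, W) d p.asIdeal).1.1 hz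
  rw [Groth.L07.GeomRk.mem_smoothLocus_iff f hW hφ z hzW, Groth.L05.SmoothCrit.isSmoothAt_iff_rank_le]
  have h1 : Groth.L05.SmoothCrit.rank (k := k) p.asIdeal ≤ d := by
    unfold Groth.L05.SmoothCrit.rank
    rw [LinearEquiv.finrank_eq (TensorProduct.AlgebraTensorModule.congr (LinearEquiv.refl p.asIdeal.ResidueField
      p.asIdeal.ResidueField) a)]
    exact hr
  refine (le_trans (by exact_mod_cast h1) hd).trans_eq ?_
  have h2 := Groth.L23.localDim_eq_of_etale hW.fromSpec p
  exact ((congrArg (FlatMor.localDim Z) (hW.fromSpec_primeIdealOf ⟨z, hzW⟩)).symm.trans h2.symm)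


/-- Let f : X ⟶ S be flat, locally of finite presentation and quasi-separated, and d ≥ 0 such that all
irreducible components of each nonempty fibre of f have dimension d. Then the closed subset of X
defined by the Fitting ideal Fit_d(Ω_{X/S}) is exactly the set of points at which f is not smooth,
i.e. which have no open neighbourhood on which f is smooth. The published statement does not assume
f quasi-separated; this row does, because the module Ω_{X/S} used here is defined for
quasi-separated f. -/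
theorem result {X S : Scheme.{u}} (f : X ⟶ S) [Flat f] [LocallyOfFinitePresentation f] [QuasiSeparated f]
    (d : ℕ) (hdim : ∀ s : ↥S, ∀ T ∈ irreducibleComponents ↥(f.fiber s), topologicalKrullDim ↥T = d) (x : ↥X) :
    x ∈ (Fitt.sheafIdeal (Omega.sheaf f) d).support ↔ ¬ ∃ U : X.Opens, x ∈ U ∧ Smooth (U.ι ≫ f) := by
  have hd := fibreDimAt_eq f d hdim x
  have hsm : (∃ U : X.Opens, x ∈ U ∧ Smooth (U.ι ≫ f)) ↔ x ∈ f.smoothLocus :=
    (Groth.L20.SmoothAt.mem_smoothLocus_iff_exists f x).symm
  rw [hsm]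
  refine ⟨fun hx h => notMem_support_of_smoothLocus f d x hd h hx, fun h => by_contra fun hx => h ?_⟩
  let t := S.fromSpecResidueField (f x)
  haveI : LocallyOfFinitePresentation (f.fiberToSpecResidueField (f x)) :=
    MorphismProperty.pullback_snd _ _ ‹LocallyOfFinitePresentation f›
  haveI : QuasiSeparated (pullback.snd f t) := MorphismProperty.pullback_snd _ _ ‹QuasiSeparated f›
  haveI : QuasiSeparated (f.fiberToSpecResidueField (f x)) :=
    MorphismProperty.pullback_snd _ _ ‹QuasiSeparated f›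
  haveI : LocallyOfFinitePresentation (pullback.snd f t) :=
    MorphismProperty.pullback_snd _ _ ‹LocallyOfFinitePresentation f›
  refine (Groth.Agent.S2156.result f x).mpr ⟨Flat.stalkMap f x, ?_⟩
  refine mem_smoothLocus_field (f.fiberToSpecResidueField (f x)) d (f.asFiber x) ?_ hd.ge
  intro hmem
  have h8 := Groth.Agent.S8917.result f t d
  have hmem' : f.asFiber x ∈ ((Fitt.sheafIdeal (Omega.sheaf f) d).comap (pullback.fst f t)).support := by
    rw [h8]; exact hmem
  rw [Scheme.IdealSheafData.support_comap] at hmem'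
  apply hx
  have := f.fiberι_asFiber x
  exact this ▸ hmem'


end Groth.Agent.S8916
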