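import Groth.Statements.S8921
import Groth.Agent.L07.ConormalPair
import Groth.Agent.L07.ConormalSplitScheme
import Groth.Agent.L14.RegImmStalk.Pair
import Groth.Agent.L25.TrivLocus

set_option autoImplicit false
set_option linter.style.haveILetI false
universe u
open CategoryTheory CategoryTheory.Limits AlgebraicGeometry TopologicalSpace
open SDiv

namespace Groth.Agent.S8921

/-- Let i : Z ⟶ Y and j : Y ⟶ X be immersions of schemes with X locally Noetherian, z a point of Z with
images y = i z and x, and a : i^*C_{Y/X} ⟶ C_{Z/X}, b : C_{Z/X} ⟶ C_{Z/Y} the canonical maps of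
conormal sheaves. The following are equivalent: (1) i is regular near z and j is regular near y; (2)
i and j ∘ i are regular near z; (3) j ∘ i is regular near z and the sequence 0 → i^*C_{Y/X} →
C_{Z/X} → C_{Z/Y} → 0 is split short exact over some open neighbourhood of z. Both immersions are
quasi-compact automatically, X being locally Noetherian; the quasi-compactness binders only make the
conormal sheaves available. -/
theorem result {Z Y X : Scheme.{u}} (i : Z ⟶ Y) (j : Y ⟶ X) [IsImmersion i] [IsImmersion j]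
    [QuasiCompact i] [QuasiCompact j]
    (a : (Scheme.Modules.pullback i).obj (Omega.conormal j) ⟶ Omega.conormal (i ≫ j))
    (ha : OmegaSh.IsConormalMap (i ≫ j) j (𝟙 X) i a)
    (b : (Scheme.Modules.pullback (𝟙 Z)).obj (Omega.conormal (i ≫ j)) ⟶ Omega.conormal i)
    (hb : OmegaSh.IsConormalMap i (i ≫ j) j (𝟙 Z) b)
    [IsLocallyNoetherian X] (z : ↥Z) :
    ((RegImm.IsRegularImmersionAt RegImm.Kind.regular i z ∧ RegImm.IsRegularImmersionAt RegImm.Kind.regular j (i z)) ↔
      (RegImm.IsRegularImmersionAt RegImm.Kind.regular i z ∧ RegImm.IsRegularImmersionAt RegImm.Kind.regular (i ≫ j) z)) ∧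
    ((RegImm.IsRegularImmersionAt RegImm.Kind.regular i z ∧ RegImm.IsRegularImmersionAt RegImm.Kind.regular (i ≫ j) z) ↔
      (RegImm.IsRegularImmersionAt RegImm.Kind.regular (i ≫ j) z ∧
        ∃ U : Z.Opens, z ∈ U ∧
          ∀ w : (Scheme.Modules.restrictFunctor U.ι).map a ≫ (Scheme.Modules.restrictFunctor U.ι).map ((Scheme.Modules.pullbackId Z).inv.app (Omega.conormal (i ≫ j)) ≫ b) = 0,
            Nonempty (ShortComplex.mk ((Scheme.Modules.restrictFunctor U.ι).map a) ((Scheme.Modules.restrictFunctor U.ι).map ((Scheme.Modules.pullbackId Z).inv.app (Omega.conormal (i ≫ j)) ≫ b)) w).Splitting)) := by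
  haveI : IsLocallyNoetherian Y := LocallyOfFiniteType.isLocallyNoetherian j
  haveI : LocallyOfFinitePresentation j := Groth.L25.TrivLocus.lfp_of_noetherian j
  have st : ∀ (k : RegImm.Kind) {A B : Scheme.{u}} (f : A ⟶ B) [IsLocallyNoetherian B] [IsImmersion f] (a : A),
      RegImm.IsRegularImmersionAt RegImm.Kind.regular f a → RegImm.IsRegularImmersionAt k f a :=
    fun k A B f _ _ a h => (Groth.L14.RegImmStalk.regularAt_iff_stalk f k a).2
      ((Groth.L14.RegImmStalk.regularAt_iff_stalk f _ a).1 h)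
  have hpair : (RegImm.IsRegularImmersionAt RegImm.Kind.regular i z ∧ RegImm.IsRegularImmersionAt RegImm.Kind.regular j (i z)) ↔
      (RegImm.IsRegularImmersionAt RegImm.Kind.regular i z ∧ RegImm.IsRegularImmersionAt RegImm.Kind.regular (i ≫ j) z) := by
    rw [Groth.L14.RegImmStalk.regularAt_iff_stalk i, Groth.L14.RegImmStalk.regularAt_iff_stalk j,
      Groth.L14.RegImmStalk.regularAt_iff_stalk (i ≫ j)]
    have e : (RingHom.ker ((i ≫ j).stalkMap z).hom : Ideal (X.presheaf.stalk (j (i z)))) =
        (RingHom.ker (i.stalkMap z).hom).comap (j.stalkMap (i z)).hom := by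
      rw [RingHom.comap_ker]
      exact congrArg (fun φ : X.presheaf.stalk (j (i z)) ⟶ Z.presheaf.stalk z => RingHom.ker φ.hom)
        (Scheme.Hom.stalkMap_comp i j z)
    erw [e]
    haveI := Groth.L14.RegImmStalk.isNoetherianRing_stalk' (j (i z))
    haveI := Groth.L14.RegImmStalk.isNoetherianRing_stalk' (i z)
    exact Groth.L14.RegImmStalk.pair_iff (j.stalkMap (i z)).hom (j.stalkMap_surjective (i z)) _ (RingHom.ker_ne_top _)
  obtain ⟨w, hex, he⟩ := Groth.L19.OmegaSh.exact_conormal_comp a ha b hb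
  refine ⟨hpair, fun h => ⟨h.2, ?_⟩, fun h => ⟨?_, h.1⟩⟩
  · haveI : Epi (ShortComplex.mk a _ w).g := he
    obtain ⟨V, hzV, hclV, rs, hrs, hker⟩ := st RegImm.Kind.h1 i z h.1
    obtain ⟨U₁, n, hz₁, ⟨e⟩⟩ := Groth.L07.ConormalPair.exists_free_conormal i z V rs.get hzV hclV
      (Groth.L14.RegImmStalk.isQuasiRegular_of_h1 hrs) (by rw [hker, Set.range_list_get])
    haveI : Coh.IsQCoh (Omega.conormal i) := Groth.L16.AffineBC.isQCoh_pullback i _
    haveI : Coh.IsQCoh (Omega.conormal (i ≫ j)) := Groth.L16.AffineBC.isQCoh_pullback (i ≫ j) _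
    exact Groth.L07.ConormalPair.exists_splitting hex z (i ⁻¹ᵁ V.1) hzV
      (fun x O hx hO => Groth.L07.ConormalPair.exists_injective_conormal i j a ha V.2 hclV rs hrs hker x O hx hO)
      U₁ hz₁ e
  · obtain ⟨hij, U, hzU, hsplit⟩ := h
    obtain ⟨sp⟩ := hsplit ((((Scheme.Modules.restrictFunctor U.ι).map_comp _ _).symm.trans (congrArg _ w)).trans ((Scheme.Modules.restrictFunctor U.ι).map_zero _ _))
    exact (Groth.L14.RegImmStalk.regularAt_iff_stalk i _ z).2
      ((Groth.L14.RegImmStalk.regularAt_iff_stalk i RegImm.Kind.quasi z).1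
        (Groth.L07.ConormalSplit.regularAt_of_retraction (k := RegImm.Kind.quasi) (by decide) i j a ha z U hzU sp.r
          sp.f_r (st _ (i ≫ j) z hij) (fun hk => nomatch hk)))

end Groth.Agent.S8921
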