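import Groth.Statements.S8922
import Groth.Agent.S12131
import Groth.Agent.L07.FittStrict
import Groth.Agent.L20.BlowFlat.Sections
import Groth.Agent.L29.DCoh.GenPush
import Groth.Agent.L16.CycCov.Branch
import Groth.Agent.L16.QcqsPush

set_option autoImplicit false
set_option linter.style.haveILetI false
set_option backward.isDefEq.respectTransparency false
universe u
open CategoryTheory CategoryTheory.Limits AlgebraicGeometry TopologicalSpace
open SDiv

namespace Groth.Agent.S8922

theorem app_injective_of_isIso {Y : Scheme.{u}} {M N : Y.Modules} (φ : M ⟶ N) [IsIso φ] (V : Y.Opens) :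
    Function.Injective (φ.app V) :=
  (ConcreteCategory.bijective_of_isIso (φ.app V)).1

theorem exists_strict {X Y X' Y' : Scheme.{u}} (g : X ⟶ Y) [IsAffineHom g] (g' : X' ⟶ Y') (pX : X' ⟶ X)
    (pY : Y' ⟶ Y) (sq : IsPullback pX g' g pY) (𝓙 : Y.IdealSheafData) (F : X.Modules) [Coh.IsQCoh F]
    (hloc : Groth.L20.BlowFlat.LocPrincipal (BlowUp.exceptional pX (𝓙.comap g)))
    (F' : X'.Modules) (π : (Scheme.Modules.pullback pX).obj F ⟶ F')
    (hπ : BlowUp.IsStrictTransform pX (𝓙.comap g) F F' π) :
    ∃ π' : (Scheme.Modules.pullback pY).obj ((Scheme.Modules.pushforward g).obj F) ⟶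
        (Scheme.Modules.pushforward g').obj F',
      BlowUp.IsStrictTransform pY 𝓙 ((Scheme.Modules.pushforward g).obj F)
        ((Scheme.Modules.pushforward g').obj F') π' := by
  haveI : IsAffineHom g' := MorphismProperty.of_isPullback sq inferInstance
  have hθ := Groth.Agent.S12131.result g pY pX g' sq F
  haveI := hπ.1
  haveI : Coh.IsQCoh F' := Groth.L20.BlowFlat.isQCoh_strict inferInstance hloc hπ
  haveI : Coh.IsQCoh ((Scheme.Modules.pullback pX).obj F) := Groth.L16.AffineBC.isQCoh_pullback pX F
  haveI := Groth.L29.DC.GenPush.epi_push_map g' π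
  let θ := (((Scheme.Modules.pullbackPushforwardAdjunction pY).homEquiv ((Scheme.Modules.pushforward g).obj F)
        ((Scheme.Modules.pushforward g').obj ((Scheme.Modules.pullback pX).obj F))).symm
      ((Scheme.Modules.pushforward g).map ((Scheme.Modules.pullbackPushforwardAdjunction pX).unit.app F) ≫
        (Scheme.Modules.pushforwardComp pX g).hom.app ((Scheme.Modules.pullback pX).obj F) ≫
        (Scheme.Modules.pushforwardCongr sq.w).hom.app ((Scheme.Modules.pullback pX).obj F) ≫
        (Scheme.Modules.pushforwardComp g' pY).inv.app ((Scheme.Modules.pullback pX).obj F)))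
  haveI : IsIso θ := hθ
  haveI : Epi θ := @IsIso.epi_of_iso _ _ _ _ θ hθ
  refine ⟨θ ≫ (Scheme.Modules.pushforward g').map π, @epi_comp _ _ _ _ _ θ ‹_› _ ‹_›, fun V m => ?_⟩
  let W : X'.affineOpens := ⟨g' ⁻¹ᵁ V.1, V.2.preimage g'⟩
  have hE : BlowUp.exceptional pX (𝓙.comap g) = (BlowUp.exceptional pY 𝓙).comap g' := by
    show (𝓙.comap g).comap pX = (𝓙.comap pY).comap g'
    rw [← Scheme.IdealSheafData.comap_comp, ← Scheme.IdealSheafData.comap_comp, sq.w]
  refine (hπ.2 W (θ.app V.1 m)).trans ?_
  refine exists_congr fun n => ?_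
  rw [hE, Scheme.IdealSheafData.ideal_pow, Pi.pow_apply, Scheme.IdealSheafData.ideal_pow, Pi.pow_apply,
    Groth.L16.CycCov.comap_ideal_app, ← Ideal.map_pow]
  constructor
  · intro h a ha
    apply app_injective_of_isIso θ V.1
    rw [Scheme.Modules.Hom.app_smul, map_zero]
    exact h _ (Ideal.mem_map_of_mem _ ha)
  · intro h a ha
    induction ha using Submodule.span_induction with
    | mem x hx =>
      obtain ⟨c, hc, rfl⟩ := hx
      exact ((Scheme.Modules.Hom.app_smul θ c m).symm.trans (congrArg (θ.app V.1) (h c hc))).trans (map_zero _)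
    | zero => exact zero_smul _ _
    | add x y _ _ hx hy => rw [add_smul, hx, hy, add_zero]
    | smul c x _ hx => rw [smul_eq_mul, mul_smul, hx, smul_zero]

/-- Let S be a scheme, 𝓘 a quasi-coherent ideal sheaf on S with closed subscheme Z, b : S' ⟶ S a blowing
up of S in Z, g : X ⟶ Y an affine morphism of schemes over S, F a quasi-coherent O_X-module, and π :
pr_X^*F ⟶ F' a strict transform of F along b (on X ×_S S'). Write g' : X ×_S S' ⟶ Y ×_S S' for the
base change of g. Then g'_*F' is a strict transform of g_*F along b: there is an epimorphism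
pr_Y^*(g_*F) ⟶ g'_*F' whose kernel consists, affine-locally, exactly of the sections annihilated by
a power of the inverse image of 𝓘. The published statement identifies g'_*F' with the strict
transform through the canonical base-change isomorphism; this row asserts only that some epimorphism
from pr_Y^*(g_*F) onto g'_*F' has the strict-transform property. -/
theorem result {X Y S S' : Scheme.{u}} (hX : X ⟶ S) (hY : Y ⟶ S) (g : X ⟶ Y) [IsAffineHom g]
    (h : g ≫ hY = hX) (𝓘 : S.IdealSheafData) (b : S' ⟶ S) (hb : BlowUp.IsBlowUp b 𝓘) (F : X.Modules) (hF : Coh.IsQCoh F)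
    (F' : (pullback hX b).Modules) (π : (Scheme.Modules.pullback (pullback.fst hX b)).obj F ⟶ F')
    (hπ : BlowUp.IsStrictTransform (pullback.fst hX b) (𝓘.comap hX) F F' π) :
    ∃ π' : (Scheme.Modules.pullback (pullback.fst hY b)).obj ((Scheme.Modules.pushforward g).obj F) ⟶
        (Scheme.Modules.pushforward (pullback.map hX b hY b g (𝟙 S') (𝟙 S)
          ((Category.comp_id hX).trans h.symm) ((Category.comp_id b).trans (Category.id_comp b).symm))).obj F',
      BlowUp.IsStrictTransform (pullback.fst hY b) (𝓘.comap hY) ((Scheme.Modules.pushforward g).obj F)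
        ((Scheme.Modules.pushforward (pullback.map hX b hY b g (𝟙 S') (𝟙 S)
          ((Category.comp_id hX).trans h.symm) ((Category.comp_id b).trans (Category.id_comp b).symm))).obj F') π' := by
  subst h
  haveI := hF
  refine exists_strict g _ (pullback.fst (g ≫ hY) b) (pullback.fst hY b) ?_ (𝓘.comap hY) F ?_ F' π ?_
  · refine IsPullback.of_bot ?_ ?_ (IsPullback.of_hasPullback hY b)
    · simpa using IsPullback.of_hasPullback (g ≫ hY) b
    · simp
  · intro x
    show ∃ (V : (pullback (g ≫ hY) b).affineOpens) (t : Γ(pullback (g ≫ hY) b, V.1)), x ∈ V.1 ∧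
      (((𝓘.comap hY).comap g).comap (pullback.fst (g ≫ hY) b)).ideal V = Ideal.span {t}
    rw [← Scheme.IdealSheafData.comap_comp, ← Scheme.IdealSheafData.comap_comp, Category.assoc, pullback.condition,
      Scheme.IdealSheafData.comap_comp]
    obtain ⟨U, hxU, t, -, hU⟩ := hb.1 (pullback.snd (g ≫ hY) b x)
    obtain ⟨_, ⟨V, hV, rfl⟩, hxV, hVU⟩ := (pullback (g ≫ hY) b).isBasis_affineOpens.exists_subset_of_mem_open
      (show x ∈ pullback.snd (g ≫ hY) b ⁻¹ᵁ U.1 from hxU) (pullback.snd (g ≫ hY) b ⁻¹ᵁ U.1).2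
    refine ⟨⟨V, hV⟩, (pullback.snd (g ≫ hY) b).appLE U.1 V hVU t, hxV, ?_⟩
    rw [Groth.L22.Ideals.comap_ideal _ _ U ⟨V, hV⟩ hVU, hU, Ideal.map_span, Set.image_singleton]
  · rw [← Scheme.IdealSheafData.comap_comp]
    exact hπ

end Groth.Agent.S8922
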