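import Groth.Statements.S8923
import Groth.Agent.L22.Cyc.DivSupport
import Groth.Agent.L22.Cyc.Ord
import Groth.Agent.L03.Euler.Twist
import Groth.Agent.L20.ModStalk

set_option autoImplicit false
universe u
open CategoryTheory CategoryTheory.Limits AlgebraicGeometry TopologicalSpace
open SDiv

namespace Groth.Agent.S8923

open Groth.L18.Frame (rs ro)

theorem stalkSpecializes_smul {X : Scheme.{u}} (M : X.Modules) {x y : X} (h : y ⤳ x) (r : X.presheaf.stalk x)
    (m : M.presheaf.stalk x) :
    M.presheaf.stalkSpecializes h (r • m) = X.presheaf.stalkSpecializes h r • M.presheaf.stalkSpecializes h m := by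
  obtain ⟨U, hU, a, rfl⟩ := TopCat.Presheaf.exists_germ_eq (F := X.presheaf) (x := x) r
  obtain ⟨V, hV, n, rfl⟩ := TopCat.Presheaf.exists_germ_eq (F := M.presheaf) (x := x) m
  have hx : x ∈ U ⊓ V := ⟨hU, hV⟩
  rw [← Groth.L20.ModStalk.germ_rs M (inf_le_right : U ⊓ V ≤ V) hx n,
    ← TopCat.Presheaf.germ_res_apply X.presheaf (homOfLE (inf_le_left : U ⊓ V ≤ U)) x hx a,
    ← Groth.L20.ModStalk.germ_smul, TopCat.Presheaf.germ_stalkSpecializes_apply,
    TopCat.Presheaf.germ_stalkSpecializes_apply, TopCat.Presheaf.germ_stalkSpecializes_apply,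
    Groth.L20.ModStalk.germ_smul]


/-- Let X be an integral scheme that is locally Noetherian, L an invertible O_X-module and s a nonzero
rational (regular meromorphic) section of L, viewed as a nonzero element of the stalk of L at the
generic point. Then the collection of prime divisors Z ⊆ X with ord_{Z,L}(s) ≠ 0, i.e. the closures
of the codimension-1 points x (dim O_{X,x} = 1) along which s has nonzero order, is locally finite
in X. -/
theorem result (X : Scheme.{u}) [IsIntegral X] [IsLocallyNoetherian X] (L : X.Modules)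
    (hL : PicF.IsInvertible L) (s : Cyc.secFibre L (genericPoint ↥X)) (hs : s ≠ 0) :
    LocallyFinite (fun x : {x : ↥X // ringKrullDim ↑(X.presheaf.stalk x) = 1 ∧
        Cyc.secOrdAt L (genericPoint ↥X) x ((genericPoint_spec ↥X).specializes (Set.mem_univ x)) s ≠ 0} => closure ({x.1} : Set ↥X)) := by
  classical
  revert hs
  revert s
  set η := genericPoint ↥X with hη
  intro s hs
  intro x₀
  obtain ⟨U, e, hxU, he⟩ := Groth.L18.Frame.exists_frame hL x₀
  obtain ⟨_, ⟨W, hW, rfl⟩, hx₀W, hWU⟩ :=
    X.isBasis_affineOpens.exists_subset_of_mem_open hxU U.2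
  change X.Opens at W
  replace hW : IsAffineOpen W := hW
  change W ≤ U at hWU
  haveI : Nonempty W := ⟨⟨x₀, hx₀W⟩⟩
  have hηW : η ∈ W := ((genericPoint_spec ↥X).specializes trivial).mem_open W.2 hx₀W
  have hspan : ∀ {y : X} (hy : y ∈ U) (v : L.presheaf.stalk y),
      ∃ r : X.presheaf.stalk y, r • L.presheaf.germ U y hy e = v := by
    intro y hy v
    obtain ⟨V, hV, m, rfl⟩ := TopCat.Presheaf.exists_germ_eq (F := L.presheaf) (x := y) v
    have hVU : y ∈ V ⊓ U := ⟨hV, hy⟩
    obtain ⟨d, hd⟩ := he.exists_coeff (inf_le_right : V ⊓ U ≤ U) (rs L inf_le_left m)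
    refine ⟨X.presheaf.germ _ y hVU d, ?_⟩
    rw [← Groth.L20.ModStalk.germ_rs L (inf_le_left : V ⊓ U ≤ V) hVU m, ← hd,
      Groth.L20.ModStalk.germ_smul, Groth.L20.ModStalk.germ_rs]
  let eη : Cyc.secFibre L η := Submodule.Quotient.mk (L.presheaf.germ U η (hWU hηW) e)
  obtain ⟨φ₀, hφ₀⟩ : ∃ φ₀ : X.presheaf.stalk η, s = φ₀ • eη := by
    obtain ⟨v, rfl⟩ := Submodule.mkQ_surjective _ s
    obtain ⟨r, rfl⟩ := hspan (hWU hηW) v
    exact ⟨r, rfl⟩
  have hφ0 : φ₀ ≠ 0 := fun h => hs (by rw [hφ₀, h, zero_smul])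
  have he0 : eη ≠ 0 := fun h => hs (by rw [hφ₀, h, smul_zero])
  haveI := functionField_isFractionRing_of_isAffineOpen X W hW
  obtain ⟨a, b, hb, hab⟩ := IsFractionRing.div_surjective (A := Γ(X, W)) (K := X.functionField) φ₀
  letI : Field (X.presheaf.stalk η) := inferInstanceAs (Field X.functionField)
  let g : Γ(X, W) →+* X.presheaf.stalk η := (X.presheaf.germ W η hηW).hom
  have hg : Function.Injective g := germ_injective_of_isIntegral X η hηW
  have hgb : g b ≠ 0 := (map_ne_zero_iff g hg).2 (nonZeroDivisors.ne_zero hb)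
  have hab' : φ₀ * g b = g a := (div_eq_iff hgb).1 hab |>.symm
  have hga : g a ≠ 0 := hab' ▸ mul_ne_zero hφ0 hgb
  let Z : Set X := ((X.basicOpen a ⊓ X.basicOpen b : X.Opens) : Set X)ᶜ
  have hηZ : η ∉ Z := fun h => h ⟨(X.mem_basicOpen a η hηW).2 (isUnit_iff_ne_zero.2 hga),
    (X.mem_basicOpen b η hηW).2 (isUnit_iff_ne_zero.2 hgb)⟩
  refine ⟨(W : Set X), W.2.mem_nhds hx₀W, Set.Finite.of_finite_image (f := fun x => x.1)
    ((Groth.L22.Cyc.finite_maximal hW (Z := Z) (X.basicOpen a ⊓ X.basicOpen b).2.isClosed_compl).subset ?_)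
    Subtype.val_injective.injOn⟩
  rintro _ ⟨⟨x, hdim, hord⟩, ⟨z, hz1, hz2⟩, rfl⟩
  have hxW : x ∈ W := (specializes_iff_mem_closure.2 hz1).mem_open W.2 hz2
  haveI : Ring.KrullDimLE 1 (X.presheaf.stalk x) := Ring.krullDimLE_iff.2 (by rw [hdim]; rfl)
  refine ⟨hxW, fun hU => hord ?_, fun y hy hyx => ?_⟩
  · have hua := (X.mem_basicOpen a x hxW).1 hU.1
    have hub := (X.mem_basicOpen b x hxW).1 hU.2
    have hsp := (genericPoint_spec ↥X).specializes (Set.mem_univ x)
    rw [Cyc.secOrdAt]
    split_ifs with ht hφ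
    · obtain ⟨d, hd⟩ := hspan (hWU hxW) (Classical.choose ht)
      have hdu : IsUnit d := by
        obtain ⟨c, hc⟩ := Submodule.mem_span_singleton.1
          ((Classical.choose_spec ht).ge (Submodule.mem_top (x := L.presheaf.germ U x (hWU hxW) e)))
        refine IsUnit.of_mul_eq_one c ?_
        by_contra hne
        have h1 : (d * c - 1) • L.presheaf.germ U x (hWU hxW) e = 0 := by
          rw [sub_smul, one_smul, mul_comm, mul_smul, hd, hc, sub_self]
        refine he0 ?_
        have h2 := congrArg (L.presheaf.stalkSpecializes hsp) h1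
        rw [map_zero, stalkSpecializes_smul,
          TopCat.Presheaf.germ_stalkSpecializes_apply] at h2
        have h3 : (X.presheaf.stalkSpecializes hsp) (d * c - 1) ≠ 0 :=
          (map_ne_zero_iff _ (IsFractionRing.injective (X.presheaf.stalk x) X.functionField)).2 (sub_ne_zero.2 hne)
        show Submodule.Quotient.mk _ = 0
        rw [((isUnit_iff_ne_zero.2 h3).smul_eq_zero).1 h2, Submodule.Quotient.mk_zero]
      have hchoose := Classical.choose_spec hφ
      have key : Classical.choose hφ * X.presheaf.stalkSpecializes hsp d = φ₀ := by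
        by_contra hne
        refine he0 (((isUnit_iff_ne_zero.2 (sub_ne_zero.2 hne)).smul_eq_zero (x := eη)).1 ?_)
        rw [sub_smul, sub_eq_zero, ← hφ₀]
        refine Eq.trans ?_ hchoose.symm
        rw [mul_smul]
        refine congrArg (Classical.choose hφ • ·) ?_
        refine Eq.trans ?_ (congrArg (fun v => Submodule.Quotient.mk (L.presheaf.stalkSpecializes hsp v)) hd)
        show _ = Submodule.Quotient.mk (L.presheaf.stalkSpecializes hsp _)
        rw [stalkSpecializes_smul, TopCat.Presheaf.germ_stalkSpecializes_apply, Submodule.Quotient.mk_smul]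
      have hd0 : X.presheaf.stalkSpecializes hsp d ≠ 0 :=
        (hdu.map (X.presheaf.stalkSpecializes hsp).hom).ne_zero
      have hsa : ∀ c, X.presheaf.stalkSpecializes hsp (X.presheaf.germ W x hxW c) = g c := fun c =>
        TopCat.Presheaf.germ_stalkSpecializes_apply _ hxW hsp c
      have h5 : X.residue η (Classical.choose hφ) =
          Cyc.specMap x η hsp (X.presheaf.germ W x hxW a) /
            Cyc.specMap x η hsp (X.presheaf.germ W x hxW b * d) := by
        show _ = X.residue η (X.presheaf.stalkSpecializes hsp _) / X.residue η (X.presheaf.stalkSpecializes hsp _)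
        rw [map_mul, hsa, hsa, ← map_div₀ (X.residue η).hom]
        congr 1
        rw [eq_div_iff (mul_ne_zero hgb hd0), ← hab', ← key]
        ring
      rw [h5, Groth.L22.Cyc.ordAt_div x hsp hua.ne_zero (hub.mul hdu).ne_zero,
        Ring.ord_of_isUnit hua, Ring.ord_of_isUnit (hub.mul hdu)]
      simp
    · rfl
    · rfl
  · by_contra hne
    obtain ⟨p, hp⟩ : ∃ p, X.fromSpecStalk x p = y := Scheme.range_fromSpecStalk.ge hyx
    rcases eq_or_ne p.asIdeal ⊥ with h0 | h0
    · refine hηZ ?_
      have h1 : η ⤳ y := (genericPoint_spec ↥X).specializes trivial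
      obtain ⟨q, hq⟩ : ∃ q, X.fromSpecStalk x q = η :=
        Scheme.range_fromSpecStalk.ge ((genericPoint_spec ↥X).specializes trivial)
      have h2 : p ⤳ q := (PrimeSpectrum.le_iff_specializes p q).1 (show p.asIdeal ≤ q.asIdeal from h0 ▸ bot_le)
      have h3 := h2.map (X.fromSpecStalk x).continuous
      rw [hp, hq] at h3
      rwa [← (h3.antisymm h1).eq] 
    · haveI := p.2
      have h2 : p.asIdeal.IsMaximal := Ring.krullDimLE_one_iff_of_noZeroDivisors.1 inferInstance _ h0 p.2
      rw [show p = IsLocalRing.closedPoint _ from PrimeSpectrum.ext (IsLocalRing.eq_maximalIdeal h2),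
        Scheme.fromSpecStalk_closedPoint] at hp
      exact hne hp.symm

end Groth.Agent.S8923
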