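import Groth.Statements.S8925
import Groth.Agent.L04.Essential

set_option autoImplicit false
universe u
open InjHull

namespace Groth.Agent.S8925

/-- If S is a flat R-algebra and E is an injective S-module, then E, viewed as an R-module by
restriction of scalars, is an injective R-module. -/
theorem result (R S : Type u) [CommRing R] [CommRing S] [Algebra R S] [Module.Flat R S] (E : Type u) [AddCommGroup E] [Module S E] [Module R E] [IsScalarTower R S E] [Module.Injective S E] : Module.Injective R E := by
  refine Module.Baer.injective fun I g => ?_
  let φ : TensorProduct R S I →ₗ[S] E := TensorProduct.AlgebraTensorModule.lift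
    { toFun := fun s => s • g
      map_add' := fun a b => add_smul a b g
      map_smul' := fun a b => by ext; simp [mul_smul] }
  obtain ⟨h, hh⟩ := Module.Injective.out ((I.subtype).baseChange S)
    (Module.Flat.lTensor_preserves_injective_linearMap (M := S) I.subtype I.injective_subtype) φ
  refine ⟨(h.restrictScalars R).comp ((TensorProduct.mk R S R) 1), fun x hx => ?_⟩
  have := hh (TensorProduct.tmul R (1 : S) (⟨x, hx⟩ : I))
  simpa [φ] using this

end Groth.Agent.S8925
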