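import Groth.Statements.S8926
import Groth.Agent.L04.Essential

set_option autoImplicit false
universe u
open InjHull

namespace Groth.Agent.S8926

/-- Suppose R → S is an epimorphism of rings and E is an S-module whose underlying R-module (via
restriction of scalars) is injective; then E is injective as an S-module as well. -/
theorem result (R S : Type u) [CommRing R] [CommRing S] [Algebra R S] [Algebra.IsEpi R S] (E : Type u) [AddCommGroup E] [Module S E] [Module R E] [IsScalarTower R S E] [Module.Injective R E] : Module.Injective S E := by
  refine Module.Baer.injective fun I g => ?_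
  obtain ⟨h, hh⟩ := Module.Injective.out (R := R) (Q := E) ((I.subtype).restrictScalars R)
    I.injective_subtype (g.restrictScalars R)
  refine ⟨{ toFun := h, map_add' := map_add h, map_smul' := fun s x => ?_ }, fun x hx => hh ⟨x, hx⟩⟩
  have e := (Algebra.isEpi_iff_forall_one_tmul_eq R S).1 inferInstance s
  let b : S →ₗ[R] S →ₗ[R] E := LinearMap.mk₂ R (fun a t => a • h (t * x))
    (fun a a' t => add_smul a a' _) (fun c a t => smul_assoc c a _)
    (fun a t t' => by simp [add_mul]) (fun c a t => by simp [smul_comm a c])
  simpa [b] using congrArg (TensorProduct.lift b) e

end Groth.Agent.S8926
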