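import Groth.Statements.S8936
import Groth.Agent.L04.Essential

set_option autoImplicit false
universe u v
open InjHull

namespace Groth.Agent.S8936

/-- For a directed system (E_i) of R-modules over a nonempty directed preorder and a compatible family
of essential injections M → E_i, the induced map from M to the direct limit of the E_i is an
essential injection. -/
theorem result (R : Type u) [CommRing R] (ι : Type v) [Preorder ι] [IsDirectedOrder ι] [DecidableEq ι] (i₀ : ι) (E : ι → Type v) [∀ i, AddCommGroup (E i)] [∀ i, Module R (E i)] (f : ∀ i j, i ≤ j → E i →ₗ[R] E j) [DirectedSystem E fun i j h => f i j h] (M : Type v) [AddCommGroup M] [Module R M] (g : ∀ i, M →ₗ[R] E i) (hg : ∀ i j (h : i ≤ j), f i j h ∘ₗ g i = g j) (he : ∀ i, InjHull.IsEssentialInj (g i)) : InjHull.IsEssentialInj (Module.DirectLimit.of R ι E f i₀ ∘ₗ g i₀) := by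
  have hfg : ∀ i j (h : i ≤ j) m, f i j h (g i m) = g j m :=
    fun i j h m => LinearMap.congr_fun (hg i j h) m
  haveI : Nonempty ι := ⟨i₀⟩
  have hof : ∀ i m, Module.DirectLimit.of R ι E f i (g i m) =
      Module.DirectLimit.of R ι E f i₀ (g i₀ m) := fun i m => by
    obtain ⟨j, hij, h0j⟩ := exists_ge_ge i i₀
    rw [← Module.DirectLimit.of_f (hij := hij), hfg, ← Module.DirectLimit.of_f (hij := h0j), hfg]
  have hinj : Function.Injective (Module.DirectLimit.of R ι E f i₀ ∘ₗ g i₀) := by
    rw [← LinearMap.ker_eq_bot]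
    refine eq_bot_iff.2 fun m hm => ?_
    obtain ⟨j, hj, hj0⟩ := Module.DirectLimit.of.zero_exact (LinearMap.mem_ker.1 hm)
    rw [hfg] at hj0
    exact (he j).injective (by rw [hj0, map_zero])
  refine Groth.L04.isEssentialInj_of_smul hinj fun x hx => ?_
  obtain ⟨i, e, rfl⟩ := Module.DirectLimit.exists_of x
  obtain ⟨r, ⟨m, hm⟩, hr⟩ := Groth.L04.smul_of_isEssentialInj (he i) e
    (by rintro rfl; simp at hx)
  have h1 : r • Module.DirectLimit.of R ι E f i e =
      (Module.DirectLimit.of R ι E f i₀ ∘ₗ g i₀) m := by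
    rw [← map_smul, ← hm, hof]; rfl
  refine ⟨r, ⟨m, h1.symm⟩, fun h0 => hr ?_⟩
  have : m = 0 := hinj (by rw [← h1, h0, map_zero])
  rw [← hm, this, map_zero]

end Groth.Agent.S8936
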