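import Groth.Statements.S8937
import Groth.Agent.L04.Koszul.Punctured
import Groth.Agent.L13.ModPair.Basic
import Groth.Agent.L13.BlowUp.Proper
import Groth.Agent.L19.VanishFibre.Noetherian
import Groth.Agent.L17.AffinePush
import Groth.Agent.L16.QcqsPush
import Groth.Agent.L18.TildeFunctor

set_option autoImplicit false
universe u
open CategoryTheory AlgebraicGeometry
attribute [local instance] HasDerivedCategory.standard
open LocCoh

namespace Groth.Agent.S8937

theorem puncturedOpen_eq_compl (A : Type u) [CommRing A] (I : Ideal A) :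
    LocCoh.puncturedOpen A I = (Curv2.idealSheaf A I).support.compl := by
  ext x
  have h : ((Curv2.idealSheaf A I).support : Set (Spec (CommRingCat.of A))) =
      (PrimeSpectrum.zeroLocus (I : Set A) : Set (PrimeSpectrum A)) := by
    show (Spec (CommRingCat.of A)).zeroLocus (U := ⊤)
      ((I.map (Scheme.ΓSpecIso (CommRingCat.of A)).inv.hom : Ideal _) : Set _) = _
    rw [Ideal.map, Scheme.zeroLocus_span]
    exact Spec_zeroLocus_eq_zeroLocus _
  show x ∈ (PrimeSpectrum.zeroLocus (I : Set A))ᶜ ↔ x ∈ ((Curv2.idealSheaf A I).support : Set _)ᶜ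
  rw [h]
  exact Iff.rfl

theorem isFiniteType (A : Type u) [CommRing A] [IsNoetherianRing A] (J : (Spec (CommRingCat.of A)).IdealSheafData) :
    BlowUp.IsFiniteTypeIdeal J := fun U => by
  haveI : IsNoetherianRing Γ(Spec (CommRingCat.of A), U.1) := IsLocallyNoetherian.component_noetherian U
  exact IsNoetherian.noetherian _

theorem result (A : Type u) [CommRing A] [IsNoetherianRing A] (I : Ideal A) (X : Scheme.{u}) (b : X ⟶ Spec (CommRingCat.of A)) (hb : BlowUp.IsBlowUp b (Curv2.idealSheaf A I)) (d : ℕ) (hd : Dual3.FibreDimLE b d) : LocCoh.CdLE A I (d + 1) := by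
  intro M _ _ i hi
  obtain ⟨p, rfl⟩ : ∃ p, i = p + 1 := ⟨i - 1, by omega⟩
  obtain ⟨eH⟩ := Groth.L04.Koszul.Cech.nonempty_hhon_punctured_localCohomology I (ModuleCat.of A M) p (by omega)
  refine @Equiv.subsingleton _ _ eH.symm.toEquiv ?_
  rw [puncturedOpen_eq_compl]
  let J := Curv2.idealSheaf A I
  let U : (Spec (CommRingCat.of A)).Opens := J.support.compl
  haveI : IsProper b := Groth.L13.BU.isProper_blowUp hb (isFiniteType A J)
  haveI := Groth.L22.Ideals.isIso_restrict_compl hb
  haveI hj : IsAffineHom (b ⁻¹ᵁ J.support.compl).ι := by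
    have := Groth.L13.MP.isAffineHom_interior hb.1
    rw [Groth.L13.MP.interior_comap] at this
    exact this
  let g : U.toScheme ⟶ X := inv (b ∣_ J.support.compl) ≫ (b ⁻¹ᵁ J.support.compl).ι
  haveI : IsAffineHom g := inferInstance
  let N := (tilde (R := CommRingCat.of A) (ModuleCat.of A M)).restrict U.ι
  haveI : Coh.IsQCoh (tilde (R := CommRingCat.of A) (ModuleCat.of A M)) := Groth.L18.TildeF.isQCoh_tilde _
  haveI : Coh.IsQCoh N := Scheme.Modules.isQuasicoherent_restrictFunctor _ _
  haveI : Coh.IsQCoh ((Coh.push g).obj N) := Groth.L16.QcqsPush.isQCoh_push N g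
  haveI : Subsingleton (Coh.HH X ((Coh.push g).obj N) p) :=
    Groth.L19.VanishFibre.subsingleton_HH_of_fibre_dim_le b hd _ (by omega)
  obtain ⟨e⟩ := Groth.L17.nonempty_HH_push_of_isAffineHom g N p
  exact e.toEquiv.subsingleton

end Groth.Agent.S8937
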