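import Groth.Statements.S8941
import Groth.Agent.L29.Dual.Coind

set_option autoImplicit false
set_option backward.isDefEq.respectTransparency false
universe u
open CategoryTheory CategoryTheory.Pretriangulated
attribute [local instance] HasDerivedCategory.standard
open Dual

namespace Groth.Agent.S8941

/-- Let A be a Noetherian local ring with normalized dualizing complex ω, f a nonzerodivisor in the
maximal ideal and B = A/(f); with R right adjoint to restriction of scalars D(B) → D(A) (so that
R(ω) is RHom_A(B, ω), a normalized dualizing complex for B), there is a distinguished triangle in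
D(A) with vertices R(ω) viewed over A, ω, ω, whose middle morphism ω → ω is multiplication by f. -/
theorem result (A : Type u) [CommRing A] [IsLocalRing A] [IsNoetherianRing A] (ω : Dual.D A) (hω : Dual.IsDualizing A ω) (hn : Dual.IsNormalized A ω) (f : A) (hf : f ∈ IsLocalRing.maximalIdeal A) (hf' : f ∈ nonZeroDivisors A) (R : Dual.D A ⥤ Dual.D (A ⧸ Ideal.span {f})) (adj : DRing.restrictD (Ideal.Quotient.mk (Ideal.span {f})) ⊣ R) : ∃ (u : (DRing.restrictD (Ideal.Quotient.mk (Ideal.span {f}))).obj (R.obj ω) ⟶ ω) (w : ω ⟶ ((DRing.restrictD (Ideal.Quotient.mk (Ideal.span {f}))).obj (R.obj ω))⟦(1 : ℤ)⟧), Triangle.mk u (f • 𝟙 ω) w ∈ distinguishedTriangles := by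
  open Groth.L29 in
  let φ := Ideal.Quotient.mk (Ideal.span {f})
  obtain ⟨a, b, hab0⟩ := hω.finite_injective_dimension
  haveI := Groth.L29.HomD.isGE_of_lower a fun M _ _ i hi => hab0 M i (Or.inl hi)
  obtain ⟨I, _, hinj, _, ⟨eI⟩⟩ := Groth.L29.HomD.exists_injRep ω a
  haveI : ∀ n, Injective (I.X n) := fun n =>
    haveI := hinj n
    Module.injective_object_of_injective_module A (I.X n)
  let N : ModuleCat.{u} A := Groth.L29.RestrictAdj.ringRes φ
  let g : A →ₗ[A] N :=
    { toFun := fun x => φ x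
      map_add' := fun x y => map_add φ x y
      map_smul' := fun x y => map_mul φ x y }
  let S : ShortComplex (ModuleCat.{u} A) := ShortComplex.mk
    (ModuleCat.ofHom (f • (LinearMap.id : A →ₗ[A] A))) (ModuleCat.ofHom (Y := (N : Type u)) g)
    (ModuleCat.hom_ext (LinearMap.ext fun x => Ideal.Quotient.eq_zero_iff_mem.2
      (Ideal.mem_span_singleton'.2 ⟨x, mul_comm x f⟩)))
  have hS : S.ShortExact :=
    { exact := by
        rw [ShortComplex.moduleCat_exact_iff]
        intro (x : A) hx
        obtain ⟨y, hy⟩ := Ideal.mem_span_singleton'.1 (Ideal.Quotient.eq_zero_iff_mem.1 hx)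
        exact ⟨y, (mul_comm f y).trans hy⟩
      mono_f := (ModuleCat.mono_iff_injective _).2 fun x y h =>
        sub_eq_zero.1 ((mul_left_mem_nonZeroDivisors_eq_zero_iff hf').1
          (by rw [mul_sub]; exact sub_eq_zero.2 h))
      epi_g := (ModuleCat.epi_iff_surjective _).2 fun (x : A ⧸ Ideal.span {f}) =>
        Ideal.Quotient.mk_surjective x }
  let T := DerivedCategory.triangleOfSES (Groth.L29.HomD.HMsc_shortExact I S hS)
  obtain ⟨e⟩ := Groth.L29.RestrictAdj.nonempty_coind_iso φ adj I
  let e1 : (DRing.restrictD φ).obj (R.obj ω) ≅ T.obj₁ :=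
    (DRing.restrictD φ).mapIso (R.mapIso eI.symm ≪≫ e.symm) ≪≫
      (ModuleCat.restrictScalars.{u} φ).mapDerivedCategoryFactors.app _ ≪≫
      DerivedCategory.Q.mapIso (Groth.L29.RestrictAdj.resCoindIso φ I)
  let e2 : ω ≅ T.obj₂ := eI.symm ≪≫ (DerivedCategory.Q.mapIso (Groth.L29.HomD.ringIso I)).symm
  have hmid : (f • 𝟙 ω) ≫ e2.hom = e2.hom ≫ T.mor₂ := by
    have h : T.mor₂ = f • 𝟙 T.obj₂ := by
      change DerivedCategory.Q.map (Groth.L29.HomD.HMmap I S.f) = f • 𝟙 (DerivedCategory.Q.obj _)
      rw [← CategoryTheory.Functor.map_id, ← DerivedCategory.Q.map_smul]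
      congr 1
      ext n : 1
      refine ModuleCat.hom_ext (LinearMap.ext fun ψ : ModuleCat.of A A ⟶ I.X n => ?_)
      exact ModuleCat.hom_ext (LinearMap.ext fun x : A => map_smul ψ.hom f x)
    rw [h, Linear.comp_smul, Category.comp_id, Linear.smul_comp, Category.id_comp]
  refine ⟨e1.hom ≫ T.mor₁ ≫ e2.inv, e2.hom ≫ T.mor₃ ≫ e1.inv⟦(1 : ℤ)⟧', ?_⟩
  refine Pretriangulated.isomorphic_distinguished T
    (DerivedCategory.triangleOfSES_distinguished _) _ ?_
  exact Pretriangulated.Triangle.isoMk _ _ e1 e2 e2 (by simp) hmid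
    (by simp [← Functor.map_comp])

end Groth.Agent.S8941
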