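import Groth.Statements.S8949
import Groth.Agent.L21.GorensteinFieldExt
import Groth.Agent.S0342

set_option autoImplicit false
universe u
open scoped TensorProduct
open Goren

namespace Groth.Agent.S8949

/-- Gorenstein fibres are preserved by composing with a regular map. For flat maps A → B → C of
Noetherian rings, if the fibres of A → B are Gorenstein rings and B → C is regular, then the fibres
of A → C are Gorenstein rings. -/
theorem result (A B C : Type u) [CommRing A] [CommRing B] [CommRing C] [IsNoetherianRing A] [IsNoetherianRing B] [IsNoetherianRing C] [Algebra A B] [Algebra B C] [Algebra A C] [IsScalarTower A B C] [Module.Flat A B] [Module.Flat B C] (hAB : ∀ (q : Ideal A) [q.IsPrime], LocCoh.IsGorensteinRing (q.Fiber B)) (hBC : CAlg.IsRegularHom B C) : ∀ (q : Ideal A) [q.IsPrime], LocCoh.IsGorensteinRing (q.Fiber C) := by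
  intro q _
  haveI : Module.Flat A C := Module.Flat.trans A B C
  haveI hN : IsNoetherianRing (q.Fiber C) := Groth.L21.GorensteinFieldExt.isNoetherianRing_fibreRing q
  refine { isGorensteinLocalRing_localization := fun P _ => ?_ }
  haveI : Module.Flat A C := Module.Flat.trans A B C
  obtain ⟨hl1, a1, l1, h1, f1, ⟨e1⟩⟩ := Groth.L07.CIFibre.exists_fibre_local q P
  let P' : Ideal C := P.comap (Algebra.TensorProduct.includeRight (R := A) (A := q.ResidueField) (B := C))
  let Q : Ideal B := P'.comap (algebraMap B C)
  haveI : Q.LiesOver q := ⟨by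
    rw [hl1.over]
    show _ = (P'.comap (algebraMap B C)).comap (algebraMap A B)
    rw [Ideal.comap_comap, ← IsScalarTower.algebraMap_eq]⟩
  obtain ⟨iAB, lAB, hAB', fAB, qB, hqB, ⟨eAB⟩⟩ := Groth.L07.CIFibre.exists_local_map q Q
  haveI : P'.LiesOver Q := ⟨rfl⟩
  obtain ⟨iBC, lBC, hBC', fBC, qC, hqC, ⟨eBC⟩⟩ := Groth.L07.CIFibre.exists_local_map Q P'
  letI := iBC
  letI := iAB
  letI : Algebra (Localization.AtPrime q) (Localization.AtPrime P') :=
    ((algebraMap (Localization.AtPrime Q) (Localization.AtPrime P')).comp
      (algebraMap (Localization.AtPrime q) (Localization.AtPrime Q))).toAlgebra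
  haveI : IsScalarTower (Localization.AtPrime q) (Localization.AtPrime Q) (Localization.AtPrime P') :=
    IsScalarTower.of_algebraMap_eq fun _ => rfl
  haveI := lAB
  haveI := lBC
  haveI := fBC
  haveI : IsLocalHom (algebraMap (Localization.AtPrime q) (Localization.AtPrime P')) := RingHom.isLocalHom_comp _ _
  haveI : IsNoetherianRing (Localization.AtPrime Q) := IsLocalization.isNoetherianRing Q.primeCompl _ inferInstance
  haveI : IsNoetherianRing (Localization.AtPrime P') := IsLocalization.isNoetherianRing P'.primeCompl _ inferInstance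
  haveI : IsNoetherianRing (EGA4.FibRing (Localization.AtPrime q) (Localization.AtPrime Q)) :=
    inferInstanceAs (IsNoetherianRing (_ ⧸ EGA4.mB _ _))
  haveI : IsNoetherianRing (EGA4.FibRing (Localization.AtPrime Q) (Localization.AtPrime P')) :=
    inferInstanceAs (IsNoetherianRing (_ ⧸ EGA4.mB _ _))
  haveI : IsNoetherianRing (Localization.AtPrime qB) := isNoetherianRing_of_ringEquiv _ eAB.symm
  have hCI := Groth.L21.GorensteinFieldExt.isGorenstein_fibre_comp (A := Localization.AtPrime q)
    (B := Localization.AtPrime Q) (C := Localization.AtPrime P')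
    (Groth.L21.GorensteinAscend.isGorensteinLocalRing_of_ringEquiv eAB ((hAB q).isGorensteinLocalRing_localization qB))
    (by
      haveI := Groth.L07.CIFibre.isRegularLocalRing_fibre_of_regular hBC Q qC
      haveI := IsRegularLocalRing.of_ringEquiv (R := Localization.AtPrime qC) eBC
      exact Groth.Agent.S0342.result _)
  haveI : IsNoetherianRing (EGA4.FibRing (Localization.AtPrime q) (Localization.AtPrime P')) :=
    inferInstanceAs (IsNoetherianRing (_ ⧸ EGA4.mB _ _))
  have key : (IsLocalRing.maximalIdeal (Localization.AtPrime q)).map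
      (@algebraMap (Localization.AtPrime q) (Localization.AtPrime P') _ _ a1) =
      EGA4.mB (Localization.AtPrime q) (Localization.AtPrime P') := by
    show _ = (IsLocalRing.maximalIdeal (Localization.AtPrime q)).map _
    congr 1
    refine IsLocalization.ringHom_ext q.primeCompl (RingHom.ext fun r => ?_)
    show @algebraMap _ _ _ _ a1 (algebraMap A _ r) =
      algebraMap (Localization.AtPrime Q) (Localization.AtPrime P') (algebraMap (Localization.AtPrime q) _ (algebraMap A _ r))
    rw [h1, hAB', hBC', ← IsScalarTower.algebraMap_apply A B C]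
  haveI : IsNoetherianRing (Localization.AtPrime P) :=
    isNoetherianRing_of_ringEquiv _ (e1.trans (Ideal.quotEquivOfEq key)).symm
  exact Groth.L21.GorensteinAscend.isGorensteinLocalRing_of_ringEquiv
    (e1.trans (Ideal.quotEquivOfEq key)).symm hCI

end Groth.Agent.S8949
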