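import Groth.Statements.S8952
import Groth.Agent.L10.ShriekLoc.Field
import Groth.Agent.L10.ShriekLoc.Local
import Groth.Agent.L10.Shriek.PerfectEnd
import Groth.Agent.L10.DerTrunc
import Groth.Agent.L29.DCoh.Gen.Loc

set_option autoImplicit false
set_option linter.style.haveILetI false
set_option backward.isDefEq.respectTransparency.types false
set_option backward.isDefEq.respectTransparency false
set_option maxHeartbeats 800000
set_option backward.defeqAttrib.useBackward true
set_option backward.isDefEq.respectTransparency false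
universe u
open CategoryTheory CategoryTheory.Limits AlgebraicGeometry
attribute [local instance] HasDerivedCategory.standard
open Dual3

namespace Groth.Agent.S8952

/-- Let X be proper over a field k with structure morphism f factoring as f′ : X → Spec(k′) followed by
Spec(k′) → Spec(k) for a field extension k′ of k. With a and a′ right adjoints of Rf_* and Rf′_* on
D_QCoh (assumed to exist and to preserve quasi-coherent cohomology) and O, O′ the structure sheaves
of Spec(k), Spec(k′) placed in degree 0, the objects a(O) and a′(O′) of D(O_X) are isomorphic: the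
dualizing complex of X computed over k agrees with the one computed over k′. -/
theorem result (k k' : Type u) [Field k] [Field k'] [Algebra k k'] (X : Scheme.{u}) (f : X ⟶ Spec (CommRingCat.of k)) [IsProper f] (f' : X ⟶ Spec (CommRingCat.of k')) (hff' : f' ≫ Spec.map (CommRingCat.ofHom (algebraMap k k')) = f) [DCoh.HasRpush f] (hf : DCoh.RpushPreservesQCoh f) (a : DCoh.DQCoh (Spec (CommRingCat.of k)) ⥤ DCoh.DQCoh X) (adj : DCoh.RpushQ f hf ⊣ a) [DCoh.HasRpush f'] (hf' : DCoh.RpushPreservesQCoh f') (a' : DCoh.DQCoh (Spec (CommRingCat.of k')) ⥤ DCoh.DQCoh X) (adj' : DCoh.RpushQ f' hf' ⊣ a') (O : DCoh.DQCoh (Spec (CommRingCat.of k))) (hO : Nonempty (O.obj ≅ DCoh.inD (Spec (CommRingCat.of k)) (Coh.structureModule (Spec (CommRingCat.of k))))) (O' : DCoh.DQCoh (Spec (CommRingCat.of k'))) (hO' : Nonempty (O'.obj ≅ DCoh.inD (Spec (CommRingCat.of k')) (Coh.structureModule (Spec (CommRingCat.of k'))))) : Nonempty ((a.obj O).obj ≅ (a'.obj O').obj) := by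
  open Groth.L29 Groth.L29.DC Groth.L29.HomD Groth.L29.RestrictAdj Groth.L10.ShriekLoc in
  haveI := fun {A B : Scheme.{u}} (h : A ⟶ B) => Groth.L00.KFlat.hasLpull h
  haveI := fun (R : CommRingCat.{u}) => Groth.L18.TildeF.tilde_preservesFiniteLimits (R := R)
  haveI : IsLocallyNoetherian X := LocallyOfFiniteType.isLocallyNoetherian f
  rcases isEmpty_or_nonempty X with hX | ⟨⟨x⟩⟩
  · have hz : ∀ L : DCoh.D X, IsZero L := fun L => Gen.isZero_of_hd fun i =>
      (Groth.L21.Mod.isZero_iff_stalk_subsingleton _).2 fun y => isEmptyElim y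
    exact ⟨(hz _).iso (hz _)⟩
  -- the field extension is finite
  haveI : Module.Finite k k' := by
    obtain ⟨_, ⟨U, hU, rfl⟩, hxU, -⟩ :=
      X.isBasis_affineOpens.exists_subset_of_mem_open (Set.mem_univ x) isOpen_univ
    obtain ⟨φ, hφ⟩ := Spec.map_surjective (hU.fromSpec ≫ f')
    letI : Algebra k' Γ(X, U) := φ.hom.toAlgebra
    letI : Algebra k Γ(X, U) := (φ.hom.comp (algebraMap k k')).toAlgebra
    haveI : IsScalarTower k k' Γ(X, U) := IsScalarTower.of_algebraMap_eq fun _ => rfl
    have hw : Spec.map (CommRingCat.ofHom (algebraMap k Γ(X, U))) = hU.fromSpec ≫ f := by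
      rw [← hff', ← Category.assoc, ← hφ, ← Spec.map_comp]
      rfl
    haveI : LocallyOfFiniteType (Spec.map (CommRingCat.ofHom (algebraMap k Γ(X, U)))) := by
      rw [hw]; infer_instance
    haveI : Algebra.FiniteType k Γ(X, U) :=
      RingHom.finiteType_algebraMap.1 ((HasRingHomProperty.Spec_iff (P := @LocallyOfFiniteType)).1 ‹_›)
    haveI : Nontrivial Γ(X, U) := by
      haveI : Nonempty (PrimeSpectrum Γ(X, U)) := ⟨hU.primeIdealOf ⟨x, hxU⟩⟩
      exact PrimeSpectrum.nonempty_iff_nontrivial.1 inferInstance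
    obtain ⟨m, hm⟩ := Ideal.exists_maximal Γ(X, U)
    letI := Ideal.Quotient.field m
    haveI : Module.Finite k (Γ(X, U) ⧸ m) := finite_of_finite_type_of_isJacobsonRing k (Γ(X, U) ⧸ m)
    exact Module.Finite.of_injective (IsScalarTower.toAlgHom k k' (Γ(X, U) ⧸ m)).toLinearMap
      (algebraMap k' (Γ(X, U) ⧸ m)).injective
  let g := Spec.map (CommRingCat.ofHom (algebraMap k k'))
  haveI : DCoh.HasRpush g := RpushQC.hasRpush g
  obtain ⟨b, ⟨adjb⟩⟩ := exists_adjoint g
  obtain ⟨adjc⟩ := nonempty_comp_adjoint hff' hf adj' adjb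
  let u := adj.rightAdjointUniq adjc
  suffices h : Nonempty ((b.obj O).obj ≅ O'.obj) by
    obtain ⟨h⟩ := h
    exact ⟨(DCoh.IsQCohD (X := X)).ι.mapIso (u.app O ≪≫ a'.mapIso (ObjectProperty.isoMk _ h))⟩
  obtain ⟨Rφ, ⟨adjφ⟩⟩ := Groth.L10.Shriek.exists_rightAdjoint (algebraMap k k')
  obtain ⟨tk⟩ := nonempty_tilde_self k
  obtain ⟨tk'⟩ := nonempty_tilde_self k'
  obtain ⟨o⟩ := hO
  obtain ⟨o'⟩ := hO'
  obtain ⟨e⟩ := nonempty_affine (algebraMap k k') adjb adjφ (Dual.inD k k)
  let eO : O ≅ (tildeQ (CommRingCat.of k)).obj (Dual.inD k k) := ObjectProperty.isoMk _ (o ≪≫ tk.symm)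
  suffices h : Nonempty (Rφ.obj (Dual.inD k k) ≅ Dual.inD k' k') by
    obtain ⟨h⟩ := h
    exact ⟨(DCoh.IsQCohD (X := Spec (CommRingCat.of k'))).ι.mapIso (b.mapIso eO) ≪≫ e ≪≫
      (DCoh.tildeD (CommRingCat.of k')).mapIso h ≪≫ tk' ≪≫ o'.symm⟩
  haveI : Module.Finite k (ringRes (algebraMap k k')) :=
    Module.Finite.equiv (Groth.L29.FlatBC.resSelfEquiv k k').symm
  have hamp : DRing.HasTorAmplitudeIn k (-((0 : ℕ) : ℤ)) 0 (Dual.inD k (ringRes (algebraMap k k'))) := by
    simpa using (Groth.L10.DR.hasTorDimLE_iff_amp (A := k) (M := ringRes (algebraMap k k')) 0).1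
      (Groth.L10.DR.hasTorDimLE_zero_iff.2 inferInstance)
  obtain ⟨hbij, -, -⟩ := Groth.L10.Shriek.end_rightAdjoint (algebraMap k k') adjφ inferInstance 0 hamp
  let Z := Rφ.obj (Dual.inD k k)
  have hne : ∀ i : ℤ, i ≠ 0 → Subsingleton (Dual.HD k' Z i) := fun i hi => by
    haveI : Subsingleton (Dual.inD k (ringRes (algebraMap k k')) ⟶ (Dual.inD k k)⟦i⟧) := by
      haveI : Nontrivial (ringRes (algebraMap k k')) :=
        (Groth.L29.FlatBC.resSelfEquiv k k').toEquiv.nontrivial
      have hsd : Module.supportDim k (ringRes (algebraMap k k')) = ((0 : ℕ) : WithBot ℕ∞) :=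
        le_antisymm ((Module.supportDim_le_ringKrullDim _ _).trans (ringKrullDim_eq_zero_of_field k).le)
          (Order.krullDim_nonneg_iff.2 (Module.nonempty_support_of_nontrivial (R := k)).to_subtype)
      refine not_nontrivial_iff_subsingleton.1 fun h => hi ?_
      have := (Groth.Agent.S0366.result k _ (isDualizing_field k).1 (isDualizing_field k).2
        (ringRes (algebraMap k k')) 0 hsd i).1 h
      omega
    haveI := (subsingleton_hom_iff _ adjφ (ModuleCat.of k' k') (Dual.inD k k) i).2 inferInstance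
    exact (HomD.evalShiftEquiv (W := Z) i).symm.toEquiv.subsingleton
  haveI : Z.IsGE 0 := (DerivedCategory.isGE_iff Z 0).2 fun i hi =>
    haveI := hne i (by omega); ModuleCat.isZero_of_subsingleton _
  haveI : Z.IsLE 0 := (DerivedCategory.isLE_iff Z 0).2 fun i hi =>
    haveI := hne i (by omega); ModuleCat.isZero_of_subsingleton _
  obtain ⟨s⟩ := Groth.L10.exists_iso_single_H (A := ModuleCat.{u} k') Z 0
  let N : ModuleCat.{u} k' := (DerivedCategory.homologyFunctor (ModuleCat.{u} k') 0).obj Z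
  let F := DerivedCategory.singleFunctor (ModuleCat.{u} k') 0
  have hsmul : ∀ f' : N ⟶ N, ∃ c : k', f' = c • 𝟙 N := fun f' => by
    obtain ⟨c, hc⟩ := hbij.2 (s.hom ≫ F.map f' ≫ s.inv)
    refine ⟨c, F.map_injective ?_⟩
    rw [Functor.map_smul, CategoryTheory.Functor.map_id, ← cancel_epi s.hom, ← cancel_mono s.inv, Category.assoc,
      ← hc]
    simp [Z, N, F, Linear.comp_smul, Linear.smul_comp]
  haveI : Nontrivial N := by
    rw [← not_subsingleton_iff_nontrivial]
    intro h
    have hz : IsZero Z := (F.map_isZero (ModuleCat.isZero_of_subsingleton N)).of_iso s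
    exact one_ne_zero (hbij.1 (hz.eq_of_src ((1 : k') • 𝟙 Z) ((0 : k') • 𝟙 Z)))
  obtain ⟨v, hv⟩ := exists_ne (0 : N)
  obtain ⟨ℓ, hℓ⟩ := Module.Projective.exists_dual_ne_zero k' hv
  have hspan : ∀ y : N, ∃ c : k', y = c • v := fun y => by
    obtain ⟨c, hc⟩ := hsmul (ModuleCat.ofHom (ℓ.smulRight v))
    have h1 : ℓ v • v = c • v := congrArg (fun f : N ⟶ N => f.hom v) hc
    have h2 : ℓ y • v = c • y := congrArg (fun f : N ⟶ N => f.hom y) hc
    obtain rfl : ℓ v = c := smul_left_injective k' hv h1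
    exact ⟨(ℓ v)⁻¹ * ℓ y, by rw [mul_smul, h2, smul_smul, inv_mul_cancel₀ hℓ, one_smul]⟩
  let eN : k' ≃ₗ[k'] N := LinearEquiv.ofBijective (LinearMap.toSpanSingleton k' N v)
    ⟨smul_left_injective k' hv, fun y => (hspan y).imp fun c hc => hc.symm⟩
  exact ⟨s ≪≫ F.mapIso eN.symm.toModuleIso⟩

end Groth.Agent.S8952
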