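import Groth.Statements.S8955
import Groth.Agent.L07.EtDer.Alg
import Mathlib.Topology.Sheaves.SheafCondition.Sites

set_option autoImplicit false
universe u
open CategoryTheory AlgebraicGeometry Opposite TopologicalSpace
open LocCoh

namespace Groth.Agent.S8955

section aux

variable {A : Type u} [CommRing A] {V : Scheme.{u}} (π : V ⟶ Spec (CommRingCat.of A))

/-- The structure map `A → Γ(V, W)`. -/
noncomputable def g (W : V.Opens) : A →+* V.presheaf.obj (op W) :=
  (Coh.resTop V (op W)).comp (Coh.toGlobal π)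

theorem g_res {W W' : V.Opens} (i : op W ⟶ op W') (a : A) :
    (V.presheaf.map i).hom (g π W a) = g π W' a :=
  Coh.resTop_comp (op W) (op W') i (Coh.toGlobal π a)

theorem g_etale [Etale π] {W : V.Opens} (hW : IsAffineOpen W) : (g π W).Etale := by
  have h : (π.appLE ⊤ W le_top).hom.Etale :=
    HasRingHomProperty.appLE @Etale π ‹_› ⟨⊤, isAffineOpen_top _⟩ ⟨W, hW⟩ le_top
  have h2 : ((Scheme.ΓSpecIso (CommRingCat.of A)).inv ≫ π.appLE ⊤ W le_top).hom.Etale :=
    (RingHom.Etale.respectsIso.cancel_left_isIso _ _).mpr h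
  exact h2

/-- The affine opens, as a basis. -/
def Bs (V : Scheme.{u}) : V.affineOpens → Opens V := fun W => W.1

theorem isBasis (V : Scheme.{u}) : Opens.IsBasis (Set.range (Bs V)) := by
  have h : Set.range (Bs V) = V.affineOpens := Subtype.range_coe
  rw [h]; exact V.isBasis_affineOpens

variable (θ : Derivation ℤ A A)

theorem exists_d [Etale π] (W : V.affineOpens) :
    ∃ d : V.presheaf.obj (op W.1) →+ V.presheaf.obj (op W.1),
      (∀ x y, d (x * y) = x * d y + y * d x) ∧ ∀ a, d (g π W.1 a) = g π W.1 (θ a) :=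
  Groth.L07.EtDerExt.exists_ext θ (g π W.1) (g_etale π W.2)

noncomputable def d [Etale π] (W : V.affineOpens) :
    V.presheaf.obj (op W.1) →+ V.presheaf.obj (op W.1) := (exists_d π θ W).choose

theorem d_mul [Etale π] (W : V.affineOpens) (x y : V.presheaf.obj (op W.1)) :
    d π θ W (x * y) = x * d π θ W y + y * d π θ W x := (exists_d π θ W).choose_spec.1 x y

theorem d_g [Etale π] (W : V.affineOpens) (a : A) : d π θ W (g π W.1 a) = g π W.1 (θ a) :=
  (exists_d π θ W).choose_spec.2 a

theorem d_res [Etale π] {W W' : V.affineOpens} (i : op W.1 ⟶ op W'.1)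
    (x : V.presheaf.obj (op W.1)) :
    (V.presheaf.map i).hom (d π θ W x) = d π θ W' ((V.presheaf.map i).hom x) := by
  have h := Groth.L07.EtDerExt.eq_of_eqOn (g π W.1) (g_etale π W.2) (V.presheaf.map i).hom
    ((V.presheaf.map i).hom.toAddMonoidHom.comp (d π θ W))
    ((d π θ W').comp (V.presheaf.map i).hom.toAddMonoidHom)
    (fun a b => by simp [d_mul]) (fun a b => by simp [d_mul])
    (fun a => by
      change (V.presheaf.map i).hom (d π θ W (g π W.1 a)) =
        d π θ W' ((V.presheaf.map i).hom (g π W.1 a))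
      rw [d_g, g_res, g_res, d_g])
  exact DFunLike.congr_fun h x

/-- The derivation of the structure sheaf, on the basis of affine opens. -/
noncomputable def dNat [Etale π] :
    (inducedFunctor (Bs V)).op ⋙ (Coh.toAb (Coh.structureModule V)).obj ⟶
      (inducedFunctor (Bs V)).op ⋙ (Coh.toAb (Coh.structureModule V)).obj where
  app W := AddCommGrpCat.ofHom (d π θ W.unop)
  naturality W W' f := by
    ext x
    exact (d_res π θ ((inducedFunctor (Bs V)).op.map f) x).symm

noncomputable def dSheaf [Etale π] :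
    Coh.toAb (Coh.structureModule V) ⟶ Coh.toAb (Coh.structureModule V) :=
  ⟨TopCat.Sheaf.restrictHomEquivHom _ (Coh.toAb (Coh.structureModule V)) (isBasis V) (dNat π θ)⟩

theorem dSheaf_app [Etale π] (W : V.affineOpens) :
    (dSheaf π θ).hom.app (op W.1) = AddCommGrpCat.ofHom (d π θ W) :=
  TopCat.Sheaf.extend_hom_app _ (Coh.toAb (Coh.structureModule V)) (isBasis V) (dNat π θ) W

theorem leibniz [Etale π] (a : A) :
    Coh.smulAb (Coh.structureModule V) (Coh.toGlobal π a) ≫ dSheaf π θ =
      Coh.smulAb (Coh.structureModule V) (Coh.toGlobal π (θ a)) +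
        dSheaf π θ ≫ Coh.smulAb (Coh.structureModule V) (Coh.toGlobal π a) := by
  apply Sheaf.hom_ext
  refine TopCat.Sheaf.hom_ext _ (Coh.toAb (Coh.structureModule V)) (isBasis V) fun W => ?_
  ext x
  change ↥(V.presheaf.obj (op W.1)) at x
  let Dm : V.presheaf.obj (op W.1) →+ V.presheaf.obj (op W.1) :=
    ((dSheaf π θ).hom.app (op W.1)).hom
  have hD : Dm = d π θ W := congrArg AddCommGrpCat.Hom.hom (dSheaf_app π θ W)
  change Dm (g π W.1 a * x) = g π W.1 (θ a) * x + g π W.1 a * Dm x
  rw [hD, d_mul, d_g]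
  ring

end aux

/-- For a ring A, a scheme V quasi-compact, separated and étale over Spec A, and a derivation θ of A,
each cohomology module H^i(V, O_V) carries an additive operator D with D(a • ξ) = θ(a) • ξ + a •
D(ξ) (existence only). (The published statement allows V quasi-separated; this row takes V
separated.) -/
theorem result (A : Type u) [CommRing A] (V : Scheme.{u}) [V.Over (Spec (CommRingCat.of A))] [QuasiCompact (V ↘ Spec (CommRingCat.of A))] [IsSeparated (V ↘ Spec (CommRingCat.of A))] [Etale (V ↘ Spec (CommRingCat.of A))] (θ : Derivation ℤ A A) (i : ℕ) : ∃ D : Coh.HH V (Coh.structureModule V) i →+ Coh.HH V (Coh.structureModule V) i, ∀ (a : A) (ξ : Coh.HH V (Coh.structureModule V) i), D (a • ξ) = θ a • ξ + a • D ξ := by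
  refine ⟨Sheaf.H.map (dSheaf (V ↘ Spec (CommRingCat.of A)) θ) i, fun a ξ => ?_⟩
  change Sheaf.H.map (dSheaf _ θ) i (Sheaf.H.map (Coh.smulAb _ (Coh.toGlobal _ a)) i ξ) =
    Sheaf.H.map (Coh.smulAb _ (Coh.toGlobal _ (θ a))) i ξ +
      Sheaf.H.map (Coh.smulAb _ (Coh.toGlobal _ a)) i (Sheaf.H.map (dSheaf _ θ) i ξ)
  rw [← Sheaf.H.map_comp_apply, ← Sheaf.H.map_comp_apply, leibniz, Sheaf.H.map_add_apply]

end Groth.Agent.S8955
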