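import Groth.Statements.S8961
import Groth.Agent.L29.Trace
import Mathlib.RingTheory.IntegralClosure.IntegrallyClosed
import Mathlib.RingTheory.LocalProperties.Basic

set_option autoImplicit false
universe u
open QFDual

namespace Groth.Agent.S8961

/-- Suppose the Dedekind different of A → B is defined: A is Noetherian, B is a finite A-algebra,
nonzerodivisors of A are nonzerodivisors on B, and with K = Q(A) and L = B ⊗_A K the map K → L is
étale (here with L finite free over K). If A is a normal ring, i.e. every localization A_p at a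
prime is an integrally closed domain, then Trace_{L/K}(b) lies in A for every b ∈ B; equivalently 1
∈ 𝓛_{B/A}. -/
theorem result (A K B L : Type u) [CommRing A] [CommRing K] [CommRing B] [CommRing L] [Algebra A K] [Algebra A B] [Algebra B L] [Algebra K L] [Algebra A L] [IsScalarTower A K L] [IsScalarTower A B L] (h : QFDual.IsDedekindDefined A K B L) (hA : EGA4.IsNormalRing A) : (1 : L) ∈ QFDual.complementary A K B L := by
  intro b
  rw [one_mul]
  have := h.etale
  have := h.free
  have := h.finiteKL
  have := h.finite
  have := h.isFractionRing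
  set t := Algebra.trace K L (algebraMap B L b) with ht
  obtain ⟨a, s, hts⟩ : ∃ (a : A) (s : nonZeroDivisors A), t = IsLocalization.mk' K a s :=
    let ⟨a, s, h'⟩ := IsLocalization.exists_mk'_eq (nonZeroDivisors A) t
    ⟨a, s, h'.symm⟩
  suffices hmem : a ∈ Ideal.span {(s : A)} by
    obtain ⟨c, rfl⟩ := Ideal.mem_span_singleton'.1 hmem
    exact ⟨c, by rw [hts, IsLocalization.eq_mk'_iff_mul_eq, map_mul]⟩
  refine Ideal.mem_of_localization_maximal fun P hP => ?_
  haveI := (hA P).1
  haveI := (hA P).2
  let R' := Localization.AtPrime P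
  let F0 := FractionRing R'
  have hs0 : algebraMap A R' s ≠ 0 := by
    intro h0
    obtain ⟨⟨m, hm⟩, hms⟩ := (IsLocalization.map_eq_zero_iff P.primeCompl R' _).1 h0
    exact hm (by
      rw [(mem_nonZeroDivisors_iff_right.1 s.2 m hms)]
      exact zero_mem _)
  have hunit : ∀ y : nonZeroDivisors A, IsUnit (algebraMap A F0 y) := by
    intro y
    have : algebraMap A R' y ≠ 0 := by
      intro h0
      obtain ⟨⟨m, hm⟩, hms⟩ := (IsLocalization.map_eq_zero_iff P.primeCompl R' _).1 h0
      exact hm (by
        rw [(mem_nonZeroDivisors_iff_right.1 y.2 m hms)]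
        exact zero_mem _)
    rw [IsScalarTower.algebraMap_apply A R' F0]
    exact isUnit_iff_ne_zero.2 ((map_ne_zero_iff _ (IsFractionRing.injective R' F0)).2 this)
  let φ : K →+* AlgebraicClosure F0 :=
    (algebraMap F0 (AlgebraicClosure F0)).comp (IsLocalization.lift hunit)
  let _ : Algebra K (AlgebraicClosure F0) := φ.toAlgebra
  have hφA : ∀ x : A, φ (algebraMap A K x) = algebraMap A (AlgebraicClosure F0) x := by
    intro x
    simp only [φ, RingHom.comp_apply, IsLocalization.lift_eq]
    rw [← IsScalarTower.algebraMap_apply]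
  haveI : IsScalarTower A K (AlgebraicClosure F0) := IsScalarTower.of_algebraMap_eq fun x => (hφA x).symm
  obtain ⟨ι, _, e, he, -⟩ := Groth.L29.Trace.exists_pi (R := K) (L := L) (AlgebraicClosure F0)
  have hint : IsIntegral A (φ t) := by
    have : φ t = ∑ i, e ((1 : AlgebraicClosure F0) ⊗ₜ algebraMap B L b) i := he _
    rw [this]
    refine IsIntegral.sum _ fun i _ => ?_
    have hbA : IsIntegral A (algebraMap B L b) :=
      (Algebra.IsIntegral.isIntegral b).map (IsScalarTower.toAlgHom A B L)
    exact hbA.map (((Pi.evalAlgHom (AlgebraicClosure F0) (fun _ : ι => AlgebraicClosure F0) i).comp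
      e.toAlgHom).restrictScalars A |>.comp
        ((Algebra.TensorProduct.includeRight (R := K) (A := AlgebraicClosure F0) (B := L)).restrictScalars A))
  have hint0 : IsIntegral R' (IsLocalization.lift hunit t : F0) := by
    refine IsIntegral.tower_top (R := A) ?_
    exact (isIntegral_algHom_iff (IsScalarTower.toAlgHom A F0 (AlgebraicClosure F0))
      (algebraMap F0 _).injective).1 hint
  obtain ⟨y, hy⟩ := IsIntegrallyClosed.isIntegral_iff.1 hint0
  show algebraMap A R' a ∈ Ideal.map (algebraMap A R') (Ideal.span {(s : A)})
  rw [Ideal.map_span, Set.image_singleton, Ideal.mem_span_singleton']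
  refine ⟨y, IsFractionRing.injective R' F0 ?_⟩
  rw [map_mul, hy, ← IsScalarTower.algebraMap_apply, ← IsScalarTower.algebraMap_apply,
    ← IsLocalization.lift_eq (S := K) (g := algebraMap A F0) hunit (s : A), ← map_mul, hts,
    IsLocalization.mk'_spec, IsLocalization.lift_eq]

end Groth.Agent.S8961
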