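import Groth.Statements.S8965
import Groth.Agent.L29.Trace

set_option autoImplicit false
universe u
open QFDual

namespace Groth.Agent.S8965

/-- Suppose the Dedekind different of A → B is defined (A Noetherian, B a finite A-algebra,
nonzerodivisors of A nonzerodivisors on B, K = Q(A) → L = B ⊗_A K étale, here with L finite free
over K) and that B is free as an A-module. Then the Dedekind different 𝔇_{B/A} ⊆ L is the image
under B → L of the ideal of b ∈ B with b · Hom_A(B, A) ⊆ B · Trace_{B/A}, where B acts on Hom_A(B,
A) through the argument. (The published statement assumes only A → B flat, with the trace element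
τ_{B/A} of the relative dualizing module ω_{B/A}; for B finite free these are Trace_{B/A} and
Hom_A(B, A), the case taken here.) -/
theorem result (A K B L : Type u) [CommRing A] [CommRing K] [CommRing B] [CommRing L] [Algebra A K] [Algebra A B] [Algebra B L] [Algebra K L] [Algebra A L] [IsScalarTower A K L] [IsScalarTower A B L] (h : QFDual.IsDedekindDefined A K B L) [Module.Finite A B] [Module.Free A B] : QFDual.dedekindDifferent A K B L = Submodule.map (Algebra.linearMap B L) (QFDual.different B (Disc.Omega.trace A B)) := by
  obtain ⟨e, he⟩ := Groth.L29.Trace.exists_complementary_equiv h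
  have hone : (1 : L) ∈ QFDual.complementary A K B L := fun b => by
    rw [one_mul, Groth.L29.Trace.algebraMap_trace h]; exact ⟨_, rfl⟩
  have hinjK : Function.Injective (algebraMap A K) := by
    have := h.isFractionRing; exact IsFractionRing.injective A K
  have he1 : e ⟨1, hone⟩ = Disc.Omega.trace A B := by
    refine Disc.Omega.ext (LinearMap.ext fun b => hinjK ?_)
    rw [he, one_mul, Groth.L29.Trace.algebraMap_trace h]
    rfl
  ext x
  constructor
  · intro hx
    obtain ⟨b, hb⟩ := RingHom.mem_range.1 (hx 1 hone)
    rw [mul_one] at hb
    refine ⟨b, (QFDual.mem_different_iff B _ b).2 fun φ => ?_, hb⟩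
    obtain ⟨y, rfl⟩ := e.surjective φ
    obtain ⟨c, hc⟩ := RingHom.mem_range.1 (hx y.1 y.2)
    refine ⟨c, ?_⟩
    rw [← he1, ← map_smul, ← map_smul]
    congr 1
    apply Subtype.ext
    show c • (1 : L) = b • (y : L)
    rw [Algebra.smul_def, Algebra.smul_def, mul_one, hc, hb]
  · rintro ⟨b, hb, rfl⟩ y hy
    obtain ⟨c, hc⟩ := (QFDual.mem_different_iff B _ b).1 hb (e ⟨y, hy⟩)
    rw [← he1, ← map_smul, ← map_smul] at hc
    have := congrArg Subtype.val (e.injective hc)
    refine ⟨c, ?_⟩
    simpa [Algebra.smul_def] using this

end Groth.Agent.S8965
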