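import Groth.Statements.S8970
import Groth.Agent.L29.Dual.RestrictAdj

set_option autoImplicit false
set_option backward.isDefEq.respectTransparency false
universe u
open CategoryTheory
attribute [local instance] HasDerivedCategory.standard
open Dual

namespace Groth.Agent.S8970

/-- For a Noetherian ring A with a dualizing complex ω, δ(p) denotes the integer such that the
localization at p of Hom(A/p, ω[i]) is nonzero exactly for i = −δ(p); this δ is the dimension
function of ω. Suppose A is a Noetherian ring equipped with a dualizing complex ω, fix a surjective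
ring homomorphism A → B, and take R : D(A) → D(B) to be the right adjoint of restriction of scalars;
then ω_B = R(ω) = RHom_A(B, ω) is a dualizing complex for B. Then δ_{ω_B} is the restriction of δ_ω
to Spec B: for every prime q of B, with p its preimage in A, and every integer i, the localization
at q of the B-module of maps B/q → ω_B[i] in D(B) is nonzero if and only if the localization at p of
the A-module of maps A/p → ω[i] in D(A) is nonzero. -/
theorem result (A B : Type u) [CommRing A] [CommRing B] [IsNoetherianRing A] [IsNoetherianRing B] [Algebra A B] (hs : Function.Surjective (algebraMap A B)) (R : Dual.D A ⥤ Dual.D B) (adj : DRing.restrictD (algebraMap A B) ⊣ R) (ω : Dual.D A) (hω : Dual.IsDualizing A ω) (q : PrimeSpectrum B) (i : ℤ) : Nontrivial (LocalizedModule q.asIdeal.primeCompl (Dual.inD B (B ⧸ q.asIdeal) ⟶ (R.obj ω)⟦i⟧)) ↔ Nontrivial (LocalizedModule (q.asIdeal.comap (algebraMap A B)).primeCompl (Dual.inD A (A ⧸ q.asIdeal.comap (algebraMap A B)) ⟶ ω⟦i⟧)) := by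
  let φ := algebraMap A B
  let p := q.asIdeal.comap φ
  let M : ModuleCat.{u} B := ModuleCat.of B (B ⧸ q.asIdeal)
  let g : (A ⧸ p) →ₗ[A] (ModuleCat.restrictScalars.{u} φ).obj M :=
    Submodule.liftQ p
      ({ toFun := fun a => Ideal.Quotient.mk q.asIdeal (φ a)
         map_add' := fun a b => by rw [map_add, map_add]
         map_smul' := fun r a => by
           rw [smul_eq_mul, map_mul, map_mul]
           rfl } : A →ₗ[A] (ModuleCat.restrictScalars.{u} φ).obj M)
      fun a ha => Ideal.Quotient.eq_zero_iff_mem.2 ha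
  have hg : Function.Bijective g := by
    refine ⟨fun x y h => ?_, fun z => ?_⟩
    · obtain ⟨x, rfl⟩ := Submodule.Quotient.mk_surjective p x
      obtain ⟨y, rfl⟩ := Submodule.Quotient.mk_surjective p y
      refine (Submodule.Quotient.eq p).2 ?_
      have h' := Ideal.Quotient.eq.1 (h : Ideal.Quotient.mk q.asIdeal (φ x) = Ideal.Quotient.mk q.asIdeal (φ y))
      rw [← map_sub] at h'
      exact h'
    · obtain ⟨b, rfl⟩ := Ideal.Quotient.mk_surjective z
      obtain ⟨a, rfl⟩ := hs b
      exact ⟨Submodule.Quotient.mk a, rfl⟩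
  let iM : Dual.inD A (A ⧸ p) ≅ Dual.inD A ((ModuleCat.restrictScalars.{u} φ).obj M) :=
    (DerivedCategory.singleFunctor (ModuleCat.{u} A) 0).mapIso
      ((LinearEquiv.ofBijective g hg).toModuleIso)
  let e1 := (Groth.L29.RestrictAdj.shiftLeft (Dual.inD A (A ⧸ p)) ω i).trans
    (Linear.homCongr A (((DRing.restrictD φ).commShiftIso (-i)).app _ ≪≫
      (shiftFunctor (Dual.D A) (-i)).mapIso (Groth.L29.RestrictAdj.restrictSingle φ M ≪≫ iM.symm)).symm (Iso.refl ω))
  let e2 := (Groth.L29.RestrictAdj.shiftLeft (Dual.inD B M) (R.obj ω) i).symm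
  let ρ : (Dual.inD A (A ⧸ p) ⟶ ω⟦i⟧) →ₛₗ[φ] (Dual.inD B (B ⧸ q.asIdeal) ⟶ (R.obj ω)⟦i⟧) :=
    { toFun := fun x => e2 (adj.homEquiv _ _ (e1 x))
      map_add' := fun x y => by rw [map_add, Groth.L29.RestrictAdj.homEquiv_add φ adj, map_add]
      map_smul' := fun a x => by rw [map_smul, Groth.L29.RestrictAdj.homEquiv_smul φ adj, map_smul] }
  have hρ : Function.Bijective ρ := e2.bijective.comp ((adj.homEquiv _ _).bijective.comp e1.bijective)
  have key : ∀ {C : Type u} [CommRing C] (S : Submonoid C) (N : Type (u + 1)) [AddCommGroup N] [Module C N],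
      Nontrivial (LocalizedModule S N) ↔ ∃ x : N, ∀ s ∈ S, s • x ≠ 0 := by
    intro C _ S N _ _
    refine ⟨fun h => ?_, fun ⟨x, hx⟩ => ?_⟩
    · obtain ⟨z, hz⟩ := exists_ne (0 : LocalizedModule S N)
      induction z using LocalizedModule.induction_on with
      | h x s =>
        refine ⟨x, fun t ht h0 => hz ?_⟩
        rw [← LocalizedModule.zero_mk s, LocalizedModule.mk_eq]
        exact ⟨⟨t, ht⟩, by simp only [Submonoid.smul_def, smul_zero]; rw [smul_comm, h0, smul_zero]⟩
    · refine ⟨⟨LocalizedModule.mk x 1, 0, fun h => ?_⟩⟩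
      rw [← LocalizedModule.zero_mk (1 : S), LocalizedModule.mk_eq] at h
      obtain ⟨t, ht⟩ := h
      exact hx t.1 t.2 (by simpa [Submonoid.smul_def] using ht)
  rw [key, key]
  constructor
  · rintro ⟨y, hy⟩
    obtain ⟨x, rfl⟩ := hρ.2 y
    exact ⟨x, fun s hs' h0 => hy (φ s) hs' (by rw [← LinearMap.map_smulₛₗ, h0, map_zero])⟩
  · rintro ⟨x, hx⟩
    refine ⟨ρ x, fun b hb h0 => ?_⟩
    obtain ⟨a, rfl⟩ := hs b
    exact hx a hb (hρ.1 (by rw [LinearMap.map_smulₛₗ, h0, map_zero]))

end Groth.Agent.S8970
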