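import Groth.Statements.S8971
import Groth.Agent.L01.Disc.OmegaFlat
import Groth.Agent.L01.Disc.OmegaAssoc
import Mathlib.RingTheory.Ideal.AssociatedPrime.Localization

set_option autoImplicit false
universe u
open TensorProduct
open QFDual

namespace Groth.Agent.S8971

/-- Let A → B be a quasi-finite homomorphism of Noetherian rings, presented by writing it as a composite
A → B' → B, where the map A → B' is finite and the induced morphism Spec B → Spec B' is an open
immersion, so that ω_{B/A} = B ⊗_{B'} Hom_A(B', A) (B' acting on Hom_A(B', A) through the argument).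
Then Ass_B(ω_{B/A}) is the set of primes of B whose preimage in A is an associated prime of A. -/
theorem result (A B' B : Type u) [CommRing A] [CommRing B'] [CommRing B] [IsNoetherianRing A] [IsNoetherianRing B] [Algebra A B'] [Algebra B' B] [Algebra A B] [IsScalarTower A B' B] (hf : QFDual.IsQFFactor A B' B) : associatedPrimes B (QFDual.omega A B' B) = {q : Ideal B | q.IsPrime ∧ q.comap (algebraMap A B) ∈ associatedPrimes A A} := by
  haveI := hf.finite
  haveI : IsNoetherianRing B' := IsNoetherianRing.of_finite A B'
  have key : ∀ Q : Ideal B, Q.IsPrime →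
      (Q ∈ associatedPrimes B (QFDual.omega A B' B) ↔ Q.comap (algebraMap B' B) ∈ associatedPrimes B' (Disc.Omega A B')) := by
    intro Q hQ
    let q := Q.comap (algebraMap B' B)
    let L := Localization.AtPrime Q
    haveI : IsLocalization.AtPrime L q := Groth.L01.Disc.OmegaFlat.isLocalization_atPrime hf.isOpenImmersion Q L
    let Om := Disc.Omega A B'
    let M := QFDual.omega A B' B
    let ML := TensorProduct B' L Om
    let f₀ : Om →ₗ[B'] ML := TensorProduct.mk B' L Om 1
    haveI : IsLocalizedModule q.primeCompl f₀ :=
      (isLocalizedModule_iff_isBaseChange q.primeCompl L f₀).mpr (TensorProduct.isBaseChange B' Om L)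
    let fB : M →ₗ[B] ML := TensorProduct.AlgebraTensorModule.rTensor B' Om (Algebra.linearMap B L)
    haveI : IsLocalizedModule Q.primeCompl fB := inferInstance
    let m := IsLocalRing.maximalIdeal L
    have h1 := Module.associatedPrimes.preimage_comap_associatedPrimes_eq_associatedPrimes_of_isLocalizedModule
      q.primeCompl L f₀
    have h2 := Module.associatedPrimes.preimage_comap_associatedPrimes_eq_associatedPrimes_of_isLocalizedModule
      Q.primeCompl L fB
    have e1 : m.comap (algebraMap B' L) = q := IsLocalization.AtPrime.comap_maximalIdeal L q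
    have e2 : m.comap (algebraMap B L) = Q := IsLocalization.AtPrime.comap_maximalIdeal L Q
    have := (Set.ext_iff.mp h2 m).trans (Set.ext_iff.mp h1 m).symm
    rwa [Set.mem_preimage, Set.mem_preimage, e1, e2] at this
  ext Q
  rw [Set.mem_setOf_eq, IsScalarTower.algebraMap_eq A B' B, ← Ideal.comap_comap]
  constructor
  · intro h
    have hQ : Q.IsPrime := IsAssociatedPrime.isPrime h
    refine ⟨hQ, ?_⟩
    have := (key Q hQ).mp h
    rw [Groth.L01.Disc.OmegaAssoc.associatedPrimes_omega] at this
    exact this.2
  · rintro ⟨hQ, h⟩
    refine (key Q hQ).mpr ?_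
    rw [Groth.L01.Disc.OmegaAssoc.associatedPrimes_omega]
    exact ⟨Ideal.IsPrime.comap _, h⟩

end Groth.Agent.S8971
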