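import Groth.Statements.S8974

set_option autoImplicit false
set_option backward.isDefEq.respectTransparency.types false
set_option backward.isDefEq.respectTransparency false
set_option linter.style.haveILetI false
universe u
open Synt

namespace Groth.Agent.S8974

/-- Let R be a ring, n, d ≥ 1 and g_1, …, g_n ∈ R[y_1, …, y_n] of total degree at most d. Then there is
a ring map φ : A = ℤ[a_{i,E}] → R (E running over exponent vectors with |E| ≤ d) such that applying
φ to the coefficients of the universal polynomial f_i = Σ_E a_{i,E} x^E gives g_i for each i. (The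
published statement is for a locally quasi-finite syntomic morphism of schemes and asserts, locally,
a cartesian square with the universal family; this row is its affine core: the coefficient map.) -/
theorem result (R : Type u) [CommRing R] (n d : ℕ) (hn : 1 ≤ n) (hd : 1 ≤ d) (g : Fin n → MvPolynomial (Fin n) R) (hg : ∀ i, (g i).totalDegree ≤ d) : ∃ φ : Synt.UnivBase n d →+* R, ∀ i, MvPolynomial.map φ (Synt.univPoly n d i) = g i := by
  classical
  refine ⟨MvPolynomial.eval₂Hom (Int.castRingHom R) fun p => MvPolynomial.coeff p.2.exponent (g p.1), fun i => ?_⟩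
  refine MvPolynomial.ext _ _ fun m => ?_
  simp only [Synt.univPoly, map_sum, MvPolynomial.map_monomial, MvPolynomial.coeff_sum, MvPolynomial.coeff_monomial,
    MvPolynomial.eval₂Hom_X']
  by_cases hm : MvPolynomial.coeff m (g i) = 0
  · rw [hm]
    refine Finset.sum_eq_zero fun E _ => ?_
    split_ifs with h
    · rw [h, hm]
    · rfl
  · have hsum : ∑ j, m j ≤ d := by
      have := (MvPolynomial.le_totalDegree (MvPolynomial.mem_support_iff.mpr hm)).trans (hg i)
      rwa [Finsupp.sum_fintype _ _ (fun _ => rfl)] at this
    let E₀ : Synt.UnivIdx n d :=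
      ⟨fun j => ⟨m j, Nat.lt_succ_of_le ((Finset.single_le_sum (fun _ _ => Nat.zero_le _)
        (Finset.mem_univ j)).trans hsum)⟩, hsum⟩
    have he : E₀.exponent = m := Finsupp.ext fun j => rfl
    rw [Finset.sum_eq_single_of_mem E₀ (Finset.mem_univ _) fun E _ hne => if_neg fun h => hne ?_, if_pos he, he]
    exact Subtype.ext (funext fun j => Fin.ext (congrArg (fun f : Fin n →₀ ℕ => f j) h))

end Groth.Agent.S8974
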