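import Groth.Statements.S8975
import Mathlib.LinearAlgebra.Prod

set_option autoImplicit false
universe u
open TensorProduct
open QFDual

namespace Groth.Agent.S8975

/-- The relative dualizing module of a product. Suppose A, B, C are Noetherian rings and the ring maps A
→ B, A → C are quasi-finite, presented by factorizations A → B' → B and A → C' → C with A → B', A →
C' finite and Spec B → Spec B', Spec C → Spec C' open immersions, and let B × C carry the product
algebra structure over B' × C' (so that A → B' × C' → B × C is a factorization of the same kind).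
Then ω_{(B × C)/A} = (B × C) ⊗_{B' × C'} Hom_A(B' × C', A) is identified with ω_{B/A} × ω_{C/A}:
there is an A-linear isomorphism sending (b, c) ⊗ φ to (b ⊗ φ∘ι_{B'}, c ⊗ φ∘ι_{C'}), where ι_{B'},
ι_{C'} are the inclusions of the factors; this formula determines the isomorphism and makes it (B ×
C)-linear. -/
theorem result (A B' B C' C : Type u) [CommRing A] [CommRing B'] [CommRing B] [CommRing C'] [CommRing C] [IsNoetherianRing A] [IsNoetherianRing B] [IsNoetherianRing C] [Algebra A B'] [Algebra B' B] [Algebra A B] [IsScalarTower A B' B] [Algebra A C'] [Algebra C' C] [Algebra A C] [IsScalarTower A C' C] (hB : QFDual.IsQFFactor A B' B) (hC : QFDual.IsQFFactor A C' C) [Algebra (B' × C') (B × C)] [IsScalarTower A (B' × C') (B × C)] (halg : algebraMap (B' × C') (B × C) = (algebraMap B' B).prodMap (algebraMap C' C)) : ∃ e : QFDual.omega A (B' × C') (B × C) ≃ₗ[A] QFDual.omega A B' B × QFDual.omega A C' C, ∀ (b : B) (c : C) (φ : Disc.Omega A (B' × C')), e ((b, c) ⊗ₜ[B' × C'] φ) = (b ⊗ₜ[B']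 Disc.Omega.mk (φ.toLinearMap ∘ₗ LinearMap.inl A B' C'), c ⊗ₜ[C'] Disc.Omega.mk (φ.toLinearMap ∘ₗ LinearMap.inr A B' C')) := by
  have hsm : ∀ (r : B' × C') (m : B × C), r • m = (r.1 • m.1, r.2 • m.2) := by
    intro r m
    rw [Algebra.smul_def, halg, Algebra.smul_def, Algebra.smul_def]
    rfl
  have hΩ₁ : ∀ (r : B' × C') (φ : Disc.Omega A (B' × C')),
      Disc.Omega.mk ((r • φ).toLinearMap ∘ₗ LinearMap.inl A B' C') =
        r.1 • Disc.Omega.mk (φ.toLinearMap ∘ₗ LinearMap.inl A B' C') := fun r φ => by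
    ext x; simp [Prod.mk_mul_mk, Prod.mul_def]
  have hΩ₂ : ∀ (r : B' × C') (φ : Disc.Omega A (B' × C')),
      Disc.Omega.mk ((r • φ).toLinearMap ∘ₗ LinearMap.inr A B' C') =
        r.2 • Disc.Omega.mk (φ.toLinearMap ∘ₗ LinearMap.inr A B' C') := fun r φ => by
    ext x; simp [Prod.mul_def]
  let f : (B × C) →+ Disc.Omega A (B' × C') →+ QFDual.omega A B' B × QFDual.omega A C' C :=
    AddMonoidHom.mk' (fun m => AddMonoidHom.mk'
      (fun φ => (m.1 ⊗ₜ[B'] Disc.Omega.mk (φ.toLinearMap ∘ₗ LinearMap.inl A B' C'),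
        m.2 ⊗ₜ[C'] Disc.Omega.mk (φ.toLinearMap ∘ₗ LinearMap.inr A B' C')))
      (fun φ ψ => Prod.ext ((congrArg (m.1 ⊗ₜ[B'] ·) (Disc.Omega.ext (LinearMap.add_comp _ _ _))).trans (tmul_add _ _ _))
        ((congrArg (m.2 ⊗ₜ[C'] ·) (Disc.Omega.ext (LinearMap.add_comp _ _ _))).trans (tmul_add _ _ _))))
      (fun m m' => AddMonoidHom.ext fun φ => Prod.ext (add_tmul _ _ _) (add_tmul _ _ _))
  let fwd : QFDual.omega A (B' × C') (B × C) →+ QFDual.omega A B' B × QFDual.omega A C' C :=
    TensorProduct.liftAddHom f (fun r m φ => by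
      simp only [f, AddMonoidHom.mk'_apply, hsm, hΩ₁, hΩ₂, smul_tmul])
  have hfwd : ∀ (b : B) (c : C) (φ : Disc.Omega A (B' × C')), fwd ((b, c) ⊗ₜ φ) =
      (b ⊗ₜ[B'] Disc.Omega.mk (φ.toLinearMap ∘ₗ LinearMap.inl A B' C'),
        c ⊗ₜ[C'] Disc.Omega.mk (φ.toLinearMap ∘ₗ LinearMap.inr A B' C')) := fun _ _ _ => rfl
  let g₁ : QFDual.omega A B' B →+ QFDual.omega A (B' × C') (B × C) :=
    TensorProduct.liftAddHom (AddMonoidHom.mk' (fun b => AddMonoidHom.mk'
      (fun φ => ((b, 0) : B × C) ⊗ₜ[B' × C'] (Disc.Omega.mk (φ.toLinearMap ∘ₗ LinearMap.fst A B' C') :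
        Disc.Omega A (B' × C')))
      (fun φ ψ => by rw [← tmul_add]; rfl))
      (fun b b' => AddMonoidHom.ext fun φ => by
        simp only [AddMonoidHom.add_apply, AddMonoidHom.mk'_apply, ← add_tmul, Prod.mk_add_mk, add_zero]))
      (fun r b φ => by
        simp only [AddMonoidHom.mk'_apply]
        rw [show ((r • b, 0) : B × C) = ((r, 0) : B' × C') • ((b, 0) : B × C) by rw [hsm]; simp,
          smul_tmul]
        congr 1)
  let g₂ : QFDual.omega A C' C →+ QFDual.omega A (B' × C') (B × C) :=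
    TensorProduct.liftAddHom (AddMonoidHom.mk' (fun c => AddMonoidHom.mk'
      (fun φ => ((0, c) : B × C) ⊗ₜ[B' × C'] (Disc.Omega.mk (φ.toLinearMap ∘ₗ LinearMap.snd A B' C') :
        Disc.Omega A (B' × C')))
      (fun φ ψ => by rw [← tmul_add]; rfl))
      (fun c c' => AddMonoidHom.ext fun φ => by
        simp only [AddMonoidHom.add_apply, AddMonoidHom.mk'_apply, ← add_tmul, Prod.mk_add_mk, add_zero]))
      (fun r c φ => by
        simp only [AddMonoidHom.mk'_apply]
        rw [show ((0, r • c) : B × C) = ((0, r) : B' × C') • ((0, c) : B × C) by rw [hsm]; simp,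
          smul_tmul]
        congr 1)
  have h1 : ∀ z, g₁ (fwd z).1 + g₂ (fwd z).2 = z := by
    intro z
    induction z using TensorProduct.induction_on with
    | zero => simp
    | add a b ha hb => rw [map_add, Prod.fst_add, Prod.snd_add, map_add, map_add, add_add_add_comm, ha, hb]
    | tmul m φ =>
      obtain ⟨b, c⟩ := m
      show ((b, 0) : B × C) ⊗ₜ[B' × C'] (Disc.Omega.mk _ : Disc.Omega A (B' × C')) +
        ((0, c) : B × C) ⊗ₜ[B' × C'] (Disc.Omega.mk _ : Disc.Omega A (B' × C')) = _
      rw [show (Disc.Omega.mk ((φ.toLinearMap ∘ₗ LinearMap.inl A B' C') ∘ₗ LinearMap.fst A B' C') :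
          Disc.Omega A (B' × C')) = ((1, 0) : B' × C') • φ by ext x <;> simp [Prod.mul_def],
        show (Disc.Omega.mk ((φ.toLinearMap ∘ₗ LinearMap.inr A B' C') ∘ₗ LinearMap.snd A B' C') :
          Disc.Omega A (B' × C')) = ((0, 1) : B' × C') • φ by ext x <;> simp [Prod.mul_def],
        ← smul_tmul, ← smul_tmul, ← add_tmul, hsm, hsm]
      simp
  have h2 : ∀ w : QFDual.omega A B' B × QFDual.omega A C' C, fwd (g₁ w.1 + g₂ w.2) = w := by
    intro w
    obtain ⟨x, y⟩ := w
    have hx : fwd (g₁ x) = (x, 0) := by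
      induction x using TensorProduct.induction_on with
      | zero => rw [map_zero, map_zero]; rfl
      | add a b ha hb => rw [map_add, map_add, ha, hb, Prod.mk_add_mk, add_zero]
      | tmul b φ =>
        refine (hfwd b 0 _).trans (Prod.ext ?_ (zero_tmul _ _))
        show b ⊗ₜ _ = b ⊗ₜ _
        congr 1
    have hy : fwd (g₂ y) = (0, y) := by
      induction y using TensorProduct.induction_on with
      | zero => rw [map_zero, map_zero]; rfl
      | add a b ha hb => rw [map_add, map_add, ha, hb, Prod.mk_add_mk, add_zero]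
      | tmul c φ =>
        refine (hfwd 0 c _).trans (Prod.ext (zero_tmul _ _) ?_)
        show c ⊗ₜ _ = c ⊗ₜ _
        congr 1
    rw [map_add, hx, hy, Prod.mk_add_mk, add_zero, zero_add]
  refine ⟨{ toFun := fwd, invFun := fun w => g₁ w.1 + g₂ w.2, map_add' := map_add fwd,
            map_smul' := ?_, left_inv := h1, right_inv := h2 }, hfwd⟩
  intro a z
  induction z using TensorProduct.induction_on with
  | zero => simp
  | add u v hu hv => simp only [smul_add, map_add, RingHom.id_apply] at hu hv ⊢; rw [hu, hv]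
  | tmul m φ =>
    obtain ⟨b, c⟩ := m
    rw [TensorProduct.smul_tmul', Prod.smul_mk, hfwd, hfwd, RingHom.id_apply, Prod.smul_mk,
      TensorProduct.smul_tmul', TensorProduct.smul_tmul']

end Groth.Agent.S8975
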