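import Groth.Statements.S8978
import Groth.Agent.L23.VRefine.Refine
import Groth.Agent.L28.Ph.Cover
import Groth.Agent.L28.VTop.Proper

set_option backward.isDefEq.respectTransparency false
set_option backward.isDefEq.respectTransparency.types false
set_option linter.style.haveILetI false

set_option autoImplicit false
universe w u
open HTop

namespace Groth.Agent.S8978

open CategoryTheory CategoryTheory.Limits AlgebraicGeometry in
/-- Given an h covering of an affine scheme X, one can find a proper surjective Y → X that is of finite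
presentation, together with finitely many affine opens covering Y, such that each of these opens,
composed into X, factors through some member of the given family. -/
theorem result {X : Scheme.{u}} [IsAffine X] (E : PreZeroHypercover.{w} X) (hE : HTop.IsHCover E) : ∃ (Y : Scheme.{u}) (g : Y ⟶ X) (n : ℕ) (V : Fin n → Y.Opens), IsProper g ∧ Surjective g ∧ LocallyOfFinitePresentation g ∧ (∀ j, IsAffineOpen (V j)) ∧ ⨆ j, V j = ⊤ ∧ ∀ j, ∃ (i : E.I₀) (h : ((V j : Y.Opens) : Scheme.{u}) ⟶ E.X i), h ≫ E.f i = (V j).ι ≫ g := by
  obtain ⟨Y, g, hp, hs, hfp, hY⟩ := Groth.L23.VRefine.exists_proper_refining E hE.1 hE.2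
  choose U hU hyU i k hk using hY
  haveI := hp
  haveI : CompactSpace Y := QuasiCompact.compactSpace_of_compactSpace g
  obtain ⟨t, ht⟩ := isCompact_univ.elim_finite_subcover (fun y => (U y : Set Y)) (fun y => (U y).isOpen)
    (fun y _ => Set.mem_iUnion.2 ⟨y, hyU y⟩)
  refine ⟨Y, g, t.card, fun j => U (t.equivFin.symm j), hp, hs, hfp, fun j => hU _,
    top_unique fun y _ => ?_, fun j => ⟨_, _, hk _⟩⟩
  obtain ⟨z, hz, hyz⟩ := Set.mem_iUnion₂.1 (ht (Set.mem_univ y))
  exact TopologicalSpace.Opens.mem_iSup.2 ⟨t.equivFin ⟨z, hz⟩, by simpa using hyz⟩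

end Groth.Agent.S8978
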