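import Groth.Statements.S8980
import Groth.Agent.L28.VTop.Cover
import Mathlib.AlgebraicGeometry.Limits

set_option autoImplicit false
universe u
open HTop

set_option backward.isDefEq.respectTransparency.types false

namespace Groth.Agent.S8980

open CategoryTheory CategoryTheory.Limits AlgebraicGeometry in
/-- A family of morphisms T_i → T, indexed by a type in the universe of T and all locally of finite
presentation, is an h covering if and only if the one-member family given by the induced morphism
from the coproduct of the T_i to T is an h covering. (The published statement also lists, as a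
further equivalent condition, that some h covering refines the family; that equivalence is immediate
from the definitions and is not restated here.) -/
theorem result {T : Scheme.{u}} (E : PreZeroHypercover.{u} T) (hE : ∀ i, LocallyOfFinitePresentation (E.f i)) : HTop.IsHCover E ↔ HTop.IsHCover (PreZeroHypercover.singleton.{0} (Sigma.desc E.f)) := by
  have hd : LocallyOfFinitePresentation (Sigma.desc E.f) := IsZariskiLocalAtSource.sigmaDesc (P := @LocallyOfFinitePresentation.{u}) hE
  constructor
  · rintro ⟨-, h⟩
    refine ⟨fun _ => hd, fun U => ?_⟩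
    obtain ⟨F, hF, href⟩ := h U
    refine ⟨F, hF, fun j => ?_⟩
    obtain ⟨i, k, hk⟩ := href j
    refine ⟨PUnit.unit, k ≫ Sigma.ι E.X i, ?_⟩
    show (k ≫ Sigma.ι E.X i) ≫ Sigma.desc E.f = _
    rw [Category.assoc, Sigma.ι_desc, hk]
  · rintro ⟨-, h⟩
    refine ⟨hE, fun U => ?_⟩
    have hb := Groth.L28.VTop.isVCover_bind h (F := fun _ => (sigmaOpenCover E.X).toPreZeroHypercover)
      (fun _ => Groth.L28.VTop.isVCover_of_fpqc (T := ∐ E.X) (sigmaOpenCover E.X).toPreZeroHypercover
        fun i => (inferInstance : Flat ((sigmaOpenCover E.X).f i)))
    obtain ⟨F, hF, href⟩ := hb U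
    refine ⟨F, hF, fun j => ?_⟩
    obtain ⟨p, k, hk⟩ := href j
    refine ⟨p.2, k, Eq.trans ?_ hk⟩
    exact congrArg (k ≫ ·) (Sigma.ι_desc E.f p.2).symm

end Groth.Agent.S8980
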