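import Groth.Statements.S8987
import Groth.Agent.L28.VTop.Squares

set_option autoImplicit false
universe u
open HTop

namespace Groth.Agent.S8987

open CategoryTheory CategoryTheory.Limits AlgebraicGeometry Opposite in
/-- An h sheaf on schemes over S turns every almost blow up square of S-schemes into a cartesian square
of sets of sections. -/
theorem result (S : Scheme.{u}) (F : HTop.ShH S) {E Z X' X : Over S} (e : E ⟶ X') (π : E ⟶ Z) (b : X' ⟶ X) (i : Z ⟶ X) (h : HTop.IsAlmostBlowUpSquare e.left π.left b.left i.left) (t : F.obj.obj (op Z)) (s' : F.obj.obj (op X')) (hts : F.obj.map π.op t = F.obj.map e.op s') : ∃! s : F.obj.obj (op X), F.obj.map i.op s = t ∧ F.obj.map b.op s = s' := by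
  haveI := h.isClosedImmersion
  haveI := h.isProper
  haveI := h.finitePresentation
  haveI := h.finitePresentation_base
  exact Groth.L28.VTop.existsUnique_square (HTop.Jh S) ((isSheaf_iff_isSheaf_of_type _ _).1 F.property)
    @LocallyOfFinitePresentation (fun W A B a b ha hb ha' hb' hs R hRa hRb =>
      haveI := ha; haveI := hb; haveI := ha'; haveI := hb'
      Groth.L28.VTop.mem_Jh_pair a b hs R hRa hRb)
    h.isPullback h.finitePresentation_base h.finitePresentation
    (Groth.L28.VTop.lfp_diagonal b.left) i.left.ker.support.compl
    (fun y hy => Groth.L28.VTop.mem_range_of_mem_support i.left hy)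
    (Groth.L28.VTop.isIso_restrict_of_almostBlowUp h) t s' hts

end Groth.Agent.S8987
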