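import Groth.Statements.S8988
import Groth.Agent.L28.VTop.Cover
import Mathlib.AlgebraicGeometry.Morphisms.ClosedImmersion
import Mathlib.CategoryTheory.Sites.Over

set_option autoImplicit false
universe u
open HTop

namespace Groth.Agent.S8988

open CategoryTheory CategoryTheory.Limits AlgebraicGeometry Opposite in
/-- An h sheaf on schemes over S takes the same sections on an S-scheme and on any thickening of it of
finite presentation. -/
theorem result (S : Scheme.{u}) (F : HTop.ShH S) {X X' : Over S} (f : X ⟶ X') (hf : MoreMor.IsThickening f.left) [LocallyOfFinitePresentation f.left] : Function.Bijective (F.obj.map f.op) := by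
  haveI := hf.1
  haveI := hf.2
  haveI : Mono f.left := inferInstance
  haveI : Mono f := Over.mono_of_mono_left f
  have hcov : HTop.IsHCover (PreZeroHypercover.singleton.{0} f.left) := by
    refine ⟨fun _ => (inferInstance : LocallyOfFinitePresentation f.left), fun U => ?_⟩
    haveI hU : IsAffine ((U : X'.left.Opens) : Scheme.{u}) := U.2
    refine ⟨PreZeroHypercover.singleton.{0} (f.left ∣_ (U : X'.left.Opens)), ⟨hU, inferInstanceAs (Finite PUnit),
      fun _ => IsAffineOpen.preimage U.2 f.left, ?_⟩, fun _ => ⟨PUnit.unit, (f.left ⁻¹ᵁ (U : X'.left.Opens)).ι,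
        (morphismRestrict_ι f.left _).symm⟩⟩
    intro V _ _ g
    haveI : IsClosedImmersion (f.left ∣_ (U : X'.left.Opens)) :=
      IsZariskiLocalAtTarget.restrict ‹IsClosedImmersion f.left› _
    haveI : Surjective (f.left ∣_ (U : X'.left.Opens)) := IsZariskiLocalAtTarget.restrict ‹Surjective f.left› _
    haveI : IsIso (pullback.snd (f.left ∣_ (U : X'.left.Opens)) g) := isIso_of_isClosedImmersion_of_surjective _
    refine ⟨V, inferInstance, inferInstance, 𝟙 V, ⟨Function.injective_id, ⟨fun _ h => h⟩⟩, PUnit.unit,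
      inv (pullback.snd (f.left ∣_ (U : X'.left.Opens)) g) ≫ pullback.fst _ _, ?_⟩
    show (inv (pullback.snd _ _) ≫ pullback.fst _ _) ≫ (f.left ∣_ (U : X'.left.Opens)) = Spec.map (𝟙 V) ≫ g
    rw [Category.assoc, pullback.condition, IsIso.inv_hom_id_assoc, Spec.map_id, Category.id_comp]
  have hmem : Sieve.generate (Presieve.singleton f) ∈ HTop.Jh S X' := by
    rw [GrothendieckTopology.mem_over_iff]
    refine GrothendieckTopology.superset_covering _ ?_ (Precoverage.generate_mem_toGrothendieck
      ((HTop.presieve₀_mem_hPrecoverage_iff _).2 hcov))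
    rw [Sieve.generate_le_iff]
    rintro Y g ⟨_⟩
    exact (Sieve.overEquiv_iff _ _).2 ⟨X, Over.homMk (𝟙 X.left) (by show 𝟙 X.left ≫ X.hom = f.left ≫ X'.hom; simp), f, ⟨⟩, by ext; exact Category.id_comp f.left⟩
  have hsh : Presieve.IsSheafFor F.obj (Presieve.singleton f) :=
    (Presieve.isSheafFor_iff_generate _).2 (((isSheaf_iff_isSheaf_of_type _ _).1 F.property) _ hmem)
  rw [Presieve.isSheafFor_singleton] at hsh
  constructor
  · intro a b hab
    exact (hsh _ (fun {Z} g₁ g₂ h => by rw [(cancel_mono f).1 h])).unique (rfl) hab.symm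
  · intro x
    obtain ⟨a, ha, -⟩ := hsh x (fun {Z} g₁ g₂ h => by rw [(cancel_mono f).1 h])
    exact ⟨a, ha⟩

end Groth.Agent.S8988
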