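import Groth.Statements.S8991
import Groth.Agent.L28.VTop.Squares

set_option autoImplicit false
universe u
open HTop

namespace Groth.Agent.S8991

open CategoryTheory CategoryTheory.Limits AlgebraicGeometry Opposite in
/-- A ph sheaf on schemes over S takes the same sections on an S-scheme and on any thickening of it. -/
theorem result (S : Scheme.{u}) (F : HTop.ShPh S) {X X' : Over S} (f : X ⟶ X') (hf : MoreMor.IsThickening f.left) : Function.Bijective (F.obj.map f.op) := by
  haveI : IsClosedImmersion f.left := hf.1
  haveI : Surjective f.left := hf.2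
  haveI : Mono f := Over.mono_of_mono_left f
  have hR : Sieve.generate (Presieve.singleton f) ∈ HTop.Jph S X' :=
    Groth.L28.VTop.mem_Jph_pair f f (fun t => Or.inl (f.left.surjective t)) _
      (Sieve.le_generate _ _ _ (Presieve.singleton_self f)) (Sieve.le_generate _ _ _ (Presieve.singleton_self f))
  have hs := ((isSheaf_iff_isSheaf_of_type _ _).1 F.property) _ hR
  rw [← Presieve.isSheafFor_iff_generate, Presieve.isSheafFor_singleton] at hs
  refine ⟨fun a b hab => ?_, fun x => ?_⟩
  · obtain ⟨t, -, ht⟩ := hs (F.obj.map f.op b) (fun {Z} p₁ p₂ h => by rw [(cancel_mono f).1 h])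
    exact (ht a hab).trans (ht b rfl).symm
  · obtain ⟨t, ht, -⟩ := hs x (fun {Z} p₁ p₂ h => by rw [(cancel_mono f).1 h])
    exact ⟨t, ht⟩

end Groth.Agent.S8991
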