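import Groth.Statements.S8992
import Groth.Agent.L28.AWN.Key
import Mathlib.Algebra.Field.ZMod
import Mathlib.RingTheory.SimpleRing.Field

set_option autoImplicit false
universe u
open HTop

namespace Groth.Agent.S8992

/-- An algebra over the prime field with p elements is absolutely weakly normal if and only if its p-th
power map is bijective (the algebra is perfect). -/
theorem result (p : ℕ) [Fact p.Prime] (A : Type u) [CommRing A] [Algebra (ZMod p) A] : HTop.IsAWNRing A ↔ PerfectRing A p := by
  rcases subsingleton_or_nontrivial A with hs | hs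
  · refine ⟨fun _ => ?_, fun _ => ?_⟩
    · have := ExpChar.prime (R := A) (q := p)
      exact ⟨⟨fun a b _ => Subsingleton.elim a b, fun a => ⟨a, Subsingleton.elim _ _⟩⟩⟩
    · exact ⟨fun x y _ => ⟨x, ⟨Subsingleton.elim _ _, Subsingleton.elim _ _⟩, fun b _ => Subsingleton.elim _ _⟩,
        fun q _ x y _ => ⟨x, ⟨Subsingleton.elim _ _, Subsingleton.elim _ _⟩, fun b _ => Subsingleton.elim _ _⟩⟩
  · have : CharP A p := charP_of_injective_algebraMap (algebraMap (ZMod p) A).injective p
    exact ⟨Groth.L28.AWN.perfectRing_of_isAWNRing p, fun _ => Groth.L28.AWN.isAWNRing_of_perfect p⟩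

end Groth.Agent.S8992
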