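import Groth.Statements.S8993
import Groth.Agent.L28.AWN.Key

set_option autoImplicit false
universe u
open HTop

namespace Groth.Agent.S8993

/-- For a ring A of prime characteristic p, the map from A to the direct limit of A along Frobenius (the
perfect closure) is an absolute weak normalization of A. (The published statement also identifies,
over a base of characteristic p, the h sheafification of the structure sheaf on quasi-compact
quasi-separated objects with this colimit; that part is not stated here.) -/
theorem result (p : ℕ) [Fact p.Prime] (A : Type u) [CommRing A] [CharP A p] : HTop.IsRingAWN (PerfectClosure.of A p) := by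
  refine Groth.L28.AWN.isRingAWN_of_isAWNRing ⟨fun x => ?_, fun K _ f g hfg => ?_, fun a ha => ?_⟩
    (Groth.L28.AWN.isAWNRing_of_perfect p)
  · induction x using PerfectClosure.induction_on with
    | _ x =>
      obtain ⟨n, x⟩ := x
      refine ⟨Polynomial.X ^ (p ^ n) - Polynomial.C x, Polynomial.monic_X_pow_sub_C x (pow_ne_zero _ (Fact.out : p.Prime).ne_zero), ?_⟩
      rw [Polynomial.eval₂_sub, Polynomial.eval₂_X_pow, Polynomial.eval₂_C, ← iterate_frobenius,
        PerfectClosure.iterate_frobenius_mk, sub_eq_zero]
  · have : CharP K p := by
      refine (CharP.charP_iff_prime_eq_zero Fact.out).mpr ?_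
      rw [← map_natCast f, CharP.cast_eq_zero, map_zero]
    refine RingHom.ext fun x => ?_
    induction x using PerfectClosure.induction_on with
    | _ x =>
      obtain ⟨n, x⟩ := x
      have h : PerfectClosure.mk A p (n, x) ^ p ^ n = PerfectClosure.of A p x := by
        rw [← iterate_frobenius, PerfectClosure.iterate_frobenius_mk]
      refine iterateFrobenius_inj K p n ?_
      simp only [iterateFrobenius_def, ← map_pow, h]
      exact RingHom.congr_fun hfg x
  · rw [← map_zero (PerfectClosure.of A p), PerfectClosure.of_apply, PerfectClosure.of_apply,
      PerfectClosure.mk_eq_iff] at ha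
    obtain ⟨z, hz⟩ := ha
    refine ⟨p ^ z, ?_⟩
    simpa [iterate_frobenius, zero_pow (pow_ne_zero _ (Fact.out : p.Prime).ne_zero)] using hz

end Groth.Agent.S8993
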