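import Groth.Statements.S8994
import Groth.Agent.L23.HFlat.Top

set_option backward.isDefEq.respectTransparency.types false

set_option autoImplicit false
universe w u
open HTop

namespace Groth.Agent.S8994

open CategoryTheory CategoryTheory.Limits AlgebraicGeometry Opposite in
/-- A presheaf of sets on schemes over S is an h sheaf if and only if it is a Zariski sheaf, satisfies
the sheaf condition for surjective flat proper morphisms of finite presentation onto affine
S-schemes, and turns into a cartesian square every almost blow up square over an affine corner X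
whose centre is cut out by at most two global sections of the structure sheaf of X. (The published
statement asks the last condition only for two explicit almost blow up squares attached to one,
respectively two, generators; this row asks it for every almost blow up square whose centre is
generated by two global sections, a condition that still follows from being an h sheaf and that
implies the published one.) -/
theorem result (S : Scheme.{u}) (F : (Over S)ᵒᵖ ⥤ Type w) : Presieve.IsSheaf (HTop.Jh S) F ↔ (Presieve.IsSheaf (Scheme.zariskiTopology.over S) F ∧ (∀ (X Y : Over S) (f : X ⟶ Y), IsAffine Y.left → Surjective f.left → Flat f.left → IsProper f.left → LocallyOfFinitePresentation f.left → Presieve.IsSheafFor F (Presieve.singleton f)) ∧ ∀ (E Z X' X : Over S) (e : E ⟶ X') (π : E ⟶ Z) (b : X' ⟶ X) (i : Z ⟶ X), IsAffine X.left → HTop.IsAlmostBlowUpSquare e.left π.left b.left i.left → (∃ f₁ f₂ : Γ(X.left, ⊤), i.left.ker = Scheme.IdealSheafData.ofIdealTop (Ideal.span {f₁, f₂})) → ∀ (t : F.obj (op Z)) (s' : F.obj (op X')), F.map π.op t = F.map e.op s' → ∃! s : F.obj (op X), F.map i.op s = t ∧ F.map b.op s = s') := by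
  refine ⟨fun h => ⟨((Groth.L23.HCmp.isSheaf_Jh_iff F).1 h).1,
    fun X Y f h1 h2 _ h4 h5 => ((Groth.L23.HCmp.isSheaf_Jh_iff F).1 h).2 Y X f h1 h4 h2 h5,
    fun E Z X' X e π b i _ hsq _ t s' hts =>
      Groth.L23.HFlat.existsUnique_of_isSheaf_Jh h e π b i hsq t s' hts⟩, ?_⟩
  rintro ⟨hZ, hflat, hsq⟩
  exact Groth.L23.HFlat.isSheaf_Jh_of_conds hZ hflat hsq

end Groth.Agent.S8994
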