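import Groth.Statements.S8997
import Groth.Agent.L20.RG.InjModFlat
import Groth.Agent.L20.RG.FreeNhd
import Groth.Agent.S1208

set_option autoImplicit false
universe u
open FlatMor

set_option backward.isDefEq.respectTransparency.types false
open IsLocalRing TensorProduct

theorem tower_of_comp {A S B : Type u} [CommRing A] [CommRing S] [CommRing B] [Algebra A S] [Algebra A B] [Algebra S B]
    [IsScalarTower A S B] (M : Type u) [AddCommGroup M] [Module B M] [Module A M] [Module S M] [IsScalarTower A B M]
    [IsScalarTower S B M] : IsScalarTower A S M :=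
  IsScalarTower.of_algebraMap_smul fun a m => by
    rw [← algebraMap_smul B (algebraMap A S a) m, ← IsScalarTower.algebraMap_apply, algebraMap_smul]

theorem isUnit_end {S B : Type u} [CommRing S] [CommRing B] [Algebra S B] (T : Submonoid S) [IsLocalization T B]
    (M : Type u) [AddCommGroup M] [Module B M] [Module S M] [IsScalarTower S B M] (t : T) :
    IsUnit (algebraMap S (Module.End S M) t) := by
  obtain ⟨c, hc⟩ := IsLocalization.map_units B t
  refine (Module.End.isUnit_iff _).mpr ⟨fun a b hab => ?_, fun a => ⟨(↑c⁻¹ : B) • a, ?_⟩⟩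
  · have h : (c : B) • a = (c : B) • b := by rw [hc, algebraMap_smul, algebraMap_smul]; exact hab
    simpa [smul_smul] using congrArg ((↑c⁻¹ : B) • ·) h
  · show (t : S) • (↑c⁻¹ : B) • a = a
    rw [← algebraMap_smul B (t : S), ← hc, smul_smul, Units.mul_inv, one_smul]

theorem isLocalizedModule_id' {S B : Type u} [CommRing S] [CommRing B] [Algebra S B] (T : Submonoid S) [IsLocalization T B]
    (M : Type u) [AddCommGroup M] [Module B M] [Module S M] [IsScalarTower S B M] :
    IsLocalizedModule T (LinearMap.id : M →ₗ[S] M) :=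
  IsLocalizedModule.mk (fun t => isUnit_end (B := B) T M t) (fun y => ⟨⟨y, 1⟩, one_smul _ _⟩)
    (fun h => ⟨1, congrArg _ h⟩)

theorem isLocalizedModule_subtype {S B : Type u} [CommRing S] [CommRing B] [Algebra S B] (T : Submonoid S)
    [IsLocalization T B] {N : Type u} [AddCommGroup N] [Module B N] [Module S N] [IsScalarTower S B N]
    (N₀ : Submodule S N) (hden : ∀ x : N, ∃ t : T, (t : S) • x ∈ N₀) : IsLocalizedModule T N₀.subtype :=
  IsLocalizedModule.mk (fun t => isUnit_end (B := B) T N t)
    (fun y => ⟨⟨⟨_, (hden y).choose_spec⟩, (hden y).choose⟩, rfl⟩)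
    (fun h => ⟨1, congrArg _ (Subtype.ext h)⟩)

theorem iso_map {S : Type u} [CommRing S] (T : Submonoid S) {N₀ M N : Type u} [AddCommGroup N₀] [Module S N₀]
    [AddCommGroup M] [Module S M] [AddCommGroup N] [Module S N] (u₀ : N₀ →ₗ[S] M) (f : N₀ →ₗ[S] N)
    [IsLocalizedModule T f] [IsLocalizedModule T (LinearMap.id : M →ₗ[S] M)] (u : N →ₗ[S] M) (h : ∀ x, u (f x) = u₀ x)
    (z : LocalizedModule T N₀) :
    u (IsLocalizedModule.iso T f z) = IsLocalizedModule.iso T (LinearMap.id : M →ₗ[S] M) (LocalizedModule.map T u₀ z) := by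
  refine LinearMap.congr_fun (IsLocalizedModule.ext T (LocalizedModule.mkLinearMap T N₀) 
    (j := u ∘ₗ (IsLocalizedModule.iso T f).toLinearMap)
    (k := (IsLocalizedModule.iso T (LinearMap.id : M →ₗ[S] M)).toLinearMap ∘ₗ (LocalizedModule.map T u₀).restrictScalars S)
    (fun t => IsLocalizedModule.map_units (LinearMap.id : M →ₗ[S] M) t) ?_) z
  refine LinearMap.ext fun x => ?_
  simp [h, LocalizedModule.map_mk]

set_option maxHeartbeats 1000000 in
theorem fp_of_flatAt {A S B : Type u} [CommRing A] [CommRing S] [CommRing B] [Algebra A S] [Algebra S B]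
    (P : Type u) [CommRing P] [Algebra A P] [Algebra.FinitePresentation A P] (φ : P →ₐ[A] S) (hφ : Function.Surjective φ)
    (q : Ideal S) [q.IsPrime] [IsLocalization q.primeCompl B] (N₀ : Type u) [AddCommGroup N₀] [Module S N₀]
    [Module A N₀] [IsScalarTower A S N₀] [Module.Finite S N₀] {N : Type u} [AddCommGroup N] [Module B N] [Module S N]
    [IsScalarTower S B N] (f : N₀ →ₗ[S] N) [IsLocalizedModule q.primeCompl f] (hflat : FlatCA.FlatAt A q N₀) :
    Module.FinitePresentation B N := by
  letI : Algebra P S := φ.toRingHom.toAlgebra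
  haveI : IsScalarTower A P S := IsScalarTower.of_algebraMap_eq' φ.comp_algebraMap.symm
  letI : Module P N₀ := Module.compHom N₀ (algebraMap P S)
  haveI : IsScalarTower P S N₀ := IsScalarTower.of_algebraMap_smul fun _ _ => rfl
  haveI : IsScalarTower A P N₀ := tower_of_comp (B := S) N₀
  haveI : Module.Finite P S := Module.Finite.of_surjective (Algebra.linearMap P S) hφ
  haveI : Module.Finite P N₀ := Module.Finite.trans S N₀
  let Q := q.comap (algebraMap P S)
  letI : Algebra P B := ((algebraMap S B).comp (algebraMap P S)).toAlgebra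
  haveI : IsScalarTower P S B := IsScalarTower.of_algebraMap_eq' rfl
  have hu : ∀ t : Q.primeCompl, IsUnit (algebraMap P B t) := fun t => by
    rw [IsScalarTower.algebraMap_apply P S B]
    exact IsLocalization.map_units B (⟨_, t.2⟩ : q.primeCompl)
  let PQ := Localization.AtPrime Q
  haveI := Groth.Agent.S1208.result (R := A) (S := P) N₀ Q
    ((Groth.L20.RG.flatAt_iff_of_surjective (R := A) (S := S) (P := P) hφ N₀ q).mpr hflat)
  letI : Algebra PQ B := (IsLocalization.lift (M := Q.primeCompl) hu).toAlgebra
  haveI : IsScalarTower P PQ B := IsScalarTower.of_algebraMap_eq fun x => (IsLocalization.lift_eq hu x).symm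
  have hsurj : Function.Surjective (algebraMap PQ B) := fun b => by
    obtain ⟨⟨a, t⟩, hat⟩ := IsLocalization.surj q.primeCompl b
    obtain ⟨a', rfl⟩ := hφ a
    obtain ⟨t', ht'⟩ := hφ t
    have ht'Q : t' ∈ Q.primeCompl := fun h => t.2 (show (t : S) ∈ q from ht' ▸ h)
    refine ⟨IsLocalization.mk' PQ a' ⟨t', ht'Q⟩, ?_⟩
    show IsLocalization.lift hu _ = b
    rw [IsLocalization.lift_mk'_spec, IsScalarTower.algebraMap_apply P S B, IsScalarTower.algebraMap_apply P S B,
      show algebraMap P S t' = t from ht', show algebraMap P S a' = φ a' from rfl, ← hat, mul_comm]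
  letI : Module PQ N := Module.compHom N (algebraMap PQ B)
  haveI : IsScalarTower PQ B N := IsScalarTower.of_algebraMap_smul fun _ _ => rfl
  letI : Module P N := Module.compHom N (algebraMap P B)
  haveI : IsScalarTower P B N := IsScalarTower.of_algebraMap_smul fun _ _ => rfl
  haveI : IsScalarTower P PQ N := tower_of_comp (B := B) N
  haveI : IsScalarTower P S N := tower_of_comp (B := B) N
  haveI hfP : IsLocalizedModule Q.primeCompl (f.restrictScalars P) := by
    refine Groth.L20.RG.isLocalizedModule_restrict Q.primeCompl q.primeCompl f (fun t ht => ht) fun s hs => ?_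
    obtain ⟨t, rfl⟩ := hφ s
    exact ⟨t, hs, dvd_rfl⟩
  haveI : Module.FinitePresentation PQ N := Module.FinitePresentation.of_equiv
    ((IsLocalizedModule.iso Q.primeCompl (f.restrictScalars P)).extendScalarsOfIsLocalization Q.primeCompl PQ)
  -- passing to the quotient `B` of `P_Q`
  obtain ⟨n, π, hπ⟩ := Module.Finite.exists_fin' PQ N
  let b := fun i => π (Pi.single i 1)
  let π' : (Fin n → B) →ₗ[B] N := Fintype.linearCombination B b
  have hcomp : ∀ v : Fin n → PQ, π' (fun i => algebraMap PQ B (v i)) = π v := fun v => by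
    rw [Fintype.linearCombination_apply]
    conv_rhs => rw [pi_eq_sum_univ' v, map_sum]
    exact Finset.sum_congr rfl fun i _ => by rw [algebraMap_smul, map_smul]
  have hπ' : Function.Surjective π' := fun x => by
    obtain ⟨v, rfl⟩ := hπ x
    exact ⟨_, hcomp v⟩
  refine Module.finitePresentation_of_surjective π' hπ' ?_
  obtain ⟨t, ht⟩ := Module.FinitePresentation.fg_ker π hπ
  classical
  refine ⟨t.image fun v => fun i => algebraMap PQ B (v i), le_antisymm (Submodule.span_le.mpr ?_) fun w hw => ?_⟩
  · intro w hw
    obtain ⟨v, hv, rfl⟩ := Finset.mem_image.mp hw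
    show π' _ = 0
    rw [hcomp]
    exact (ht ▸ Submodule.subset_span hv : v ∈ LinearMap.ker π)
  · obtain ⟨v, rfl⟩ := hsurj.comp_left w
    have hv : v ∈ Submodule.span PQ (t : Set (Fin n → PQ)) := by
      rw [ht]; exact (hcomp v).symm.trans hw
    show (fun i => algebraMap PQ B (v i)) ∈ _
    clear hw
    induction hv using Submodule.span_induction with
    | mem v hv => exact Submodule.subset_span (Finset.mem_image_of_mem _ hv)
    | zero => simp only [Pi.zero_apply, map_zero]; exact zero_mem _
    | add x y _ _ hx hy => simp only [Pi.add_apply, map_add]; exact add_mem hx hy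
    | smul c x _ hx =>
      simp only [Pi.smul_apply, smul_eq_mul, map_mul]
      exact Submodule.smul_mem _ (algebraMap PQ B c) hx

namespace Groth.Agent.S8997

open IsLocalRing TensorProduct in
/-- For a local homomorphism A → B of local rings essentially of finite type, a B-linear map from a
finite B-module N to an A-flat B-module M which is injective modulo the maximal ideal of A is
A-universally injective, and N is then finitely presented over B and flat over A. -/
theorem result {A B : Type u} [CommRing A] [IsLocalRing A] [CommRing B] [IsLocalRing B] [Algebra A B] [IsLocalHom (algebraMap A B)] [Algebra.EssFiniteType A B] {N M : Type u} [AddCommGroup N] [Module B N] [Module A N] [IsScalarTower A B N] [Module.Finite B N] [AddCommGroup M] [Module B M] [Module A M] [IsScalarTower A B M] [Module.Flat A M] (u : N →ₗ[B] M) (hu : Function.Injective ((u.restrictScalars A).lTensor (ResidueField A))) : FlatCA.UnivInj A (u.restrictScalars A) ∧ Module.FinitePresentation B N ∧ Module.Flat A N := by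
  classical
  obtain ⟨S, _, _, _, _, _, T, hloc⟩ : ∃ (S : Type u) (_ : CommRing S) (_ : Algebra A S) (_ : Algebra S B)
      (_ : IsScalarTower A S B) (_ : Algebra.FiniteType A S) (T : Submonoid S), IsLocalization T B :=
    ⟨Algebra.EssFiniteType.subalgebra A B, inferInstance, inferInstance, inferInstance, inferInstance, inferInstance,
      Algebra.EssFiniteType.submonoid A B, Algebra.EssFiniteType.isLocalization A B⟩
  haveI := hloc
  let q : Ideal S := (maximalIdeal B).comap (algebraMap S B)
  haveI hq : IsLocalization q.primeCompl B := IsLocalization.of_le T q.primeCompl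
    (fun t ht (h : algebraMap S B t ∈ maximalIdeal B) => h (IsLocalization.map_units B (⟨t, ht⟩ : T)))
    (fun t (ht : algebraMap S B t ∉ maximalIdeal B) => not_not.mp ht)
  haveI : q.LiesOver (maximalIdeal A) := ⟨by
    rw [Ideal.under, Ideal.comap_comap, ← IsScalarTower.algebraMap_eq]
    exact (((local_hom_TFAE (algebraMap A B)).out 0 4 rfl rfl).mp ‹IsLocalHom (algebraMap A B)› : (maximalIdeal B).comap (algebraMap A B) = maximalIdeal A).symm⟩
  letI : Module S M := Module.compHom M (algebraMap S B)
  letI : Module S N := Module.compHom N (algebraMap S B)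
  haveI : IsScalarTower S B M := IsScalarTower.of_algebraMap_smul fun _ _ => rfl
  haveI : IsScalarTower S B N := IsScalarTower.of_algebraMap_smul fun _ _ => rfl
  haveI : IsScalarTower A S M := tower_of_comp (B := B) M
  haveI : IsScalarTower A S N := tower_of_comp (B := B) N
  obtain ⟨g, hg⟩ := (Module.Finite.fg_top : (⊤ : Submodule B N).FG)
  let N₀ : Submodule S N := Submodule.span S (g : Set N)
  haveI : Module.Finite S N₀ := Module.Finite.span_of_finite S g.finite_toSet
  have hden : ∀ x : N, ∃ t : q.primeCompl, (t : S) • x ∈ N₀ := fun x => by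
    induction (hg ▸ Submodule.mem_top : x ∈ Submodule.span B (g : Set N)) using Submodule.span_induction with
    | mem x hx => exact ⟨1, by rw [OneMemClass.coe_one, one_smul]; exact Submodule.subset_span hx⟩
    | zero => exact ⟨1, by rw [smul_zero]; exact zero_mem _⟩
    | add x y _ _ hx hy =>
      obtain ⟨a, ha⟩ := hx
      obtain ⟨b, hb⟩ := hy
      refine ⟨a * b, ?_⟩
      rw [Submonoid.coe_mul, smul_add, mul_smul, mul_smul, smul_comm (a : S) (b : S) x]
      exact add_mem (N₀.smul_mem _ ha) (N₀.smul_mem _ hb)
    | smul c x _ hx =>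
      obtain ⟨a, ha⟩ := hx
      obtain ⟨⟨n, d⟩, hd⟩ := IsLocalization.surj q.primeCompl c
      simp only at hd
      refine ⟨a * d, ?_⟩
      rw [Submonoid.coe_mul, mul_smul, show (d : S) • c • x = n • x by
        rw [← algebraMap_smul B (d : S), smul_smul, mul_comm, hd, algebraMap_smul], smul_comm]
      exact N₀.smul_mem n ha
  haveI hN₀ : IsLocalizedModule q.primeCompl N₀.subtype := isLocalizedModule_subtype (B := B) q.primeCompl N₀ hden
  haveI hM : IsLocalizedModule q.primeCompl (LinearMap.id : M →ₗ[S] M) := isLocalizedModule_id' (B := B) q.primeCompl M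
  have hinj : Groth.L20.RG.InjMod (u.restrictScalars A) :=
    (Groth.L20.RG.InjMod.iff_rTensor _).mpr ((LinearMap.lTensor_inj_iff_rTensor_inj _ _).mp hu)
  let u₀ : N₀ →ₗ[S] M := (u.restrictScalars S) ∘ₗ N₀.subtype
  have hu₀ : ∀ x, u₀ x ∈ ((maximalIdeal A).map (algebraMap A S) • ⊤ : Submodule S M) →
      ∃ s ∉ q, s • x ∈ ((maximalIdeal A).map (algebraMap A S) • ⊤ : Submodule S N₀) := by
    intro x hx
    have h1 := hinj (x : N) ((Groth.L20.RG.mem_map_smul_top _ _).mp hx)
    obtain ⟨s, hs⟩ : ∃ s : q.primeCompl, (s : S) • (x : N) ∈ (maximalIdeal A).map (algebraMap A S) • N₀ := by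
      refine Submodule.smul_induction_on h1 (fun a ha n _ => ?_) fun y z hy hz => ?_
      · obtain ⟨t, ht⟩ := hden n
        refine ⟨t, ?_⟩
        rw [← algebraMap_smul S a n, smul_comm]
        exact Submodule.smul_mem_smul (Ideal.mem_map_of_mem _ ha) ht
      · obtain ⟨a, ha⟩ := hy
        obtain ⟨b, hb⟩ := hz
        refine ⟨a * b, ?_⟩
        rw [Submonoid.coe_mul, smul_add, mul_smul, mul_smul, smul_comm (a : S) (b : S) y]
        exact add_mem (Submodule.smul_mem _ _ ha) (Submodule.smul_mem _ _ hb)
    refine ⟨s, s.2, ?_⟩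
    have hs2 : (s : S) • (x : N) ∈ Submodule.map N₀.subtype ((maximalIdeal A).map (algebraMap A S) • ⊤) := by
      rw [Submodule.map_smul'', Submodule.map_top, Submodule.range_subtype]; exact hs
    obtain ⟨y, hy, hy'⟩ := hs2
    rwa [show (s : S) • x = y from Subtype.ext hy'.symm]
  obtain ⟨hflat, huinj⟩ := Groth.L20.RG.flat_univInj_of_injMod q N₀ u₀ hu₀
  haveI : Module.Flat A (LocalizedModule q.primeCompl N₀) := hflat
  let eN := IsLocalizedModule.iso q.primeCompl N₀.subtype
  let eM := IsLocalizedModule.iso q.primeCompl (LinearMap.id : M →ₗ[S] M)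
  refine ⟨?_, ?_, Module.Flat.of_linearEquiv (eN.restrictScalars A).symm⟩
  · have hcomm : ∀ z, u (eN z) = eM (LocalizedModule.map q.primeCompl u₀ z) := fun z =>
      iso_map q.primeCompl u₀ N₀.subtype (u.restrictScalars S) (fun _ => rfl) z
    intro Q _ _ a b hab
    obtain ⟨a, rfl⟩ := ((eN.restrictScalars A).lTensor Q).surjective a
    obtain ⟨b, rfl⟩ := ((eN.restrictScalars A).lTensor Q).surjective b
    refine congrArg _ (huinj Q (((eM.restrictScalars A).lTensor Q).injective ?_))
    have hnat : ∀ w, (u.restrictScalars A).lTensor Q ((eN.restrictScalars A).lTensor Q w) =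
        (eM.restrictScalars A).lTensor Q (((LocalizedModule.map q.primeCompl u₀).restrictScalars A).lTensor Q w) := fun w => by
      induction w using TensorProduct.induction_on with
      | zero => simp only [map_zero]
      | add a b ha hb => simp only [map_add, ha, hb]
      | tmul c x => exact congrArg (c ⊗ₜ[A] ·) (hcomm x)
    rw [← hnat, ← hnat]
    exact hab
  · obtain ⟨k, φ, hφ⟩ := Algebra.FiniteType.iff_quotient_mvPolynomial''.mp (inferInstance : Algebra.FiniteType A S)
    exact fp_of_flatAt (MvPolynomial (Fin k) A) φ hφ q N₀ N₀.subtype hflat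

end Groth.Agent.S8997
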