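import Groth.Statements.S8998
import Groth.Agent.L20.RG.ImpurityNoeth
import Groth.Agent.L20.RG.ImpurityHensel

set_option autoImplicit false
set_option linter.style.haveILetI false
set_option backward.isDefEq.respectTransparency.types false
universe u
open FlatMor

set_option backward.isDefEq.respectTransparency.types false
namespace Groth.Agent.S8998

/-- For an affine finite type morphism Spec B → Spec A: if the local ring of A at the prime p is
Noetherian, then a finite B-module is pure along the fibre over p if and only if it is universally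
pure along it. -/
theorem result {A B : Type u} [CommRing A] [CommRing B] [Algebra A B] [Algebra.FiniteType A B] (N : Type u) [AddCommGroup N] [Module B N] [Module.Finite B N] (p : Ideal A) [p.IsPrime] [IsNoetherianRing (Localization.AtPrime p)] : FlatCA.IsPureAlong A B N p ↔ FlatCA.IsUnivPureAlong A B N p := by
  refine ⟨fun h => ?_, fun h A' B' N' _ _ _ _ _ _ _ _ _ _ _ _ _ _ f t' t _ _ P _ _ himp => h A' B' N' f t' t P himp⟩
  intro A' B' N' _ _ _ _ _ _ _ _ _ _ _ _ _ _ f t' t _ _ P _ himp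
  classical
  obtain ⟨n, s, a, b, hw, hle, hp, hs, ha⟩ := Groth.L20.RG.exists_wit_of_isImpurity himp
  haveI := hp
  let L := Localization.AtPrime p
  let A₁ := Localization.AtPrime t
  letI : Algebra L A₁ := Localization.AtPrime.algebraOfLiesOver p t
  let T' : Ideal A₁ := t'.map (algebraMap A' A₁)
  let T := IsLocalRing.maximalIdeal A₁
  have hd : Disjoint (t.primeCompl : Set A') ↑t' := Set.disjoint_left.mpr fun x hx hxt => hx (hle hxt)
  haveI : T'.IsPrime := IsLocalization.isPrime_of_isPrime_disjoint t.primeCompl A₁ t' inferInstance hd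
  haveI : T'.LiesOver t' := ⟨(IsLocalization.under_map_of_isPrime_disjoint t.primeCompl A₁ inferInstance hd).symm⟩
  haveI : T.LiesOver t := ⟨(IsLocalization.AtPrime.under_maximalIdeal A₁ t).symm⟩
  haveI : T.LiesOver p := Ideal.LiesOver.trans T t p
  have hw₁ := (Groth.L20.RG.wit_iff t' T' s a b).mpr hw
  let A₂ := MvPolynomial (Option (Fin n)) L
  let s₁ := algebraMap A' A₁ s
  let a₁ := fun k => algebraMap A' A₁ (a k)
  let φ : A₂ →ₐ[L] A₁ := MvPolynomial.aeval fun o => o.elim s₁ a₁
  letI : Algebra A₂ A₁ := φ.toRingHom.toAlgebra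
  haveI : IsScalarTower L A₂ A₁ := IsScalarTower.of_algebraMap_eq' φ.comp_algebraMap.symm
  haveI : IsScalarTower A A₂ A₁ := IsScalarTower.of_algebraMap_eq fun x => by
    rw [IsScalarTower.algebraMap_apply A L A₂, ← IsScalarTower.algebraMap_apply L A₂ A₁,
      ← IsScalarTower.algebraMap_apply A L A₁]
  have hφ : ∀ o, algebraMap A₂ A₁ (MvPolynomial.X o) = o.elim s₁ a₁ := fun o => MvPolynomial.aeval_X _ _
  rw [show algebraMap A' A₁ s = algebraMap A₂ A₁ (MvPolynomial.X none) from (hφ none).symm,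
    show (fun k => algebraMap A' A₁ (a k)) = fun k => algebraMap A₂ A₁ (MvPolynomial.X (some k)) from
      funext fun k => (hφ (some k)).symm] at hw₁
  have hs₂ : MvPolynomial.X none ∉ T.under A₂ := by
    rw [Ideal.under_def, Ideal.mem_comap, hφ]
    exact fun h => hs ((Ideal.mem_of_liesOver T t s).mpr h)
  let pL := IsLocalRing.maximalIdeal L
  haveI : pL.LiesOver p := ⟨(IsLocalization.AtPrime.under_maximalIdeal L p).symm⟩
  haveI : T.LiesOver pL := ⟨by
    rw [← IsLocalization.map_under p.primeCompl L pL, ← IsLocalization.map_under p.primeCompl L (T.under L),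
      Ideal.under_under, ← Ideal.over_def T p, ← Ideal.over_def pL p]⟩
  haveI : (T.under A₂).LiesOver pL := ⟨by rw [Ideal.under_under]; exact Ideal.over_def T pL⟩
  obtain ⟨m, hm, htm, hmp, hsm, hmax⟩ := Groth.L20.RG.exists_maximal_fiber pL (T.under A₂) hs₂
  haveI := hmp
  have hclosed : ∀ τ : Ideal A₂, τ.IsPrime → τ.LiesOver pL → m ≤ τ → τ = m := fun τ hτ hτp hle' => by
    haveI := hτ
    haveI := hτp
    rw [← Groth.L20.comap_fiberIdeal pL m, ← Groth.L20.comap_fiberIdeal pL τ,
      hmax.eq_of_le (Groth.L20.isPrime_fiberIdeal pL τ).ne_top (Ideal.map_mono hle')]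
  have hw₂ := (Groth.L20.RG.wit_iff (T'.under A₂) T' _ _ b).mp hw₁
  have hle₂ : T'.under A₂ ≤ m := (Ideal.comap_mono (IsLocalRing.le_maximalIdeal
    (inferInstance : T'.IsPrime).ne_top)).trans htm
  have ha₂ : ∀ k, MvPolynomial.X (some k) ∈ m := fun k => htm (by
    rw [Ideal.under_def, Ideal.mem_comap, hφ]
    exact (Ideal.mem_of_liesOver T t (a k)).mp (ha k))
  obtain ⟨A₃, _, _, _, _, u', u, _, _, s₃, a₃, hft, hup, hqf, hule, hw₃, hs₃, ha₃⟩ :=
    Groth.L20.RG.exists_quasiFinite_wit (L := L) pL (T'.under A₂) m hclosed hle₂ hw₂ hsm ha₂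
  haveI := hft
  haveI := hup
  haveI := hqf
  obtain ⟨S, _, _, v', v, _, _, n₄, s₄, a₄, b₄, hw₄, hle₄, -, hs₄, ha₄, _, _, _, hnhd⟩ :=
    Groth.L20.RG.exists_wit (Groth.L20.RG.hasImpurity_etale_of_quasiFinite p pL u' u hule hw₃ hs₃ ha₃)
  obtain ⟨R, B₁, N₁, _, _, _, _, _, _, _, _, _, _, _, _, _, _, f₁, w', w, _, _, Q, _, himp₁, _, hn⟩ :=
    Groth.L20.RG.hasImpurity_etale_of_local p v hnhd v' hw₄ hle₄ hs₄ ha₄
  exact h R B₁ N₁ f₁ w' w Q hn himp₁

end Groth.Agent.S8998
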