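import Groth.Statements.S8999
import Groth.Agent.L20.FiberAss
import Groth.Agent.L20.FlatAtBaseChange

set_option autoImplicit false
universe u
open FlatMor

namespace Groth.Agent.S8999
open TensorProduct in
private theorem ass_transfer {A' B' C' : Type u} [CommRing A'] [CommRing B'] [CommRing C'] [Algebra A' B'] [Algebra A' C']
    [Algebra B' C'] [IsScalarTower A' B' C'] (N' N'' : Type u) [AddCommGroup N'] [Module B' N'] [Module A' N']
    [IsScalarTower A' B' N'] [AddCommGroup N''] [Module C' N''] [Module B' N''] [IsScalarTower B' C' N''] [Module A' N'']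
    [IsScalarTower A' C' N''] [IsScalarTower A' B' N''] (e : N' ≃ₗ[B'] N'') (t' : Ideal A') [t'.IsPrime]
    (hs : Function.Surjective (algebraMap B' C')) (P : Ideal B') [P.IsPrime] [P.LiesOver t']
    (PC : Ideal C') [PC.IsPrime] [PC.LiesOver t'] (hP : PC.comap (algebraMap B' C') = P) :
    FlatCA.fiberIdeal t' P ∈ associatedPrimes (t'.Fiber B') (FlatCA.fiberMod t' B' N') ↔
      FlatCA.fiberIdeal t' PC ∈ associatedPrimes (t'.Fiber C') (FlatCA.fiberMod t' C' N'') := by
  rw [Groth.L20.fiberIdeal_mem_associatedPrimes_iff, Groth.L20.fiberIdeal_mem_associatedPrimes_iff]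
  let E : N' ⊗[A'] t'.ResidueField ≃ₗ[B'] N'' ⊗[A'] t'.ResidueField :=
    AlgebraTensorModule.congr e (LinearEquiv.refl A' _)
  have key : ∀ (b : B') (k : ℕ) (z : N' ⊗[A'] t'.ResidueField),
      (b ^ k) • z = 0 ↔ (algebraMap B' C' b ^ k) • E z = 0 := by
    intro b k z
    rw [← map_pow, algebraMap_smul, ← map_smul, LinearEquiv.map_eq_zero_iff]
  constructor
  · rintro ⟨z, hz⟩
    refine ⟨E z, fun c => ?_⟩
    obtain ⟨b, rfl⟩ := hs c
    rw [← Ideal.mem_comap, hP, hz]
    exact exists_congr fun k => key b k z
  · rintro ⟨z, hz⟩
    obtain ⟨z, rfl⟩ := E.surjective z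
    refine ⟨z, fun b => ?_⟩
    rw [← hP, Ideal.mem_comap, hz]
    exact exists_congr fun k => (key b k z).symm

private theorem noPrimeAbove_iff {A' B' C' : Type u} [CommRing A'] [CommRing B'] [CommRing C'] [Algebra A' B'] [Algebra A' C']
    [Algebra B' C'] [IsScalarTower A' B' C'] (hs : Function.Surjective (algebraMap B' C')) (t : Ideal A')
    (P : Ideal B') (PC : Ideal C') (hP : PC.comap (algebraMap B' C') = P) :
    (∀ (P' : Ideal B') [P'.IsPrime], P ≤ P' → ¬ P'.LiesOver t) ↔
      ∀ (P' : Ideal C') [P'.IsPrime], PC ≤ P' → ¬ P'.LiesOver t := by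
  constructor
  · intro h P' _ hle hover
    refine h (P'.comap (algebraMap B' C')) (hP.ge.trans (Ideal.comap_mono hle)) ⟨?_⟩
    rw [Ideal.under_def, Ideal.comap_comap, ← IsScalarTower.algebraMap_eq]
    exact hover.over
  · intro h P' _ hle hover
    have hker : RingHom.ker (algebraMap B' C') ≤ P' :=
      le_trans (fun x hx => hle (hP ▸ (show algebraMap B' C' x ∈ PC by rw [show algebraMap B' C' x = 0 from hx]; exact PC.zero_mem))) le_rfl
    have : (P'.map (algebraMap B' C')).IsPrime := Ideal.map_isPrime_of_surjective hs hker
    refine h (P'.map (algebraMap B' C')) ?_ ⟨?_⟩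
    · rw [← Ideal.map_comap_of_surjective _ hs PC, hP]
      exact Ideal.map_mono hle
    · rw [Ideal.under_def, IsScalarTower.algebraMap_eq A' B' C', ← Ideal.comap_comap,
        Ideal.comap_map_of_surjective _ hs, ← RingHom.ker_eq_comap_bot, sup_eq_left.mpr hker]
      exact hover.over

private theorem main {A B C : Type u} [CommRing A] [CommRing B] [CommRing C] [Algebra A B] [Algebra B C] [Algebra A C]
    [IsScalarTower A B C] (hBC : Function.Surjective (algebraMap B C)) (N : Type u) [AddCommGroup N] [Module C N]
    [Module B N] [IsScalarTower B C N] (p : Ideal A) [p.IsPrime] (Q : ∀ (A' : Type u) [CommRing A'] [Algebra A A'], Ideal A' → Prop) :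
    FlatCA.HasImpurity A C N p Q ↔ FlatCA.HasImpurity A B N p Q := by
  constructor
  · rintro ⟨A', C', N', _, _, _, _, _, _, _, _, _, _, _, _, _, _, f, t', t, _, _, PC, _,
      ⟨hpush, hf, htt, htp, hPC, hass, hno⟩, hQ⟩
    let B' := TensorProduct A A' B
    let _ : Algebra B B' := Algebra.TensorProduct.rightAlgebra
    let _ : Algebra B C' := ((algebraMap C C').comp (algebraMap B C)).toAlgebra
    have : IsScalarTower B C C' := IsScalarTower.of_algebraMap_eq fun _ => rfl
    have : IsScalarTower A B C' := IsScalarTower.of_algebraMap_eq fun a => by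
      rw [IsScalarTower.algebraMap_apply A C C', IsScalarTower.algebraMap_apply A B C]; rfl
    let ψ : B' →ₐ[A'] C' := Algebra.TensorProduct.lift (Algebra.ofId A' C') (IsScalarTower.toAlgHom A B C')
      fun _ _ => Commute.all _ _
    let _ : Algebra B' C' := ψ.toRingHom.toAlgebra
    have : IsScalarTower A' B' C' := IsScalarTower.of_algebraMap_eq fun a => (ψ.commutes a).symm
    have : IsScalarTower B B' C' := IsScalarTower.of_algebraMap_eq fun b => by
      show algebraMap B C' b = ψ ((1 : A') ⊗ₜ[A] b)
      simp only [ψ]
      rw [Algebra.TensorProduct.lift_tmul, map_one, one_mul]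
      rfl
    have : IsScalarTower A B' C' := IsScalarTower.to₁₃₄ A A' B' C'
    have hpushB : Algebra.IsPushout A B A' B' := inferInstance
    have hpushC : Algebra.IsPushout B C B' C' := (Algebra.IsPushout.comp_iff A B A' B').mp hpush
    have hs : Function.Surjective (algebraMap B' C') := by
      intro c
      induction c using hpushC.symm.out.inductionOn with
      | zero => exact ⟨0, map_zero _⟩
      | tmul c =>
        obtain ⟨b, rfl⟩ := hBC c
        exact ⟨algebraMap B B' b, by rw [← IsScalarTower.algebraMap_apply B B' C']; rfl⟩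
      | smul b c ih =>
        obtain ⟨d, rfl⟩ := ih
        exact ⟨b * d, by rw [map_mul, Algebra.smul_def]⟩
      | add x y hx hy =>
        obtain ⟨a, rfl⟩ := hx
        obtain ⟨b, rfl⟩ := hy
        exact ⟨a + b, map_add _ _ _⟩
    let _ : Module B' N' := Module.compHom N' ψ.toRingHom
    let _ : Module B N' := Module.compHom N' (algebraMap B C)
    have : IsScalarTower B C N' := IsScalarTower.of_algebraMap_smul fun _ _ => rfl
    have : IsScalarTower B' C' N' := IsScalarTower.of_algebraMap_smul fun _ _ => rfl
    have : IsScalarTower B B' N' := IsScalarTower.of_algebraMap_smul fun b x => by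
      show algebraMap B' C' (algebraMap B B' b) • x = algebraMap B C b • x
      rw [← IsScalarTower.algebraMap_apply, IsScalarTower.algebraMap_apply B C C', algebraMap_smul]
    have : IsScalarTower A' B' N' := IsScalarTower.of_algebraMap_smul fun a x => by
      show algebraMap B' C' (algebraMap A' B' a) • x = a • x
      rw [← IsScalarTower.algebraMap_apply, algebraMap_smul]
    have hfB : IsBaseChange B' (f.restrictScalars B) := Groth.L20.isBaseChange_restrictScalars (S' := C') hf
    have hPB : (PC.comap (algebraMap B' C')).LiesOver t' := ⟨by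
      rw [Ideal.under_def, Ideal.comap_comap, ← IsScalarTower.algebraMap_eq]; exact hPC.over⟩
    have := hPC
    exact ⟨A', B', N', _, inferInstance, _, inferInstance, inferInstance, inferInstance, inferInstance, inferInstance,
      _, inferInstance, inferInstance, inferInstance, inferInstance, inferInstance, f.restrictScalars B, t', t,
      inferInstance, inferInstance, PC.comap (algebraMap B' C'), inferInstance,
      ⟨hpushB, hfB, htt, htp, hPB,
        (ass_transfer N' N' (LinearEquiv.refl B' N') t' hs _ PC rfl).mpr hass,
        (noPrimeAbove_iff hs t _ PC rfl).mpr hno⟩, hQ⟩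
  · rintro ⟨A', B', N', _, _, _, _, _, _, _, _, _, _, _, _, _, _, f, t', t, _, _, P, _,
      ⟨hpush, hf, htt, htp, hP, hass, hno⟩, hQ⟩
    let C' := TensorProduct B B' C
    let _ : Algebra C C' := Algebra.TensorProduct.rightAlgebra
    have : IsScalarTower B C C' := IsScalarTower.of_algebraMap_eq fun b =>
      ((Algebra.TensorProduct.includeRight : C →ₐ[B] C').commutes b).symm
    have hAC : ∀ a : A, algebraMap A C' a = algebraMap C C' (algebraMap A C a) := fun a => by
      rw [IsScalarTower.algebraMap_apply A B C, ← IsScalarTower.algebraMap_apply B C C']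
      show (algebraMap A B' a) ⊗ₜ[B] (1 : C) = _
      rw [IsScalarTower.algebraMap_apply A B B']; rfl
    have : IsScalarTower A C C' := IsScalarTower.of_algebraMap_eq hAC
    have hpushC : Algebra.IsPushout A C A' C' :=
      (Algebra.IsPushout.comp_iff A B A' B').mpr inferInstance
    have hs : Function.Surjective (algebraMap B' C') := by
      intro c
      induction c using TensorProduct.induction_on with
      | zero => exact ⟨0, map_zero _⟩
      | tmul x c =>
        obtain ⟨b, rfl⟩ := hBC c
        refine ⟨b • x, ?_⟩
        show (b • x) ⊗ₜ[B] (1 : C) = _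
        rw [TensorProduct.smul_tmul, Algebra.smul_def, mul_one]
      | add x y hx hy =>
        obtain ⟨a, rfl⟩ := hx
        obtain ⟨b, rfl⟩ := hy
        exact ⟨a + b, map_add _ _ _⟩
    let N'' := TensorProduct C C' N
    have : IsScalarTower B' C' N'' := inferInstance
    have : IsScalarTower B C N'' := IsScalarTower.of_algebraMap_smul fun b x => by
      rw [← algebraMap_smul C' (algebraMap B C b) x, ← IsScalarTower.algebraMap_apply, algebraMap_smul]
    have : IsScalarTower B B' N'' := IsScalarTower.of_algebraMap_smul fun b x => by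
      rw [← algebraMap_smul C' (algebraMap B B' b) x, ← IsScalarTower.algebraMap_apply B B' C',
        algebraMap_smul]
    have : IsScalarTower A' C' N'' := inferInstance
    have : IsScalarTower A' B' N'' := IsScalarTower.of_algebraMap_smul fun a x => by
      rw [← algebraMap_smul C' (algebraMap A' B' a) x, ← IsScalarTower.algebraMap_apply A' B' C', algebraMap_smul]
    let g : N →ₗ[C] N'' := TensorProduct.mk C C' N 1
    have hg : IsBaseChange C' g := TensorProduct.isBaseChange C N C'
    have hgB : IsBaseChange B' (g.restrictScalars B) := Groth.L20.isBaseChange_restrictScalars (S' := C') hg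
    let e : N' ≃ₗ[B'] N'' := hf.equiv.symm ≪≫ₗ hgB.equiv
    have hker : RingHom.ker (algebraMap B' C') ≤ P := by
      intro b hb
      have := hP
      obtain ⟨z, hz⟩ := (Groth.L20.fiberIdeal_mem_associatedPrimes_iff t' N' P).mp hass
      have h0 : ∀ x : N', b • x = 0 := fun x => e.injective (by
        rw [map_smul, map_zero, ← algebraMap_smul C' b (e x), show algebraMap B' C' b = 0 from hb, zero_smul])
      have h1 : ∀ w : TensorProduct A' N' t'.ResidueField, b • w = 0 := fun w => by
        induction w using TensorProduct.induction_on with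
        | zero => exact smul_zero _
        | tmul x y => rw [TensorProduct.smul_tmul', h0, TensorProduct.zero_tmul]
        | add x y hx hy => rw [smul_add, hx, hy, add_zero]
      exact (hz b).mpr ⟨1, by rw [pow_one]; exact h1 z⟩
    have : (P.map (algebraMap B' C')).IsPrime := Ideal.map_isPrime_of_surjective hs hker
    have hPc : (P.map (algebraMap B' C')).comap (algebraMap B' C') = P := by
      rw [Ideal.comap_map_of_surjective _ hs, ← RingHom.ker_eq_comap_bot, sup_eq_left.mpr hker]
    have hPC : (P.map (algebraMap B' C')).LiesOver t' := ⟨by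
      rw [Ideal.under_def, IsScalarTower.algebraMap_eq A' B' C', ← Ideal.comap_comap, hPc]; exact hP.over⟩
    have := hP
    exact ⟨A', C', N'', _, inferInstance, _, inferInstance, inferInstance, inferInstance, inferInstance, inferInstance,
      inferInstance, inferInstance, inferInstance, inferInstance, inferInstance, inferInstance, g, t', t,
      inferInstance, inferInstance, P.map (algebraMap B' C'), inferInstance,
      ⟨hpushC, hg, htt, htp, hPC, (ass_transfer N' N'' e t' hs P _ hPc).mp hass,
        (noPrimeAbove_iff hs t P _ hPc).mp hno⟩, hQ⟩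

private theorem isPureAlong_iff {A B : Type u} [CommRing A] [CommRing B] [Algebra A B] (N : Type u) [AddCommGroup N]
    [Module B N] (p : Ideal A) [p.IsPrime] :
    FlatCA.IsPureAlong A B N p ↔ ¬ FlatCA.HasImpurity A B N p (fun A' _ _ t => ∃ h : t.IsPrime, @FlatCA.IsEtaleNhd A A' _ _ _ p t _ h) := by
  constructor
  · rintro h ⟨A', B', N', _, _, _, _, _, _, _, _, _, _, _, _, _, _, f, t', t, _, _, P, _, himp, _, he⟩
    exact h A' B' N' f t' t P he himp
  · intro h A' B' N' _ _ _ _ _ _ _ _ _ _ _ _ _ _ f t' t _ _ P _ he himp
    exact h ⟨A', B', N', _, _, _, _, _, _, inferInstance, inferInstance, _, _, _, inferInstance, _, inferInstance,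
      f, t', t, inferInstance, inferInstance, P, inferInstance, himp, inferInstance, he⟩

private theorem isUnivPureAlong_iff {A B : Type u} [CommRing A] [CommRing B] [Algebra A B] (N : Type u) [AddCommGroup N]
    [Module B N] (p : Ideal A) [p.IsPrime] :
    FlatCA.IsUnivPureAlong A B N p ↔ ¬ FlatCA.HasImpurity A B N p (fun _ _ _ _ => True) := by
  constructor
  · rintro h ⟨A', B', N', _, _, _, _, _, _, _, _, _, _, _, _, _, _, f, t', t, _, _, P, _, himp, -⟩
    exact h A' B' N' f t' t P himp
  · intro h A' B' N' _ _ _ _ _ _ _ _ _ _ _ _ _ _ f t' t _ _ P _ himp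
    exact h ⟨A', B', N', _, _, _, _, _, _, inferInstance, inferInstance, _, _, _, inferInstance, _, inferInstance,
      f, t', t, inferInstance, inferInstance, P, inferInstance, himp, trivial⟩


/-- For affine finite type schemes over Spec A: purity and universal purity along a fibre of a finite
module are unchanged when the module is pushed forward along a closed immersion Spec C → Spec B (a
surjective algebra map B → C). -/
theorem result {A B C : Type u} [CommRing A] [CommRing B] [CommRing C] [Algebra A B] [Algebra B C] [Algebra A C] [IsScalarTower A B C] [Algebra.FiniteType A B] (hBC : Function.Surjective (algebraMap B C)) (N : Type u) [AddCommGroup N] [Module C N] [Module B N] [IsScalarTower B C N] [Module.Finite C N] (p : Ideal A) [p.IsPrime] : (FlatCA.IsPureAlong A C N p ↔ FlatCA.IsPureAlong A B N p) ∧ (FlatCA.IsUnivPureAlong A C N p ↔ FlatCA.IsUnivPureAlong A B N p) := by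
  refine ⟨?_, ?_⟩
  · rw [isPureAlong_iff, isPureAlong_iff, main hBC]
  · rw [isUnivPureAlong_iff, isUnivPureAlong_iff, main hBC]

end Groth.Agent.S8999
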