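import Groth.Statements.S9001
import Groth.Agent.S0589
import Mathlib.RingTheory.Nakayama
import Mathlib.RingTheory.OrzechProperty
import Mathlib.RingTheory.Ideal.AssociatedPrime.Basic

set_option autoImplicit false
universe u
open FlatMor

set_option backward.isDefEq.respectTransparency.types false
open IsLocalRing TensorProduct

/-- Multiplication by an element congruent to one modulo the maximal ideal is injective after tensoring. -/
theorem Groth.Agent.S9001.eq_zero_of_smul_eq_zero {R S : Type u} [CommRing R] [HenselianLocalRing R] [CommRing S]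
    [Algebra R S] (N : Type u) [AddCommGroup N] [Module S N] [Module R N] [IsScalarTower R S N]
    (hcg : CAlg.IsCountablyGenerated R N) (hML : CAlg.IsMittagLeffler R N) {M : Type u} [AddCommGroup M] [Module R M]
    {s : S} (hs : 1 - s ∈ (maximalIdeal R).map (algebraMap R S)) (z : N ⊗[R] M) (hz : s • z = 0) : z = 0 := by
  classical
  obtain ⟨ι, P, hP, hfp⟩ := Groth.Agent.S0589.result R N hcg hML
  let W : Finset ι → Submodule R N := fun F => ⨆ i ∈ F, P i
  have hmono : Monotone W := fun F G h => biSup_mono fun i hi => h hi
  have hz' : ∀ w : N ⊗[R] M, ∃ F, w ∈ LinearMap.range ((W F).subtype.rTensor M) := fun w => by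
    induction w using TensorProduct.induction_on with
    | zero => exact ⟨∅, zero_mem _⟩
    | tmul y m =>
      obtain ⟨F, hF⟩ := Submodule.exists_finset_of_mem_iSup P (m := y) (hP.submodule_iSup_eq_top ▸ Submodule.mem_top)
      exact ⟨F, ⟨⟨y, hF⟩ ⊗ₜ m, rfl⟩⟩
    | add a b ha hb =>
      obtain ⟨F, hF⟩ := ha
      obtain ⟨G, hG⟩ := hb
      have hle : ∀ {F G : Finset ι}, F ⊆ G →
          LinearMap.range ((W F).subtype.rTensor M) ≤ LinearMap.range ((W G).subtype.rTensor M) := fun {F G} h => by
        rintro _ ⟨c, rfl⟩
        exact ⟨(Submodule.inclusion (hmono h)).rTensor M c, by rw [← LinearMap.rTensor_comp_apply, Submodule.subtype_comp_inclusion]⟩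
      exact ⟨F ∪ G, add_mem (hle Finset.subset_union_left hF) (hle Finset.subset_union_right hG)⟩
  obtain ⟨F, z', rfl⟩ := hz' z
  have hc : IsCompl (W F) (⨆ i ∈ ((↑F : Set ι))ᶜ, P i) := by
    refine ⟨hP.submodule_iSupIndep.disjoint_biSup_biSup disjoint_compl_right, codisjoint_iff_le_sup.2 ?_⟩
    rw [← hP.submodule_iSup_eq_top]
    refine iSup_le fun i => ?_
    by_cases hi : i ∈ F
    · exact (le_biSup (fun i => P i) hi).trans le_sup_left
    · exact (le_biSup (fun i => P i) (show i ∈ ((↑F : Set ι))ᶜ from hi)).trans le_sup_right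
  let π := Submodule.linearProjOfIsCompl (W F) _ hc
  have hπ : ∀ y : W F, π y.1 = y := Submodule.linearProjOfIsCompl_apply_left hc
  let u : N →ₗ[R] N := Algebra.lsmul R R N s
  let v : W F →ₗ[R] W F := π.comp (u.comp (W F).subtype)
  haveI : Module.Finite R (W F) := Module.Finite.iff_fg.2 (Submodule.fg_biSup F P fun i _ => Module.Finite.iff_fg.1 (haveI := hfp i; inferInstance))
  have hsmall : ∀ y : N, ∀ b ∈ (maximalIdeal R).map (algebraMap R S), b • y ∈ (maximalIdeal R • ⊤ : Submodule R N) :=
    fun y b hb => by
      have hb' : b ∈ (maximalIdeal R • ⊤ : Submodule R S) := by rw [Ideal.smul_top_eq_map]; exact hb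
      refine Submodule.smul_induction_on hb' (fun r hr c _ => ?_) fun c d hc hd => ?_
      · rw [smul_assoc]; exact Submodule.smul_mem_smul hr Submodule.mem_top
      · rw [add_smul]; exact add_mem hc hd
  have hv : Function.Surjective v := by
    rw [← LinearMap.range_eq_top, eq_top_iff]
    refine Submodule.le_of_le_smul_of_le_jacobson_bot Module.Finite.fg_top
      (le_of_eq (IsLocalRing.jacobson_eq_maximalIdeal ⊥ bot_ne_top).symm) fun y _ => ?_
    refine Submodule.mem_sup.2 ⟨v y, ⟨y, rfl⟩, y - v y, ?_, add_sub_cancel _ _⟩
    have h1 : y - v y = π ((1 - s) • (y : N)) := by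
      simp only [v, u, sub_smul, one_smul, map_sub, hπ, LinearMap.comp_apply, Submodule.subtype_apply, Algebra.lsmul_coe]
    rw [h1]
    have h2 := Submodule.mem_map_of_mem (f := π) (hsmall (y : N) _ hs)
    rw [Submodule.map_smul''] at h2
    exact Submodule.smul_mono le_rfl le_top h2
  have hu : ∀ w : N ⊗[R] M, u.rTensor M w = s • w := fun w => by
    induction w using TensorProduct.induction_on with
    | zero => simp
    | tmul y m => rw [LinearMap.rTensor_tmul, TensorProduct.smul_tmul', Algebra.lsmul_coe]
    | add a b ha hb => rw [map_add, ha, hb, smul_add]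
  let e := LinearEquiv.ofBijective v (OrzechProperty.bijective_of_surjective_endomorphism v hv)
  have hev : (e.symm : W F →ₗ[R] W F).comp v = LinearMap.id := LinearMap.ext fun y => e.symm_apply_apply y
  have h0 : v.rTensor M z' = 0 := by
    simp only [v, LinearMap.rTensor_comp_apply]
    rw [hu, hz, map_zero]
  have h3 := congrArg (fun f => LinearMap.rTensor M f z') hev
  simp only [LinearMap.rTensor_comp_apply, h0, map_zero, LinearMap.rTensor_id, LinearMap.id_coe, id_eq] at h3
  rw [← h3, map_zero]

namespace Groth.Agent.S9001

open IsLocalRing TensorProduct in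
/-- Over a henselian local ring R with maximal ideal m, for an R-algebra S and an S-module N which is
countably generated and Mittag-Leffler as an R-module, every associated prime q of the S-module N
⊗_R M (M any R-module) satisfies q + mS ≠ S. (Associated primes are taken here in the sense of
primes equal to the radical of the annihilator of some element, a larger set than the annihilators
of elements used in the published statement; the published argument goes through once the chosen
element of q is replaced by a suitable power of it, so the row states this slightly stronger form.) -/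
theorem result {R S : Type u} [CommRing R] [HenselianLocalRing R] [CommRing S] [Algebra R S] (N : Type u) [AddCommGroup N] [Module S N] [Module R N] [IsScalarTower R S N] (hcg : CAlg.IsCountablyGenerated R N) (hML : CAlg.IsMittagLeffler R N) (M : Type u) [AddCommGroup M] [Module R M] (q : Ideal S) [q.IsPrime] (hq : q ∈ associatedPrimes S (N ⊗[R] M)) : q ⊔ (maximalIdeal R).map (algebraMap R S) ≠ ⊤ := by
  intro htop
  obtain ⟨-, x, hx⟩ := hq
  obtain ⟨a, ha, t, ht, hat⟩ := Submodule.mem_sup.1 (htop ▸ (Submodule.mem_top : (1 : S) ∈ (⊤ : Ideal S)))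
  rw [hx, Ideal.mem_radical_iff] at ha
  obtain ⟨k, hk⟩ := ha
  rw [Submodule.mem_colon_singleton, Submodule.mem_bot] at hk
  have hak : 1 - a ^ k ∈ (maximalIdeal R).map (algebraMap R S) :=
    by
      obtain ⟨c, hc⟩ := sub_one_dvd_pow_sub_one a k
      rw [show (1 : S) - a ^ k = c * t by linear_combination (-1 : S) * hc - c * hat]
      exact Ideal.mul_mem_left _ c ht
  have hx0 : x = 0 := eq_zero_of_smul_eq_zero N hcg hML hak x hk
  subst hx0
  refine Ideal.IsPrime.ne_top ‹q.IsPrime› (hx.trans ?_)
  rw [show (⊥ : Submodule S (N ⊗[R] M)).colon {(0 : N ⊗[R] M)} = ⊤ from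
    eq_top_iff.2 fun s _ => by simp [Submodule.mem_colon_singleton], Ideal.radical_top]

end Groth.Agent.S9001
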