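import Groth.Statements.S9007
import Mathlib.AlgebraicGeometry.Morphisms.Proper

set_option autoImplicit false
universe u
open FlatMor

namespace Groth.Agent.S9007

open CategoryTheory CategoryTheory.Limits AlgebraicGeometry in
/-- For a morphism f of compactifications of X over a quasi-compact quasi-separated S whose source
contains X as a dense open, the preimage under f of the image of X in the target is the image of X
in the source. -/
theorem result {X S : Scheme.{u}} [CompactSpace S] [QuasiSeparatedSpace S] (p : X ⟶ S) [IsSeparated p] [QuasiCompact p] [LocallyOfFiniteType p] {Y Y' : Scheme.{u}} (j : X ⟶ Y) (q : Y ⟶ S) [IsOpenImmersion j] [IsProper q] (h : j ≫ q = p) (j' : X ⟶ Y') (q' : Y' ⟶ S) [IsOpenImmersion j'] [IsProper q'] (h' : j' ≫ q' = p) (f : Y' ⟶ Y) (hf : f ≫ q = q') (hfj : j' ≫ f = j) (hd : Dense (Set.range j'.base)) : f ⁻¹ᵁ j.opensRange = j'.opensRange := by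
  let V := j.opensRange
  let W : Y'.Opens := f ⁻¹ᵁ V
  have hsub : Set.range j' ⊆ Set.range W.ι := by
    rintro _ ⟨x, rfl⟩
    rw [Scheme.Opens.range_ι]
    show f (j' x) ∈ V
    exact ⟨x, by rw [← hfj, Scheme.Hom.comp_apply]⟩
  let k : X ⟶ W := IsOpenImmersion.lift W.ι j' hsub
  have hk : k ≫ W.ι = j' := IsOpenImmersion.lift_fac _ _ _
  have hsub' : Set.range (W.ι ≫ f) ⊆ Set.range j := by
    rintro _ ⟨w, rfl⟩
    exact w.2
  let m : (W : Scheme) ⟶ X := IsOpenImmersion.lift j (W.ι ≫ f) hsub'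
  have hm : m ≫ j = W.ι ≫ f := IsOpenImmersion.lift_fac _ _ _
  have hkm : k ≫ m = 𝟙 X := by
    rw [← cancel_mono j, Category.assoc, hm, ← Category.assoc, hk, hfj, Category.id_comp]
  have : IsSeparated (f ≫ q) := by rw [hf]; infer_instance
  have : IsSeparated f := IsSeparated.of_comp f q
  have : IsSeparated (m ≫ j) := by rw [hm]; infer_instance
  have : IsSeparated m := IsSeparated.of_comp m j
  have : IsClosedImmersion (k ≫ m) := by rw [hkm]; infer_instance
  have : IsClosedImmersion k := IsClosedImmersion.of_comp k m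
  refine le_antisymm (fun y hy => ?_) (fun y hy => ?_)
  · by_contra hy'
    have hC := (IsClosedImmersion.base_closed (f := k)).isClosed_range
    have hO : IsOpen (W.ι '' (Set.range k)ᶜ) := W.ι.isOpenEmbedding.isOpenMap _ hC.isOpen_compl
    have hmem : y ∈ W.ι '' (Set.range k)ᶜ := ⟨⟨y, hy⟩, fun ⟨x, hx⟩ => hy' ⟨x, by
      rw [← hk, Scheme.Hom.comp_apply, hx]; rfl⟩, rfl⟩
    obtain ⟨z, hz, x, hx⟩ := hd.inter_open_nonempty _ hO ⟨y, hmem⟩
    obtain ⟨w, hw, rfl⟩ := hz
    refine hw ⟨x, W.ι.isOpenEmbedding.injective ?_⟩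
    rw [← Scheme.Hom.comp_apply, hk]; exact hx
  · obtain ⟨x, rfl⟩ := hy
    exact ⟨x, by rw [← hfj, Scheme.Hom.comp_apply]⟩

end Groth.Agent.S9007
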