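import Groth.Statements.S9009
import Groth.Agent.L20.RG.NonflatLocus
import Groth.Agent.L07.DimToolkit

set_option autoImplicit false
universe u
open FlatMor

set_option backward.isDefEq.respectTransparency.types false
namespace Groth.Agent.S9009

open CategoryTheory CategoryTheory.Limits AlgebraicGeometry in
/-- For f : X → S locally of finite type and a finite type quasi-coherent O_X-module F, the non-flat
locus of F in every fibre has dimension less than n if and only if every point where F is not flat
over S has residue field of transcendence degree less than n over the residue field of its image.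
(The non-flat locus of the fibre over s is taken with the subspace topology from X, which is that of
the fibre. The published statement adds that when these conditions hold they continue to hold after
any base change S' → S; this row states only the equivalence.) -/
theorem result {X S : Scheme.{u}} (f : X ⟶ S) [LocallyOfFiniteType f] (F : X.Modules) [Coh.IsQCoh F] (hF : CohB1.IsFT F) (n : ℕ) : (∀ s : S, topologicalKrullDim {x : X // f.base x = s ∧ ¬ FlatMod.IsFlatOverAt f F x} < n) ↔ ∀ x : X, ¬ FlatMod.IsFlatOverAt f F x → ∀ [Algebra (S.residueField (f.base x)) (X.residueField x)], algebraMap (S.residueField (f.base x)) (X.residueField x) = (f.residueFieldMap x).hom → Algebra.trdeg (S.residueField (f.base x)) (X.residueField x) < n := by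
  constructor
  · intro h x hx _ halg
    obtain rfl : ‹Algebra (S.residueField (f.base x)) (X.residueField x)› = (f.residueFieldMap x).hom.toAlgebra :=
      Algebra.algebra_ext _ _ fun r => RingHom.congr_fun halg r
    obtain ⟨k, hk, hk'⟩ := Groth.L07.DimToolkit.exists_fdim_rtrdeg f x
    have hsub : closure ({x} : Set X) ∩ f.base ⁻¹' {f.base x} ⊆
        {a : X | f.base a = f.base x ∧ ¬ FlatMod.IsFlatOverAt f F a} := by
      rintro a ⟨hxa, hfa⟩
      refine ⟨hfa, fun ha => hx ?_⟩
      rw [← Groth.L20.RG.isFlatOverAt_pullback_id f F] at ha ⊢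
      exact Groth.L20.RG.isFlatOverAt_of_specializes (Groth.L20.RG.isPullback_id f) F
        (specializes_iff_mem_closure.2 hxa) ha
    have h1 : Groth.L07.Equidim.fdim f x < (n : WithBot ℕ∞) :=
      (Groth.L22.SchemeDim.topologicalKrullDim_mono hsub).trans_lt (h (f.base x))
    rw [hk] at h1
    show Groth.L22.Cyc.rtrdeg f x < (n : Cardinal.{u})
    rw [hk']
    exact_mod_cast (show k < n by exact_mod_cast h1)
  · intro h s
    let Φ : Set X := f.base ⁻¹' {s}
    haveI : QuasiSober Φ := (f.fiberHomeo s).symm.isClosedEmbedding.quasiSober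
    let Z : Set Φ := {a | ¬ FlatMod.IsFlatOverAt f F a.1}
    have hZ : IsClosed Z := by
      rw [← isOpen_compl_iff, isOpen_iff_mem_nhds]
      intro a ha
      simp only [Z, Set.mem_compl_iff, Set.mem_setOf_eq, not_not] at ha
      obtain ⟨U, haU, hU⟩ := Groth.L20.RG.exists_finite_generators (Groth.L20.RG.isPullback_id f) F hF a.1
      obtain ⟨T, hT, hT'⟩ := hU s
      let C : Set X := ⋃ y ∈ T ∩ {y | ¬ FlatMod.IsFlatOverAt f F y}, closure {y}
      have hC : IsClosed C := (hT.inter_of_left _).isClosed_biUnion fun _ _ => isClosed_closure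
      refine Filter.mem_of_superset ((((U.2.sdiff hC)).preimage continuous_subtype_val).mem_nhds ⟨haU, fun haC => ?_⟩) ?_
      · simp only [C, Set.mem_iUnion] at haC
        obtain ⟨y, ⟨-, hy⟩, hya⟩ := haC
        apply hy
        rw [← Groth.L20.RG.isFlatOverAt_pullback_id f F] at ha ⊢
        exact Groth.L20.RG.isFlatOverAt_of_specializes (Groth.L20.RG.isPullback_id f) F
          (specializes_iff_mem_closure.2 hya) ha
      · rintro b ⟨hbU, hbC⟩ hb
        apply hbC
        obtain ⟨y, hyT, hyb, -, hy, -⟩ := hT' b.1 hbU b.2 (by rwa [Groth.L20.RG.isFlatOverAt_pullback_id f F])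
        simp only [C, Set.mem_iUnion]
        exact ⟨y, ⟨hyT, by rwa [Groth.L20.RG.isFlatOverAt_pullback_id f F] at hy⟩, hyb.mem_closure⟩
    haveI : QuasiSober Z := hZ.isClosedEmbedding_subtypeVal.quasiSober
    let E : {x : X // f.base x = s ∧ ¬ FlatMod.IsFlatOverAt f F x} ≃ₜ Z :=
      { toFun := fun a => ⟨⟨a.1, a.2.1⟩, a.2.2⟩
        invFun := fun a => ⟨a.1.1, a.1.2, a.2⟩
        left_inv := fun a => rfl
        right_inv := fun a => rfl
        continuous_toFun := by fun_prop
        continuous_invFun := by fun_prop }
    rw [IsHomeomorph.topologicalKrullDim_eq E E.isHomeomorph]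
    have hx : ∀ a : Z, ∃ k : ℕ, k < n ∧ topologicalKrullDim (closure ({a} : Set Z)) ≤ (k : WithBot ℕ∞) := fun a => by
      obtain ⟨k, hk, hk'⟩ := Groth.L07.DimToolkit.exists_fdim_rtrdeg f a.1.1
      letI := (f.residueFieldMap a.1.1).hom.toAlgebra
      have h1 : Groth.L22.Cyc.rtrdeg f a.1.1 < (n : Cardinal.{u}) := h a.1.1 a.2 rfl
      rw [hk'] at h1
      refine ⟨k, by exact_mod_cast h1, ?_⟩
      rw [← hk]
      refine (le_of_eq (Groth.L22.SchemeDim.topologicalKrullDim_eq_of_isEmbedding
        ((Topology.IsEmbedding.subtypeVal.comp Topology.IsEmbedding.subtypeVal).comp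
          (Topology.IsEmbedding.subtypeVal (p := fun b => b ∈ closure ({a} : Set Z))))
        (S := Subtype.val ∘ Subtype.val '' closure ({a} : Set Z))
        (by rw [Set.range_comp, Subtype.range_coe])).symm).trans
        (Groth.L22.SchemeDim.topologicalKrullDim_mono ?_)
      rintro _ ⟨b, hb, rfl⟩
      refine ⟨?_, b.1.2.trans a.1.2.symm⟩
      exact (((specializes_iff_mem_closure.2 hb).map continuous_subtype_val).map continuous_subtype_val).mem_closure
    cases n with
    | zero =>
      haveI : IsEmpty Z := ⟨fun a => by obtain ⟨k, hk, -⟩ := hx a; omega⟩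
      rw [show topologicalKrullDim Z = ⊥ from Order.krullDim_eq_bot_iff.2 ⟨fun C => ?_⟩]
      · exact WithBot.bot_lt_coe _
      · obtain ⟨a, -⟩ := C.isIrreducible.nonempty
        exact isEmptyElim a
    | succ m =>
      refine lt_of_le_of_lt (b := ((m : ℕ) : WithBot ℕ∞)) ?_ (by exact_mod_cast Nat.lt_succ_self m)
      rw [Groth.L22.FibreDim.topologicalKrullDim_eq_iSup_closure]
      refine iSup_le fun a => ?_
      obtain ⟨k, hk, hle⟩ := hx a
      exact hle.trans (by exact_mod_cast Nat.le_of_lt_succ hk)

end Groth.Agent.S9009
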