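import Groth.Statements.S9011
import Groth.Agent.L20.UnivInj
import Groth.Agent.L20.FiberModule

set_option autoImplicit false
universe u
open FlatMor

namespace Groth.Agent.S9011

open IsLocalRing in
/-- For a local ring R with maximal ideal m, an R-algebra S with S/mS Noetherian and an S-module N with
N/mN finite over S/mS which is projective as an R-module, every element of S that is a
nonzerodivisor on N/mN acts R-universally injectively on N, and the map from N to its localization
at all such elements is R-universally injective. -/
theorem result {R S : Type u} [CommRing R] [IsLocalRing R] [CommRing S] [Algebra R S] (N : Type u) [AddCommGroup N] [Module S N] [Module R N] [IsScalarTower R S N] [IsNoetherianRing ((maximalIdeal R).Fiber S)] [Module.Finite ((maximalIdeal R).Fiber S) (FlatCA.fiberMod (maximalIdeal R) S N)] [Module.Projective R N] : (∀ s ∈ FlatCA.nzdFiber R S N, FlatCA.UnivInj R ((LinearMap.lsmul S N s).restrictScalars R)) ∧ FlatCA.UnivInj R ((LocalizedModule.mkLinearMap (FlatCA.nzdFiber R S N) N).restrictScalars R) := by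
  have hmul : ∀ s ∈ FlatCA.nzdFiber R S N, FlatCA.UnivInj R ((LinearMap.lsmul S N s).restrictScalars R) := by
    intro s hs Q _ _
    refine Groth.L20.lTensor_injective_of_projective _ ?_ Q
    let m := maximalIdeal R
    let e : ResidueField R ≃ₗ[R] m.ResidueField :=
      (AlgEquiv.ofBijective (IsScalarTower.toAlgHom R (R ⧸ m) m.ResidueField)
        m.bijective_algebraMap_quotient_residueField).toLinearEquiv
    intro x y hxy
    let E : TensorProduct R (ResidueField R) N ≃ₗ[R] TensorProduct R N m.ResidueField :=
      TensorProduct.congr e (LinearEquiv.refl R N) ≪≫ₗ TensorProduct.comm R _ N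
    have hE : ∀ z, E (((LinearMap.lsmul S N s).restrictScalars R).lTensor (ResidueField R) z) = s • E z := by
      intro z
      induction z using TensorProduct.induction_on with
      | zero => simp
      | tmul a n => simp [E, TensorProduct.smul_tmul']
      | add a b ha hb => simp only [map_add, ha, hb, smul_add]
    have h1 : s • E x = s • E y := by rw [← hE, ← hE, hxy]
    have h2 : s • ((Groth.L20.fiberModEquiv m S N).symm (E x - E y)) = 0 := by
      rw [← map_smul, smul_sub, h1, sub_self, map_zero]
    have h3 := (mem_nonZeroSMulDivisors_iff.mp hs) _ h2
    rw [LinearEquiv.map_eq_zero_iff, sub_eq_zero] at h3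
    exact E.injective h3
  refine ⟨hmul, fun Q _ _ => ?_⟩
  let T := FlatCA.nzdFiber R S N
  let g := LocalizedModule.mkLinearMap T N
  have key : ∀ z : TensorProduct R Q N, TensorProduct.comm R Q (LocalizedModule T N) ((g.restrictScalars R).lTensor Q z) =
      TensorProduct.AlgebraTensorModule.rTensor R Q g (TensorProduct.comm R Q N z) := fun z => by
    induction z using TensorProduct.induction_on with
    | zero => simp
    | tmul a n => simp
    | add a b ha hb => simp only [map_add, ha, hb]
  refine (injective_iff_map_eq_zero _).mpr fun z hz => ?_
  have h1 := key z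
  rw [hz, map_zero] at h1
  obtain ⟨t, ht⟩ := (IsLocalizedModule.eq_zero_iff T (TensorProduct.AlgebraTensorModule.rTensor R Q g)).mp h1.symm
  apply hmul t t.2 Q
  rw [map_zero]
  apply (TensorProduct.comm R Q N).injective
  rw [map_zero]
  have h2 : ∀ w : TensorProduct R Q N, TensorProduct.comm R Q N (((LinearMap.lsmul S N (t : S)).restrictScalars R).lTensor Q w) =
      (t : S) • TensorProduct.comm R Q N w := fun w => by
    induction w using TensorProduct.induction_on with
    | zero => simp
    | tmul a n => simp [TensorProduct.smul_tmul', Submonoid.smul_def]
    | add a b ha hb => simp only [map_add, ha, hb, smul_add]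
  rw [h2]
  exact ht

end Groth.Agent.S9011
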