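import Groth.Statements.S9028
import Groth.Agent.L20.RG.NonflatLocus
import Groth.Agent.L20.RG.EtalePoints
import Groth.Agent.L06.FlatDimSheaf

set_option autoImplicit false
universe u
open FlatMor

set_option backward.isDefEq.respectTransparency.types false
namespace Groth.Agent.S9028

open CategoryTheory CategoryTheory.Limits AlgebraicGeometry Opposite in
/-- For f : X → S locally of finite type, F a quasi-coherent O_X-module of finite type, an etale
morphism h : X' → X whose image contains every point of the relative assassin of F over S, and n ≥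
0, the functors F_n of F and of h^*F agree: for every scheme T over S, if the base change of h^*F on
X' ×_S T is flat over T in dimensions ≥ n then so is the base change F_T on X ×_S T (the other
implication holds without the hypothesis on the image). -/
theorem result {X X' S : Scheme.{u}} (f : X ⟶ S) [LocallyOfFiniteType f] (F : X.Modules) [Coh.IsQCoh F] (hF : CohB1.IsFT F)
    (h : X' ⟶ X) [Etale h] (hAss : MoreMor.relAss f F ⊆ Set.range h.base) (n : ℕ) (T : Over S)
    (hT : FlatFun.DimFibresLT n (PicF.XTproj (h ≫ f) T)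
        {x | ¬ FlatMod.IsFlatOverAt (PicF.XTproj (h ≫ f) T) (FGA.ET (h ≫ f) ((Scheme.Modules.pullback h).obj F) T) x}) :
    FlatFun.DimFibresLT n (PicF.XTproj f T)
        {x | ¬ FlatMod.IsFlatOverAt (PicF.XTproj f T) (FGA.ET f F T) x} := by
  intro x hx
  obtain ⟨y, hyx, hys, hy, hyA⟩ := Groth.L20.RG.exists_nonflat_relAss (IsPullback.of_hasPullback f T.hom) F hF x hx
  obtain ⟨x₁, hx₁⟩ := hAss hyA
  obtain ⟨y', hy', -⟩ := Scheme.exists_preimage_of_isPullback (Groth.L20.RG.isPullback_xtHom f h T) y x₁ hx₁.symm
  have h1 : Dual3.resTrdeg (PicF.XTproj (h ≫ f) T) y' < (n : Cardinal.{u}) := hT y' fun hfl => hy (by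
    rw [← hy']
    exact (Groth.L20.RG.isFlatOverAt_xt_iff f h F T y').1 hfl)
  rw [Groth.L20.RG.resTrdeg_xt f h T y', hy'] at h1
  exact (Groth.L06.FlatDimSheaf.rtrdeg_le_of_fibre (PicF.XTproj f T) hyx hys).trans_lt h1

end Groth.Agent.S9028
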