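import Groth.Statements.S9030
import Groth.Agent.L20.RG.DevChain
import Groth.Agent.L20.RG.DimStrata
import Groth.Agent.L20.RG.DimStrataScheme

set_option autoImplicit false
universe u
open FlatMor
open TensorProduct

set_option backward.isDefEq.respectTransparency.types false
set_option linter.style.haveILetI false
attribute [local instance] Algebra.TensorProduct.rightAlgebra
namespace Groth.Agent.S9030

open CategoryTheory CategoryTheory.Limits AlgebraicGeometry Opposite in
/-- In this form S = Spec A and X = Spec B are affine, as the existence of a complete dévissage forces,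
and the test schemes are affine as well, which suffices. Let B be a finitely presented A-algebra, N
a finitely presented B-module, s a prime of A and d ≥ 0. Assume given a complete dévissage (A_i,
B_i, M_i, α_i) of N over B over A over s (the ring-level structure) in which, for every step i, the
smooth A-algebra B_i has relative dimension equal to the Krull dimension of the support of the fibre
module M_i ⊗ κ(s) over B_i ⊗ κ(s) — together this is the complete dévissage of the module over the
scheme Spec B over Spec A over the point s — and assume that N is flat over A in dimensions ≥ d + 1.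
Then, over some principal open neighbourhood D(g) of s, the functor F_d is representable by a
monomorphism of finite presentation: there are g ∈ A not in s and a monomorphism of schemes Z → Spec
A which is locally of finite presentation, quasi-compact and quasi-separated, such that for every
A-algebra A' in which g is invertible, with base changes B' of B and N' of N (any models), N' is
flat over A' in dimensions ≥ d if and only if Spec A' → Spec A factors through Z. -/
theorem result {A B : Type u} [CommRing A] [CommRing B] [Algebra A B] [Algebra.FinitePresentation A B]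
    (N : Type u) [AddCommGroup N] [Module B N] [Module A N] [IsScalarTower A B N] [Module.FinitePresentation B N]
    (s : Ideal A) [s.IsPrime] (D : FlatCA.CompleteDevissage A B N s)
    (hdim : ∀ i, i < D.n → ∃ e : ℕ, FlatCA.SmoothRelDim e A (D.B i) ∧
      Module.supportDim (s.Fiber (D.B i)) (FlatCA.fiberMod s (D.B i) (D.M i)) = e)
    (d : ℕ) (hflat : FlatCA.FlatInDimGE (d + 1) A B N) :
    ∃ g : A, g ∉ s ∧ ∃ (Z : Scheme.{u}) (i : Z ⟶ Spec (CommRingCat.of A)),
      Mono i ∧ LocallyOfFinitePresentation i ∧ QuasiCompact i ∧ QuasiSeparated i ∧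
      ∀ (A' B' N' : Type u) [CommRing A'] [CommRing B'] [Algebra A A'] [Algebra B B'] [Algebra A' B'] [Algebra A B']
        [IsScalarTower A B B'] [IsScalarTower A A' B'] [Algebra.IsPushout A B A' B']
        [AddCommGroup N'] [Module B' N'] [Module B N'] [IsScalarTower B B' N'] [Module A' N'] [IsScalarTower A' B' N']
        (φ : N →ₗ[B] N'), IsBaseChange B' φ → IsUnit (algebraMap A A' g) →
        (FlatCA.FlatInDimGE d A' B' N' ↔
          ∃ k : Spec (CommRingCat.of A') ⟶ Z, k ≫ i = Spec.map (CommRingCat.ofHom (algebraMap A A'))) := by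
  classical
  letI := D.cB; letI := D.aRB; letI := D.gM; letI := D.mBM; letI := D.mRM; letI := D.tRBM
  choose e he hsupp using hdim
  let e' : ℕ → ℕ := fun i => if h : i < D.n then e i h else 0
  have he' : ∀ i, i < D.n → FlatCA.SmoothRelDim (e' i) A (D.B i) := fun i hi => by
    simp only [e', dif_pos hi]; exact he i hi
  have triv : ∀ g : A, g ∉ s → (∀ (T : Type u) [CommRing T] [Algebra A T], IsUnit (algebraMap A T g) →
      Groth.L20.RG.FlatBC A d T B N) →
      ∃ g : A, g ∉ s ∧ ∃ (Z : Scheme.{u}) (i : Z ⟶ Spec (CommRingCat.of A)),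
      Mono i ∧ LocallyOfFinitePresentation i ∧ QuasiCompact i ∧ QuasiSeparated i ∧
      ∀ (A' B' N' : Type u) [CommRing A'] [CommRing B'] [Algebra A A'] [Algebra B B'] [Algebra A' B'] [Algebra A B']
        [IsScalarTower A B B'] [IsScalarTower A A' B'] [Algebra.IsPushout A B A' B']
        [AddCommGroup N'] [Module B' N'] [Module B N'] [IsScalarTower B B' N'] [Module A' N'] [IsScalarTower A' B' N']
        (φ : N →ₗ[B] N'), IsBaseChange B' φ → IsUnit (algebraMap A A' g) →
        (FlatCA.FlatInDimGE d A' B' N' ↔
          ∃ k : Spec (CommRingCat.of A') ⟶ Z, k ≫ i = Spec.map (CommRingCat.ofHom (algebraMap A A'))) := by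
    intro g hg hflatT
    refine ⟨g, hg, Spec (CommRingCat.of A), 𝟙 _, inferInstance, inferInstance, inferInstance, inferInstance, ?_⟩
    intro A' B' N' _ _ _ _ _ _ _ _ _ _ _ _ _ _ _ φ hφ hu
    rw [← Groth.L20.RG.flatBC_iff_model (A := A) φ hφ]
    exact ⟨fun _ => ⟨_, Category.comp_id _⟩, fun _ => hflatT A' hu⟩
  by_cases hex : ∃ j, j < D.n ∧ e' j ≤ d
  · obtain ⟨hj, hej⟩ := Nat.find_spec hex
    have hbelow : ∀ k, k < Nat.find hex → d + 1 ≤ e' k := fun k hk => by
      have := Nat.find_min hex hk
      have hk' : k < D.n := lt_trans hk hj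
      simp only [hk', true_and, not_le] at this
      omega
    obtain ⟨hfp, g, hg, hiff⟩ := Groth.L20.RG.exists_chain_nhd D e' he' hflat (Nat.find hex) hj hbelow
    haveI := hfp
    haveI := D.smooth (Nat.find hex) hj
    have hdom : Groth.L20.RG.DomFib A (D.B (Nat.find hex)) :=
      Groth.L20.RG.DomFib.of_smooth_geomIrredFibres (D.geomIrred (Nat.find hex) hj)
    rcases eq_or_lt_of_le hej with heq | hlt
    · obtain ⟨m, c', c, hc', hc, hord, hstr⟩ := Groth.L20.RG.exists_dim_strata hdom (he' _ hj) (D.M (Nat.find hex))
      obtain ⟨Z, i, h1, h2, h3, h4, h5⟩ := Groth.L20.RG.exists_strata_scheme c' c hc' hc hord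
      refine ⟨g, hg, Z, i, h1, h2, h3, h4, ?_⟩
      intro A' B' N' _ _ _ _ _ _ _ _ _ _ _ _ _ _ _ φ hφ hu
      rw [← Groth.L20.RG.flatBC_iff_model (A := A) φ hφ, hiff A' hu d, h5, ← hstr, heq]
    · refine triv g hg fun T _ _ hu => (hiff T hu d).2 ?_
      exact Groth.L20.RG.flatInDimGE_of_lt
        (haveI : Algebra.IsPushout A T (D.B (Nat.find hex)) (T ⊗[A] D.B (Nat.find hex)) :=
          Algebra.IsPushout.symm inferInstance
        Groth.L20.RG.smoothRelDim_baseChange (R := A) (R' := T) (B := D.B (Nat.find hex)) (he' _ hj))
        (hdom.baseChange T) hlt _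
  · push Not at hex
    obtain ⟨g, hg, hT⟩ := Groth.L20.RG.exists_nhd_of_all_gt D e' he' hflat fun k hk => hex k hk
    exact triv g hg hT

end Groth.Agent.S9030
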