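import Groth.Statements.S9032
import Groth.Agent.L20.RG.FlatPtsScheme
import Groth.Agent.L20.RG.FlatPtsNbhd
import Groth.Agent.L20.ModStalk

set_option autoImplicit false
universe u
open FlatMor

set_option backward.isDefEq.respectTransparency.types false
set_option backward.isDefEq.respectTransparency false
set_option linter.style.haveILetI false
set_option maxHeartbeats 800000
namespace Groth.Agent.S9032

open CategoryTheory CategoryTheory.Limits AlgebraicGeometry Opposite in
/-- Let A be a henselian local ring, s the closed point of S = Spec A, f : X → S a morphism locally of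
finite type, F a quasi-coherent O_X-module of finite type and E a subset of the closed fibre X_s.
Then there is a closed subscheme Z = V(I) of S with the following property: for every morphism of
pointed schemes (T, t) → (S, s), the base change F_T on X_T = X ×_S T is T-flat at each point over t
whose image in X lies in E if and only if Spec(O_{T,t}) → S factors through Z, that is, the map A →
O_{T,t} sends I to zero. Assume in addition that the morphism f is locally finitely presented, that
the module F is finitely presented, and that the subset E is both quasi-compact and closed; in that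
case the closed immersion Z → S is finitely presented, meaning the ideal I is finitely generated. -/
theorem result {A : Type u} [CommRing A] [HenselianLocalRing A] {X : Scheme.{u}} (f : X ⟶ Spec (CommRingCat.of A))
    [LocallyOfFiniteType f] (F : X.Modules) [Coh.IsQCoh F] (hF : CohB1.IsFT F)
    (E : Set X) (hE : ∀ x ∈ E, f.base x = IsLocalRing.closedPoint A) :
    ∃ I : Ideal A,
      (∀ (T : Scheme.{u}) (g : T ⟶ Spec (CommRingCat.of A)) (t : T), g.base t = IsLocalRing.closedPoint A →
        ((∀ x' : ↑(pullback f g), (pullback.snd f g).base x' = t → (pullback.fst f g).base x' ∈ E →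
            FlatMod.IsFlatOverAt (pullback.snd f g) ((Scheme.Modules.pullback (pullback.fst f g)).obj F) x') ↔
          ∀ a ∈ I, (T.presheaf.germ ⊤ t trivial).hom
            (g.appTop.hom ((Scheme.ΓSpecIso (CommRingCat.of A)).inv.hom a)) = 0)) ∧
      (LocallyOfFinitePresentation f → CohB1.IsFP F → IsClosed E → IsCompact E → I.FG) := by
  classical
  let cA : CommRingCat.{u} := CommRingCat.of A
  haveI : IsLocalRing cA := inferInstanceAs (IsLocalRing A)
  haveI : HenselianLocalRing cA := inferInstanceAs (HenselianLocalRing A)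
  have hch : ∀ x : E, ∃ V : X.Opens, IsAffineOpen V ∧ x.1 ∈ V := fun x => by
    obtain ⟨_, ⟨V, hV, rfl⟩, hxV, -⟩ :=
      X.isBasis_affineOpens.exists_subset_of_mem_open (Set.mem_univ x.1) isOpen_univ
    exact ⟨V, hV, hxV⟩
  choose V hV hxV using hch
  letI alg : ∀ W : X.Opens, Algebra A Γ(X, W) := fun W => (Groth.L20.RG.baseHom (A := cA) f W).toAlgebra
  have hft : ∀ W : X.Opens, IsAffineOpen W → Algebra.FiniteType A Γ(X, W) := fun W hW => by
    refine RingHom.finiteType_algebraMap.mp ?_
    exact (f.finiteType_appLE (isAffineOpen_top _) hW le_top).comp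
      (RingHom.FiniteType.of_surjective _ (Scheme.ΓSpecIso cA).symm.commRingCatIsoToRingEquiv.surjective)
  have hex : ∀ x : E, ∃ I : Ideal A, ∀ (R' : Type u) [CommRing R'] [IsLocalRing R'] [Algebra A R']
      [IsLocalHom (algebraMap A R')],
      Groth.L20.RG.FlatPts A Γ(X, V x) Γ(F, V x) ((hV x).primeIdealOf ⟨x.1, hxV x⟩).asIdeal R' ↔
        I ≤ RingHom.ker (algebraMap A R') := fun x => by
    haveI := hft (V x) (hV x)
    haveI := Groth.L20.ModStalk.finite_sections F ⟨inferInstance, hF⟩ (hV x)
    haveI : ((hV x).primeIdealOf ⟨x.1, hxV x⟩).asIdeal.LiesOver (IsLocalRing.maximalIdeal A) :=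
      ⟨(Groth.L20.RG.comap_primeIdealOf_baseHom (A := cA) f (hV x) (hxV x) (hE x.1 x.2)).symm⟩
    letI : Module A Γ(F, V x) := Module.compHom _ (algebraMap A Γ(X, V x))
    haveI : IsScalarTower A Γ(X, V x) Γ(F, V x) := IsScalarTower.of_algebraMap_smul fun _ _ => rfl
    exact Groth.L20.RG.exists_ideal_of_henselian _ _
  choose I hI using hex
  have hIm : ∀ x, I x ≤ IsLocalRing.maximalIdeal A := fun x => by
    haveI : IsLocalHom (algebraMap A (IsLocalRing.ResidueField A)) := inferInstanceAs (IsLocalHom (IsLocalRing.residue A))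
    have := (hI x (IsLocalRing.ResidueField A)).mp fun D' M' _ _ _ _ _ _ _ _ _ _ _ _ _ f hf Q _ _ _ => inferInstance
    exact this.trans (IsLocalRing.ker_residue (R := A)).le
  have hpts : ∀ (T : Scheme.{u}) (g : T ⟶ Spec cA) (t : T), g.base t = IsLocalRing.closedPoint A → ∀ x : E,
      ((∀ x' : ↑(pullback f g), (pullback.snd f g).base x' = t → (pullback.fst f g).base x' = x.1 →
          FlatMod.IsFlatOverAt (pullback.snd f g) ((Scheme.Modules.pullback (pullback.fst f g)).obj F) x') ↔
        I x ≤ RingHom.ker (Groth.L20.RG.stkHom g t)) := fun T g t ht x => by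
    letI : Algebra A (T.presheaf.stalk t) := (Groth.L20.RG.stkHom g t).toAlgebra
    haveI : IsLocalHom (algebraMap A (T.presheaf.stalk t)) := Groth.L20.RG.isLocalHom_stkHom g ht
    exact (Groth.L20.RG.flatPts_iff_points f F g t (hV x) (hxV x)).symm.trans (hI x _)
  refine ⟨⨆ x, I x, fun T g t ht => ?_, fun hlfp hFP _ hcpt => ?_⟩
  · constructor
    · intro h a ha
      refine (iSup_le fun x => (hpts T g t ht x).mp fun x' h1 h2 => h x' h1 (h2 ▸ x.2) :
        (⨆ x, I x) ≤ RingHom.ker (Groth.L20.RG.stkHom g t)) ha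
    · intro h x' h1 h2
      exact (hpts T g t ht ⟨_, h2⟩).mpr ((le_iSup I _).trans fun a ha => h a ha) x' h1 rfl
  · haveI := hlfp
    have hnb : ∀ x : E, ∃ O : X.Opens, x.1 ∈ O ∧ ∃ c : Ideal A, c.FG ∧ c ≤ ⨆ x, I x ∧ ∀ y : E, y.1 ∈ O → ∀
        (T : Scheme.{u}) (g : T ⟶ Spec cA) (t : T), g.base t = IsLocalRing.closedPoint A →
        c ≤ RingHom.ker (Groth.L20.RG.stkHom g t) → I y ≤ RingHom.ker (Groth.L20.RG.stkHom g t) := fun x => by
      haveI : Algebra.FinitePresentation A Γ(X, V x) := by
        refine RingHom.finitePresentation_algebraMap.mp ?_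
        exact (f.finitePresentation_appLE (isAffineOpen_top _) (hV x) le_top).comp
          (RingHom.FinitePresentation.of_bijective (Scheme.ΓSpecIso cA).symm.commRingCatIsoToRingEquiv.bijective)
      haveI := Groth.L20.ModStalk.finitePresentation_sections F hFP (hV x)
      obtain ⟨s, hs, c, hcfg, hcI, hc⟩ := Groth.L20.RG.exists_fg_flatPts_nbhd (A := A)
        ((hV x).primeIdealOf ⟨x.1, hxV x⟩).asIdeal
        (Groth.L20.RG.comap_primeIdealOf_baseHom (A := cA) f (hV x) (hxV x) (hE x.1 x.2)) Γ(F, V x) (⨆ x, I x)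
        (iSup_le hIm) (by
          intro _
          haveI : IsLocalHom (algebraMap A (A ⧸ ⨆ x, I x)) :=
            ((IsLocalRing.local_hom_TFAE (algebraMap A (A ⧸ ⨆ x, I x))).out 0 4 rfl rfl).mpr
              (IsLocalRing.eq_maximalIdeal (Ideal.comap_isMaximal_of_surjective _ Ideal.Quotient.mk_surjective))
          exact (hI x _).mpr ((le_iSup I x).trans (Ideal.mk_ker).ge))
      have hmem : ∀ y (hy : y ∈ V x), y ∈ X.basicOpen s ↔ s ∉ ((hV x).primeIdealOf ⟨y, hy⟩).asIdeal := fun y hy => by
        letI := X.presheaf.algebra_section_stalk ⟨y, hy⟩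
        haveI := (hV x).isLocalization_stalk ⟨y, hy⟩
        rw [Scheme.mem_basicOpen _ _ y hy]
        exact IsLocalization.AtPrime.isUnit_to_map_iff (X.presheaf.stalk y) ((hV x).primeIdealOf ⟨y, hy⟩).asIdeal s
      refine ⟨X.basicOpen s, (hmem _ (hxV x)).mpr hs, c, hcfg, hcI, fun y hy T g t ht hker => ?_⟩
      refine (hpts T g t ht y).mp ?_
      letI : Algebra A (T.presheaf.stalk t) := (Groth.L20.RG.stkHom g t).toAlgebra
      have hyV : y.1 ∈ V x := X.basicOpen_le s hy
      exact (Groth.L20.RG.flatPts_iff_points f F g t (hV x) hyV).mp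
        (hc _ inferInstance ((hmem _ hyV).mp hy) (T.presheaf.stalk t) hker)
    choose O hxO c hcfg hcI hc using hnb
    obtain ⟨t, ht⟩ := hcpt.elim_finite_subcover (fun x : E => (O x : Set X)) (fun x => (O x).isOpen)
      (fun x hx => Set.mem_iUnion.mpr ⟨⟨x, hx⟩, hxO ⟨x, hx⟩⟩)
    suffices (⨆ x, I x) = t.sup c by
      rw [this]
      exact Submodule.fg_finset_sup t c fun x _ => hcfg x
    have hcle : t.sup c ≤ ⨆ x, I x := Finset.sup_le fun x _ => hcI x
    refine le_antisymm (iSup_le fun y => ?_) hcle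
    obtain ⟨x, hxt, hyx⟩ : ∃ x ∈ t, y.1 ∈ O x := by simpa [Set.mem_iUnion] using ht y.2
    have hcm : t.sup c ≤ IsLocalRing.maximalIdeal A := hcle.trans (iSup_le hIm)
    haveI : Nontrivial (A ⧸ t.sup c) := Ideal.Quotient.nontrivial_iff.mpr fun h =>
      (IsLocalRing.maximalIdeal.isMaximal A).ne_top (top_le_iff.mp (h ▸ hcm))
    let B : CommRingCat.{u} := CommRingCat.of (A ⧸ t.sup c)
    haveI : IsLocalRing B := IsLocalRing.of_surjective' (Ideal.Quotient.mk (t.sup c)) Ideal.Quotient.mk_surjective
    let φ : cA ⟶ B := CommRingCat.ofHom (Ideal.Quotient.mk (t.sup c))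
    let b : Spec B := IsLocalRing.closedPoint B
    have hb : (Spec.map φ).base b = IsLocalRing.closedPoint A :=
      PrimeSpectrum.ext (IsLocalRing.eq_maximalIdeal
        (Ideal.comap_isMaximal_of_surjective (K := IsLocalRing.maximalIdeal B) _ Ideal.Quotient.mk_surjective))
    have hstk : ∀ a, Groth.L20.RG.stkHom (Spec.map φ) b a =
        Groth.L20.RG.stkHom (𝟙 (Spec B)) b (Ideal.Quotient.mk (t.sup c) a) := fun a => by
      show (Spec B).presheaf.germ ⊤ b trivial ((Spec.map φ).appTop ((Scheme.ΓSpecIso cA).inv a)) = _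
      rw [show (Spec.map φ).appTop ((Scheme.ΓSpecIso cA).inv a) = (Scheme.ΓSpecIso B).inv (φ a) from
        (congr($(Scheme.ΓSpecIso_inv_naturality φ) a)).symm]
      rfl
    have hle := hc x y hyx (Spec B) (Spec.map φ) b hb fun a ha => by
      rw [RingHom.mem_ker, hstk, Ideal.Quotient.eq_zero_iff_mem.mpr ((Finset.le_sup (f := c) hxt : c x ≤ t.sup c) ha), map_zero]
    intro a ha
    have h0 := hle ha
    rw [RingHom.mem_ker, hstk] at h0
    let hT := isAffineOpen_top (Spec B)
    letI := (Spec B).presheaf.algebra_section_stalk (U := ⊤) ⟨b, trivial⟩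
    haveI := hT.isLocalization_stalk ⟨b, trivial⟩
    obtain ⟨u, hu⟩ := (IsLocalization.map_eq_zero_iff (hT.primeIdealOf ⟨b, trivial⟩).asIdeal.primeCompl
      ((Spec B).presheaf.stalk b) ((Scheme.ΓSpecIso B).inv (Ideal.Quotient.mk (t.sup c) a))).mp h0
    have hunit : IsUnit (Groth.L20.RG.stkHom (𝟙 (Spec B)) b ((Scheme.ΓSpecIso B).hom u.1)) := by
      show IsUnit ((Spec B).presheaf.germ ⊤ b trivial ((Scheme.ΓSpecIso B).inv ((Scheme.ΓSpecIso B).hom u.1)))
      rw [← CommRingCat.comp_apply (Scheme.ΓSpecIso B).hom, Iso.hom_inv_id, CommRingCat.id_apply]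
      exact IsLocalization.map_units ((Spec B).presheaf.stalk b) u
    have hu' := (Groth.L20.RG.isUnit_of_isUnit_stkHom (𝟙 (Spec B)) rfl hunit)
    have h2 : (Scheme.ΓSpecIso B).hom u.1 * Ideal.Quotient.mk (t.sup c) a = 0 := by
      have := congrArg (Scheme.ΓSpecIso B).hom hu
      rwa [map_mul, map_zero, ← CommRingCat.comp_apply (Scheme.ΓSpecIso B).inv, Iso.inv_hom_id, CommRingCat.id_apply] at this
    exact Ideal.Quotient.eq_zero_iff_mem.mp (hu'.mul_right_eq_zero.mp h2)


end Groth.Agent.S9032
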