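import Groth.Statements.S9036
import Groth.Agent.L10.CompactBounded
import Groth.Agent.L10.ModCompact.WeakContr
import Groth.Agent.L10.FreeOn
import Groth.Agent.L10.SheafModGroth

set_option autoImplicit false
set_option backward.defeqAttrib.useBackward true
set_option backward.isDefEq.respectTransparency false
universe u
open CategoryTheory CategoryTheory.Limits Opposite
open ModSite

namespace Groth.Agent.S9036

/-- Let (C, O) be a ringed site in which every object has a covering by quasi-compact objects (an object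
U is called quasi-compact here when the sheaf h_U^# is a quasi-compact object of the topos, which is
equivalent to the site-level definition). Then every compact object of D(O) is a retract in D(O) of
the image of a bounded complex whose terms are finite direct sums of modules of the form j_{U!} O_U
with U quasi-compact. The derived category of O-modules, direct sums in it and finite biproducts of
O-modules (automatic) are instance hypotheses. -/
theorem result
    {C : Type u} [SmallCategory C] {J : GrothendieckTopology C} (O : Sheaf J CommRingCat.{u})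
    [HasFiniteBiproducts (ModSite.Mod O)]
    [HasDerivedCategory.{u} (ModSite.Mod O)] [HasCoproducts.{u} (DerivedCategory (ModSite.Mod O))]
    (hC : ∀ V : C, ∃ R ∈ J V, ∀ ⦃W : C⦄ (g : W ⟶ V), R g →
      ∃ (U : C) (a : W ⟶ U) (b : U ⟶ V), CohCx.IsQcObject ((presheafToSheaf J (Type u)).obj (yoneda.obj U)) ∧ a ≫ b = g)
    (K : DerivedCategory (ModSite.Mod O)) (hK : CohDer.IsCompactObject K) :
    ∃ (L : CochainComplex (ModSite.Mod O) ℤ) (a b : ℤ),
      (∀ i : ℤ, i < a ∨ b < i → IsZero (L.X i)) ∧
      (∀ i : ℤ, ∃ (n : ℕ) (U : Fin n → C),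
        (∀ j, CohCx.IsQcObject ((presheafToSheaf J (Type u)).obj (yoneda.obj (U j)))) ∧
        Nonempty (L.X i ≅ ⨁ fun j => ModSite.freeOn O (U j))) ∧
      Nonempty (Retract K (DerivedCategory.Q.obj L)) := by
  haveI : IsGrothendieckAbelian.{u} (ModSite.Mod O) := Groth.L10.shMod_isGrothendieckAbelian _
  haveI : HasCoproducts.{u} (ModSite.Mod O) := fun ι => inferInstance
  let G : Set C := {U | CohCx.IsQcObject ((presheafToSheaf J (Type u)).obj (yoneda.obj U))}
  have hsep := Groth.L10.FreeOn.isSeparating O G fun X => by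
    obtain ⟨R, hR, hRf⟩ := hC X
    refine ⟨{q : Σ U : C, (U ⟶ X) // q.1 ∈ G}, fun q => q.1.1, fun q => q.1.2, ?_, fun q => q.2⟩
    refine J.superset_covering (fun W g hg => ?_) hR
    obtain ⟨U, a, b, hU, rfl⟩ := hRf g hg
    exact ⟨U, a, b, Presieve.ofArrows.mk (⟨⟨U, b⟩, hU⟩ : {q : Σ U : C, (U ⟶ X) // q.1 ∈ G}), rfl⟩
  obtain ⟨L, a, b, h0, hL, hr⟩ := Groth.L10.CompactBounded.main
    (S := {M | ∃ U : C, U ∈ G ∧ M = ModSite.freeOn O U})
    (fun X => ⟨Σ U : G, (ModSite.freeOn O (U : C) ⟶ X), fun q => ModSite.freeOn O (q.1 : C),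
      Limits.Sigma.desc fun q => q.2, fun q => ⟨q.1.1, q.1.2, rfl⟩, ⟨fun g h hgh => hsep _ _ (by
        rintro _ ⟨U⟩ φ
        have := Limits.Sigma.ι (fun q : Σ U : G, (ModSite.freeOn O (U : C) ⟶ X) => ModSite.freeOn O (q.1 : C)) ⟨U, φ⟩ ≫= hgh
        simpa using this)⟩⟩)
    (by rintro E ⟨U, hU, rfl⟩ ι; exact Groth.L10.ModCompact.preservesSums_hom (O := O) hU ι) K hK
  refine ⟨L, a, b, h0, fun i => ?_, hr⟩
  obtain ⟨n, E, hE, ⟨e⟩⟩ := hL i
  choose U hU hEU using hE
  exact ⟨n, U, hU, ⟨e ≪≫ biproduct.mapIso fun j => eqToIso (hEU j)⟩⟩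

end Groth.Agent.S9036
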