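import Groth.Statements.S9038
import Mathlib.Topology.Compactness.LocallyCompact
import Mathlib.Topology.Separation.Regular

set_option autoImplicit false
universe u
open Topology
open CohTop

namespace Groth.Agent.S9038

/-- In the category of Hausdorff locally quasi-compact spaces, call a family of continuous maps f_i :
X_i → X a qc covering when every point of X has a neighbourhood of the form ⋃_{i ∈ t} f_i(E_i) with
t a finite set of indices and E_i ⊆ X_i quasi-compact. If (f_i : X_i → X) is a qc covering and for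
each i the family (g_{ij} : X_{ij} → X_i)_j is a qc covering, then the family of composites X_{ij} →
X, indexed by the pairs (i, j), is a qc covering. -/
theorem result
    {B : Type u} [TopologicalSpace B] [T2Space B] [LocallyCompactSpace B]
    {ι : Type u} {X : ι → Type u} [∀ i, TopologicalSpace (X i)] [∀ i, T2Space (X i)]
    [∀ i, LocallyCompactSpace (X i)]
    (f : ∀ i, X i → B) (hf : ∀ i, Continuous (f i))
    (hcov : ∀ x : B, ∃ (t : Finset ι) (E : ∀ i, Set (X i)),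
      (∀ i ∈ t, IsCompact (E i)) ∧ (⋃ i ∈ t, f i '' E i) ∈ 𝓝 x)
    {κ : ι → Type u} {Y : ∀ i, κ i → Type u} [∀ i j, TopologicalSpace (Y i j)] [∀ i j, T2Space (Y i j)]
    [∀ i j, LocallyCompactSpace (Y i j)]
    (g : ∀ i j, Y i j → X i) (hg : ∀ i j, Continuous (g i j))
    (hcov' : ∀ (i : ι) (x : X i), ∃ (t : Finset (κ i)) (E : ∀ j, Set (Y i j)),
      (∀ j ∈ t, IsCompact (E j)) ∧ (⋃ j ∈ t, g i j '' E j) ∈ 𝓝 x) :
    ∀ x : B, ∃ (t : Finset (Σ i, κ i)) (E : ∀ p : (Σ i, κ i), Set (Y p.1 p.2)),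
      (∀ p ∈ t, IsCompact (E p)) ∧ (⋃ p ∈ t, f p.1 '' (g p.1 p.2 '' E p)) ∈ 𝓝 x := by
  classical
  intro x
  obtain ⟨t, E, hE, hx⟩ := hcov x
  have h : ∀ i ∈ t, ∃ (s : Finset (κ i)) (E' : ∀ j, Set (Y i j)), (∀ j ∈ s, IsCompact (E' j)) ∧
      E i ⊆ ⋃ j ∈ s, g i j '' E' j := fun i hi => by
    choose s F hF hn using hcov' i
    obtain ⟨P, hP, hsub⟩ := (hE i hi).elim_nhds_subcover (fun y => ⋃ j ∈ s y, g i j '' F y j) (fun y _ => hn y)
    refine ⟨P.biUnion s, fun j => ⋃ y ∈ P.filter (fun y => j ∈ s y), F y j, fun j hj => ?_, hsub.trans ?_⟩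
    · exact Finset.isCompact_biUnion _ fun y hy => hF y j (Finset.mem_filter.1 hy).2
    · intro z hz
      simp only [Set.mem_iUnion, Set.mem_image, Finset.mem_biUnion, Finset.mem_filter] at hz ⊢
      obtain ⟨y, hy, j, hj, w, hw, rfl⟩ := hz
      exact ⟨j, ⟨y, hy, hj⟩, w, ⟨y, ⟨hy, hj⟩, hw⟩, rfl⟩
  choose! s E' hE' hsub using h
  refine ⟨t.sigma s, fun p => E' p.1 p.2, fun p hp => hE' p.1 (Finset.mem_sigma.1 hp).1 p.2 (Finset.mem_sigma.1 hp).2,
    Filter.mem_of_superset hx ?_⟩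
  intro z hz
  simp only [Set.mem_iUnion, Set.mem_image] at hz
  obtain ⟨i, hi, w, hw, rfl⟩ := hz
  have h' := hsub i hi hw
  simp only [Set.mem_iUnion, Set.mem_image] at h'
  obtain ⟨j, hj, v, hv, rfl⟩ := h'
  simp only [Set.mem_iUnion, Set.mem_image]
  exact ⟨⟨i, j⟩, Finset.mem_sigma.2 ⟨hi, hj⟩, g i j v, ⟨v, hv, rfl⟩, rfl⟩

end Groth.Agent.S9038
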