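import Groth.Statements.S9041
import Groth.Agent.L10.ModAcyc
import Mathlib.CategoryTheory.Sites.EpiMono
import Mathlib.Algebra.Category.ModuleCat.Sheaf.Free
import Mathlib.CategoryTheory.Limits.Preserves.Shapes.Biproducts

set_option autoImplicit false
set_option backward.defeqAttrib.useBackward true
set_option backward.isDefEq.respectTransparency false
set_option backward.isDefEq.respectTransparency.types false
set_option synthInstance.maxHeartbeats 200000
set_option backward.defeqAttrib.useBackward true
set_option backward.isDefEq.respectTransparency false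
universe u
open CategoryTheory CategoryTheory.Limits Opposite
open ModSite

namespace Groth.Agent.S9041

/-- On a ringed site (C, O), let E be a direct summand of a finite free O-module, p : G → F a surjection
of O-modules and φ : E → F a morphism. Then locally φ lifts through p: every object V has a covering
sieve such that over each of its arrows W → V there is a morphism E|_W → G|_W whose composite with
p|_W is φ|_W. (The published statement is phrased for modules over the localisation (C/U, O_U) at an
object U and a covering of U; a localised ringed site is again a ringed site, and this row states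
the conclusion at every object of an arbitrary ringed site.) -/
theorem result
    {C : Type u} [SmallCategory C] {J : GrothendieckTopology C} (O : Sheaf J CommRingCat.{u})
    (E F G : ModSite.Mod O) (hE : DCoh.IsFinFreeSummandMod (ModSite.ringSh O) E)
    (p : G ⟶ F) [Epi p] (φ : E ⟶ F) (V : C) :
    ∃ R ∈ J V, ∀ ⦃W : C⦄ (g : W ⟶ V), R g →
      ∃ l : (ModSite.restr O W).obj E ⟶ (ModSite.restr O W).obj G,
        l ≫ (ModSite.restr O W).map p = (ModSite.restr O W).map φ := by
  classical
  obtain ⟨n, i, pr, hip⟩ := hE
  let I := ULift.{u} (Fin n)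
  let x : I → ∀ X : Cᵒᵖ, F.val.obj X := fun j X =>
    (F.unitHomEquiv (SheafOfModules.ιFree j ≫ pr ≫ φ)).val X
  haveI := Groth.L10.ModAcyc.epi_toSheaf O p
  haveI : Sheaf.IsLocallySurjective ((SheafOfModules.toSheaf.{u} (ModSite.ringSh O)).map p) :=
    (Sheaf.isLocallySurjective_iff_epi' (J := J) (A := AddCommGrpCat.{u}) _).2 inferInstance
  let R : I → Sieve V := fun j => Presheaf.imageSieve ((SheafOfModules.toSheaf.{u} (ModSite.ringSh O)).map p).hom (x j (op V))
  have hR : ∀ j, R j ∈ J V := fun j => Presheaf.imageSieve_mem J ((SheafOfModules.toSheaf.{u} (ModSite.ringSh O)).map p).hom (U := op V) (x j (op V))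
  refine ⟨Finset.univ.inf R, Finset.inf_induction (J.top_mem V) (fun _ ha _ hb => J.intersection_covering ha hb) (fun j _ => hR j),
    fun W g hg => ?_⟩
  have ht : ∀ j, ∃ t : G.val.obj (op W), p.val.app (op W) t = x j (op W) := fun j => by
    obtain ⟨t, ht⟩ := (Finset.inf_le (Finset.mem_univ j) : Finset.univ.inf R ≤ R j) g hg
    exact ⟨t, ht.trans (PresheafOfModules.sections_property (F.unitHomEquiv (SheafOfModules.ιFree j ≫ pr ≫ φ)) g.op)⟩
  choose t ht using ht
  let ψ : ∀ j, SheafOfModules.unit _ ⟶ (ModSite.restr O W).obj G := fun j =>
    ((ModSite.restr O W).obj G).unitHomEquiv.symm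
      (PresheafOfModules.sectionsMk (fun X => G.val.presheaf.map X.unop.hom.op (t j)) (fun {X Y} a => by
        show G.val.presheaf.map a.unop.left.op (G.val.presheaf.map X.unop.hom.op (t j)) = _
        rw [← ConcreteCategory.comp_apply, ← Functor.map_comp, ← op_comp, Over.w]))
  haveI := preservesBinaryBiproducts_of_preservesBinaryProducts (ModSite.restr O W)
  haveI : (ModSite.restr O W).Additive := Functor.additive_of_preservesBinaryBiproducts _
  haveI : PreservesBiproductsOfShape (Fin n) (ModSite.restr O W) := PreservesFiniteBiproducts.preserves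
  haveI : PreservesColimitsOfShape (Discrete (Fin n)) (ModSite.restr O W) :=
    preservesCoproductsOfShape_of_preservesBiproductsOfShape _
  haveI : PreservesColimitsOfShape (Discrete I) (ModSite.restr O W) :=
    preservesColimitsOfShape_of_equiv (Discrete.equivalence Equiv.ulift.symm) _
  let hc := isColimitCofanMkObjOfIsColimit (ModSite.restr O W) _ _
    (coproductIsCoproduct fun _ : I => SheafOfModules.unit (ModSite.ringSh O))
  refine ⟨(ModSite.restr O W).map i ≫ Cofan.IsColimit.desc hc ψ, ?_⟩
  have key : Cofan.IsColimit.desc hc ψ ≫ (ModSite.restr O W).map p = (ModSite.restr O W).map (pr ≫ φ) := by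
    refine Cofan.IsColimit.hom_ext hc _ _ fun j => ?_
    rw [Cofan.IsColimit.fac_assoc]
    refine Eq.trans ?_ ((ModSite.restr O W).map_comp _ _)
    apply ((ModSite.restr O W).obj F).unitHomEquiv.injective
    rw [SheafOfModules.unitHomEquiv_comp_apply]
    erw [Equiv.apply_symm_apply]
    refine Subtype.ext (funext fun X => ?_)
    show p.val.app (op X.unop.left) (G.val.presheaf.map X.unop.hom.op (t j)) = x j (op X.unop.left)
    refine (NatTrans.naturality_apply ((PresheafOfModules.toPresheaf _).map p.val) X.unop.hom.op (t j)).trans ?_
    refine (congrArg (F.val.presheaf.map X.unop.hom.op) (ht j)).trans ?_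
    exact PresheafOfModules.sections_property (F.unitHomEquiv (SheafOfModules.ιFree j ≫ pr ≫ φ)) X.unop.hom.op
  rw [Category.assoc, key, ← Functor.map_comp, reassoc_of% hip]

end Groth.Agent.S9041
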