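import Groth.Statements.S9053
import Groth.Agent.L10.ModLocalLift.Basic

set_option autoImplicit false
set_option backward.defeqAttrib.useBackward true
set_option backward.isDefEq.respectTransparency false
universe u
open CategoryTheory CategoryTheory.Limits Opposite
open ModSite

namespace Groth.Agent.S9053

/-- On a ringed site (C, O), let E be a strictly perfect complex of O-modules, F a complex of O-modules
and α : E → F a morphism in D(O). Then locally α is represented by a morphism of complexes: every
object V has a covering sieve such that over each of its arrows W → V the restriction α|_W in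
D(O_W), namely the image of α under the derived functor of the exact restriction functor, equals the
class of a morphism of complexes E|_W → F|_W (up to the canonical identifications of the derived
restriction of a complex with the restricted complex). Only this first part is stated; the second
part of the published lemma carries no proof in the text. The derived categories, additivity and
right exactness of restriction are instance hypotheses (always satisfied). (The published statement
is phrased over the localisation (C/U, O_U) at an object U with a covering of U; this row states it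
at every object of an arbitrary ringed site, which covers that case.) -/
theorem result
    {C : Type u} [SmallCategory C] {J : GrothendieckTopology C} (O : Sheaf J CommRingCat.{u})
    [HasDerivedCategory.{u} (ModSite.Mod O)] [∀ W : C, HasDerivedCategory.{u} (ModSite.Mod (O.over W))]
    [∀ W : C, (ModSite.restr O W).Additive] [∀ W : C, PreservesFiniteColimits (ModSite.restr O W)]
    (E F : CochainComplex (ModSite.Mod O) ℤ) (hE : DCoh.IsStrictlyPerfectMod (ModSite.ringSh O) E)
    (α : DerivedCategory.Q.obj E ⟶ DerivedCategory.Q.obj F) (V : C) :
    ∃ R ∈ J V, ∀ ⦃W : C⦄ (g : W ⟶ V), R g →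
      ∃ α' : ((ModSite.restr O W).mapHomologicalComplex (ComplexShape.up ℤ)).obj E ⟶
          ((ModSite.restr O W).mapHomologicalComplex (ComplexShape.up ℤ)).obj F,
        (ModSite.restr O W).mapDerivedCategory.map α =
          (ModSite.restr O W).mapDerivedCategoryFactors.hom.app E ≫ DerivedCategory.Q.map α' ≫
            (ModSite.restr O W).mapDerivedCategoryFactors.inv.app F := by
  obtain ⟨X', s, hs, g, rfl⟩ := DerivedCategory.right_fac α
  obtain ⟨⟨a, b, hv⟩, hf⟩ := hE
  have hqs : QuasiIso s := (DerivedCategory.isIso_Q_map_iff_quasiIso _ s).1 hs
  have hiso : ∀ j, IsIso (HomologicalComplex.homologyMap s j) := fun j =>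
    (quasiIsoAt_iff_isIso_homologyMap s j).1 (hqs.quasiIsoAt j)
  obtain ⟨R, hR, h⟩ := Groth.L10.ModLocalLift.exists_homotopy_lift (𝟙 E) s ⟨⟨a, b, hv⟩, hf⟩ a
    (fun j hj => hv j (Or.inl hj)) (fun j _ => hiso j) inferInstance V
  refine ⟨R, hR, fun W w hw => ?_⟩
  obtain ⟨β, ⟨H⟩⟩ := h w hw
  let M := (ModSite.restr O W).mapHomologicalComplex (ComplexShape.up ℤ)
  refine ⟨β ≫ M.map g, ?_⟩
  have hQ : DerivedCategory.Q.map (β ≫ M.map s) = DerivedCategory.Q.map (M.map (𝟙 E)) := by
    rw [← NatIso.naturality_1 (DerivedCategory.quotientCompQhIso (ModSite.Mod (O.over W))) (β ≫ M.map s),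
      ← NatIso.naturality_1 (DerivedCategory.quotientCompQhIso (ModSite.Mod (O.over W))) (M.map (𝟙 E)),
      Functor.comp_map, Functor.comp_map, HomotopyCategory.eq_of_homotopy _ _ H]
  rw [CategoryTheory.Functor.map_id, CategoryTheory.Functor.map_id, Functor.map_comp] at hQ
  let η := (ModSite.restr O W).mapDerivedCategoryFactors
  let D := (ModSite.restr O W).mapDerivedCategory
  haveI : IsIso (DerivedCategory.Q.map (M.map s)) := by
    haveI : IsIso (D.map (DerivedCategory.Q.map s)) := inferInstance
    exact (NatIso.isIso_map_iff η s).1 this
  have hn_s : D.map (DerivedCategory.Q.map s) ≫ η.hom.app E =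
      η.hom.app X' ≫ DerivedCategory.Q.map (M.map s) := η.hom.naturality s
  have hn_g : D.map (DerivedCategory.Q.map g) ≫ η.hom.app F =
      η.hom.app X' ≫ DerivedCategory.Q.map (M.map g) := η.hom.naturality g
  change D.map (inv (DerivedCategory.Q.map s) ≫ DerivedCategory.Q.map g) =
    η.hom.app E ≫ DerivedCategory.Q.map (β ≫ M.map g) ≫ η.inv.app F
  rw [Functor.map_comp, Functor.map_inv, IsIso.inv_comp_eq, reassoc_of% hn_s, Functor.map_comp,
    Category.assoc]
  rw [← cancel_mono (η.hom.app F)]
  simp only [Category.assoc, Iso.inv_hom_id_app, Category.comp_id]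
  rw [hn_g]
  congr 1
  have h2 : DerivedCategory.Q.map β = inv (DerivedCategory.Q.map (M.map s)) :=
    IsIso.eq_inv_of_inv_hom_id hQ
  simp [h2]
  exact (Category.comp_id _).symm

end Groth.Agent.S9053
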