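import Groth.Statements.S9089
import Mathlib.RingTheory.Ideal.BigOperators
import Mathlib.LinearAlgebra.Finsupp.LinearCombination

set_option autoImplicit false
set_option backward.defeqAttrib.useBackward true
set_option backward.isDefEq.respectTransparency false
universe u
open CategoryTheory Opposite
open ModSite

namespace Groth.Agent.S9089

/-- Part (1): ⇔ (2), for a ringed site (C, O) with C small and O a sheaf of commutative rings: the
following are equivalent. (1) For every object U and every section f of O over U there is a covering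
sieve on U on each of whose arrows either f or 1 - f restricts to a unit. (2) For every object U,
every n ≥ 1 and all sections f₁, …, fₙ of O over U generating the unit ideal of O(U), there is a
covering sieve on U on each of whose arrows some fᵢ restricts to a unit. -/
theorem result {C : Type u} [SmallCategory C] (J : GrothendieckTopology C)
    (O : Sheaf J CommRingCat.{u}) :
    (∀ (U : C) (f : O.obj.obj (op U)), ∃ S ∈ J U, ∀ ⦃V : C⦄ (g : V ⟶ U), S g →
        IsUnit ((O.obj.map g.op).hom f) ∨ IsUnit ((O.obj.map g.op).hom (1 - f))) ↔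
    (∀ (U : C) (n : ℕ) (f : Fin n → O.obj.obj (op U)), 1 ≤ n → Ideal.span (Set.range f) = ⊤ →
        ∃ S ∈ J U, ∀ ⦃V : C⦄ (g : V ⟶ U), S g → ∃ i, IsUnit ((O.obj.map g.op).hom (f i))) := by
  classical
  constructor
  · intro h U n
    induction n generalizing U with
    | zero => intro f hn; omega
    | succ n ih =>
      intro f _ hf
      obtain ⟨a, ha⟩ := (Ideal.mem_span_range_iff_exists_fun).1 (hf ▸ Submodule.mem_top : (1 : O.obj.obj (op U)) ∈ Ideal.span (Set.range f))
      rw [Fin.sum_univ_succ] at ha
      obtain ⟨S, hS, hS'⟩ := h U (a 0 * f 0)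
      refine ⟨Sieve.bind S.arrows fun {V} g hg => if h0 : IsUnit ((O.obj.map g.op).hom (f 0)) then ⊤ else
        if hn : 1 ≤ n ∧ Ideal.span (Set.range fun i : Fin n => (O.obj.map g.op).hom (f i.succ)) = ⊤ then
          (ih V _ hn.1 hn.2).choose else ⊥, J.bind_covering hS fun {V} g hg => ?_, ?_⟩
      · split_ifs with h0 hn
        · exact J.top_mem _
        · exact (ih V _ hn.1 hn.2).choose_spec.1
        · exfalso
          rcases hS' g hg with h1 | h1
          · rw [map_mul] at h1
            exact h0 (isUnit_of_mul_isUnit_right h1)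
          · rw [← ha, add_sub_cancel_left, map_sum] at h1
            obtain _ | m := n
            · simp only [Finset.univ_eq_empty, Finset.sum_empty] at h1
              have hz : (0 : O.obj.obj (op V)) = 1 := isUnit_zero_iff.1 h1
              exact h0 (@isUnit_of_subsingleton _ _ (subsingleton_of_zero_eq_one hz) _)
            · refine hn ⟨by omega, Ideal.eq_top_of_isUnit_mem _ (Ideal.sum_mem _ fun i _ => ?_) h1⟩
              rw [map_mul]
              exact Ideal.mul_mem_left _ _ (Ideal.subset_span ⟨i, rfl⟩)
      · rintro W g ⟨V, q, g', hg', hq, rfl⟩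
        dsimp only at hq
        rw [op_comp, Functor.map_comp]
        split_ifs at hq with h0 hn
        · exact ⟨0, h0.map (O.obj.map q.op).hom⟩
        · obtain ⟨i, hi⟩ := (ih V _ hn.1 hn.2).choose_spec.2 q hq
          exact ⟨i.succ, hi⟩
        · exact absurd hq id
  · intro h U f
    obtain ⟨S, hS, hS'⟩ := h U 2 ![f, 1 - f] one_le_two ((Ideal.eq_top_iff_one _).2
      (Ideal.mem_span_range_iff_exists_fun.2 ⟨![1, 1], by simp [Fin.sum_univ_two]⟩))
    refine ⟨S, hS, fun V g hg => ?_⟩
    obtain ⟨i, hi⟩ := hS' g hg
    fin_cases i
    · exact Or.inl hi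
    · exact Or.inr hi

end Groth.Agent.S9089
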