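import Groth.Statements.S9091
import Groth.Agent.L15.FlatCrit.Stalks
import Mathlib.RingTheory.LocalRing.Basic

set_option autoImplicit false
set_option backward.defeqAttrib.useBackward true
set_option backward.isDefEq.respectTransparency false
universe u
open CategoryTheory Opposite
open ModSite

namespace Groth.Agent.S9091

/-- Part (2): ⇒ (1) when the site has enough points, for a ringed site (C, O) with C small and O a sheaf
of commutative rings: if at every point p of the site the stalk O_p is the zero ring or is local,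
then for every object U and every section f of O over U there is a covering sieve on U on each of
whose arrows either f or 1 - f restricts to a unit. -/
theorem result {C : Type u} [SmallCategory C] {J : GrothendieckTopology C}
    (O : Sheaf J CommRingCat.{u}) [GrothendieckTopology.HasEnoughPoints.{u} J]
    (h : ∀ p : GrothendieckTopology.Point.{u} J, Subsingleton (ModSite.stalkRing p O) ∨ IsLocalRing (ModSite.stalkRing p O))
    (U : C) (f : O.obj.obj (op U)) :
    ∃ S ∈ J U, ∀ ⦃V : C⦄ (g : V ⟶ U), S g →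
        IsUnit ((O.obj.map g.op).hom f) ∨ IsUnit ((O.obj.map g.op).hom (1 - f)) := by
  obtain ⟨P, hP, hP'⟩ := GrothendieckTopology.HasEnoughPoints.exists_objectProperty.{u} J
  haveI := hP
  let good : ∀ ⦃V : C⦄, (V ⟶ U) → Prop := fun V g =>
    IsUnit ((O.obj.map g.op).hom f) ∨ IsUnit ((O.obj.map g.op).hom (1 - f))
  let ι := Σ V : C, {g : V ⟶ U // good g}
  refine ⟨Sieve.ofArrows (fun i : ι => i.1) (fun i : ι => i.2.1), ?_, ?_⟩
  · refine (hP'.jointly_reflect_ofArrows_mem_of_small _).2 fun Φ x => ?_
    have hu : IsUnit (Groth.L15.FlatCrit.germRingHom Φ.obj O U x f) ∨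
        IsUnit (Groth.L15.FlatCrit.germRingHom Φ.obj O U x (1 - f)) := by
      rw [map_sub, map_one]
      rcases h Φ.obj with h0 | h0
      · exact Or.inl (@isUnit_of_subsingleton _ _ h0 _)
      · exact @IsLocalRing.isUnit_or_isUnit_one_sub_self _ _ h0 _
    have key : ∀ r : O.obj.obj (op U), IsUnit (Groth.L15.FlatCrit.germRingHom Φ.obj O U x r) →
        ∃ (V : C) (g : V ⟶ U) (y : Φ.obj.fiber.obj V), Φ.obj.fiber.map g y = x ∧ IsUnit ((O.obj.map g.op).hom r) := by
      intro r hr
      obtain ⟨b, hb⟩ := hr.exists_right_inv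
      obtain ⟨W, g, w, s, hw, hs⟩ := Groth.L15.FlatCrit.exists_func_lift Φ.obj (fun _ : Fin 1 => b) U x
      obtain ⟨Y, e, y, hy, he⟩ := Groth.L15.FlatCrit.exists_func_eq Φ.obj W w
        (fun _ : Fin 1 => Groth.L15.FlatCrit.rr O g r * s 0) (fun _ : Fin 1 => 1) (fun _ => by
          rw [map_mul, map_one, Groth.L15.FlatCrit.germ_rr, hw, hs, hb])
      refine ⟨Y, e ≫ g, y, by rw [Functor.map_comp, ConcreteCategory.comp_apply, hy, hw], ?_⟩
      have h1 := he 0
      rw [map_mul, map_one] at h1
      rw [op_comp, Functor.map_comp]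
      exact IsUnit.of_mul_eq_one _ h1
    rcases hu with hu | hu
    · obtain ⟨V, g, y, hy, hg⟩ := key _ hu
      exact ⟨⟨V, g, Or.inl hg⟩, y, hy⟩
    · obtain ⟨V, g, y, hy, hg⟩ := key _ hu
      exact ⟨⟨V, g, Or.inr hg⟩, y, hy⟩
  · intro V g hg
    rw [Sieve.ofArrows, Sieve.generate_apply] at hg
    obtain ⟨_, a, _, ⟨⟨Y, q, hq⟩⟩, rfl⟩ := hg
    rw [op_comp, Functor.map_comp]
    exact hq.imp (fun h => h.map (O.obj.map a.op).hom) fun h => h.map (O.obj.map a.op).hom

end Groth.Agent.S9091
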