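import Groth.Statements.S9097
import Groth.Agent.L10.ConstSec
import Mathlib.Algebra.Homology.ShortComplex.ExactFunctor

set_option autoImplicit false
set_option backward.defeqAttrib.useBackward true
set_option backward.isDefEq.respectTransparency false
set_option backward.defeqAttrib.useBackward true
set_option backward.isDefEq.respectTransparency false
universe u
open CategoryTheory Opposite
open CohSite

namespace Groth.Agent.S9097

/-- If 0 → A → B → C → 0 is short exact in the category of abelian groups then, for every object U, the
sequence 0 → A̲(U) → B̲(U) → C̲(U) → 0 of sections of the constant abelian sheaves is short exact;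
in other words the sequence of constant sheaves is exact even as a sequence of abelian presheaves.
The instance binder on the sections-of-constant-sheaf functor (it preserves zero morphisms) always
holds and is only needed to form the complex. -/
theorem result {C : Type u} [SmallCategory C] (J : GrothendieckTopology C)
    (S : ShortComplex AddCommGrpCat.{u}) (hS : S.ShortExact) (U : C)
    [(constantSheaf J AddCommGrpCat.{u} ⋙ (sheafSections J AddCommGrpCat.{u}).obj (op U)).PreservesZeroMorphisms] :
    (S.map (constantSheaf J AddCommGrpCat.{u} ⋙ (sheafSections J AddCommGrpCat.{u}).obj (op U))).ShortExact := by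
  open Limits in
  haveI : PreservesFiniteLimits (constantSheaf J AddCommGrpCat.{u}) :=
    comp_preservesFiniteLimits (Functor.const Cᵒᵖ) (presheafToSheaf J AddCommGrpCat.{u})
  haveI : Limits.PreservesFiniteColimits (constantSheaf J AddCommGrpCat.{u}) :=
    Limits.comp_preservesFiniteColimits (Functor.const Cᵒᵖ) (presheafToSheaf J AddCommGrpCat.{u})
  have h1 := hS.map_of_exact (constantSheaf J AddCommGrpCat.{u})
  haveI : Limits.PreservesLimitsOfShape Limits.WalkingParallelPair ((sheafSections J AddCommGrpCat.{u}).obj (op U)) :=
    inferInstanceAs (Limits.PreservesLimitsOfShape Limits.WalkingParallelPair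
      (sheafToPresheaf J AddCommGrpCat.{u} ⋙ (evaluation Cᵒᵖ AddCommGrpCat.{u}).obj (op U)))
  haveI : ((sheafSections J AddCommGrpCat.{u}).obj (op U)).Additive := { }
  have := hS.epi_g
  have := h1.mono_f
  refine { exact := ?_, mono_f := ?_, epi_g := ?_ }
  · exact h1.exact.map_of_mono_of_preservesKernel ((sheafSections J AddCommGrpCat.{u}).obj (op U)) inferInstance inferInstance
  · haveI : Mono ((constantSheaf J AddCommGrpCat.{u}).map S.f) := h1.mono_f
    haveI : Mono ((constantSheaf J AddCommGrpCat.{u}).map S.f).hom :=
      inferInstanceAs (Mono ((sheafToPresheaf J AddCommGrpCat.{u}).map ((constantSheaf J AddCommGrpCat.{u}).map S.f)))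
    exact inferInstanceAs (Mono (((constantSheaf J AddCommGrpCat.{u}).map S.f).hom.app (op U)))
  · exact (AddCommGrpCat.epi_iff_surjective _).2
      (Groth.L10.ConstSec.surjective_app J S.g ((AddCommGrpCat.epi_iff_surjective _).1 hS.epi_g) U)

end Groth.Agent.S9097
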