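import Groth.Statements.S9102
import Groth.Agent.L10.ModCompact.Coprod

set_option autoImplicit false
set_option backward.defeqAttrib.useBackward true
set_option backward.isDefEq.respectTransparency false
universe u
open CategoryTheory Opposite
open ModSite

namespace Groth.Agent.S9102

open CategoryTheory.Limits in
/-- Part (2): on a small ringed site (C, O) with O commutative: let W be an object of C which is
quasi-compact, in the sense that the sheaf of sets h_W^# associated to W is a quasi-compact object
of the topos. Then the functor F ↦ F(W) from O-modules to abelian groups commutes with arbitrary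
direct sums (coproducts indexed by a small type). -/
theorem result {C : Type u} [SmallCategory C] {J : GrothendieckTopology C}
    (O : Sheaf J CommRingCat.{u}) (W : C)
    (hW : CohCx.IsQcObject ((presheafToSheaf J (Type u)).obj (yoneda.obj W))) (ι : Type u) :
    PreservesColimitsOfShape (Discrete ι)
      (SheafOfModules.toSheaf (ModSite.ringSh O) ⋙ (sheafSections J AddCommGrpCat.{u}).obj (op W)) := by
  haveI := Groth.L10.ModCompact.preservesSums_hom (O := O) hW ι
  exact preservesColimitsOfShape_of_natIso
    (NatIso.ofComponents (F := preadditiveCoyoneda.obj (op (ModSite.freeOn O W)))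
      (fun M => AddEquiv.toAddCommGrpIso (Groth.L15.FPFree.secA (O := O) (U := W) (M := M)))
      (fun {M N} φ => AddCommGrpCat.hom_ext (AddMonoidHom.ext fun a =>
        Groth.L15.FPFree.secA_comp (show Groth.L15.FPFree.fOn O W ⟶ M from a) φ)))

end Groth.Agent.S9102
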