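import Groth.Statements.S9104
import Groth.Agent.L15.PullFlat.InvRing
import Mathlib.CategoryTheory.Sites.Closed

set_option autoImplicit false
universe u
open CategoryTheory
open ModSite

namespace Groth.Agent.S9104

open CategoryTheory.Limits Opposite

open Groth.L15.PullFlat Groth.L15.FlatCrit

/-- A continuous functor sends covering sieves to generators of covering sieves. -/
theorem image_mem {C D : Type u} [SmallCategory C] [SmallCategory D] {J : GrothendieckTopology C}
    {K : GrothendieckTopology D} (F : D ⥤ C) [F.IsContinuous K J] {V : D} {S : Sieve V} (hS : S ∈ K V) :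
    S.functorPushforward F ∈ J (F.obj V) := by
  let Q : Sheaf J (Type u) := ⟨(Functor.closedSieves J).toFunctor,
    (isSheaf_iff_isSheaf_of_type _ _).2 (classifier_isSheaf J)⟩
  have hQ : Presieve.IsSheaf K (F.op ⋙ Q.obj) :=
    (isSheaf_iff_isSheaf_of_type _ _).1 (F.op_comp_isSheaf K J Q)
  let R := S.functorPushforward F
  let a : (F.op ⋙ Q.obj).obj (op V) := ⟨J.close R, J.close_isClosed R⟩
  let b : (F.op ⋙ Q.obj).obj (op V) := ⟨(⊤ : Sieve (F.obj V)), fun _ _ _ => trivial⟩
  have h : a = b := (hQ S hS).isSeparatedFor.ext fun W g hg => Subtype.ext (by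
    show (J.close R).pullback (F.map g) = (⊤ : Sieve (F.obj V)).pullback (F.map g)
    rw [Sieve.pullback_top]
    exact (Sieve.mem_iff_pullback_eq_top (S := J.close R) (F.map g)).1
      (J.le_close R _ (Sieve.image_mem_functorPushforward F S hg)))
  exact (J.close_eq_top_iff_mem R).1 (congrArg Subtype.val h)

/-- Part (1): for a morphism of ringed sites f : (C, O_C) → (D, O_D) between small sites with
commutative structure sheaves (only the underlying morphism of topoi is used): if (D, O_D) is a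
locally ringed site then C equipped with the pulled-back sheaf of rings f⁻¹O_D is a locally ringed
site. -/
theorem result {C D : Type u} [SmallCategory C] [SmallCategory D] {J : GrothendieckTopology C}
    {K : GrothendieckTopology D} {O_C : Sheaf J CommRingCat.{u}} {O_D : Sheaf K CommRingCat.{u}}
    (f : ModSite.RMor O_C O_D) (hD : ModSite.IsLocallyRinged K O_D) : ModSite.IsLocallyRinged J f.invRing := by
  haveI : PreservesFiniteLimits (Groth.L10.SiteFr.pullT (J := J) K f.fn) := f.exact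
  refine ⟨fun U x => ?_, fun U h01 => ?_⟩
  · obtain ⟨T, hT, hTd⟩ := exists_cone (J := J) (u := f.fn) K U (∅ : Finset (Pt f.fn U))
    refine exists_sieve_bind (fun U' (q : U' ⟶ U) =>
      IsUnit ((f.invRing.obj.map q.op).hom x) ∨ IsUnit ((f.invRing.obj.map q.op).hom (1 - x))) hT fun U₁ q₁ hq₁ => ?_
    obtain ⟨V₁, g₁, -, -⟩ := hTd q₁ hq₁
    obtain ⟨T₂, hT₂, hT₂d⟩ := exists_iR_lift f (⟨V₁, g₁⟩ : Pt f.fn U₁) (fun _ : Fin 1 => rr f.invRing q₁ x)
    refine exists_sieve_bind (fun U'' (r : U'' ⟶ U₁) =>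
      IsUnit ((f.invRing.obj.map (r ≫ q₁).op).hom x) ∨ IsUnit ((f.invRing.obj.map (r ≫ q₁).op).hom (1 - x)))
      hT₂ fun U₂ q₂ hq₂ => ?_
    obtain ⟨V, g, -, z, -, hz⟩ := hT₂d q₂ hq₂
    obtain ⟨S, hS, hSd⟩ := hD.1 V (z 0)
    refine ⟨(S.functorPushforward f.fn).pullback g, J.pullback_stable g (image_mem f.fn hS), ?_⟩
    intro U₃ r hr
    obtain ⟨W, h, e, hh, he⟩ := hr
    show IsUnit (rr f.invRing ((r ≫ q₂) ≫ q₁) x) ∨ IsUnit (rr f.invRing ((r ≫ q₂) ≫ q₁) (1 - x))
    have key : rr f.invRing ((r ≫ q₂) ≫ q₁) x = rr f.invRing e (iR f W (rr O_D h (z 0))) := by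
      rw [← rr_rr f.invRing q₁, ← rr_rr f.invRing q₂, hz 0, rr_rr, iR_natural', he]
    rcases hSd h hh with hu | hu
    · left
      rw [key]
      exact (hu.map (iR f W)).map _
    · right
      rw [map_sub, map_one, key, ← map_one (rr f.invRing e), ← map_one (iR f W), ← map_sub, ← map_sub]
      refine (IsUnit.map (iR f W) ?_).map _
      rw [← map_one (rr O_D h), ← map_sub]
      exact hu
  · obtain ⟨T, hT, hTd⟩ := exists_cone (J := J) (u := f.fn) K U (∅ : Finset (Pt f.fn U))
    refine J.transitive hT _ fun U₁ q₁ hq₁ => ?_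
    rw [show (⊥ : Sieve U).pullback q₁ = ⊥ from Sieve.ext fun Z q => Iff.rfl]
    obtain ⟨V₁, g₁, -, -⟩ := hTd q₁ hq₁
    obtain ⟨T₂, hT₂, hT₂d⟩ := exists_iR_zero f (⟨V₁, g₁⟩ : Pt f.fn U₁) (fun _ : Fin 1 => (1 : O_D.obj.obj (op V₁)))
      (fun _ => by
        rw [map_one, map_one, ← map_one (rr f.invRing q₁), ← h01, map_zero])
    refine J.transitive hT₂ _ fun U₂ q₂ hq₂ => ?_
    rw [show (⊥ : Sieve U₁).pullback q₂ = ⊥ from Sieve.ext fun Z q => Iff.rfl]
    obtain ⟨V, g, k, -, hk⟩ := hT₂d q₂ hq₂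
    have h1 := hk 0
    rw [map_one] at h1
    refine J.superset_covering (fun Z r hr => ?_) (J.pullback_stable g (image_mem f.fn (hD.2 V h1.symm)))
    obtain ⟨W, h, e, hh, -⟩ := hr
    exact hh

end Groth.Agent.S9104
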