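import Groth.Statements.S9105
import Mathlib.CategoryTheory.Sites.Over

set_option autoImplicit false
set_option backward.defeqAttrib.useBackward true
set_option backward.isDefEq.respectTransparency false
universe u
open CategoryTheory
open ModSite

namespace Groth.Agent.S9105

/-- If (C, O) is a locally ringed site (C small, O a sheaf of commutative rings) and U is an object of
C, then the localised ringed site (C/U, O_U) is again locally ringed. -/
theorem result {C : Type u} [SmallCategory C] {J : GrothendieckTopology C} (O : Sheaf J CommRingCat.{u})
    (hO : ModSite.IsLocallyRinged J O) (U : C) : ModSite.IsLocallyRinged (J.over U) (O.over U) := by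
  refine ⟨fun V f => ?_, fun V hV => ?_⟩
  · obtain ⟨S, hS, hS'⟩ := hO.1 V.left f
    refine ⟨(Sieve.overEquiv V).symm S, (GrothendieckTopology.mem_over_iff _ _).2 ?_, fun W g hg => hS' g.left ?_⟩
    · exact ((Sieve.overEquiv V).apply_symm_apply S).symm ▸ hS
    · exact (Sieve.overEquiv_symm_iff _ _).1 hg
  · refine (GrothendieckTopology.mem_over_iff _ _).2 ?_
    have := hO.2 V.left hV
    rwa [show Sieve.overEquiv V (⊥ : Sieve V) = ⊥ from ?_]
    exact le_bot_iff.1 fun W g hg => (Sieve.overEquiv_iff _ _).1 hg

end Groth.Agent.S9105
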