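import Groth.Statements.S9109
import Mathlib.CategoryTheory.Sites.Abelian
import Mathlib.CategoryTheory.Limits.Shapes.ConcreteCategory
import Mathlib.Algebra.Homology.ShortComplex.ExactFunctor
-- import your own Groth.Agent.* helpers here

set_option autoImplicit false
universe u
open CategoryTheory CategoryTheory.Limits
open CohSite

set_option backward.isDefEq.respectTransparency false

namespace Groth.Agent.S9109

/-- Part (1): on a small site (C, J) with a point p: the skyscraper functor p_* from abelian groups to
abelian sheaves on C (right adjoint to the stalk functor at p; its value on A is the sheaf U ↦ ∏_{x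
∈ p⁻¹U} A) is exact. As a right adjoint it preserves limits; the statement here is that it also
preserves finite colimits. -/
theorem result {C : Type u} [SmallCategory C] {J : GrothendieckTopology C}
    (p : GrothendieckTopology.Point.{u} J) :
    PreservesFiniteColimits (p.skyscraperSheafFunctor (A := AddCommGrpCat.{u})) := by
  haveI : (p.skyscraperSheafFunctor (A := AddCommGrpCat.{u})).IsRightAdjoint := p.skyscraperSheafAdjunction.isRightAdjoint
  haveI : PreservesLimitsOfSize.{0, 0} (p.skyscraperSheafFunctor (A := AddCommGrpCat.{u})) := p.skyscraperSheafAdjunction.rightAdjoint_preservesLimits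
  haveI : PreservesFiniteLimits (p.skyscraperSheafFunctor (A := AddCommGrpCat.{u})) := PreservesLimitsOfSize.preservesFiniteLimits _
  haveI : (p.skyscraperSheafFunctor (A := AddCommGrpCat.{u})).Additive := Functor.additive_of_preserves_binary_products _
  refine (Functor.preservesFiniteColimits_iff_forall_exact_map_and_epi _).2 fun S hS =>
    ⟨((Functor.preservesFiniteLimits_iff_forall_exact_map_and_mono _).1 inferInstance S hS).1, ?_⟩
  haveI := hS.epi_g
  haveI : ∀ U : Cᵒᵖ, Epi (((sheafToPresheaf J _).map ((p.skyscraperSheafFunctor (A := AddCommGrpCat.{u})).map S.g)).app U) := fun U => by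
    rw [AddCommGrpCat.epi_iff_surjective]
    intro b
    choose a ha using fun x => (AddCommGrpCat.epi_iff_surjective S.g).1 inferInstance
      (Pi.π (fun _ : p.fiber.obj U.unop => S.X₃) x b)
    refine ⟨(Concrete.productEquiv (fun _ : p.fiber.obj U.unop => S.X₂)).symm a, ?_⟩
    refine Concrete.limit_ext _ _ _ fun ⟨x⟩ => ?_
    change Pi.π (fun _ : p.fiber.obj U.unop => S.X₃) x ((Limits.Pi.map fun _ : p.fiber.obj U.unop => S.g) _) = _
    rw [← ConcreteCategory.comp_apply, Limits.Pi.map_π, ConcreteCategory.comp_apply, Concrete.productEquiv_symm_apply_π]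
    exact ha x
  haveI := NatTrans.epi_of_epi_app ((sheafToPresheaf J _).map ((p.skyscraperSheafFunctor (A := AddCommGrpCat.{u})).map S.g))
  exact (sheafToPresheaf J AddCommGrpCat.{u}).epi_of_epi_map inferInstance

end Groth.Agent.S9109
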