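import Groth.Statements.S9121
import Mathlib.Algebra.Category.Grp.Colimits
import Mathlib.Algebra.Category.Grp.Limits
import Mathlib.Algebra.Category.Grp.Adjunctions
import Mathlib.Algebra.Category.Grp.Abelian
import Mathlib.Algebra.Category.Grp.FilteredColimits
import Mathlib.CategoryTheory.Sites.Abelian
import Mathlib.CategoryTheory.Sites.LocallySurjective
import Mathlib.CategoryTheory.Sites.EpiMono
import Mathlib.Algebra.Homology.ShortComplex.ExactFunctor
-- import your own Groth.Agent.* helpers here

set_option autoImplicit false
universe u
open CategoryTheory CategoryTheory.Limits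
open CohSite

namespace Groth.Agent.S9121

/-- Part (1): for the morphism of topoi f : Sh(C) → Sh(D) attached to a continuous functor u : D ⥤ C
between small sites whose induced pullback of sheaves of sets is exact (f_* is restriction along u):
if f_* transforms epimorphisms of sheaves of sets into epimorphisms, then f_* on abelian sheaves is
exact; being a right adjoint it preserves finite limits, and the statement is that it also preserves
finite colimits. -/
theorem result {C D : Type u} [SmallCategory C] [SmallCategory D]
    (J : GrothendieckTopology C) (K : GrothendieckTopology D) (u : D ⥤ C) [u.IsContinuous K J]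
    [PreservesFiniteLimits (u.sheafPullback (Type u) K J)]
    [(u.sheafPushforwardContinuous (Type u) K J).PreservesEpimorphisms] :
    PreservesFiniteColimits (u.sheafPushforwardContinuous AddCommGrpCat.{u} K J) := by
  let G := u.sheafPushforwardContinuous AddCommGrpCat.{u} K J
  let Gt := u.sheafPushforwardContinuous (Type u) K J
  haveI : PreservesFiniteLimits G :=
    have : PreservesLimitsOfSize.{0, 0} G := (Adjunction.ofIsRightAdjoint G).rightAdjoint_preservesLimits
    PreservesLimitsOfSize.preservesFiniteLimits G
  haveI : G.Additive := Functor.additive_of_preserves_binary_products G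
  refine (Functor.preservesFiniteColimits_iff_forall_exact_map_and_epi (F := G)).2 fun S hS => ?_
  refine ⟨((Functor.preservesFiniteLimits_iff_forall_exact_map_and_mono (F := G)).1 inferInstance S hS).1, ?_⟩
  haveI := hS.epi_g
  haveI h1 : Sheaf.IsLocallySurjective S.g := (Sheaf.isLocallySurjective_iff_epi' (φ := S.g)).2 inferInstance
  let φ : (sheafCompose J (forget AddCommGrpCat.{u})).obj S.X₂ ⟶
      (sheafCompose J (forget AddCommGrpCat.{u})).obj S.X₃ := (sheafCompose J (forget AddCommGrpCat.{u})).map S.g
  haveI : Sheaf.IsLocallySurjective φ := (Presheaf.isLocallySurjective_iff_whisker_forget J S.g.hom).1 h1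
  haveI : Epi φ := (Sheaf.isLocallySurjective_iff_epi φ).1 inferInstance
  haveI h2 : Sheaf.IsLocallySurjective (Gt.map φ) := (Sheaf.isLocallySurjective_iff_epi _).2 inferInstance
  haveI : Sheaf.IsLocallySurjective (G.map S.g) :=
    (Presheaf.isLocallySurjective_iff_whisker_forget K (G.map S.g).hom).2 h2
  exact inferInstanceAs (Epi (G.map S.g))

end Groth.Agent.S9121
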