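import Groth.Statements.S9123
import Groth.Agent.L10.SecPres.Chaotic

set_option autoImplicit false
set_option backward.defeqAttrib.useBackward true
set_option backward.isDefEq.respectTransparency false
universe u
open CategoryTheory CategoryTheory.Limits Opposite
open ModSite

namespace Groth.Agent.S9123

/-- Let C be a small category endowed with the chaotic topology (only maximal sieves are covering) and O
a sheaf of commutative rings on it such that for every morphism U → V of C the restriction map O(V)
→ O(U) is a flat ring homomorphism. Then the quasi-coherent O-modules form a weak Serre subcategory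
of Mod(O): kernels and cokernels of morphisms between quasi-coherent modules are quasi-coherent, and
in a short exact sequence 0 → F₁ → F₂ → F₃ → 0 with F₁ and F₃ quasi-coherent, F₂ is quasi-coherent. -/
theorem result {C : Type u} [SmallCategory C]
    (O : Sheaf (⊥ : GrothendieckTopology C) CommRingCat.{u})
    (hO : ∀ (U V : C) (g : U ⟶ V), (O.obj.map g.op).hom.Flat) :
    (∀ (F G : ModSite.Mod O) (α : F ⟶ G), SheafOfModules.IsQuasicoherent (R := ModSite.ringSh O) F → SheafOfModules.IsQuasicoherent (R := ModSite.ringSh O) G →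
        SheafOfModules.IsQuasicoherent (R := ModSite.ringSh O) (kernel α) ∧ SheafOfModules.IsQuasicoherent (R := ModSite.ringSh O) (cokernel α)) ∧
    (∀ (S : ShortComplex (ModSite.Mod O)), S.ShortExact → SheafOfModules.IsQuasicoherent (R := ModSite.ringSh O) S.X₁ → SheafOfModules.IsQuasicoherent (R := ModSite.ringSh O) S.X₃ → SheafOfModules.IsQuasicoherent (R := ModSite.ringSh O) S.X₂) := by
  have hiff := fun F : ModSite.Mod O => Groth.L10.SecPres.Chaotic.isQuasicoherent_iff_isIso F
  have hfl := fun (U V : C) (g : U ⟶ V) => ModuleCat.preservesFiniteLimits_extendScalars_of_flat (hO U V g)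
  refine ⟨fun F G α hF hG => ⟨(hiff _).2 fun U V g => ?_, (hiff _).2 fun U V g => ?_⟩,
    fun S hS h₁ h₃ => (hiff _).2 fun U V g => ?_⟩
  all_goals
    haveI := hfl U V g
    haveI := (ModuleCat.extendRestrictScalarsAdj (O.obj.map g.op).hom).leftAdjoint_preservesColimits
    haveI : (ModuleCat.extendScalars (O.obj.map g.op).hom).Additive := (ModuleCat.extendRestrictScalarsAdj (O.obj.map g.op).hom).left_adjoint_additive
  · haveI : IsIso ((Groth.L10.SecPres.Chaotic.τ g).app F) := (hiff F).1 hF U V g
    haveI : IsIso ((Groth.L10.SecPres.Chaotic.τ g).app G) := (hiff G).1 hG U V g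
    exact Groth.L10.SecPres.Chaotic.isIso_app_kernel (Groth.L10.SecPres.Chaotic.τ g) α
  · haveI : IsIso ((Groth.L10.SecPres.Chaotic.τ g).app F) := (hiff F).1 hF U V g
    haveI : IsIso ((Groth.L10.SecPres.Chaotic.τ g).app G) := (hiff G).1 hG U V g
    exact Groth.L10.SecPres.Chaotic.isIso_app_cokernel (Groth.L10.SecPres.Chaotic.τ g) α
  · haveI : IsIso ((Groth.L10.SecPres.Chaotic.τ g).app S.X₁) := (hiff _).1 h₁ U V g
    haveI : IsIso ((Groth.L10.SecPres.Chaotic.τ g).app S.X₃) := (hiff _).1 h₃ U V g
    exact Groth.L10.SecPres.Chaotic.isIso_app_ext (Groth.L10.SecPres.Chaotic.τ g) hS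

end Groth.Agent.S9123
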