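import Groth.Statements.S9129
import Groth.Agent.L06.FlatFibre
import Mathlib.RingTheory.Artinian.Module

set_option autoImplicit false
universe u
open CAlg

namespace Groth.Agent.S9129

/-- Suppose R → S is a flat local homomorphism between Noetherian local rings, with R Cohen–Macaulay.
Assume either that S is finite over R or that the Krull dimension of S is at most that of R. Then
the two rings have equal dimension and S is itself Cohen–Macaulay. -/
theorem result (R S : Type u) [CommRing R] [CommRing S]
    [LocCoh.IsCohenMacaulayLocalRing R] [IsNoetherianRing S] [IsLocalRing S] [Algebra R S]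
    [IsLocalHom (algebraMap R S)] [Module.Flat R S]
    (h : Module.Finite R S ∨ ringKrullDim S ≤ ringKrullDim R) :
    LocCoh.IsCohenMacaulayLocalRing S ∧ ringKrullDim R = ringKrullDim S := by
  have hd := Groth.L06.FlatFibre.ringKrullDim_eq R S
  haveI : Nontrivial (EGA4.FibRing R S) := Ideal.Quotient.nontrivial_iff.2
    (ne_top_of_le_ne_top (IsLocalRing.maximalIdeal.isMaximal S).ne_top (IsLocalRing.map_maximalIdeal_le _))
  have hF : ringKrullDim (EGA4.FibRing R S) = 0 := by
    refine le_antisymm ?_ ringKrullDim_nonneg_of_nontrivial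
    rcases h with h | h
    · haveI := h
      letI : Field (R ⧸ IsLocalRing.maximalIdeal R) := Ideal.Quotient.field _
      letI : Algebra (R ⧸ IsLocalRing.maximalIdeal R) (EGA4.FibRing R S) :=
        (Ideal.quotientMap (EGA4.mB R S) (algebraMap R S) Ideal.le_comap_map).toAlgebra
      haveI : Module.Finite R (EGA4.FibRing R S) :=
        Module.Finite.of_surjective (Ideal.Quotient.mkₐ R (EGA4.mB R S)).toLinearMap Ideal.Quotient.mk_surjective
      haveI : IsScalarTower R (R ⧸ IsLocalRing.maximalIdeal R) (EGA4.FibRing R S) := IsScalarTower.of_algebraMap_eq fun x => rfl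
      haveI : Module.Finite (R ⧸ IsLocalRing.maximalIdeal R) (EGA4.FibRing R S) := Module.Finite.of_restrictScalars_finite R _ _
      haveI : IsArtinianRing (EGA4.FibRing R S) := IsArtinianRing.of_finite (R ⧸ IsLocalRing.maximalIdeal R) _
      exact (Ring.krullDimLE_iff).1 inferInstance
    · rw [hd] at h
      rcases hR : ringKrullDim R with _ | a
      · exact absurd hR ringKrullDim_ne_bot
      rcases hfr : ringKrullDim (EGA4.FibRing R S) with _ | b
      · exact bot_le
      rw [hR, hfr] at h
      have ha : a ≠ ⊤ := fun e => (ringKrullDim_ne_top (R := R)) (hR.trans (congrArg _ e))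
      have h' : a + b ≤ a := WithBot.coe_le_coe.1 h
      obtain ⟨m, rfl⟩ := ENat.ne_top_iff_exists.1 ha
      rcases b with _ | c
      · exact absurd (top_le_iff.1 ((add_top _).ge.trans h')) (ENat.natCast_ne_top m)
      · have : m + c ≤ m := ENat.coe_le_coe.1 ((Nat.cast_add m c).le.trans h')
        have : c = 0 := by omega
        subst this
        rfl
  rw [hF, add_zero] at hd
  have hdep0 : LocCoh.depth (EGA4.FibRing R S) (EGA4.FibRing R S) = 0 := by
    haveI : IsNoetherianRing (EGA4.FibRing R S) := inferInstanceAs (IsNoetherianRing (S ⧸ EGA4.mB R S))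
    have h1 := Groth.L04.idealDepth_le_supportDim (R := EGA4.FibRing R S) (M := EGA4.FibRing R S)
      (I := IsLocalRing.maximalIdeal (EGA4.FibRing R S)) (IsLocalRing.closedPoint _) (Module.mem_support_iff_of_finite.2 fun r hr => by rw [show r = 0 from (mul_one r).symm.trans (Module.mem_annihilator.1 hr 1)]; exact zero_mem _) le_rfl
    have h2 := (h1.trans (Module.supportDim_le_ringKrullDim _ _)).trans ((IsLocalization.AtPrime.ringKrullDim_eq_height (IsLocalRing.closedPoint (EGA4.FibRing R S)).asIdeal _).trans_le (Ideal.height_le_ringKrullDim_of_ne_top (IsLocalRing.closedPoint (EGA4.FibRing R S)).2.ne_top))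
    rw [hF] at h2
    exact le_antisymm (by exact_mod_cast h2) zero_le
  have he := Groth.L06.FlatFibre.depth_eq_of_fibre_depth_zero R S hdep0
  have hR := LocCoh.IsCohenMacaulayLocalRing.supportDim_eq_depth (R := R)
  rw [Module.supportDim_self_eq_ringKrullDim] at hR
  exact ⟨{ supportDim_eq_depth := by rw [Module.supportDim_self_eq_ringKrullDim, hd, he, hR] }, hd.symm⟩

end Groth.Agent.S9129
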