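import Groth.Statements.S9130
import Groth.Agent.S0554
import Mathlib.RingTheory.AlgebraicIndependent.Transcendental
-- import your own Groth.Agent.* helpers here

set_option autoImplicit false
universe u
open CAlg

namespace Groth.Agent.S9130

/-- Let A ⊆ B be domains with B of finite type over A and A Noetherian, and assume every element of B is
algebraic over A. For a height-one prime p of A, only finitely many primes of B lie over p and each
of them has height one. (The published statement assumes that Frac(B) is finite over Frac(A); this
row assumes B algebraic over A, which is equivalent for a finite type extension of domains.) -/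
theorem result (A B : Type u) [CommRing A] [IsDomain A]
    [IsNoetherianRing A] [CommRing B] [IsDomain B] [Algebra A B] [FaithfulSMul A B]
    [Algebra.FiniteType A B] [Algebra.IsAlgebraic A B] (p : Ideal A) [p.IsPrime]
    (hp : p.height = 1) :
    (p.primesOver B).Finite ∧ ∀ q ∈ p.primesOver B, q.height = 1 := by
  haveI : IsNoetherianRing B := Algebra.FiniteType.isNoetherianRing A B
  have key : ∀ q ∈ p.primesOver B, q.height = 1 := by
    rintro q ⟨hq, hl⟩
    haveI := hq; haveI := hl
    have h := Groth.Agent.S0554.result A B p q
    rw [hp, trdeg_eq_zero (R := A) (A := B), add_zero] at h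
    have h1 : q.height ≤ 1 := Cardinal.ofENat_le_ofENat.1 (le_trans (self_le_add_right _ _) h)
    refine le_antisymm h1 (Order.one_le_iff_pos.2 (pos_iff_ne_zero.2 fun h0 => ?_))
    rw [Ideal.height_eq_zero_iff_eq_bot] at h0
    subst h0
    rw [hl.over, Ideal.under_bot, Ideal.height_bot] at hp
    exact zero_ne_one hp
  refine ⟨((p.map (algebraMap A B)).finite_minimalPrimes_of_isNoetherianRing B).subset fun q hq => ?_, key⟩
  obtain ⟨hqp, hl⟩ := hq
  refine ⟨⟨hqp, Ideal.map_le_iff_le_comap.2 hl.over.le⟩, fun r hr hrq => ?_⟩
  haveI := hr.1
  have hr' : r ∈ p.primesOver B := ⟨hr.1, ⟨le_antisymm (Ideal.map_le_iff_le_comap.1 hr.2)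
    ((Ideal.comap_mono hrq).trans hl.over.ge)⟩⟩
  refine (Ideal.eq_of_le_of_height_le r hrq ?_).ge
  rw [key q ⟨hqp, hl⟩, key r hr']

end Groth.Agent.S9130
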