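import Groth.Statements.S9131
import Groth.Agent.L03.ComplExact
import Groth.Agent.L02.CAlg.Tor.Lift
import Mathlib.RingTheory.AdicCompletion.Algebra
import Mathlib.RingTheory.Flat.Stability

set_option autoImplicit false
universe u
open CAlg
open scoped TensorProduct

namespace Groth.Agent.S9131

variable {R : Type u} [CommRing R]

/-- flat + projective mod `I` implies projective mod powers of `I` -/
theorem projective_quot {I J : Ideal R} (hJI : J ≤ I) {k : ℕ} (hk : I ^ k ≤ J)
    (M : Type u) [AddCommGroup M] [Module R M] [Module.Flat R M]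
    [Module.Projective (R ⧸ I) (M ⧸ (I • ⊤ : Submodule R M))] :
    Module.Projective (R ⧸ J) (M ⧸ (J • ⊤ : Submodule R M)) := by
  let A := R ⧸ J
  let e1 : ((R ⧸ I) ⊗[R] M) ≃ₗ[R ⧸ I] M ⧸ (I • ⊤ : Submodule R M) :=
    { TensorProduct.quotTensorEquivQuotSMul M I with
      map_smul' := fun a x => by
        obtain ⟨r, rfl⟩ := Ideal.Quotient.mk_surjective a
        show TensorProduct.quotTensorEquivQuotSMul M I _ = _
        rw [← Ideal.Quotient.algebraMap_eq, algebraMap_smul, map_smul, RingHom.id_apply, algebraMap_smul]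
        rfl }
  haveI : Module.Projective (R ⧸ I) ((R ⧸ I) ⊗[R] M) := Module.Projective.of_equiv e1.symm
  let I' : Ideal A := I.map (Ideal.Quotient.mk J)
  have hnil : IsNilpotent I' := ⟨k, by
    rw [← Ideal.map_pow, Ideal.zero_eq_bot, Ideal.map_eq_bot_iff_le_ker, Ideal.mk_ker]; exact hk⟩
  let B := A ⧸ I'
  letI : Algebra (R ⧸ I) B := (Ideal.Quotient.lift I (algebraMap R B) fun a ha => by
    show Ideal.Quotient.mk I' (Ideal.Quotient.mk J a) = 0
    exact Ideal.Quotient.eq_zero_iff_mem.2 (Ideal.mem_map_of_mem _ ha)).toAlgebra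
  haveI : IsScalarTower R (R ⧸ I) B := IsScalarTower.of_algebraMap_eq fun x => rfl
  haveI : Module.Projective B (B ⊗[A] (A ⊗[R] M)) :=
    Module.Projective.of_equiv ((TensorProduct.AlgebraTensorModule.cancelBaseChange R A B B M).trans
      (TensorProduct.AlgebraTensorModule.cancelBaseChange R (R ⧸ I) B B M).symm).symm
  haveI : Module.Flat A (A ⊗[R] M) := inferInstance
  haveI := L02.CAlg.TorV.projective_of_mod_nilpotent hnil (A ⊗[R] M)
  let e2 : (A ⊗[R] M) ≃ₗ[A] M ⧸ (J • ⊤ : Submodule R M) :=
    { TensorProduct.quotTensorEquivQuotSMul M J with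
      map_smul' := fun a x => by
        obtain ⟨r, rfl⟩ := Ideal.Quotient.mk_surjective a
        show TensorProduct.quotTensorEquivQuotSMul M J _ = _
        rw [← Ideal.Quotient.algebraMap_eq, algebraMap_smul, map_smul, RingHom.id_apply, algebraMap_smul]
        rfl }
  exact Module.Projective.of_equiv e2

/-- lifting `R`-linear maps out of a projective `A`-module -/
theorem exists_lift {A : Type u} [CommRing A] [Algebra R A] (hA : Function.Surjective (algebraMap R A))
    {Mn X W : Type u} [AddCommGroup Mn] [Module A Mn] [Module R Mn] [IsScalarTower R A Mn]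
    [Module.Projective A Mn] [AddCommGroup X] [Module A X] [Module R X] [IsScalarTower R A X]
    [AddCommGroup W] [Module R W] (q : X →ₗ[R] W) (f : Mn →ₗ[R] W)
    (hq : ∀ m, ∃ x, q x = f m) : ∃ h : Mn →ₗ[R] X, ∀ m, q (h m) = f m := by
  choose x hx using hq
  obtain ⟨σ, hσ⟩ := Module.projective_lifting_property (Finsupp.linearCombination A (id : Mn → Mn))
    LinearMap.id (Finsupp.linearCombination_id_surjective A Mn)
  let L : (Mn →₀ A) →ₗ[R] X := (Finsupp.linearCombination A x).restrictScalars R
  refine ⟨L ∘ₗ (σ.restrictScalars R), fun m => ?_⟩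
  have key : ∀ v : Mn →₀ A, q (L v) = f (Finsupp.linearCombination A id v) := by
    intro v
    induction v using Finsupp.induction_linear with
    | zero => simp
    | add v w hv hw => simp [map_add, hv, hw]
    | single j a =>
      obtain ⟨r, rfl⟩ := hA a
      simp only [L, LinearMap.restrictScalars_apply, Finsupp.linearCombination_single, id_eq,
        algebraMap_smul, map_smul, hx]
  show q (L (σ m)) = f m
  rw [key]
  exact congr_arg f (LinearMap.congr_fun hσ m)

/-- Let R be a ring, I an ideal, and 0 → K → P → M → 0 a short exact sequence of R-modules with M flat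
over R and M/IM projective over R/I. Then the induced sequence of I-adic completions is split short
exact: the map on completions of K → P is injective, the sequence is exact in the middle, and the
map on completions of P → M has a section linear over the completion of R (so it is surjective). -/
theorem result (R : Type u) [CommRing R] (I : Ideal R)
    (K P M : Type u) [AddCommGroup K] [Module R K] [AddCommGroup P] [Module R P]
    [AddCommGroup M] [Module R M] (f : K →ₗ[R] P) (g : P →ₗ[R] M)
    (hf : Function.Injective f) (hg : Function.Surjective g) (hfg : Function.Exact f g)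
    [Module.Flat R M] [Module.Projective (R ⧸ I) (M ⧸ (I • ⊤ : Submodule R M))] :
    Function.Injective (AdicCompletion.map I f) ∧
      Function.Exact (AdicCompletion.map I f) (AdicCompletion.map I g) ∧
      ∃ s : AdicCompletion I M →ₗ[AdicCompletion I R] AdicCompletion I P,
        AdicCompletion.map I g ∘ₗ s = LinearMap.id := by
  classical
  obtain ⟨h1, h2, -⟩ := Groth.L03.ComplExact.exact_map (I := I) 0
    (fun n k h => Groth.L03.ComplExact.mem_smul_top_of_flat hf hg hfg _ k h) hg hfg
  refine ⟨h1, h2, ?_⟩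
  let Mq : ℕ → Type u := fun n => M ⧸ (I ^ n • ⊤ : Submodule R M)
  let Pq : ℕ → Type u := fun n => P ⧸ (I ^ n • ⊤ : Submodule R P)
  let gq : ∀ n, (P ⧸ (I ^ n • ⊤ : Submodule R P)) →ₗ[R] M ⧸ (I ^ n • ⊤ : Submodule R M) := fun n =>
    Submodule.mapQ _ _ g (Submodule.map_le_iff_le_comap.1 (by
      rw [Submodule.map_smul'']; exact Submodule.smul_mono le_rfl le_top))
  have step : ∀ n (s : (M ⧸ (I ^ n • ⊤ : Submodule R M)) →ₗ[R] P ⧸ (I ^ n • ⊤ : Submodule R P)),
      (∀ m, gq n (s m) = m) →
      ∃ t : (M ⧸ (I ^ (n + 1) • ⊤ : Submodule R M)) →ₗ[R] P ⧸ (I ^ (n + 1) • ⊤ : Submodule R P),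
        (∀ m, gq (n + 1) (t m) = m) ∧
          ∀ m, AdicCompletion.transitionMap I P n.le_succ (t m) =
            s (AdicCompletion.transitionMap I M n.le_succ m) := by
    intro n s hs
    haveI := projective_quot (J := I ^ (n + 1)) (Ideal.pow_le_self n.succ_ne_zero) (k := n + 1) le_rfl M
    obtain ⟨t, ht⟩ := exists_lift (A := R ⧸ I ^ (n + 1)) Ideal.Quotient.mk_surjective
      ((gq (n + 1)).prod (AdicCompletion.transitionMap I P n.le_succ))
      (LinearMap.id.prod (s ∘ₗ AdicCompletion.transitionMap I M n.le_succ)) (fun m => by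
        obtain ⟨m₀, rfl⟩ := Submodule.Quotient.mk_surjective _ m
        obtain ⟨p₀, hp₀⟩ := Submodule.Quotient.mk_surjective _ (s (Submodule.Quotient.mk m₀))
        have h3 := hs (Submodule.Quotient.mk m₀)
        rw [← hp₀] at h3
        have h4 : g p₀ - m₀ ∈ (I ^ n • ⊤ : Submodule R M) := (Submodule.Quotient.eq _).1 h3
        rw [← LinearMap.range_eq_top.2 hg, ← Submodule.map_top, ← Submodule.map_smul''] at h4
        obtain ⟨d, hd, hgd⟩ := h4
        refine ⟨Submodule.Quotient.mk (p₀ - d), Prod.ext ?_ ?_⟩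
        · show Submodule.Quotient.mk (g (p₀ - d)) = Submodule.Quotient.mk m₀
          rw [map_sub, hgd, sub_sub_cancel]
        · show Submodule.Quotient.mk (p₀ - d) = s (Submodule.Quotient.mk m₀)
          rw [← hp₀, Submodule.Quotient.eq, sub_sub_cancel_left]
          exact neg_mem hd)
    exact ⟨t, fun m => congr_arg Prod.fst (ht m), fun m => congr_arg Prod.snd (ht m)⟩
  have hzero : ∀ m : M ⧸ (I ^ 0 • ⊤ : Submodule R M), m = 0 := fun m => by
    obtain ⟨m₀, rfl⟩ := Submodule.Quotient.mk_surjective _ m
    rw [Submodule.Quotient.mk_eq_zero]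
    simp
  let S : ∀ n, {s : (M ⧸ (I ^ n • ⊤ : Submodule R M)) →ₗ[R] P ⧸ (I ^ n • ⊤ : Submodule R P) //
      ∀ m, gq n (s m) = m} := fun n => Nat.rec ⟨0, fun m => by rw [hzero m]; simp⟩
    (fun n s => ⟨(step n s.1 s.2).choose, (step n s.1 s.2).choose_spec.1⟩) n
  have hS : ∀ n m, AdicCompletion.transitionMap I P n.le_succ ((S (n + 1)).1 m) =
      (S n).1 (AdicCompletion.transitionMap I M n.le_succ m) :=
    fun n m => (step n (S n).1 (S n).2).choose_spec.2 m
  have hcompat : ∀ {a b} (hab : a ≤ b) (x : AdicCompletion I M),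
      AdicCompletion.transitionMap I P hab ((S b).1 (x.val b)) = (S a).1 (x.val a) := by
    intro a b hab x
    induction b, hab using Nat.le_induction with
    | base =>
      obtain ⟨p, hp⟩ := Submodule.Quotient.mk_surjective _ ((S a).1 (x.val a))
      rw [← hp]; rfl
    | succ b hab ih =>
      rw [← ih, ← x.2 b.le_succ, ← hS b]
      obtain ⟨p, hp⟩ := Submodule.Quotient.mk_surjective _ ((S (b + 1)).1 (x.val (b + 1)))
      rw [← hp]; rfl
  refine ⟨{ toFun := fun x => ⟨fun n => (S n).1 (x.val n), fun {a b} hab => hcompat hab x⟩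
            map_add' := fun x y => AdicCompletion.ext fun n => (S n).1.map_add _ _
            map_smul' := fun r x => AdicCompletion.ext fun n => ?_ }, ?_⟩
  · show (S n).1 (r.val n • x.val n) = r.val n • (S n).1 (x.val n)
    obtain ⟨r₀, hr₀⟩ := Submodule.Quotient.mk_surjective _ (r.val n)
    rw [← hr₀]
    obtain ⟨m, hm⟩ := Submodule.Quotient.mk_surjective _ (x.val n)
    obtain ⟨p, hp⟩ := Submodule.Quotient.mk_surjective _ ((S n).1 (x.val n))
    have h5 : (S n).1 (r₀ • x.val n) = r₀ • (S n).1 (x.val n) := map_smul _ _ _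
    rw [← hm] at h5 hp ⊢
    rw [← hp] at h5 ⊢
    exact h5
  · refine LinearMap.ext fun x => AdicCompletion.ext fun n => ?_
    exact (S n).2 (x.val n)

end Groth.Agent.S9131
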