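import Groth.Statements.S9132
import Mathlib.RingTheory.Ideal.KrullsHeightTheorem
import Mathlib.RingTheory.EssentialFiniteness
import Mathlib.RingTheory.Localization.AtPrime.Basic
import Mathlib.RingTheory.FiniteType
import Mathlib.RingTheory.Filtration
import Mathlib.RingTheory.Localization.FractionRing

set_option autoImplicit false
universe u
open CAlg

namespace Groth.Agent.S9132

/-- A Noetherian local domain R that is not a field is dominated by a Noetherian local ring R' of
dimension one lying between R and its fraction field, with R' essentially of finite type over R. -/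
theorem result (R : Type u) [CommRing R] [IsDomain R]
    [IsNoetherianRing R] [IsLocalRing R] (hR : ¬ IsField R) :
    ∃ R' : Subalgebra R (FractionRing R), ∃ _ : IsLocalRing R',
      IsNoetherianRing R' ∧ ringKrullDim R' = 1 ∧ IsLocalHom (algebraMap R R') ∧
        Algebra.EssFiniteType R R' := by
  classical
  let K := FractionRing R
  set m := IsLocalRing.maximalIdeal R
  obtain ⟨x, hxm, hx⟩ : ∃ x ∈ m, ∀ N : ℕ, x ^ N ∉ m ^ (N + 1) := by
    by_contra hcon
    push Not at hcon
    obtain ⟨s, hs⟩ := (IsNoetherian.noetherian m : m.FG)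
    have hsm : ∀ a ∈ s, a ∈ m := fun a ha => hs ▸ Submodule.subset_span ha
    let N : R → ℕ := fun a => if h : a ∈ m then (hcon a h).choose else 0
    have hN : ∀ a ∈ s, a ^ N a ∈ m ^ (N a + 1) := fun a ha => by
      simp only [N, dif_pos (hsm a ha)]; exact (hcon a (hsm a ha)).choose_spec
    let T := s.sum N + 1
    have hle : m ^ T ≤ m ^ (T + 1) := by
      rw [show m ^ T = (Ideal.span (s : Set R)) ^ T from congrArg (· ^ T) hs.symm, Ideal.span, Submodule.span_pow, Submodule.span_le]
      intro y hy
      obtain ⟨f, rfl⟩ := Set.mem_pow.mp hy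
      rw [List.prod_ofFn]
      obtain ⟨a, ha, hk⟩ : ∃ a ∈ s, N a ≤ (Finset.univ.filter fun i => (f i : R) = a).card := by
        by_contra hno
        push Not at hno
        have h2 : T = ∑ a ∈ s, (Finset.univ.filter fun i => (f i : R) = a).card := by
          rw [← Finset.card_eq_sum_card_fiberwise (fun i _ => (f i).2), Finset.card_univ, Fintype.card_fin]
        have h3 : (∑ a ∈ s, (Finset.univ.filter fun i => (f i : R) = a).card) ≤ ∑ a ∈ s, N a :=
          Finset.sum_le_sum fun a ha => (hno a ha).le
        rw [← h2] at h3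
        exact absurd h3 (Nat.not_succ_le_self _)
      obtain ⟨U, hU, hUc⟩ := Finset.exists_subset_card_eq hk
      rw [← Finset.prod_sdiff (Finset.subset_univ U), Finset.prod_congr rfl (fun i hi => (Finset.mem_filter.mp (hU hi)).2 : ∀ i ∈ U, (f i : R) = a),
        Finset.prod_const, hUc, show T + 1 = (Finset.univ \ U).card + (N a + 1) by
          rw [Finset.card_sdiff_of_subset (Finset.subset_univ U), Finset.card_univ, Fintype.card_fin, hUc]
          have := Finset.card_le_univ U
          rw [hUc, Fintype.card_fin] at this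
          omega, pow_add]
      exact Ideal.mul_mem_mul (Finset.prod_const m (s := Finset.univ \ U) ▸ Ideal.prod_mem_prod fun i _ => hsm _ (f i).2) (hN a ha)
    have hz : m ^ T = ⊥ := by
      refine Submodule.eq_bot_of_le_smul_of_le_jacobson_bot m (m ^ T) (IsNoetherian.noetherian _) ?_ (IsLocalRing.maximalIdeal_le_jacobson _)
      rwa [smul_eq_mul, ← pow_succ']
    exact IsLocalRing.maximalIdeal.isMaximal R |>.ne_top (absurd ((IsLocalRing.isField_iff_maximalIdeal_eq (R := R)).mpr (eq_zero_of_pow_eq_zero hz)) hR)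
  let φ := algebraMap R K
  have hx0 : x ≠ 0 := fun h => hx 1 (by simp [h])
  have hφx : φ x ≠ 0 := (map_ne_zero_iff φ (IsFractionRing.injective R K)).mpr hx0
  obtain ⟨s, hs⟩ := (IsNoetherian.noetherian m : m.FG)
  let gens : Set K := (fun a => φ a / φ x) '' (s : Set R)
  let A : Subalgebra R K := Algebra.adjoin R gens
  have hA : A.FG := ⟨s.image fun a => φ a / φ x, by simp [A, gens]⟩
  haveI : Algebra.FiniteType R A := ⟨(Subalgebra.fg_top A).mpr hA⟩
  haveI : IsNoetherianRing A := Algebra.FiniteType.isNoetherianRing R A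
  have hform : ∀ z ∈ A, ∃ (n : ℕ), ∃ y ∈ m ^ n, z * φ x ^ n = φ y := by
    intro z hz
    induction hz using Algebra.adjoin_induction with
    | mem z hz =>
      obtain ⟨a, ha, rfl⟩ := hz
      exact ⟨1, a, by rw [pow_one]; exact hs ▸ Submodule.subset_span ha, by rw [pow_one, div_mul_cancel₀ _ hφx]⟩
    | algebraMap r => exact ⟨0, r, by simp, by simp [φ]⟩
    | add a b _ _ ha hb =>
      obtain ⟨n, y, hy, he⟩ := ha
      obtain ⟨n', y', hy', he'⟩ := hb
      refine ⟨n + n', y * x ^ n' + x ^ n * y', ?_, ?_⟩
      · rw [pow_add]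
        exact add_mem (Ideal.mul_mem_mul hy (Ideal.pow_mem_pow hxm _)) (Ideal.mul_mem_mul (Ideal.pow_mem_pow hxm _) hy')
      · rw [map_add, map_mul, map_mul, map_pow, map_pow, ← he, ← he', pow_add]; ring
    | mul a b _ _ ha hb =>
      obtain ⟨n, y, hy, he⟩ := ha
      obtain ⟨n', y', hy', he'⟩ := hb
      exact ⟨n + n', y * y', by rw [pow_add]; exact Ideal.mul_mem_mul hy hy', by rw [map_mul, ← he, ← he', pow_add]; ring⟩
  let xA : A := algebraMap R A x
  have hne : Ideal.span {xA} ≠ ⊤ := fun h => by
    obtain ⟨a, ha⟩ := Ideal.mem_span_singleton'.mp ((Ideal.eq_top_iff_one _).mp h)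
    obtain ⟨n, y, hy, he⟩ := hform a.1 a.2
    have h1 : (a : K) * φ x = 1 := congrArg Subtype.val ha
    refine hx n ?_
    have h2 : φ (x ^ n) = φ (y * x) := by
      rw [map_mul, ← he, map_pow, mul_assoc, mul_comm (φ x ^ n), ← mul_assoc, h1, one_mul]
    rw [IsFractionRing.injective R K h2, pow_succ]
    exact Ideal.mul_mem_mul hy hxm
  obtain ⟨M, hM, hMle⟩ := Ideal.exists_le_maximal _ hne
  haveI := hM.isPrime
  obtain ⟨q, hq, -⟩ := Ideal.exists_minimalPrimes_le hMle
  haveI : q.IsPrime := hq.1.1
  have hxq : xA ∈ q := hq.1.2 (Ideal.mem_span_singleton_self _)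
  have hht : q.height = 1 := by
    refine le_antisymm (Ideal.height_le_one_of_isPrincipal_of_mem_minimalPrimes _ q hq) (ENat.one_le_iff_ne_zero.mpr fun h0 => ?_)
    rw [Ideal.height_eq_zero_iff, IsDomain.minimalPrimes_eq_singleton_bot, Set.mem_singleton_iff] at h0
    rw [h0, Ideal.mem_bot] at hxq
    exact hφx (congrArg Subtype.val hxq)
  have hmq : ∀ r ∈ m, algebraMap R A r ∈ q := by
    intro r hr
    rw [← hs] at hr
    induction hr using Submodule.span_induction with
    | mem a ha =>
      have h1 : algebraMap R A a = ⟨φ a / φ x, Algebra.subset_adjoin ⟨a, ha, rfl⟩⟩ * xA :=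
        Subtype.ext (by show φ a = φ a / φ x * φ x; rw [div_mul_cancel₀ _ hφx])
      rw [h1]; exact q.mul_mem_left _ hxq
    | zero => simp
    | add a b _ _ ha hb => rw [map_add]; exact add_mem ha hb
    | smul c a _ ha => rw [smul_eq_mul, map_mul]; exact q.mul_mem_left _ ha
  let L := Localization.AtPrime q
  haveI : Algebra.EssFiniteType A L := Algebra.EssFiniteType.of_isLocalization L q.primeCompl
  haveI : Algebra.EssFiniteType R L := Algebra.EssFiniteType.comp R A L
  haveI : IsNoetherianRing L := IsLocalization.isNoetherianRing q.primeCompl L inferInstance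
  have hu : ∀ s : q.primeCompl, IsUnit (A.val s) := fun s => isUnit_iff_ne_zero.mpr fun h => s.2 (by
    rw [show (s : A) = 0 from Subtype.ext h]; exact q.zero_mem)
  let ψ : L →ₐ[R] K := IsLocalization.liftAlgHom (f := A.val) hu
  have hψ : Function.Injective ψ := by
    show Function.Injective (IsLocalization.lift (g := A.val.toRingHom) hu)
    rw [IsLocalization.lift_injective_iff]
    intro a b
    rw [(IsLocalization.injective L q.primeCompl_le_nonZeroDivisors).eq_iff]
    exact Subtype.val_injective.eq_iff.symm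
  let e : L ≃ₐ[R] ψ.range := AlgEquiv.ofInjective ψ hψ
  haveI hlocal : IsLocalRing ψ.range := e.toRingEquiv.isLocalRing
  refine ⟨ψ.range, hlocal, isNoetherianRing_of_ringEquiv L e.toRingEquiv, ?_, ⟨fun r hr => ?_⟩, @Algebra.EssFiniteType.of_surjective R L ψ.range _ _ _ _ _ ψ.rangeRestrict ψ.rangeRestrict_surjective _⟩
  · rw [← ringKrullDim_eq_of_ringEquiv e.toRingEquiv, IsLocalization.AtPrime.ringKrullDim_eq_height q L, hht]; rfl
  · by_contra hnu
    have h1 : IsUnit (algebraMap R L r) := by
      have := hr.map e.symm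
      rwa [AlgEquiv.commutes] at this
    rw [IsScalarTower.algebraMap_apply R A L, IsLocalization.AtPrime.isUnit_to_map_iff L q] at h1
    exact h1 (hmq r hnu)

end Groth.Agent.S9132
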