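import Groth.Statements.S9133
import Groth.Agent.L03.Akizuki
import Mathlib.RingTheory.Artinian.Ring
import Mathlib.RingTheory.Ideal.Over
import Mathlib.RingTheory.KrullDimension.Field

set_option autoImplicit false
universe u
open CAlg

namespace Groth.Agent.S9133

/-- Let R → S be a homomorphism of domains compatible with field maps K → L of their fraction fields (so
R → S is injective), where R is Noetherian local of dimension one and L is finite over K. Then each
prime n of S whose contraction to R is the maximal ideal of R is a maximal ideal of S, only finitely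
many such n exist, and each quotient S/n is a finite R-module (its residue field is a finite
extension of that of R). -/
theorem result (R S K L : Type u)
    [CommRing R] [IsDomain R] [IsNoetherianRing R] [IsLocalRing R] (hdim : ringKrullDim R = 1)
    [CommRing S] [IsDomain S] [Algebra R S] [Field K] [Field L] [Algebra R K] [IsFractionRing R K]
    [Algebra S L] [IsFractionRing S L] [Algebra K L] [Algebra R L] [IsScalarTower R K L]
    [IsScalarTower R S L] [FiniteDimensional K L] :
    (∀ n ∈ (IsLocalRing.maximalIdeal R).primesOver S, n.IsMaximal) ∧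
      ((IsLocalRing.maximalIdeal R).primesOver S).Finite ∧
      ∀ n ∈ (IsLocalRing.maximalIdeal R).primesOver S, Module.Finite R (S ⧸ n) := by
  haveI : Ring.KrullDimLE 1 R := Ring.krullDimLE_iff.2 (le_of_eq hdim)
  obtain ⟨x, hxm, hx⟩ : ∃ x ∈ IsLocalRing.maximalIdeal R, x ≠ 0 := by
    by_contra h
    push_neg at h
    have hF : IsField R := by
      rw [IsLocalRing.isField_iff_maximalIdeal_eq, eq_bot_iff]
      exact fun x hx => h x hx
    letI := hF.toField
    rw [ringKrullDim_eq_zero_of_field R] at hdim
    exact absurd hdim (by decide)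
  let ι : S →ₗ[R] L := (IsScalarTower.toAlgHom R S L).toLinearMap
  have hlen : Module.length R (S ⧸ Groth.L03.Akizuki.xSub x S) ≠ ⊤ :=
    ne_top_of_le_ne_top
      (WithTop.mul_ne_top (ENat.coe_ne_top _) (Ring.ord_ne_top (mem_nonZeroDivisors_of_ne_zero hx)))
      (Groth.L03.Akizuki.length_le (K := K) ι (IsFractionRing.injective S L) hx)
  let J : Ideal S := Ideal.span {algebraMap R S x}
  have hJ : Groth.L03.Akizuki.xSub x S = J.restrictScalars R := by
    ext z
    simp only [LinearMap.mem_range, LinearMap.smul_apply, LinearMap.id_apply, J,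
      Submodule.restrictScalars_mem, Ideal.mem_span_singleton']
    exact exists_congr fun a => by
      change x • a = z ↔ _
      rw [Algebra.smul_def, mul_comm]
  rw [hJ] at hlen
  have hlen' : Module.length R (S ⧸ J) ≠ ⊤ := hlen
  obtain ⟨hN, hA⟩ := isFiniteLength_iff_isNoetherian_isArtinian.1 (Module.length_ne_top_iff.1 hlen')
  haveI : IsArtinianRing (S ⧸ J) := isArtinian_of_tower R hA
  have hmem : ∀ n ∈ (IsLocalRing.maximalIdeal R).primesOver S, J ≤ n := by
    rintro n ⟨-, hn⟩
    rw [Ideal.span_singleton_le_iff_mem]
    exact (hn.over ▸ hxm : x ∈ n.under R)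
  have hmax : ∀ n ∈ (IsLocalRing.maximalIdeal R).primesOver S, n.IsMaximal := by
    intro n hn
    haveI := hn.1
    haveI : (n.map (Ideal.Quotient.mk J)).IsPrime :=
      Ideal.map_isPrime_of_surjective Ideal.Quotient.mk_surjective (by rw [Ideal.mk_ker]; exact hmem n hn)
    have := IsArtinianRing.isMaximal_of_isPrime (n.map (Ideal.Quotient.mk J))
    have h2 := Ideal.comap_isMaximal_of_surjective (Ideal.Quotient.mk J) Ideal.Quotient.mk_surjective
      (K := n.map (Ideal.Quotient.mk J))
    rwa [Ideal.comap_map_of_surjective _ Ideal.Quotient.mk_surjective, ← RingHom.ker_eq_comap_bot,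
      Ideal.mk_ker, sup_eq_left.2 (hmem n hn)] at h2
  refine ⟨hmax, ?_, fun n hn => ?_⟩
  · refine Set.Finite.subset
      ((IsArtinianRing.setOf_isMaximal_finite (S ⧸ J)).image (Ideal.comap (Ideal.Quotient.mk J))) ?_
    intro n hn
    haveI := hn.1
    haveI : (n.map (Ideal.Quotient.mk J)).IsPrime :=
      Ideal.map_isPrime_of_surjective Ideal.Quotient.mk_surjective (by rw [Ideal.mk_ker]; exact hmem n hn)
    refine ⟨n.map (Ideal.Quotient.mk J), IsArtinianRing.isMaximal_of_isPrime _, ?_⟩
    rw [Ideal.comap_map_of_surjective _ Ideal.Quotient.mk_surjective, ← RingHom.ker_eq_comap_bot,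
      Ideal.mk_ker, sup_eq_left.2 (hmem n hn)]
  · haveI : Module.Finite R (S ⧸ J) := ⟨hN.noetherian ⊤⟩
    exact Module.Finite.of_surjective (Ideal.Quotient.factorₐ R (hmem n hn)).toLinearMap
      (Ideal.Quotient.factor_surjective (hmem n hn))

end Groth.Agent.S9133
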