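import Groth.Statements.S9135
import Mathlib.RingTheory.Jacobson.Artinian
import Mathlib.RingTheory.Spectrum.Prime.Jacobson
import Mathlib.RingTheory.LocalRing.ResidueField.Fiber
import Mathlib.RingTheory.Localization.Integral
import Mathlib.RingTheory.Localization.Away.Lemmas
import Mathlib.RingTheory.IntegralClosure.IsIntegralClosure.Basic
import Mathlib.RingTheory.FiniteType
import Mathlib.RingTheory.Localization.Away.AdjoinRoot
import Mathlib.RingTheory.FiniteStability
import Mathlib.RingTheory.Polynomial.Basic
-- import your own Groth.Agent.* helpers here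

set_option autoImplicit false
universe u
open CAlg

namespace Groth.Agent.S9135

open scoped TensorProduct
open Polynomial

variable {R S : Type u} [CommRing R] [CommRing S] [Algebra R S] {p : Ideal R}

/-- An element vanishing in the fibre of a minimal prime is nilpotent near that prime. -/
theorem exists_mul_pow_eq_zero (hp : p ∈ minimalPrimes R) [p.IsPrime] (y : S)
    (hy : (1 : p.ResidueField) ⊗ₜ[R] y = 0) :
    ∃ s ∈ p.primeCompl, ∃ N : ℕ, algebraMap R S s * y ^ N = 0 := by
  by_contra hcon
  push Not at hcon
  let T : Submonoid S := Submonoid.map (algebraMap R S).toMonoidHom p.primeCompl ⊔ Submonoid.powers y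
  have hdisj : Disjoint ((⊥ : Ideal S) : Set S) (T : Set S) := by
    rw [Set.disjoint_left]
    rintro x (rfl : x = 0) hx
    obtain ⟨_, ⟨s, hs, rfl⟩, _, ⟨N, rfl⟩, hsN⟩ := Submonoid.mem_sup.1 hx
    exact hcon s hs N hsN
  obtain ⟨q, hq, -, hdq⟩ := Ideal.exists_le_prime_disjoint (⊥ : Ideal S) T hdisj
  haveI := hq
  have hle : q.comap (algebraMap R S) ≤ p := fun a ha => by
    by_contra hap
    exact Set.disjoint_left.1 hdq ha (Submonoid.mem_sup_left ⟨a, hap, rfl⟩)
  have hqp : q.comap (algebraMap R S) = p :=
    le_antisymm hle (hp.2 ⟨Ideal.IsPrime.comap _, bot_le⟩ hle)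
  refine Set.disjoint_left.1 hdq ?_ (Submonoid.mem_sup_right (Submonoid.mem_powers y) : y ∈ T)
  let g := Algebra.TensorProduct.lift
    (Ideal.ResidueField.mapₐ p q (Algebra.ofId R S) hqp.symm)
    (IsScalarTower.toAlgHom R S q.ResidueField) fun _ _ => Commute.all _ _
  have h := congrArg g hy
  rw [Algebra.TensorProduct.lift_tmul, map_one, one_mul, map_zero] at h
  exact Ideal.algebraMap_residueField_eq_zero.1 h

theorem exists_isIntegral_mul (hp : p ∈ minimalPrimes R) [p.IsPrime] [Algebra.FiniteType R S]
    (hfin : (p.primesOver S).Finite) (x : S) :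
    ∃ g ∈ p.primeCompl, ∃ f : R[X], f.Monic ∧ ∃ d : R, d ∣ g ∧ ∃ N : ℕ,
      algebraMap R S g * (aeval (algebraMap R S d * x) f) ^ N = 0 := by
  haveI : Finite (p.primesOver S) := hfin.to_subtype
  haveI : Finite (PrimeSpectrum (p.Fiber S)) :=
    Finite.of_equiv _ (PrimeSpectrum.primesOverOrderIsoFiber R S p).toEquiv
  haveI : IsJacobsonRing (p.Fiber S) := isJacobsonRing_of_finiteType (A := p.ResidueField)
  haveI : DiscreteTopology (PrimeSpectrum (p.Fiber S)) := inferInstance
  haveI : Ring.KrullDimLE 0 (p.Fiber S) :=
    (PrimeSpectrum.discreteTopology_iff_finite_and_krullDimLE_zero.1 inferInstance).2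
  haveI : Module.Finite p.ResidueField (p.Fiber S) := (Module.finite_iff_krullDimLE_zero _ _).2 inferInstance
  obtain ⟨⟨d', hd'⟩, f', hf'm, hf'⟩ := IsIntegral.exists_multiple_integral_of_isLocalization
    (R := R ⧸ p) (Rₘ := p.ResidueField) (nonZeroDivisors (R ⧸ p)) ((1 : p.ResidueField) ⊗ₜ[R] x)
    (Algebra.IsIntegral.isIntegral _)
  obtain ⟨d, rfl⟩ := Ideal.Quotient.mk_surjective d'
  have hd : d ∈ p.primeCompl := fun h =>
    nonZeroDivisors.ne_zero hd' (Ideal.Quotient.eq_zero_iff_mem.2 h)
  obtain ⟨f, hf, -, hfm⟩ := lifts_and_natDegree_eq_and_monic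
    ((mem_lifts _).2 (map_surjective _ Ideal.Quotient.mk_surjective f')) hf'm
  let φ : S →ₐ[R] p.Fiber S := Algebra.TensorProduct.includeRight
  have hy : φ (aeval (algebraMap R S d * x) f) = 0 := by
    rw [← Polynomial.aeval_algHom_apply, map_mul, AlgHom.commutes]
    rw [← hf', aeval_def, ← hf, eval₂_map, Submonoid.smul_def, Algebra.smul_def]
    rfl
  obtain ⟨s, hs, N, hN⟩ := exists_mul_pow_eq_zero hp _ hy
  exact ⟨s * d, mul_mem hs hd, f, hfm, d, dvd_mul_left d s, N, by
    rw [map_mul, mul_right_comm, hN, zero_mul]⟩

/-- Let R → S be of finite type and p a minimal prime of R over which only finitely many primes of S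
lie. Then for some g ∈ R outside p the localized map R_g → S_g is finite. -/
theorem result (R S : Type u) [CommRing R] [CommRing S]
    [Algebra R S] [Algebra.FiniteType R S] (p : Ideal R) (hp : p ∈ minimalPrimes R)
    (hfin : (p.primesOver S).Finite) :
    ∃ g : R, g ∉ p ∧ (Localization.awayMap (algebraMap R S) g).Finite := by
  classical
  haveI : p.IsPrime := hp.1.1
  obtain ⟨G, hG⟩ := Algebra.FiniteType.out (R := R) (A := S)
  choose g₀ hg₀ f hf d hd N hN using exists_isIntegral_mul hp hfin
  refine ⟨∏ x ∈ G, g₀ x, show _ ∈ p.primeCompl from prod_mem fun x _ => hg₀ x, ?_⟩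
  set g := ∏ x ∈ G, g₀ x with hg
  let φ := Localization.awayMap (algebraMap R S) g
  let ι := algebraMap R (Localization.Away g)
  let κ := algebraMap S (Localization.Away (algebraMap R S g))
  letI := φ.toAlgebra
  haveI : IsScalarTower R (Localization.Away g) (Localization.Away (algebraMap R S g)) :=
    IsScalarTower.of_algebraMap_eq fun r => by
      rw [RingHom.algebraMap_toAlgebra, IsScalarTower.algebraMap_apply R S (Localization.Away (algebraMap R S g))]
      exact (IsLocalization.map_eq _ r).symm
  haveI : Algebra.FiniteType S (Localization.Away (algebraMap R S g)) :=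
    inferInstance
  haveI : Algebra.FiniteType R (Localization.Away (algebraMap R S g)) :=
    Algebra.FiniteType.trans (R := R) (S := S) inferInstance inferInstance
  haveI : Algebra.FiniteType (Localization.Away g) (Localization.Away (algebraMap R S g)) :=
    Algebra.FiniteType.of_restrictScalars_finiteType R _ _
  have hu : ∀ r : R, r ∣ g → IsUnit (ι r) := fun r hr =>
    isUnit_of_dvd_unit (map_dvd ι hr) (IsLocalization.map_units (Localization.Away g) (⟨g, Submonoid.mem_powers g⟩ : Submonoid.powers g))
  let C : Subalgebra R S := ((integralClosure (Localization.Away g)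
    (Localization.Away (algebraMap R S g))).restrictScalars R).comap (IsScalarTower.toAlgHom R S _)
  have hC : C = ⊤ := by
    refine top_le_iff.1 (hG ▸ Algebra.adjoin_le fun x hx => ?_)
    have hgx : g₀ x ∣ g := Finset.dvd_prod_of_mem g₀ hx
    show IsIntegral (Localization.Away g) (κ x)
    have hint : IsIntegral (Localization.Away g) (κ (algebraMap R S (d x) * x)) := by
      refine IsIntegral.tower_top (R := R) ⟨f x ^ N x, (hf x).pow _, ?_⟩
      rw [← aeval_def, map_pow, aeval_algebraMap_apply, ← map_pow]
      have h1 : IsUnit (κ (algebraMap R S (g₀ x))) :=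
        isUnit_of_dvd_unit (map_dvd κ (map_dvd (algebraMap R S) hgx))
          (IsLocalization.map_units (Localization.Away (algebraMap R S g))
            (⟨_, Submonoid.mem_powers _⟩ : Submonoid.powers (algebraMap R S g)))
      exact h1.mul_right_eq_zero.1 (by rw [← map_mul, hN x, map_zero])
    obtain ⟨u, hu'⟩ := hu (d x) ((hd x).trans hgx)
    have h2 : (algebraMap (Localization.Away g) (Localization.Away (algebraMap R S g))) (ι (d x)) =
        κ (algebraMap R S (d x)) := by
      rw [← IsScalarTower.algebraMap_apply, ← IsScalarTower.algebraMap_apply]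
    have h3 := (isIntegral_algebraMap (R := Localization.Away g) (A := Localization.Away (algebraMap R S g))
      (x := ((u⁻¹ : (Localization.Away g)ˣ) : Localization.Away g))).mul hint
    rwa [map_mul, ← h2, ← mul_assoc, ← map_mul, ← hu', Units.inv_mul, map_one, one_mul] at h3
  haveI : Algebra.IsIntegral (Localization.Away g) (Localization.Away (algebraMap R S g)) := by
    refine ⟨fun z => ?_⟩
    obtain ⟨x, ⟨_, n, rfl⟩, rfl⟩ := IsLocalization.exists_mk'_eq (Submonoid.powers (algebraMap R S g)) z
    have hx : IsIntegral (Localization.Away g) (κ x) := (hC ▸ Algebra.mem_top : x ∈ C)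
    obtain ⟨u, hu'⟩ := (hu g dvd_rfl).pow n
    have h3 := (isIntegral_algebraMap (R := Localization.Away g) (A := Localization.Away (algebraMap R S g))
      (x := ((u⁻¹ : (Localization.Away g)ˣ) : Localization.Away g))).mul hx
    refine (congrArg (IsIntegral _) ?_).mp h3
    rw [eq_comm, IsLocalization.mk'_eq_iff_eq_mul]
    have h4 : algebraMap (Localization.Away g) (Localization.Away (algebraMap R S g)) (u : Localization.Away g) =
        κ (algebraMap R S g ^ n) := by
      rw [hu', map_pow, map_pow, ← IsScalarTower.algebraMap_apply, ← IsScalarTower.algebraMap_apply]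
    rw [mul_right_comm, ← h4, ← map_mul, Units.inv_mul, map_one, one_mul]
  show Module.Finite (Localization.Away g) (Localization.Away (algebraMap R S g))
  exact Algebra.IsIntegral.finite

end Groth.Agent.S9135
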