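import Groth.Statements.S9139
import Mathlib.RingTheory.FiniteType
import Mathlib.RingTheory.Nilpotent.Lemmas
import Mathlib.RingTheory.Finiteness.Ideal
import Mathlib.RingTheory.Noetherian.Nilpotent

set_option autoImplicit false
universe u
open CAlg

namespace Groth.Agent.S9139

/-- Let I be a locally nilpotent ideal of a ring R (every element of I is nilpotent) and S → S' a map of
R-algebras with S' of finite type over R. If S → S'/IS' is surjective then so is S → S'. -/
theorem result (R S S' : Type u) [CommRing R] [CommRing S]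
    [CommRing S'] [Algebra R S] [Algebra R S'] [Algebra.FiniteType R S'] (I : Ideal R)
    (hI : ∀ x ∈ I, IsNilpotent x) (f : S →ₐ[R] S')
    (hf : Function.Surjective ((Ideal.Quotient.mk (I.map (algebraMap R S'))).comp f.toRingHom)) :
    Function.Surjective f := by
  classical
  obtain ⟨G, hG⟩ := (inferInstance : Algebra.FiniteType R S')
  let I' := I.map (algebraMap R S')
  have hx : ∀ x : S', ∃ (t : S) (J : Ideal R), J ≤ I ∧ J.FG ∧ x - f t ∈ J.map (algebraMap R S') := by
    intro x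
    obtain ⟨t, ht⟩ := hf (Ideal.Quotient.mk I' x)
    have h : x - f t ∈ I.map (algebraMap R S') := Ideal.Quotient.eq.1 ht.symm
    have h' : x - f t ∈ Submodule.span S' (algebraMap R S' '' (I : Set R)) := h
    obtain ⟨T, hT, hTm⟩ := Submodule.mem_span_finite_of_mem_span h'
    choose r hr1 hr2 using fun y : (T : Set S') => hT y.2
    refine ⟨t, Ideal.span (Set.range r), Ideal.span_le.2 (by rintro _ ⟨y, rfl⟩; exact hr1 y),
      Submodule.fg_span (Set.finite_range r), ?_⟩
    refine (Submodule.span_le (R := S')).2 (fun y hy => ?_) hTm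
    rw [show y = algebraMap R S' (r ⟨y, hy⟩) from (hr2 ⟨y, hy⟩).symm]
    exact Ideal.mem_map_of_mem _ (Ideal.subset_span ⟨_, rfl⟩)
  choose t J hJle hJfg hJmem using hx
  let I₀ : Ideal R := G.sup J
  have hI₀fg : I₀.FG := Submodule.fg_finset_sup G J fun i _ => hJfg i
  have hnil : IsNilpotent (I₀.map (algebraMap R S')) := by
    obtain ⟨k, hk⟩ := (Ideal.FG.isNilpotent_iff_le_nilradical hI₀fg).2
      (fun x hx => hI x (Finset.sup_le (fun i _ => hJle i) hx))
    exact ⟨k, by rw [← Ideal.map_pow, hk, Ideal.zero_eq_bot, Ideal.map_bot, Ideal.zero_eq_bot]⟩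
  set K := I₀.map (algebraMap R S')
  let W : Subalgebra R S' := f.range
  have h1 : ∀ x : S', ∃ y ∈ W, x - y ∈ K := by
    intro x
    have hxG : x ∈ Algebra.adjoin R (G : Set S') := hG ▸ Algebra.mem_top
    induction hxG using Algebra.adjoin_induction with
    | mem g hg => exact ⟨f (t g), ⟨_, rfl⟩, Ideal.map_mono (Finset.le_sup hg) (hJmem g)⟩
    | algebraMap r => exact ⟨_, W.algebraMap_mem r, by simp⟩
    | add a b _ _ ha hb =>
      obtain ⟨ya, hya, ha⟩ := ha
      obtain ⟨yb, hyb, hb⟩ := hb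
      exact ⟨ya + yb, add_mem hya hyb, by rw [add_sub_add_comm]; exact add_mem ha hb⟩
    | mul a b _ _ ha hb =>
      obtain ⟨ya, hya, ha⟩ := ha
      obtain ⟨yb, hyb, hb⟩ := hb
      refine ⟨ya * yb, mul_mem hya hyb, ?_⟩
      rw [show a * b - ya * yb = (a - ya) * b + ya * (b - yb) by ring]
      exact add_mem (K.mul_mem_right _ ha) (K.mul_mem_left _ hb)
  have h2 : ∀ n, ∀ x : S', ∃ y ∈ W, x - y ∈ K ^ n := by
    intro n
    induction n with
    | zero => exact fun x => ⟨0, zero_mem _, by simp⟩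
    | succ k ih =>
      intro x
      obtain ⟨y, hy, hxy⟩ := ih x
      suffices ∀ z ∈ K ^ k, ∃ w ∈ W, z - w ∈ K ^ (k + 1) by
        obtain ⟨w, hw, hzw⟩ := this _ hxy
        exact ⟨y + w, add_mem hy hw, by rwa [← sub_sub]⟩
      intro z hz
      rw [show K ^ k = (I₀ ^ k).map (algebraMap R S') from (Ideal.map_pow _ _ _).symm] at hz
      refine Submodule.span_induction ?_ ⟨0, zero_mem _, by simp⟩ ?_ ?_ hz
      · rintro _ ⟨r, hr, rfl⟩
        exact ⟨_, W.algebraMap_mem r, by simp⟩
      · rintro a b - - ⟨ya, hya, ha⟩ ⟨yb, hyb, hb⟩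
        exact ⟨ya + yb, add_mem hya hyb, by rw [add_sub_add_comm]; exact add_mem ha hb⟩
      · rintro c a ha' ⟨ya, hya, ha⟩
        obtain ⟨yc, hyc, hc⟩ := h1 c
        have hak : a ∈ K ^ k := by rw [← Ideal.map_pow]; exact ha'
        refine ⟨yc * ya, mul_mem hyc hya, ?_⟩
        rw [smul_eq_mul, show c * a - yc * ya = (c - yc) * a + yc * (a - ya) by ring]
        exact add_mem (pow_succ' K k ▸ Ideal.mul_mem_mul hc hak) (Ideal.mul_mem_left _ _ ha)
  intro x
  obtain ⟨k, hk⟩ := hnil
  obtain ⟨y, ⟨s, rfl⟩, hy⟩ := h2 k x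
  rw [hk, Ideal.zero_eq_bot, Ideal.mem_bot, sub_eq_zero] at hy
  exact ⟨s, hy.symm⟩

end Groth.Agent.S9139
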