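import Groth.Statements.S9140
import Groth.Agent.S9139
import Groth.Agent.L03.ModJac
import Mathlib.RingTheory.FinitePresentation
import Mathlib.RingTheory.Flat.Equalizer
import Mathlib.RingTheory.Nakayama

set_option autoImplicit false
universe u
open CAlg

namespace Groth.Agent.S9140

/-- Let I be a locally nilpotent ideal of a ring R and S → S' a map of R-algebras with S of finite type
over R and S' of finite presentation and flat over R. If the induced map S/IS → S'/IS' is bijective
(stated as: S → S'/IS' is surjective with kernel IS), then S → S' is bijective. -/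
theorem result (R S S' : Type u)
    [CommRing R] [CommRing S] [CommRing S'] [Algebra R S] [Algebra R S'] [Algebra.FiniteType R S]
    [Algebra.FinitePresentation R S'] [Module.Flat R S'] (I : Ideal R) (hI : ∀ x ∈ I, IsNilpotent x)
    (f : S →ₐ[R] S')
    (hsurj : Function.Surjective ((Ideal.Quotient.mk (I.map (algebraMap R S'))).comp f.toRingHom))
    (hker : ∀ s : S, f s ∈ I.map (algebraMap R S') → s ∈ I.map (algebraMap R S)) :
    Function.Bijective f := by
  classical
  set I' := I.map (algebraMap R S')
  have hf : Function.Surjective f :=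
    Groth.Agent.S9139.result R S S' I hI f hsurj
  refine ⟨?_, hf⟩
  set K := RingHom.ker f.toRingHom
  have hKfg : K.FG := by
    obtain ⟨n, g, hg⟩ := Algebra.FiniteType.iff_quotient_mvPolynomial''.1 (inferInstance : Algebra.FiniteType R S)
    have h := Algebra.FinitePresentation.ker_fg_of_mvPolynomial (f.comp g) (hf.comp hg)
    have h2 : (RingHom.ker (f.comp g).toRingHom).map g.toRingHom = K := by
      refine le_antisymm (Ideal.map_le_iff_le_comap.2 fun x hx => hx) fun x hx => ?_
      obtain ⟨y, rfl⟩ := hg x
      exact Ideal.mem_map_of_mem _ hx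
    exact h2 ▸ h.map g.toRingHom
  let KR : Submodule R S := K.restrictScalars R
  have hinj : Function.Injective (KR.subtype.lTensor (R ⧸ I)) :=
    LinearMap.lTensor_injective_of_exact_of_flat f.toLinearMap hf KR.subtype Subtype.val_injective
      (by rw [LinearMap.exact_iff, Submodule.range_subtype]; rfl) (R ⧸ I)
  have hle : K ≤ I.map (algebraMap R S) • K := by
    intro k hk
    have h1 : (k : S) ∈ I • (⊤ : Submodule R S) := by
      rw [Ideal.smul_top_eq_map, Submodule.restrictScalars_mem]
      exact hker k (by rw [show f k = 0 from hk]; exact zero_mem _)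
    have h2 : (⟨k, hk⟩ : KR) ∈ I • (⊤ : Submodule R KR) := by
      rw [← Groth.L03.ModJac.one_tmul_eq_zero_iff]
      refine hinj ?_
      rw [map_zero, LinearMap.lTensor_tmul]
      exact (Groth.L03.ModJac.one_tmul_eq_zero_iff k).2 h1
    have h3 := Groth.L03.ModJac.mem_smul_range KR.subtype h2
    rw [Submodule.range_subtype] at h3
    suffices ∀ z ∈ I • KR, z ∈ I.map (algebraMap R S) • K from this k h3
    intro z hz
    refine Submodule.smul_induction_on hz (fun r hr y hy => ?_) (fun a b => add_mem)
    have hy' : y ∈ K := hy
    rw [Algebra.smul_def r y, smul_eq_mul]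
    exact Ideal.mul_mem_mul (Ideal.mem_map_of_mem (algebraMap R S) hr) hy'
  have hjac : I.map (algebraMap R S) ≤ Ideal.jacobson (⊥ : Ideal S) := by
    rw [Ideal.map_le_iff_le_comap]
    intro r hr
    exact Ideal.radical_le_jacobson ((hI r hr).map (algebraMap R S))
  have hK0 : K = ⊥ := Submodule.eq_bot_of_le_smul_of_le_jacobson_bot _ K hKfg hle hjac
  exact (RingHom.injective_iff_ker_eq_bot _).2 hK0

end Groth.Agent.S9140
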