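import Groth.Statements.S9143
import Groth.Agent.L07.SyntFieldExtra

set_option autoImplicit false
set_option linter.style.haveILetI false
universe u
open Synt

namespace Groth.Agent.S9143

/-- For a local k-algebra S which is essentially of finite type over a field k, being a complete
intersection over k is equivalent to each of: (2) whenever a regular local ring R, essentially of
finite type over k, maps onto S by a surjective k-algebra map, the kernel is generated by a regular
sequence; (3) some regular local ring R, essentially of finite type over k, maps onto S by a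
surjective k-algebra map whose kernel is generated by a list of dim R − dim S elements (stated as
dim R = dim S + the length of the list); (4) S is isomorphic over k to a localization at a prime of
a global complete intersection over k; (5) the same with a local complete intersection over k. -/
theorem result (k S : Type u) [Field k] [CommRing S]
    [IsLocalRing S] [Algebra k S] [Algebra.EssFiniteType k S] :
    (Synt.IsCIOver k S ↔
        ∀ (R : Type u) [CommRing R] [IsRegularLocalRing R] [Algebra k R], Algebra.EssFiniteType k R →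
          ∀ π : R →ₐ[k] S, Function.Surjective π →
            ∃ rs : List R, RingTheory.Sequence.IsRegular R rs ∧ RingHom.ker π.toRingHom = Ideal.ofList rs) ∧
      (Synt.IsCIOver k S ↔
        ∃ (R : Type u) (_ : CommRing R) (_ : IsRegularLocalRing R) (_ : Algebra k R),
          Algebra.EssFiniteType k R ∧ ∃ π : R →ₐ[k] S, Function.Surjective π ∧
            ∃ rs : List R, RingHom.ker π.toRingHom = Ideal.ofList rs ∧
              ringKrullDim R = ringKrullDim S + (rs.length : WithBot ℕ∞)) ∧
      (Synt.IsCIOver k S ↔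
        ∃ (A : Type u) (_ : CommRing A) (_ : Algebra k A) (a : Ideal A) (_ : a.IsPrime),
          Algebra.FiniteType k A ∧ Synt.IsGlobalCI k A ∧ Nonempty (S ≃ₐ[k] Localization.AtPrime a)) ∧
      (Synt.IsCIOver k S ↔
        ∃ (A : Type u) (_ : CommRing A) (_ : Algebra k A) (a : Ideal A) (_ : a.IsPrime),
          Synt.IsLCIOver k A ∧ Nonempty (S ≃ₐ[k] Localization.AtPrime a)) := by
  haveI : IsNoetherianRing S := Algebra.EssFiniteType.isNoetherianRing k S
  have hiff := Groth.L07.Synt.isCIOver_iff (k := k) (S := S)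
  refine ⟨⟨fun h R _ _ _ _ π hπ => ?_, fun h => ?_⟩, ⟨fun h => ?_, fun h => ?_⟩,
    ⟨fun h => Groth.L07.Synt.exists_globalCI_model (hiff.mp h), fun h => ?_⟩, ⟨fun h => ?_, fun h => ?_⟩⟩
  · obtain ⟨rs, h1, h2⟩ := Groth.L07.RegQuot.isRegularIdeal_of_isCompleteIntersection π.toRingHom hπ (hiff.mp h)
    exact ⟨rs, h1, h2.symm⟩
  · obtain ⟨R, _, _, _, hR, π, hπ⟩ := Groth.L07.Synt.exists_regular_presentation k S
    obtain ⟨rs, h1, h2⟩ := h R hR π hπ
    exact hiff.mpr (Groth.L07.RegQuot.isCompleteIntersection_of_isRegularIdeal π.toRingHom hπ ⟨rs, h1, h2.symm⟩)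
  · obtain ⟨R, _, _, _, hR, rs, hm, hreg, ⟨e⟩⟩ := h
    refine ⟨R, inferInstance, inferInstance, inferInstance, hR,
      e.symm.toAlgHom.comp (Ideal.Quotient.mkₐ k (Ideal.ofList rs)),
      e.symm.surjective.comp Ideal.Quotient.mk_surjective, rs, ?_, ?_⟩
    · ext y
      rw [RingHom.mem_ker, ← Ideal.Quotient.eq_zero_iff_mem]
      exact e.symm.toAddEquiv.map_eq_zero_iff
    · have h1 := Groth.L04.supportDim_quotient_ofList_add hreg.toIsWeaklyRegular hm
      rw [Module.supportDim_self_eq_ringKrullDim,
        Module.supportDim_eq_of_equiv (Submodule.quotEquivOfEq _ (Ideal.ofList rs)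
          (by rw [smul_eq_mul, Ideal.mul_top])),
        Module.supportDim_quotient_eq_ringKrullDim, ← ringKrullDim_eq_of_ringEquiv e.toRingEquiv] at h1
      exact h1.symm
  · obtain ⟨R, _, _, _, hR, π, hπ, rs, hk, hd⟩ := h
    have hne : Ideal.ofList rs ≠ ⊤ := hk ▸ RingHom.ker_ne_top π.toRingHom
    have hd' : ringKrullDim (R ⧸ Ideal.ofList rs) + rs.length ≤ ringKrullDim R := by
      rw [hd, ringKrullDim_eq_of_ringEquiv
        ((Ideal.quotEquivOfEq hk.symm).trans (RingHom.quotientKerEquivOfSurjective (f := π.toRingHom) hπ))]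
    refine hiff.mpr (Groth.L07.RegQuot.isCompleteIntersection_of_isRegularIdeal π.toRingHom hπ
      ⟨rs, ⟨Groth.L07.RegQuot.isWeaklyRegular_of_dim rs
        (fun r hr => IsLocalRing.le_maximalIdeal hne (Ideal.subset_span hr)) hd', ?_⟩, hk.symm⟩)
    rw [smul_eq_mul, Ideal.mul_top]
    exact hne.symm
  · obtain ⟨A, _, _, a, _, hA, hCI, ⟨e⟩⟩ := h
    haveI := hA
    haveI : IsNoetherianRing A := Algebra.FiniteType.isNoetherianRing k A
    haveI : IsNoetherianRing (Localization.AtPrime a) :=
      IsLocalization.isNoetherianRing a.primeCompl _ inferInstance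
    exact hiff.mpr (Groth.L07.Avramov.isCompleteIntersection_of_ringEquiv e.symm.toRingEquiv
      (Groth.L07.Synt.isCI_of_isGlobalCI hCI a))
  · obtain ⟨A, _, _, a, _, hA, hCI, he⟩ := Groth.L07.Synt.exists_globalCI_model (k := k) (hiff.mp h)
    haveI := hA
    exact ⟨A, inferInstance, inferInstance, a, inferInstance,
      Groth.L07.Synt.isLCIOver_iff.mpr ⟨hA, fun P => Groth.L07.Synt.isCI_of_isGlobalCI hCI P.asIdeal⟩, he⟩
  · obtain ⟨A, _, _, a, ha, hCI, ⟨e⟩⟩ := h
    obtain ⟨hA, hall⟩ := Groth.L07.Synt.isLCIOver_iff.mp hCI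
    haveI := hA
    haveI : IsNoetherianRing A := Algebra.FiniteType.isNoetherianRing k A
    haveI : IsNoetherianRing (Localization.AtPrime a) :=
      IsLocalization.isNoetherianRing a.primeCompl _ inferInstance
    exact hiff.mpr (Groth.L07.Avramov.isCompleteIntersection_of_ringEquiv e.symm.toRingEquiv (hall ⟨a, ha⟩))

end Groth.Agent.S9143
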