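import Groth.Statements.S9144
import Groth.Agent.L07.SyntFieldExtra

set_option autoImplicit false
set_option linter.style.haveILetI false
universe u
open Synt

namespace Groth.Agent.S9144

/-- For a finite type algebra S over a field k and a prime q of S, the local ring S_q is a complete
intersection over k if and only if some basic open neighbourhood S_g (g ∉ q) is a local complete
intersection over k, if and only if some S_g (g ∉ q) is a global complete intersection over k. -/
theorem result (k S : Type u) [Field k] [CommRing S] [Algebra k S]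
    [Algebra.FiniteType k S] (q : Ideal S) [q.IsPrime] :
    (Synt.IsCIOver k (Localization.AtPrime q) ↔ ∃ g : S, g ∉ q ∧ Synt.IsLCIOver k (Localization.Away g)) ∧
      (Synt.IsCIOver k (Localization.AtPrime q) ↔
        ∃ g : S, g ∉ q ∧ Synt.IsGlobalCI k (Localization.Away g)) := by
  refine ⟨⟨fun h => ?_, fun ⟨g, hg, h⟩ => ?_⟩, ?_⟩
  · obtain ⟨g, hg, hCI⟩ := Groth.L07.Synt.exists_globalCI_away (k := k) q
      ((Groth.L07.Synt.isCIOver_atPrime_iff q).mp h)
    haveI : Algebra.FiniteType S (Localization.Away g) :=
      IsLocalization.finiteType_of_monoid_fg (Submonoid.powers g) _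
    exact ⟨g, hg, Groth.L07.Synt.isLCIOver_iff.mpr ⟨Algebra.FiniteType.trans (S := S) inferInstance inferInstance,
      fun P => Groth.L07.Synt.isCI_of_isGlobalCI hCI P.asIdeal⟩⟩
  · haveI : IsNoetherianRing S := Algebra.FiniteType.isNoetherianRing k S
    obtain ⟨-, hall⟩ := Groth.L07.Synt.isLCIOver_iff.mp h
    obtain ⟨P', hP'⟩ : (⟨q, ‹_›⟩ : PrimeSpectrum S) ∈
        Set.range (PrimeSpectrum.comap (algebraMap S (Localization.Away g))) := by
      rw [PrimeSpectrum.localization_away_comap_range (Localization.Away g) g]; exact hg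
    have hPI : q = P'.asIdeal.comap (algebraMap S (Localization.Away g)) :=
      (congrArg PrimeSpectrum.asIdeal hP').symm
    subst hPI
    exact (Groth.L07.Synt.isCIOver_atPrime_iff _).mpr
      ((Groth.L07.Synt.isCI_away_iff P'.asIdeal).mpr (hall P'))
  · rw [Groth.L07.Synt.isCIOver_atPrime_iff]
    exact Groth.L07.Synt.isCI_atPrime_iff_exists q

end Groth.Agent.S9144
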