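import Groth.Statements.S9146
import Groth.Agent.L07.SyntAlg

set_option autoImplicit false
set_option linter.style.haveILetI false
universe u
open Synt

namespace Groth.Agent.S9146

/-- Being syntomic is local on the target ring: if finitely many elements of S generating the unit ideal
have syntomic localizations R → S_g, then R → S is syntomic. -/
theorem result (R S : Type u) [CommRing R] [CommRing S] [Algebra R S]
    (s : Finset S) (hs : Ideal.span (s : Set S) = ⊤)
    (h : ∀ g ∈ s, Synt.IsSyntomic R (Localization.Away g)) : Synt.IsSyntomic R S := by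
  haveI hfp : Algebra.FinitePresentation R S := by
    refine RingHom.finitePresentation_algebraMap.mp
      (RingHom.finitePresentation_ofLocalizationSpanTarget (algebraMap R S) (s : Set S) hs fun g => ?_)
    rw [← IsScalarTower.algebraMap_eq, RingHom.finitePresentation_algebraMap]
    exact (h g g.2).2.1
  refine Groth.L07.SyntAlg.isSyntomic_iff.mpr ⟨?_, fun P => ?_⟩
  · exact Module.flat_of_isLocalized_span S S (s : Set S) hs (fun g => Localization.Away g.1)
      (fun g => Algebra.linearMap S (Localization.Away g.1)) fun g => (h g g.2).1
  · obtain ⟨g, hgs, hgP⟩ : ∃ g ∈ s, g ∉ P.asIdeal := by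
      by_contra hn
      push Not at hn
      exact P.2.ne_top (top_le_iff.mp (hs ▸ Ideal.span_le.mpr hn))
    obtain ⟨P', rfl⟩ : P ∈ Set.range (PrimeSpectrum.comap (algebraMap S (Localization.Away g))) := by
      rw [PrimeSpectrum.localization_away_comap_range (Localization.Away g) g]; exact hgP
    haveI := (h g hgs).2.1
    exact (Groth.L07.SyntAlg.ciAt_away g P').mp ((Groth.L07.SyntAlg.isSyntomic_iff.mp (h g hgs)).2 P')

end Groth.Agent.S9146
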