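import Groth.Statements.S9149
import Groth.Agent.L19.PolyPow
import Mathlib.RingTheory.Extension.Presentation.Basic
import Mathlib.RingTheory.Flat.FaithfullyFlat.Algebra
import Mathlib.Algebra.Polynomial.Monic

set_option autoImplicit false
set_option backward.isDefEq.respectTransparency.types false
set_option backward.isDefEq.respectTransparency false
set_option linter.style.haveILetI false
universe u
open Synt

namespace Groth.Agent.S9149

open Polynomial in
/-- A monic polynomial over a ring A splits into linear factors over some A-algebra A' that is syntomic,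
finite free and faithfully flat over A. -/
theorem result (A : Type u) [CommRing A] (P : A[X]) (hP : P.Monic) :
    ∃ (A' : Type u) (_ : CommRing A') (_ : Algebra A A'),
      Synt.IsSyntomic A A' ∧ Module.Finite A A' ∧ Module.Free A A' ∧ Module.FaithfullyFlat A A' ∧
        ∃ s : Multiset A', P.map (algebraMap A A') = (s.map fun b => X - C b).prod := by
  classical
  suffices H : ∀ (N : ℕ) (S : Type u) (_ : CommRing S) (_ : Algebra A S) (m : ℕ),
      Algebra.Presentation A S (Fin m) (Fin m) → Module.Finite A S → Module.Free A S →
      Module.FaithfullyFlat A S → ∀ Q : S[X], Q.Monic → Q.natDegree ≤ N →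
      ∃ (T : Type u) (_ : CommRing T) (_ : Algebra A T) (_ : Algebra S T) (_ : IsScalarTower A S T) (m' : ℕ),
        Nonempty (Algebra.Presentation A T (Fin m') (Fin m')) ∧ Module.Finite A T ∧ Module.Free A T ∧
          Module.FaithfullyFlat A T ∧
          ∃ s : Multiset T, Q.map (algebraMap S T) = (s.map fun b => X - C b).prod by
    obtain ⟨T, iT, iA, iS, it, m', ⟨pr⟩, hfin, hfree, hff, s, hs⟩ :=
      H P.natDegree A inferInstance (Algebra.id A) 0
        ((Algebra.Presentation.id.{0, 0} A).reindex (Equiv.equivOfIsEmpty _ _) (Equiv.equivOfIsEmpty _ _))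
        inferInstance inferInstance inferInstance P hP le_rfl
    obtain rfl : iS = iA := Algebra.algebra_ext _ _ fun a =>
      (@IsScalarTower.algebraMap_apply A A T _ _ _ (Algebra.id A) iS iA it a).symm
    refine ⟨T, iT, iS, ?_, hfin, hfree, hff, s, hs⟩
    exact Groth.L19.PolyPow.isSyntomic_of_finite_square pr.relation
      ((Ideal.quotientEquivAlgOfEq A pr.span_range_relation_eq_ker).trans (pr.quotientEquiv.restrictScalars A))
  intro N
  induction N with
  | zero =>
    intro S _ _ m pr hfin hfree hff Q hQ hd
    refine ⟨S, inferInstance, inferInstance, Algebra.id S, inferInstance, m, ⟨pr⟩, hfin, hfree, hff, 0, ?_⟩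
    rw [hQ.natDegree_eq_zero.mp (Nat.le_zero.mp hd)]
    simp
  | succ N ih =>
    intro S _ _ m pr hfin hfree hff Q hQ hd
    by_cases hd' : Q.natDegree ≤ N
    · exact ih S inferInstance inferInstance m pr hfin hfree hff Q hQ hd'
    have hpos : 0 < Q.natDegree := by omega
    let S' := AdjoinRoot Q
    haveI := hfin
    haveI := hfree
    haveI := hff
    haveI : Module.Finite S S' := hQ.finite_adjoinRoot
    haveI : Module.Free S S' := Module.Free.of_basis (AdjoinRoot.powerBasis' hQ).basis
    haveI : Module.FaithfullyFlat S S' := Groth.L19.RootSynt.faithfullyFlat_adjoinRoot S Q hQ hpos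
    -- the presentation of `S' / S`
    let g : Algebra.Generators S S' (Fin 1) :=
      Algebra.Generators.ofSurjective (fun _ => AdjoinRoot.root Q) (by
        intro x
        obtain ⟨q, rfl⟩ := AdjoinRoot.mk_surjective x
        refine ⟨(MvPolynomial.uniqueAlgEquiv S (Fin 1)).symm q, ?_⟩
        induction q using Polynomial.induction_on' with
        | add a b ha hb => simp only [map_add, ha, hb]
        | monomial k a => simp [← Polynomial.C_mul_X_pow_eq_monomial, S'])
    have hg : ∀ F, MvPolynomial.aeval g.val F =
        AdjoinRoot.mk Q (MvPolynomial.uniqueAlgEquiv S (Fin 1) F) := by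
      intro F
      induction F using MvPolynomial.induction_on with
      | C a => simp [S']
      | add a b ha hb => simp only [map_add, ha, hb]
      | mul_X a i ha =>
        simp only [map_mul, ha, MvPolynomial.aeval_X]
        simp [g, Algebra.Generators.ofSurjective]
    let pr' : Algebra.Presentation S S' (Fin 1) (Fin 1) :=
      { g with
        relation := fun _ => (MvPolynomial.uniqueAlgEquiv S (Fin 1)).symm Q
        span_range_relation_eq_ker := by
          rw [Algebra.Generators.ker_eq_ker_aeval_val]
          ext F
          rw [RingHom.mem_ker, hg, AdjoinRoot.mk_eq_zero, Set.range_const, Ideal.mem_span_singleton,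
            ← map_dvd_iff (MvPolynomial.uniqueAlgEquiv S (Fin 1)) (a := (MvPolynomial.uniqueAlgEquiv S (Fin 1)).symm Q),
            AlgEquiv.apply_symm_apply] }
    let pr'' : Algebra.Presentation A S' (Fin (1 + m)) (Fin (1 + m)) :=
      (pr'.comp pr).reindex finSumFinEquiv.symm finSumFinEquiv.symm
    haveI : Module.Finite A S' := Module.Finite.trans S S'
    haveI : Module.Free A S' := Module.Free.trans (R := A) (S := S)
    haveI : Module.FaithfullyFlat A S' := Module.FaithfullyFlat.trans A S S'
    obtain ⟨R, hR⟩ : ∃ R, Q.map (AdjoinRoot.of Q) = (X - C (AdjoinRoot.root Q)) * R :=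
      ⟨_, (mul_divByMonic_eq_iff_isRoot.mpr (AdjoinRoot.isRoot_root Q)).symm⟩
    have hRm : R.Monic := (monic_X_sub_C _).of_mul_monic_left (hR ▸ hQ.map _)
    have hRd : R.natDegree ≤ N := by
      rcases subsingleton_or_nontrivial S' with hS | hS
      · rw [natDegree_of_subsingleton]; omega
      have := congrArg natDegree hR
      rw [(monic_X_sub_C (AdjoinRoot.root Q)).natDegree_mul hRm, natDegree_X_sub_C] at this
      have h2 : (Q.map (AdjoinRoot.of Q)).natDegree ≤ Q.natDegree := natDegree_map_le
      omega
    obtain ⟨T, iT, iA, iS', it, m', hpr, hf, hfr, hfl, s, hs⟩ :=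
      ih S' inferInstance inferInstance (1 + m) pr'' inferInstance inferInstance inferInstance R hRm hRd
    letI : Algebra S T := ((algebraMap S' T).comp (algebraMap S S')).toAlgebra
    haveI : IsScalarTower A S T := IsScalarTower.of_algebraMap_eq fun a => by
      rw [RingHom.algebraMap_toAlgebra, RingHom.comp_apply, ← IsScalarTower.algebraMap_apply A S S',
        ← IsScalarTower.algebraMap_apply A S' T]
    refine ⟨T, iT, iA, inferInstance, inferInstance, m', hpr, hf, hfr, hfl,
      algebraMap S' T (AdjoinRoot.root Q) ::ₘ s, ?_⟩
    rw [RingHom.algebraMap_toAlgebra, ← Polynomial.map_map, AdjoinRoot.algebraMap_eq, hR,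
      Polynomial.map_mul, hs, Multiset.map_cons, Multiset.prod_cons]
    simp only [Polynomial.map_sub, Polynomial.map_X]
    exact congrArg (fun z => (X - z) * _) (Polynomial.map_C _)

end Groth.Agent.S9149
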