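import Groth.Statements.S9150
import Groth.Agent.L14.SyntLift.Lift

set_option autoImplicit false
universe u
open Synt

namespace Groth.Agent.S9150

/-- Let I be an ideal of a ring R and S̄ an R-algebra killed by I which is syntomic over R/I. Then S̄ is
covered by finitely many basic opens S̄_g each isomorphic, as an R-algebra, to S/IS for some
relative global complete intersection S over R. -/
theorem result (R : Type u) [CommRing R] (I : Ideal R) (Sb : Type u) [CommRing Sb]
    [Algebra R Sb] [Algebra (R ⧸ I) Sb] [IsScalarTower R (R ⧸ I) Sb] (h : Synt.IsSyntomic (R ⧸ I) Sb) :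
    ∃ s : Finset Sb, Ideal.span (s : Set Sb) = ⊤ ∧ ∀ g ∈ s,
      ∃ (n c : ℕ) (F : Fin c → MvPolynomial (Fin n) R), Synt.IsRelGCI R n c F ∧
        Nonempty (Localization.Away g ≃ₐ[R]
          (Synt.RelGCIRing R n c F ⧸ I.map (algebraMap R (Synt.RelGCIRing R n c F)))) := by
  classical
  obtain ⟨A, _, _, θ, hA, hθ, hker⟩ := Groth.L14.SyntLift.exists_syntomic_lift I h
  haveI := hA.2.1
  haveI := hA.1
  have H : ∀ M : Ideal Sb, M.IsMaximal → ∃ g ∉ M, ∃ (n c : ℕ) (F : Fin c → MvPolynomial (Fin n) R),
      Synt.IsRelGCI R n c F ∧ Nonempty (Localization.Away g ≃ₐ[R]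
        (Synt.RelGCIRing R n c F ⧸ I.map (algebraMap R (Synt.RelGCIRing R n c F)))) := by
    intro M hM
    let P : PrimeSpectrum A := ⟨M.comap θ.toRingHom, inferInstance⟩
    haveI : Module.Flat R (Localization.AtPrime P.asIdeal) := Module.Flat.trans R A _
    obtain ⟨g, hg, n, c, F, hF, ⟨e⟩⟩ := Groth.L07.SyntAlg.exists_relGCI_nhd' P
      ((Groth.L07.SyntAlg.isSyntomic_iff.mp hA).2 P)
    refine ⟨θ g, hg, n, c, F, hF, ?_⟩
    have hu : ∀ y : Submonoid.powers g, IsUnit (algebraMap Sb (Localization.Away (θ g)) (θ y)) := by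
      rintro ⟨_, k, rfl⟩
      simp only [map_pow]
      exact (IsLocalization.Away.algebraMap_isUnit (θ g)).pow k
    let q : Localization.Away g →ₐ[R] Localization.Away (θ g) :=
      IsLocalization.liftAlgHom (M := Submonoid.powers g)
        (f := (IsScalarTower.toAlgHom R Sb (Localization.Away (θ g))).comp θ) hu
    have hq : ∀ x, q (algebraMap A _ x) = algebraMap Sb _ (θ x) := fun x => IsLocalization.lift_eq _ x
    have hqs : Function.Surjective q := by
      intro y
      obtain ⟨k, b, hb⟩ := IsLocalization.Away.surj (θ g) y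
      obtain ⟨b, rfl⟩ := hθ b
      obtain ⟨v, hv⟩ := ((IsLocalization.Away.algebraMap_isUnit (S := Localization.Away g) g).pow k).exists_right_inv
      refine ⟨algebraMap A _ b * v, ?_⟩
      have hv' := congrArg q hv
      rw [map_mul, map_pow, map_one, hq] at hv'
      rw [map_mul, hq, ← hb, mul_assoc, hv', mul_one]
    have hqk : RingHom.ker q = I.map (algebraMap R (Localization.Away g)) := by
      rw [IsScalarTower.algebraMap_eq R A (Localization.Away g), ← Ideal.map_map, ← hker]
      refine le_antisymm (fun x hx => ?_) (Ideal.map_le_iff_le_comap.mpr fun x hx => ?_)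
      · obtain ⟨x, s, rfl⟩ := IsLocalization.exists_mk'_eq (Submonoid.powers g) x
        have := congrArg q (IsLocalization.mk'_spec (Localization.Away g) x s)
        rw [map_mul, RingHom.mem_ker.mp hx, zero_mul, hq] at this
        obtain ⟨⟨_, k, rfl⟩, hk⟩ := (IsLocalization.map_eq_zero_iff (Submonoid.powers (θ g))
          (Localization.Away (θ g)) (θ x)).mp this.symm
        refine (IsLocalization.mk'_mem_map_algebraMap_iff (Submonoid.powers g) _ _ _ _).mpr
          ⟨g ^ k, ⟨k, rfl⟩, ?_⟩
        rw [RingHom.mem_ker, map_mul, map_pow]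
        exact hk
      · show q (algebraMap A _ x) = 0
        rw [hq, RingHom.mem_ker.mp hx, map_zero]
    exact ⟨((Ideal.quotientEquivAlgOfEq R hqk.symm).trans (Ideal.quotientKerAlgEquivOfSurjective hqs)).symm.trans
      (Ideal.quotientEquivAlg _ _ e (by
        rw [Ideal.map_map]
        exact congrArg (fun φ => Ideal.map φ I) (RingHom.ext fun r => (e.commutes r).symm)))⟩
  let U : Set Sb := {g | ∃ (n c : ℕ) (F : Fin c → MvPolynomial (Fin n) R), Synt.IsRelGCI R n c F ∧
    Nonempty (Localization.Away g ≃ₐ[R] (Synt.RelGCIRing R n c F ⧸ I.map (algebraMap R (Synt.RelGCIRing R n c F))))}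
  have htop : Ideal.span U = ⊤ := by
    by_contra hne
    obtain ⟨M, hM, hle⟩ := Ideal.exists_le_maximal _ hne
    obtain ⟨g, hg, hgU⟩ := H M hM
    exact hg (hle (Ideal.subset_span hgU))
  obtain ⟨s, hsU, hs⟩ := Submodule.mem_span_finite_of_mem_span ((Ideal.eq_top_iff_one _).mp htop)
  exact ⟨s, (Ideal.eq_top_iff_one _).mpr hs, fun g hg => hsU hg⟩

end Groth.Agent.S9150
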