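import Groth.Statements.S9153
import Groth.Agent.L04.RegularPd
import Mathlib.RingTheory.RegularLocalRing.Polynomial
import Mathlib.RingTheory.Ideal.Height
-- import your own Groth.Agent.* helpers here

set_option autoImplicit false
universe u
open CAlg

namespace Groth.Agent.S9153

/-- In a polynomial ring in finitely many variables over a field, every saturated chain of primes
between two primes p ⊆ q has length equal to the difference of their heights (stated additively:
length + height p = height q). -/
theorem result (k : Type u) [Field k] (n : ℕ)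
    (s : LTSeries (PrimeSpectrum (MvPolynomial (Fin n) k)))
    (hsat : ∀ i : Fin s.length, s (Fin.castSucc i) ⋖ s (Fin.succ i)) :
    (s.length : ℕ∞) + s.head.asIdeal.height = s.last.asIdeal.height := by
  have key : ∀ p q : PrimeSpectrum (MvPolynomial (Fin n) k), p ⋖ q →
      p.asIdeal.height + 1 = q.asIdeal.height := by
    intro p q h
    rw [← Groth.L04.height_add_height_quotient p.asIdeal q.asIdeal h.lt.le]
    congr 1
    have hker : RingHom.ker (Ideal.Quotient.mk p.asIdeal) ≤ q.asIdeal := by rw [Ideal.mk_ker]; exact h.lt.le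
    let P := q.asIdeal.map (Ideal.Quotient.mk p.asIdeal)
    haveI : P.IsPrime := Ideal.map_isPrime_of_surjective Ideal.Quotient.mk_surjective hker
    have hPc : P.comap (Ideal.Quotient.mk p.asIdeal) = q.asIdeal := by
      rw [Ideal.comap_map_of_surjective _ Ideal.Quotient.mk_surjective, ← RingHom.ker_eq_comap_bot]
      exact sup_eq_left.2 hker
    haveI : (⊥ : Ideal (MvPolynomial (Fin n) k ⧸ p.asIdeal)).IsPrime := Ideal.isPrime_bot
    have hbot : (⊥ : Ideal (MvPolynomial (Fin n) k ⧸ p.asIdeal)) < P := by
      refine bot_lt_iff_ne_bot.2 fun e => h.lt.ne (PrimeSpectrum.ext ?_)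
      rw [← hPc, e, ← RingHom.ker_eq_comap_bot, Ideal.mk_ker]
    symm
    refine le_antisymm ?_ ?_
    · refine Ideal.height_le_iff.2 fun Q hQ hlt => ?_
      have hQbot : Q = ⊥ := by
        by_contra hne
        refine h.2 (c := ⟨Q.comap (Ideal.Quotient.mk p.asIdeal), hQ.comap _⟩) ?_ ?_
        · show p.asIdeal < Q.comap (Ideal.Quotient.mk p.asIdeal)
          have hle : p.asIdeal ≤ Q.comap (Ideal.Quotient.mk p.asIdeal) := fun x hx => by
            rw [Ideal.mem_comap, Ideal.Quotient.eq_zero_iff_mem.2 hx]; exact Q.zero_mem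
          refine lt_of_le_of_ne hle fun e => hne ?_
          rw [← Ideal.map_comap_of_surjective _ Ideal.Quotient.mk_surjective Q, ← e, Ideal.map_quotient_self]
        · show Q.comap (Ideal.Quotient.mk p.asIdeal) < q.asIdeal
          refine lt_of_le_of_ne ((Ideal.comap_mono hlt.le).trans hPc.le) fun e => hlt.ne ?_
          exact Ideal.comap_injective_of_surjective _ Ideal.Quotient.mk_surjective (e.trans hPc.symm)
      rw [hQbot, Ideal.height_bot]
      exact zero_lt_one
    · rw [ENat.one_le_iff_ne_zero, Ne, Ideal.height_eq_zero_iff]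
      intro hmin
      exact hbot.ne (le_antisymm bot_le (hmin.2 ⟨Ideal.isPrime_bot, bot_le⟩ bot_le))
  have H : ∀ (j : ℕ) (hj : j < s.length + 1),
      (j : ℕ∞) + s.head.asIdeal.height = (s ⟨j, hj⟩).asIdeal.height := by
    intro j
    induction j with
    | zero => intro hj; rw [Nat.cast_zero, zero_add]; rfl
    | succ j ih =>
      intro hj
      have h1 := key _ _ (hsat ⟨j, Nat.lt_of_succ_lt_succ hj⟩)
      have h2 := ih (Nat.lt_of_succ_lt hj)
      rw [Nat.cast_add, Nat.cast_one, add_right_comm, h2]
      exact h1
  exact H s.length (Nat.lt_succ_self _)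

end Groth.Agent.S9153
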