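import Groth.Statements.S9161
import Mathlib.Tactic.Abel
import Mathlib.LinearAlgebra.Prod

set_option autoImplicit false
universe u
open CAlg

namespace Groth.Agent.S9161

/-- If two two-term complexes of R-modules A₁ → A₀ and B₁ → B₀ are homotopy equivalent (maps of
complexes both ways whose composites are homotopic to the identity maps), then A₁ ⊕ B₀ and B₁ ⊕ A₀
are isomorphic R-modules. -/
theorem result (R : Type u) [CommRing R]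
    (A₁ A₀ B₁ B₀ : Type u) [AddCommGroup A₁] [Module R A₁] [AddCommGroup A₀] [Module R A₀]
    [AddCommGroup B₁] [Module R B₁] [AddCommGroup B₀] [Module R B₀]
    (dA : A₁ →ₗ[R] A₀) (dB : B₁ →ₗ[R] B₀) (φ₁ : A₁ →ₗ[R] B₁) (φ₀ : A₀ →ₗ[R] B₀)
    (ψ₁ : B₁ →ₗ[R] A₁) (ψ₀ : B₀ →ₗ[R] A₀) (hφ : dB ∘ₗ φ₁ = φ₀ ∘ₗ dA) (hψ : dA ∘ₗ ψ₁ = ψ₀ ∘ₗ dB)
    (h : A₀ →ₗ[R] A₁) (hh₁ : LinearMap.id - ψ₁ ∘ₗ φ₁ = h ∘ₗ dA) (hh₀ : LinearMap.id - ψ₀ ∘ₗ φ₀ = dA ∘ₗ h)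
    (h' : B₀ →ₗ[R] B₁) (hh'₁ : LinearMap.id - φ₁ ∘ₗ ψ₁ = h' ∘ₗ dB)
    (hh'₀ : LinearMap.id - φ₀ ∘ₗ ψ₀ = dB ∘ₗ h') :
    Nonempty ((A₁ × B₀) ≃ₗ[R] (B₁ × A₀)) := by
  let i : A₁ →ₗ[R] B₁ × A₀ := φ₁.prod (-dA)
  let r : B₁ × A₀ →ₗ[R] A₁ := ψ₁ ∘ₗ LinearMap.fst R _ _ - h ∘ₗ LinearMap.snd R _ _
  let π : B₁ × A₀ →ₗ[R] B₀ := dB ∘ₗ LinearMap.fst R _ _ + φ₀ ∘ₗ LinearMap.snd R _ _
  let s : B₀ →ₗ[R] B₁ × A₀ := h'.prod ψ₀
  have hA : ∀ a, a - ψ₁ (φ₁ a) = h (dA a) := LinearMap.congr_fun hh₁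
  have hA0 : ∀ a, a - ψ₀ (φ₀ a) = dA (h a) := LinearMap.congr_fun hh₀
  have hB : ∀ a, a - φ₁ (ψ₁ a) = h' (dB a) := LinearMap.congr_fun hh'₁
  have hB0 : ∀ a, a - φ₀ (ψ₀ a) = dB (h' a) := LinearMap.congr_fun hh'₀
  have hφ' : ∀ a, dB (φ₁ a) = φ₀ (dA a) := LinearMap.congr_fun hφ
  have hψ' : ∀ a, dA (ψ₁ a) = ψ₀ (dB a) := LinearMap.congr_fun hψ
  have hri : ∀ a, r (i a) = a := fun a => by
    simp [r, i, ← hA]
  have hπs : ∀ b, π (s b) = b := fun b => by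
    simp [π, s, ← hB0]
  have hπi : ∀ a, π (i a) = 0 := fun a => by simp [π, i, hφ']
  let c : A₀ →ₗ[R] B₁ := h' ∘ₗ φ₀ - φ₁ ∘ₗ h
  have hM : ∀ b x, i (r (b, x)) + s (π (b, x)) = (b + c x, x) := by
    intro b x
    refine Prod.ext ?_ ?_
    · simp only [i, r, s, π, c, LinearMap.prod_apply, Function.prod_apply, LinearMap.sub_apply,
        LinearMap.add_apply, LinearMap.comp_apply, LinearMap.fst_apply, LinearMap.snd_apply,
        map_sub, map_add, Prod.fst_add, Prod.fst_sub, ← hB]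
      abel
    · simp only [i, r, s, π, LinearMap.prod_apply, Function.prod_apply, LinearMap.neg_apply, LinearMap.sub_apply,
        LinearMap.add_apply, LinearMap.comp_apply, LinearMap.fst_apply, LinearMap.snd_apply,
        map_sub, map_add, Prod.snd_add, Prod.snd_sub, hψ', ← hA0]
      abel
  refine ⟨LinearEquiv.ofBijective (i.coprod s) ⟨?_, ?_⟩⟩
  · rw [← LinearMap.ker_eq_bot, LinearMap.ker_eq_bot']
    rintro ⟨a, b⟩ hab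
    rw [LinearMap.coprod_apply] at hab
    have hb : b = 0 := by simpa [hπi, hπs] using congrArg π hab
    subst hb
    rw [map_zero, add_zero] at hab
    have ha : a = 0 := by simpa [hri] using congrArg r hab
    rw [ha]
    rfl
  · rintro ⟨b, x⟩
    refine ⟨(r (b - c x, x), π (b - c x, x)), ?_⟩
    rw [LinearMap.coprod_apply, hM, sub_add_cancel]

end Groth.Agent.S9161
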