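import Groth.Statements.S9162
import Mathlib.RingTheory.Extension.Cotangent.Basic
import Mathlib.RingTheory.Kaehler.Polynomial
import Mathlib.LinearAlgebra.TensorProduct.Basis
import Mathlib.RingTheory.TensorProduct.Free

set_option autoImplicit false
universe u
open CAlg

namespace Groth.Agent.S9162

variable {_unused : Unit}

open Algebra in
/-- The homomorphism of extensions between polynomial presentations. -/
noncomputable def liftHom {R S : Type u} [CommRing R] [CommRing S] [Algebra R S] {a b : ℕ}
    (α : MvPolynomial (Fin a) R →ₐ[R] S) (β : MvPolynomial (Fin b) R →ₐ[R] S) (hα : Function.Surjective α) (hβ : Function.Surjective β) :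
    (Extension.ofSurjective α hα).Hom (Extension.ofSurjective β hβ) :=
  let F : MvPolynomial (Fin a) R →ₐ[R] MvPolynomial (Fin b) R := MvPolynomial.aeval fun i => (hβ (α (MvPolynomial.X i))).choose
  { toRingHom := F.toRingHom
    toRingHom_algebraMap := fun x => F.commutes x
    algebraMap_toRingHom := fun x => by
      have : β.comp F = α := MvPolynomial.algHom_ext fun i => by
        simp [F, (hβ (α (MvPolynomial.X i))).choose_spec]
      exact DFunLike.congr_fun this x }

open Algebra Algebra.Extension in
/-- Homotopy equivalent two-term complexes are stably isomorphic. -/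
noncomputable def stableEquiv {R S : Type u} [CommRing R] [CommRing S] [Algebra R S] {P Q : Extension.{u} R S} (f : P.Hom Q) (g : Q.Hom P) :
    (P.Cotangent × Q.CotangentSpace) ≃ₗ[S] Q.Cotangent × P.CotangentSpace :=
  let hP := (g.comp f).sub (Hom.id P)
  let hQ := (f.comp g).sub (Hom.id Q)
  let φ : P.Cotangent × Q.CotangentSpace →ₗ[S] Q.Cotangent × P.CotangentSpace :=
    ((Cotangent.map f).coprod (-hQ)).prod (P.cotangentComplex.coprod (-CotangentSpace.map g))
  let ψ : Q.Cotangent × P.CotangentSpace →ₗ[S] P.Cotangent × Q.CotangentSpace :=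
    ((Cotangent.map g).coprod (-hP)).prod (Q.cotangentComplex.coprod (-CotangentSpace.map f))
  LinearEquiv.ofBijective φ (by
    have e1 : ∀ c, Cotangent.map f (Cotangent.map g c) = c + hQ (Q.cotangentComplex c) := fun c => by
      have := LinearMap.congr_fun (Cotangent.map_sub_map (f.comp g) (Hom.id Q)) c
      simp [Cotangent.map_comp, Cotangent.map_id, sub_eq_iff_eq_add'] at this
      exact this
    have e2 : ∀ c, Cotangent.map g (Cotangent.map f c) = c + hP (P.cotangentComplex c) := fun c => by
      have := LinearMap.congr_fun (Cotangent.map_sub_map (g.comp f) (Hom.id P)) c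
      simp [Cotangent.map_comp, Cotangent.map_id, sub_eq_iff_eq_add'] at this
      exact this
    have e3 : ∀ u, CotangentSpace.map g (CotangentSpace.map f u) = u + P.cotangentComplex (hP u) := fun u => by
      have := LinearMap.congr_fun (CotangentSpace.map_sub_map (g.comp f) (Hom.id P)) u
      simp [CotangentSpace.map_comp, CotangentSpace.map_id, sub_eq_iff_eq_add'] at this
      exact this
    have e4 : ∀ u, CotangentSpace.map f (CotangentSpace.map g u) = u + Q.cotangentComplex (hQ u) := fun u => by
      have := LinearMap.congr_fun (CotangentSpace.map_sub_map (f.comp g) (Hom.id Q)) u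
      simp [CotangentSpace.map_comp, CotangentSpace.map_id, sub_eq_iff_eq_add'] at this
      exact this
    let k₁ : P.CotangentSpace →ₗ[S] Q.Cotangent := hQ ∘ₗ CotangentSpace.map f - Cotangent.map f ∘ₗ hP
    let k₂ : Q.CotangentSpace →ₗ[S] P.Cotangent := hP ∘ₗ CotangentSpace.map g - Cotangent.map g ∘ₗ hQ
    have h1 : ∀ z, φ (ψ z) = (z.1 + k₁ z.2, z.2) := fun z => by
      obtain ⟨c, u⟩ := z
      refine Prod.ext ?_ ?_
      · show Cotangent.map f (Cotangent.map g c + -(hP u)) + -(hQ (Q.cotangentComplex c + -(CotangentSpace.map f u))) =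
          c + (hQ (CotangentSpace.map f u) - Cotangent.map f (hP u))
        simp only [map_add, map_neg, e1]
        abel
      · show P.cotangentComplex (Cotangent.map g c + -(hP u)) + -(CotangentSpace.map g (Q.cotangentComplex c + -(CotangentSpace.map f u))) = u
        simp only [map_add, map_neg, e3, CotangentSpace.map_cotangentComplex]
        abel
    have h2 : ∀ z, ψ (φ z) = (z.1 + k₂ z.2, z.2) := fun z => by
      obtain ⟨c, u⟩ := z
      refine Prod.ext ?_ ?_
      · show Cotangent.map g (Cotangent.map f c + -(hQ u)) + -(hP (P.cotangentComplex c + -(CotangentSpace.map g u))) =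
          c + (hP (CotangentSpace.map g u) - Cotangent.map g (hQ u))
        simp only [map_add, map_neg, e2]
        abel
      · show Q.cotangentComplex (Cotangent.map f c + -(hQ u)) + -(CotangentSpace.map f (P.cotangentComplex c + -(CotangentSpace.map g u))) = u
        simp only [map_add, map_neg, e4, CotangentSpace.map_cotangentComplex]
        abel
    refine ⟨fun a b hab => ?_, fun z => ⟨ψ (z.1 - k₁ z.2, z.2), by simp [h1]⟩⟩
    have := congrArg ψ hab
    rw [h2, h2, Prod.mk.injEq] at this
    obtain ⟨ha, hb⟩ := this
    rw [hb] at ha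
    exact Prod.ext (add_right_cancel ha) hb)


/-- Let S be an R-algebra and α : R[x_1, …, x_n] → S, β : R[y_1, …, y_m] → S surjective R-algebra maps
(presentations by polynomial rings in finitely many variables; the kernels I and J need not be
finitely generated). Then I/I² ⊕ S^m and J/J² ⊕ S^n are isomorphic S-modules. -/
theorem result (R S : Type u) [CommRing R] [CommRing S]
    [Algebra R S] (n m : ℕ) (α : MvPolynomial (Fin n) R →ₐ[R] S) (hα : Function.Surjective α)
    (β : MvPolynomial (Fin m) R →ₐ[R] S) (hβ : Function.Surjective β) :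
    Nonempty (((Algebra.Extension.ofSurjective α hα).Cotangent × (Fin m → S)) ≃ₗ[S]
      ((Algebra.Extension.ofSurjective β hβ).Cotangent × (Fin n → S))) := by
  classical
  let P := Algebra.Extension.ofSurjective α hα
  let Q := Algebra.Extension.ofSurjective β hβ
  let f : P.Hom Q := liftHom α β hα hβ
  let g : Q.Hom P := liftHom β α hβ hα
  letI := α.toRingHom.toAlgebra
  letI := β.toRingHom.toAlgebra
  let bP : Module.Basis (Fin n) S P.CotangentSpace := (KaehlerDifferential.mvPolynomialBasis R (Fin n)).baseChange S
  let bQ : Module.Basis (Fin m) S Q.CotangentSpace := (KaehlerDifferential.mvPolynomialBasis R (Fin m)).baseChange S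
  exact ⟨((LinearEquiv.refl S P.Cotangent).prodCongr bQ.equivFun.symm) ≪≫ₗ stableEquiv f g ≪≫ₗ
    ((LinearEquiv.refl S Q.Cotangent).prodCongr bP.equivFun)⟩

end Groth.Agent.S9162
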