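import Groth.Statements.S9164
import Groth.Agent.L22.FiniteLength
import Mathlib.Algebra.Module.Lattice
import Mathlib.RingTheory.Support
import Mathlib.RingTheory.Length
import Mathlib.RingTheory.Ideal.KrullsHeightTheorem
-- import your own Groth.Agent.* helpers here

set_option autoImplicit false
universe u
open CAlg

namespace Groth.Agent.S9164

variable {R K V : Type u} [CommRing R] [IsDomain R]
  [IsNoetherianRing R] [IsLocalRing R] [Field K] [Algebra R K]
  [IsFractionRing R K] [AddCommGroup V] [Module K V] [Module R V] [IsScalarTower R K V]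

omit [IsNoetherianRing R] [IsLocalRing R] in
theorem exists_smul_mem (N : Submodule R V) (hN : Submodule.span K (N : Set V) = ⊤) (x : V) :
    ∃ a : R, a ≠ 0 ∧ a • x ∈ N := by
  have hx : x ∈ Submodule.span K (N : Set V) := hN ▸ trivial
  induction hx using Submodule.span_induction with
  | mem y hy => exact ⟨1, one_ne_zero, by rwa [one_smul]⟩
  | zero => exact ⟨1, one_ne_zero, by rw [smul_zero]; exact N.zero_mem⟩
  | add y z _ _ hy hz =>
    obtain ⟨a, ha, hay⟩ := hy
    obtain ⟨b, hb, hbz⟩ := hz
    refine ⟨a * b, mul_ne_zero ha hb, ?_⟩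
    rw [smul_add]
    exact N.add_mem (by rw [mul_comm, mul_smul]; exact N.smul_mem _ hay)
      (by rw [mul_smul]; exact N.smul_mem _ hbz)
  | smul c y _ hy =>
    obtain ⟨a, ha, hay⟩ := hy
    obtain ⟨n, d, hd, rfl⟩ := IsFractionRing.div_surjective R c
    refine ⟨d * a, mul_ne_zero (nonZeroDivisors.ne_zero hd) ha, ?_⟩
    have h : (d * a) • (algebraMap R K n / algebraMap R K d) • y = n • a • y := by
      rw [← algebraMap_smul K (d * a), ← algebraMap_smul K n, ← algebraMap_smul K a y, smul_smul, smul_smul]
      congr 1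
      rw [map_mul]
      field_simp [IsFractionRing.to_map_ne_zero_of_mem_nonZeroDivisors hd]
    rw [h]
    exact N.smul_mem _ hay

omit [Field K] [Algebra R K] [IsFractionRing R K] [Module K V] [IsScalarTower R K V] in
theorem length_ne_top (hdim : ringKrullDim R = 1) {L N : Submodule R V} (hfg : L.FG)
    (h : ∀ x ∈ L, ∃ a : R, a ≠ 0 ∧ a • x ∈ N) :
    Module.length R (L ⧸ Submodule.comap L.subtype N) ≠ ⊤ := by
  haveI : Ring.KrullDimLE 1 R := Ring.krullDimLE_iff.2 hdim.le
  haveI : Module.Finite R L := Module.Finite.iff_fg.2 hfg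
  refine (Groth.L22.length_lt_top_of_support_isMaximal fun P hP => ?_).ne
  obtain ⟨q, hq⟩ := Module.mem_support_iff_exists_annihilator.1 hP
  obtain ⟨x, rfl⟩ := Submodule.Quotient.mk_surjective _ q
  obtain ⟨a, ha, hax⟩ := h x.1 x.2
  refine Ring.krullDimLE_one_iff_of_noZeroDivisors.1 inferInstance P.asIdeal (fun hbot => ha ?_) P.2
  refine (Submodule.mem_bot R).1 (hbot ▸ hq ((Submodule.mem_annihilator_span_singleton _ a).2 ?_))
  rw [← Submodule.Quotient.mk_smul, Submodule.Quotient.mk_eq_zero]
  exact hax

omit [Field K] [Algebra R K] [IsFractionRing R K] [Module K V] [IsScalarTower R K V] in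
theorem fg_of_length_ne_top {L N : Submodule R V} (hNL : N ≤ L) (hN : N.FG)
    (h : Module.length R (L ⧸ Submodule.comap L.subtype N) ≠ ⊤) : L.FG := by
  haveI : Module.Finite R N := Module.Finite.iff_fg.2 hN
  haveI : IsNoetherian R (L ⧸ Submodule.comap L.subtype N) :=
    (isFiniteLength_iff_isNoetherian_isArtinian.1 (Module.length_ne_top_iff.1 h)).1
  haveI : IsNoetherian R (Submodule.comap L.subtype N) :=
    isNoetherian_of_linearEquiv (Submodule.comapSubtypeEquivOfLe hNL).symm
  haveI : IsNoetherian R L := (isNoetherian_iff_submodule_quotient (Submodule.comap L.subtype N)).2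
    ⟨inferInstance, inferInstance⟩
  exact Module.Finite.iff_fg.1 inferInstance

omit [IsDomain R] [IsNoetherianRing R] [Field K] [Algebra R K] [IsFractionRing R K] [Module K V] [IsScalarTower R K V] in
theorem exists_smul_mem_of_length_ne_top [IsDomain R] [IsNoetherianRing R] (hdim : ringKrullDim R = 1) {L N : Submodule R V}
    (h : Module.length R (L ⧸ Submodule.comap L.subtype N) ≠ ⊤) (x : V) (hx : x ∈ L) :
    ∃ a : R, a ≠ 0 ∧ a • x ∈ N := by
  haveI := (isFiniteLength_iff_isNoetherian_isArtinian.1 (Module.length_ne_top_iff.1 h)).2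
  haveI := (isFiniteLength_iff_isNoetherian_isArtinian.1 (Module.length_ne_top_iff.1 h)).1
  obtain ⟨a, ha, ha0⟩ : ∃ a ∈ IsLocalRing.maximalIdeal R, a ≠ 0 := by
    refine Submodule.exists_mem_ne_zero_of_ne_bot fun h0 => ?_
    rw [← IsLocalRing.maximalIdeal_height_eq_ringKrullDim, h0, Ideal.height_bot] at hdim
    exact zero_ne_one hdim
  obtain ⟨n, hn⟩ := monotone_stabilizes_iff_artinian.2 (inferInstance : IsArtinian R (L ⧸ Submodule.comap L.subtype N))
    ⟨fun k => OrderDual.toDual ((IsLocalRing.maximalIdeal R ^ k) • (⊤ : Submodule R (L ⧸ Submodule.comap L.subtype N))),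
      fun i j hij => Submodule.smul_mono_left (Ideal.pow_le_pow_right hij)⟩
  have h1 : (IsLocalRing.maximalIdeal R ^ n) • (⊤ : Submodule R (L ⧸ Submodule.comap L.subtype N)) =
      (IsLocalRing.maximalIdeal R ^ (n + 1)) • ⊤ := OrderDual.toDual.injective (hn (n + 1) n.le_succ)
  have h2 : (IsLocalRing.maximalIdeal R ^ n) • (⊤ : Submodule R (L ⧸ Submodule.comap L.subtype N)) = ⊥ := by
    refine Submodule.eq_bot_of_le_smul_of_le_jacobson_bot (IsLocalRing.maximalIdeal R) _ (IsNoetherian.noetherian _) ?_
      (IsLocalRing.jacobson_eq_maximalIdeal ⊥ bot_ne_top).ge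
    rw [← Submodule.smul_assoc, smul_eq_mul, ← pow_succ']
    exact h1.le
  refine ⟨a ^ n, pow_ne_zero n ha0, ?_⟩
  have h3 : a ^ n • (Submodule.Quotient.mk ⟨x, hx⟩ : L ⧸ Submodule.comap L.subtype N) = 0 :=
    (Submodule.mem_bot R).1 (h2 ▸ Submodule.smul_mem_smul (Ideal.pow_mem_pow ha n) Submodule.mem_top)
  rw [← Submodule.Quotient.mk_smul, Submodule.Quotient.mk_eq_zero] at h3
  exact h3

/-- Let R be a one-dimensional Noetherian local domain with fraction field K and V a finite-dimensional
K-vector space; a lattice is a finitely generated R-submodule of V spanning V over K. (1) For a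
lattice M and an R-submodule M' ⊇ M: M' is a lattice iff M'/M has finite length over R iff M' is
finitely generated. (2) For a lattice M and M' ⊆ M: M' is a lattice iff M/M' has finite length. (3)
The intersection of two lattices is a lattice. (The published statement also asserts that the sum M
+ M' of two lattices is a lattice and two identities between lengths of quotients of nested
lattices; this row states (1), (2) and the intersection half of (3).) -/
theorem result (R K V : Type u) [CommRing R] [IsDomain R]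
    [IsNoetherianRing R] [IsLocalRing R] (hdim : ringKrullDim R = 1) [Field K] [Algebra R K]
    [IsFractionRing R K] [AddCommGroup V] [Module K V] [Module R V] [IsScalarTower R K V]
    [FiniteDimensional K V] (M : Submodule R V) [Submodule.IsLattice K M] :
    (∀ M' : Submodule R V, M ≤ M' →
        (Submodule.IsLattice K M' ↔ Module.length R (M' ⧸ Submodule.comap M'.subtype M) ≠ ⊤) ∧
          (Submodule.IsLattice K M' ↔ M'.FG)) ∧
      (∀ M' : Submodule R V, M' ≤ M →
        (Submodule.IsLattice K M' ↔ Module.length R (M ⧸ Submodule.comap M.subtype M') ≠ ⊤)) ∧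
      ∀ M' : Submodule R V, Submodule.IsLattice K M' → Submodule.IsLattice K (M ⊓ M') := by
  haveI : IsNoetherian R M := by
    haveI := Module.Finite.iff_fg.2 (Submodule.IsLattice.fg (M := M) (A := K))
    infer_instance
  have hsp := Submodule.IsLattice.span_eq_top (M := M) (A := K)
  have hlat : ∀ M' : Submodule R V, M ≤ M' → M'.FG → Submodule.IsLattice K M' :=
    fun M' hle hfg => Submodule.IsLattice.of_le_of_isLattice_of_fg K hle hfg
  refine ⟨fun M' hle => ⟨⟨fun hM' => ?_, fun hlen => ?_⟩, ⟨fun hM' => hM'.fg, hlat M' hle⟩⟩, fun M' hle => ⟨fun hM' => ?_, fun hlen => ?_⟩,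
    fun M' hM' => ?_⟩
  · exact length_ne_top hdim hM'.fg fun x _ => exists_smul_mem M hsp x
  · exact hlat M' hle (fg_of_length_ne_top hle (Submodule.IsLattice.fg (M := M) (A := K)) hlen)
  · exact length_ne_top hdim (Submodule.IsLattice.fg (M := M) (A := K)) fun x _ => exists_smul_mem M' hM'.span_eq_top x
  · haveI := isNoetherian_of_le hle
    refine ⟨Module.Finite.iff_fg.1 inferInstance, ?_⟩
    rw [eq_top_iff, ← hsp, Submodule.span_le]
    intro x hx
    obtain ⟨a, ha, hax⟩ := exists_smul_mem_of_length_ne_top hdim hlen x hx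
    have ha' : algebraMap R K a ≠ 0 := (map_ne_zero_iff _ (IsFractionRing.injective R K)).2 ha
    rw [show x = (algebraMap R K a)⁻¹ • (a • x) by rw [← algebraMap_smul K a x, smul_smul, inv_mul_cancel₀ ha', one_smul]]
    exact Submodule.smul_mem _ _ (Submodule.subset_span hax)
  · haveI : IsNoetherian R (M ⊓ M' : Submodule R V) := isNoetherian_of_le inf_le_left
    refine ⟨Module.Finite.iff_fg.1 inferInstance, eq_top_iff.2 fun x _ => ?_⟩
    obtain ⟨a, ha, hax⟩ := exists_smul_mem M hsp x
    obtain ⟨b, hb, hbx⟩ := exists_smul_mem M' hM'.span_eq_top x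
    have hab : algebraMap R K (a * b) ≠ 0 := (map_ne_zero_iff _ (IsFractionRing.injective R K)).2 (mul_ne_zero ha hb)
    rw [show x = (algebraMap R K (a * b))⁻¹ • ((a * b) • x) by
      rw [← algebraMap_smul K (a * b) x, smul_smul, inv_mul_cancel₀ hab, one_smul]]
    exact Submodule.smul_mem _ _ (Submodule.subset_span
      ⟨by rw [mul_comm, mul_smul]; exact M.smul_mem _ hax, by rw [mul_smul]; exact M'.smul_mem _ hbx⟩)

end Groth.Agent.S9164
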