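import Groth.Statements.S9166
import Mathlib.RingTheory.Flat.EquationalCriterion
import Mathlib.RingTheory.Localization.Away.Basic
import Mathlib.RingTheory.Localization.AtPrime.Basic
import Mathlib.RingTheory.FinitePresentation
import Mathlib.RingTheory.Nakayama
import Mathlib.Algebra.Module.LocalizedModule.Basic
import Mathlib.RingTheory.Localization.Module
import Mathlib.Algebra.Module.LocalizedModule.IsLocalization

set_option autoImplicit false
universe u
open CAlg

namespace Groth.Agent.S9166

/-- Let I be an ideal of a ring R, S → S' a surjective homomorphism of R-algebras with S of finite type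
and S' of finite presentation over R, and q a prime of S containing IS. Assume S'_q is flat over R
and that S_q/IS_q → S'_q/IS'_q is an isomorphism, which for a surjection says: every element of the
kernel of S → S' maps into I·S_q. Then for some g ∉ q the localized map S_g → S'_g is bijective. -/
theorem result (R S S' : Type u) [CommRing R] [CommRing S]
    [CommRing S'] [Algebra R S] [Algebra R S'] [Algebra.FiniteType R S] [Algebra.FinitePresentation R S']
    (I : Ideal R) (f : S →ₐ[R] S') (hf : Function.Surjective f) (q : Ideal S) [q.IsPrime]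
    (hq : I.map (algebraMap R S) ≤ q)
    (hker : ∀ j : S, f j = 0 →
      algebraMap S (Localization.AtPrime q) j ∈ I.map (algebraMap R (Localization.AtPrime q)))
    (hflat : letI : Module S S' := f.toRingHom.toModule
      Module.Flat R (LocalizedModule q.primeCompl S')) :
    ∃ g : S, g ∉ q ∧ Function.Bijective (Localization.awayMap f.toRingHom g) := by
  classical
  letI : Module S S' := f.toRingHom.toModule
  haveI : IsScalarTower R S S' := IsScalarTower.of_algebraMap_smul fun r x => by
    show f (algebraMap R S r) * x = r • x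
    rw [AlgHom.commutes, Algebra.smul_def]
  let Sq := Localization.AtPrime q
  let M := LocalizedModule q.primeCompl S'
  haveI : Module.Flat R M := hflat
  let K := RingHom.ker f.toRingHom
  have hKfg : K.FG := by
    obtain ⟨m, p, hp⟩ := Algebra.FiniteType.iff_quotient_mvPolynomial''.mp ‹Algebra.FiniteType R S›
    convert (Algebra.FinitePresentation.ker_fg_of_mvPolynomial (f.comp p) (hf.comp hp)).map p.toRingHom using 1
    show RingHom.ker (f : S →+* S') = Ideal.map (p : MvPolynomial (Fin m) R →+* S) (RingHom.ker ((f : S →+* S').comp (p : MvPolynomial (Fin m) R →+* S)))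
    rw [← RingHom.comap_ker]
    exact (Ideal.map_comap_of_surjective (p : MvPolynomial (Fin m) R →+* S) hp _).symm
  let Kq := K.map (algebraMap S Sq)
  let fl : S →ₗ[S] S' :=
    { toFun := f, map_add' := map_add f, map_smul' := fun a x => (map_mul f a x : _) }
  let Φ : Sq →ₗ[S] M := IsLocalizedModule.map q.primeCompl (Algebra.linearMap S Sq) (LocalizedModule.mkLinearMap q.primeCompl S') fl
  have hΦ : ∀ (a : S) (s : q.primeCompl), Φ (IsLocalization.mk' Sq a s) = IsLocalizedModule.mk' (LocalizedModule.mkLinearMap q.primeCompl S') (f a) s := fun a s => by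
    rw [IsLocalization.mk'_eq_mk', IsLocalizedModule.map_mk']
    rfl
  have hmem : ∀ z : Sq, z ∈ Kq ↔ Φ z = 0 := by
    intro z
    obtain ⟨a, s, rfl⟩ := IsLocalization.exists_mk'_eq q.primeCompl z
    rw [hΦ, IsLocalization.mk'_mem_map_algebraMap_iff, IsLocalizedModule.mk'_eq_zero']
    refine ⟨fun ⟨t, ht, h⟩ => ⟨⟨t, ht⟩, ?_⟩, fun ⟨⟨t, ht⟩, h⟩ => ⟨t, ht, ?_⟩⟩
    · show f t * f a = 0
      rw [← map_mul]
      exact h
    · show f (t * a) = 0
      rw [map_mul]
      exact h
  let Iq := I.map (algebraMap R Sq)
  have hle : Kq ≤ Iq * Kq := by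
    intro z hz
    have hzI : z ∈ Iq := by
      refine Ideal.map_le_iff_le_comap.mpr (fun j hj => ?_) hz
      exact hker j hj
    rw [hmem] at hz
    have hz' : z ∈ Submodule.span Sq (algebraMap R Sq '' (I : Set R)) := hzI
    obtain ⟨c, hc, hsum⟩ := (Finsupp.mem_span_image_iff_linearCombination Sq).mp hz'
    rw [Finsupp.linearCombination_apply, Finsupp.sum] at hsum
    have hrel : ∑ i : c.support, (i : R) • Φ (c i) = 0 := by
      rw [Finset.univ_eq_attach, Finset.sum_attach c.support (fun i => i • Φ (c i)), ← hz, ← hsum, map_sum]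
      refine Finset.sum_congr rfl fun i _ => ?_
      rw [← LinearMap.map_smul_of_tower, smul_eq_mul, Algebra.smul_def, mul_comm]
    obtain ⟨k, a, y, hy, hya⟩ := Module.Flat.isTrivialRelation_of_sum_smul_eq_zero hrel
    have hsurj : Function.Surjective Φ := IsLocalizedModule.map_surjective q.primeCompl _ _ fl hf
    choose w hw using fun j => hsurj (y j)
    have hz2 : z = ∑ i : c.support, algebraMap R Sq i * (c i - ∑ j, a i j • w j) := by
      have h0 : ∑ i : c.support, algebraMap R Sq i * ∑ j, a i j • w j = 0 := by
        rw [Finset.sum_congr rfl (fun (i : c.support) _ => Finset.mul_sum Finset.univ (fun j => a i j • w j) (algebraMap R Sq i)), Finset.sum_comm]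
        refine Finset.sum_eq_zero fun j _ => ?_
        rw [Finset.sum_congr rfl (fun (i : c.support) _ => ((Algebra.smul_def (i : R) (a i j • w j)).symm.trans (smul_smul _ _ _))),
          ← Finset.sum_smul, hya j, zero_smul]
      simp only [mul_sub, Finset.sum_sub_distrib, h0, sub_zero]
      rw [← hsum, Finset.univ_eq_attach, Finset.sum_attach c.support (fun i => algebraMap R Sq i * c i)]
      refine Finset.sum_congr rfl fun i _ => ?_
      rw [smul_eq_mul, mul_comm]
    rw [hz2]
    refine sum_mem fun i _ => Ideal.mul_mem_mul (Ideal.mem_map_of_mem _ (hc i.2)) ?_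
    rw [hmem, map_sub, map_sum, sub_eq_zero]
    refine (hy i).trans ?_
    refine Finset.sum_congr rfl fun j _ => ?_
    rw [LinearMap.map_smul_of_tower, hw]
  have hIq : Iq ≤ IsLocalRing.maximalIdeal Sq := by
    rw [← Localization.AtPrime.map_eq_maximalIdeal]
    show Ideal.map (algebraMap R Sq) I ≤ _
    rw [IsScalarTower.algebraMap_eq R S Sq, ← Ideal.map_map]
    exact Ideal.map_mono hq
  have hK0 : Kq = ⊥ :=
    Submodule.eq_bot_of_le_smul_of_le_jacobson_bot Iq Kq (hKfg.map _) hle (hIq.trans (IsLocalRing.jacobson_eq_maximalIdeal ⊥ bot_ne_top).ge)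
  obtain ⟨T, hT⟩ := hKfg
  have hkill : ∀ x : T, ∃ t : q.primeCompl, (t : S) * x = 0 := fun x => by
    rw [← IsLocalization.map_eq_zero_iff q.primeCompl Sq, ← Ideal.mem_bot, ← hK0]
    exact Ideal.mem_map_of_mem _ (show (x : S) ∈ K from hT ▸ Submodule.subset_span x.2)
  choose t ht using hkill
  refine ⟨((∏ x, t x : q.primeCompl) : S), (∏ x, t x).2, ?_, ?_⟩
  · rw [Localization.awayMap_injective_iff]
    intro a ha
    refine ⟨1, ?_⟩
    rw [pow_one]
    have hann : K ≤ (Submodule.span S {((∏ x, t x : q.primeCompl) : S)}).annihilator := by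
      rw [← hT, Submodule.span_le]
      intro x hx
      rw [SetLike.mem_coe, Submodule.mem_annihilator_span_singleton, smul_eq_mul, ← Finset.mul_prod_erase _ t (Finset.mem_univ ⟨x, hx⟩),
        Submonoid.coe_mul, ← mul_assoc, mul_comm x, ht ⟨x, hx⟩, zero_mul]
    have := hann (show a ∈ K from ha)
    rw [Submodule.mem_annihilator_span_singleton, smul_eq_mul] at this
    rw [mul_comm]; exact this
  · rw [Localization.awayMap_surjective_iff]
    intro a
    obtain ⟨b, hb⟩ := hf a
    exact ⟨b, 0, by rw [pow_zero, one_mul]; exact hb⟩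

end Groth.Agent.S9166
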