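import Groth.Statements.S9167
import Groth.Agent.L03.SpreadFP
import Mathlib.RingTheory.Ideal.Quotient.Operations
import Mathlib.RingTheory.Ideal.Operations
import Mathlib.Algebra.Module.Torsion.Basic

set_option autoImplicit false
universe u
open CAlg

namespace Groth.Agent.S9167

/-- With R' = S⁻¹(R/I), every finitely presented R'-module is of the form S⁻¹(M/IM) for some finitely
presented R-module M. -/
theorem result (R : Type u) [CommRing R] (I : Ideal R)
    (S : Submonoid R) (M' : Type u) [AddCommGroup M']
    [Module (Localization (S.map (Ideal.Quotient.mk I))) M']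
    [Module.FinitePresentation (Localization (S.map (Ideal.Quotient.mk I))) M'] :
    ∃ (M : Type u) (_ : AddCommGroup M) (_ : Module R M), Module.FinitePresentation R M ∧
      Nonempty (LocalizedModule (S.map (Ideal.Quotient.mk I)) (M ⧸ (I • ⊤ : Submodule R M))
        ≃ₗ[Localization (S.map (Ideal.Quotient.mk I))] M') := by
  classical
  let Q := R ⧸ I
  let T := S.map (Ideal.Quotient.mk I)
  letI : Module Q M' := Module.compHom M' (algebraMap Q (Localization T))
  haveI : IsScalarTower Q (Localization T) M' := IsScalarTower.of_algebraMap_smul fun _ _ => rfl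
  haveI hid : IsLocalizedModule T (LinearMap.id : M' →ₗ[Q] M') := by
    refine ⟨fun s => (Module.End.isUnit_iff _).2 ?_, fun y => ⟨⟨y, 1⟩, by simp⟩, fun {x y} h => ⟨1, by simpa using h⟩⟩
    obtain ⟨u, hu⟩ := IsLocalization.map_units (Localization T) s
    refine ⟨fun x y hxy => ?_, fun y => ⟨(↑u⁻¹ : Localization T) • y, ?_⟩⟩
    · have h1 : algebraMap Q (Localization T) (s : Q) • x = algebraMap Q (Localization T) (s : Q) • y := hxy
      rw [← hu] at h1
      exact u.isUnit.smul_left_cancel.1 h1
    · change algebraMap Q (Localization T) (s : Q) • (↑u⁻¹ : Localization T) • y = y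
      rw [← hu, smul_smul, Units.mul_inv, one_smul]
  let e₁ : LocalizedModule T M' ≃ₗ[Localization T] M' :=
    LinearEquiv.extendScalarsOfIsLocalization T (Localization T)
      (IsLocalizedModule.iso T (LinearMap.id : M' →ₗ[Q] M'))
  haveI : Module.FinitePresentation (Localization T) (LocalizedModule T M') :=
    Module.FinitePresentation.of_equiv e₁.symm
  obtain ⟨n, K, φ, ⟨G, hG⟩, hφ⟩ := Groth.L03.SpreadFP.exists_spread T M'
  let c : (Fin n → R) →ₗ[R] (Fin n → Q) := (Algebra.linearMap R Q).compLeft (Fin n)
  have hc : Function.Surjective c := fun y => by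
    choose z hz using fun i => Ideal.Quotient.mk_surjective (I := I) (y i)
    exact ⟨z, funext hz⟩
  choose lift hlift using hc
  let L : Submodule R (Fin n → R) := Submodule.span R ((G.image lift : Finset _) : Set (Fin n → R))
  have hLK : ∀ x ∈ L, c x ∈ K := by
    intro x hx
    induction hx using Submodule.span_induction with
    | mem x hx =>
      obtain ⟨k, hk, rfl⟩ := Finset.mem_image.1 hx
      rw [hlift, ← hG]
      exact Submodule.subset_span hk
    | zero => rw [map_zero]; exact zero_mem _
    | add a b _ _ ha hb => rw [map_add]; exact add_mem ha hb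
    | smul r a _ ha => rw [map_smul]; exact K.smul_of_tower_mem r ha
  have hIK : ∀ x ∈ I • (⊤ : Submodule R (Fin n → R)), c x = 0 := by
    intro x hx
    refine Submodule.smul_induction_on hx (fun r hr y _ => funext fun i => ?_)
      (fun a b ha hb => by rw [map_add, ha, hb, add_zero])
    exact Ideal.Quotient.eq_zero_iff_mem.2 (I.mul_mem_right _ hr)
  let M := (Fin n → R) ⧸ L
  refine ⟨M, inferInstance, inferInstance,
    Module.finitePresentation_of_surjective L.mkQ L.mkQ_surjective
      (by rw [Submodule.ker_mkQ]; exact ⟨_, rfl⟩), ?_⟩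
  let π : M →ₗ[R] (Fin n → Q) ⧸ K :=
    L.liftQ (K.mkQ.restrictScalars R ∘ₗ c)
      (fun x hx => (Submodule.Quotient.mk_eq_zero K).2 (hLK x hx))
  have hIπ : I • (⊤ : Submodule R M) ≤ LinearMap.ker π := by
    intro x hx
    refine Submodule.smul_induction_on hx (fun r hr y _ => ?_) (fun a b ha hb => add_mem ha hb)
    rw [LinearMap.mem_ker, map_smul, ← algebraMap_smul Q r, Ideal.Quotient.algebraMap_eq,
      Ideal.Quotient.eq_zero_iff_mem.2 hr, zero_smul]
  let π' : (M ⧸ I • (⊤ : Submodule R M)) →ₗ[Q] (Fin n → Q) ⧸ K :=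
    LinearMap.extendScalarsOfSurjective (S := Q) Ideal.Quotient.mk_surjective
      ((I • (⊤ : Submodule R M)).liftQ π hIπ)
  have hπ' : Function.Bijective π' := by
    refine ⟨?_, fun y => ?_⟩
    · rw [← LinearMap.ker_eq_bot, LinearMap.ker_eq_bot']
      intro z hz
      obtain ⟨z, rfl⟩ := Submodule.mkQ_surjective _ z
      obtain ⟨x, rfl⟩ := L.mkQ_surjective z
      have hx : c x ∈ K := (Submodule.Quotient.mk_eq_zero K).1 hz
      have key : ∀ y ∈ K, ∃ l ∈ L, c l = y := by
        intro y hy
        rw [← hG] at hy
        induction hy using Submodule.span_induction with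
        | mem k hk => exact ⟨lift k, Submodule.subset_span (Finset.mem_image_of_mem _ hk), hlift k⟩
        | zero => exact ⟨0, zero_mem _, map_zero c⟩
        | add a b _ _ ha hb =>
          obtain ⟨l, hl, rfl⟩ := ha
          obtain ⟨l', hl', rfl⟩ := hb
          exact ⟨l + l', add_mem hl hl', map_add c l l'⟩
        | smul r a _ ha =>
          obtain ⟨l, hl, rfl⟩ := ha
          obtain ⟨r', rfl⟩ := Ideal.Quotient.mk_surjective r
          exact ⟨r' • l, L.smul_mem _ hl, by rw [map_smul]; exact (algebraMap_smul Q r' _).symm⟩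
      obtain ⟨l, hl, hlx⟩ := key _ hx
      refine (Submodule.Quotient.mk_eq_zero _).2 ?_
      have h0 : L.mkQ l = 0 := (Submodule.Quotient.mk_eq_zero L).2 hl
      rw [← sub_zero (L.mkQ x), ← h0, ← map_sub, pi_eq_sum_univ' (x - l), map_sum]
      refine Submodule.sum_mem _ fun i _ => ?_
      rw [map_smul]
      refine Submodule.smul_mem_smul ?_ Submodule.mem_top
      rw [← Ideal.Quotient.eq_zero_iff_mem]
      have := congrFun hlx i
      change Ideal.Quotient.mk I (l i) = Ideal.Quotient.mk I (x i) at this
      rw [Pi.sub_apply, map_sub, this, sub_self]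
    · obtain ⟨y, rfl⟩ := K.mkQ_surjective y
      exact ⟨Submodule.Quotient.mk (Submodule.Quotient.mk (lift y)), congrArg K.mkQ (hlift y)⟩
  let ψ : (M ⧸ I • (⊤ : Submodule R M)) →ₗ[Q] M' := φ ∘ₗ π'
  have hψ : Function.Bijective (LocalizedModule.map T ψ) := by
    have hmap : ∀ z, LocalizedModule.map T ψ z = LocalizedModule.map T φ (LocalizedModule.map T π' z) := by
      intro z
      induction z using LocalizedModule.induction_on with
      | h q r => simp only [LocalizedModule.map_mk, ψ, LinearMap.comp_apply]
    have h2 : Function.Bijective (LocalizedModule.map T π') :=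
      ⟨IsLocalizedModule.map_injective T _ _ π' hπ'.1, IsLocalizedModule.map_surjective T _ _ π' hπ'.2⟩
    rw [show ⇑(LocalizedModule.map T ψ) = _ from funext hmap]
    exact hφ.comp h2
  exact ⟨(LinearEquiv.ofBijective _ hψ).trans e₁⟩

end Groth.Agent.S9167
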