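import Groth.Statements.S9168
import Mathlib.RingTheory.EssentialFiniteness
import Mathlib.RingTheory.FiniteType
import Mathlib.RingTheory.LocalRing.RingHom.Basic
-- import your own Groth.Agent.* helpers here

set_option autoImplicit false
universe u
open CAlg

namespace Groth.Agent.S9168

-- A finite set of a local algebra lies in a local subalgebra essentially of finite type. -/
universe v in
theorem exists_sub (P : Type v) (R : Type u) [CommRing P] [CommRing R] [IsLocalRing R] [Algebra P R] (E : Finset R) :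
    ∃ T : Subalgebra P R, (E : Set R) ⊆ T ∧ IsLocalHom T.val.toRingHom ∧ Algebra.EssFiniteType P T := by
  let A := Algebra.adjoin P (E : Set R)
  have hmul : ∀ b c : R, b ∈ A ∧ IsUnit b → c ∈ A ∧ IsUnit c → b * c ∈ A ∧ IsUnit (b * c) :=
    fun b c hb hc => ⟨mul_mem hb.1 hc.1, hb.2.mul hc.2⟩
  let T : Subalgebra P R :=
    { carrier := {x | ∃ a b : R, a ∈ A ∧ (b ∈ A ∧ IsUnit b) ∧ x * b = a}
      mul_mem' := by
        rintro x y ⟨a, b, ha, hb, h⟩ ⟨c, d, hc, hd, h'⟩
        exact ⟨a * c, b * d, mul_mem ha hc, hmul b d hb hd, by rw [← h, ← h']; ring⟩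
      add_mem' := by
        rintro x y ⟨a, b, ha, hb, h⟩ ⟨c, d, hc, hd, h'⟩
        exact ⟨a * d + c * b, b * d, add_mem (mul_mem ha hd.1) (mul_mem hc hb.1), hmul b d hb hd,
          by rw [← h, ← h']; ring⟩
      algebraMap_mem' := fun r => ⟨_, 1, A.algebraMap_mem r, ⟨A.one_mem, isUnit_one⟩, mul_one _⟩ }
  have hAT : ∀ a ∈ A, a ∈ T := fun a ha => ⟨a, 1, ha, ⟨A.one_mem, isUnit_one⟩, mul_one _⟩
  refine ⟨T, fun e he => hAT e (Algebra.subset_adjoin he), ⟨fun x hx => ?_⟩, ?_⟩
  · change IsUnit (x : R) at hx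
    obtain ⟨a, b, ha, hb, h⟩ := x.2
    have hau : IsUnit a := h ▸ hx.mul hb.2
    obtain ⟨w, hw⟩ := hau.exists_right_inv
    refine IsUnit.of_mul_eq_one ⟨b * w, b, a, hb.1, ⟨ha, hau⟩, by rw [mul_assoc, mul_comm w, hw, mul_one]⟩
      (Subtype.ext ?_)
    show (x : R) * (b * w) = 1
    rw [← mul_assoc, h, hw]
  · let M : Submonoid A := (IsUnit.submonoid R).comap A.val.toMonoidHom
    letI : Algebra A T := ((A.val.codRestrict T fun a => hAT _ a.2).toRingHom).toAlgebra
    haveI : IsScalarTower P A T := IsScalarTower.of_algebraMap_eq fun r =>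
      ((A.val.codRestrict T fun a => hAT _ a.2).commutes r).symm
    haveI : IsLocalization M T :=
      { map_units := fun m => by
          obtain ⟨w, hw⟩ := m.2.exists_right_inv
          refine IsUnit.of_mul_eq_one ⟨w, 1, _, A.one_mem, ⟨m.1.2, m.2⟩, ?_⟩ (Subtype.ext hw)
          rw [mul_comm]; exact hw
        surj := fun x => by
          obtain ⟨a, b, ha, hb, h⟩ := x.2
          exact ⟨(⟨a, ha⟩, ⟨⟨b, hb.1⟩, hb.2⟩), Subtype.ext h⟩
        exists_of_eq := fun {x y} h => ⟨1, by rw [show x = y from Subtype.ext (congrArg Subtype.val h :)]⟩ }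
    haveI : Algebra.FiniteType P A := ⟨A.fg_top.2 ⟨E, rfl⟩⟩
    haveI : Algebra.EssFiniteType A T := Algebra.EssFiniteType.of_isLocalization T M
    exact Algebra.EssFiniteType.comp P A T

/-- For a local homomorphism of local rings R → S and finite subsets E ⊆ R, F ⊆ S there are local
subrings R₀ ⊆ R and S₀ ⊆ S containing E and F, with R → S mapping R₀ into S₀, such that the
inclusions and the induced map R₀ → S₀ are local homomorphisms, R₀ is essentially of finite type
over ℤ and S₀ is essentially of finite type over R₀. (So R → S is the directed colimit of such R₀ →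
S₀.) -/
theorem result (R S : Type u) [CommRing R] [CommRing S] [IsLocalRing R]
    [IsLocalRing S] [Algebra R S] [IsLocalHom (algebraMap R S)] (E : Finset R) (F : Finset S) :
    ∃ (R₀ : Subring R) (S₀ : Subring S) (h : ∀ x ∈ R₀, algebraMap R S x ∈ S₀),
      (E : Set R) ⊆ R₀ ∧ (F : Set S) ⊆ S₀ ∧ ∃ (_ : IsLocalRing R₀) (_ : IsLocalRing S₀),
        IsLocalHom R₀.subtype ∧ IsLocalHom S₀.subtype ∧
          IsLocalHom ((algebraMap R S).restrict R₀ S₀ h) ∧
          (algebraMap ℤ R₀).EssFiniteType ∧ ((algebraMap R S).restrict R₀ S₀ h).EssFiniteType := by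
  obtain ⟨T, hET, hT, hTf⟩ := exists_sub ℤ R E
  let R₀ := T.toSubring
  letI : Algebra R₀ S := ((algebraMap R S).comp R₀.subtype).toAlgebra
  obtain ⟨U, hFU, hU, hUf⟩ := exists_sub R₀ S F
  let S₀ := U.toSubring
  have h : ∀ x ∈ R₀, algebraMap R S x ∈ S₀ := fun x hx => U.algebraMap_mem ⟨x, hx⟩
  haveI hT' : IsLocalHom R₀.subtype := ⟨fun x hx => hT.map_nonunit x hx⟩
  haveI hU' : IsLocalHom S₀.subtype := ⟨fun x hx => hU.map_nonunit x hx⟩
  refine ⟨R₀, S₀, h, hET, hFU, RingHom.domain_isLocalRing R₀.subtype, RingHom.domain_isLocalRing S₀.subtype,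
    hT', hU', ⟨fun x hx => hT'.map_nonunit x (IsLocalHom.map_nonunit (f := algebraMap R S) (x : R)
      (show IsUnit (S₀.subtype ((algebraMap R S).restrict R₀ S₀ h x)) from hx.map S₀.subtype))⟩, ?_, ?_⟩
  · rw [RingHom.essFiniteType_algebraMap]
    exact Algebra.EssFiniteType.of_surjective (⟨⟨⟨⟨fun x => ⟨x.1, x.2⟩, rfl⟩, fun _ _ => rfl⟩, rfl, fun _ _ => rfl⟩, fun r => Subtype.ext (map_intCast (algebraMap ℤ R) r)⟩ : T →ₐ[ℤ] R₀) fun x => ⟨⟨x.1, x.2⟩, rfl⟩
  · exact hUf

end Groth.Agent.S9168
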