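import Groth.Statements.S9169
import Groth.Agent.L07.SyntAlg

set_option autoImplicit false
set_option linter.style.haveILetI false
universe u
open Synt PrimeSpectrum

namespace Groth.Agent.S9169

open TensorProduct in
/-- Let R → S be a ring map and q a prime of S lying over p; write Q for the prime of the fibre ring
κ(p) ⊗ S that pulls back to q. Equivalent: (1) some basic open neighbourhood S_g of q is syntomic
over R; (2) some S_g is isomorphic over R to a relative global complete intersection; (3) some S_g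
is of finite presentation over R, the local ring S_q is flat over R (equivalently over R_p), and the
fibre local ring (κ(p) ⊗ S)_Q is a complete intersection over κ(p). Stated as (1) ↔ (2) and (1) ↔
(3). -/
theorem result (R S : Type u) [CommRing R] [CommRing S] [Algebra R S]
    (p : Ideal R) [p.IsPrime] (q : Ideal S) [q.IsPrime] [q.LiesOver p]
    (Q : Ideal (p.Fiber S)) [Q.IsPrime]
    (hQ : Q.comap (Algebra.TensorProduct.includeRight.toRingHom) = q) :
    ((∃ g : S, g ∉ q ∧ Synt.IsSyntomic R (Localization.Away g)) ↔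
        ∃ g : S, g ∉ q ∧ ∃ (n c : ℕ) (F : Fin c → MvPolynomial (Fin n) R), Synt.IsRelGCI R n c F ∧
          Nonempty (Localization.Away g ≃ₐ[R] Synt.RelGCIRing R n c F)) ∧
      ((∃ g : S, g ∉ q ∧ Synt.IsSyntomic R (Localization.Away g)) ↔
        ∃ g : S, g ∉ q ∧ Algebra.FinitePresentation R (Localization.Away g) ∧
          Module.Flat R (Localization.AtPrime q) ∧
          Synt.IsCIOver p.ResidueField (Localization.AtPrime Q)) := by
  have hqp : comap (algebraMap R S) ⟨q, inferInstance⟩ = (⟨p, inferInstance⟩ : PrimeSpectrum R) :=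
    PrimeSpectrum.ext (q.over_def p).symm
  have hQ' : PrimeSpectrum.preimageEquivFiber R S ⟨p, inferInstance⟩ ⟨⟨q, inferInstance⟩, hqp⟩ = ⟨Q, inferInstance⟩ := by
    refine (PrimeSpectrum.preimageEquivFiber R S ⟨p, inferInstance⟩).symm.injective ?_
    rw [Equiv.symm_apply_apply]
    exact Subtype.ext (PrimeSpectrum.ext hQ.symm)
  have h13 : (∃ g : S, g ∉ q ∧ Synt.IsSyntomic R (Localization.Away g)) →
      ∃ g : S, g ∉ q ∧ Algebra.FinitePresentation R (Localization.Away g) ∧
        Module.Flat R (Localization.AtPrime q) ∧ Synt.IsCIOver p.ResidueField (Localization.AtPrime Q) := by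
    rintro ⟨g, hg, hsyn⟩
    obtain ⟨P, hP⟩ : (⟨q, inferInstance⟩ : PrimeSpectrum S) ∈
        Set.range (comap (algebraMap S (Localization.Away g))) := by
      rw [PrimeSpectrum.localization_away_comap_range (Localization.Away g) g]; exact hg
    obtain ⟨hflat, hfp, hfib⟩ := hsyn
    refine ⟨g, hg, hfp, ?_, ?_⟩
    · have hq : q = P.asIdeal.comap (algebraMap S (Localization.Away g)) :=
        (congrArg PrimeSpectrum.asIdeal hP).symm
      subst hq
      haveI := hflat
      exact (Groth.L07.SyntAlg.flat_away g P).mp (Module.Flat.trans R (Localization.Away g) _)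
    · haveI := hfp
      have hP' : comap (algebraMap R (Localization.Away g)) P = ⟨p, inferInstance⟩ := by
        rw [IsScalarTower.algebraMap_eq R S (Localization.Away g), PrimeSpectrum.comap_comp_apply, hP, hqp]
      have h1 := (Groth.L07.SyntAlg.isCIOver_fibre_away g ⟨p, inferInstance⟩ P hP'
        (by rw [hP]; exact hqp)).mpr ((Groth.L07.Synt.isCIOver_atPrime_iff _).mpr
        ((Groth.L07.Synt.isLCIOver_iff.mp (hfib ⟨p, inferInstance⟩)).2 _))
      revert h1
      generalize hw : PrimeSpectrum.preimageEquivFiber R S _ _ = w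
      obtain rfl : w = ⟨Q, inferInstance⟩ := by
        rw [← hw, ← hQ']; congr 2
      exact id
  have h32 : (∃ g : S, g ∉ q ∧ Algebra.FinitePresentation R (Localization.Away g) ∧
        Module.Flat R (Localization.AtPrime q) ∧ Synt.IsCIOver p.ResidueField (Localization.AtPrime Q)) →
      ∃ g : S, g ∉ q ∧ ∃ (n c : ℕ) (F : Fin c → MvPolynomial (Fin n) R), Synt.IsRelGCI R n c F ∧
        Nonempty (Localization.Away g ≃ₐ[R] Synt.RelGCIRing R n c F) := by
    rintro ⟨g, hg, hfp, hflat, hCI⟩
    haveI := hfp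
    obtain ⟨P, hP⟩ : (⟨q, inferInstance⟩ : PrimeSpectrum S) ∈
        Set.range (comap (algebraMap S (Localization.Away g))) := by
      rw [PrimeSpectrum.localization_away_comap_range (Localization.Away g) g]; exact hg
    have hq : q = P.asIdeal.comap (algebraMap S (Localization.Away g)) :=
      (congrArg PrimeSpectrum.asIdeal hP).symm
    subst hq
    haveI : Module.Flat R (Localization.AtPrime P.asIdeal) := (Groth.L07.SyntAlg.flat_away g P).mpr hflat
    have hP' : comap (algebraMap R (Localization.Away g)) P = ⟨p, inferInstance⟩ := by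
      rw [IsScalarTower.algebraMap_eq R S (Localization.Away g), PrimeSpectrum.comap_comp_apply, hP, hqp]
    have hCI' : Groth.L07.CILocus.CIAt R P := by
      rw [Groth.L07.CILocus.ciAt_iff_at P ⟨p, inferInstance⟩ hP', ← Groth.L07.Synt.isCIOver_atPrime_iff (k := p.ResidueField)]
      refine (Groth.L07.SyntAlg.isCIOver_fibre_away g ⟨p, inferInstance⟩ P hP' hqp).mp ?_
      generalize hw : PrimeSpectrum.preimageEquivFiber R S _ _ = w
      obtain rfl : w = ⟨Q, inferInstance⟩ := by rw [← hw, ← hQ']; rfl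
      exact hCI
    obtain ⟨g', hg', n, c, F, hF, ⟨E'⟩⟩ := Groth.L07.SyntAlg.exists_relGCI_nhd' P hCI'
    obtain ⟨g₂, hg₂, ⟨E''⟩⟩ := Groth.L07.SyntAlg.exists_away_away (R := R) g P g' hg'
    exact ⟨g₂, hg₂, n, c, F, hF, ⟨E''.trans E'⟩⟩
  have h21 : (∃ g : S, g ∉ q ∧ ∃ (n c : ℕ) (F : Fin c → MvPolynomial (Fin n) R), Synt.IsRelGCI R n c F ∧
        Nonempty (Localization.Away g ≃ₐ[R] Synt.RelGCIRing R n c F)) →
      ∃ g : S, g ∉ q ∧ Synt.IsSyntomic R (Localization.Away g) := by
    rintro ⟨g, hg, n, c, F, hF, ⟨E⟩⟩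
    exact ⟨g, hg, Groth.L07.SyntAlg.isSyntomic_of_algEquiv E.symm
      (Groth.L07.SyntRel.isSyntomic_of_isRelGCI hF)⟩
  exact ⟨⟨fun h => h32 (h13 h), h21⟩, ⟨h13, fun h => h21 (h32 h)⟩⟩

end Groth.Agent.S9169
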