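import Groth.Statements.S9170
import Groth.Agent.L07.SyntRel

set_option autoImplicit false
set_option linter.style.haveILetI false
universe u
open Synt

namespace Groth.Agent.S9170

/-- For a relative global complete intersection S = R[x_1, …, x_n]/(f_1, …, f_c) over a ring R and a
prime q' of the polynomial ring containing the ideal (f_1, …, f_c): (1) f_1, …, f_c is a regular
sequence in the localization R[x]_{q'} (a local ring); (2) every quotient R[x]_{q'}/(f_1, …, f_i) is
flat over R; (3) the conormal module (f)/(f)² is free over S with basis the classes of the f_i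
(stated as: these classes are linearly independent over S and span). -/
theorem result (R : Type u) [CommRing R] (n c : ℕ)
    (F : Fin c → MvPolynomial (Fin n) R) (h : Synt.IsRelGCI R n c F)
    (q' : Ideal (MvPolynomial (Fin n) R)) [q'.IsPrime] (hq' : Ideal.span (Set.range F) ≤ q') :
    RingTheory.Sequence.IsRegular (Localization.AtPrime q')
        ((List.ofFn F).map (algebraMap (MvPolynomial (Fin n) R) (Localization.AtPrime q'))) ∧
      (∀ i ≤ c, Module.Flat R (Localization.AtPrime q' ⧸ Ideal.ofList
        (((List.ofFn F).take i).map (algebraMap (MvPolynomial (Fin n) R) (Localization.AtPrime q'))))) ∧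
      LinearIndependent (Synt.RelGCIRing R n c F)
        (fun i : Fin c => (Ideal.span (Set.range F)).toCotangent ⟨F i, Ideal.subset_span (Set.mem_range_self i)⟩) ∧
      Submodule.span (Synt.RelGCIRing R n c F) (Set.range
        (fun i : Fin c => (Ideal.span (Set.range F)).toCotangent ⟨F i, Ideal.subset_span (Set.mem_range_self i)⟩)) = ⊤ := by
  classical
  obtain ⟨h1, h2⟩ := Groth.L07.SyntRel.transversal_of_isRelGCI h q' hq'
  let I := Ideal.span (Set.range F)
  refine ⟨h1, fun i hi => Groth.L07.SyntRel.flat_quot q' _ (h2 i hi), ?_, ?_⟩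
  · rw [Fintype.linearIndependent_iff]
    intro a ha i
    choose y hy using fun j => Ideal.Quotient.mk_surjective (a j)
    have h3 : I.toCotangent (∑ j, y j • (⟨F j, Ideal.subset_span (Set.mem_range_self j)⟩ : I)) = 0 := by
      rw [map_sum]
      refine (Finset.sum_congr rfl fun j _ => ?_).trans ha
      rw [map_smul, ← hy j]
      rfl
    rw [Ideal.toCotangent_eq_zero] at h3
    simp only [AddSubmonoidClass.coe_finsetSum, Submodule.coe_smul, smul_eq_mul] at h3
    rw [← hy i, Ideal.Quotient.eq_zero_iff_mem]
    exact Groth.L07.SyntRel.mem_span_of_sum_mem_sq h y h3 i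
  · rw [eq_top_iff]
    intro z _
    obtain ⟨⟨x, hx⟩, rfl⟩ := I.toCotangent_surjective z
    obtain ⟨a, ha⟩ := (Submodule.mem_span_range_iff_exists_fun _).mp hx
    rw [show (⟨x, hx⟩ : I) = ∑ j, a j • (⟨F j, Ideal.subset_span (Set.mem_range_self j)⟩ : I) from
      Subtype.ext (by simpa [AddSubmonoidClass.coe_finsetSum] using ha.symm), map_sum]
    refine Submodule.sum_mem _ fun j _ => ?_
    rw [map_smul]
    exact Submodule.smul_mem _ (Ideal.Quotient.mk I (a j)) (Submodule.subset_span (Set.mem_range_self (f := fun i : Fin c => I.toCotangent ⟨F i, Ideal.subset_span (Set.mem_range_self i)⟩) j))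

end Groth.Agent.S9170
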