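import Groth.Statements.S9171
import Groth.Agent.L07.SyntFieldExtra

set_option autoImplicit false
set_option linter.style.haveILetI false
universe u
open Synt

namespace Groth.Agent.S9171

/-- Let S = k[x_1, …, x_n]/I over a field k, q a prime of S, q' the corresponding prime of the
polynomial ring and c the integer with c + ht(q) = ht(q'). Equivalent: (1) S_g is a global complete
intersection over k for some g ∉ q; (2) the extension of I to the local ring k[x]_{q'} is generated
by c elements; (5) that extension is generated by a regular sequence. Stated as (1) ↔ (2) and (1) ↔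
(5). -/
theorem result (k : Type u) [Field k] (n : ℕ)
    (I : Ideal (MvPolynomial (Fin n) k)) (q : Ideal (MvPolynomial (Fin n) k ⧸ I)) [q.IsPrime] (c : ℕ)
    (hc : (c : ℕ∞) + q.height = (q.comap (Ideal.Quotient.mk I)).height) :
    ((∃ g : MvPolynomial (Fin n) k ⧸ I, g ∉ q ∧ Synt.IsGlobalCI k (Localization.Away g)) ↔
        ∃ s : Finset (Localization.AtPrime (q.comap (Ideal.Quotient.mk I))), s.card = c ∧
          Ideal.span (s : Set _) =
            I.map (algebraMap _ (Localization.AtPrime (q.comap (Ideal.Quotient.mk I))))) ∧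
      ((∃ g : MvPolynomial (Fin n) k ⧸ I, g ∉ q ∧ Synt.IsGlobalCI k (Localization.Away g)) ↔
        ∃ rs : List (Localization.AtPrime (q.comap (Ideal.Quotient.mk I))),
          RingTheory.Sequence.IsRegular (Localization.AtPrime (q.comap (Ideal.Quotient.mk I))) rs ∧
          Ideal.ofList rs =
            I.map (algebraMap _ (Localization.AtPrime (q.comap (Ideal.Quotient.mk I))))) := by
  classical
  let Q := q.comap (Ideal.Quotient.mk I)
  let R := Localization.AtPrime Q
  haveI : IsRegularLocalRing R := IsRegularRing.isRegularLocalRing_localization Q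
  haveI : IsNoetherianRing (MvPolynomial (Fin n) k ⧸ I) := inferInstance
  obtain ⟨a, ha⟩ := ENat.ne_top_iff_exists.mp (Ideal.height_ne_top (Ideal.IsPrime.ne_top (inferInstance : Q.IsPrime)))
  obtain ⟨b, hb⟩ := ENat.ne_top_iff_exists.mp (Ideal.height_ne_top (Ideal.IsPrime.ne_top ‹q.IsPrime›))
  have habc : c + b = a := by
    have hc' : (c : ℕ∞) + q.height = Q.height := hc
    rw [← ha, ← hb] at hc'
    exact_mod_cast hc'
  have hR : ringKrullDim R = (a : WithBot ℕ∞) := by
    rw [IsLocalization.AtPrime.ringKrullDim_eq_height Q R, ← ha]; rfl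
  have hQ : ringKrullDim (R ⧸ I.map (algebraMap _ R)) = (b : WithBot ℕ∞) := by
    rw [Groth.L07.Synt.ringKrullDim_quotient_map, ← hb]; rfl
  have hJ : I.map (algebraMap _ R) ≤ IsLocalRing.maximalIdeal R := by
    rw [← Localization.AtPrime.map_eq_maximalIdeal]
    exact Ideal.map_mono fun y hy => by
      show Ideal.Quotient.mk I y ∈ q
      rw [Ideal.Quotient.eq_zero_iff_mem.mpr hy]; exact zero_mem _
  obtain ⟨hlen, hlen'⟩ := Groth.L07.Synt.regular_of_dim hJ hR hQ habc
  have h15 : (∃ g : MvPolynomial (Fin n) k ⧸ I, g ∉ q ∧ Synt.IsGlobalCI k (Localization.Away g)) ↔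
      CInt.IsRegularIdeal (I.map (algebraMap _ R)) := by
    obtain ⟨h1, h2⟩ := Groth.L07.CILocus.localRingHom_surjective (Ideal.Quotient.mk I) Ideal.Quotient.mk_surjective q
    rw [Ideal.mk_ker] at h2
    haveI := isNoetherianRing_of_surjective _ _ _ h1
    rw [← h2, ← Groth.L07.Synt.isCI_atPrime_iff_exists q]
    exact ⟨Groth.L07.RegQuot.isRegularIdeal_of_isCompleteIntersection _ h1,
      Groth.L07.RegQuot.isCompleteIntersection_of_isRegularIdeal _ h1⟩
  refine ⟨h15.trans ⟨fun ⟨rs, hrs, hk⟩ => ?_, fun ⟨s, hs, hk⟩ => ?_⟩, h15⟩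
  · have hnd : rs.Nodup := by
      have hmin := Groth.L07.RegIdeal.isMin_of_isRegular (f := rs.get) (by rw [List.ofFn_get]; exact hrs)
      rw [List.nodup_iff_injective_get]
      intro i j hij
      by_contra hne
      have h1 := hmin.2 (fun m => (if m = i then 1 else 0) - (if m = j then 1 else 0)) (by
        simp only [List.get_eq_getElem] at hij
        simp [sub_mul, Finset.sum_sub_distrib, hij]) i
      simp only [hne, if_true, if_false, sub_zero] at h1
      exact (IsLocalRing.maximalIdeal.isMaximal R).ne_top ((Ideal.eq_top_iff_one _).mpr h1)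
    refine ⟨rs.toFinset, by rw [List.toFinset_card_of_nodup hnd, hlen' rs hk hrs], ?_⟩
    rw [← hk, List.coe_toFinset]
  · have hl : Ideal.ofList s.toList = I.map (algebraMap _ R) := by
      rw [← hk, Ideal.ofList]
      congr 1
      ext y
      simp
    exact ⟨s.toList, hlen s.toList hl (by rw [Finset.length_toList, hs]), hl⟩

end Groth.Agent.S9171
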