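import Groth.Statements.S9177
import Mathlib.Algebra.Colimit.Ring
import Mathlib.Algebra.Colimit.Module
import Mathlib.LinearAlgebra.TensorProduct.DirectLimit
import Mathlib.RingTheory.TensorProduct.Maps
import Mathlib.RingTheory.FiniteType
import Mathlib.Data.Fintype.Order

set_option autoImplicit false
universe u
open CAlg

namespace Groth.Agent.S9177

open TensorProduct in
/-- Let R = colim R_i be a directed colimit of A-algebras (compatible transition maps), B and C
A-algebras. (1) If B is of finite type over A, two A-algebra maps B → C whose base changes to R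
coincide already have equal base changes to some R_i. (2) If C is of finite type over A and u : B →
C has surjective base change to R, then its base change to some R_i is surjective. (The A-algebra
structure on R is through any stage R_l; it does not depend on l.) -/
theorem result {ι : Type u} [Preorder ι]
    [Nonempty ι] [IsDirectedOrder ι] (G : ι → Type u) [∀ i, CommRing (G i)]
    (f : ∀ i j, i ≤ j → G i →+* G j) [DirectedSystem G (fun i j h => f i j h)]
    (A : Type u) [CommRing A] [∀ i, Algebra A (G i)]
    (hf : ∀ i j (h : i ≤ j), (f i j h).comp (algebraMap A (G i)) = algebraMap A (G j)) (l : ι)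
    (B C : Type u) [CommRing B] [CommRing C] [Algebra A B] [Algebra A C] :
    letI : Algebra A (Ring.DirectLimit G (fun i j h => f i j h)) :=
      ((Ring.DirectLimit.of G (fun i j h => f i j h) l).comp (algebraMap A (G l))).toAlgebra
    (Algebra.FiniteType A B → ∀ u u' : B →ₐ[A] C,
        Algebra.TensorProduct.map (AlgHom.id A (Ring.DirectLimit G (fun i j h => f i j h))) u =
            Algebra.TensorProduct.map (AlgHom.id A (Ring.DirectLimit G (fun i j h => f i j h))) u' →
          ∃ i : ι, Algebra.TensorProduct.map (AlgHom.id A (G i)) u =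
            Algebra.TensorProduct.map (AlgHom.id A (G i)) u') ∧
      (Algebra.FiniteType A C → ∀ u : B →ₐ[A] C,
        Function.Surjective
            (Algebra.TensorProduct.map (AlgHom.id A (Ring.DirectLimit G (fun i j h => f i j h))) u) →
          ∃ i : ι, Function.Surjective (Algebra.TensorProduct.map (AlgHom.id A (G i)) u)) := by
  classical
  letI algD : Algebra A (Ring.DirectLimit G (fun i j h => f i j h)) :=
    ((Ring.DirectLimit.of G (fun i j h => f i j h) l).comp (algebraMap A (G l))).toAlgebra
  let D := Ring.DirectLimit G (fun i j h => f i j h)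
  have hcommf : ∀ i j (h : i ≤ j) (a : A), f i j h (algebraMap A (G i) a) = algebraMap A (G j) a := fun i j h a =>
    RingHom.congr_fun (hf i j h) a
  have hcomm : ∀ i (a : A), Ring.DirectLimit.of G (fun i j h => f i j h) i (algebraMap A (G i) a) = algebraMap A D a := by
    intro i a
    obtain ⟨j, hij, hlj⟩ := exists_ge_ge i l
    rw [← Ring.DirectLimit.of_f hij, hcommf, ← hcommf l j hlj, Ring.DirectLimit.of_f hlj]
    rfl
  let fl : ∀ i j, i ≤ j → G i →ₗ[A] G j := fun i j h =>
    { toFun := f i j h, map_add' := map_add _, map_smul' := fun a x => by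
        simp only [Algebra.smul_def, map_mul, hcommf, RingHom.id_apply] }
  haveI : DirectedSystem G (fun i j h => fl i j h) :=
    ⟨fun i x => DirectedSystem.map_self' (f := fun i j h => f i j h) x,
     fun _ _ _ hij hjk x => DirectedSystem.map_map' (f := fun i j h => f i j h) hij hjk x⟩
  let oA : ∀ i, G i →ₐ[A] D := fun i =>
    { Ring.DirectLimit.of G (fun i j h => f i j h) i with commutes' := hcomm i }
  let toD : Module.DirectLimit G fl →ₗ[A] D :=
    Module.DirectLimit.lift A ι G fl (fun i => (oA i).toLinearMap) (fun i j h x => Ring.DirectLimit.of_f h x)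
  have htoD : Function.Bijective toD := by
    constructor
    · rw [injective_iff_map_eq_zero]
      intro z hz
      obtain ⟨i, x, rfl⟩ := Module.DirectLimit.exists_of z
      rw [Module.DirectLimit.lift_of] at hz
      obtain ⟨j, hij, hj⟩ := Ring.DirectLimit.of.zero_exact hz
      rw [← Module.DirectLimit.of_f (f := fl) (hij := hij)]
      show Module.DirectLimit.of A ι G fl j (f i j hij x) = 0
      rw [hj, map_zero]
    · intro z
      obtain ⟨i, x, rfl⟩ := Ring.DirectLimit.exists_of z
      exact ⟨Module.DirectLimit.of A ι G fl i x, Module.DirectLimit.lift_of _ _ _⟩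
  let eD := LinearEquiv.ofBijective toD htoD
  let fA : ∀ i j, i ≤ j → G i →ₐ[A] G j := fun i j h => { f i j h with commutes' := hcommf i j h }
  have hexact : ∀ (M : Type u) [AddCommGroup M] [Module A M] i (z : G i ⊗[A] M),
      (oA i).toLinearMap.rTensor M z = 0 → ∃ j, ∃ h : i ≤ j, (fl i j h).rTensor M z = 0 := by
    intro M _ _ i z hz
    have h0 : toD.rTensor M ((Module.DirectLimit.of A ι G fl i).rTensor M z) = 0 := by
      rw [← LinearMap.comp_apply, ← LinearMap.rTensor_comp]
      rw [show toD ∘ₗ Module.DirectLimit.of A ι G fl i = (oA i).toLinearMap from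
        LinearMap.ext fun x => by simp only [toD, LinearMap.comp_apply, Module.DirectLimit.lift_of]]
      exact hz
    have h1 := congrArg (TensorProduct.directLimitLeft fl M) ((LinearEquiv.map_eq_zero_iff (eD.rTensor M)).mp h0)
    rw [map_zero] at h1
    have hR : ∀ w : G i ⊗[A] M, TensorProduct.directLimitLeft fl M ((Module.DirectLimit.of A ι G fl i).rTensor M w) =
        Module.DirectLimit.of A ι (fun i => G i ⊗[A] M) (fun i j h => (fl i j h).rTensor M) i w := by
      intro w
      induction w using TensorProduct.induction_on with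
      | zero => simp
      | tmul a b => exact TensorProduct.directLimitLeft_tmul_of fl M a b
      | add a b ha hb => rw [map_add, map_add, ha, hb, map_add]
    rw [hR] at h1
    haveI : DirectedSystem (fun i => G i ⊗[A] M) (fun i j h => (fl i j h).rTensor M) :=
      ⟨fun i x => by
        rw [show fl i i le_rfl = LinearMap.id from LinearMap.ext fun y => DirectedSystem.map_self' (f := fun i j h => fl i j h) y, LinearMap.rTensor_id]
        rfl,
       fun _ _ _ hij hjk x => by
        rw [← LinearMap.comp_apply, ← LinearMap.rTensor_comp]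
        congr 2
        exact LinearMap.ext fun y => DirectedSystem.map_map' (f := fun i j h => fl i j h) hij hjk y⟩
    exact Module.DirectLimit.of.zero_exact h1
  have hlift : ∀ (M : Type u) [AddCommGroup M] [Module A M] (w : D ⊗[A] M), ∃ i, ∃ z : G i ⊗[A] M, (oA i).toLinearMap.rTensor M z = w := by
    intro M _ _ w
    induction w using TensorProduct.induction_on with
    | zero => exact ⟨l, 0, map_zero _⟩
    | tmul a b =>
      obtain ⟨i, x, rfl⟩ := Ring.DirectLimit.exists_of a
      exact ⟨i, x ⊗ₜ b, rfl⟩
    | add a b ha hb =>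
      obtain ⟨i, x, rfl⟩ := ha
      obtain ⟨j, y, rfl⟩ := hb
      obtain ⟨k, hik, hjk⟩ := exists_ge_ge i j
      refine ⟨k, (fl i k hik).rTensor M x + (fl j k hjk).rTensor M y, ?_⟩
      have e : ∀ i (h : i ≤ k), (oA k).toLinearMap ∘ₗ fl i k h = (oA i).toLinearMap := fun i h =>
        LinearMap.ext fun z => Ring.DirectLimit.of_f h z
      rw [map_add, ← LinearMap.comp_apply, ← LinearMap.rTensor_comp, e, ← LinearMap.comp_apply, ← LinearMap.rTensor_comp, e]
  -- naturality
  have hnat : ∀ {P Q : Type u} [CommRing P] [CommRing Q] [Algebra A P] [Algebra A Q] {U V : Type u} [CommRing U] [CommRing V]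
      [Algebra A U] [Algebra A V] (g : P →ₐ[A] Q) (v : U →ₐ[A] V) (z : P ⊗[A] U),
      g.toLinearMap.rTensor V (Algebra.TensorProduct.map (AlgHom.id A P) v z) =
        Algebra.TensorProduct.map (AlgHom.id A Q) v (g.toLinearMap.rTensor U z) := by
    intro P Q _ _ _ _ U V _ _ _ _ g v z
    induction z using TensorProduct.induction_on with
    | zero => simp
    | tmul a b => simp
    | add a b ha hb => simp only [map_add, ha, hb]
  refine ⟨fun hB u u' huu => ?_, fun hC u hu => ?_⟩
  · obtain ⟨s, hs⟩ := hB.out
    have hb : ∀ b : s, ∃ j, (1 : G j) ⊗ₜ[A] u b = (1 : G j) ⊗ₜ[A] u' b := by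
      intro b
      have h0 : (oA l).toLinearMap.rTensor C ((1 : G l) ⊗ₜ[A] (u b - u' b)) = 0 := by
        have := DFunLike.congr_fun huu ((1 : D) ⊗ₜ[A] (b : B))
        simp only [Algebra.TensorProduct.map_tmul, AlgHom.coe_id, id_eq] at this
        rw [LinearMap.rTensor_tmul, TensorProduct.tmul_sub, AlgHom.toLinearMap_apply, map_one, this, sub_self]
      obtain ⟨j, hlj, hj⟩ := hexact C l _ h0
      refine ⟨j, sub_eq_zero.mp ?_⟩
      rw [← TensorProduct.tmul_sub, ← hj, LinearMap.rTensor_tmul]
      congr 1
      exact (map_one (f l j hlj)).symm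
    choose jb hjb using hb
    obtain ⟨j, hj⟩ := Finite.exists_le jb
    refine ⟨j, Algebra.TensorProduct.ext (by ext; simp) (AlgHom.ext_of_adjoin_eq_top hs fun b hb => ?_)⟩
    have := congrArg ((fA (jb ⟨b, hb⟩) j (hj _)).toLinearMap.rTensor C) (hjb ⟨b, hb⟩)
    simp only [LinearMap.rTensor_tmul, AlgHom.toLinearMap_apply, map_one] at this
    simpa using this
  · obtain ⟨s, hs⟩ := hC.out
    have hc : ∀ c : s, ∃ j, (1 : G j) ⊗ₜ[A] (c : C) ∈ Set.range (Algebra.TensorProduct.map (AlgHom.id A (G j)) u) := by
      intro c
      obtain ⟨w, hw⟩ := hu ((1 : D) ⊗ₜ[A] (c : C))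
      obtain ⟨i, z, rfl⟩ := hlift B w
      have h0 : (oA i).toLinearMap.rTensor C (Algebra.TensorProduct.map (AlgHom.id A (G i)) u z - (1 : G i) ⊗ₜ[A] (c : C)) = 0 := by
        rw [map_sub, hnat, hw, LinearMap.rTensor_tmul, AlgHom.toLinearMap_apply, map_one, sub_self]
      obtain ⟨j, hij, hj⟩ := hexact C i _ h0
      refine ⟨j, (fA i j hij).toLinearMap.rTensor B z, ?_⟩
      rw [← hnat, ← sub_eq_zero]
      rw [map_sub, LinearMap.rTensor_tmul] at hj
      rw [show fl i j hij 1 = 1 from map_one (f i j hij)] at hj
      exact hj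
    choose jc hjc using hc
    obtain ⟨j, hj⟩ := Finite.exists_le (fun o : Option s => o.elim l jc)
    refine ⟨j, fun z => ?_⟩
    have hall : ∀ c : C, (1 : G j) ⊗ₜ[A] c ∈ (Algebra.TensorProduct.map (AlgHom.id A (G j)) u).range := by
      intro c
      have : c ∈ Algebra.adjoin A (s : Set C) := hs ▸ Algebra.mem_top
      refine (show Algebra.adjoin A (s : Set C) ≤ (Algebra.TensorProduct.map (AlgHom.id A (G j)) u).range.comap Algebra.TensorProduct.includeRight from ?_) this
      rw [Algebra.adjoin_le_iff]
      intro x hx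
      obtain ⟨w, hw⟩ := hjc ⟨x, hx⟩
      refine ⟨(fA (jc ⟨x, hx⟩) j (hj (some ⟨x, hx⟩))).toLinearMap.rTensor B w, ?_⟩
      show Algebra.TensorProduct.map (AlgHom.id A (G j)) u _ = (1 : G j) ⊗ₜ[A] x
      rw [← hnat, hw, LinearMap.rTensor_tmul, AlgHom.toLinearMap_apply, map_one]
    suffices z ∈ (Algebra.TensorProduct.map (AlgHom.id A (G j)) u).range from this
    induction z using TensorProduct.induction_on with
    | zero => exact zero_mem _
    | tmul a c =>
      rw [show a ⊗ₜ[A] c = (a ⊗ₜ[A] (1 : C)) * ((1 : G j) ⊗ₜ[A] c) by simp]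
      exact mul_mem ⟨a ⊗ₜ 1, by simp⟩ (hall c)
    | add a b ha hb => exact add_mem ha hb

end Groth.Agent.S9177
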