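import Groth.Statements.S9178
import Groth.Agent.L03.ModJac
import Mathlib.RingTheory.Kaehler.Basic
import Mathlib.RingTheory.Ideal.Cotangent

set_option autoImplicit false
universe u
open CAlg

open TensorProduct

namespace Groth.Agent.S9178

/-- For ring maps A → B → C with A → C surjective, writing I = ker(A → C) and J = ker(B → C), the
sequence I/I² → J/J² → C ⊗_B Ω_{B/A} → 0 is exact. Stated: the image of I/I² in J/J² is exactly the
kernel of J/J² → C ⊗_B Ω_{B/A} (surjectivity of the latter map is the standard conormal sequence for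
the surjection B → C). -/
theorem result (A B C : Type u) [CommRing A] [CommRing B]
    [CommRing C] [Algebra A B] [Algebra B C] [Algebra A C] [IsScalarTower A B C]
    (hAC : Function.Surjective (algebraMap A C))
    (h : RingHom.ker (algebraMap A C) ≤ (RingHom.ker (algebraMap B C)).comap (Algebra.ofId A B)) :
    Function.Exact
      (Ideal.mapCotangent (RingHom.ker (algebraMap A C)) (RingHom.ker (algebraMap B C)) (Algebra.ofId A B) h)
      (KaehlerDifferential.kerCotangentToTensor A B C) := by
  classical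
  set I := RingHom.ker (algebraMap A C)
  set J := RingHom.ker (algebraMap B C)
  let φ := algebraMap A B
  have hBC : Function.Surjective (algebraMap B C) := fun z => by
    obtain ⟨a, rfl⟩ := hAC z
    exact ⟨φ a, (IsScalarTower.algebraMap_apply A B C a).symm⟩
  choose a ha using fun b : B => hAC (algebraMap B C b)
  have hmem : ∀ b, b - φ (a b) ∈ J := fun b => by
    rw [RingHom.mem_ker, map_sub, ← IsScalarTower.algebraMap_apply, ha, sub_self]
  let μ := Ideal.mapCotangent I J (Algebra.ofId A B) h
  have hkill : ∀ (b : B) (_ : b ∈ J) (y : J.Cotangent), b • y = 0 := by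
    intro b hb y
    obtain ⟨w, rfl⟩ := Ideal.toCotangent_surjective _ y
    rw [← map_smul, Ideal.toCotangent_eq_zero, Submodule.coe_smul, smul_eq_mul, pow_two]
    exact Ideal.mul_mem_mul hb w.2
  let N : Submodule B J.Cotangent := Submodule.span B (Set.range μ)
  have hN : ∀ y ∈ N, y ∈ Set.range μ := by
    intro y hy
    induction hy using Submodule.span_induction with
    | mem y hy => exact hy
    | zero => exact ⟨0, map_zero μ⟩
    | add y z _ _ hy hz =>
      obtain ⟨y', rfl⟩ := hy
      obtain ⟨z', rfl⟩ := hz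
      exact ⟨y' + z', map_add μ y' z'⟩
    | smul b y _ hy =>
      obtain ⟨y', rfl⟩ := hy
      refine ⟨a b • y', ?_⟩
      have h0 := hkill _ (hmem b) (μ y')
      rw [sub_smul, sub_eq_zero] at h0
      rw [h0, map_smul, algebraMap_smul]
  let g : J →ₗ[B] J.Cotangent ⧸ N := N.mkQ ∘ₗ J.toCotangent
  have hg : ∀ (b : B) (a₀ : A) (hb : b - φ a₀ ∈ J), g ⟨b - φ (a b), hmem b⟩ = g ⟨b - φ a₀, hb⟩ := by
    intro b a₀ hb
    have hI : a₀ - a b ∈ I := by
      have : algebraMap B C (b - φ a₀) = 0 := hb
      rw [map_sub, ← IsScalarTower.algebraMap_apply, sub_eq_zero] at this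
      rw [RingHom.mem_ker, map_sub, ha, this, sub_self]
    rw [← sub_eq_zero, ← map_sub]
    have : (⟨b - φ (a b), hmem b⟩ : J) - ⟨b - φ a₀, hb⟩ = ⟨φ (a₀ - a b), h hI⟩ :=
      Subtype.ext (by simp [φ])
    rw [this]
    exact (Submodule.Quotient.mk_eq_zero N).2 (Submodule.subset_span ⟨Ideal.toCotangent I ⟨_, hI⟩, rfl⟩)
  let D₀ : B →ₗ[A] J.Cotangent ⧸ N :=
    { toFun := fun b => g ⟨b - φ (a b), hmem b⟩
      map_add' := fun b c => by
        rw [← map_add, hg (b + c) (a b + a c) (by
          rw [map_add, add_sub_add_comm]; exact add_mem (hmem b) (hmem c))]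
        exact congrArg g (Subtype.ext (by simp [φ, add_sub_add_comm]))
      map_smul' := fun r b => by
        rw [RingHom.id_apply, hg (r • b) (r * a b) (by
          rw [map_mul, Algebra.smul_def, ← mul_sub]; exact J.mul_mem_left _ (hmem b)),
          ← algebraMap_smul B r (g _), ← map_smul]
        exact congrArg g (Subtype.ext (by simp [φ, Algebra.smul_def, mul_sub])) }
  have hgkill : ∀ (c : B) (_ : c ∈ J) (y : J.Cotangent ⧸ N), c • y = 0 := by
    intro c hc y
    obtain ⟨y, rfl⟩ := Submodule.mkQ_surjective N y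
    rw [← map_smul, hkill c hc, map_zero]
  let D : Derivation A B (J.Cotangent ⧸ N) := Derivation.mk' D₀ fun b c => by
    have hb : b * c - φ (a b * a c) = b • (c - φ (a c)) + φ (a c) • (b - φ (a b)) := by
      simp only [map_mul, smul_eq_mul]; ring
    change g ⟨_, hmem (b * c)⟩ = b • g ⟨_, hmem c⟩ + c • g ⟨_, hmem b⟩
    have hJ : b * c - φ (a b * a c) ∈ J := by
      rw [hb]; exact add_mem (J.mul_mem_left _ (hmem c)) (J.mul_mem_left _ (hmem b))
    rw [hg (b * c) (a b * a c) hJ]
    have h0 := hgkill _ (hmem c) (g ⟨_, hmem b⟩)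
    rw [sub_smul, sub_eq_zero] at h0
    rw [h0, ← map_smul, ← map_smul, ← map_add]
    exact congrArg g (Subtype.ext hb)
  intro y
  constructor
  · intro hy
    obtain ⟨⟨x, hx⟩, rfl⟩ := Ideal.toCotangent_surjective _ y
    rw [KaehlerDifferential.kerCotangentToTensor_toCotangent] at hy
    let e := (Algebra.linearMap B C).quotKerEquivOfSurjective hBC
    have h1 : (1 : B ⧸ LinearMap.ker (Algebra.linearMap B C)) ⊗ₜ[B] (KaehlerDifferential.D A B x) = 0 := by
      apply (TensorProduct.congr e (LinearEquiv.refl B (KaehlerDifferential A B))).injective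
      rw [map_zero, TensorProduct.congr_tmul]
      have : e (1 : B ⧸ LinearMap.ker (Algebra.linearMap B C)) = 1 := map_one (algebraMap B C)
      rw [this]
      exact hy
    rw [Groth.L03.ModJac.one_tmul_eq_zero_iff] at h1
    have h2 : D.liftKaehlerDifferential (KaehlerDifferential.D A B x) = 0 := by
      refine Submodule.smul_induction_on h1 (fun c hc w _ => ?_) (fun p q hp hq => ?_)
      · rw [map_smul]; exact hgkill c hc _
      · rw [map_add, hp, hq, add_zero]
    rw [Derivation.liftKaehlerDifferential_comp_D] at h2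
    have hx0 : x - φ 0 ∈ J := by rw [map_zero, sub_zero]; exact hx
    change g ⟨_, hmem x⟩ = 0 at h2
    rw [hg x 0 hx0, show (⟨x - φ 0, hx0⟩ : J) = ⟨x, hx⟩ from Subtype.ext (by simp)] at h2
    exact hN _ ((Submodule.Quotient.mk_eq_zero N).1 h2)
  · rintro ⟨z, rfl⟩
    obtain ⟨⟨i, hi⟩, rfl⟩ := Ideal.toCotangent_surjective _ z
    rw [Ideal.mapCotangent_toCotangent, KaehlerDifferential.kerCotangentToTensor_toCotangent]
    simp

end Groth.Agent.S9178
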