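import Groth.Statements.S9179
import Groth.Agent.L27.IndEtale
-- import your own Groth.Agent.* helpers here

set_option autoImplicit false
universe u
open CategoryTheory CategoryTheory.Limits
open CAlg

namespace Groth.Agent.S9179

/-- An R-algebra of finite type is the colimit of a filtered system of finitely presented R-algebras
whose transition maps are all surjective. -/
theorem result (R A : Type u) [CommRing R] [CommRing A]
    [Algebra R A] [Algebra.FiniteType R A] :
    ∃ (I : Type u) (_ : SmallCategory I) (_ : IsFiltered I) (D : I ⥤ Under (CommRingCat.of R))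
      (c : Cocone D) (_ : IsColimit c),
      (∀ i, (D.obj i).hom.hom.FinitePresentation) ∧
      (∀ (i j : I) (φ : i ⟶ j), Function.Surjective (D.map φ).right.hom) ∧
      Nonempty (c.pt ≅ Under.mk (CommRingCat.ofHom (algebraMap R A))) := by
  classical
  obtain ⟨n, π, hπ⟩ := Algebra.FiniteType.iff_quotient_mvPolynomial''.1 (inferInstance : Algebra.FiniteType R A)
  let P := MvPolynomial (Fin n) R
  let I := Finset (RingHom.ker π.toRingHom)
  let J : I → Ideal P := fun S => Ideal.span ((↑) '' (S : Set (RingHom.ker π.toRingHom)))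
  have hmono : ∀ {S T : I}, S ≤ T → J S ≤ J T := fun h => Ideal.span_mono (Set.image_mono h)
  let D : I ⥤ Under (CommRingCat.of R) :=
    { obj := fun S => CommRingCat.mkUnder (CommRingCat.of R) (P ⧸ J S)
      map := fun {S T} h => (Ideal.Quotient.factorₐ R (hmono (leOfHom h)) : (P ⧸ J S) →ₐ[R] P ⧸ J T).toUnder
      map_id := fun S => by
        ext x
        obtain ⟨x, rfl⟩ := Ideal.Quotient.mk_surjective x
        rfl
      map_comp := fun f g => by
        ext x
        obtain ⟨x, rfl⟩ := Ideal.Quotient.mk_surjective x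
        rfl }
  have hJ : ∀ S, ∀ a ∈ J S, π a = 0 := fun S => by
    show J S ≤ RingHom.ker π
    refine Ideal.span_le.2 ?_
    rintro _ ⟨a, -, rfl⟩
    exact a.2
  let c : Cocone D :=
    { pt := CommRingCat.mkUnder (CommRingCat.of R) A
      ι := { app := fun S => (Ideal.Quotient.liftₐ (J S) π (hJ S)).toUnder
             naturality := fun S T h => by
              ext x
              obtain ⟨x, rfl⟩ := Ideal.Quotient.mk_surjective x
              rfl } }
  refine ⟨I, inferInstance, inferInstance, D, c,
    Groth.L27.IndEtale.isColimitOfElements D c ?_ ?_, fun S => ?_, fun S T h => ?_, ⟨Iso.refl _⟩⟩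
  · intro x
    obtain ⟨p, hp⟩ := hπ x
    exact ⟨∅, Ideal.Quotient.mk _ p, hp⟩
  · intro S x y hxy
    obtain ⟨x, rfl⟩ := Ideal.Quotient.mk_surjective x
    obtain ⟨y, rfl⟩ := Ideal.Quotient.mk_surjective y
    have hk : x - y ∈ RingHom.ker π.toRingHom := by
      rw [RingHom.mem_ker, map_sub, sub_eq_zero]; exact hxy
    refine ⟨insert ⟨x - y, hk⟩ S, homOfLE (Finset.subset_insert _ _), ?_⟩
    show Ideal.Quotient.mk _ x = Ideal.Quotient.mk _ y
    rw [Ideal.Quotient.mk_eq_mk_iff_sub_mem]
    exact Ideal.subset_span ⟨⟨x - y, hk⟩, Finset.mem_insert_self _ _, rfl⟩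
  · show (algebraMap R (P ⧸ J S)).FinitePresentation
    refine RingHom.finitePresentation_algebraMap.mpr ?_
    exact Algebra.FinitePresentation.quotient (Submodule.fg_span ((S.finite_toSet).image _))
  · exact Ideal.Quotient.factor_surjective (hmono (leOfHom h))

end Groth.Agent.S9179
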