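import Groth.Statements.S9182
import Groth.Agent.S9162
import Mathlib.RingTheory.Extension.Cotangent.LocalizationAway
import Mathlib.RingTheory.Kaehler.JacobiZariski
import Mathlib.RingTheory.Smooth.StandardSmoothCotangent
import Mathlib.RingTheory.Etale.Basic
import Mathlib.RingTheory.Localization.BaseChange

set_option autoImplicit false
universe u
open CAlg

namespace Groth.Agent.S9182

variable {_unused : Unit}

open TensorProduct Algebra Algebra.Extension in
/-- Extensions with isomorphic rings have isomorphic cotangents. -/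
noncomputable def cotangentCongr {R S : Type u} [CommRing R] [CommRing S] [Algebra R S] (P Q : Extension.{u} R S)
    (e : P.Ring ≃+* Q.Ring) (he : ∀ r, e (algebraMap R P.Ring r) = algebraMap R Q.Ring r)
    (he' : ∀ x, algebraMap Q.Ring S (e x) = algebraMap P.Ring S x) : P.Cotangent ≃ₗ[S] Q.Cotangent :=
  let f : P.Hom Q := ⟨e.toRingHom, fun r => by simpa using he r, fun x => by simpa using he' x⟩
  let g : Q.Hom P := ⟨e.symm.toRingHom, fun r => e.injective (by simpa using (he r).symm),
    fun x => by simpa using (he' (e.symm x)).symm⟩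
  LinearEquiv.ofLinearMap (Cotangent.map f) (Cotangent.map g)
    (LinearMap.ext fun x => by
      obtain ⟨x, rfl⟩ := Cotangent.mk_surjective x
      simp only [LinearMap.comp_apply, Cotangent.map_mk, LinearMap.id_apply]
      congr 1
      exact Subtype.ext (e.apply_symm_apply x.1))
    (LinearMap.ext fun x => by
      obtain ⟨x, rfl⟩ := Cotangent.mk_surjective x
      simp only [LinearMap.comp_apply, Cotangent.map_mk, LinearMap.id_apply]
      congr 1
      exact Subtype.ext (e.symm_apply_apply x.1))

/-- Cancel an invertible block of an isomorphism. -/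
noncomputable def cancelBlock {T : Type u} [CommRing T] {X A V D B Y : Type*} [AddCommGroup X] [Module T X] [AddCommGroup A] [Module T A]
    [AddCommGroup V] [Module T V] [AddCommGroup D] [Module T D] [AddCommGroup B] [Module T B] [AddCommGroup Y] [Module T Y]
    (Φ : ((X × A) × V) ≃ₗ[T] (D × (B × Y))) (d : A →ₗ[T] B) (hd : Function.Bijective d)
    (hb : ∀ a c, (Φ ((c, a), 0)).2.1 = d a) : (X × V) ≃ₗ[T] (D × Y) :=
  let di := (LinearEquiv.ofBijective d hd).symm
  let σ : X × V →ₗ[T] (X × A) × V :=
    ((LinearMap.fst T X V).prod (-(di.toLinearMap ∘ₗ LinearMap.fst T B Y ∘ₗ LinearMap.snd T D (B × Y) ∘ₗ Φ.toLinearMap ∘ₗ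
      LinearMap.inr T (X × A) V ∘ₗ LinearMap.snd T X V))).prod (LinearMap.snd T X V)
  let ψ : X × V →ₗ[T] D × Y := ((LinearMap.fst T D (B × Y)).prod (LinearMap.snd T B Y ∘ₗ LinearMap.snd T D (B × Y))) ∘ₗ Φ.toLinearMap ∘ₗ σ
  LinearEquiv.ofBijective ψ (by
    have key : ∀ c a v, (Φ ((c, a), v)).2.1 = d a + (Φ (0, v)).2.1 := fun c a v => by
      rw [show ((c, a), v) = ((c, a), (0 : V)) + ((0, v) : (X × A) × V) by simp, map_add, Prod.snd_add, Prod.fst_add, hb]
    have hd' : ∀ b, d (di b) = b := fun b => (LinearEquiv.ofBijective d hd).apply_symm_apply b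
    have hσdef : ∀ z : X × V, σ z = ((z.1, -di (Φ (0, z.2)).2.1), z.2) := fun z => rfl
    have hψ : ∀ z : X × V, ψ z = ((Φ (σ z)).1, (Φ (σ z)).2.2) := fun z => rfl
    have hσ : ∀ z, (Φ (σ z)).2.1 = 0 := fun z => by
      rw [hσdef, key, map_neg, hd', neg_add_cancel]
    have hrec : ∀ p : (X × A) × V, (Φ p).2.1 = 0 → σ (p.1.1, p.2) = p := fun p hp => by
      obtain ⟨⟨c, a⟩, v⟩ := p
      rw [key] at hp
      have : a = -di (Φ (0, v)).2.1 := hd.1 (by rw [map_neg, hd']; exact eq_neg_of_add_eq_zero_left hp)
      rw [hσdef, this]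
    refine ⟨fun z w h => ?_, fun ⟨e, y⟩ => ?_⟩
    · rw [hψ, hψ, Prod.mk.injEq] at h
      have := Φ.injective (Prod.ext h.1 (Prod.ext ((hσ z).trans (hσ w).symm) h.2) : Φ (σ z) = Φ (σ w))
      rw [hσdef, hσdef, Prod.mk.injEq, Prod.mk.injEq] at this
      exact Prod.ext this.1.1 this.2
    · obtain ⟨p, hp⟩ := Φ.surjective (e, (0, y))
      have hp' : σ (p.1.1, p.2) = p := hrec p (by rw [hp])
      exact ⟨(p.1.1, p.2), by rw [hψ, hp', hp]⟩)

/-- Cancel an invertible block, after changes of coordinates. -/
noncomputable def cancelBlock' {T : Type u} [CommRing T] {C U X A V D B Y : Type*} [AddCommGroup C] [Module T C] [AddCommGroup U] [Module T U]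
    [AddCommGroup X] [Module T X] [AddCommGroup A] [Module T A]
    [AddCommGroup V] [Module T V] [AddCommGroup D] [Module T D] [AddCommGroup B] [Module T B] [AddCommGroup Y] [Module T Y]
    (E : C ≃ₗ[T] (X × A)) (Φ : (C × V) ≃ₗ[T] (D × U)) (sC : U ≃ₗ[T] (B × Y)) (d : A →ₗ[T] B) (hd : Function.Bijective d)
    (hb : ∀ a c, (sC (Φ (E.symm (c, a), 0)).2).1 = d a) : (X × V) ≃ₗ[T] (D × Y) :=
  cancelBlock ((E.symm.prodCongr (LinearEquiv.refl T V)) ≪≫ₗ Φ ≪≫ₗ ((LinearEquiv.refl T D).prodCongr sC)) d hd hb

open Algebra Algebra.Extension in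
lemma stableEquiv_snd {R S : Type u} [CommRing R] [CommRing S] [Algebra R S] {P Q : Extension.{u} R S} (f : P.Hom Q) (g : Q.Hom P)
    (c : P.Cotangent) : (Groth.Agent.S9162.stableEquiv f g (c, 0)).2 = P.cotangentComplex c := by
  show P.cotangentComplex c + -(CotangentSpace.map g 0) = _
  rw [map_zero, neg_zero, add_zero]

open TensorProduct


/-- For presentations α : R[x_1, …, x_n] → S and β : R[y_1, …, y_m] → S_g (g ∈ S) with kernels I and J,
the S_g-modules (I/I²)_g ⊕ S_g^m and J/J² ⊕ S_g^n are isomorphic. -/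
theorem result (R S : Type u) [CommRing R] [CommRing S] [Algebra R S]
    (g : S) (n m : ℕ) (α : MvPolynomial (Fin n) R →ₐ[R] S) (hα : Function.Surjective α)
    (β : MvPolynomial (Fin m) R →ₐ[R] Localization.Away g) (hβ : Function.Surjective β) :
    Nonempty ((LocalizedModule (Submonoid.powers g) (Algebra.Extension.ofSurjective α hα).Cotangent ×
        (Fin m → Localization.Away g)) ≃ₗ[Localization.Away g]
      ((Algebra.Extension.ofSurjective β hβ).Cotangent × (Fin n → Localization.Away g))) := by
  classical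
  let P : Algebra.Generators R S (Fin n) := Algebra.Generators.ofSurjective (fun i => α (MvPolynomial.X i)) (by
    rw [show MvPolynomial.aeval (fun i => α (MvPolynomial.X i)) = α from (MvPolynomial.aeval_unique α).symm]; exact hα)
  let Q : Algebra.Generators R (Localization.Away g) (Fin m) := Algebra.Generators.ofSurjective (fun i => β (MvPolynomial.X i)) (by
    rw [show MvPolynomial.aeval (fun i => β (MvPolynomial.X i)) = β from (MvPolynomial.aeval_unique β).symm]; exact hβ)
  have eP : P.toExtension.Cotangent ≃ₗ[S] (Algebra.Extension.ofSurjective α hα).Cotangent :=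
    cotangentCongr P.toExtension _ (RingEquiv.refl _) (fun _ => rfl)
      (fun x => (DFunLike.congr_fun (MvPolynomial.aeval_unique α) x : _))
  have eQ : Q.toExtension.Cotangent ≃ₗ[Localization.Away g] (Algebra.Extension.ofSurjective β hβ).Cotangent :=
    cotangentCongr Q.toExtension _ (RingEquiv.refl _) (fun _ => rfl)
      (fun x => (DFunLike.congr_fun (MvPolynomial.aeval_unique β) x : _))
  let T := Localization.Away g
  let W := Algebra.Generators.localizationAway T g
  let C := W.comp P
  obtain ⟨x0, hx0⟩ := Algebra.Generators.Cotangent.surjective_map_ofComp W P (Algebra.Generators.cMulXSubOneCotangent T g)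
  let E := Algebra.Generators.cotangentCompLocalizationAwayEquiv g P hx0
  let Φ := Groth.Agent.S9162.stableEquiv (C.defaultHom Q).toExtensionHom (Q.defaultHom C).toExtensionHom
  have hinj : Function.Injective W.toExtension.cotangentComplex :=
    (Algebra.SubmersivePresentation.localizationAway T g).cotangentComplex_injective
  haveI : Algebra.FormallyEtale S T := Algebra.FormallyEtale.of_isLocalization (Submonoid.powers g)
  have hsur : Function.Surjective W.toExtension.cotangentComplex := fun z =>
    (W.toExtension.exact_cotangentComplex_toKaehler z).mp (Subsingleton.elim _ _)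
  let sC := Algebra.Generators.CotangentSpace.compEquiv W P
  have hb : ∀ (a : W.toExtension.Cotangent) c, (sC (Φ (E.symm (c, a), 0)).2).1 = W.toExtension.cotangentComplex a := fun a c => by
    rw [stableEquiv_snd]
    rw [Algebra.Generators.CotangentSpace.fst_compEquiv_apply,
      Algebra.Extension.CotangentSpace.map_cotangentComplex,
      ← Algebra.Generators.snd_cotangentCompLocalizationAwayEquiv g P hx0, LinearEquiv.apply_symm_apply]
  let e := cancelBlock' E Φ sC W.toExtension.cotangentComplex ⟨hinj, hsur⟩ hb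
  refine ⟨(?_ : _ ≃ₗ[T] _)⟩
  exact ((LocalizedModule.equivTensorProduct (Submonoid.powers g) _ ≪≫ₗ
      TensorProduct.AlgebraTensorModule.congr (LinearEquiv.refl T T) eP.symm).prodCongr Q.cotangentSpaceBasis.equivFun.symm)
    ≪≫ₗ e ≪≫ₗ (eQ.prodCongr (P.cotangentSpaceBasis.baseChange T).equivFun)

end Groth.Agent.S9182
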