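import Groth.Statements.S9183
import Groth.Agent.L27.IndEtale
-- import your own Groth.Agent.* helpers here

set_option autoImplicit false
universe u
open CategoryTheory CategoryTheory.Limits
open CAlg

namespace Groth.Agent.S9183

/-- Every R-algebra A, with no finiteness assumption, is the colimit of a filtered system of finitely
presented R-algebras. (The published statement asserts that the category of all finitely presented
R-algebras with a map to A is filtered with colimit A; this row states that some small filtered
system of finitely presented R-algebras has colimit A.) -/
theorem result (R A : Type u) [CommRing R] [CommRing A] [Algebra R A] :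
    ∃ (I : Type u) (_ : SmallCategory I) (_ : IsFiltered I) (D : I ⥤ Under (CommRingCat.of R))
      (c : Cocone D) (_ : IsColimit c),
      (∀ i, (D.obj i).hom.hom.FinitePresentation) ∧
      Nonempty (c.pt ≅ Under.mk (CommRingCat.ofHom (algebraMap R A))) := by
  let Q : MorphismProperty CommRingCat.{u} :=
    RingHom.toMorphismProperty fun {X Y} _ _ f => RingHom.FinitePresentation f
  haveI : Q.RespectsIso :=
    RingHom.toMorphismProperty_respectsIso_iff.mp RingHom.finitePresentation_respectsIso
  have h := Groth.L27.IndEtale.ind_of_factor (Q := Q) (A := R) (B := A) (fun f hf => hf)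
    fun P _ _ _ φ => ⟨P, inferInstance, inferInstance, AlgHom.id R P, φ,
      RingHom.finitePresentation_algebraMap.mpr inferInstance, AlgHom.comp_id φ⟩
  rw [MorphismProperty.ind_iff_ind_underMk] at h
  obtain ⟨J, _, _, pres, hD⟩ := h
  exact ⟨J, inferInstance, inferInstance, pres.diag, ⟨_, pres.ι⟩, pres.isColimit, hD, ⟨Iso.refl _⟩⟩

end Groth.Agent.S9183
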