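import Groth.Statements.S9185
import Groth.Agent.L07.DiffOp
import Mathlib.LinearAlgebra.Quotient.Basic

set_option autoImplicit false
universe u
open Diff16

namespace Groth.Agent.S9185

open Groth.L07.DiffOp
open scoped TensorProduct

/-- For a ring map R → S, an S-module M and k ≥ 0 there is an S-module P together with a differential
operator D : M → P of order at most k (relative to R → S) such that every differential operator of
order at most k from M to an S-module N is α ∘ D for a unique S-linear map α : P → N; that is,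
differential operators of order ≤ k out of M are represented by P. (Target modules N are taken in
the same universe.) -/
theorem result (R S : Type u) [CommRing R] [CommRing S] [Algebra R S] (M : Type u)
    [AddCommGroup M] [Module S M] [Module R M] [IsScalarTower R S M] (k : ℕ) :
    ∃ (P : Type u) (_ : AddCommGroup P) (_ : Module S P) (_ : Module R P) (_ : IsScalarTower R S P)
      (D : M →ₗ[R] P), Diff16.IsDiffOpLE R S M P k D ∧
        ∀ (N : Type u) [AddCommGroup N] [Module S N] [Module R N] [IsScalarTower R S N] (D' : M →ₗ[R] N),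
          Diff16.IsDiffOpLE R S M N k D' → ∃! α : P →ₗ[S] N, α.restrictScalars R ∘ₗ D = D' := by
  classical
  -- `S ⊗[R] M` modulo the iterated commutator relations
  let rel : (Fin (k + 1) → S) → M → S ⊗[R] M := fun b t => ∑ H : Finset (Fin (k + 1)),
    ((-1 : ℤ) ^ H.card) • ((∏ i ∈ H, b i) ⊗ₜ[R] ((∏ i ∈ Hᶜ, b i) • t))
  let K : Submodule S (S ⊗[R] M) := Submodule.span S (Set.range fun x : (Fin (k + 1) → S) × M => rel x.1 x.2)
  let D : M →ₗ[R] (S ⊗[R] M) ⧸ K := (K.mkQ.restrictScalars R) ∘ₗ TensorProduct.mk R S M 1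
  refine ⟨(S ⊗[R] M) ⧸ K, inferInstance, inferInstance, inferInstance, inferInstance, D, ?_, ?_⟩
  · rw [isDiffOpLE_iff_act_prod (B' := S)]
    intro b
    ext t
    rw [act_prod_dlt, LinearMap.zero_apply]
    have h : ∀ H : Finset (Fin (k + 1)), (∏ i ∈ H, b i) • D ((∏ i ∈ Hᶜ, b i) • t) =
        K.mkQ ((∏ i ∈ H, b i) ⊗ₜ[R] ((∏ i ∈ Hᶜ, b i) • t)) := by
      intro H
      simp only [D, LinearMap.comp_apply, LinearMap.restrictScalars_apply, TensorProduct.mk_apply,
        ← map_smul, TensorProduct.smul_tmul', smul_eq_mul, mul_one]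
    simp only [h, ← map_zsmul, ← map_sum]
    rw [Submodule.mkQ_apply, Submodule.Quotient.mk_eq_zero]
    exact Submodule.subset_span ⟨(b, t), rfl⟩
  · intro N _ _ _ _ D' hD'
    let L : S ⊗[R] M →ₗ[S] N := TensorProduct.AlgebraTensorModule.lift
      ((LinearMap.toSpanSingleton S (M →ₗ[R] N) D'))
    have hL : ∀ c m, L (c ⊗ₜ m) = c • D' m := fun c m => by simp [L]
    have hK : K ≤ LinearMap.ker L := by
      rw [Submodule.span_le]
      rintro _ ⟨⟨b, t⟩, rfl⟩
      rw [SetLike.mem_coe, LinearMap.mem_ker]
      simp only [rel, map_sum, map_zsmul, hL]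
      rw [← act_prod_dlt (B' := S) D' b t, (isDiffOpLE_iff_act_prod (B' := S)).mp hD' b,
        LinearMap.zero_apply]
    refine ⟨K.liftQ L hK, LinearMap.ext fun m => ?_, ?_⟩
    · show L (1 ⊗ₜ m) = D' m
      rw [hL, one_smul]
    · intro β hβ
      refine Submodule.linearMap_qext _ (TensorProduct.AlgebraTensorModule.ext fun c m => ?_)
      simp only [LinearMap.comp_apply, Submodule.mkQ_apply, Submodule.liftQ_apply, hL]
      rw [← LinearMap.congr_fun hβ m]
      simp only [D, LinearMap.comp_apply, LinearMap.restrictScalars_apply, TensorProduct.mk_apply,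
        Submodule.mkQ_apply, ← map_smul, ← Submodule.Quotient.mk_smul, TensorProduct.smul_tmul',
        smul_eq_mul, mul_one]

end Groth.Agent.S9185
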