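import Groth.Statements.S9195
import Groth.Agent.L19.Limit.QuasiFinite
import Groth.Agent.L23.FibreDimBC
import Groth.Agent.L07.FibreDimSemi
set_option backward.isDefEq.respectTransparency.types false
set_option backward.isDefEq.respectTransparency false
set_option backward.defeqAttrib.useBackward true
-- import your own Groth.Agent.* helpers here

set_option autoImplicit false
universe u
open CategoryTheory AlgebraicGeometry
open Lim

namespace Groth.Agent.S9195

/-- Locally of finite type with all fibre dimensions at most `d`. -/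
def LftDimLE (d : ℕ) : MorphismProperty Scheme.{u} := fun _ _ f =>
  LocallyOfFiniteType f ∧ ∀ x, FlatMor.fibreDimAt f x ≤ (d : WithBot ℕ∞)

instance (d : ℕ) : (LftDimLE.{u} d).IsStableUnderBaseChange where
  of_isPullback {X Y Y' S f g f' g'} sq h := by
    haveI := h.1
    refine ⟨MorphismProperty.of_isPullback sq h.1, fun x => ?_⟩
    rw [Groth.L23.fibreDimAt_of_isPullback sq x]
    exact h.2 _

open Groth.L19.Limit in
theorem descends_lftDimLE (d : ℕ) : Descends (LftDimLE.{u} d) qcqsft.{u} := by
  intro I _ _ D c _ hc i _ X a ha hP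
  haveI : QuasiCompact a := ha.1.1
  haveI : LocallyOfFiniteType a := ha.2
  let U : X.Opens := ⟨_, Groth.L07.FibreDim.isOpen_fibreDimAt_le a d⟩
  haveI : ∀ k : Over i, CompactSpace ((bcDiagram D a).obj k) := fun k =>
    haveI := compactSpace_stage (D := D) k.hom
    QuasiCompact.compactSpace_of_compactSpace (Limits.pullback.fst (D.map k.hom) a)
  let J : Over i := Over.mk (𝟙 i)
  obtain ⟨k, m, hk⟩ := exists_map_eq_top (bcDiagram D a) (bcCone D c a) (isLimitBcCone a hc)
    (i := J) (Limits.pullback.snd (D.map J.hom) a ⁻¹ᵁ U) (by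
      refine eq_top_iff.mpr fun x _ => ?_
      show Limits.pullback.snd (D.map J.hom) a ((bcCone D c a).π.app J x) ∈ U
      have e : Limits.pullback.snd (D.map J.hom) a ((bcCone D c a).π.app J x) =
          Limits.pullback.snd (c.π.app i) a x :=
        (Scheme.Hom.comp_apply ((bcCone D c a).π.app J) (Limits.pullback.snd (D.map J.hom) a) x).symm.trans
          (congrArg (fun m : Limits.pullback (c.π.app i) a ⟶ X => m x)
            (show (bcCone D c a).π.app J ≫ Limits.pullback.snd (D.map J.hom) a = Limits.pullback.snd (c.π.app i) a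
              from (Limits.pullback.lift_snd ..).trans (Category.comp_id _)))
      rw [e]
      show FlatMor.fibreDimAt a _ ≤ _
      rw [← Groth.L23.fibreDimAt_of_isPullback (IsPullback.of_hasPullback (c.π.app i) a).flip x]
      exact hP.2 x)
  refine ⟨k.left, k.hom, MorphismProperty.pullback_fst _ _ ha.2, fun x => ?_⟩
  have hx : x ∈ (bcDiagram D a).map m ⁻¹ᵁ (Limits.pullback.snd (D.map J.hom) a ⁻¹ᵁ U) := by rw [hk]; trivial
  rw [← Scheme.Hom.comp_preimage,
    show (bcDiagram D a).map m ≫ Limits.pullback.snd (D.map J.hom) a = Limits.pullback.snd _ _ from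
      (Limits.pullback.lift_snd ..).trans (Category.comp_id _)] at hx
  rw [Groth.L23.fibreDimAt_of_isPullback (IsPullback.of_hasPullback (D.map k.hom) a).flip x]
  exact hx

/-- Let S = lim S_i be a cofiltered limit of schemes with affine transition morphisms, S_{i₀} a
quasi-compact quasi-separated stage, f₀ : X₀ → Y₀ a morphism of quasi-compact quasi-separated
schemes over S_{i₀}, and f : X → Y its base change along S → S_{i₀} (base changes expressed by
pullback squares). Let d be a natural number. If f₀ is locally of finite type and f has relative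
dimension at most d (every fibre of f has local dimension at most d at each of its points), then for
some index i over i₀ the base change f_i : X_i → Y_i of f₀ along S_i → S_{i₀} has relative dimension
at most d. -/
theorem result {I : Type u} [SmallCategory I] [IsCofiltered I]
    (D : I ⥤ Scheme.{u}) (c : Limits.Cone D) (hc : Limits.IsLimit c)
    [∀ (i j : I) (f : i ⟶ j), IsAffineHom (D.map f)] (i₀ : I) [CompactSpace (D.obj i₀)]
    [QuasiSeparatedSpace (D.obj i₀)] {X₀ Y₀ : Scheme.{u}} (f₀ : X₀ ⟶ Y₀) (g₀ : Y₀ ⟶ D.obj i₀)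
    [CompactSpace X₀] [QuasiSeparatedSpace X₀] [CompactSpace Y₀] [QuasiSeparatedSpace Y₀]
    [LocallyOfFiniteType f₀] (d : ℕ)
    {X Y : Scheme.{u}} (f : X ⟶ Y) (g : Y ⟶ c.pt) (qY : Y ⟶ Y₀) (qX : X ⟶ X₀)
    (hY : IsPullback qY g g₀ (c.π.app i₀)) (hX : IsPullback qX f f₀ qY) (hd : ∀ x : X, FlatMor.fibreDimAt f x ≤ d) :
    ∃ (i : I) (φ : i ⟶ i₀) (Xi Yi : Scheme.{u}) (fi : Xi ⟶ Yi) (gi : Yi ⟶ D.obj i) (pY : Yi ⟶ Y₀)
      (pX : Xi ⟶ X₀), IsPullback pY gi g₀ (D.map φ) ∧ IsPullback pX fi f₀ pY ∧ ∀ x : Xi, FlatMor.fibreDimAt fi x ≤ d := by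
  haveI : QuasiSeparated f₀ := .of_comp f₀ (Limits.terminal.from Y₀)
  haveI : LocallyOfFiniteType f := MorphismProperty.of_isPullback hX ‹LocallyOfFiniteType f₀›
  obtain ⟨j, φ, Xj, Yj, fj, gj, pY, pX, h1, h2, h3⟩ := Groth.L19.Limit.Descends.exists_stage (descends_lftDimLE d) hc (f₀ := f₀)
    ⟨⟨quasiCompact_of_compactSpace f₀, inferInstance⟩, inferInstance⟩ hY hX ⟨inferInstance, hd⟩
  exact ⟨j, φ, Xj, Yj, fj, gj, pY, pX, h1, h2, h3.2⟩

end Groth.Agent.S9195
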