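import Groth.Statements.S9202
import Groth.Agent.L19.Limit.Proper

set_option autoImplicit false
set_option backward.isDefEq.respectTransparency.types false
set_option backward.isDefEq.respectTransparency false
set_option backward.defeqAttrib.useBackward true
set_option linter.style.haveILetI false
universe u
open CategoryTheory AlgebraicGeometry
open Lim

namespace Groth.Agent.S9202

/-- Let S be a scheme and X = lim X_i a cofiltered limit of S-schemes X_i (a diagram with a compatible
family of structure maps to S) with affine transition morphisms, every X_i quasi-compact and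
quasi-separated; the structure map X → S is the composite X → X_{i₀} → S for any index i₀. Let h : Y
→ X be a proper morphism such that the composite Y → X → S is locally of finite type. Then Y → X_i
is proper for all i beyond some index i₁. -/
theorem result {I : Type u} [SmallCategory I] [IsCofiltered I] (S : Scheme.{u})
    (D : I ⥤ Scheme.{u}) (t : D ⟶ (Functor.const I).obj S) (c : Limits.Cone D) (hc : Limits.IsLimit c)
    [∀ (i j : I) (a : i ⟶ j), IsAffineHom (D.map a)]
    [∀ i, CompactSpace (D.obj i)] [∀ i, QuasiSeparatedSpace (D.obj i)] (i₀ : I)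
    {Y : Scheme.{u}} (h : Y ⟶ c.pt) [IsProper h] [LocallyOfFiniteType (h ≫ c.π.app i₀ ≫ t.app i₀)] :
    ∃ i₁ : I, ∀ (i : I) (_ : i ⟶ i₁), IsProper (h ≫ c.π.app i) := by
  have ht : ∀ i, h ≫ c.π.app i ≫ t.app i = h ≫ c.π.app i₀ ≫ t.app i₀ := fun i => by
    have e : ∀ {j k : I} (a : j ⟶ k), c.π.app k ≫ t.app k = c.π.app j ≫ t.app j := fun {j k} a => by
      rw [← c.w a, Category.assoc]
      congr 1
      simpa using t.naturality a
    rw [e (IsCofiltered.minToLeft i i₀), e (IsCofiltered.minToRight i i₀)]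
  have hlft : ∀ i, LocallyOfFiniteType (h ≫ c.π.app i) := fun i => by
    have : LocallyOfFiniteType ((h ≫ c.π.app i) ≫ t.app i) := by
      rw [Category.assoc, ht i]; infer_instance
    exact locallyOfFiniteType_of_comp (h ≫ c.π.app i) (t.app i)
  have : ∀ i, IsAffineHom (c.π.app i) := fun i => isAffineHom_π_app D c hc i
  have : CompactSpace c.pt := Scheme.compactSpace_of_isLimit D c hc
  have : CompactSpace Y := QuasiCompact.compactSpace_of_compactSpace h
  have : QuasiSeparatedSpace c.pt := quasiSeparatedSpace_of_quasiSeparated (c.π.app i₀)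
  have : QuasiSeparatedSpace Y := quasiSeparatedSpace_of_quasiSeparated h
  suffices ∃ i₁, UniversallyClosed (h ≫ c.π.app i₁) by
    obtain ⟨i₁, h₁⟩ := this
    have := hlft i₁
    have : IsProper (h ≫ c.π.app i₁) := { }
    refine ⟨i₁, fun i a => ?_⟩
    have : IsProper ((h ≫ c.π.app i) ≫ D.map a) := by
      rw [Category.assoc, c.w]; infer_instance
    exact IsProper.of_comp (h ≫ c.π.app i) (D.map a)
  by_contra! hne
  have key : ∀ i, ∃ P : Groth.L19.Limit.ValPair Y (D.obj i),
      P.Comm (h ≫ c.π.app i) (𝟙 _) ∧ ¬ P.Lifts (h ≫ c.π.app i) (𝟙 _) := fun i => by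
    by_contra! hP
    exact hne i (.of_valuativeCriterion _ (Groth.L19.Limit.existence_of_valPair _ hP))
  choose P hPc hPn using key
  obtain ⟨T, hTeq, -, hTlift, -, -⟩ := Groth.L19.Limit.exists_valPair_ultra hc P
  have hb : ∀ j i (b : i ⟶ j), (P i).Comm (h ≫ c.π.app j) (D.map b ≫ 𝟙 _) := fun j i b => by
    have := congr($(hPc i) ≫ D.map b)
    simp only [Category.assoc, Category.comp_id, c.w] at this
    simpa [Groth.L19.Limit.ValPair.Comm] using this
  have hTc : T.Comm h (𝟙 c.pt) := hc.hom_ext fun j => by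
    have := hTeq j _ _ (hb j)
    simpa [Groth.L19.Limit.ValPair.Comm] using this
  obtain ⟨l, hl, hl'⟩ := Groth.L19.Limit.lifts_of_universallyClosed h T hTc
  have := hlft i₀
  obtain ⟨i, b, l₁, hl₁, hl₁'⟩ := hTlift i₀ _ _ (hb i₀) ⟨l, hl, by
    rw [reassoc_of% hl']; simp⟩
  refine hPn i ⟨l₁, hl₁, ?_⟩
  simp only [Category.comp_id] at hl₁' ⊢
  have hg : (P i).η ≫ l₁ ≫ h ≫ c.π.app i = (P i).η ≫ (P i).φ := by
    have := hPc i
    rw [reassoc_of% hl₁]
    simpa [Groth.L19.Limit.ValPair.Comm] using this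
  have := IsSeparated.valuativeCriterion (D.map b)
    { R := (P i).R, K := (P i).K, i₁ := (P i).η ≫ (P i).φ, i₂ := (P i).φ ≫ D.map b,
      commSq := ⟨Category.assoc _ _ _⟩ }
  have he : (l₁ ≫ h ≫ c.π.app i) ≫ D.map b = (P i).φ ≫ D.map b := by
    simpa [c.w] using hl₁'
  exact congrArg CommSq.LiftStruct.l (Subsingleton.elim (α := CommSq.LiftStruct _)
    ⟨l₁ ≫ h ≫ c.π.app i, hg, he⟩ ⟨(P i).φ, rfl, rfl⟩)

end Groth.Agent.S9202
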