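import Groth.Statements.S9204
import Groth.Agent.L19.QuasiAffineHomeo

set_option autoImplicit false
set_option backward.isDefEq.respectTransparency.types false
set_option backward.isDefEq.respectTransparency false
set_option linter.style.haveILetI false
universe u
open CategoryTheory AlgebraicGeometry
open Lim

namespace Groth.Agent.S9204

/-- Suppose the closed immersion i : Z → X of schemes is a homeomorphism on the level of topological
spaces. Then Z is quasi-affine exactly when X is. No Noetherian hypothesis is imposed. -/
theorem result {Z X : Scheme.{u}} (i : Z ⟶ X) [IsClosedImmersion i]
    (hi : IsHomeomorph i.base) : X.IsQuasiAffine ↔ Z.IsQuasiAffine := by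
  constructor
  · intro _
    exact Scheme.IsQuasiAffine.of_isAffineHom (f := i)
  · intro _
    exact Groth.L19.QAHomeo.isQuasiAffine_of_closedImmersion i hi

end Groth.Agent.S9204
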