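import Groth.Statements.S9212
import Groth.Agent.L19.DVR

set_option autoImplicit false
set_option backward.isDefEq.respectTransparency.types false
set_option backward.isDefEq.respectTransparency false
universe u
open CategoryTheory CategoryTheory.Limits AlgebraicGeometry
open Lim

namespace Groth.Agent.S9212

/-- Let S be a locally Noetherian scheme and f : X → S a morphism of finite type. Then f is proper if
and only if: for every generic point η of an irreducible component of X, every discrete valuation
ring A contained in the residue field κ(η) with fraction field κ(η) (a valuation subring of κ(η)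
which is a discrete valuation ring), and every morphism Spec A → S whose restriction to Spec κ(η) is
the canonical morphism Spec κ(η) → X followed by f, there is exactly one morphism Spec A → X over S
restricting to the canonical morphism on Spec κ(η). -/
theorem result {X S : Scheme.{u}} [IsLocallyNoetherian S] (f : X ⟶ S)
    [LocallyOfFiniteType f] [QuasiCompact f] :
    IsProper f ↔ ∀ (η : X), closure {η} ∈ irreducibleComponents (X : Type u) →
      ∀ (A : ValuationSubring (X.residueField η)), IsDiscreteValuationRing A →
        ∀ y : Spec (CommRingCat.of A) ⟶ S,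
          Spec.map (CommRingCat.ofHom A.subtype) ≫ y = X.fromSpecResidueField η ≫ f →
          ∃! l : Spec (CommRingCat.of A) ⟶ X,
            l ≫ f = y ∧ Spec.map (CommRingCat.ofHom A.subtype) ≫ l = X.fromSpecResidueField η := by
  constructor
  · intro _ η _ A _ y w
    obtain ⟨⟨⟨l, hl₁, hl₂⟩, -⟩⟩ :=
      IsProper.eq_valuativeCriterion.le _ _ _ ‹IsProper f› |>.1.1.1
        { R := A, K := X.residueField η, i₁ := X.fromSpecResidueField η, i₂ := y, commSq := ⟨w.symm⟩ }
    exact ⟨l, ⟨hl₂, hl₁⟩, fun l' hl' => Groth.L19.DVR.ext_of_isSeparated f l' l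
      (hl'.1.trans hl₂.symm) (hl'.2.trans hl₁.symm)⟩
  · intro H
    have : IsSeparated f := by
      refine Groth.L19.DVR.isSeparated_of_uniqueAt f fun y => ?_
      obtain ⟨η, hη, hgen⟩ := Groth.L19.DVR.exists_generic y
      refine ⟨η, hη, fun R hR g₁ g₂ hg h₁ h₂ => ?_⟩
      exact (H η hgen R hR (g₁ ≫ f) (by rw [reassoc_of% h₁])).unique ⟨rfl, h₁⟩ ⟨hg.symm, h₂⟩
    refine Groth.L19.DVR.isProper_of_liftAt f fun y => ?_
    obtain ⟨η, hη, hgen⟩ := Groth.L19.DVR.exists_generic y
    exact ⟨η, hη, fun R hR φ w => (H η hgen R hR φ w).exists⟩

end Groth.Agent.S9212
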