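import Groth.Statements.S9214
import Groth.Agent.L19.Approx.ProperLimit

set_option autoImplicit false
set_option backward.isDefEq.respectTransparency.types false
set_option backward.isDefEq.respectTransparency false
set_option backward.defeqAttrib.useBackward true
set_option linter.style.haveILetI false
universe u
open CategoryTheory CategoryTheory.Limits AlgebraicGeometry
open Lim

namespace Groth.Agent.S9214

/-- Let S = lim S_i be a cofiltered limit of Noetherian schemes with affine transition morphisms, and
suppose X → S is of finite type and quasi-separated. One can then find an index i, a finite type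
morphism W → S_i and a morphism X → W over S_i (compatible with X → S → S_i) for which the resulting
map X → S ×_{S_i} W into the fibre product is a closed immersion. -/
theorem result {I : Type u} [SmallCategory I] [IsCofiltered I]
    (D : I ⥤ Scheme.{u}) (c : Limits.Cone D) (hc : Limits.IsLimit c)
    [∀ (i j : I) (f : i ⟶ j), IsAffineHom (D.map f)] [∀ i, IsNoetherian (D.obj i)]
    {X : Scheme.{u}} (a : X ⟶ c.pt) [QuasiSeparated a] [QuasiCompact a] [LocallyOfFiniteType a] :
    ∃ (i : I) (W : Scheme.{u}) (w : W ⟶ D.obj i) (b : X ⟶ W) (hb : a ≫ c.π.app i = b ≫ w),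
      LocallyOfFiniteType w ∧ QuasiCompact w ∧ IsClosedImmersion (pullback.lift a b hb) := by
  obtain ⟨i, W, w, Z, q, r, z, hw₁, hw₂, hw₃, hsq, hz, hzr⟩ :=
    Groth.L19.Approx.exists_closed_in_stage hc a
  refine ⟨i, W, w, z ≫ q, by rw [← hzr, Category.assoc, Category.assoc, hsq.w], inferInstance, hw₂, ?_⟩
  have h : Limits.pullback.lift a (z ≫ q) (by rw [← hzr, Category.assoc, Category.assoc, hsq.w]) =
      z ≫ hsq.flip.isoPullback.hom := by
    apply Limits.pullback.hom_ext <;> simp [hzr]
  rw [h]
  infer_instance

end Groth.Agent.S9214
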