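import Groth.Statements.S9216
import Groth.Agent.L19.Approx.System
import Groth.Agent.L19.FibreDimSystem

set_option autoImplicit false
set_option backward.isDefEq.respectTransparency.types false
set_option backward.isDefEq.respectTransparency false
set_option linter.style.haveILetI false
universe u
open CategoryTheory CategoryTheory.Limits AlgebraicGeometry
open Lim

namespace Groth.Agent.S9216

/-- Let S be a quasi-compact quasi-separated scheme, f : X → S a morphism of finite presentation and d a
natural number. Let Z be a closed subscheme of X such that every fibre of Z → S has dimension at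
most d. Then there is a closed subscheme Z' of X containing Z such that Z' → X is of finite
presentation and every fibre of Z' → S has dimension at most d. -/
theorem result {X S Z : Scheme.{u}} [CompactSpace S]
    [QuasiSeparatedSpace S] (f : X ⟶ S) [LocallyOfFinitePresentation f] [QuasiCompact f] [QuasiSeparated f]
    (d : ℕ) (ι : Z ⟶ X) [IsClosedImmersion ι] (hZ : ∀ s : S, topologicalKrullDim ↥((ι ≫ f).fiber s) ≤ d) :
    ∃ (Z' : Scheme.{u}) (ι' : Z' ⟶ X) (k : Z ⟶ Z'), IsClosedImmersion ι' ∧ LocallyOfFinitePresentation ι' ∧
      k ≫ ι' = ι ∧ ∀ s : S, topologicalKrullDim ↥((ι' ≫ f).fiber s) ≤ d := by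
  haveI : CompactSpace X := QuasiCompact.compactSpace_of_compactSpace f
  haveI : QuasiSeparatedSpace X := quasiSeparatedSpace_of_quasiSeparated f
  let c := Groth.L19.Approx.overCone ι f
  let e := Groth.L19.Approx.overConeIso ι f
  obtain ⟨i, hi⟩ := Groth.L19.FibreDimSystem.exists_stage_fibres_le (Groth.L19.Approx.overSystem ι f) c
    (Groth.L19.Approx.isLimitOverCone ι f)
    (fun i j a => Groth.L19.Approx.isClosedImmersion_overSystem_map ι f a)
    (fun i => by
      haveI := Groth.L19.Approx.lfp_overSystem ι f i
      exact ⟨inferInstance, inferInstanceAs (QuasiCompact (i.unop.1.subschemeι ≫ f))⟩)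
    (d := d) (fun y => by
      refine (Groth.L07.FibreDim.fiber_dim_le_iff _ y _).2 fun x hx => ?_
      haveI : IsIso e.hom.left := (Over.forget S).map_isIso e.hom
      have hw : e.hom.left ≫ ι ≫ f = c.pt.hom := Over.w e.hom
      refine (Groth.L19.FibreDimSystem.fibreDimAt_le_of_isEmbedding e.hom.left
        e.hom.left.homeomorph.isEmbedding hw x).trans ?_
      refine (Groth.L07.FibreDim.fiber_dim_le_iff _ y _).1 (hZ y) _ ?_
      rw [← hx, ← hw]
      rfl)
  let K := i.unop
  refine ⟨K.1.subscheme, K.1.subschemeι, IsClosedImmersion.lift K.1.subschemeι ι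
    (K.1.ker_subschemeι.le.trans K.2.1), inferInstance, Groth.L19.Approx.lfp_subschemeι K.2.2,
    IsClosedImmersion.lift_fac _ _ _, hi⟩

end Groth.Agent.S9216
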