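import Groth.Statements.S9217
import Groth.Agent.L24.Desc.PointGlue

set_option autoImplicit false
universe u
open CategoryTheory AlgebraicGeometry
open Lim

namespace Groth.Agent.S9217

/-- Let S be a scheme, X and Y schemes over S with Y locally of finite presentation over S, and x a
closed point of X such that the inclusion of U = X - {x} in X is quasi-compact; let V be the
complement of the closed point in Spec O_{X,x}, i.e. the preimage of U under the canonical morphism
Spec O_{X,x} → X. Then restriction is a bijection from the S-morphisms X → Y to the pairs (a, b) of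
S-morphisms a : U → Y, b : Spec O_{X,x} → Y which agree on V: two morphisms X → Y with the same
restrictions to U and to Spec O_{X,x} are equal, and every such compatible pair of S-morphisms is
the pair of restrictions of an S-morphism X → Y. -/
theorem result {X Y S : Scheme.{u}} (p : X ⟶ S) (q : Y ⟶ S) [LocallyOfFinitePresentation q]
    (x : X) (U : X.Opens) (hU : (U : Set X) = {x}ᶜ) [QuasiCompact U.ι] :
    (∀ g₁ g₂ : X ⟶ Y, U.ι ≫ g₁ = U.ι ≫ g₂ → X.fromSpecStalk x ≫ g₁ = X.fromSpecStalk x ≫ g₂ → g₁ = g₂) ∧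
    (∀ (a : (U : Scheme.{u}) ⟶ Y) (b : Spec (X.presheaf.stalk x) ⟶ Y), a ≫ q = U.ι ≫ p →
      b ≫ q = X.fromSpecStalk x ≫ p → ((X.fromSpecStalk x) ⁻¹ᵁ U).ι ≫ b = ((X.fromSpecStalk x) ∣_ U) ≫ a →
        ∃ g : X ⟶ Y, g ≫ q = p ∧ U.ι ≫ g = a ∧ X.fromSpecStalk x ≫ g = b) := by
  refine ⟨fun g₁ g₂ hU' hx' => Groth.L24.PointGlue.ext_of_stalk g₁ g₂ fun z => ?_, fun a b ha hb hc => ?_⟩
  · by_cases hz : z = x
    · subst hz; exact hx'
    · have hzU : z ∈ U := (Set.ext_iff.1 hU z).2 hz
      rw [← U.fromSpecStalkOfMem_ι z hzU, Category.assoc, Category.assoc, hU']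
  · obtain ⟨W₁, hxW₁, f₁, hf₁, hf₁q⟩ := Groth.L19.SpreadLfp.spread_out' p q b hb
    obtain ⟨W, hW, hxW, hWW⟩ := exists_isAffineOpen_mem_and_subset hxW₁
    let f := X.homOfLE hWW ≫ f₁
    have hf : f ≫ q = W.ι ≫ p := by
      simp only [f, Category.assoc, hf₁q, Scheme.homOfLE_ι_assoc]
    have hbf : b = W.fromSpecStalkOfMem x hxW ≫ f := by
      have e : W.fromSpecStalkOfMem x hxW ≫ X.homOfLE hWW = W₁.fromSpecStalkOfMem x hxW₁ := by
        rw [← cancel_mono W₁.ι, Category.assoc, Scheme.homOfLE_ι, Scheme.Opens.fromSpecStalkOfMem_ι,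
          Scheme.Opens.fromSpecStalkOfMem_ι]
      rw [hf₁, ← e, Category.assoc]
    have hqc : IsCompact ((U ⊓ W : X.Opens) : Set X) := by
      have := (U.ι.isCompact_preimage hW.isCompact).image U.ι.continuous
      rwa [show (U.ι '' (U.ι ⁻¹ᵁ W : U.toScheme.Opens) : Set X) = (U ⊓ W : X.Opens) from by
        rw [Scheme.Hom.coe_preimage, Set.image_preimage_eq_inter_range, Scheme.Opens.range_ι, Set.inter_comm]; rfl] at this
    obtain ⟨N, hxN, hNW, hN⟩ := Groth.L24.PointGlue.exists_agree_nhd p q hW hxW hqc a f ha hf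
      (by rw [← hbf]; exact hc)
    let 𝒱 : X.OpenCover := Scheme.Cover.mkOfCovers Bool (fun t => (cond t U N : X.Opens).toScheme)
      (fun t => (cond t U N : X.Opens).ι)
      (fun z => by
        by_cases hz : z = x
        · exact ⟨false, ⟨z, show z ∈ N from hz.symm ▸ hxN⟩, rfl⟩
        · exact ⟨true, ⟨z, (Set.ext_iff.1 hU z).2 hz⟩, rfl⟩)
      (fun _ => inferInstance)
    let φ : ∀ t : Bool, (cond t U N : X.Opens).toScheme ⟶ Y
      | true => a
      | false => X.homOfLE hNW ≫ f
    have hUN : Limits.pullback.fst U.ι N.ι ≫ a = Limits.pullback.snd U.ι N.ι ≫ X.homOfLE hNW ≫ f := by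
      rw [← Category.assoc]
      refine hN _ _ ?_ fun z => ?_
      · rw [Category.assoc, Scheme.homOfLE_ι]; exact Limits.pullback.condition
      · rw [Category.assoc, Scheme.homOfLE_ι]; exact (Limits.pullback.snd U.ι N.ι z).2
    have hφ : ∀ s t : Bool, Limits.pullback.fst (𝒱.f s) (𝒱.f t) ≫ φ s = Limits.pullback.snd (𝒱.f s) (𝒱.f t) ≫ φ t := by
      intro s t
      match s, t with
      | true, true => rw [Limits.fst_eq_snd_of_mono_eq]
      | false, false => rw [Limits.fst_eq_snd_of_mono_eq]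
      | true, false => exact hUN
      | false, true =>
        show Limits.pullback.fst N.ι U.ι ≫ X.homOfLE hNW ≫ f = Limits.pullback.snd N.ι U.ι ≫ a
        rw [← Limits.pullbackSymmetry_hom_comp_fst, Category.assoc, hUN, Limits.pullbackSymmetry_hom_comp_snd_assoc]
    let g := 𝒱.glueMorphisms φ hφ
    have hg : ∀ t, 𝒱.f t ≫ g = φ t := 𝒱.ι_glueMorphisms φ hφ
    refine ⟨g, ?_, hg true, ?_⟩
    · refine 𝒱.hom_ext _ _ fun t => ?_
      rw [← Category.assoc, hg t]
      match t with
      | true => exact ha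
      | false =>
        show (X.homOfLE hNW ≫ f) ≫ q = N.ι ≫ p
        rw [Category.assoc, hf, Scheme.homOfLE_ι_assoc]
    · have e : N.fromSpecStalkOfMem x hxN ≫ X.homOfLE hNW = W.fromSpecStalkOfMem x hxW := by
        rw [← cancel_mono W.ι, Category.assoc, Scheme.homOfLE_ι, Scheme.Opens.fromSpecStalkOfMem_ι,
          Scheme.Opens.fromSpecStalkOfMem_ι]
      rw [← N.fromSpecStalkOfMem_ι x hxN, Category.assoc, show N.ι ≫ g = X.homOfLE hNW ≫ f from hg false,
        ← Category.assoc, e, ← hbf]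

end Groth.Agent.S9217
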