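import Groth.Statements.S9221
import Groth.Agent.L19.SupportPullback
import Groth.Agent.L19.Limit.ProperClosed

set_option autoImplicit false
set_option backward.isDefEq.respectTransparency.types false
set_option backward.isDefEq.respectTransparency false
set_option backward.defeqAttrib.useBackward true
set_option linter.style.haveILetI false
universe u
open CategoryTheory AlgebraicGeometry
open Lim

namespace Groth.Agent.S9221

/-- Let S = lim S_i be a cofiltered limit of schemes with affine transition morphisms, S_{i₀} a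
quasi-compact quasi-separated stage, f₀ : X₀ → Y₀ a morphism of quasi-compact quasi-separated
schemes over S_{i₀}, and f : X → Y its base change along S → S_{i₀} (base changes expressed by
pullback squares). Let F₀ be a quasi-coherent O_{X₀}-module of finite type, with pullbacks F to X
and F_i to X_i, and assume f₀ is locally of finite type. If the support of F (a closed subset of X,
taken with its reduced structure; equivalently the scheme-theoretic support of F) is proper over Y,
then for some index i over i₀, with f_i : X_i → Y_i the base change of f₀ along S_i → S_{i₀}, the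
support of F_i is proper over Y_i. -/
theorem result {I : Type u} [SmallCategory I] [IsCofiltered I]
    (D : I ⥤ Scheme.{u}) (c : Limits.Cone D) (hc : Limits.IsLimit c)
    [∀ (i j : I) (f : i ⟶ j), IsAffineHom (D.map f)] (i₀ : I) [CompactSpace (D.obj i₀)]
    [QuasiSeparatedSpace (D.obj i₀)] {X₀ Y₀ : Scheme.{u}} (f₀ : X₀ ⟶ Y₀) (g₀ : Y₀ ⟶ D.obj i₀)
    [CompactSpace X₀] [QuasiSeparatedSpace X₀] [CompactSpace Y₀] [QuasiSeparatedSpace Y₀]
    [LocallyOfFiniteType f₀] (F₀ : X₀.Modules) [Coh.IsQCoh F₀] (hF₀ : CohB1.IsFT F₀)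
    {X Y : Scheme.{u}} (f : X ⟶ Y) (g : Y ⟶ c.pt) (qY : Y ⟶ Y₀) (qX : X ⟶ X₀)
    (hY : IsPullback qY g g₀ (c.π.app i₀)) (hX : IsPullback qX f f₀ qY) (hF : ClSub.IsProperOver f (CohB1.support ((Scheme.Modules.pullback qX).obj F₀))) :
    ∃ (i : I) (φ : i ⟶ i₀) (Xi Yi : Scheme.{u}) (fi : Xi ⟶ Yi) (gi : Yi ⟶ D.obj i) (pY : Yi ⟶ Y₀)
      (pX : Xi ⟶ X₀), IsPullback pY gi g₀ (D.map φ) ∧ IsPullback pX fi f₀ pY ∧ ClSub.IsProperOver fi (CohB1.support ((Scheme.Modules.pullback pX).obj F₀)) := by
  haveI : ∀ {i j : I} (a : i ⟶ j), IsAffineHom (D.map a) := fun a => inferInstance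
  obtain ⟨hcl, hp⟩ := hF
  have hs := Groth.L19.SupportPullback.support_pullback qX F₀ hF₀
  have hF₀c : IsClosed (CohB1.support F₀) := Groth.L16.CohSupport.isClosed_support F₀ hF₀
  let E := Groth.L19.Limit.bcDiagram D (f₀ ≫ g₀)
  let p : ∀ j, E.obj j ⟶ X₀ := fun j => Limits.pullback.snd (D.map j.hom) (f₀ ≫ g₀)
  let C : ∀ j, Set (E.obj j) := fun j => p j ⁻¹' CohB1.support F₀
  have hι : ∀ x : X, (∀ j, Groth.L19.Limit.toStage (hX.paste_vert hY) j x ∈ C j) →
      x ∈ Set.range (Scheme.IdealSheafData.vanishingIdeal ⟨_, hcl⟩).subschemeι := by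
    intro x hx
    rw [Scheme.IdealSheafData.range_subschemeι, Scheme.IdealSheafData.coe_support_vanishingIdeal]
    show x ∈ CohB1.support ((Scheme.Modules.pullback qX).obj F₀)
    rw [hs]
    have h := hx (Over.mk (𝟙 i₀))
    change p _ (Groth.L19.Limit.toStage (hX.paste_vert hY) _ x) ∈ CohB1.support F₀ at h
    rwa [← Scheme.Hom.comp_apply, Groth.L19.Limit.toStage_snd] at h
  obtain ⟨j₀, hj₀⟩ := Groth.L19.Limit.exists_isProper_closed hc hY hX C
    (fun j => hF₀c.preimage (p j).continuous)
    (fun {j k} φ z hz => by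
      show p j (E.map φ z) ∈ CohB1.support F₀
      rw [← Scheme.Hom.comp_apply, show E.map φ ≫ p j = p k by
        simp [E, p, Groth.L19.Limit.bcDiagram]]
      exact hz)
    _ hι
  have hs' := Groth.L19.SupportPullback.support_pullback (p j₀) F₀ hF₀
  have hcl' : IsClosed (CohB1.support ((Scheme.Modules.pullback (p j₀)).obj F₀)) :=
    hs' ▸ hF₀c.preimage (p j₀).continuous
  refine ⟨j₀.left, j₀.hom, _, _, _, _, Limits.pullback.snd _ _, p j₀,
    (IsPullback.of_hasPullback (D.map j₀.hom) g₀).flip,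
    Groth.L19.Limit.isPullback_stageHom f₀ g₀ j₀, hcl', ?_⟩
  refine hj₀ j₀ (𝟙 j₀) _ (le_of_eq ?_)
  rw [Scheme.IdealSheafData.range_subschemeι, Scheme.IdealSheafData.coe_support_vanishingIdeal]
  exact hs'

end Groth.Agent.S9221
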