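import Groth.Agent.L18.IntPoints
import Groth.Statements.S9222
-- import your own Groth.Agent.* helpers here

set_option autoImplicit false
universe u
open CategoryTheory AlgebraicGeometry
open Lim

namespace Groth.Agent.S9222

/-- Let X be a scheme and L an ample invertible O_X-module. Let k be a field, A a k-algebra every
element of which is integral over k (an integral extension of k, not necessarily a domain), W an
open subset of X and g : Spec A → X a morphism whose image lies in W. Then there are an integer n ≥
1 and a global section s of the n-th tensor power of L such that the open X_s (where s generates) is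
affine, is contained in W, and contains the image of g, so that g factors through X_s. -/
theorem result {X : Scheme.{u}} (L : X.Modules) (hL : CohB1.IsAmple L)
    (k A : Type u) [Field k] [CommRing A] [Algebra k A] [Algebra.IsIntegral k A]
    (W : X.Opens) (g : Spec (CommRingCat.of A) ⟶ X) (hg : Set.range g.base ⊆ (W : Set X)) :
    ∃ (n : ℕ) (s : Coh.structureModule X ⟶ CohB1.tensorPow L (n + 1)),
      IsAffineOpen (CohB1.genLocus _ s) ∧ CohB1.genLocus _ s ≤ W ∧
        Set.range g.base ⊆ (CohB1.genLocus _ s : Set X) := by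
  haveI : X.IsSeparated := Groth.L18.Ample.isSeparated_of_affine_genLocus hL.1 hL.2.2
  letI : Algebra k Γ(Spec (CommRingCat.of A), ⊤) :=
    ((Scheme.ΓSpecIso (CommRingCat.of A)).inv.hom.comp (algebraMap k A)).toAlgebra
  haveI : Algebra.IsIntegral k Γ(Spec (CommRingCat.of A), ⊤) :=
    Algebra.IsIntegral.of_surjective
      (⟨(Scheme.ΓSpecIso (CommRingCat.of A)).inv.hom, fun _ => rfl⟩ : A →ₐ[k] Γ(Spec (CommRingCat.of A), ⊤))
      (ConcreteCategory.bijective_of_isIso (Scheme.ΓSpecIso (CommRingCat.of A)).inv).2
  choose n t hy hle ha using fun y : Spec (CommRingCat.of A) =>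
    Groth.L18.Ample.exists_affine_genLocus_subset hL W (hg ⟨y, rfl⟩)
  obtain ⟨I, hI⟩ := isCompact_univ.elim_finite_subcover
    (fun y => (g ⁻¹ᵁ CohB1.genLocus _ (t y) : Set (Spec (CommRingCat.of A))))
    (fun y => (g ⁻¹ᵁ CohB1.genLocus _ (t y)).2) (fun y _ => Set.mem_iUnion.2 ⟨y, hy y⟩)
  obtain ⟨m, u, hua, huI, huy⟩ := Groth.L18.IntPoints.exists_merge_finset g (k := k) hL.1 n t ha I
  refine ⟨m, u, hua, huI.trans (Finset.sup_le fun i _ => hle i), ?_⟩
  rintro _ ⟨y, rfl⟩
  obtain ⟨i, hi, hyi⟩ := Set.mem_iUnion₂.1 (hI (Set.mem_univ y))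
  exact huy y i hi hyi

end Groth.Agent.S9222
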