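import Groth.Statements.S9225
import Groth.Agent.L06.GRingPoly
-- import your own Groth.Agent.* helpers here

set_option autoImplicit false
universe u
open CAlg

namespace Groth.Agent.S9225

/-- Let R be a regular ring, f an element of R and D a derivation of R such that the image of D(f) in
R/(f) is a unit. Then R/(f) is a regular ring. -/
theorem result (R : Type u) [CommRing R] [IsRegularRing R]
    (f : R) (D : Derivation ℤ R R)
    (hD : IsUnit (Ideal.Quotient.mk (Ideal.span {f}) (D f))) :
    IsRegularRing (R ⧸ Ideal.span ({f} : Set R)) := by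
  open Groth.L06 Groth.L06.GRingPoly Groth.L06.PropLoc Groth.L06.DerLift Groth.L06.CompleteGRing in
  refine loc_reg_iff.mp fun M' _ => ?_
  have hm : f ∈ M'.comap (Ideal.Quotient.mk (Ideal.span {f})) := by
    show Ideal.Quotient.mk _ f ∈ M'
    rw [Ideal.Quotient.eq_zero_iff_mem.mpr (Ideal.mem_span_singleton_self f)]
    exact M'.zero_mem
  haveI : (M'.comap (Ideal.Quotient.mk (Ideal.span {f}))).IsPrime := Ideal.IsPrime.comap _
  haveI : IsRegularLocalRing (Localization.AtPrime (M'.comap (Ideal.Quotient.mk (Ideal.span {f})))) :=
    IsRegularRing.isRegularLocalRing_localization _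
  exact regularLocal_quotient_span f M' (Groth.L01.regular_quotient_of_notMem_sq
    (by
      rw [← Localization.AtPrime.map_eq_maximalIdeal]
      exact Ideal.mem_map_of_mem _ hm)
    (notMem_sq_of_der _ D hm fun h' => Ideal.IsPrime.ne_top inferInstance (M'.eq_top_of_isUnit_mem h' hD))).1

end Groth.Agent.S9225
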