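import Groth.Statements.S9226
import Groth.Agent.S5779
import Mathlib.LinearAlgebra.Matrix.Nondegenerate
import Mathlib.RingTheory.Derivation.Basic
-- import your own Groth.Agent.* helpers here

set_option autoImplicit false
universe u
open CAlg

namespace Groth.Agent.S9226

/-- Let R be a regular local ring, m ≥ 1, f_1, ..., f_m elements of the maximal ideal, and D_1, ..., D_m
derivations of R such that the determinant of the matrix (D_i(f_j)) is a unit of R. Then R/(f_1,
..., f_m) is a regular local ring and f_1, ..., f_m is a regular sequence on R. -/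
theorem result (R : Type u) [CommRing R]
    [IsRegularLocalRing R] (m : ℕ) (hm : 1 ≤ m) (f : Fin m → R)
    (hf : ∀ i, f i ∈ IsLocalRing.maximalIdeal R) (D : Fin m → Derivation ℤ R R)
    (hdet : IsUnit (Matrix.det (Matrix.of (fun i j : Fin m => D i (f j))))) :
    IsRegularLocalRing (R ⧸ Ideal.span (Set.range f)) ∧
      RingTheory.Sequence.IsRegular R (List.ofFn f) := by
  classical
  let x : Fin m → IsLocalRing.maximalIdeal R := fun i => ⟨f i, hf i⟩
  let k := IsLocalRing.ResidueField R
  -- derivations kill `m ^ 2` modulo `m`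
  have hD : ∀ (i : Fin m), ∀ y ∈ IsLocalRing.maximalIdeal R ^ 2, D i y ∈ IsLocalRing.maximalIdeal R := by
    intro i y hy
    rw [pow_two] at hy
    refine Submodule.mul_induction_on hy (fun a ha b hb => ?_) (fun a b ha hb => by rw [map_add]; exact add_mem ha hb)
    rw [Derivation.leibniz, smul_eq_mul, smul_eq_mul]
    exact add_mem (Ideal.mul_mem_right _ _ ha) (Ideal.mul_mem_right _ _ hb)
  have hli : LinearIndependent k (fun i => (IsLocalRing.maximalIdeal R).toCotangent (x i)) := by
    rw [Fintype.linearIndependent_iff]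
    intro g hg j
    choose a ha using fun i => IsLocalRing.residue_surjective (g i)
    have hsum : ∑ i, a i * f i ∈ IsLocalRing.maximalIdeal R ^ 2 := by
      have h1 : (IsLocalRing.maximalIdeal R).toCotangent (∑ i, a i • x i) = 0 := by
        rw [map_sum, ← hg]
        refine Finset.sum_congr rfl fun i _ => ?_
        rw [map_smul, ← ha i, ← IsLocalRing.ResidueField.algebraMap_eq, algebraMap_smul]
      have h2 := (Ideal.toCotangent_eq_zero _ _).1 h1
      simpa [x] using h2
    let M := (Matrix.of (fun i j : Fin m => D i (f j))).map (IsLocalRing.residue R)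
    have hM : Matrix.mulVec M (fun i => g i) = 0 := by
      funext i
      have h3 := hD i _ hsum
      simp only [map_sum, Derivation.leibniz, smul_eq_mul] at h3
      have h4 : ∑ j, a j * D i (f j) ∈ IsLocalRing.maximalIdeal R := by
        rw [show ∑ j, a j * D i (f j) = ∑ j, (a j * D i (f j) + f j * D i (a j)) - ∑ j, f j * D i (a j) by
          rw [Finset.sum_add_distrib, add_sub_cancel_right]]
        exact sub_mem h3 (Ideal.sum_mem _ fun j _ => Ideal.mul_mem_right _ _ (hf j))
      have h5 := Ideal.Quotient.eq_zero_iff_mem.2 h4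
      show ∑ j, IsLocalRing.residue R (D i (f j)) * g j = 0
      refine Eq.trans ?_ h5
      show _ = IsLocalRing.residue R (∑ j, a j * D i (f j))
      rw [map_sum]
      refine Finset.sum_congr rfl fun j _ => ?_
      rw [map_mul, ← ha j, mul_comm]
    have hu : IsUnit M.det := by
      have : M.det = IsLocalRing.residue R (Matrix.of (fun i j : Fin m => D i (f j))).det :=
        ((IsLocalRing.residue R).map_det _).symm
      rw [this]; exact hdet.map _
    exact congr_fun ((Matrix.eq_zero_of_mulVec_eq_zero hu.ne_zero) hM) j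
  have hmain : ∀ (r : ℕ) (hr : r ≤ m),
      IsRegularLocalRing (R ⧸ Ideal.span (Set.range fun i : Fin r => f (Fin.castLE hr i))) ∧
        (Ideal.span (Set.range fun i : Fin r => f (Fin.castLE hr i))).IsPrime := by
    intro r hr
    obtain ⟨hiff, hprime⟩ := Groth.Agent.S5779.result R r (fun i => x (Fin.castLE hr i))
    obtain ⟨h1, h2⟩ := hiff.1 ⟨inferInstance, hli.comp _ (Fin.castLE_injective hr)⟩
    exact ⟨h2, hprime h2 h1⟩
  have hnot : ∀ (r : ℕ) (hr : r < m),
      f ⟨r, hr⟩ ∉ Ideal.span (Set.range fun i : Fin r => f (Fin.castLE hr.le i)) := by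
    intro r hr hmem
    obtain ⟨c, hc⟩ := (Ideal.mem_span_range_iff_exists_fun).1 hmem
    have h1 : x ⟨r, hr⟩ = ∑ i, c i • x (Fin.castLE hr.le i) := Subtype.ext (by simpa [x] using hc.symm)
    have h2 := congr_arg (IsLocalRing.maximalIdeal R).toCotangent h1
    simp only [map_sum, map_smul] at h2
    refine hli.notMem_span_image (s := Set.range (Fin.castLE hr.le)) (x := ⟨r, hr⟩) ?_ ?_
    · rintro ⟨i, hi⟩
      exact absurd (congr_arg Fin.val hi) (by have := i.2; simp; omega)
    · rw [h2]
      refine Submodule.sum_mem _ fun i _ => ?_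
      rw [← algebraMap_smul k (c i)]
      exact Submodule.smul_mem _ _ (Submodule.subset_span ⟨_, ⟨i, rfl⟩, rfl⟩)
  have hfull : IsRegularLocalRing (R ⧸ Ideal.span (Set.range f)) := (hmain m le_rfl).1
  refine ⟨hfull, ⟨?_, ?_⟩⟩
  · rw [RingTheory.Sequence.isWeaklyRegular_iff]
    intro r hr
    have hr' : r < m := by simpa using hr
    have hI : Ideal.ofList ((List.ofFn f).take r) =
        Ideal.span (Set.range fun i : Fin r => f (Fin.castLE hr'.le i)) := by
      rw [Ideal.ofList]
      refine congr_arg Ideal.span (Set.ext fun z => ?_)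
      simp only [Set.mem_setOf_eq, List.mem_take_iff_getElem, List.getElem_ofFn, List.length_ofFn, Set.mem_range]
      constructor
      · rintro ⟨j, hj, rfl⟩; exact ⟨⟨j, by omega⟩, rfl⟩
      · rintro ⟨j, rfl⟩; exact ⟨j, by omega, rfl⟩
    rw [isSMulRegular_quotient_iff_mem_of_smul_mem]
    intro z hz
    rw [smul_eq_mul, Ideal.mul_top, hI] at hz ⊢
    rw [smul_eq_mul, List.getElem_ofFn] at hz
    exact ((hmain r hr'.le).2.mem_or_mem hz).resolve_left (hnot r hr')
  · intro htop
    rw [smul_eq_mul, Ideal.mul_top] at htop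
    have hle : Ideal.ofList (List.ofFn f) ≤ IsLocalRing.maximalIdeal R := Ideal.span_le.2 fun z hz => by
      obtain ⟨i, rfl⟩ := List.mem_ofFn.1 hz
      exact hf i
    rw [← htop] at hle
    exact (IsLocalRing.maximalIdeal.isMaximal R).ne_top (top_le_iff.1 hle)

end Groth.Agent.S9226
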