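import Groth.Statements.S9227
import Groth.Agent.S9225
import Mathlib.RingTheory.Derivation.MapCoeffs
import Mathlib.RingTheory.RegularLocalRing.Polynomial
-- import your own Groth.Agent.* helpers here

set_option autoImplicit false
universe u
open CAlg

namespace Groth.Agent.S9227

/-- Let R be a regular ring, f an element of R and D a derivation of R with D(f) a unit of R. Then for
every polynomial p with integer coefficients the ring R[z]/(p(z) - f) is regular; in particular
R[z]/(z^n - f) is regular for every n ≥ 1. -/
theorem result (R : Type u) [CommRing R]
    [IsRegularRing R] (f : R) (D : Derivation ℤ R R) (hD : IsUnit (D f)) (p : Polynomial ℤ) :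
    IsRegularRing (Polynomial R ⧸
      Ideal.span ({Polynomial.map (Int.castRingHom R) p - Polynomial.C f} : Set (Polynomial R))) := by
  let D' : Derivation ℤ (Polynomial R) (Polynomial R) :=
    (PolynomialModule.equivPolynomialSelf (R := R)).toLinearMap.compDer D.mapCoeffs
  have hco : ∀ (q : Polynomial R) (i : ℕ), (D' q).coeff i = D (q.coeff i) := fun q i => by
    show (PolynomialModule.equivPolynomialSelf (D.mapCoeffs q)).coeff i = _
    rw [← Derivation.mapCoeffs_apply D q i]
    rfl
  have h0 : D' (Polynomial.map (Int.castRingHom R) p) = 0 := by
    ext i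
    rw [hco, Polynomial.coeff_map, Polynomial.coeff_zero, eq_intCast]
    exact D.map_intCast _
  have h1 : D' (Polynomial.C f) = Polynomial.C (D f) := by
    ext i
    rw [hco, Polynomial.coeff_C, Polynomial.coeff_C]
    split <;> simp
  refine Groth.Agent.S9225.result (Polynomial R) _ D' ?_
  erw [map_sub, h0, zero_sub, h1]
  exact ((hD.map Polynomial.C).neg).map _

end Groth.Agent.S9227
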