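import Groth.Statements.S9230
import Groth.Agent.L06.NormalHensel

set_option autoImplicit false
set_option maxSynthPendingDepth 3
set_option linter.style.haveILetI false
universe u
open EGA4

namespace Groth.Agent.S9230

/-- For a Noetherian local ring A whose formal fibres are geometrically normal, every henselization S of
A is universally catenary. -/
theorem result (A S : Type u) [CommRing A]
    [IsLocalRing A] [IsNoetherianRing A] [CommRing S] [IsLocalRing S] [Algebra A S]
    [IsLocalHom (algebraMap A S)] [Hensel.IsHenselization A S]
    (hA : EGA4.HasGeomNormalFormalFibres A) : CAlg.IsUniversallyCatenary S := by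
  haveI : IsNoetherianRing S := (Groth.L05.Henselization.isNoetherianRing_iff_hens A S).mp inferInstance
  exact Groth.L10.FormCat.universallyCatenary_of_formallyCatenary
    (Groth.L06.NormalHensel.isFormallyCatenary A S hA)

end Groth.Agent.S9230
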