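import Groth.Statements.S9231
import Groth.Agent.L01.CompletionReg
import Groth.Agent.L20.LocalCriterion
import Groth.Agent.L19.FlatComp
import Mathlib.RingTheory.RingHom.Flat

set_option autoImplicit false
universe u
open CAlg

open TensorProduct

namespace Groth.Agent.S9231

/-- For a local ring map A → B between Noetherian local rings, let ψ be the induced map from the
completion of A at its maximal ideal to that of B (here: a ring map of the completions whose
composite with A → A^ is the composite A → B → B^; since A is Noetherian such a map is unique, hence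
is the canonical one). Then ψ is flat exactly when A → B is flat. -/
theorem result (A B : Type u) [CommRing A] [CommRing B] [IsLocalRing A]
    [IsLocalRing B] [IsNoetherianRing A] [IsNoetherianRing B] [Algebra A B]
    [IsLocalHom (algebraMap A B)]
    (ψ : AdicCompletion (IsLocalRing.maximalIdeal A) A →+* AdicCompletion (IsLocalRing.maximalIdeal B) B)
    (hψ : ψ.comp (algebraMap A (AdicCompletion (IsLocalRing.maximalIdeal A) A)) =
      (algebraMap B (AdicCompletion (IsLocalRing.maximalIdeal B) B)).comp (algebraMap A B)) :
    ψ.Flat ↔ (algebraMap A B).Flat := by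
  haveI := Groth.L01.AnalUnram.isNoetherianRing_completion A
  haveI := Groth.L01.AnalUnram.isNoetherianRing_completion B
  let Ah := AdicCompletion (IsLocalRing.maximalIdeal A) A
  let Bh := AdicCompletion (IsLocalRing.maximalIdeal B) B
  letI : Algebra Ah Bh := ψ.toAlgebra
  haveI : IsScalarTower A Ah Bh := IsScalarTower.of_algebraMap_eq fun x => by
    rw [IsScalarTower.algebraMap_apply A B Bh]
    exact (RingHom.congr_fun hψ x).symm
  rw [RingHom.flat_algebraMap_iff]
  show Module.Flat Ah Bh ↔ Module.Flat A B
  have hmB := Groth.L01.AnalUnram.completion_map_maximalIdeal B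
  haveI : Module.FaithfullyFlat B Bh := Groth.L05.Henselization.faithfullyFlat_of_map_maximalIdeal B Bh hmB
  constructor
  · intro h
    haveI := h
    haveI : Module.Flat A Bh := Module.Flat.trans A Ah Bh
    exact Groth.L19.flat_of_flat_of_faithfullyFlat A B Bh
  · intro h
    haveI := h
    haveI : Module.Flat A Bh := Module.Flat.trans A B Bh
    have hmA := Groth.L01.AnalUnram.completion_map_maximalIdeal A
    haveI : IsLocalHom (algebraMap Ah Bh) := by
      refine ((IsLocalRing.local_hom_TFAE (algebraMap Ah Bh)).out 0 2 rfl rfl).mpr ?_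
      rw [← hmA, Ideal.map_map, ← IsScalarTower.algebraMap_eq A Ah Bh, IsScalarTower.algebraMap_eq A B Bh, ← Ideal.map_map]
      exact (Ideal.map_mono (IsLocalRing.map_maximalIdeal_le (algebraMap A B))).trans hmB.le
    refine Groth.L20.flat_of_lTensor_maximalIdeal_injective (M := Bh) Bh ?_
    rw [injective_iff_map_eq_zero]
    let ι : IsLocalRing.maximalIdeal A → IsLocalRing.maximalIdeal Ah := fun a =>
      ⟨algebraMap A Ah a, hmA ▸ Ideal.mem_map_of_mem _ a.2⟩
    let F : Bh ⊗[A] IsLocalRing.maximalIdeal A →ₗ[A] Bh ⊗[Ah] IsLocalRing.maximalIdeal Ah :=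
      TensorProduct.lift (LinearMap.mk₂ A (fun b a => b ⊗ₜ[Ah] ι a)
        (fun b b' a => TensorProduct.add_tmul _ _ _) (fun r b a => (TensorProduct.smul_tmul' r b (ι a)).symm)
        (fun b a a' => by rw [← TensorProduct.tmul_add]; exact congrArg (b ⊗ₜ[Ah] ·) (Subtype.ext (map_add _ _ _)))
        (fun r b a => by
          rw [← TensorProduct.tmul_smul]; exact congrArg (b ⊗ₜ[Ah] ·) (Subtype.ext (((algebraMap A Ah).map_mul r a).trans (Algebra.smul_def r (algebraMap A Ah a)).symm))))
    have hF : ∀ z, ∃ w, F w = z := by
      intro z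
      induction z using TensorProduct.induction_on with
      | zero => exact ⟨0, map_zero F⟩
      | add x y hx hy =>
        obtain ⟨v, rfl⟩ := hx; obtain ⟨w, rfl⟩ := hy
        exact ⟨v + w, map_add F v w⟩
      | tmul b x =>
        obtain ⟨x, hx⟩ := x
        have hx' : x ∈ (IsLocalRing.maximalIdeal A).map (algebraMap A Ah) := hmA.symm ▸ hx
        have key : ∀ b : Bh, ∃ w, ∀ h : x ∈ IsLocalRing.maximalIdeal Ah, F w = b ⊗ₜ[Ah] (⟨x, h⟩ : IsLocalRing.maximalIdeal Ah) := by
          clear hx b
          induction hx' using Submodule.span_induction with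
          | mem y hy => obtain ⟨a, ha, rfl⟩ := hy; exact fun b => ⟨b ⊗ₜ ⟨a, ha⟩, fun _ => rfl⟩
          | zero => exact fun b => ⟨0, fun _ => by rw [map_zero]; exact (TensorProduct.tmul_zero _ b).symm⟩
          | add y y' hy hy' ih ih' =>
            intro b
            obtain ⟨v, hv⟩ := ih b; obtain ⟨w, hw⟩ := ih' b
            refine ⟨v + w, fun _ => ?_⟩
            rw [map_add, hv (hmA.le hy), hw (hmA.le hy'), ← TensorProduct.tmul_add]
            rfl
          | smul c y hy ih =>
            intro b
            obtain ⟨v, hv⟩ := ih (c • b)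
            refine ⟨v, fun _ => ?_⟩
            rw [hv (hmA.le hy), TensorProduct.smul_tmul]
            rfl
        obtain ⟨w, hw⟩ := key b
        exact ⟨w, hw hx⟩
    intro z hz
    obtain ⟨w, rfl⟩ := hF z
    have hcomp : ∀ w, TensorProduct.rid Ah Bh ((IsLocalRing.maximalIdeal Ah).subtype.lTensor Bh (F w)) =
        TensorProduct.rid A Bh ((IsLocalRing.maximalIdeal A).subtype.lTensor Bh w) := by
      intro w
      induction w using TensorProduct.induction_on with
      | zero => simp
      | add x y hx hy => simp only [map_add, hx, hy]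
      | tmul b a => simp [F, ι, algebraMap_smul]
    have h0 := hcomp w
    rw [hz, map_zero] at h0
    have h1 : (IsLocalRing.maximalIdeal A).subtype.lTensor Bh w = 0 :=
      (TensorProduct.rid A Bh).injective (h0.symm.trans (map_zero _).symm)
    rw [Module.Flat.lTensor_preserves_injective_linearMap (M := Bh) _ Subtype.val_injective (h1.trans (map_zero _).symm), map_zero]

end Groth.Agent.S9231
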