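import Groth.Statements.S9232
import Mathlib.RingTheory.AdicCompletion.Completeness
import Mathlib.RingTheory.AdicCompletion.Algebra
import Mathlib.RingTheory.Flat.FaithfullyFlat.Algebra
import Mathlib.RingTheory.LocalRing.ResidueField.Basic
import Mathlib.Tactic.Ring
-- import your own Groth.Agent.* helpers here

set_option autoImplicit false
universe u
open CAlg

namespace Groth.Agent.S9232

/-- Suppose A → B is a flat local ring map between Noetherian local rings, the maximal ideal of A
generates that of B, and the residue field map is bijective. Then the induced map between the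
completions of A and B (a ring map of the completions compatible with A → B; it is unique since A is
Noetherian) is an isomorphism. -/
theorem result (A B : Type u) [CommRing A]
    [CommRing B] [IsLocalRing A] [IsLocalRing B] [IsNoetherianRing A] [IsNoetherianRing B]
    [Algebra A B] [IsLocalHom (algebraMap A B)] [Module.Flat A B]
    (hm : Ideal.map (algebraMap A B) (IsLocalRing.maximalIdeal A) = IsLocalRing.maximalIdeal B)
    (hk : Function.Bijective (IsLocalRing.ResidueField.map (algebraMap A B)))
    (ψ : AdicCompletion (IsLocalRing.maximalIdeal A) A →+* AdicCompletion (IsLocalRing.maximalIdeal B) B)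
    (hψ : ψ.comp (algebraMap A (AdicCompletion (IsLocalRing.maximalIdeal A) A)) =
      (algebraMap B (AdicCompletion (IsLocalRing.maximalIdeal B) B)).comp (algebraMap A B)) :
    Function.Bijective ψ := by
  classical
  haveI : Module.FaithfullyFlat A B := Module.FaithfullyFlat.of_flat_of_isLocalHom
  let I := IsLocalRing.maximalIdeal A
  let J := IsLocalRing.maximalIdeal B
  have hIJ : ∀ n, (I ^ n).map (algebraMap A B) = J ^ n := fun n => by rw [Ideal.map_pow, hm]
  have hsur : ∀ (n : ℕ) (b : B), ∃ a : A, b - algebraMap A B a ∈ J ^ n := by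
    intro n
    induction n with
    | zero => intro b; exact ⟨0, by simp⟩
    | succ n ih =>
      intro b
      obtain ⟨a, ha⟩ := ih b
      have h1 : ∀ x ∈ J ^ n, ∃ a : A, x - algebraMap A B a ∈ J ^ (n + 1) := by
        intro x hx
        rw [← hIJ, Ideal.map] at hx
        induction hx using Submodule.span_induction with
        | mem y hy => obtain ⟨a, -, rfl⟩ := hy; exact ⟨a, by simp⟩
        | zero => exact ⟨0, by simp⟩
        | add y z _ _ hy hz =>
          obtain ⟨a, ha⟩ := hy
          obtain ⟨a', ha'⟩ := hz
          exact ⟨a + a', by rw [map_add, add_sub_add_comm]; exact add_mem ha ha'⟩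
        | smul r y hy0 hy =>
          obtain ⟨a, ha⟩ := hy
          obtain ⟨z, hz⟩ := hk.2 (IsLocalRing.residue B r)
          obtain ⟨r', rfl⟩ := IsLocalRing.residue_surjective z
          rw [IsLocalRing.ResidueField.map_residue] at hz
          refine ⟨r' * a, ?_⟩
          have h2 : r - algebraMap A B r' ∈ J := Ideal.Quotient.eq.1 hz.symm
          have h3 : y ∈ J ^ n := by rw [← hIJ, Ideal.map]; exact hy0
          rw [map_mul, smul_eq_mul, show r * y - algebraMap A B r' * algebraMap A B a =
            (r - algebraMap A B r') * y + algebraMap A B r' * (y - algebraMap A B a) by ring]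
          refine add_mem ?_ (Ideal.mul_mem_left _ _ ha)
          rw [pow_succ']; exact Ideal.mul_mem_mul h2 h3
      obtain ⟨a', ha'⟩ := h1 _ ha
      exact ⟨a + a', by rw [map_add, ← sub_sub]; exact ha'⟩
  have hinj : ∀ (n : ℕ) (a : A), algebraMap A B a ∈ J ^ n → a ∈ I ^ n := by
    intro n a ha
    rw [← hIJ] at ha
    exact (Ideal.comap_map_eq_self_of_faithfullyFlat (I ^ n)).le ha
  have hψe : ∀ (n : ℕ) (f : AdicCompletion.AdicCauchySequence I A),
      AdicCompletion.evalₐ J n (ψ (AdicCompletion.mk I A f)) = Ideal.Quotient.mk _ (algebraMap A B (f n)) := by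
    intro n f
    have h1 : AdicCompletion.mk I A f - algebraMap A (AdicCompletion I A) (f n) ∈
        LinearMap.ker (AdicCompletion.eval I A n) := by
      rw [LinearMap.mem_ker, map_sub, sub_eq_zero]; rfl
    rw [← AdicCompletion.pow_smul_top_eq_ker_eval (IsNoetherian.noetherian I), Ideal.smul_top_eq_map,
      Submodule.restrictScalars_mem] at h1
    have h2 := Ideal.mem_map_of_mem ψ h1
    rw [Ideal.map_map, hψ, ← Ideal.map_map, hIJ] at h2
    have h3 : ((J ^ n).map (algebraMap B (AdicCompletion J B))) ≤ RingHom.ker (AdicCompletion.evalₐ J n) :=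
      Ideal.map_le_iff_le_comap.2 fun b hb => by
        rw [Ideal.mem_comap, RingHom.mem_ker, AlgHom.commutes]
        exact Ideal.Quotient.eq_zero_iff_mem.2 hb
    have h4 := RingHom.mem_ker.1 (h3 h2)
    rw [map_sub, map_sub, sub_eq_zero] at h4
    rw [h4, ← RingHom.comp_apply ψ, hψ, RingHom.comp_apply, AlgHom.commutes]
    rfl
  constructor
  · intro x y hxy
    obtain ⟨f, rfl⟩ := AdicCompletion.mk_surjective I A x
    obtain ⟨g, rfl⟩ := AdicCompletion.mk_surjective I A y
    refine AdicCompletion.ext_evalₐ fun n => ?_
    rw [AdicCompletion.evalₐ_mk, AdicCompletion.evalₐ_mk, Ideal.Quotient.eq]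
    refine hinj n _ ?_
    rw [map_sub, ← Ideal.Quotient.eq, ← hψe, ← hψe, hxy]
  · intro y
    obtain ⟨b, rfl⟩ := AdicCompletion.mk_surjective J B y
    choose a ha using fun n => hsur n (b n)
    have hc : AdicCompletion.IsAdicCauchy I A a := by
      intro p q hpq
      rw [SModEq.sub_mem, smul_eq_mul, Ideal.mul_top]
      refine hinj p _ ?_
      have h4 := SModEq.sub_mem.1 (b.2 hpq)
      rw [smul_eq_mul, Ideal.mul_top] at h4
      rw [map_sub, show algebraMap A B (a p) - algebraMap A B (a q) =
        -(b p - algebraMap A B (a p)) + (b p - b q) + (b q - algebraMap A B (a q)) by ring]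
      exact add_mem (add_mem (neg_mem (ha p)) h4) (Ideal.pow_le_pow_right hpq (ha q))
    refine ⟨AdicCompletion.mk I A ⟨a, hc⟩, AdicCompletion.ext_evalₐ fun n => ?_⟩
    rw [hψe, AdicCompletion.evalₐ_mk, Ideal.Quotient.eq, ← neg_sub]
    exact neg_mem (ha n)

end Groth.Agent.S9232
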