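import Groth.Statements.S9235
import Groth.Agent.L23.BranchBasic

set_option autoImplicit false
set_option backward.isDefEq.respectTransparency.types false
universe u
open Brnch

namespace Groth.Agent.S9235

/-- A local ring A has exactly one branch if and only if it is unibranch. Here the number of branches is
computed as the number of maximal ideals of the integral closure of A_red in its total ring of
fractions (infinity when A has infinitely many minimal primes). -/
theorem result (A : Type u) [CommRing A] [IsLocalRing A] :
    Brnch.numBranches A = 1 ↔ CAlg2.IsUnibranch A := Groth.L23.Branch.numBranches_eq_one_iff A

end Groth.Agent.S9235
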