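import Groth.Statements.S9241
import Groth.Agent.L07.BrnchCompl.DimOne

set_option autoImplicit false
universe u
open Brnch

namespace Groth.Agent.S9241

/-- For a Noetherian local ring A of dimension 1, A and its completion A^ have the same number of
branches and the same number of geometric branches. -/
theorem result (A : Type u) [CommRing A] [IsLocalRing A]
    [IsNoetherianRing A] (hA : ringKrullDim A = 1) :
    Brnch.numBranches (AdicCompletion (IsLocalRing.maximalIdeal A) A) = Brnch.numBranches A ∧
      Brnch.numGeomBranches (AdicCompletion (IsLocalRing.maximalIdeal A) A) =
        Brnch.numGeomBranches A := by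
  exact ⟨Groth.L07.BrnchCompl.numBranches_eq A hA, Groth.L07.BrnchCompl.numGeomBranches_eq A hA⟩


end Groth.Agent.S9241
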