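import Groth.Statements.S9243
import Groth.Agent.L07.BrnchCompl.Compl

set_option autoImplicit false
universe u
open Brnch

namespace Groth.Agent.S9243

/-- Let A be a Noetherian local ring with henselization S and completion A^, and ψ : S → A^ the ring map
compatible with the structure maps from A. Then A and A^ have the same number of branches if and
only if, for every minimal prime q of S, the radical of the extension of q along ψ is a prime ideal
of A^. -/
theorem result (A S : Type u) [CommRing A] [IsLocalRing A]
    [IsNoetherianRing A] [CommRing S] [IsLocalRing S] [Algebra A S] [IsLocalHom (algebraMap A S)]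
    [Hensel.IsHenselization A S] (ψ : S →+* AdicCompletion (IsLocalRing.maximalIdeal A) A)
    (hψ : ψ.comp (algebraMap A S) = algebraMap A (AdicCompletion (IsLocalRing.maximalIdeal A) A)) :
    Brnch.numBranches A = Brnch.numBranches (AdicCompletion (IsLocalRing.maximalIdeal A) A) ↔
      ∀ q ∈ minimalPrimes S, (Ideal.map ψ q).radical.IsPrime := by
  haveI := Groth.L05.Henselization.flat_of_isHenselization A S
  obtain ⟨_, _, _, _, _, _⟩ := Groth.L07.BrnchCompl.hens_data A S ψ hψ
  letI := ψ.toAlgebra
  rw [← Groth.L23.Branch.card_minimalPrimes_hens A S, Groth.L07.BrnchCompl.numBranches_completion A]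
  change (minimalPrimes S).encard = _ ↔ _
  have hm := Groth.L07.BrnchCompl.mapsTo S (AdicCompletion (IsLocalRing.maximalIdeal A) A)
  have hs := Groth.L07.BrnchCompl.surjOn S (AdicCompletion (IsLocalRing.maximalIdeal A) A)
  constructor
  · intro h q hq
    obtain ⟨p, hp, hpq⟩ := hs hq
    have hinj : Set.InjOn (Ideal.comap (algebraMap S (AdicCompletion (IsLocalRing.maximalIdeal A) A)))
        (minimalPrimes (AdicCompletion (IsLocalRing.maximalIdeal A) A)) := by
      refine (minimalPrimes.finite_of_isNoetherianRing _).injOn_of_encard_image_eq ?_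
      rw [Set.Subset.antisymm hm.image_subset hs, h]
    haveI := hp.isPrime
    have hrad : (Ideal.map ψ q).radical = p := by
      refine le_antisymm ((Ideal.radical_mono (Ideal.map_le_iff_le_comap.mpr hpq.ge)).trans
        (Ideal.IsPrime.radical ‹p.IsPrime›).le) ?_
      rw [Ideal.radical_eq_sInf]
      refine le_sInf fun P ⟨hP, hPp⟩ => ?_
      haveI := hPp
      haveI := hq.isPrime
      obtain ⟨P', hP'P, hP', hP'q⟩ := Ideal.exists_ideal_le_liesOver_of_le (p := q)
        (q := P.comap (algebraMap S (AdicCompletion (IsLocalRing.maximalIdeal A) A))) P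
        (Ideal.map_le_iff_le_comap.mp hP)
      obtain ⟨p', hp', hle⟩ := Ideal.exists_minimalPrimes_le
        (I := (⊥ : Ideal (AdicCompletion (IsLocalRing.maximalIdeal A) A))) (J := P') bot_le
      have h1 : p'.comap ψ ≤ q := (Ideal.comap_mono hle).trans_eq hP'q.over.symm
      have h2 : p'.comap ψ = q := le_antisymm h1 (hq.2 ⟨(hm hp').isPrime, bot_le⟩ h1)
      rw [← hinj hp' hp (h2.trans hpq.symm)]
      exact hle.trans hP'P
    rw [hrad]
    infer_instance
  · intro h
    refine (Groth.L07.BrnchCompl.encard_eq_of_bijOn ⟨hm, fun p hp p' hp' he => ?_, hs⟩).symm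
    have key : ∀ r ∈ minimalPrimes (AdicCompletion (IsLocalRing.maximalIdeal A) A),
        (Ideal.map ψ (r.comap ψ)).radical = r := fun r hr => by
      haveI := hr.isPrime
      have hle : (Ideal.map ψ (r.comap ψ)).radical ≤ r :=
        (Ideal.radical_mono Ideal.map_comap_le).trans (Ideal.IsPrime.radical ‹r.IsPrime›).le
      exact le_antisymm hle (hr.2 ⟨h _ (hm hr), bot_le⟩ hle)
    change p.comap ψ = p'.comap ψ at he
    rw [← key p hp, he, key p' hp']


end Groth.Agent.S9243
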