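import Groth.Statements.S9246
import Groth.Agent.L05.Henselization.EtaleLike
import Groth.Agent.L19.FlatComp
import Mathlib.RingTheory.Etale.Basic
import Mathlib.RingTheory.EssentialFiniteness
import Mathlib.RingTheory.Smooth.Flat
import Mathlib.RingTheory.Unramified.LocalRing

set_option autoImplicit false
universe u
open CAlg

namespace Groth.Agent.S9246

/-- Let A → B be an étale ring map and q a prime of B lying over the prime p of A. Then A_p is a regular
local ring if and only if B_q is a regular local ring. -/
theorem result (A B : Type u) [CommRing A] [CommRing B]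
    [Algebra A B] [Algebra.Etale A B] (q : Ideal B) [q.IsPrime] :
    IsRegularLocalRing (Localization.AtPrime (Ideal.comap (algebraMap A B) q)) ↔
      IsRegularLocalRing (Localization.AtPrime q) := by
  let p := Ideal.comap (algebraMap A B) q
  haveI : p.IsPrime := Ideal.IsPrime.comap _
  haveI : q.LiesOver p := ⟨rfl⟩
  letI := Localization.AtPrime.algebraOfLiesOver p q
  let Ap := Localization.AtPrime p
  let Bq := Localization.AtPrime q
  have hm : (IsLocalRing.maximalIdeal Ap).map (algebraMap Ap Bq) = IsLocalRing.maximalIdeal Bq := by
    have h := ((Algebra.isUnramifiedAt_iff_map_eq A p q).mp inferInstance).2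
    rw [← Localization.AtPrime.map_eq_maximalIdeal, Ideal.map_map, ← IsScalarTower.algebraMap_eq A Ap Bq, h]
  haveI : Algebra.EssFiniteType B Bq := Algebra.EssFiniteType.of_isLocalization Bq q.primeCompl
  haveI : Algebra.EssFiniteType A Bq := Algebra.EssFiniteType.comp A B Bq
  haveI : Algebra.EssFiniteType Ap Bq := Algebra.EssFiniteType.of_comp A Ap Bq
  constructor
  · intro h
    haveI : IsNoetherianRing Bq := Algebra.EssFiniteType.isNoetherianRing Ap Bq
    exact (Groth.L05.Henselization.isRegularLocalRing_iff_of_map_maximalIdeal Ap Bq hm).1 h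
  · intro h
    haveI : IsLocalHom (algebraMap Ap Bq) :=
      ((IsLocalRing.local_hom_TFAE (algebraMap Ap Bq)).out 0 2 rfl rfl).mpr hm.le
    haveI : Module.FaithfullyFlat Ap Bq := Module.FaithfullyFlat.of_flat_of_isLocalHom
    haveI : IsNoetherianRing Ap := Groth.L19.isNoetherianRing_of_faithfullyFlat Ap Bq
    exact (Groth.L05.Henselization.isRegularLocalRing_iff_of_map_maximalIdeal Ap Bq hm).2 h

end Groth.Agent.S9246
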