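import Groth.Statements.S9247
import Groth.Agent.L03.StablyFree
import Mathlib.RingTheory.Localization.Away.Basic

set_option autoImplicit false
universe u
open CAlg

namespace Groth.Agent.S9247

/-- For a regular local ring R and an element f of R, the Picard group of R_f is trivial. -/
theorem result (R : Type u) [CommRing R]
    [IsRegularLocalRing R] (f : R) : Subsingleton (CommRing.Pic (Localization.Away f)) := by
  classical
  rw [CommRing.Pic.subsingleton_iff]
  intro M _ _ hinv
  let S := Submonoid.powers f
  rcases subsingleton_or_nontrivial (Localization.Away f) with hA | hA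
  · haveI : Subsingleton M := Module.subsingleton (Localization.Away f) M
    exact Module.Free.of_subsingleton _ M
  letI : Module R M := Module.compHom M (algebraMap R (Localization.Away f))
  haveI : IsScalarTower R (Localization.Away f) M := IsScalarTower.of_compHom R _ M
  obtain ⟨G, hG⟩ := (inferInstance : Module.Finite (Localization.Away f) M).fg_top
  let N : Submodule R M := Submodule.span R (G : Set M)
  haveI : Module.Finite R N := Module.Finite.iff_fg.2 ⟨G, rfl⟩
  have hu : ∀ x : S, IsUnit (algebraMap R (Module.End R M) x) := fun x => by
    rw [Module.End.isUnit_iff]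
    obtain ⟨u, hu⟩ := IsLocalization.map_units (Localization.Away f) x
    constructor
    · intro a b hab
      simp only [Module.algebraMap_end_apply] at hab
      rw [← IsScalarTower.algebraMap_smul (Localization.Away f), ← IsScalarTower.algebraMap_smul (Localization.Away f) (x : R) b, ← hu,
        ← Units.smul_def, ← Units.smul_def] at hab
      exact MulAction.injective u hab
    · intro a
      refine ⟨(↑u⁻¹ : Localization.Away f) • a, ?_⟩
      rw [Module.algebraMap_end_apply, ← IsScalarTower.algebraMap_smul (Localization.Away f), ← hu, smul_smul, u.mul_inv, one_smul]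
  haveI hloc : IsLocalizedModule S N.subtype := by
    refine ⟨hu, fun y => ?_, fun {a b} hab => ⟨1, by rw [N.injective_subtype hab]⟩⟩
    have hy : y ∈ Submodule.span (Localization.Away f) (G : Set M) := hG ▸ Submodule.mem_top
    obtain ⟨⟨s, hs⟩, hsy⟩ : ∃ s : S, (s : R) • y ∈ N := by
      induction hy using Submodule.span_induction with
      | mem g hg => exact ⟨1, by rw [Submonoid.coe_one, one_smul]; exact Submodule.subset_span hg⟩
      | zero => exact ⟨1, by rw [smul_zero]; exact zero_mem _⟩
      | add a b _ _ ha hb =>
        obtain ⟨s, hs⟩ := ha
        obtain ⟨t, ht⟩ := hb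
        refine ⟨s * t, ?_⟩
        rw [Submonoid.coe_mul, smul_add]
        refine add_mem ?_ ?_
        · rw [mul_comm, mul_smul]; exact N.smul_mem _ hs
        · rw [mul_smul]; exact N.smul_mem _ ht
      | smul c a _ ha =>
        obtain ⟨s, hs⟩ := ha
        obtain ⟨⟨r, t⟩, hrt⟩ := IsLocalization.surj S c
        refine ⟨t * s, ?_⟩
        have : ((t : R) * s) • c • a = r • ((s : R) • a) := by
          rw [← IsScalarTower.algebraMap_smul (Localization.Away f), ← IsScalarTower.algebraMap_smul (Localization.Away f) r,
            ← IsScalarTower.algebraMap_smul (Localization.Away f) (s : R), smul_smul, smul_smul, ← hrt, map_mul]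
          congr 1
          ring
        rw [Submonoid.coe_mul, this]
        exact N.smul_mem _ hs
    exact ⟨⟨⟨_, hsy⟩, ⟨s, hs⟩⟩, rfl⟩
  let e : LocalizedModule S N ≃ₗ[Localization S] M :=
    (IsLocalizedModule.iso S N.subtype).extendScalarsOfIsLocalization S (Localization S)
  haveI : Nontrivial (Localization S) := hA
  obtain ⟨d, hd⟩ := Groth.L01.exists_dim_eq_nat (R := R)
  haveI : Module.Projective (Localization S) (LocalizedModule S N) := Module.Projective.of_equiv e.symm
  have h := Groth.L03.StablyFree.isStablyFree_localizedModule S d N
    (Groth.L04.hasProjectiveDimensionLE_of_regularLocal hd _) inferInstance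
  exact Groth.L03.StablyFree.free_of_invertible (A := Localization.Away f) (M := M) (h.congr e)

end Groth.Agent.S9247
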