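import Groth.Statements.S9248
import Groth.Agent.L01.ValPic
import Mathlib.RingTheory.Localization.BaseChange
import Mathlib.RingTheory.TensorProduct.Quotient

set_option autoImplicit false
universe u
open CAlg

namespace Groth.Agent.S9248

/-- Let R be a valuation ring, K its field of fractions and κ its residue field, and let A be a local
ring with a flat, local homomorphism R → A essentially of finite type such that κ ⊗_R A is a regular
ring. Then K ⊗_R A has trivial Picard group. -/
theorem result (R A : Type u) [CommRing R] [IsDomain R]
    [ValuationRing R] [CommRing A] [IsLocalRing A] [Algebra R A] [IsLocalHom (algebraMap R A)]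
    [Module.Flat R A] [Algebra.EssFiniteType R A]
    (hreg : IsRegularRing (TensorProduct R (IsLocalRing.ResidueField R) A)) :
    Subsingleton (CommRing.Pic (TensorProduct R (FractionRing R) A)) := by
  let e₁ : (A ⧸ Groth.L01.ValPic.J R A) ≃+* TensorProduct R (IsLocalRing.ResidueField R) A :=
    (Algebra.TensorProduct.quotIdealMapEquivTensorQuot A (IsLocalRing.maximalIdeal R)).toRingEquiv.trans
      (Algebra.TensorProduct.comm R A (R ⧸ IsLocalRing.maximalIdeal R)).toRingEquiv
  haveI : IsRegularRing (A ⧸ Groth.L01.ValPic.J R A) := IsRegularRing.of_ringEquiv e₁.symm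
  haveI : IsRegularLocalRing (A ⧸ Groth.L01.ValPic.J R A) := IsRegularLocalRing.of_isRegularRing_of_isLocalRing _
  haveI h := Groth.L01.ValPic.subsingleton_pic (R := R) (A := A)
  letI : Algebra A (TensorProduct R (FractionRing R) A) := Algebra.TensorProduct.rightAlgebra
  let S := Algebra.algebraMapSubmonoid A (nonZeroDivisors R)
  haveI : IsLocalization S (TensorProduct R (FractionRing R) A) :=
    IsLocalization.tensorRight (FractionRing R) (nonZeroDivisors R)
  let e : Localization S ≃+* TensorProduct R (FractionRing R) A :=
    (IsLocalization.algEquiv S (Localization S) (TensorProduct R (FractionRing R) A)).toRingEquiv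
  refine ⟨fun x y => ?_⟩
  have hx : ∀ z, CommRing.Pic.mapRingHom e.toRingHom (CommRing.Pic.mapRingHom e.symm.toRingHom z) = z := fun z => by
    rw [CommRing.Pic.mapRingHom_mapRingHom, show e.toRingHom.comp e.symm.toRingHom = RingHom.id _ from RingHom.ext e.apply_symm_apply, CommRing.Pic.mapRingHom_id_apply]
  rw [← hx x, ← hx y, Subsingleton.elim (CommRing.Pic.mapRingHom e.symm.toRingHom x)]


end Groth.Agent.S9248
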