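import Groth.Statements.S9250
import Groth.Agent.L06.GeomHom
import Groth.Agent.L19.FlatComp
import Mathlib.RingTheory.Flat.FaithfullyFlat.Algebra

set_option autoImplicit false
universe u
open CAlg

namespace Groth.Agent.S9250

/-- Let R → S be a regular ring map with S Noetherian and R regular. Then S is regular. -/
theorem result (R S : Type u) [CommRing R] [CommRing S] [Algebra R S]
    [IsRegularRing R] [IsNoetherianRing S] (h : CAlg.IsRegularHom R S) : IsRegularRing S := by
  obtain ⟨hf, h⟩ := h
  haveI := hf
  refine Groth.L06.FormalFibres.isRegularRing_of_flat (R := R) (S := S) fun p _ => ?_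
  haveI := (h p).1
  haveI := Groth.L06.GeomFG.isNoetherianRing_tensor p.ResidueField p.ResidueField (p.Fiber S)
  exact Groth.L06.PropLoc.loc_reg_iff.mp (Groth.L06.PropLoc.loc_of_ringEquiv Groth.L06.PropLoc.good_reg
    (Algebra.TensorProduct.lid p.ResidueField (p.Fiber S)).toRingEquiv
    (Groth.L06.PropLoc.loc_reg_iff.mpr ((h p).2 p.ResidueField inferInstance)))

end Groth.Agent.S9250
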