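import Groth.Statements.S9251
import Groth.Agent.L07.KoszulIdealDescent

set_option autoImplicit false
set_option linter.style.haveILetI false
universe u
attribute [local instance] HasDerivedCategory.standard
open CategoryTheory
open LCI

namespace Groth.Agent.S9251

/-- Let A → B be faithfully flat and I an ideal of A. If IB is a Koszul-regular ideal of B then I is a
Koszul-regular ideal of A. -/
theorem result (A B : Type u) [CommRing A] [CommRing B] [Algebra A B]
    [Module.FaithfullyFlat A B] (I : Ideal A)
    (h : LCI.IsKoszulRegularIdeal (Ideal.map (algebraMap A B) I)) :
    LCI.IsKoszulRegularIdeal I := by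
  exact Groth.L07.KoszulIdeal.isKoszulRegularIdeal_descend (algebraMap A B)
    (RingHom.faithfullyFlat_algebraMap_iff.mpr inferInstance) I h

end Groth.Agent.S9251
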