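import Groth.Statements.S9255
import Groth.Agent.S2650
import Groth.Agent.S9406
import Groth.Agent.L06.J2
import Groth.Agent.L20.GenericFreeness

set_option autoImplicit false
set_option maxSynthPendingDepth 3
set_option linter.style.haveILetI false
universe u
open EGA4

namespace Groth.Agent.S9255

/-- Let R be a Noetherian domain and R → S an injective ring map of finite type with S a domain. If the
regular locus of Spec S contains a nonempty open subset, then the regular locus of Spec R contains a
nonempty open subset. -/
theorem result (R S : Type u) [CommRing R]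
    [IsDomain R] [IsNoetherianRing R] [CommRing S] [IsDomain S] [Algebra R S] [Algebra.FiniteType R S]
    (hinj : Function.Injective (algebraMap R S))
    (hS : ∃ U : Set (PrimeSpectrum S), IsOpen U ∧ U.Nonempty ∧ U ⊆ EGA4.regLocus S) :
    ∃ U : Set (PrimeSpectrum R), IsOpen U ∧ U.Nonempty ∧ U ⊆ EGA4.regLocus R := by
  classical
  obtain ⟨U, hU, ⟨x, hx⟩, hUreg⟩ := hS
  obtain ⟨_, ⟨g, rfl⟩, hxg, hgU⟩ := PrimeSpectrum.isTopologicalBasis_basic_opens.exists_subset_of_mem_open hx hU
  haveI : IsNoetherianRing S := Algebra.FiniteType.isNoetherianRing R S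
  have hg0 : g ≠ 0 := fun h => hxg (h ▸ zero_mem _)
  let T := Localization.Away g
  haveI : IsRegularRing T := Groth.L06.J2.isRegularRing_away g T fun q hq => hUreg (hgU hq)
  haveI : IsDomain T := IsLocalization.isDomain_localization (powers_le_nonZeroDivisors_of_noZeroDivisors hg0)
  haveI : Algebra.FiniteType R T :=
    Algebra.FiniteType.trans inferInstance (IsLocalization.finiteType_of_monoid_fg (Submonoid.powers g) T)
  have hinjT : Function.Injective (algebraMap R T) := by
    rw [IsScalarTower.algebraMap_eq R S T]
    exact (IsLocalization.injective T (powers_le_nonZeroDivisors_of_noZeroDivisors hg0)).comp hinj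
  obtain ⟨a, ha, hfree, -⟩ := Groth.L20.GF.exists_free_and_nearlyFP (R := R) (S := T) T
  let Ra := Localization.Away a
  let Ta := TensorProduct R T Ra
  let M := Algebra.algebraMapSubmonoid T (Submonoid.powers a)
  haveI : IsLocalization M Ta := IsLocalization.tensor Ra (Submonoid.powers a)
  haveI : IsNoetherianRing Ta := IsLocalization.isNoetherianRing M Ta inferInstance
  haveI : IsRegularRing Ta := by
    refine ⟨fun P _ => ?_⟩
    have h1 : (⟨P, inferInstance⟩ : PrimeSpectrum Ta) ∈ EGA4.regLocus Ta := by
      rw [Groth.Agent.S2650.regLocus_preimage (T := Ta) M]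
      show IsRegularLocalRing _
      exact IsRegularRing.isRegularLocalRing_localization _
    exact h1
  haveI : IsRegularRing (TensorProduct R Ra T) := IsRegularRing.of_ringEquiv (Algebra.TensorProduct.comm R T Ra).toRingEquiv
  haveI : IsDomain Ta := IsLocalization.isDomain_of_le_nonZeroDivisors (M := M) (S := Ta) (by
    rintro _ ⟨y, ⟨i, rfl⟩, rfl⟩
    exact mem_nonZeroDivisors_of_ne_zero (by
      rw [map_pow]; exact pow_ne_zero _ ((map_ne_zero_iff _ hinjT).mpr ha)))
  haveI : Nontrivial (TensorProduct R Ra T) := (Algebra.TensorProduct.comm R T Ra).toEquiv.symm.nontrivial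
  haveI : Module.Free Ra (TensorProduct R Ra T) := hfree
  haveI : IsRegularRing Ra := Groth.Agent.S9406.result Ra (TensorProduct R Ra T)
  refine ⟨↑(PrimeSpectrum.basicOpen a), (PrimeSpectrum.basicOpen a).isOpen, ⟨⟨⊥, Ideal.isPrime_bot⟩, ?_⟩,
    fun q hq => Groth.L06.J2.regLocus_of_away a Ra q hq⟩
  show a ∉ (⊥ : Ideal R)
  exact ha

end Groth.Agent.S9255
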