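import Groth.Statements.S9256
import Groth.Agent.L03.GeomReduced2
import Groth.Agent.L01.Regular
import Mathlib.RingTheory.RegularLocalRing.Defs
import Mathlib.RingTheory.LocalProperties.Reduced
import Mathlib.LinearAlgebra.TensorProduct.Tower

set_option autoImplicit false
universe u
open CAlg

open TensorProduct

namespace Groth.Agent.S9256

/-- For a field extension K of k, the ring map k → K is regular exactly when K is separable over k, that
is, geometrically reduced over k. -/
theorem result (k K : Type u) [Field k] [Field K]
    [Algebra k K] : CAlg.IsRegularHom k K ↔ Algebra.IsGeometricallyReduced k K := by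
  refine ⟨fun h => Groth.L03.GeomReduced.isGeometricallyReduced_of_finite k K fun k' _ _ hk' => ?_, fun h => ⟨inferInstance, fun p _ => ?_⟩⟩
  · haveI := hk'
    obtain ⟨-, hreg⟩ := h.2 (⊥ : Ideal k)
    let κ := (⊥ : Ideal k).ResidueField
    let i := (⊥ : Ideal k).algEquivResidueFieldOfField
    letI : Algebra κ k' := ((algebraMap k k').comp (i.symm : κ →+* k)).toAlgebra
    haveI : IsScalarTower k κ k' := IsScalarTower.of_algebraMap_eq fun x => by
      show algebraMap k k' x = algebraMap k k' (i.symm (algebraMap k κ x))
      rw [AlgEquiv.commutes]; rfl
    haveI : Module.Finite κ k' := Module.Finite.of_restrictScalars_finite k κ k'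
    haveI := hreg k' inferInstance
    haveI : IsReduced (k' ⊗[κ] (κ ⊗[k] K)) := isReduced_ofLocalizationMaximal _ fun J hJ => by
      haveI : IsRegularLocalRing (Localization.AtPrime J) := IsRegularRing.isRegularLocalRing_localization J
      haveI := Groth.L01.isDomain_of_regular (Localization.AtPrime J)
      infer_instance
    exact isReduced_of_injective (Algebra.TensorProduct.cancelBaseChange k κ κ k' K).symm.toAlgHom
      (Algebra.TensorProduct.cancelBaseChange k κ κ k' K).symm.injective
  · haveI : Module.Finite k p.ResidueField := Module.Finite.equiv p.algEquivResidueFieldOfField.toLinearEquiv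
    haveI : IsArtinianRing (K ⊗[k] p.ResidueField) := IsArtinianRing.of_finite K _
    haveI : IsArtinianRing (p.ResidueField ⊗[k] K) :=
      (Algebra.TensorProduct.comm k K p.ResidueField).toRingEquiv.surjective.isArtinianRing
    refine ⟨inferInstanceAs (IsNoetherianRing (p.ResidueField ⊗[k] K)), fun k' _ _ hk' => ?_⟩
    haveI := hk'
    letI : Algebra k k' := ((algebraMap p.ResidueField k').comp (algebraMap k p.ResidueField)).toAlgebra
    haveI : IsScalarTower k p.ResidueField k' := IsScalarTower.of_algebraMap_eq fun _ => rfl
    haveI : Module.Finite k k' := Module.Finite.trans p.ResidueField k'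
    haveI : IsReduced (k' ⊗[k] K) := Groth.L03.GeomReduced2.isReduced_of_isGeometricallyReduced k'
    haveI : IsArtinianRing (K ⊗[k] k') := IsArtinianRing.of_finite K _
    haveI : IsArtinianRing (k' ⊗[k] K) :=
      (Algebra.TensorProduct.comm k K k').toRingEquiv.surjective.isArtinianRing
    haveI : IsRegularRing (k' ⊗[k] K) := by
      refine isRegularRing_iff.2 fun P _ => ?_
      haveI : P.IsMaximal := IsArtinianRing.isMaximal_of_isPrime P
      haveI : IsReduced (Localization.AtPrime P) :=
        isReduced_localizationPreserves P.primeCompl _ inferInstance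
      have hF : IsField (Localization.AtPrime P) := IsArtinianRing.isField_of_isReduced_of_isLocalRing _
      letI := hF.toField
      infer_instance
    exact IsRegularRing.of_ringEquiv (Algebra.TensorProduct.cancelBaseChange k p.ResidueField p.ResidueField k' K).symm.toRingEquiv

end Groth.Agent.S9256
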