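import Groth.Statements.S9259
import Groth.Agent.L06.FormSmoothHom
import Groth.Agent.L06.FibreTransfer
-- import your own Groth.Agent.* helpers here

set_option autoImplicit false
universe u
open CAlg

namespace Groth.Agent.S9259

set_option maxSynthPendingDepth 3
set_option linter.style.haveILetI false

open Groth.L06 IsLocalRing PropLoc
open scoped TensorProduct

variable (R Λ : Type u) [CommRing R] [CommRing Λ] [Algebra R Λ] [IsNoetherianRing Λ]

/-- A regular map induces regular maps of the local rings. -/
theorem to_local (h : CAlg.IsRegularHom R Λ) (q : Ideal Λ) [q.IsPrime] :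
    letI := (Localization.localRingHom (Ideal.comap (algebraMap R Λ) q) q (algebraMap R Λ) rfl).toAlgebra
    CAlg.IsRegularHom (Localization.AtPrime (Ideal.comap (algebraMap R Λ) q)) (Localization.AtPrime q) := by
  letI := (Localization.localRingHom (Ideal.comap (algebraMap R Λ) q) q (algebraMap R Λ) rfl).toAlgebra
  let p := Ideal.comap (algebraMap R Λ) q
  let Rp := Localization.AtPrime p
  let Lq := Localization.AtPrime q
  haveI : IsScalarTower R Rp Lq := IsScalarTower.of_algebraMap_eq fun a => by
    rw [IsScalarTower.algebraMap_apply R Λ Lq]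
    exact (Localization.localRingHom_to_map p q (algebraMap R Λ) rfl a).symm
  haveI : IsNoetherianRing Lq := IsLocalization.isNoetherianRing q.primeCompl _ inferInstance
  haveI := h.1
  haveI : Module.Flat R Lq := Module.Flat.trans R Λ Lq
  have h1 : CAlg.IsRegularHom R Lq := GeomHom.isRegularHom_of_geomHom
    (GeomHom.comp good_reg (GeomHom.geomHom_reg_of_isRegularHom h) (GeomHom.geomHom_localization q.primeCompl _))
  haveI : Algebra.EssFiniteType R Rp := Algebra.EssFiniteType.of_isLocalization Rp p.primeCompl
  haveI := IsLocalization.tensorProduct_compatibleSMul p.primeCompl Rp Rp Lq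
  let e : Rp ⊗[R] Lq ≃ₐ[Rp] Lq :=
    (Algebra.TensorProduct.equivOfCompatibleSMul R Rp Rp Rp Lq).symm.trans (Algebra.TensorProduct.lid Rp Lq)
  exact FibreTransfer.isRegularHom_congr e (FibreTransfer.isRegularHom_baseChange R Lq Rp h1)

set_option maxHeartbeats 1000000 in
/-- Regularity of the maps of local rings at the maximal ideals suffices. -/
theorem of_local (h : ∀ (n : Ideal Λ) [n.IsMaximal],
    letI := (Localization.localRingHom (Ideal.comap (algebraMap R Λ) n) n (algebraMap R Λ) rfl).toAlgebra
    CAlg.IsRegularHom (Localization.AtPrime (Ideal.comap (algebraMap R Λ) n)) (Localization.AtPrime n)) :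
    CAlg.IsRegularHom R Λ := by
  haveI : Module.Flat R Λ := by
    refine Module.flat_of_isLocalized_maximal Λ Λ (fun P => Localization.AtPrime P)
      (fun P => Algebra.linearMap Λ _) fun P hP => ?_
    letI := (Localization.localRingHom (Ideal.comap (algebraMap R Λ) P) P (algebraMap R Λ) rfl).toAlgebra
    haveI : IsScalarTower R (Localization.AtPrime (Ideal.comap (algebraMap R Λ) P)) (Localization.AtPrime P) :=
      IsScalarTower.of_algebraMap_eq fun a => by
        rw [IsScalarTower.algebraMap_apply R Λ (Localization.AtPrime P)]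
        exact (Localization.localRingHom_to_map _ P (algebraMap R Λ) rfl a).symm
    haveI := (h P).1
    exact Module.Flat.trans R (Localization.AtPrime (Ideal.comap (algebraMap R Λ) P)) _
  refine GeomHom.isRegularHom_of_geomHom fun p _ K _ _ hK => ?_
  haveI := hK
  letI : Algebra R K := ((algebraMap p.ResidueField K).comp (algebraMap R p.ResidueField)).toAlgebra
  haveI : IsScalarTower R p.ResidueField K := IsScalarTower.of_algebraMap_eq' rfl
  haveI : IsNoetherianRing (Λ ⊗[R] K) := FibreComp.isNoetherianRing_baseChange p K
  refine loc_of_ringEquiv good_reg (FibreComp.fibreEquivBase (B := Λ) p K).symm fun P _ => ?_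
  let R1 := Λ ⊗[R] K
  let Q := P.comap (algebraMap Λ R1)
  haveI : Q.IsPrime := Ideal.IsPrime.comap _
  obtain ⟨n, hn, hQn⟩ := Q.exists_le_maximal (Ideal.IsPrime.ne_top inferInstance)
  haveI := hn
  have hQp : p = Q.comap (algebraMap R Λ) := by
    have h1 : (P.comap (Algebra.TensorProduct.includeRight : K →ₐ[R] R1).toRingHom) = ⊥ :=
      ((Ideal.eq_bot_or_top _).resolve_right (Ideal.IsPrime.ne_top (Ideal.IsPrime.comap _)))
    rw [Ideal.comap_comap, ← IsScalarTower.algebraMap_eq,
      ← (Algebra.TensorProduct.includeRight : K →ₐ[R] R1).comp_algebraMap, ← Ideal.comap_comap]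
    erw [h1]
    rw [← RingHom.ker_eq_comap_bot, show algebraMap R K = (algebraMap p.ResidueField K).comp (algebraMap R p.ResidueField) from rfl,
      ← RingHom.comap_ker, (RingHom.injective_iff_ker_eq_bot _).mp (algebraMap p.ResidueField K).injective,
      ← RingHom.ker_eq_comap_bot, Ideal.ker_algebraMap_residueField]
  let m := n.comap (algebraMap R Λ)
  have hpm : p ≤ m := hQp.le.trans (Ideal.comap_mono hQn)
  let Rm := Localization.AtPrime m
  let Ln := Localization.AtPrime n
  letI := (Localization.localRingHom m n (algebraMap R Λ) rfl).toAlgebra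
  haveI : IsScalarTower R Rm Ln := IsScalarTower.of_algebraMap_eq fun a => by
    rw [IsScalarTower.algebraMap_apply R Λ Ln]
    exact (Localization.localRingHom_to_map m n (algebraMap R Λ) rfl a).symm
  let p' := p.map (algebraMap R Rm)
  have hd : Disjoint (m.primeCompl : Set R) p := Set.disjoint_left.2 fun a ha hap => ha (hpm hap)
  haveI : p'.IsPrime := IsLocalization.isPrime_of_isPrime_disjoint m.primeCompl Rm p inferInstance hd
  have hp' : p'.comap (algebraMap R Rm) = p :=
    IsLocalization.under_map_of_isPrime_disjoint m.primeCompl Rm inferInstance hd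
  -- the residue field at `p'` acts on `K`
  have hpcompl : ∀ a : R, a ∉ m → IsUnit (algebraMap R p.ResidueField a) := fun a ha =>
    IsUnit.mk0 _ fun h0 => ha (hpm (Ideal.algebraMap_residueField_eq_zero.1 h0))
  let φ : Rm →+* p.ResidueField := IsLocalization.lift (M := m.primeCompl) fun s => hpcompl s s.2
  have hφ : ∀ a, φ (algebraMap R Rm a) = algebraMap R p.ResidueField a := fun a => IsLocalization.lift_eq _ a
  have hkerφ : ∀ z, z ∈ p' → φ z = 0 := fun z hz => by
    have : p' ≤ RingHom.ker φ := Ideal.map_le_iff_le_comap.2 fun a ha => by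
      rw [Ideal.mem_comap, RingHom.mem_ker, hφ, Ideal.algebraMap_residueField_eq_zero.2 ha]
    exact this hz
  have hunit : ∀ z, z ∈ p'.primeCompl → IsUnit (φ z) := fun z hz => by
    refine IsUnit.mk0 _ fun h0 => hz ?_
    obtain ⟨a, s, rfl⟩ := IsLocalization.exists_mk'_eq m.primeCompl z
    have h2 : φ (algebraMap R Rm a) = 0 := by
      rw [← IsLocalization.mk'_spec (M := m.primeCompl) Rm a s, map_mul, h0, zero_mul]
    rw [hφ, Ideal.algebraMap_residueField_eq_zero] at h2
    show IsLocalization.mk' Rm a s ∈ p'
    rw [IsLocalization.mk'_mem_iff (M := m.primeCompl)]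
    exact Ideal.mem_map_of_mem _ h2
  let ψ : p'.ResidueField →+* p.ResidueField := Ideal.ResidueField.lift p' φ (fun z hz => hkerφ z hz) hunit
  have hψ : ∀ z, ψ (algebraMap Rm p'.ResidueField z) = φ z := fun z => Ideal.ResidueField.lift_algebraMap ..
  have hψs : Function.Surjective ψ := fun x => by
    obtain ⟨a, b, hb, rfl⟩ := IsFractionRing.div_surjective (R ⧸ p) x
    obtain ⟨a, rfl⟩ := Ideal.Quotient.mk_surjective a
    obtain ⟨b, rfl⟩ := Ideal.Quotient.mk_surjective b
    refine ⟨algebraMap Rm p'.ResidueField (algebraMap R Rm a) / algebraMap Rm p'.ResidueField (algebraMap R Rm b), ?_⟩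
    rw [map_div₀, hψ, hψ, hφ, hφ]
    rfl
  letI : Algebra p'.ResidueField K := ((algebraMap p.ResidueField K).comp ψ).toAlgebra
  haveI : Module.Finite p'.ResidueField K := by
    letI : Algebra p'.ResidueField p.ResidueField := ψ.toAlgebra
    haveI : IsScalarTower p'.ResidueField p.ResidueField K := IsScalarTower.of_algebraMap_eq' rfl
    haveI : Module.Finite p'.ResidueField p.ResidueField :=
      Module.Finite.of_surjective (Algebra.linearMap p'.ResidueField p.ResidueField) hψs
    exact Module.Finite.trans p.ResidueField K
  letI : Algebra Rm K := ((algebraMap p'.ResidueField K).comp (algebraMap Rm p'.ResidueField)).toAlgebra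
  haveI : IsScalarTower Rm p'.ResidueField K := IsScalarTower.of_algebraMap_eq' rfl
  haveI : IsScalarTower R Rm K := IsScalarTower.of_algebraMap_eq fun a => by
    show algebraMap p.ResidueField K (algebraMap R p.ResidueField a) =
      algebraMap p.ResidueField K (ψ (algebraMap Rm p'.ResidueField (algebraMap R Rm a)))
    rw [hψ, hφ]
  haveI : IsNoetherianRing Ln := IsLocalization.isNoetherianRing n.primeCompl _ inferInstance
  haveI : IsRegularRing (K ⊗[p'.ResidueField] p'.Fiber Ln) := ((h n).2 p').2 K inferInstance
  haveI := IsLocalization.tensorProduct_compatibleSMul m.primeCompl Rm K Ln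
  haveI : IsRegularRing (K ⊗[p.ResidueField] p.Fiber Ln) := IsRegularRing.of_ringEquiv
    (((Algebra.TensorProduct.cancelBaseChange Rm p'.ResidueField p'.ResidueField K Ln).toRingEquiv.trans
      (Algebra.TensorProduct.equivOfCompatibleSMul R Rm K K Ln).toRingEquiv).trans
      (Algebra.TensorProduct.cancelBaseChange R p.ResidueField p.ResidueField K Ln).toRingEquiv.symm)
  haveI : IsLocalization (Algebra.algebraMapSubmonoid R1 n.primeCompl) (R1 ⊗[Λ] Ln) :=
    IsLocalization.tensor (R := Λ) (S := R1) Ln n.primeCompl
  let T := R1 ⊗[Λ] Ln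
  haveI : IsRegularRing T := IsRegularRing.of_ringEquiv (R := K ⊗[p.ResidueField] p.Fiber Ln)
    (((FibreComp.fibreEquivBase (B := Ln) p K).trans
      (Algebra.TensorProduct.cancelBaseChange R Λ Λ Ln K).toRingEquiv.symm).trans
      (Algebra.TensorProduct.comm Λ Ln R1).toRingEquiv)
  have hdisj : Disjoint (Algebra.algebraMapSubmonoid R1 n.primeCompl : Set R1) P := by
    rw [Set.disjoint_left]
    rintro _ ⟨b, hb, rfl⟩ hbP
    exact hb (hQn hbP)
  let P' := P.map (algebraMap R1 T)
  haveI : P'.IsPrime := IsLocalization.isPrime_of_isPrime_disjoint _ _ P inferInstance hdisj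
  have hcomap : P'.comap (algebraMap R1 T) = P := IsLocalization.comap_map_of_isPrime_disjoint _ _ inferInstance hdisj
  haveI : IsLocalization.AtPrime (Localization.AtPrime P') P := by
    have h1 := IsLocalization.isLocalization_isLocalization_atPrime_isLocalization
      (Algebra.algebraMapSubmonoid R1 n.primeCompl) (Localization.AtPrime P') P'
    simp only [IsLocalization.AtPrime, Ideal.primeCompl, hcomap] at h1 ⊢
    exact h1
  haveI : IsRegularLocalRing (Localization.AtPrime P') := IsRegularRing.isRegularLocalRing_localization P'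
  exact IsRegularLocalRing.of_ringEquiv
    (IsLocalization.algEquiv P.primeCompl (Localization.AtPrime P') (Localization.AtPrime P)).toRingEquiv

/-- Regularity of a ring map is a local property: for a ring map R → Λ with Noetherian target,
regularity of R → Λ is equivalent to regularity of every induced local map R_p → Λ_q (q a prime of
Λ, p = q ∩ R), and also to regularity of those induced maps at the maximal ideals q of Λ. (The maps
of local rings are the canonical localized maps.) -/
theorem result (R Λ : Type u) [CommRing R] [CommRing Λ] [Algebra R Λ]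
    [IsNoetherianRing Λ] :
    (CAlg.IsRegularHom R Λ ↔
      ∀ (q : Ideal Λ) [q.IsPrime],
        letI := (Localization.localRingHom (Ideal.comap (algebraMap R Λ) q) q (algebraMap R Λ) rfl).toAlgebra
        CAlg.IsRegularHom (Localization.AtPrime (Ideal.comap (algebraMap R Λ) q))
          (Localization.AtPrime q)) ∧
    (CAlg.IsRegularHom R Λ ↔
      ∀ (n : Ideal Λ) [n.IsMaximal],
        letI := (Localization.localRingHom (Ideal.comap (algebraMap R Λ) n) n (algebraMap R Λ) rfl).toAlgebra
        CAlg.IsRegularHom (Localization.AtPrime (Ideal.comap (algebraMap R Λ) n))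
          (Localization.AtPrime n)) := by
  exact ⟨⟨fun h q _ => to_local R Λ h q, fun h => of_local R Λ fun n hn => h n⟩,
    ⟨fun h n _ => to_local R Λ h n, fun h => of_local R Λ h⟩⟩

end Groth.Agent.S9259
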