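import Groth.Statements.S9260
import Mathlib.RingTheory.Invariant.Basic
import Mathlib.Algebra.MvPolynomial.Eval
import Mathlib.Algebra.Polynomial.BigOperators
import Mathlib.RingTheory.Ideal.Maps

set_option autoImplicit false
universe u
open CAlg

namespace Groth.Agent.S9260

/-- Suppose a finite group G with n elements acts on a ring R by ring automorphisms, A → R is a ring map
compatible with the action whose image contains the invariants (so that A maps onto R^G), J is an
ideal of A, and x lies in JR. Then ∏_σ (T - σ(x)) is the image of a monic polynomial over A of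
degree at most n whose coefficients below degree n all lie in J. (The published statement takes A =
R^G and a polynomial of degree n; this row allows any such A mapping onto R^G and asks degree at
most n, which is the same when A is nonzero.) -/
theorem result (A R G : Type u) [CommRing A]
    [CommRing R] [Algebra A R] [Group G] [Fintype G] [MulSemiringAction G R] [SMulCommClass G A R]
    [Algebra.IsInvariant A R G] (J : Ideal A) (x : R) (hx : x ∈ Ideal.map (algebraMap A R) J) :
    ∃ P : Polynomial A, P.Monic ∧ P.natDegree ≤ Fintype.card G ∧
      (∀ i : ℕ, i < Fintype.card G → P.coeff i ∈ J) ∧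
      Polynomial.map (algebraMap A R) P = ∏ σ : G, (Polynomial.X - Polynomial.C (σ • x)) := by
  classical
  obtain ⟨m, r, g, hsum⟩ := Submodule.mem_span_set'.1
    (show x ∈ Submodule.span R (algebraMap A R '' (J : Set A)) from hx)
  choose j hj hjg using fun k => (g k).2
  let L : MvPolynomial (Fin m) R := ∑ k, MvPolynomial.C (r k) * MvPolynomial.X k
  let act : G → (MvPolynomial (Fin m) R →+* MvPolynomial (Fin m) R) :=
    fun σ => MvPolynomial.map (MulSemiringAction.toRingHom G R σ)
  let Q : Polynomial (MvPolynomial (Fin m) R) :=
    ∏ σ : G, (Polynomial.X - Polynomial.C (act σ L))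
  have hinv : ∀ τ, Q.map (act τ) = Q := by
    intro τ
    have hmul : ∀ σ, act τ (act σ L) = act (τ * σ) L := by
      intro σ
      simp only [act, MvPolynomial.map_map]
      congr 2
      ext y
      exact (mul_smul τ σ y).symm
    simp only [Q, Polynomial.map_prod, Polynomial.map_sub, Polynomial.map_X, Polynomial.map_C, hmul]
    exact Fintype.prod_equiv (Equiv.mulLeft τ) _ _ fun σ => rfl
  have hlift : ∀ i, ∃ c : MvPolynomial (Fin m) A, MvPolynomial.map (algebraMap A R) c = Q.coeff i := by
    intro i
    refine MvPolynomial.mem_range_map_iff_coeffs_subset.2 ?_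
    intro z hz
    obtain ⟨k, -, rfl⟩ := MvPolynomial.mem_coeffs_iff.1 hz
    refine Algebra.IsInvariant.isInvariant (A := A) (G := G) _ fun τ => ?_
    have h : act τ (Q.coeff i) = Q.coeff i := by
      rw [← Polynomial.coeff_map, hinv]
    conv_rhs => rw [← h]
    exact (MvPolynomial.coeff_map (MulSemiringAction.toRingHom G R τ) (Q.coeff i) k).symm
  choose c hc using hlift
  let ev : MvPolynomial (Fin m) R →+* R := MvPolynomial.eval fun k => algebraMap A R (j k)
  let d : ℕ → A := fun i =>
    MvPolynomial.eval j (c i) - MvPolynomial.constantCoeff (c i)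
  have hd : ∀ i, d i ∈ J := by
    intro i
    have : ∀ p : MvPolynomial (Fin m) A,
        MvPolynomial.eval j p - MvPolynomial.constantCoeff p ∈ J := by
      intro p
      induction p using MvPolynomial.induction_on with
      | C a => simp
      | add p q hp hq =>
        rw [map_add, map_add, add_sub_add_comm]
        exact add_mem hp hq
      | mul_X p k _ =>
        simp only [map_mul, MvPolynomial.eval_X, MvPolynomial.constantCoeff_X, mul_zero, sub_zero]
        exact J.mul_mem_left _ (hj k)
    exact this _
  have hev : Q.map ev = ∏ σ : G, (Polynomial.X - Polynomial.C (σ • x)) := by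
    simp only [Q, Polynomial.map_prod, Polynomial.map_sub, Polynomial.map_X, Polynomial.map_C]
    refine Finset.prod_congr rfl fun σ _ => ?_
    congr 2
    simp only [act, L, ev, map_sum, map_mul, MvPolynomial.map_C, MvPolynomial.map_X,
      MvPolynomial.eval_C, MvPolynomial.eval_X, ← hsum, Finset.smul_sum, smul_eq_mul]
    refine Finset.sum_congr rfl fun k _ => ?_
    rw [smul_mul', ← hjg k]
    change σ • r k * _ = _
    rw [Algebra.algebraMap_eq_smul_one, smul_comm σ, smul_one]
  have hQdeg : Q.natDegree ≤ Fintype.card G := by
    refine (Polynomial.natDegree_prod_le _ _).trans ?_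
    exact (Finset.sum_le_card_nsmul _ _ 1 fun σ _ => Polynomial.natDegree_X_sub_C_le _).trans (by simp)
  have hconst : ∀ i, i < Fintype.card G → algebraMap A R (MvPolynomial.constantCoeff (c i)) = 0 := by
    intro i hi
    rw [← MvPolynomial.constantCoeff_map, hc, ← Polynomial.coeff_map]
    have : Q.map MvPolynomial.constantCoeff = Polynomial.X ^ Fintype.card G := by
      have h0 : ∀ σ, MvPolynomial.constantCoeff (act σ L) = 0 := fun σ => by
        simp [act, L]
      simp [Q, Polynomial.map_prod, h0]
    rw [this, Polynomial.coeff_X_pow, if_neg hi.ne]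
  let P : Polynomial A := Polynomial.X ^ Fintype.card G +
    ∑ i ∈ Finset.range (Fintype.card G), Polynomial.C (d i) * Polynomial.X ^ i
  have hPcoeff : ∀ i, P.coeff i = if i = Fintype.card G then 1 else if i < Fintype.card G then d i else 0 := by
    intro i
    simp only [P, Polynomial.coeff_add, Polynomial.coeff_X_pow, Polynomial.finsetSum_coeff,
      Polynomial.coeff_C_mul_X_pow, Finset.sum_ite_eq, Finset.mem_range]
    by_cases h : i = Fintype.card G
    · simp [h]
    · simp [h]
  have hdegsum : (∑ i ∈ Finset.range (Fintype.card G), Polynomial.C (d i) * Polynomial.X ^ i).degree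
      < ((Fintype.card G : ℕ) : WithBot ℕ) := by
    rw [Polynomial.degree_lt_iff_coeff_zero]
    intro k hk
    simp only [Polynomial.finsetSum_coeff, Polynomial.coeff_C_mul_X_pow, Finset.sum_ite_eq, Finset.mem_range]
    exact if_neg (by omega)
  refine ⟨P, Polynomial.monic_X_pow_add hdegsum, ?_, fun i hi => ?_, ?_⟩
  · rw [Polynomial.natDegree_le_iff_coeff_eq_zero]
    intro k hk
    rw [hPcoeff, if_neg (by omega), if_neg (by omega)]
  · rw [hPcoeff, if_neg hi.ne, if_pos hi]
    exact hd i
  · rw [← hev]
    ext i
    rw [Polynomial.coeff_map, Polynomial.coeff_map, hPcoeff]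
    rcases lt_trichotomy i (Fintype.card G) with hi | hi | hi
    · rw [if_neg hi.ne, if_pos hi, map_sub, hconst i hi, sub_zero, ← hc]
      simp only [ev, MvPolynomial.eval_map]
      exact MvPolynomial.eval₂_comp (f := algebraMap A R) (g := j) (p := c i)
    · subst hi
      rw [if_pos rfl, map_one, ← Polynomial.coeff_map, hev]
      have h2 := Polynomial.monic_prod_of_monic (Finset.univ : Finset G)
        (fun σ => Polynomial.X - Polynomial.C (σ • x)) fun σ _ => Polynomial.monic_X_sub_C _
      rcases subsingleton_or_nontrivial R with hR | hR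
      · exact Subsingleton.elim _ _
      have h3 : (∏ σ : G, (Polynomial.X - Polynomial.C (σ • x))).natDegree = Fintype.card G := by
        rw [Polynomial.natDegree_prod_of_monic _ _ fun σ _ => Polynomial.monic_X_sub_C _]
        simp
      rw [← h3]
      exact h2.coeff_natDegree.symm
    · rw [if_neg hi.ne', if_neg (by omega), map_zero,
        Polynomial.coeff_eq_zero_of_natDegree_lt (lt_of_le_of_lt hQdeg hi), map_zero]

end Groth.Agent.S9260
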