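import Groth.Statements.S9261
import Mathlib.LinearAlgebra.TensorProduct.Pi
import Mathlib.RingTheory.Flat.Basic
import Mathlib.RingTheory.Invariant.Basic

set_option autoImplicit false
universe u
open CAlg

namespace Groth.Agent.S9261

/-- Let G be a finite group acting on a ring R, S = R^G its ring of invariants (here: S → R injective
with image the invariants) and A a flat S-algebra. Then the map A → A ⊗_S R is injective with image
the invariants of G acting on A ⊗_S R through the second factor; that is, A → (A ⊗_S R)^G is an
isomorphism. -/
theorem result (S R A G : Type u) [CommRing S] [CommRing R] [Algebra S R]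
    [FaithfulSMul S R] [Group G] [Finite G] [MulSemiringAction G R] [SMulCommClass G S R]
    [Algebra.IsInvariant S R G] [CommRing A] [Algebra S A] [Module.Flat S A] :
    Function.Injective (algebraMap A (TensorProduct S A R)) ∧
      ∀ x : TensorProduct S A R,
        (∀ σ : G, Algebra.TensorProduct.map (AlgHom.id S A) (MulSemiringAction.toAlgHom S R σ) x = x) →
          x ∈ Set.range (algebraMap A (TensorProduct S A R)) := by
  classical
  haveI := Fintype.ofFinite G
  have hinj : Function.Injective (algebraMap A (TensorProduct S A R)) :=
    Algebra.TensorProduct.includeLeft_injective (S := A) (FaithfulSMul.algebraMap_injective S R)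
  refine ⟨hinj, fun x hx => ?_⟩
  let δ : R →ₗ[S] (G → R) :=
    LinearMap.pi fun σ => (MulSemiringAction.toAlgHom S R σ).toLinearMap - LinearMap.id
  have hex : Function.Exact (Algebra.linearMap S R) δ := by
    intro r
    constructor
    · intro h
      exact Algebra.IsInvariant.isInvariant r fun σ => sub_eq_zero.1 (congrFun h σ)
    · rintro ⟨s, rfl⟩
      funext σ
      change σ • algebraMap S R s - algebraMap S R s = 0
      rw [Algebra.algebraMap_eq_smul_one, smul_comm, smul_one, sub_self]
  have h2 := Module.Flat.lTensor_exact A hex
  obtain ⟨w, hw⟩ := (h2 x).1 (by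
    refine (TensorProduct.piRight S S A fun _ : G => R).map_eq_zero_iff.1 (funext fun σ => ?_)
    have key : ∀ y : TensorProduct S A R,
        TensorProduct.piRight S S A (fun _ : G => R) (δ.lTensor A y) σ =
          Algebra.TensorProduct.map (AlgHom.id S A) (MulSemiringAction.toAlgHom S R σ) y - y := by
      intro y
      induction y with
      | zero => simp
      | tmul a r => simp [δ, TensorProduct.tmul_sub]
      | add a b ha hb => simp only [map_add, Pi.add_apply, ha, hb]; abel
    rw [key, hx, sub_self, Pi.zero_apply])
  refine ⟨TensorProduct.rid S A w, ?_⟩
  rw [← hw]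
  clear hw
  induction w with
  | zero => simp
  | tmul a s =>
    simp [Algebra.TensorProduct.algebraMap_apply, Algebra.algebraMap_eq_smul_one s, TensorProduct.smul_tmul']
  | add a b ha hb => simp only [map_add, ha, hb]

end Groth.Agent.S9261
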