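import Groth.Statements.S9262
import Groth.Agent.L01.CompletionReg
import Groth.Agent.L05.Henselization.Noeth
import Groth.Agent.S0513
import Groth.Agent.S2743
-- import your own Groth.Agent.* helpers here

set_option autoImplicit false
universe u
open Hensel

namespace Groth.Agent.S9262

/-- Let R be a Noetherian local ring with henselization S and strict henselization T. Then R is a
discrete valuation ring exactly when S is one, and exactly when T is one. -/
theorem result (R S T : Type u)
    [CommRing R] [IsLocalRing R] [IsNoetherianRing R] [CommRing S] [IsLocalRing S] [Algebra R S]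
    [IsLocalHom (algebraMap R S)] [Hensel.IsHenselization R S] [CommRing T] [IsLocalRing T]
    [Algebra R T] [IsLocalHom (algebraMap R T)] [Hensel.IsStrictHenselization R T] :
    ((∃ _ : IsDomain R, IsDiscreteValuationRing R) ↔ (∃ _ : IsDomain S, IsDiscreteValuationRing S)) ∧
      ((∃ _ : IsDomain R, IsDiscreteValuationRing R) ↔
        (∃ _ : IsDomain T, IsDiscreteValuationRing T)) := by
  haveI : IsNoetherianRing S := (Groth.L05.Henselization.isNoetherianRing_iff_hens R S).mp inferInstance
  haveI : IsNoetherianRing T := (Groth.L05.Henselization.isNoetherianRing_iff_strict R T).mp inferInstance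
  simp only [Groth.L01.CompletionReg.dvr_iff_regular_dim_one]
  rw [Groth.L05.Henselization.ringKrullDim_hens R S, Groth.L05.Henselization.ringKrullDim_strict R T,
    ← Groth.Agent.S0513.result R S, Groth.Agent.S2743.result R T]
  exact ⟨Iff.rfl, Iff.rfl⟩

end Groth.Agent.S9262
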