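import Groth.Statements.S9263
import Mathlib.Algebra.Homology.HomotopyCategory.Pretriangulated

set_option autoImplicit false
universe u
attribute [local instance] HasDerivedCategory.standard
open CategoryTheory
open DerCA

namespace Groth.Agent.S9263

open CategoryTheory.Limits in
theorem isZero_quot (R : Type u) [CommRing R] {C : DRing.Cx R} (h : Homotopy (𝟙 C) 0) :
    IsZero ((HomotopyCategory.quotient (ModuleCat.{u} R) (ComplexShape.up ℤ)).obj C) := by
  rw [IsZero.iff_id_eq_zero]
  have := HomotopyCategory.eq_of_homotopy _ _ h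
  rw [CategoryTheory.Functor.map_id, CategoryTheory.Functor.map_zero] at this
  exact this

open CategoryTheory.Limits in
theorem isZero_cocone (R : Type u) [CommRing R] {K L : DRing.Cx R} (φ : K ⟶ L)
    (h : IsIso ((HomotopyCategory.quotient (ModuleCat.{u} R) (ComplexShape.up ℤ)).map φ)) :
    IsZero ((HomotopyCategory.quotient (ModuleCat.{u} R) (ComplexShape.up ℤ)).obj
      (CochainComplex.mappingCocone φ)) := by
  have hT := HomotopyCategory.mappingCone_triangleh_distinguished φ
  have h3 : IsZero ((HomotopyCategory.quotient (ModuleCat.{u} R) (ComplexShape.up ℤ)).obj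
      (CochainComplex.mappingCone φ)) :=
    Pretriangulated.Triangle.isZero₃_of_isIso₁ _ hT h
  exact ((shiftFunctor _ (-1 : ℤ)).map_isZero h3).of_iso
    (((HomotopyCategory.quotient (ModuleCat.{u} R) (ComplexShape.up ℤ)).commShiftIso (-1 : ℤ)).app _)

open CategoryTheory.Limits in
theorem bijective_unit (R : Type u) [CommRing R] {f : R} (hf : IsUnit f) (N : ModuleCat.{u} R) :
    Function.Bijective ⇑(LocalizedModule.mkLinearMap (Submonoid.powers f) N) := by
  constructor
  · rw [injective_iff_map_eq_zero]
    intro x hx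
    obtain ⟨⟨_, k, rfl⟩, hk⟩ :=
      (IsLocalizedModule.eq_zero_iff (Submonoid.powers f) (LocalizedModule.mkLinearMap (Submonoid.powers f) N)).1 hx
    exact (hf.pow k).smul_eq_zero.1 hk
  · intro y
    obtain ⟨⟨x, s⟩, hx⟩ :=
      IsLocalizedModule.surj (Submonoid.powers f) (LocalizedModule.mkLinearMap (Submonoid.powers f) N) y
    obtain ⟨_, k, rfl⟩ := s
    refine ⟨((hf.pow k).unit⁻¹ : Rˣ) • x, ?_⟩
    rw [Units.smul_def, map_smul, ← hx]
    show ((hf.pow k).unit⁻¹ : Rˣ).1 • f ^ k • y = y
    rw [smul_smul, IsUnit.val_inv_mul, one_smul]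

open CategoryTheory.Limits in
theorem isZero_extCech (R : Type u) [CommRing R] (M : ModuleCat.{u} R) : ∀ fs : List R,
    (∃ f ∈ fs, IsUnit f) →
      IsZero ((HomotopyCategory.quotient (ModuleCat.{u} R) (ComplexShape.up ℤ)).obj (DerCA.extCech M fs))
  | [], ⟨_, h, _⟩ => absurd h List.not_mem_nil
  | f :: fs, ⟨g, hg, hu⟩ => by
    apply isZero_cocone
    rcases List.mem_cons.1 hg with rfl | hg
    · haveI : ∀ i, IsIso ((DerCA.locCxUnit (Submonoid.powers g) (DerCA.extCech M fs)).f i) := fun i =>
        (ConcreteCategory.isIso_iff_bijective _).2 (bijective_unit R hu _)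
      haveI := HomologicalComplex.Hom.isIso_of_components (DerCA.locCxUnit (Submonoid.powers g) (DerCA.extCech M fs))
      infer_instance
    · have hz := isZero_extCech R M fs ⟨g, hg, hu⟩
      have hh : Homotopy (𝟙 (DerCA.extCech M fs)) 0 :=
        HomotopyCategory.homotopyOfEq _ _ (hz.eq_of_src _ _)
      have hz' : IsZero ((HomotopyCategory.quotient (ModuleCat.{u} R) (ComplexShape.up ℤ)).obj
          ((DerCA.locCx (Submonoid.powers f)).obj (DerCA.extCech M fs))) := by
        refine isZero_quot R ?_
        exact (Homotopy.ofEq (by simp)).trans (((DerCA.locFunctor (Submonoid.powers f)).mapHomotopy hh).trans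
          (Homotopy.ofEq (by simp)))
      exact ⟨⟨0, hz.eq_of_src _ _, hz'.eq_of_src _ _⟩⟩


/-- Let R be a ring, f_1, ..., f_r elements of R such that some f_i is a unit, and M an R-module. Then
the extended alternating Cech complex of M with respect to f_1, ..., f_r is homotopy equivalent to
zero: its identity map is null-homotopic. -/
theorem result (R : Type u) [CommRing R] (fs : List R)
    (hf : ∃ f ∈ fs, IsUnit f) (M : ModuleCat.{u} R) :
    Nonempty (Homotopy (𝟙 (DerCA.extCech M fs)) 0) := by
  exact ⟨HomotopyCategory.homotopyOfEq _ _ ((isZero_extCech R M fs hf).eq_of_src _ _)⟩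

end Groth.Agent.S9263
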