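import Groth.Statements.S9266
import Groth.Agent.L10.DRing.CechTorsion

set_option autoImplicit false
universe u
attribute [local instance] HasDerivedCategory.standard
open CategoryTheory
open DerCA

namespace Groth.Agent.S9266

/-- If some element f of the ideal (f_1, ..., f_r) acts invertibly on the module M, then the extended
alternating Cech complex of M with respect to f_1, ..., f_r has zero cohomology in every degree. -/
theorem result (R : Type u) [CommRing R] (fs : List R)
    (M : ModuleCat.{u} R) (f : R) (hf : f ∈ Ideal.span {a : R | a ∈ fs})
    (hbij : Function.Bijective (fun m : M => f • m)) (q : ℤ) :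
    Limits.IsZero (DerCA.extCechH fs M q) := by
  haveI : Subsingleton ((DerCA.extCech M fs).homology q : Type u) := by
    refine subsingleton_of_forall_eq 0 fun c => ?_
    obtain ⟨k, hk⟩ := Groth.L10.CechTorsion.exists_pow_smul_span M fs hf q c
    have hb := Groth.L04.Koszul.ExtCech.bijective_smul_homology M f hbij fs q
    have hinj : ∀ n : ℕ, Function.Injective fun y : ((DerCA.extCech M fs).homology q : Type u) => f ^ n • y := by
      intro n
      induction n with
      | zero => intro a b h; simpa using h
      | succ n ih =>
        intro a b h
        refine ih (hb.1 ?_)
        show f • f ^ n • a = f • f ^ n • b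
        rw [smul_smul, smul_smul, ← pow_succ']
        exact h
    exact hinj k (hk.trans (smul_zero _).symm)
  exact ModuleCat.isZero_of_subsingleton _

end Groth.Agent.S9266
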