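import Groth.Statements.S9267
import Groth.Agent.L04.Koszul.ExtCechRT
import Groth.Agent.L07.KoszulPerm

set_option autoImplicit false
universe u
attribute [local instance] HasDerivedCategory.standard
open CategoryTheory
open DerCA

namespace Groth.Agent.S9267

open CategoryTheory.Limits in
theorem head_pow (R : Type u) [CommRing R] (M : ModuleCat.{u} R) (a : R) (l : List R) (k : ℕ) (n : ℤ)
    (h : IsZero ((CohIII.koszulCx M (a :: l)).homology n)) :
    IsZero ((CohIII.koszulCx M (a ^ k :: l)).homology n) := by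
  have h' : IsZero ((CochainComplex.mappingCone (a • 𝟙 (CohIII.koszulCx M l))).homology n) := h
  show IsZero ((CochainComplex.mappingCone (a ^ k • 𝟙 (CohIII.koszulCx M l))).homology n)
  rw [Groth.L04.Koszul.isZero_cone_smul_iff _ _ n (n + 1) rfl] at h' ⊢
  obtain ⟨hs, hi⟩ := h'
  induction k with
  | zero => exact ⟨fun c => ⟨c, by rw [pow_zero, one_smul]⟩, fun c hc => by rwa [pow_zero, one_smul] at hc⟩
  | succ k ih =>
    refine ⟨fun c => ?_, fun c hc => ?_⟩
    · obtain ⟨c', rfl⟩ := ih.1 c
      obtain ⟨c'', rfl⟩ := hs c'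
      exact ⟨c'', by rw [pow_succ, mul_smul]⟩
    · rw [pow_succ, mul_smul] at hc
      exact hi c (ih.2 _ hc)

open CategoryTheory.Limits in
theorem map_pow (R : Type u) [CommRing R] (M : ModuleCat.{u} R) (k : ℕ) (n : ℤ) : ∀ l pre : List R,
    IsZero ((CohIII.koszulCx M (pre ++ l)).homology n) →
      IsZero ((CohIII.koszulCx M (pre ++ l.map (· ^ k))).homology n)
  | [], _, h => h
  | a :: l, pre, h => by
    have h1 := head_pow R M a (pre ++ l) k n
      ((Groth.L07.KoszulPerm.isZero_perm M List.perm_middle n).1 h)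
    have h2 := map_pow R M k n l (pre ++ [a ^ k]) ((Groth.L07.KoszulPerm.isZero_perm M
      (by simpa using (List.perm_middle (a := a ^ k) (l₁ := pre) (l₂ := l)).symm) n).1 h1)
    simpa using h2


/-- For a Koszul-regular sequence f_1, ..., f_r in a ring R, the extended alternating Cech complex R → ⊕
R_{f_i} → ... → R_{f_1 ... f_r} has cohomology only in degree r. -/
theorem result (R : Type u) [CommRing R] (fs : List R)
    (hfs : LCI.IsKoszulRegularSeq R fs) (q : ℤ) (hq : q ≠ (fs.length : ℤ)) :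
    Limits.IsZero (DerCA.extCechH fs (ModuleCat.of R R) q) := by
  apply ModuleCat.isZero_iff_subsingleton.2
  by_cases hq0 : q < 0
  · exact Groth.L04.Koszul.ExtCech.subsingleton_neg _ fs q hq0
  obtain ⟨k, rfl⟩ : ∃ k : ℕ, q = (k : ℤ) := ⟨q.toNat, by omega⟩
  obtain ⟨e⟩ := Groth.L04.Koszul.ExtCech.nonempty_equiv_RT fs k (ModuleCat.of R R)
  obtain ⟨e'⟩ := Groth.L04.Koszul.nonempty_HLim_equiv_RT fs k (ModuleCat.of R R)
    ((k : ℤ) - fs.length) (sub_add_cancel _ _)
  haveI : Subsingleton (Groth.L04.Koszul.HLim fs (ModuleCat.of R R) ((k : ℤ) - fs.length)) :=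
    Groth.L04.Koszul.subsingleton_HLim fs _ _ fun n c => ⟨n, le_rfl,
      @Subsingleton.elim _ (ModuleCat.isZero_iff_subsingleton.1
        (map_pow R _ n _ fs [] (by
          rw [List.nil_append, ← Groth.L04.Koszul.koszul_eq]
          exact hfs _ (sub_ne_zero.2 hq)))) _ _⟩
  exact (e.trans e'.symm).toEquiv.subsingleton

end Groth.Agent.S9267
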