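import Groth.Statements.S9275
import Mathlib.RingTheory.RingHom.Etale
import Mathlib.RingTheory.Localization.Away.Basic

set_option autoImplicit false
universe u
open EtAlg

namespace Groth.Agent.S9275

/-- Let A → B be a ring map and J an ideal of B such that A → B is étale at every prime of V(J), in the
sense that every prime q ⊇ J has some h ∉ q with A → B_h étale. Then there is g ∈ B mapping to a
unit of B/J such that A → B_g is étale. -/
theorem result (A B : Type u) [CommRing A] [CommRing B]
    [Algebra A B] (J : Ideal B)
    (h : ∀ (q : Ideal B) [q.IsPrime], J ≤ q → ∃ h : B, h ∉ q ∧ Algebra.Etale A (Localization.Away h)) :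
    ∃ g : B, IsUnit (Ideal.Quotient.mk J g) ∧ Algebra.Etale A (Localization.Away g) := by
  classical
  let H : Set B := {h : B | Algebra.Etale A (Localization.Away h)}
  have hHJ : Ideal.span H ⊔ J = ⊤ := by
    by_contra hne
    obtain ⟨m, hm, hle⟩ := Ideal.exists_le_maximal _ hne
    obtain ⟨x, hx, hxe⟩ := h m (le_sup_right.trans hle)
    exact hx (hle (Ideal.mem_sup_left (Ideal.subset_span hxe)))
  obtain ⟨g, hg, j, hj, hgj⟩ := Submodule.mem_sup.1 (hHJ ▸ Submodule.mem_top : (1 : B) ∈ Ideal.span H ⊔ J)
  refine ⟨g, ?_, ?_⟩
  · have : Ideal.Quotient.mk J g = 1 := by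
      rw [← map_one (Ideal.Quotient.mk J), ← hgj, map_add, Ideal.Quotient.eq_zero_iff_mem.2 hj, add_zero]
    rw [this]
    exact isUnit_one
  · rw [← RingHom.etale_algebraMap]
    refine RingHom.Etale.ofLocalizationSpanTarget _ (algebraMap B (Localization.Away g) '' H) ?_ ?_
    · rw [← Ideal.map_span]
      exact Ideal.eq_top_of_isUnit_mem _ (Ideal.mem_map_of_mem _ hg) (IsLocalization.Away.algebraMap_isUnit g)
    · rintro ⟨_, x, hx, rfl⟩
      haveI : Algebra.Etale A (Localization.Away x) := hx
      let y := algebraMap B (Localization.Away g) x
      haveI : IsLocalization.Away (g * x) (Localization.Away y) :=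
        IsLocalization.Away.mul' (Localization.Away g) (Localization.Away y) g x
      let w := algebraMap B (Localization.Away x) g
      haveI : IsLocalization.Away (g * x) (Localization.Away w) :=
        IsLocalization.Away.mul (Localization.Away x) (Localization.Away w) x g
      haveI : Algebra.Etale A (Localization.Away w) :=
        haveI : Algebra.Etale (Localization.Away x) (Localization.Away w) := Algebra.Etale.of_isLocalizationAway w
        Algebra.Etale.comp A (Localization.Away x) (Localization.Away w)
      rw [← IsScalarTower.algebraMap_eq, RingHom.etale_algebraMap]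
      exact Algebra.Etale.of_equiv
        ((IsLocalization.algEquiv (Submonoid.powers (g * x)) (Localization.Away w) (Localization.Away y)).restrictScalars A)

end Groth.Agent.S9275
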