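import Groth.Statements.S9280
import Groth.Agent.L06.J2Dim
import Groth.Agent.L01.NagataFiniteType

set_option autoImplicit false
set_option linter.style.haveILetI false
universe u
open EGA4

namespace Groth.Agent.S9280

/-- A Nagata ring of dimension 1 is J-2, that is, every finite type algebra over it has open regular
locus. -/
theorem result (R : Type u) [CommRing R] (hR : CAlg.IsNagata R)
    (hdim : ringKrullDim R = 1) : EGA4.IsJ2 R := by
  haveI := hR.1
  refine Groth.L06.J2.isJ2_of_finite_domains fun A' _ _ _ hfin => ?_
  haveI : IsNoetherianRing A' := IsNoetherianRing.of_finite R A'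
  haveI := Groth.L06.J2.dimensionLEOne_of_finite hdim.le A'
  haveI : Module.Finite A' (integralClosure A' (FractionRing A')) :=
    Groth.L01.Nagata.isN2_of_isNagata (Groth.L01.Nagata.isNagata_of_finite hR) (FractionRing A') inferInstance
  haveI : IsFractionRing (integralClosure A' (FractionRing A')) (FractionRing A') :=
    integralClosure.isFractionRing_of_finite_extension (FractionRing A') (FractionRing A')
  haveI : IsNoetherianRing (integralClosure A' (FractionRing A')) := IsNoetherianRing.of_finite A' _
  haveI : Ring.DimensionLEOne (integralClosure A' (FractionRing A')) := inferInstance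
  haveI : IsIntegrallyClosed (integralClosure A' (FractionRing A')) := integralClosure.isIntegrallyClosedOfFiniteExtension (FractionRing A')
  haveI : IsDedekindDomain (integralClosure A' (FractionRing A')) := { }
  refine Groth.L06.J2.j0_of_finite (B := integralClosure A' (FractionRing A')) ⟨1, one_ne_zero, fun q _ => ?_⟩
  exact IsRegularRing.isRegularLocalRing_localization q.asIdeal

end Groth.Agent.S9280
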