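import Groth.Statements.S9282
import Mathlib.RingTheory.Kaehler.JacobiZariski
import Mathlib.RingTheory.Extension.Cotangent.Basic
import Mathlib.RingTheory.LocalRing.ResidueField.Basic
import Mathlib.Algebra.MvPolynomial.Eval
import Mathlib.Tactic.LinearCombination

set_option autoImplicit false
universe u
open CAlg

open TensorProduct

namespace Groth.Agent.S9282

/-- Let A → B be a local ring map between Noetherian local rings that is formally smooth for the adic
topology of the maximal ideal of B, and write K for the residue field of B. In the Jacobi–Zariski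
sequence attached to A → B → K, the map from H_1(NL_{K/A}) to H_1(NL_{K/B}), which is m_B/m_B^2, is
injective; the remaining terms are exact in general, so that sequence starts with a zero. -/
theorem result (A B : Type u) [CommRing A]
    [CommRing B] [IsLocalRing A] [IsLocalRing B] [IsNoetherianRing A] [IsNoetherianRing B]
    [Algebra A B] [IsLocalHom (algebraMap A B)]
    (hfs : CAlgX.IsAdicFormallySmooth A B (IsLocalRing.maximalIdeal B)) :
    Function.Injective
      (Algebra.H1Cotangent.map A B (IsLocalRing.ResidueField B) (IsLocalRing.ResidueField B)) := by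
  let K := IsLocalRing.ResidueField B
  have hK : Function.Surjective (algebraMap B K) := IsLocalRing.residue_surjective
  have hsurj : Function.Surjective (MvPolynomial.aeval (R := A) fun b : B => algebraMap B K b) := fun c => by
    obtain ⟨b, rfl⟩ := hK c
    exact ⟨MvPolynomial.X b, MvPolynomial.aeval_X _ _⟩
  let GA : Algebra.Generators A K B := Algebra.Generators.ofSurjective _ hsurj
  let GB : Algebra.Generators B K PEmpty.{u + 1} := Algebra.Generators.ofSurjectiveAlgebraMap hK
  let f : GA.Hom GB :=
    { val := fun b => MvPolynomial.C b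
      aeval_val := fun b => by show _ = algebraMap B K b; rw [MvPolynomial.aeval_C] }
  let g := (Algebra.Generators.defaultHom (Algebra.Generators.self A K) (Algebra.Generators.self B K)).toExtensionHom
  let hA := (Algebra.Generators.defaultHom GA (Algebra.Generators.self A K)).toExtensionHom
  let hA' := (Algebra.Generators.defaultHom (Algebra.Generators.self A K) GA).toExtensionHom
  let hB := (Algebra.Generators.defaultHom GB (Algebra.Generators.self B K)).toExtensionHom
  suffices key : Function.Injective (Algebra.Extension.H1Cotangent.map f.toExtensionHom) by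
    rw [injective_iff_map_eq_zero]
    intro x hx
    obtain ⟨y, rfl⟩ : ∃ y, Algebra.Extension.H1Cotangent.map hA y = x :=
      ⟨_, (Algebra.Extension.H1Cotangent.equiv hA hA').apply_symm_apply x⟩
    have hinjB : Function.Injective (Algebra.Extension.H1Cotangent.map hB) :=
      (Algebra.Extension.H1Cotangent.equiv hB
        (Algebra.Generators.defaultHom (Algebra.Generators.self B K) GB).toExtensionHom).injective
    have h2 : Algebra.Extension.H1Cotangent.map hB (Algebra.Extension.H1Cotangent.map f.toExtensionHom y) = 0 := by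
      refine ((Algebra.Extension.H1Cotangent.map_comp_apply f.toExtensionHom hB y).symm.trans ?_).trans hx
      refine Eq.trans ?_ (Algebra.Extension.H1Cotangent.map_comp_apply hA g y)
      exact LinearMap.congr_fun (Algebra.Extension.H1Cotangent.map_eq (hB.comp f.toExtensionHom) (g.comp hA)) y
    have h3 : y = 0 := key ((hinjB (h2.trans (map_zero _).symm)).trans (map_zero _).symm)
    rw [h3, map_zero]
  rw [injective_iff_map_eq_zero]
  intro y hy
  obtain ⟨x, hx⟩ := y
  obtain ⟨⟨p₀, hp⟩, rfl⟩ := Algebra.Extension.Cotangent.mk_surjective x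
  let P := MvPolynomial B A
  let p : P := p₀
  let π : P →ₐ[A] B := MvPolynomial.aeval id
  have hπ : Function.Surjective π := fun b => ⟨MvPolynomial.X b, MvPolynomial.aeval_X _ _⟩
  let m := IsLocalRing.maximalIdeal B
  have hπK : ∀ z : P, algebraMap GA.Ring K z = algebraMap B K (π z) := fun z => by
    show MvPolynomial.aeval (fun b : B => algebraMap B K b) z = (IsScalarTower.toAlgHom A B K) (MvPolynomial.aeval id z)
    exact (AlgHom.congr_fun (MvPolynomial.comp_aeval (id : B → B) (IsScalarTower.toAlgHom A B K)) z).symm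
  -- the image of `p` lies in the square of the maximal ideal
  have hp2 : π p ∈ m ^ 2 := by
    have h0 : Algebra.Extension.Cotangent.map f.toExtensionHom (Algebra.Extension.Cotangent.mk ⟨p₀, hp⟩) = 0 :=
      congrArg Subtype.val hy
    rw [Algebra.Extension.Cotangent.map_mk, Algebra.Extension.Cotangent.mk_eq_zero_iff] at h0
    let ε : GB.Ring →+* B := (MvPolynomial.aeval (R := B) (PEmpty.elim : PEmpty.{u + 1} → B)).toRingHom
    have hεf : ∀ z : P, ε (f.toAlgHom z) = π z := fun z => by
      show MvPolynomial.aeval (R := B) (PEmpty.elim : PEmpty.{u + 1} → B) (f.toAlgHom z) = MvPolynomial.aeval id z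
      induction z using MvPolynomial.induction_on with
      | C a => simp
      | add a b ha hb => rw [map_add, map_add, map_add, ha, hb]
      | mul_X a i ha => rw [map_mul, map_mul, map_mul, ha, Algebra.Generators.Hom.toAlgHom_X]; simp [f]
    have hres : ∀ z : MvPolynomial PEmpty.{u + 1} B,
        IsLocalRing.residue B (ε z) = MvPolynomial.aeval (R := B) GB.val z := fun z => by
      induction z using MvPolynomial.induction_on with
      | C a => simp [ε]; rfl
      | add a b ha hb => rw [map_add, map_add, map_add, ha, hb]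
      | mul_X a i ha => exact i.elim
    have hle : GB.toExtension.ker.map ε ≤ m := Ideal.map_le_iff_le_comap.2 fun z hz =>
      (IsLocalRing.residue_eq_zero_iff (ε z)).1 ((hres z).trans hz)
    refine (hεf p) ▸ ?_
    have h1 := Ideal.mem_map_of_mem ε h0
    exact Ideal.pow_right_mono hle 2 ((Ideal.map_pow ε GB.toExtension.ker 2).le h1)
  have hD : (1 : K) ⊗ₜ[GA.toExtension.Ring] KaehlerDifferential.D A GA.toExtension.Ring p₀ = 0 :=
    Eq.trans (GA.toExtension.cotangentComplex_mk ⟨p₀, hp⟩).symm hx
  let M : Ideal P := GA.toExtension.ker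
  have hM : ∀ z : P, z ∈ M ↔ π z ∈ m := fun z => by
    show algebraMap GA.Ring K z = 0 ↔ _
    rw [hπK]
    exact IsLocalRing.residue_eq_zero_iff _
  let M' : Ideal P := (m ^ 2).comap π
  have hM'M : M' ≤ M := fun z hz => (hM z).2 (Ideal.pow_le_self two_ne_zero hz)
  let J : Ideal (P ⧸ M ^ 2) := M'.map (Ideal.Quotient.mk (M ^ 2))
  have hJM : ∀ r ∈ M, ∀ j ∈ J, Ideal.Quotient.mk (M ^ 2) r * j = 0 := fun r hr j hj => by
    obtain ⟨z, hz, rfl⟩ := (Ideal.mem_map_iff_of_surjective _ Ideal.Quotient.mk_surjective).1 hj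
    rw [← map_mul, Ideal.Quotient.eq_zero_iff_mem, pow_two]
    exact Ideal.mul_mem_mul hr (hM'M hz)
  have hJ2 : J ^ 2 = ⊥ := by
    refine eq_bot_iff.2 ?_
    refine ((pow_two J).le).trans (Ideal.mul_le.2 ?_)
    intro a ha b hb
    obtain ⟨z, hz, rfl⟩ := (Ideal.mem_map_iff_of_surjective _ Ideal.Quotient.mk_surjective).1 ha
    rw [Submodule.mem_bot]
    exact hJM z (hM'M hz) b hb
  let F : P →ₐ[A] (P ⧸ M ^ 2) ⧸ J := (Ideal.Quotient.mkₐ A J).comp (Ideal.Quotient.mkₐ A (M ^ 2))
  have hF : ∀ z ∈ M', F z = 0 := fun z hz => Ideal.Quotient.eq_zero_iff_mem.2 (Ideal.mem_map_of_mem _ hz)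
  have hker : ∀ z ∈ RingHom.ker π, F z = 0 := fun z hz => hF z (by
    show π z ∈ m ^ 2
    rw [show π z = 0 from hz]; exact zero_mem _)
  let ψ : B →ₐ[A] (P ⧸ M ^ 2) ⧸ J :=
    (Ideal.Quotient.liftₐ (RingHom.ker π) F hker).comp (Ideal.quotientKerAlgEquivOfSurjective hπ).symm.toAlgHom
  have hψ : ∀ z, ψ (π z) = F z := fun z => by
    show Ideal.Quotient.liftₐ _ F hker ((Ideal.quotientKerAlgEquivOfSurjective hπ).symm (π z)) = _
    rw [show (Ideal.quotientKerAlgEquivOfSurjective hπ).symm (π z) = Ideal.Quotient.mk _ z from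
      (AlgEquiv.symm_apply_eq _).2 (by simp)]
    rfl
  obtain ⟨χ, hχ⟩ := hfs (P ⧸ M ^ 2) J hJ2 ψ ⟨2, fun b hb => by
    obtain ⟨z, rfl⟩ := hπ b
    rw [hψ]; exact hF z hb⟩
  let d : P → P ⧸ M ^ 2 := fun z => Ideal.Quotient.mk (M ^ 2) z - χ (π z)
  have hdJ : ∀ z, d z ∈ J := fun z => by
    rw [← Ideal.Quotient.eq_zero_iff_mem, map_sub, sub_eq_zero]
    exact ((AlgHom.congr_fun hχ (π z)).trans (hψ z)).symm
  let N : Submodule P (P ⧸ M ^ 2) := J.restrictScalars P
  let δ : Derivation A P N := Derivation.mk'
    { toFun := fun z => ⟨d z, hdJ z⟩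
      map_add' := fun z w => Subtype.ext (by
        show d (z + w) = d z + d w
        simp only [d, map_add]; ring)
      map_smul' := fun c z => Subtype.ext (by
        show d (c • z) = c • d z
        simp only [d, map_smul, smul_sub]
        rw [← Ideal.Quotient.mkₐ_eq_mk A, map_smul]) }
    fun z w => Subtype.ext (by
      show d (z * w) = z • d w + w • d z
      have h0 : d z * d w = 0 := by
        have := Ideal.mul_mem_mul (hdJ z) (hdJ w)
        rwa [show J * J = ⊥ from (pow_two J).symm.trans hJ2, Submodule.mem_bot] at this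
      have hz : ∀ (a : P) (b : P ⧸ M ^ 2), a • b = Ideal.Quotient.mk (M ^ 2) a * b := fun a b => Algebra.smul_def a b
      rw [hz, hz]
      simp only [d, map_mul] at h0 ⊢
      linear_combination -h0)
  let L := δ.liftKaehlerDifferential
  have hkill : ∀ a b : P, a - b ∈ M → ∀ v : N, a • v = b • v := fun a b h v => by
    refine Subtype.ext ?_
    show a • (v : P ⧸ M ^ 2) = b • (v : P ⧸ M ^ 2)
    rw [← sub_eq_zero, ← sub_smul, Algebra.smul_def]
    exact hJM _ h _ v.2
  let σ : K → P := GA.σ
  have hσ : ∀ c, algebraMap GA.Ring K (σ c) = c := fun c => GA.aeval_val_σ c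
  have hMiff : ∀ a b : P, algebraMap GA.Ring K a = algebraMap GA.Ring K b → a - b ∈ M := fun a b h => by
    show algebraMap GA.Ring K (a - b) = 0
    rw [map_sub, h, sub_self]
  let Φ : K ⊗[GA.toExtension.Ring] Ω[GA.toExtension.Ring⁄A] →+ N := TensorProduct.liftAddHom
    (AddMonoidHom.mk' (fun c : K => AddMonoidHom.mk' (fun w => σ c • L w)
      (fun a b => by rw [map_add, smul_add])) (fun a b => by
        ext1 w
        show σ (a + b) • L w = σ a • L w + σ b • L w
        rw [← add_smul]
        exact hkill _ _ (hMiff _ _ (by rw [map_add, hσ, hσ, hσ])) _))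
    (fun q c w => by
      refine Eq.trans ?_ (congrArg (σ c • ·) (L.map_smul (show P from q) w).symm)
      show σ (q • c) • L w = σ c • ((show P from q) • L w)
      rw [smul_smul]
      exact hkill _ _ (hMiff _ _ (by rw [map_mul, hσ, hσ, Algebra.smul_def, mul_comm]; rfl)) _)
  have hΦ : Φ ((1 : K) ⊗ₜ[GA.toExtension.Ring] KaehlerDifferential.D A GA.toExtension.Ring p₀) = δ p := by
    show σ 1 • L (KaehlerDifferential.D A P p) = δ p
    rw [Derivation.liftKaehlerDifferential_comp_D, hkill (σ 1) 1 (hMiff _ _ (by rw [hσ, map_one])) (δ p)]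
    exact one_smul _ _
  rw [hD, map_zero] at hΦ
  have h1 : d p = 0 := (congrArg Subtype.val hΦ).symm
  have h2 : χ (π p) = 0 := by
    have hz : ∀ b ∈ m, χ b ∈ M.map (Ideal.Quotient.mk (M ^ 2)) := fun b hb => by
      obtain ⟨z, rfl⟩ := hπ b
      have := sub_mem (Ideal.mem_map_of_mem (Ideal.Quotient.mk (M ^ 2)) ((hM z).2 hb))
        (Ideal.map_mono hM'M (hdJ z))
      simpa [d] using this
    have h := Ideal.mem_map_of_mem χ.toRingHom hp2
    rw [Ideal.map_pow] at h
    have h' : χ (π p) ∈ (M.map (Ideal.Quotient.mk (M ^ 2))) ^ 2 :=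
      Ideal.pow_right_mono (Ideal.map_le_iff_le_comap.2 (show m ≤ Ideal.comap χ.toRingHom (M.map (Ideal.Quotient.mk (M ^ 2))) from fun b hb => Ideal.mem_comap.2 (hz b hb))) 2 h
    rw [← Ideal.map_pow, Ideal.map_quotient_self] at h'
    exact h'
  refine Subtype.ext ((Algebra.Extension.Cotangent.mk_eq_zero_iff _).2 ?_)
  show p ∈ M ^ 2
  exact (Ideal.Quotient.eq_zero_iff_mem (I := M ^ 2) (a := p)).1 (by have h3 := h1; simp only [d, h2, sub_zero] at h3; exact h3)

end Groth.Agent.S9282
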