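import Groth.Statements.S9283


set_option autoImplicit false
universe u
open CAlg

namespace Groth.Agent.S9283

/-- Let R be an auto-associated ring, that is, a local ring whose maximal ideal is weakly associated to
R: some nonzero x ∈ R is killed by a power of every element of the maximal ideal. Then every proper
finitely generated ideal of R has a nonzero annihilator. -/
theorem result (R : Type u) [CommRing R] [IsLocalRing R]
    (h : ∃ x : R, x ≠ 0 ∧ ∀ f ∈ IsLocalRing.maximalIdeal R, ∃ n : ℕ, f ^ n * x = 0)
    (I : Ideal R) (hI : I.FG) (hI' : I ≠ ⊤) : I.annihilator ≠ ⊥ := by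
  classical
  obtain ⟨x, hx, hxm⟩ := h
  obtain ⟨S, hS⟩ := hI
  have hSm : ∀ f ∈ S, f ∈ IsLocalRing.maximalIdeal R := fun f hf =>
    IsLocalRing.le_maximalIdeal hI' (hS ▸ Submodule.subset_span hf)
  have key : ∀ T : Finset R, T ⊆ S → ∃ y, y ≠ 0 ∧ (∀ r, r * x = 0 → r * y = 0) ∧ ∀ f ∈ T, f * y = 0 := by
    intro T
    induction T using Finset.induction with
    | empty => exact fun _ => ⟨x, hx, fun r hr => hr, by simp⟩
    | insert a T _ ih =>
      intro hT
      rw [Finset.insert_subset_iff] at hT
      obtain ⟨y, hy, hyx, hyT⟩ := ih hT.2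
      have hex : ∃ n, a ^ n * y = 0 := (hxm a (hSm a hT.1)).imp fun n hn => hyx _ hn
      have hn0 : Nat.find hex ≠ 0 := fun h0 => hy (by
        have := Nat.find_spec hex
        rwa [h0, pow_zero, one_mul] at this)
      obtain ⟨k, hk⟩ := Nat.exists_eq_succ_of_ne_zero hn0
      refine ⟨a ^ k * y, Nat.find_min hex (hk ▸ Nat.lt_succ_self k), fun r hr => by rw [mul_left_comm, hyx r hr, mul_zero], ?_⟩
      intro f hf
      rcases Finset.mem_insert.1 hf with rfl | hf
      · rw [← mul_assoc, ← pow_succ']
        have := Nat.find_spec hex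
        rwa [hk] at this
      · rw [mul_left_comm, hyT f hf, mul_zero]
  obtain ⟨y, hy, -, hyS⟩ := key S subset_rfl
  intro hbot
  apply hy
  have : y ∈ I.annihilator := by
    rw [← hS, Submodule.mem_annihilator_span]
    exact fun f => by rw [smul_eq_mul, mul_comm]; exact hyS f.1 f.2
  simpa [hbot] using this

end Groth.Agent.S9283
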