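import Groth.Statements.S9284
import Groth.Agent.L03.PropP

set_option autoImplicit false
universe u
open CAlgX

namespace Groth.Agent.S9284

/-- Let R be a ring such that every proper finitely generated ideal of R has a nonzero annihilator, and
let u : N → M be an R-linear map between projective R-modules. Then u stays injective after
tensoring with every R-module exactly when u is injective. -/
theorem result (R : Type u) [CommRing R]
    (hP : (∀ I : Ideal R, I.FG → I ≠ ⊤ → I.annihilator ≠ ⊥))
    (N M : Type u) [AddCommGroup N] [Module R N] [Module.Projective R N] [AddCommGroup M]
    [Module R M] [Module.Projective R M] (u : N →ₗ[R] M) :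
    CAlgX.UniversallyInjective R u ↔ Function.Injective u := by
  refine ⟨fun h => ?_, fun hu Q _ _ => Groth.L03.PropP.rTensor_injective hP u hu Q⟩
  have h1 := h R
  intro a b hab
  apply (TensorProduct.rid R N).symm.injective
  apply h1
  simp [hab]

end Groth.Agent.S9284
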