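import Groth.Statements.S9285
import Mathlib.RingTheory.Finiteness.Basic

set_option autoImplicit false
universe u
open CAlg

namespace Groth.Agent.S9285

/-- A ring R has the property that every proper finitely generated ideal has a nonzero annihilator if
and only if every injective linear map R → R^n admits a retraction. -/
theorem result (R : Type u) [CommRing R] :
    (∀ I : Ideal R, I.FG → I ≠ ⊤ → I.annihilator ≠ ⊥) ↔
      ∀ (n : ℕ) (u : R →ₗ[R] (Fin n → R)), Function.Injective u →
        ∃ v : (Fin n → R) →ₗ[R] R, v.comp u = LinearMap.id := by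
  have hann : ∀ (n : ℕ) (a : Fin n → R), Function.Injective (LinearMap.toSpanSingleton R _ a) ↔
      (Ideal.span (Set.range a)).annihilator = ⊥ := by
    intro n a
    rw [← LinearMap.ker_eq_bot, LinearMap.ker_eq_bot', eq_bot_iff]
    simp only [SetLike.le_def, Submodule.mem_annihilator_span, Submodule.mem_bot, LinearMap.toSpanSingleton_apply]
    refine forall_congr' fun r => ⟨fun h hr => h (funext fun i => ?_), fun h hr => h fun i => ?_⟩
    · exact hr ⟨a i, i, rfl⟩
    · obtain ⟨_, j, rfl⟩ := i
      exact congrFun hr j
  constructor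
  · intro hP n u hu
    have hu' : u = LinearMap.toSpanSingleton R _ (u 1) := LinearMap.ext_ring (by simp)
    rw [hu', hann] at hu
    have htop : Ideal.span (Set.range (u 1)) = ⊤ :=
      by_contra fun h => hP _ (Submodule.fg_span (Set.finite_range (u 1))) h hu
    obtain ⟨g, hg⟩ := Ideal.mem_span_range_iff_exists_fun.1 (htop ▸ Submodule.mem_top (x := (1 : R)))
    refine ⟨Fintype.linearCombination R g, LinearMap.ext_ring ?_⟩
    rw [LinearMap.comp_apply, Fintype.linearCombination_apply, LinearMap.id_apply]
    conv_rhs => rw [← hg]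
    exact Finset.sum_congr rfl fun i _ => mul_comm _ _
  · intro h I hI hItop hbot
    obtain ⟨n, a, ha⟩ := Submodule.fg_iff_exists_fin_generating_family.1 hI
    obtain ⟨v, hv⟩ := h n (LinearMap.toSpanSingleton R _ a) ((hann n a).2 (by rwa [Ideal.span, ha]))
    apply hItop
    rw [Ideal.eq_top_iff_one, ← ha]
    have h1 := LinearMap.congr_fun hv 1
    rw [LinearMap.comp_apply, LinearMap.toSpanSingleton_apply, one_smul, LinearMap.id_apply] at h1
    rw [← h1, show a = ∑ i, a i • (Pi.single i 1 : Fin n → R) by funext j; simp [Finset.sum_apply, Pi.single_apply], map_sum]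
    refine Submodule.sum_mem _ fun i _ => ?_
    rw [map_smul, smul_eq_mul, mul_comm]
    refine Submodule.smul_mem _ _ ?_
    rw [show (∑ i, a i • (Pi.single i 1 : Fin n → R)) = a by funext j; simp [Finset.sum_apply, Pi.single_apply]]
    exact Submodule.subset_span ⟨i, rfl⟩

end Groth.Agent.S9285
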