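import Groth.Statements.S9289
import Groth.Agent.L06.GRingFT
import Groth.Agent.L06.GRingTransport
import Groth.Agent.L06.GRingCrit
import Groth.Agent.S0598
import Mathlib.RingTheory.EssentialFiniteness

set_option autoImplicit false
universe u
open CAlg

namespace Groth.Agent.S9289

/-- Let R and R' be Noetherian rings with R' of finite type over R and quasi-finite at the prime p' of
R', lying over p. If R_p has geometrically regular formal fibres, so does R'_{p'}; stated as: if the
completion map of R_p is regular, so is that of R'_{p'}. -/
theorem result (R R' : Type u) [CommRing R]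
    [CommRing R'] [IsNoetherianRing R] [IsNoetherianRing R'] [Algebra R R'] [Algebra.FiniteType R R']
    (p' : Ideal R') [p'.IsPrime] [Algebra.QuasiFiniteAt R p']
    (h : CAlg.IsRegularHom (Localization.AtPrime (Ideal.comap (algebraMap R R') p'))
      (AdicCompletion (IsLocalRing.maximalIdeal (Localization.AtPrime (Ideal.comap (algebraMap R R') p')))
        (Localization.AtPrime (Ideal.comap (algebraMap R R') p')))) :
    CAlg.IsRegularHom (Localization.AtPrime p')
      (AdicCompletion (IsLocalRing.maximalIdeal (Localization.AtPrime p')) (Localization.AtPrime p')) := by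
  let P := Ideal.comap (algebraMap R R') p'
  let Rp := Localization.AtPrime P
  let A := TensorProduct R Rp R'
  have hG : CAlg.IsGRing Rp := by
    refine Groth.L06.GRingCrit.isGRing_of_maximal fun m hm => ?_
    obtain rfl : m = IsLocalRing.maximalIdeal Rp := IsLocalRing.eq_maximalIdeal hm
    let e : Rp ≃+* Localization.AtPrime (IsLocalRing.maximalIdeal Rp) :=
      (IsLocalization.atUnits Rp (IsLocalRing.maximalIdeal Rp).primeCompl (fun x hx => by
        simpa [IsLocalRing.mem_maximalIdeal, IsUnit.mem_submonoid_iff] using hx)).toRingEquiv
    exact Groth.L06.GRingTransport.isRegularHom_completion_of_ringEquiv e h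
  letI := (Localization.localRingHom P p' (algebraMap R R') rfl).toAlgebra
  haveI : IsScalarTower R (Localization.AtPrime P) (Localization.AtPrime p') :=
    IsScalarTower.of_algebraMap_eq fun a => by
      rw [RingHom.algebraMap_toAlgebra, Localization.localRingHom_to_map,
        IsScalarTower.algebraMap_apply R R' (Localization.AtPrime p')]
  haveI : Algebra.EssFiniteType R' (Localization.AtPrime p') := .of_isLocalization _ p'.primeCompl
  haveI : Algebra.EssFiniteType R (Localization.AtPrime p') := .comp R R' _
  haveI : Algebra.EssFiniteType (Localization.AtPrime P) (Localization.AtPrime p') := .of_comp R _ _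
  have hG' : CAlg.IsGRing (Localization.AtPrime p') :=
    Groth.L06.GRingFT.isGRing_essFiniteType (A := Localization.AtPrime P) hG
  let S := Localization.AtPrime p'
  let e : Localization.AtPrime (IsLocalRing.maximalIdeal S) ≃+* S :=
    (IsLocalization.atUnits S (IsLocalRing.maximalIdeal S).primeCompl (fun x hx => by
      simpa [IsLocalRing.mem_maximalIdeal, IsUnit.mem_submonoid_iff] using hx)).toRingEquiv.symm
  exact Groth.L06.GRingTransport.isRegularHom_completion_of_ringEquiv e (hG'.2 _)

end Groth.Agent.S9289
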