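import Groth.Statements.S9290
import Groth.Agent.L06.GRingFT
import Groth.Agent.L06.GRingCrit
import Mathlib.RingTheory.EssentialFiniteness

set_option autoImplicit false
universe u
open CAlg

set_option maxSynthPendingDepth 3

namespace Groth.Agent.S9290
open IsLocalRing TensorProduct Groth.L06 Groth.L06.PropLoc Groth.L06.GeomFG Groth.L06.GeomHom

variable {Q : ∀ (R : Type u) [CommRing R], Prop} (hQ : Good Q) (hr : RegImp Q)
include hQ

theorem compAt {A B C : Type u} [CommRing A] [CommRing B] [CommRing C] [IsNoetherianRing B] [IsNoetherianRing C]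
    [Algebra A B] [Algebra B C] [Algebra A C] [IsScalarTower A B C] [Module.Flat B C] (p : Ideal A) [p.IsPrime]
    (hAB : Geom Q p.ResidueField (p.Fiber B)) (hBC : GeomHom Q B C) : Geom Q p.ResidueField (p.Fiber C) := by
  intro K _ _ hK
  haveI := hK
  letI : Algebra A K := ((algebraMap p.ResidueField K).comp (algebraMap A p.ResidueField)).toAlgebra
  haveI : IsScalarTower A p.ResidueField K := IsScalarTower.of_algebraMap_eq' rfl
  haveI : IsNoetherianRing (B ⊗[A] K) := Groth.L06.FibreComp.isNoetherianRing_baseChange p K
  haveI := GeomLocal.isNoetherianRing_fibre (B := B) p K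
  haveI := GeomLocal.isNoetherianRing_fibre (B := C) p K
  haveI : IsNoetherianRing ((B ⊗[A] K) ⊗[B] C) :=
    isNoetherianRing_of_ringEquiv (K ⊗[p.ResidueField] p.Fiber C) (Groth.L06.FibreComp.fibreEquiv (B := B) p K)
  refine loc_of_ringEquiv hQ (Groth.L06.FibreComp.fibreEquiv (B := B) p K).symm (hQ.ascend
    (loc_of_ringEquiv hQ (Groth.L06.FibreComp.fibreEquivBase (B := B) p K) (hAB K hK)) fun q _ => ?_)
  obtain ⟨i, hi, ⟨e⟩⟩ := Groth.L06.FibreComp.exists_fibre_baseChange (B := B) (C := C) q
  letI := i
  haveI := hi
  haveI : Module.Finite (q.comap (algebraMap B (B ⊗[A] K))).ResidueField q.ResidueField :=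
    Groth.Agent.S4696.finite_residueField p K q
  haveI := GeomLocal.isNoetherianRing_fibre (B := C) (q.comap (algebraMap B (B ⊗[A] K))) q.ResidueField
  exact loc_of_ringEquiv hQ e.symm (hBC _ q.ResidueField inferInstance)

theorem descendAt {A B C : Type u} [CommRing A] [CommRing B] [CommRing C] [IsNoetherianRing B] [IsNoetherianRing C]
    [Algebra A B] [Algebra B C] [Algebra A C] [IsScalarTower A B C] [Module.FaithfullyFlat B C] (p : Ideal A) [p.IsPrime]
    (h : Geom Q p.ResidueField (p.Fiber C)) : Geom Q p.ResidueField (p.Fiber B) := by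
  intro K _ _ hK
  haveI := hK
  letI : Algebra A K := ((algebraMap p.ResidueField K).comp (algebraMap A p.ResidueField)).toAlgebra
  haveI : IsScalarTower A p.ResidueField K := IsScalarTower.of_algebraMap_eq' rfl
  haveI : IsNoetherianRing (B ⊗[A] K) := Groth.L06.FibreComp.isNoetherianRing_baseChange p K
  haveI := GeomLocal.isNoetherianRing_fibre (B := C) p K
  haveI : IsNoetherianRing ((B ⊗[A] K) ⊗[B] C) :=
    isNoetherianRing_of_ringEquiv (K ⊗[p.ResidueField] p.Fiber C) (Groth.L06.FibreComp.fibreEquiv (B := B) p K)
  exact loc_of_ringEquiv hQ (Groth.L06.FibreComp.fibreEquivBase (B := B) p K).symm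
    (hQ.descend (S := (B ⊗[A] K) ⊗[B] C) (loc_of_ringEquiv hQ (Groth.L06.FibreComp.fibreEquiv (B := B) p K) (h K hK)))

include hr

theorem baseChangeAt {A A' B : Type u} [CommRing A] [CommRing A'] [CommRing B] [IsNoetherianRing B] [Algebra A A']
    [Algebra.EssFiniteType A A'] [Algebra A B] (q : Ideal A') [q.IsPrime]
    (h : Geom Q (q.comap (algebraMap A A')).ResidueField ((q.comap (algebraMap A A')).Fiber B)) :
    Geom Q q.ResidueField (q.Fiber (A' ⊗[A] B)) := by
  intro L _ _ hL
  haveI := hL
  let p := q.comap (algebraMap A A')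
  letI : Algebra p.ResidueField q.ResidueField := (Ideal.ResidueField.map p q (algebraMap A A') rfl).toAlgebra
  haveI : IsScalarTower A p.ResidueField q.ResidueField := IsScalarTower.of_algebraMap_eq fun a => by
    rw [IsScalarTower.algebraMap_apply A A' q.ResidueField]
    exact (Ideal.ResidueField.map_algebraMap p q (algebraMap A A') rfl a).symm
  haveI : Algebra.EssFiniteType A q.ResidueField := Algebra.EssFiniteType.comp A A' q.ResidueField
  haveI : Algebra.EssFiniteType p.ResidueField q.ResidueField := Algebra.EssFiniteType.of_comp A p.ResidueField q.ResidueField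
  letI : Algebra p.ResidueField L := ((algebraMap q.ResidueField L).comp (algebraMap p.ResidueField q.ResidueField)).toAlgebra
  haveI : IsScalarTower p.ResidueField q.ResidueField L := IsScalarTower.of_algebraMap_eq' rfl
  haveI : Algebra.EssFiniteType p.ResidueField L := Algebra.EssFiniteType.comp p.ResidueField q.ResidueField L
  letI : Algebra A' L := ((algebraMap q.ResidueField L).comp (algebraMap A' q.ResidueField)).toAlgebra
  haveI : IsScalarTower A' q.ResidueField L := IsScalarTower.of_algebraMap_eq' rfl
  letI : Algebra A L := ((algebraMap A' L).comp (algebraMap A A')).toAlgebra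
  haveI : IsScalarTower A A' L := IsScalarTower.of_algebraMap_eq' rfl
  haveI : IsScalarTower A p.ResidueField L := IsScalarTower.of_algebraMap_eq fun a => by
    show algebraMap q.ResidueField L (algebraMap A' q.ResidueField (algebraMap A A' a)) =
      algebraMap q.ResidueField L (algebraMap p.ResidueField q.ResidueField (algebraMap A p.ResidueField a))
    rw [← IsScalarTower.algebraMap_apply A A' q.ResidueField, ← IsScalarTower.algebraMap_apply A p.ResidueField q.ResidueField]
  haveI := GeomLocal.isNoetherianRing_fiber (B := B) p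
  haveI := isNoetherianRing_tensor p.ResidueField L (p.Fiber B)
  exact loc_of_ringEquiv hQ
    ((Algebra.TensorProduct.cancelBaseChange A p.ResidueField p.ResidueField L B).toRingEquiv.trans
      ((Algebra.TensorProduct.cancelBaseChange A A' A' L B).toRingEquiv.symm.trans
        (Algebra.TensorProduct.cancelBaseChange A' q.ResidueField q.ResidueField L (A' ⊗[A] B)).toRingEquiv.symm))
    (loc_of_geom hQ hr h L)

end Groth.Agent.S9290

open Groth.L06 Groth.L06.PropLoc Groth.L06.GeomFG Groth.L06.GeomHom

namespace Groth.Agent.S9290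

/-- Let R' be a Noetherian algebra of finite type over the Noetherian ring R, quasi-finite at the prime
p' over p, and let Q' ⊆ R'_{p'} and Q ⊆ R_p be primes with the same contraction to R (that is, a
prime q' ⊆ p' of R' lying over the prime q ⊆ p of R). If the formal fibre of R_p at Q is
geometrically regular over κ(Q), then the formal fibre of R'_{p'} at Q' is geometrically regular
over κ(Q'). -/
theorem result (R R' : Type u) [CommRing R] [CommRing R']
    [IsNoetherianRing R] [IsNoetherianRing R'] [Algebra R R'] [Algebra.FiniteType R R']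
    (p' : Ideal R') [p'.IsPrime] [Algebra.QuasiFiniteAt R p']
    (Q' : Ideal (Localization.AtPrime p')) [Q'.IsPrime]
    (Q : Ideal (Localization.AtPrime (Ideal.comap (algebraMap R R') p'))) [Q.IsPrime]
    (hQ : Ideal.comap (algebraMap R (Localization.AtPrime (Ideal.comap (algebraMap R R') p'))) Q =
      Ideal.comap (algebraMap R (Localization.AtPrime p')) Q')
    (h : CAlg.IsGeometricallyRegular Q.ResidueField
      (EGA4.formalFibre (Localization.AtPrime (Ideal.comap (algebraMap R R') p')) Q)) :
    CAlg.IsGeometricallyRegular Q'.ResidueField (EGA4.formalFibre (Localization.AtPrime p') Q') := by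
  let P := Ideal.comap (algebraMap R R') p'
  let A := Localization.AtPrime P
  let B := Localization.AtPrime p'
  letI := (Localization.localRingHom P p' (algebraMap R R') rfl).toAlgebra
  haveI : IsScalarTower R (Localization.AtPrime P) (Localization.AtPrime p') :=
    IsScalarTower.of_algebraMap_eq fun a => by
      rw [RingHom.algebraMap_toAlgebra, Localization.localRingHom_to_map,
        IsScalarTower.algebraMap_apply R R' (Localization.AtPrime p')]
  haveI : Algebra.EssFiniteType R' (Localization.AtPrime p') := .of_isLocalization _ p'.primeCompl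
  haveI : Algebra.EssFiniteType R (Localization.AtPrime p') := .comp R R' _
  haveI : Algebra.EssFiniteType (Localization.AtPrime P) (Localization.AtPrime p') := .of_comp R _ _
  obtain rfl : Q = Q'.comap (algebraMap A B) := by
    rw [← IsLocalization.map_comap P.primeCompl A Q, ← IsLocalization.map_comap P.primeCompl A (Q'.comap (algebraMap A B)),
      Ideal.under_def, Ideal.under_def, Ideal.comap_comap, ← IsScalarTower.algebraMap_eq, hQ]
  let C := EGA4.Cpl A
  haveI : IsNoetherianRing C := Groth.Agent.S0543.result _ _
  haveI := Groth.L06.NormalAscent.faithfullyFlat_cpl A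
  haveI : IsAdicComplete (IsLocalRing.maximalIdeal C) C := inferInstance
  haveI : IsNoetherianRing (TensorProduct A B C) := Groth.L06.GRingFT.isNoetherianRing_tensor_ess
  have h0 : Geom QReg (Q'.comap (algebraMap A B)).ResidueField ((Q'.comap (algebraMap A B)).Fiber C) := by
    intro L _ _ hL
    haveI := hL
    haveI := GeomLocal.isNoetherianRing_fibre (B := C) (Q'.comap (algebraMap A B)) L
    exact loc_reg_iff.mpr (h L hL)
  have h2 : Geom QReg Q'.ResidueField (Q'.Fiber (TensorProduct A B C)) :=
    baseChangeAt good_reg regImp_reg Q' h0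
  have hT : CAlg.IsGRing (TensorProduct A B C) :=
    Groth.L06.GRingFT.isGRing_of_ringEquiv (Algebra.TensorProduct.comm A C B).toRingEquiv
      (Groth.L06.GRingFT.isGRing_essFiniteType (A := C) (B := TensorProduct A C B) (Groth.L06.CompleteGRing.isGRing C))
  obtain ⟨z, hz⟩ := PrimeSpectrum.comap_surjective_of_faithfullyFlat (A := A) (B := C)
    ⟨(IsLocalRing.maximalIdeal B).comap (algebraMap A B), inferInstance⟩
  obtain ⟨P', hP', hP'B⟩ := Groth.L06.GRingFT.exists_prime_over (IsLocalRing.maximalIdeal B) z.asIdeal
    (congrArg PrimeSpectrum.asIdeal hz).symm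
  let T' := Localization.AtPrime P'
  haveI : IsLocalHom (algebraMap B T') := ⟨fun b hb => by
    by_contra hu
    have hm : b ∈ IsLocalRing.maximalIdeal B := hu
    rw [← hP'B, Ideal.mem_comap, ← IsLocalization.AtPrime.to_map_mem_maximal_iff T' P',
      ← IsScalarTower.algebraMap_apply] at hm
    exact hm hb⟩
  haveI : Module.Flat B T' := Module.Flat.trans B (TensorProduct A B C) T'
  have h3 : Geom QReg Q'.ResidueField (Q'.Fiber T') :=
    compAt good_reg Q' h2 (geomHom_localization P'.primeCompl T')
  haveI : IsNoetherianRing (EGA4.Cpl T') := Groth.Agent.S0543.result _ _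
  haveI : IsNoetherianRing (EGA4.Cpl B) := Groth.Agent.S0543.result _ _
  haveI := Groth.L06.NormalAscent.faithfullyFlat_cpl T'
  haveI : IsScalarTower B T' (EGA4.Cpl T') := IsScalarTower.of_algebraMap_eq fun a => rfl
  have h4 : Geom QReg Q'.ResidueField (Q'.Fiber (EGA4.Cpl T')) :=
    compAt good_reg Q' h3 (geomHom_reg_of_isRegularHom (hT.2 P'))
  obtain ⟨j, hj, hff⟩ := Groth.L06.FormalFibres.exists_cpl_algebra B T'
  letI := j
  haveI := hj
  haveI := hff
  have h5 : Geom QReg Q'.ResidueField (Q'.Fiber (EGA4.Cpl B)) := descendAt good_reg Q' h4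
  intro L _ _ hL
  haveI := hL
  haveI := GeomLocal.isNoetherianRing_fibre (B := EGA4.Cpl B) Q' L
  exact loc_reg_iff.mp (h5 L hL)

end Groth.Agent.S9290
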