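import Groth.Statements.S9291
import Groth.Agent.L05.Henselization.NbhdDescend
import Mathlib.RingTheory.Ideal.Quotient.Operations

set_option autoImplicit false
universe u
open EtAlg

namespace Groth.Agent.S9291

/-- Let A be a ring, I an ideal and u a unit of A/I. Then there is an étale ring map A → A' such that
A/I → A'/IA' is an isomorphism, together with a unit of A' mapping to the image of u. -/
theorem result (A : Type u) [CommRing A] (I : Ideal A) (u : (A ⧸ I)ˣ) :
    ∃ (A' : Type u) (_ : CommRing A') (_ : Algebra A A'), Algebra.Etale A A' ∧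
      Function.Bijective (Ideal.quotientMap (Ideal.map (algebraMap A A') I) (algebraMap A A')
        Ideal.le_comap_map) ∧
      ∃ u' : A'ˣ, Ideal.Quotient.mk (Ideal.map (algebraMap A A') I) (u' : A') =
        Ideal.quotientMap (Ideal.map (algebraMap A A') I) (algebraMap A A') Ideal.le_comap_map
          (u : A ⧸ I) := by
  classical
  open Groth.L05.Henselization in
  haveI := (isPairHenselization A I).1
  obtain ⟨a, ha⟩ := Ideal.Quotient.mk_surjective (u : A ⧸ I)
  obtain ⟨a', ha'⟩ := Ideal.Quotient.mk_surjective ((u⁻¹ : (A ⧸ I)ˣ) : A ⧸ I)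
  let al := algebraMap A (Groth.L05.Henselization.PairHens A I)
  have hu : IsUnit (al a) := by
    have h1 : al a * al a' - 1 ∈ I.map al := by
      rw [← map_mul, ← map_one al, ← map_sub]
      refine Ideal.mem_map_of_mem _ (Ideal.Quotient.eq.mp ?_)
      rw [map_mul, ha, ha', Units.mul_inv, map_one]
    exact (isUnit_of_mul_isUnit_left (x := al a) (y := al a')
      (Ideal.isUnit_of_sub_one_mem_jacobson_bot _ ((Groth.L05.Henselization.isPairHenselization A I).1.jac h1)))
  obtain ⟨w, hw⟩ := hu.exists_right_inv
  obtain ⟨S, _, _, σ, g, _, hσ, hτ, hg⟩ := Groth.L05.Henselization.exists_nbhd_lift I {w}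
  obtain ⟨v, hv⟩ := hg w (Finset.mem_singleton_self w)
  replace hv : g v = w := hv
  obtain ⟨S', _, _, _, ψ, σ', hσ', hbij, hψ, hψσ⟩ := Groth.L05.Henselization.exists_nbhd_kill I hσ g
    {algebraMap A S a * v - 1} (by
      intro x hx
      rw [Finset.mem_singleton] at hx
      subst hx
      rw [map_sub, map_mul, g.commutes, hv, map_one, hw, sub_self])
  have h2 : algebraMap A S' a * ψ v = 1 := by
    have := hψ _ (Finset.mem_singleton_self _)
    rwa [map_sub, map_mul, ψ.commutes, map_one, sub_eq_zero] at this
  refine ⟨S', inferInstance, inferInstance, inferInstance, hbij, Units.mkOfMulEqOne _ _ h2, ?_⟩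
  rw [Units.val_mkOfMulEqOne, ← ha, Ideal.quotientMap_mk]

end Groth.Agent.S9291
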