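import Groth.Statements.S9292
import Groth.Agent.L05.Henselization.NbhdDescend
import Groth.Agent.L05.Hensel.Criteria

set_option autoImplicit false
universe u
open EtAlg

namespace Groth.Agent.S9292

/-- Let A be a ring, I an ideal, and e_1, ..., e_n a complete system of orthogonal idempotents of A/I
(equivalently a finite disjoint open covering of Spec(A/I)). Then one can find an A-algebra A' that
is étale over A, such that the induced map A/I → A'/IA' is bijective, together with a complete
system of orthogonal idempotents of A' lifting the e_j. -/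
theorem result (A : Type u) [CommRing A] (I : Ideal A)
    (n : ℕ) (e : Fin n → A ⧸ I) (he : CompleteOrthogonalIdempotents e) :
    ∃ (A' : Type u) (_ : CommRing A') (_ : Algebra A A'), Algebra.Etale A A' ∧
      Function.Bijective (Ideal.quotientMap (Ideal.map (algebraMap A A') I) (algebraMap A A')
        Ideal.le_comap_map) ∧
      ∃ e' : Fin n → A', CompleteOrthogonalIdempotents e' ∧
        ∀ j, Ideal.Quotient.mk (Ideal.map (algebraMap A A') I) (e' j) =
          Ideal.quotientMap (Ideal.map (algebraMap A A') I) (algebraMap A A') Ideal.le_comap_map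
            (e j) := by
  classical
  let B := Groth.L05.Henselization.PairHens A I
  let τ : B →ₐ[A] A ⧸ I := Groth.L05.Henselization.ε A (A ⧸ I)
  have hB := Groth.L05.Henselization.isPairHenselization A I
  let J := I.map (algebraMap A B)
  haveI := hB.1
  have hτJ : ∀ x, x ∈ J ↔ τ x = 0 := fun x => by
    show x ∈ I.map (algebraMap A B) ↔ _
    rw [← Groth.L05.Henselization.ker_ε_pair A I]
    exact RingHom.mem_ker
  choose a ha using fun j => Ideal.Quotient.mk_surjective (I := I) (e j)
  have hτa : ∀ j, τ (algebraMap A B (a j)) = e j := fun j => (τ.commutes _).trans (ha j)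
  choose ε hε hεa using fun j => Groth.L05.exists_idem_lift_of_finite J (C := B) (algebraMap A B (a j)) (by
    rw [Algebra.algebraMap_self, Ideal.map_id, hτJ, map_sub, map_mul, hτa, (he.idem j).eq, sub_self])
  have hτε : ∀ j, τ (ε j) = e j := fun j => by
    have := hεa j
    rw [Algebra.algebraMap_self, Ideal.map_id, hτJ, map_sub, hτa, sub_eq_zero] at this
    exact this
  have hortho : ∀ i j, i ≠ j → ε i * ε j = 0 := fun i j hij =>
    Groth.L05.idem_eq_of_sub_mem hB.1.jac ((hε i).mul (hε j)) IsIdempotentElem.zero (by
      rw [sub_zero, hτJ, map_mul, hτε, hτε]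
      exact he.ortho hij)
  have hoi : OrthogonalIdempotents ε := ⟨hε, fun i j hij => hortho i j hij⟩
  have hsum : ∑ j, ε j = 1 := Groth.L05.idem_eq_of_sub_mem hB.1.jac hoi.isIdempotentElem_sum IsIdempotentElem.one (by
      rw [hτJ, map_sub, map_one, map_sum, Finset.sum_congr rfl fun j _ => hτε j, he.complete, sub_self])
  obtain ⟨S, _, _, σ, φ, _, hσ, hτφ, hφ⟩ := Groth.L05.Henselization.exists_nbhd_lift I (Finset.univ.image ε)
  choose y hy using fun j => hφ (ε j) (Finset.mem_image_of_mem ε (Finset.mem_univ j))
  replace hy : ∀ j, φ (y j) = ε j := hy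
  obtain ⟨S', _, _, _, ψ, σ', hσ', hbij, hψ, hψσ⟩ := Groth.L05.Henselization.exists_nbhd_kill I hσ φ
    (insert (∑ j, y j - 1) ((Finset.univ.image fun j => y j * y j - y j) ∪
      ((Finset.univ.filter fun ij : Fin n × Fin n => ij.1 ≠ ij.2).image fun ij => y ij.1 * y ij.2))) (by
      intro x hx
      simp only [Finset.mem_insert, Finset.mem_union, Finset.mem_image, Finset.mem_univ, true_and,
        Finset.mem_filter] at hx
      rcases hx with rfl | ⟨j, rfl⟩ | ⟨⟨i, j⟩, hij, rfl⟩
      · rw [map_sub, map_sum, map_one, Finset.sum_congr rfl fun j _ => hy j, hsum, sub_self]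
      · rw [map_sub, map_mul, hy, (hε j).eq, sub_self]
      · rw [map_mul, hy, hy, hortho i j hij])
  refine ⟨S', inferInstance, inferInstance, inferInstance, hbij, fun j => ψ (y j), ⟨⟨fun j => ?_, fun i j hij => ?_⟩, ?_⟩, fun j => ?_⟩
  · have := hψ (y j * y j - y j) (by simp)
    rwa [map_sub, map_mul, sub_eq_zero] at this
  · have := hψ (y i * y j) (Finset.mem_insert_of_mem (Finset.mem_union_right _
      (Finset.mem_image_of_mem (fun ij : Fin n × Fin n => y ij.1 * y ij.2) (a := (i, j))
        (Finset.mem_filter.mpr ⟨Finset.mem_univ _, hij⟩))))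
    rwa [map_mul] at this
  · have := hψ (∑ j, y j - 1) (by simp)
    rwa [map_sub, map_sum, map_one, sub_eq_zero] at this
  · refine Groth.L05.Henselization.mk_eq_quotientMap I hσ' ?_
    rw [hψσ, ← hτφ, hy]
    exact hτε j

end Groth.Agent.S9292
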