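import Groth.Statements.S9293
import Groth.Agent.L06.GeomHom
import Groth.Agent.L19.FlatComp
import Mathlib.RingTheory.Flat.FaithfullyFlat.Algebra

set_option autoImplicit false
universe u
open CAlg

set_option maxSynthPendingDepth 3

open TensorProduct Groth.L06 Groth.L06.PropLoc Groth.L06.GeomFG

namespace Groth.Agent.S9293

/-- If R → Λ is a regular ring map and R' is an R-algebra of finite type, then R' → R' ⊗_R Λ is again
regular. -/
theorem result (R Λ R' : Type u) [CommRing R] [CommRing Λ] [CommRing R']
    [Algebra R Λ] [Algebra R R'] [Algebra.FiniteType R R'] (h : CAlg.IsRegularHom R Λ) :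
    CAlg.IsRegularHom R' (TensorProduct R R' Λ) := by
  haveI := h.1
  refine ⟨inferInstance, fun q _ => ?_⟩
  let p := q.comap (algebraMap R R')
  letI : Algebra p.ResidueField q.ResidueField := (Ideal.ResidueField.map p q (algebraMap R R') rfl).toAlgebra
  haveI : IsScalarTower R p.ResidueField q.ResidueField := IsScalarTower.of_algebraMap_eq fun a => by
    rw [IsScalarTower.algebraMap_apply R R' q.ResidueField]
    exact (Ideal.ResidueField.map_algebraMap p q (algebraMap R R') rfl a).symm
  haveI : Algebra.EssFiniteType R q.ResidueField := Algebra.EssFiniteType.comp R R' q.ResidueField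
  haveI : Algebra.EssFiniteType p.ResidueField q.ResidueField := Algebra.EssFiniteType.of_comp R p.ResidueField q.ResidueField
  haveI := (h.2 p).1
  have hG : Geom QReg p.ResidueField (p.Fiber Λ) := fun L _ _ hL => by
    haveI := hL
    haveI := isNoetherianRing_tensor p.ResidueField L (p.Fiber Λ)
    exact loc_reg_iff.mpr ((h.2 p).2 L hL)
  have key : ∀ (L : Type u) [Field L] [Algebra q.ResidueField L], Module.Finite q.ResidueField L →
      IsNoetherianRing (L ⊗[q.ResidueField] q.Fiber (R' ⊗[R] Λ)) ∧
        IsRegularRing (L ⊗[q.ResidueField] q.Fiber (R' ⊗[R] Λ)) := by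
    intro L _ _ hL
    haveI := hL
    letI : Algebra p.ResidueField L := ((algebraMap q.ResidueField L).comp (algebraMap p.ResidueField q.ResidueField)).toAlgebra
    haveI : IsScalarTower p.ResidueField q.ResidueField L := IsScalarTower.of_algebraMap_eq' rfl
    haveI : Algebra.EssFiniteType p.ResidueField L := Algebra.EssFiniteType.comp p.ResidueField q.ResidueField L
    letI : Algebra R' L := ((algebraMap q.ResidueField L).comp (algebraMap R' q.ResidueField)).toAlgebra
    haveI : IsScalarTower R' q.ResidueField L := IsScalarTower.of_algebraMap_eq' rfl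
    letI : Algebra R L := ((algebraMap R' L).comp (algebraMap R R')).toAlgebra
    haveI : IsScalarTower R R' L := IsScalarTower.of_algebraMap_eq' rfl
    haveI : IsScalarTower R p.ResidueField L := IsScalarTower.of_algebraMap_eq fun a => by
      show algebraMap q.ResidueField L (algebraMap R' q.ResidueField (algebraMap R R' a)) =
        algebraMap q.ResidueField L (algebraMap p.ResidueField q.ResidueField (algebraMap R p.ResidueField a))
      rw [← IsScalarTower.algebraMap_apply R R' q.ResidueField, ← IsScalarTower.algebraMap_apply R p.ResidueField q.ResidueField]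
    haveI := isNoetherianRing_tensor p.ResidueField L (p.Fiber Λ)
    let e : L ⊗[p.ResidueField] p.Fiber Λ ≃+* L ⊗[q.ResidueField] q.Fiber (R' ⊗[R] Λ) :=
      (Algebra.TensorProduct.cancelBaseChange R p.ResidueField p.ResidueField L Λ).toRingEquiv.trans
        ((Algebra.TensorProduct.cancelBaseChange R R' R' L Λ).toRingEquiv.symm.trans
          (Algebra.TensorProduct.cancelBaseChange R' q.ResidueField q.ResidueField L (R' ⊗[R] Λ)).toRingEquiv.symm)
    haveI hn := isNoetherianRing_of_ringEquiv _ e
    exact ⟨hn, loc_reg_iff.mp (loc_of_ringEquiv good_reg e (loc_of_geom good_reg regImp_reg hG L))⟩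
  refine ⟨?_, fun L _ _ hL => (key L hL).2⟩
  haveI := (key q.ResidueField inferInstance).1
  exact isNoetherianRing_of_ringEquiv _ (Algebra.TensorProduct.lid q.ResidueField (q.Fiber (R' ⊗[R] Λ))).toRingEquiv

end Groth.Agent.S9293
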