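import Groth.Statements.S9297
import Groth.Agent.L10.FormCat.Basic
-- import your own Groth.Agent.* helpers here

set_option autoImplicit false
universe u
open EGA4

namespace Groth.Agent.S9297

/-- Let A → B be a flat local homomorphism of Noetherian local rings with B catenary and Spec(B)
equidimensional. Then Spec(B/pB) is equidimensional for every prime p of A. -/
theorem result (A B : Type u) [CommRing A] [CommRing B]
    [IsNoetherianRing A] [IsNoetherianRing B] [IsLocalRing A] [IsLocalRing B] [Algebra A B]
    [IsLocalHom (algebraMap A B)] [Module.Flat A B] (hcat : CAlg.IsCatenary B) (heq : EGA4.IsEquidim B)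
    (p : Ideal A) [p.IsPrime] : EGA4.IsEquidim (B ⧸ Ideal.map (algebraMap A B) p) := by
  open Groth.L10.FormCat in
  haveI := Groth.L01.isLocalRing_quotient (map_ne_top (B := B) (Ideal.IsPrime.ne_top (I := p) inferInstance))
  obtain ⟨n, hn⟩ := Groth.L01.exists_dim_eq_nat (R := B)
  obtain ⟨h, d, hh, hd, hhd⟩ := dim_map_prime hcat heq p hn
  intro P hP
  haveI : P.IsPrime := hP.1.1
  let P' := P.comap (Ideal.Quotient.mk (p.map (algebraMap A B)))
  have hP' : P' ∈ (p.map (algebraMap A B)).minimalPrimes := by
    rw [← Ideal.mk_ker (I := p.map (algebraMap A B)), RingHom.ker_eq_comap_bot,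
      Ideal.comap_minimalPrimes_eq_of_surjective Ideal.Quotient.mk_surjective]
    exact ⟨P, hP, rfl⟩
  have h3 := height_add hcat heq hn ⟨P', inferInstance⟩
  rw [(minimal_over hP').2, hh] at h3
  have h3' : h + qd (⟨P', inferInstance⟩ : PrimeSpectrum B) = n := by exact_mod_cast h3
  have hmap : P'.map (Ideal.Quotient.mk _) = P := Ideal.map_comap_of_surjective _ Ideal.Quotient.mk_surjective _
  have e := ringKrullDim_eq_of_ringEquiv (DoubleQuot.quotQuotEquivQuotOfLE hP'.le)
  rw [hmap, dim_quot ⟨P', inferInstance⟩] at e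
  rw [e, hd]
  exact_mod_cast (show qd (⟨P', inferInstance⟩ : PrimeSpectrum B) = d by omega)

end Groth.Agent.S9297
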