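import Groth.Statements.S9298
import Groth.Agent.L14.GrApprox.FormalModCompletion
import Groth.Agent.L06.NormalCompletion

set_option autoImplicit false
universe u
open CAlg

namespace Groth.Agent.S9298

/-- Let A be a Noetherian ring, I an ideal, B a finite type A-algebra and B^ its I-adic completion. Let
π be a surjective ring map from B^ to C, with kernel J, and suppose some power I^c (c ≥ 0) kills the
conormal module J/J^2. Then, compatibly with the maps from A, C is isomorphic to the I-adic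
completion of some finite type A-algebra. -/
theorem result (A : Type u) [CommRing A]
    [IsNoetherianRing A] (I : Ideal A) (B : Type u) [CommRing B] [Algebra A B] [Algebra.FiniteType A B]
    (C : Type u) [CommRing C]
    (π : AdicCompletion (Ideal.map (algebraMap A B) I) B →+* C) (hπ : Function.Surjective π) (c : ℕ)
    (hJ : Ideal.map ((algebraMap B (AdicCompletion (Ideal.map (algebraMap A B) I) B)).comp
        (algebraMap A B)) I ^ c * RingHom.ker π ≤ RingHom.ker π ^ 2) :
    ∃ (D : Type u) (_ : CommRing D) (_ : Algebra A D), Algebra.FiniteType A D ∧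
      ∃ e : C ≃+* AdicCompletion (Ideal.map (algebraMap A D) I) D,
        ∀ a : A, e (π (algebraMap B _ (algebraMap A B a))) =
          algebraMap D _ (algebraMap A D a) := by
  haveI : IsNoetherianRing B := Algebra.FiniteType.isNoetherianRing A B
  obtain ⟨𝔞, h𝔞⟩ : ∃ 𝔞, 𝔞 = Ideal.map (algebraMap A B) I := ⟨_, rfl⟩
  suffices key : ∀ π : AdicCompletion 𝔞 B →+* C, Function.Surjective π →
      (𝔞.map (algebraMap B (AdicCompletion 𝔞 B))) ^ c * RingHom.ker π ≤ RingHom.ker π ^ 2 →
      ∃ (D : Type u) (_ : CommRing D) (_ : Algebra B D), Algebra.FiniteType B D ∧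
        ∃ e : C ≃+* AdicCompletion (𝔞.map (algebraMap B D)) D,
          ∀ b, e (π (algebraMap B _ b)) = algebraMap D _ (algebraMap B D b) by
    subst h𝔞
    rw [← Ideal.map_map] at hJ
    obtain ⟨D, _, _, hD, e, he⟩ := key π hπ hJ
    letI : Algebra A D := ((algebraMap B D).comp (algebraMap A B)).toAlgebra
    haveI : IsScalarTower A B D := IsScalarTower.of_algebraMap_eq' rfl
    refine ⟨D, inferInstance, inferInstance, Algebra.FiniteType.trans (S := B) inferInstance hD, ?_⟩
    rw [show I.map (algebraMap A D) = (I.map (algebraMap A B)).map (algebraMap B D) from (Ideal.map_map _ _).symm]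
    exact ⟨e, fun a => he (algebraMap A B a)⟩
  clear h𝔞 hJ hπ π
  intro π hπ hJ
  haveI : IsNoetherianRing (AdicCompletion 𝔞 B) := Groth.Agent.S0543.result B 𝔞
  haveI := Groth.L06.NormalTensor.isAdicComplete_completion B 𝔞
  have hker := Groth.L14.Popescu.evalₐ_eq_zero_iff (IsNoetherian.noetherian 𝔞)
  have hcl : Groth.L14.GrApprox.IsComplLike (S := AdicCompletion 𝔞 B) 𝔞 :=
    { flat := inferInstance
      den := fun n s => by
        obtain ⟨b, hb⟩ := Ideal.Quotient.mk_surjective (AdicCompletion.evalₐ 𝔞 n s)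
        refine ⟨b, (hker n _).mp ?_⟩
        rw [map_sub, AdicCompletion.algebraMap_apply, AdicCompletion.evalₐ_of, sub_eq_zero]
        exact hb.symm
      ker := fun n b hb => by
        have h1 := (hker n _).mpr hb
        rwa [AdicCompletion.algebraMap_apply, AdicCompletion.evalₐ_of, Ideal.Quotient.eq_zero_iff_mem] at h1 }
  obtain ⟨m, hm⟩ := Groth.L14.GrApprox.exists_pow_le_sup_annihilator _ _ c hJ
  rw [← Ideal.map_pow] at hm
  let K := Submodule.annihilator (RingHom.ker π)
  let β : AdicCompletion 𝔞 B →+* C × (AdicCompletion 𝔞 B ⧸ K) := π.prod (Ideal.Quotient.mk K)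
  have hJK : ∀ j ∈ RingHom.ker π, ∀ k ∈ K, k * j = 0 := fun j hj k hk => Submodule.mem_annihilator.mp hk j hj
  have hβ : β.Finite := by
    letI := β.toAlgebra
    refine ⟨Submodule.fg_def.mpr ⟨{((1 : C), (0 : AdicCompletion 𝔞 B ⧸ K)), (0, 1)}, Set.toFinite _, ?_⟩⟩
    rw [eq_top_iff]
    rintro ⟨x, y⟩ -
    obtain ⟨s, rfl⟩ := hπ x
    obtain ⟨t, rfl⟩ := Ideal.Quotient.mk_surjective y
    refine Submodule.mem_span_pair.mpr ⟨s, t, ?_⟩
    rw [Algebra.smul_def, Algebra.smul_def, RingHom.algebraMap_toAlgebra]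
    simp [β]
  refine Groth.L14.GrApprox.exists_algebraization_of_idempotent hcl π hπ β hβ m ?_ ?_
    (RingHom.fst _ _) rfl ((1 : C), 0) rfl ?_ ?_
  · intro l hl s hs
    obtain ⟨j, hj, k, hk, hjk⟩ := Submodule.mem_sup.mp (hm (Ideal.mem_map_of_mem _ hl))
    have h1 : π s = 0 := congrArg Prod.fst hs
    have h2 : s ∈ K := Ideal.Quotient.eq_zero_iff_mem.mp (congrArg Prod.snd hs)
    rw [← hjk, add_mul, mul_comm j, hJK j hj s h2, hJK s h1 k hk, add_zero]
  · rintro l hl ⟨x, y⟩
    obtain ⟨j, hj, k, hk, hjk⟩ := Submodule.mem_sup.mp (hm (Ideal.mem_map_of_mem _ hl))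
    obtain ⟨s, rfl⟩ := hπ x
    obtain ⟨t, rfl⟩ := Ideal.Quotient.mk_surjective y
    refine ⟨k * s + j * t, Prod.ext ?_ ?_⟩
    · show π _ = π _ * π s
      rw [← hjk, map_add, map_add, map_mul, map_mul, RingHom.mem_ker.mp hj]
      ring
    · show Ideal.Quotient.mk K _ = Ideal.Quotient.mk K _ * Ideal.Quotient.mk K t
      rw [← hjk, map_add, map_add, map_mul, map_mul, Ideal.Quotient.eq_zero_iff_mem.mpr hk]
      ring
  · rintro ⟨x, y⟩ hx
    have hx' : x = 0 := hx
    simp [hx', Prod.ext_iff]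
  · simp [Prod.ext_iff]

end Groth.Agent.S9298
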