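import Groth.Statements.S9300


set_option autoImplicit false
universe u
open CAlg

namespace Groth.Agent.S9300

/-- Let A and B be domains and A → B a ring map for which the generic point of Spec(A) has a unique
preimage in Spec(B). Then every nonzero ideal of B has nonzero preimage in A. -/
theorem result (A B : Type u) [CommRing A] [IsDomain A]
    [CommRing B] [IsDomain B] (φ : A →+* B)
    (h : ∃! q : PrimeSpectrum B, Ideal.comap φ q.asIdeal = ⊥) (J : Ideal B) (hJ : J ≠ ⊥) :
    Ideal.comap φ J ≠ ⊥ := by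
  intro hbot
  obtain ⟨q, hq, huniq⟩ := h
  have hinj : ∀ a, φ a = 0 → a = 0 := fun a ha => by
    have : a ∈ Ideal.comap φ q.asIdeal := by
      rw [Ideal.mem_comap, ha]; exact zero_mem _
    rwa [hq] at this
  let S := (nonZeroDivisors A).map φ
  have hdis : Disjoint (J : Set B) (S : Set B) := by
    rw [Set.disjoint_left]
    rintro _ hxJ ⟨a, ha, rfl⟩
    have : a ∈ Ideal.comap φ J := hxJ
    rw [hbot, Ideal.mem_bot] at this
    exact nonZeroDivisors.ne_zero ha this
  obtain ⟨P, hP, hJP, hPS⟩ := Ideal.exists_le_prime_disjoint _ _ hdis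
  have h1 : Ideal.comap φ P = ⊥ := by
    refine eq_bot_iff.2 fun a ha => ?_
    by_contra hne
    exact Set.disjoint_left.1 hPS ha ⟨a, mem_nonZeroDivisors_of_ne_zero (by simpa using hne), rfl⟩
  have h2 : Ideal.comap φ (⊥ : Ideal B) = ⊥ := by
    refine eq_bot_iff.2 fun a ha => ?_
    rw [Ideal.mem_comap, Ideal.mem_bot] at ha
    exact (hinj a ha : a = 0)
  have e1 := huniq ⟨P, hP⟩ h1
  have e2 := huniq ⟨⊥, Ideal.isPrime_bot⟩ h2
  have : P = ⊥ := congrArg PrimeSpectrum.asIdeal (e1.trans e2.symm)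
  exact hJ (le_bot_iff.1 (this ▸ hJP))

end Groth.Agent.S9300
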