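import Groth.Statements.S9301
import Mathlib.RingTheory.QuasiFinite.Basic
import Mathlib.RingTheory.Flat.TorsionFree
import Mathlib.RingTheory.Ideal.GoingUp
import Mathlib.RingTheory.Algebraic.Integral
import Mathlib.RingTheory.TensorProduct.Maps

set_option autoImplicit false
universe u
open CAlg

open scoped TensorProduct

namespace Groth.Agent.S9301

/-- Let A and B be domains and A → B a flat ring map which is the localization of a quasi-finite ring
map A → B₀ (of finite type with finite fibres). Then every nonzero ideal of B has nonzero preimage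
in A. -/
theorem result (A B₀ B : Type u) [CommRing A] [IsDomain A]
    [CommRing B₀] [CommRing B] [IsDomain B] [Algebra A B₀] [Algebra.FiniteType A B₀]
    [Algebra.QuasiFinite A B₀] (S : Submonoid B₀) [Algebra B₀ B] [IsLocalization S B] [Algebra A B]
    [IsScalarTower A B₀ B] [Module.Flat A B] (J : Ideal B) (hJ : J ≠ ⊥) :
    Ideal.comap (algebraMap A B) J ≠ ⊥ := by
  classical
  have hinjB : Function.Injective (algebraMap A B) := by
    rw [injective_iff_map_eq_zero]
    intro a ha
    by_contra ha0
    have h0 : a • (1 : B) = a • (0 : B) := by rw [Algebra.smul_def, ha, zero_mul, smul_zero]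
    exact one_ne_zero (Module.Flat.isSMulRegular_of_nonZeroDivisors (mem_nonZeroDivisors_of_ne_zero ha0) h0)
  let F := FractionRing B
  have hinjF : Function.Injective (algebraMap A F) := by
    rw [IsScalarTower.algebraMap_eq A B F]
    exact (IsFractionRing.injective B F).comp hinjB
  let κ := (⊥ : Ideal A).ResidueField
  let φ : κ →ₐ[A] F := IsFractionRing.liftAlgHom (g := Algebra.ofId A F) hinjF
  let ψ : (⊥ : Ideal A).Fiber B₀ →ₐ[A] F :=
    Algebra.TensorProduct.lift φ (IsScalarTower.toAlgHom A B₀ F) (fun _ _ => mul_comm _ _)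
  have halg : ∀ x : B₀, IsAlgebraic A (algebraMap B₀ B x) := by
    intro x
    have h1 : IsAlgebraic κ ((1 : κ) ⊗ₜ[A] x) := (Algebra.IsIntegral.isIntegral _).isAlgebraic
    have h2 := ((IsFractionRing.isAlgebraic_iff A κ ((⊥ : Ideal A).Fiber B₀)).2 h1).algHom ψ
    rw [← isAlgebraic_algebraMap_iff (IsFractionRing.injective B F)]
    convert h2 using 1
    rw [← IsScalarTower.algebraMap_apply B₀ B F]
    show _ = Algebra.TensorProduct.lift φ (IsScalarTower.toAlgHom A B₀ F) _ ((1 : κ) ⊗ₜ[A] x)
    erw [Algebra.TensorProduct.lift_tmul]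
    rw [map_one, one_mul, IsScalarTower.toAlgHom_apply]
  obtain ⟨b, hb, hb0⟩ := Submodule.exists_mem_ne_zero_of_ne_bot hJ
  obtain ⟨⟨x, s⟩, hxs⟩ := IsLocalization.surj S b
  refine Ideal.comap_ne_bot_of_algebraic_mem (x := algebraMap B₀ B x) ?_ ?_ (halg x)
  · rw [← hxs]
    exact mul_ne_zero hb0 (IsLocalization.map_units B s).ne_zero
  · rw [← hxs]
    exact Ideal.mul_mem_right _ _ hb

end Groth.Agent.S9301
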