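import Groth.Statements.S9302
import Groth.Agent.L05.Hensel.Uniq
import Mathlib.Algebra.Category.Ring.Limits
import Mathlib.CategoryTheory.Limits.Types.Limits

set_option autoImplicit false
universe u
open CategoryTheory
open EtAlg

namespace Groth.Agent.S9302

/-- Henselian pairs are preserved under limits: for an inverse system (A_j, I_j) of henselian pairs over
a preordered set J, the limit A = lim A_j with the ideal I = lim I_j (elements all of whose
projections lie in the I_j) is a henselian pair. -/
theorem result (J : Type u) [Preorder J] (F : J ⥤ CommRingCat.{u})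
    (I : ∀ j : J, Ideal (F.obj j))
    (hI : ∀ (i j : J) (φ : i ⟶ j), Ideal.map (F.map φ).hom (I i) ≤ I j)
    (h : ∀ j : J, HenselianRing (F.obj j) (I j)) :
    HenselianRing ((Limits.limit F : CommRingCat.{u}) : Type u)
      (⨅ j : J, Ideal.comap (Limits.limit.π F j).hom (I j)) := by
  set L := (Limits.limit F : CommRingCat.{u})
  let π : ∀ j, L →+* F.obj j := fun j => (Limits.limit.π F j).hom
  have hπ : ∀ i j (φ : i ⟶ j) (x : L), (F.map φ).hom (π i x) = π j x := fun i j φ x => by
    have := Limits.limit.w F φ
    exact RingHom.congr_fun (congrArg CommRingCat.Hom.hom this) x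
  have hext : ∀ x y : L, (∀ j, π j x = π j y) → x = y := fun x y hxy =>
    CategoryTheory.Limits.Concrete.limit_ext F x y hxy
  have hglue : ∀ c : ∀ j, F.obj j, (∀ i j (φ : i ⟶ j), (F.map φ).hom (c i) = c j) →
      ∃ x : L, ∀ j, π j x = c j := by
    intro c hc
    let E := (Limits.Types.limitEquivSections (F ⋙ forget CommRingCat.{u}))
    refine ⟨(CategoryTheory.preservesLimitIso (forget CommRingCat.{u}) F).inv
      (E.symm ⟨c, fun {i j} φ => hc i j φ⟩), fun j => ?_⟩
    have h1 := CategoryTheory.ConcreteCategory.congr_hom (CategoryTheory.preservesLimitIso_inv_π (forget CommRingCat.{u}) F j)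
      (E.symm ⟨c, fun {i j} φ => hc i j φ⟩)
    exact h1.trans (Limits.Types.limitEquivSections_symm_apply _ _ j)
  set K : Ideal L := ⨅ j, Ideal.comap (Limits.limit.π F j).hom (I j)
  have hK : ∀ x, x ∈ K ↔ ∀ j, π j x ∈ I j := fun x => by simp [K, π, Ideal.mem_iInf]
  refine Groth.L05.henselianRing_of_gabberRoots ⟨?_, ?_⟩
  · intro x hx
    rw [Ideal.mem_jacobson_bot]
    intro y
    choose c hc using fun j => (Groth.L05.isUnit_of_sub_one_mem (h j).jac (a := π j (x * y + 1))
      (by rw [map_add, map_one, add_sub_cancel_right, map_mul]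
          exact (I j).mul_mem_right _ ((hK x).mp hx j))).exists_right_inv
    obtain ⟨a, ha⟩ := hglue c fun i j φ => by
      have h1 := congrArg (F.map φ).hom (hc i)
      rw [map_mul, map_one, hπ] at h1
      exact (IsUnit.of_mul_eq_one _ (hc j)).mul_left_cancel (h1.trans (hc j).symm)
    exact IsUnit.of_mul_eq_one a (hext _ _ fun j => by rw [map_mul, ha, map_one, hc])
  · intro f n hn hf hmap
    have hmapj : ∀ j, (f.map (π j)).map (Ideal.Quotient.mk (I j)) =
        Polynomial.X ^ n * (Polynomial.X - 1) := fun j => Groth.L05.map_eq_of_le (π j)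
      (Ideal.map_le_iff_le_comap.mpr fun x hx => (hK x).mp hx j) hmap
    choose α hα hroot using fun j => (@Groth.L05.gabberRoots_of_henselianRing _ _ (I j) (h j)).2
      (f.map (π j)) n hn (hf.map _) (hmapj j)
    obtain ⟨a, ha⟩ := hglue α fun i j φ => by
      refine Groth.L05.gabber_root_unique (h j).jac (hmapj j) (hα j) ?_ (hroot j) ?_
      · have h2 := hI i j φ (Ideal.mem_map_of_mem (F.map φ).hom (hα i))
        rwa [map_sub, map_one] at h2
      · have := (hroot i).map (f := (F.map φ).hom)
        rwa [Polynomial.map_map, show ((F.map φ).hom.comp (π i)) = π j from RingHom.ext (hπ i j φ)] at this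
    refine ⟨a, (hK _).mpr fun j => ?_, hext _ _ fun j => ?_⟩
    · rw [map_sub, map_one, ha]; exact hα j
    · rw [map_zero, ← Polynomial.eval_map_apply, ha]
      exact hroot j

end Groth.Agent.S9302
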