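import Groth.Statements.S9303
import Mathlib.RingTheory.Localization.Away.Basic
import Mathlib.RingTheory.Ideal.Colon
import Mathlib.Algebra.Ring.Idempotent
import Mathlib.RingTheory.Localization.LocalizationLocalization
import Mathlib.Tactic.LinearCombination
import Mathlib.Tactic.Ring

set_option autoImplicit false
universe u
open CAlg

namespace Groth.S9303aux

variable {A : Type u} [CommRing A] (f : A) (P : Type u) [CommRing P] [Algebra A P]

local notation "Lf" => Localization.Away f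
local notation "Pf" => Localization (Algebra.algebraMapSubmonoid P (Submonoid.powers f))

lemma isUnit_f : IsUnit (algebraMap A Pf f) := by
  rw [IsScalarTower.algebraMap_apply A P Pf]
  exact IsLocalization.map_units Pf (⟨algebraMap A P f, f, ⟨1, pow_one f⟩, rfl⟩ : Algebra.algebraMapSubmonoid P (Submonoid.powers f))

lemma eq_zero_iff (c : P) : algebraMap P Pf c = 0 ↔ ∃ m : ℕ, algebraMap A P (f ^ m) * c = 0 := by
  rw [IsLocalization.map_eq_zero_iff (Algebra.algebraMapSubmonoid P (Submonoid.powers f))]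
  constructor
  · rintro ⟨⟨_, y, ⟨m, rfl⟩, rfl⟩, h⟩; exact ⟨m, h⟩
  · rintro ⟨m, h⟩; exact ⟨⟨_, f ^ m, ⟨m, rfl⟩, rfl⟩, h⟩

lemma surj_Lf (x : Lf) : ∃ (a : A) (m : ℕ), x * algebraMap A Lf (f ^ m) = algebraMap A Lf a := by
  obtain ⟨⟨a, ⟨_, m, rfl⟩⟩, h⟩ := IsLocalization.surj (Submonoid.powers f) x
  exact ⟨a, m, h⟩

lemma eq_zero_iff_Lf (a : A) : algebraMap A Lf a = 0 ↔ ∃ m : ℕ, f ^ m * a = 0 := by
  rw [IsLocalization.map_eq_zero_iff (Submonoid.powers f)]
  constructor
  · rintro ⟨⟨_, m, rfl⟩, h⟩; exact ⟨m, h⟩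
  · rintro ⟨m, h⟩; exact ⟨⟨_, m, rfl⟩, h⟩

lemma bijective_of
    (h1 : ∀ a : A, algebraMap A P a = 0 → ∃ m : ℕ, f ^ m * a = 0)
    (h2 : ∀ p : P, ∃ (a : A) (m : ℕ), algebraMap A P (f ^ m) * p = algebraMap A P a) :
    Function.Bijective (algebraMap Lf Pf) := by
  refine ⟨(injective_iff_map_eq_zero _).2 fun x hx => ?_, fun y => ?_⟩
  · obtain ⟨a, m, ha⟩ := surj_Lf f x
    have h3 := congrArg (algebraMap Lf Pf) ha
    rw [map_mul, hx, zero_mul, ← IsScalarTower.algebraMap_apply, IsScalarTower.algebraMap_apply A P Pf, eq_comm,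
      eq_zero_iff] at h3
    obtain ⟨i, hi⟩ := h3
    rw [← map_mul] at hi
    obtain ⟨k, hk⟩ := h1 _ hi
    have h4 : algebraMap A Lf a = 0 := (eq_zero_iff_Lf f a).2 ⟨k + i, by rw [pow_add, mul_assoc]; exact hk⟩
    rw [h4] at ha
    exact ((IsLocalization.map_units Lf (⟨f ^ m, m, rfl⟩ : Submonoid.powers f)).mul_left_eq_zero).1 ha
  · obtain ⟨⟨p, ⟨_, _, ⟨m, rfl⟩, rfl⟩⟩, hy⟩ := IsLocalization.surj (Algebra.algebraMapSubmonoid P (Submonoid.powers f)) y
    obtain ⟨a, i, ha⟩ := h2 p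
    refine ⟨IsLocalization.mk' Lf a (⟨f ^ (i + m), i + m, rfl⟩ : Submonoid.powers f), ?_⟩
    refine ((isUnit_f f P).pow (i + m)).mul_left_injective ?_
    dsimp only at hy ⊢
    have e1 : algebraMap Lf Pf (IsLocalization.mk' Lf a (⟨f ^ (i + m), i + m, rfl⟩ : Submonoid.powers f)) *
        algebraMap A Pf f ^ (i + m) = algebraMap A Pf a := by
      rw [← map_pow, IsScalarTower.algebraMap_apply A Lf Pf (f ^ (i + m)), ← map_mul,
        IsLocalization.mk'_spec, ← IsScalarTower.algebraMap_apply]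
    rw [e1, IsScalarTower.algebraMap_apply A P Pf a, ← ha, map_mul, ← hy, ← IsScalarTower.algebraMap_apply,
      ← IsScalarTower.algebraMap_apply, map_pow, map_pow, pow_add]
    ring

variable {f} {P}

lemma data (h : ∃ e : Lf, IsIdempotentElem e ∧ IsLocalization.Away e Pf) :
    ∃ (ε : A) (j m₁ : ℕ), algebraMap A P (f ^ m₁ * ε) = 0 ∧
      (∀ a : A, algebraMap A P a = 0 → ∃ m : ℕ, f ^ m * (ε * a - f ^ j * a) = 0) ∧
      ∀ p : P, ∃ (a : A) (m : ℕ), algebraMap A P (f ^ m) * p = algebraMap A P a := by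
  obtain ⟨e, he, hloc⟩ := h
  have he1 : algebraMap Lf Pf e = 1 :=
    (IsIdempotentElem.iff_eq_one_of_isUnit (IsLocalization.Away.algebraMap_isUnit e)).1 (he.map _)
  obtain ⟨ε, j, hε⟩ := surj_Lf f (1 - e)
  have h1 : ∃ m₁, algebraMap A P (f ^ m₁ * ε) = 0 := by
    have h2 := congrArg (algebraMap Lf Pf) hε
    rw [map_mul, map_sub, map_one, he1, sub_self, zero_mul, ← IsScalarTower.algebraMap_apply,
      IsScalarTower.algebraMap_apply A P Pf, eq_comm, eq_zero_iff] at h2
    obtain ⟨m, hm⟩ := h2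
    exact ⟨m, by rw [map_mul]; exact hm⟩
  obtain ⟨m₁, hm₁⟩ := h1
  refine ⟨ε, j, m₁, hm₁, fun a ha => ?_, fun p => ?_⟩
  · have h2 : algebraMap Lf Pf (algebraMap A Lf a) = 0 := by
      rw [← IsScalarTower.algebraMap_apply, IsScalarTower.algebraMap_apply A P Pf, ha, map_zero]
    obtain ⟨⟨_, k, rfl⟩, hk⟩ := (IsLocalization.map_eq_zero_iff (Submonoid.powers e) Pf _).1 h2
    have h3 : e * algebraMap A Lf a = 0 := by
      rcases k with _ | k
      · simp only [pow_zero, one_mul] at hk; rw [hk, mul_zero]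
      · simpa [he.pow_succ_eq] using hk
    refine (eq_zero_iff_Lf f _).1 ?_
    rw [map_sub, map_mul, map_mul, ← hε]
    linear_combination (-(algebraMap A Lf (f ^ j))) * h3
  · obtain ⟨⟨x, ⟨_, k, rfl⟩⟩, hx⟩ := IsLocalization.surj (Submonoid.powers e) (algebraMap P Pf p)
    dsimp only at hx
    rw [map_pow, he1, one_pow, mul_one] at hx
    obtain ⟨a, m, ha⟩ := surj_Lf f x
    have h2 := congrArg (algebraMap Lf Pf) ha
    rw [map_mul, ← hx, ← IsScalarTower.algebraMap_apply, ← IsScalarTower.algebraMap_apply,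
      IsScalarTower.algebraMap_apply A P Pf, IsScalarTower.algebraMap_apply A P Pf a, ← map_mul, ← sub_eq_zero,
      ← map_sub, eq_zero_iff] at h2
    obtain ⟨i, hi⟩ := h2
    refine ⟨f ^ i * a, i + m, ?_⟩
    rw [pow_add, map_mul, map_mul]
    linear_combination hi

end Groth.S9303aux



namespace Groth.Agent.S9303

/-- Let A be a ring, I a finitely generated ideal and A → C a ring map such that for every f ∈ I the map
A_f → C_f is the localization of A_f at an idempotent. Then there is a surjection A → C' (C' = A/K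
for an ideal K) such that A_f → (C × C')_f is an isomorphism for every f ∈ I. -/
theorem result (A : Type u) [CommRing A]
    (I : Ideal A) (hI : I.FG) (C : Type u) [CommRing C] [Algebra A C]
    (h : ∀ f ∈ I, ∃ e : Localization.Away f, IsIdempotentElem e ∧
      IsLocalization.Away e (Localization (Algebra.algebraMapSubmonoid C (Submonoid.powers f)))) :
    ∃ K : Ideal A, ∀ f ∈ I, Function.Bijective
      (algebraMap (Localization.Away f)
        (Localization (Algebra.algebraMapSubmonoid (C × (A ⧸ K)) (Submonoid.powers f)))) := by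
  classical
  choose ε j m₁ hε0 hε1 hεs using fun f : I => Groth.S9303aux.data (h f.1 f.2)
  obtain ⟨G, hG⟩ := hI
  have hGI : ∀ g : G, g.1 ∈ I := fun g => hG ▸ Submodule.subset_span g.2
  let K : Ideal A :=
    { carrier := {a | ∀ g : G, ∃ m : ℕ, g.1 ^ m * (a * ε ⟨g.1, hGI g⟩) = 0}
      zero_mem' := fun g => ⟨0, by simp⟩
      add_mem' := fun {a b} ha hb g => by
        obtain ⟨m, hm⟩ := ha g
        obtain ⟨n, hn⟩ := hb g
        exact ⟨m + n, by rw [pow_add]; linear_combination (g.1 ^ n) * hm + (g.1 ^ m) * hn⟩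
      smul_mem' := fun c a ha g => by
        obtain ⟨m, hm⟩ := ha g
        exact ⟨m, by rw [smul_eq_mul]; linear_combination c * hm⟩ }
  refine ⟨K, fun f hf => ?_⟩
  let F : I := ⟨f, hf⟩
  have C1 : ∀ a ∈ K, ∃ m : ℕ, f ^ m * (a * ε F) = 0 := fun a ha => by
    let J : Ideal A := (⊥ : Ideal A).colon {a * (f ^ m₁ F * ε F)}
    have hJ : I ≤ J.radical := by
      rw [← hG, Ideal.span_le]
      intro g hg
      obtain ⟨m, hm⟩ := ha ⟨g, hg⟩
      obtain ⟨i, hi⟩ := hε1 ⟨g, hGI ⟨g, hg⟩⟩ _ (hε0 F)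
      refine ⟨m + i + j ⟨g, hGI ⟨g, hg⟩⟩, ?_⟩
      rw [Submodule.mem_colon_singleton, Submodule.mem_bot, smul_eq_mul, pow_add, pow_add]
      linear_combination (g ^ i * (f ^ m₁ F * ε F)) * hm - (g ^ m * a) * hi
    obtain ⟨N, hN⟩ := hJ hf
    rw [Submodule.mem_colon_singleton, Submodule.mem_bot, smul_eq_mul] at hN
    exact ⟨N + m₁ F, by rw [pow_add]; linear_combination hN⟩
  have C2 : ∃ M : ℕ, f ^ M * (f ^ j F - ε F) ∈ K := by
    choose M hM using fun g : G => hε1 F _ (hε0 ⟨g.1, hGI g⟩)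
    refine ⟨Finset.univ.sup M, fun g => ⟨m₁ ⟨g.1, hGI g⟩, ?_⟩⟩
    obtain ⟨d, hd⟩ := Nat.le.dest (Finset.le_sup (f := M) (Finset.mem_univ g))
    rw [← hd, pow_add]
    linear_combination (-(f ^ d)) * hM g
  refine Groth.S9303aux.bijective_of f (C × (A ⧸ K)) (fun a ha => ?_) (fun p => ?_)
  · rw [Prod.algebraMap_apply, Prod.mk_eq_zero] at ha
    obtain ⟨h1, h2⟩ := ha
    obtain ⟨i, hi⟩ := hε1 F a h1
    obtain ⟨k, hk⟩ := C1 a (Ideal.Quotient.eq_zero_iff_mem.1 h2)
    exact ⟨i + k + j F, by rw [pow_add, pow_add]; linear_combination (f ^ i) * hk - (f ^ k) * hi⟩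
  · obtain ⟨c, x⟩ := p
    obtain ⟨a, rfl⟩ := Ideal.Quotient.mk_surjective x
    obtain ⟨M, hM⟩ := C2
    obtain ⟨c₀, m, hc₀⟩ := hεs F c
    let i := m₁ F + M
    refine ⟨c₀ * (f ^ j F - ε F) * f ^ i + f ^ (m + i) * a * ε F, i + j F + m, ?_⟩
    have e0 := hε0 F
    simp only [map_mul, map_pow] at e0 hc₀
    refine Prod.ext ?_ ?_
    · show algebraMap A C (f ^ _) * c = algebraMap A C _
      simp only [map_mul, map_add, map_sub, map_pow, pow_add, i]
      linear_combination (algebraMap A C f ^ m₁ F * algebraMap A C f ^ M * algebraMap A C f ^ j F) * hc₀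
        + (algebraMap A C c₀ * algebraMap A C f ^ M
          - algebraMap A C f ^ m * algebraMap A C f ^ M * algebraMap A C a) * e0
    · simp only [Prod.snd_mul, Prod.algebraMap_apply]
      show Ideal.Quotient.mk K _ * Ideal.Quotient.mk K a = Ideal.Quotient.mk K _
      rw [← map_mul, Ideal.Quotient.eq]
      convert K.mul_mem_left (f ^ m₁ F * (f ^ m * a - c₀)) hM using 1
      simp only [pow_add, i]
      ring

end Groth.Agent.S9303
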