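import Groth.Statements.S9307
import Groth.Agent.L05.TameRoot.BaseChange
-- import your own Groth.Agent.* helpers here

set_option autoImplicit false
universe u
open EtRam

namespace Groth.Agent.S9307

open TensorProduct in
/-- Let A → B be an injective local homomorphism of discrete valuation rings with fraction fields K ⊆ L,
and let K' be a finite separable extension of K that is tamely ramified relative to A. Then every
field F onto which K' ⊗_K L surjects is, as an extension of L, tamely ramified relative to B. (The
published statement also records that K' ⊗_K L is a finite product of fields, whose factors are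
these F; this row does not state that part.) -/
theorem result (A B K L K' : Type u) [CommRing A] [IsDomain A]
    [IsDiscreteValuationRing A] [CommRing B] [IsDomain B] [IsDiscreteValuationRing B] [Algebra A B]
    [IsLocalHom (algebraMap A B)] (hinj : Function.Injective (algebraMap A B))
    [Field K] [Field L] [Field K'] [Algebra A K] [IsFractionRing A K] [Algebra B L] [IsFractionRing B L]
    [Algebra K L] [Algebra A L] [IsScalarTower A K L] [IsScalarTower A B L]
    [Algebra K K'] [FiniteDimensional K K'] [Algebra.IsSeparable K K']
    (h : EtRam.IsTamelyRamified A ((algebraMap K K').comp (algebraMap A K)))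
    (F : Type u) [Field F] [Algebra (K' ⊗[K] L) F] (hF : Function.Surjective (algebraMap (K' ⊗[K] L) F)) :
    EtRam.IsTamelyRamified B ((algebraMap (K' ⊗[K] L) F).comp
      ((Algebra.TensorProduct.includeRight : L →ₐ[K] K' ⊗[K] L).toRingHom.comp (algebraMap B L))) := by
  letI : Algebra K' F :=
    ((algebraMap (K' ⊗[K] L) F).comp Algebra.TensorProduct.includeLeftRingHom).toAlgebra
  letI : Algebra L F := ((algebraMap (K' ⊗[K] L) F).comp
    (Algebra.TensorProduct.includeRight : L →ₐ[K] K' ⊗[K] L).toRingHom).toAlgebra
  letI : Algebra K F := ((algebraMap K' F).comp (algebraMap K K')).toAlgebra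
  haveI : IsScalarTower K K' F := IsScalarTower.of_algebraMap_eq fun _ => rfl
  haveI : IsScalarTower K L F := IsScalarTower.of_algebraMap_eq fun k => by
    show algebraMap (K' ⊗[K] L) F _ = algebraMap (K' ⊗[K] L) F _
    congr 1
    show algebraMap K K' k ⊗ₜ[K] (1 : L) = (1 : K') ⊗ₜ[K] algebraMap K L k
    rw [Algebra.algebraMap_eq_smul_one, Algebra.algebraMap_eq_smul_one, TensorProduct.smul_tmul]
  have hgen : Algebra.adjoin L (Set.range (algebraMap K' F)) = ⊤ := by
    refine eq_top_iff.mpr fun x hx => ?_
    clear hx
    obtain ⟨t, rfl⟩ := hF x
    induction t using TensorProduct.induction_on with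
    | zero => rw [map_zero]; exact zero_mem _
    | add a b ha hb => rw [map_add]; exact add_mem ha hb
    | tmul z l =>
      rw [← mul_one z, ← one_mul l, ← Algebra.TensorProduct.tmul_mul_tmul, map_mul]
      exact mul_mem (Algebra.subset_adjoin ⟨z, rfl⟩)
        ((Algebra.adjoin L (Set.range (algebraMap K' F))).algebraMap_mem l)
  exact Groth.L05.TameRoot.tame_compositum (A := A) (B := B) (K := K) (L := L) (K' := K') h F hgen

end Groth.Agent.S9307
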