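import Groth.Statements.S9308
import Mathlib.LinearAlgebra.TensorProduct.DirectLimit
import Groth.Agent.L06.RegularColim
import Groth.Agent.L06.GeomHom
import Groth.Agent.L03.GeomRegular
import Mathlib.RingTheory.Smooth.Flat

set_option autoImplicit false
universe u
open CAlg

set_option maxSynthPendingDepth 3
namespace Groth.Agent.S9308
open TensorProduct

theorem tensor_colim (R : Type u) [CommRing R] {ι : Type u} [Preorder ι] [IsDirectedOrder ι] [Nonempty ι]
    (G : ι → Type u) [∀ i, CommRing (G i)] [∀ i, Algebra R (G i)]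
    (f : ∀ i j : ι, i ≤ j → (G i →ₐ[R] G j)) [DirectedSystem G (fun i j h => f i j h)]
    (A : Type u) [CommRing A] [Algebra R A] (g : ∀ i, G i →ₐ[R] A)
    (hg : ∀ i j (h : i ≤ j), (g j).comp (f i j h) = g i)
    (hsurj : ∀ a : A, ∃ i, ∃ x : G i, g i x = a)
    (hker : ∀ i (x : G i), g i x = 0 → ∃ j, ∃ h : i ≤ j, f i j h x = 0)
    (M : Type u) [AddCommGroup M] [Module R M] :
    (∀ a : M ⊗[R] A, ∃ i z, (g i).toLinearMap.lTensor M z = a) ∧
      ∀ i (z : M ⊗[R] G i), (g i).toLinearMap.lTensor M z = 0 →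
        ∃ j, ∃ h : i ≤ j, (f i j h).toLinearMap.lTensor M z = 0 := by
  classical
  have hgf : ∀ i j (h : i ≤ j) (x : G i), g j (f i j h x) = g i x := fun i j h x => DFunLike.congr_fun (hg i j h) x
  have hff : ∀ i j k (hij : i ≤ j) (hjk : j ≤ k) (x : G i), f j k hjk (f i j hij x) = f i k (hij.trans hjk) x :=
    fun i j k hij hjk x => DirectedSystem.map_map' (fun i j h => f i j h) hij hjk x
  let fl : ∀ i j, i ≤ j → G i →ₗ[R] G j := fun i j h => (f i j h).toLinearMap
  haveI : DirectedSystem G (fun i j h => fl i j h) :=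
    ⟨fun i x => DirectedSystem.map_self (f := fun i j h => f i j h) x, fun k j i hij hjk x => hff i j k hij hjk x⟩
  let fM : ∀ i j, i ≤ j → M ⊗[R] G i →ₗ[R] M ⊗[R] G j := fun i j h => (fl i j h).lTensor M
  haveI : DirectedSystem (fun i => M ⊗[R] G i) (fun i j h => fM i j h) :=
    ⟨fun i x => by
      induction x using TensorProduct.induction_on with
      | zero => simp
      | tmul a b =>
        show a ⊗ₜ[R] f i i _ b = a ⊗ₜ[R] b
        rw [DirectedSystem.map_self (f := fun i j h => f i j h)]
      | add a b ha hb => simp only [map_add, ha, hb],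
     fun k j i hij hjk x => by
      induction x using TensorProduct.induction_on with
      | zero => simp
      | tmul a b =>
        show a ⊗ₜ[R] f _ _ hjk (f _ _ hij b) = a ⊗ₜ[R] f _ _ (hij.trans hjk) b
        rw [hff]
      | add a b ha hb => simp only [map_add, ha, hb]⟩
  let L := Module.DirectLimit G fl
  let e0 : L →ₗ[R] A := Module.DirectLimit.lift R ι G fl (fun i => (g i).toLinearMap) fun i j h x => hgf i j h x
  have hl : ∀ i x, e0 (Module.DirectLimit.of R ι G fl i x) = g i x := fun i x => Module.DirectLimit.lift_of _ _ x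
  have he0 : Function.Bijective e0 := by
    refine ⟨(injective_iff_map_eq_zero _).2 fun x hx => ?_, fun a => ?_⟩
    · obtain ⟨i, x, rfl⟩ := Module.DirectLimit.exists_of x
      rw [hl] at hx
      obtain ⟨j, h, hj⟩ := hker i x hx
      rw [← Module.DirectLimit.of_f (hij := h), show fl i j h x = 0 from hj, map_zero]
    · obtain ⟨i, x, rfl⟩ := hsurj a
      exact ⟨Module.DirectLimit.of R ι G fl i x, hl i x⟩
  let e := LinearEquiv.ofBijective e0 he0
  have hcomm : ∀ i (z : M ⊗[R] G i), (g i).toLinearMap.lTensor M z =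
      e.toLinearMap.lTensor M ((Module.DirectLimit.of R ι G fl i).lTensor M z) := by
    intro i z
    induction z using TensorProduct.induction_on with
    | zero => simp
    | tmul a b =>
      show a ⊗ₜ[R] g i b = a ⊗ₜ[R] e0 (Module.DirectLimit.of R ι G fl i b)
      rw [hl]
    | add a b ha hb => simp only [map_add, ha, hb]
  have hR : ∀ i (z : M ⊗[R] G i), TensorProduct.directLimitRight fl M ((Module.DirectLimit.of R ι G fl i).lTensor M z) =
      Module.DirectLimit.of R ι (fun i => M ⊗[R] G i) fM i z := by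
    intro i z
    induction z using TensorProduct.induction_on with
    | zero => simp
    | tmul a b => exact TensorProduct.directLimitRight_tmul_of fl M a b
    | add a b ha hb => simp only [map_add, ha, hb]
  refine ⟨fun a => ?_, fun i z hz => ?_⟩
  · induction a using TensorProduct.induction_on with
    | zero => exact ⟨Classical.arbitrary ι, 0, map_zero _⟩
    | tmul b a => obtain ⟨i, x, rfl⟩ := hsurj a; exact ⟨i, b ⊗ₜ x, rfl⟩
    | add a b ha hb =>
      obtain ⟨i, x, rfl⟩ := ha; obtain ⟨j, y, rfl⟩ := hb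
      obtain ⟨k, hik, hjk⟩ := exists_ge_ge i j
      refine ⟨k, (f i k hik).toLinearMap.lTensor M x + (f j k hjk).toLinearMap.lTensor M y, ?_⟩
      rw [map_add, ← LinearMap.lTensor_comp_apply, ← LinearMap.lTensor_comp_apply, ← AlgHom.comp_toLinearMap,
        ← AlgHom.comp_toLinearMap, hg, hg]
  · have hinj : Function.Injective (e.toLinearMap.lTensor M) := (LinearEquiv.lTensor M e).injective
    rw [hcomm, ← map_zero (e.toLinearMap.lTensor M)] at hz
    have h0 := congrArg (TensorProduct.directLimitRight fl M) (hinj hz)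
    rw [hR, map_zero] at h0
    exact Module.DirectLimit.of.zero_exact (f := fM) h0

theorem flat_colim (R : Type u) [CommRing R] {ι : Type u} [Preorder ι] [IsDirectedOrder ι] [Nonempty ι]
    (G : ι → Type u) [∀ i, CommRing (G i)] [∀ i, Algebra R (G i)] [∀ i, Module.Flat R (G i)]
    (f : ∀ i j : ι, i ≤ j → (G i →ₐ[R] G j)) [DirectedSystem G (fun i j h => f i j h)]
    (A : Type u) [CommRing A] [Algebra R A] (g : ∀ i, G i →ₐ[R] A)
    (hg : ∀ i j (h : i ≤ j), (g j).comp (f i j h) = g i)
    (hsurj : ∀ a : A, ∃ i, ∃ x : G i, g i x = a)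
    (hker : ∀ i (x : G i), g i x = 0 → ∃ j, ∃ h : i ≤ j, f i j h x = 0) : Module.Flat R A := by
  rw [Module.Flat.iff_rTensor_injective']
  intro I
  rw [injective_iff_map_eq_zero]
  intro x hx
  obtain ⟨i, z, rfl⟩ := (tensor_colim R G f A g hg hsurj hker I).1 x
  rw [← LinearMap.comp_apply, LinearMap.rTensor_comp_lTensor, ← LinearMap.lTensor_comp_rTensor, LinearMap.comp_apply] at hx
  obtain ⟨j, h, hj⟩ := (tensor_colim R G f A g hg hsurj hker R).2 i _ hx
  rw [← LinearMap.comp_apply, LinearMap.lTensor_comp_rTensor, ← LinearMap.rTensor_comp_lTensor, LinearMap.comp_apply] at hj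
  have h0 := (Module.Flat.iff_rTensor_injective'.mp (inferInstance : Module.Flat R (G j)) I)
    (hj.trans (map_zero _).symm)
  rw [← hg i j h, AlgHom.comp_toLinearMap, LinearMap.lTensor_comp_apply, h0, map_zero]

theorem isRegularRing_tensor (R : Type u) [CommRing R] {ι : Type u} [Preorder ι] [IsDirectedOrder ι] [Nonempty ι]
    (G : ι → Type u) [∀ i, CommRing (G i)] [∀ i, Algebra R (G i)]
    (f : ∀ i j : ι, i ≤ j → (G i →ₐ[R] G j)) [DirectedSystem G (fun i j h => f i j h)]
    (A : Type u) [CommRing A] [Algebra R A] (g : ∀ i, G i →ₐ[R] A)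
    (hg : ∀ i j (h : i ≤ j), (g j).comp (f i j h) = g i)
    (hsurj : ∀ a : A, ∃ i, ∃ x : G i, g i x = a)
    (hker : ∀ i (x : G i), g i x = 0 → ∃ j, ∃ h : i ≤ j, f i j h x = 0)
    (K : Type u) [CommRing K] [Algebra R K] [IsNoetherianRing (K ⊗[R] A)]
    (hreg : ∀ i, IsRegularRing (K ⊗[R] G i)) : IsRegularRing (K ⊗[R] A) := by
  classical
  have hgf : ∀ i j (h : i ≤ j) (x : G i), g j (f i j h x) = g i x := fun i j h x => DFunLike.congr_fun (hg i j h) x
  have hff : ∀ i j k (hij : i ≤ j) (hjk : j ≤ k) (x : G i), f j k hjk (f i j hij x) = f i k (hij.trans hjk) x :=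
    fun i j k hij hjk x => DirectedSystem.map_map' (fun i j h => f i j h) hij hjk x
  let G' : ι → Type u := fun i => K ⊗[R] G i
  let f' : ∀ i j, i ≤ j → G' i →+* G' j := fun i j h => (Algebra.TensorProduct.map (AlgHom.id R K) (f i j h)).toRingHom
  let φ : ∀ i, G' i →+* K ⊗[R] A := fun i => (Algebra.TensorProduct.map (AlgHom.id R K) (g i)).toRingHom
  have hf : ∀ i j k (hij : i ≤ j) (hjk : j ≤ k) (x : G' i), f' j k hjk (f' i j hij x) = f' i k (hij.trans hjk) x := by
    intro i j k hij hjk x
    induction x using TensorProduct.induction_on with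
    | zero => simp
    | tmul a b =>
      show a ⊗ₜ[R] f j k hjk (f i j hij b) = a ⊗ₜ[R] f i k (hij.trans hjk) b
      rw [hff]
    | add a b ha hb => simp only [map_add, ha, hb]
  have hφ : ∀ i j (hij : i ≤ j) (x : G' i), φ j (f' i j hij x) = φ i x := by
    intro i j hij x
    induction x using TensorProduct.induction_on with
    | zero => simp
    | tmul a b =>
      show a ⊗ₜ[R] g j (f i j hij b) = a ⊗ₜ[R] g i b
      rw [hgf]
    | add a b ha hb => simp only [map_add, ha, hb]
  have hT := tensor_colim R G f A g hg hsurj hker K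
  have hlin : ∀ i j (h : i ≤ j) (z : G' i), f' i j h z = (f i j h).toLinearMap.lTensor K z := fun i j h z => rfl
  have hs : ∀ a, ∃ i x, φ i x = a := hT.1
  have hk0 : ∀ i (z : G' i), φ i z = 0 → ∃ j, ∃ h : i ≤ j, f' i j h z = 0 := hT.2
  refine (isRegularRing_iff (R := K ⊗[R] A)).mpr fun p hp => ?_
  let P : ∀ i, Ideal (G' i) := fun i => p.comap (φ i)
  have hP : ∀ i j (hij : i ≤ j), P i = (P j).comap (f' i j hij) := fun i j hij => by
    ext x; simp only [P, Ideal.mem_comap, hφ]
  let H : ι → Type u := fun i => Localization.AtPrime (P i)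
  let fH : ∀ i j, i ≤ j → H i →+* H j := fun i j hij => Localization.localRingHom (P i) (P j) (f' i j hij) (hP i j hij)
  let ψ : ∀ i, H i →+* Localization.AtPrime p := fun i => Localization.localRingHom (P i) p (φ i) rfl
  haveI := hreg
  refine Groth.L06.RegularColim.isRegularLocalRing _ ι H fH ?_ (fun i => inferInstance) (Localization.AtPrime p) ψ
    (fun i => inferInstance) ?_ ?_ ?_ rfl
  · intro i j k hij hjk
    refine fun x => DFunLike.congr_fun (?_ : (fH j k hjk).comp (fH i j hij) = fH i k (hij.trans hjk)) x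
    refine (Localization.localRingHom_comp _ _ _ _ (hP i j hij) _ (hP j k hjk)).symm.trans ?_
    exact Localization.localRingHom_unique _ _ _ _ fun x => by
      simp only [RingHom.comp_apply, Localization.localRingHom_to_map, fH]; rw [hf]
  · intro i j hij
    refine fun x => DFunLike.congr_fun (?_ : (ψ j).comp (fH i j hij) = ψ i) x
    refine (Localization.localRingHom_comp _ _ _ _ (hP i j hij) _ rfl).symm.trans ?_
    exact Localization.localRingHom_unique _ _ _ _ fun x => by
      simp only [RingHom.comp_apply, Localization.localRingHom_to_map, fH, ψ]; rw [hφ]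
  · intro a
    obtain ⟨a, ⟨s, hs'⟩, rfl⟩ := IsLocalization.exists_mk'_eq p.primeCompl a
    obtain ⟨i, a, rfl⟩ := hs a
    obtain ⟨j, s, rfl⟩ := hs s
    obtain ⟨k, hik, hjk⟩ := exists_ge_ge i j
    have hk : f' j k hjk s ∈ (P k).primeCompl := by
      intro hmem
      apply hs'
      show φ j s ∈ p
      rw [← hφ j k hjk s]
      exact hmem
    refine ⟨k, IsLocalization.mk' (H k) (f' i k hik a) (⟨_, hk⟩ : (P k).primeCompl), ?_⟩
    simp only [ψ, H, Localization.localRingHom_mk']
    exact IsLocalization.mk'_eq_of_eq (by simp [hφ i k hik a, hφ j k hjk s])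
  · intro i z hz
    obtain ⟨a, s, rfl⟩ := IsLocalization.exists_mk'_eq (P i).primeCompl z
    simp only [ψ, H, Localization.localRingHom_mk', IsLocalization.mk'_eq_zero_iff] at hz
    obtain ⟨⟨t, ht⟩, hta⟩ := hz
    obtain ⟨j, t, rfl⟩ := hs t
    obtain ⟨k, hik, hjk⟩ := exists_ge_ge i j
    have h0 : φ k (f' j k hjk t * f' i k hik a) = 0 := by rw [map_mul, hφ, hφ]; exact hta
    obtain ⟨l, hkl, hl⟩ := hk0 k _ h0
    refine ⟨l, hik.trans hkl, ?_⟩
    simp only [fH, H, Localization.localRingHom_mk', IsLocalization.mk'_eq_zero_iff]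
    refine ⟨⟨f' j l (hjk.trans hkl) t, fun hmem => ht ?_⟩, ?_⟩
    · show φ j t ∈ p
      rw [← hφ j l (hjk.trans hkl) t]
      exact hmem
    · rw [map_mul, hf, hf] at hl
      exact hl

end Groth.Agent.S9308

open TensorProduct

namespace Groth.Agent.S9308

/-- Let R be a ring and (A_i, φ_ii') a directed system of smooth R-algebras with colimit Λ (the index
type is taken in the universe of the rings). Suppose that for every prime p of R the ring Λ ⊗_R κ(p)
is Noetherian. Then R → Λ is a regular ring map. -/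
theorem result (R : Type u) [CommRing R] {ι : Type u} [Preorder ι]
    [IsDirectedOrder ι] [Nonempty ι] (G : ι → Type u) [∀ i, CommRing (G i)] [∀ i, Algebra R (G i)]
    (f : ∀ i j : ι, i ≤ j → (G i →ₐ[R] G j)) [DirectedSystem G (fun i j h => f i j h)]
    (hs : ∀ i, Algebra.Smooth R (G i))
    (hN : ∀ (p : Ideal R) [p.IsPrime], IsNoetherianRing (p.Fiber (DirectLimit G f))) :
    CAlg.IsRegularHom R (DirectLimit G f) := by
  let g : ∀ i, G i →ₐ[R] DirectLimit G f := fun i =>
    { toFun := fun x => ⟦⟨i, x⟩⟧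
      map_one' := (DirectLimit.one_def (f := f) i).symm
      map_mul' := fun x y => (DirectLimit.mul_def (f := f) i x y).symm
      map_zero' := (DirectLimit.zero_def (f := f) i).symm
      map_add' := fun x y => (DirectLimit.add_def (f := f) i x y).symm
      commutes' := fun r => (DirectLimit.algebraMap_def (f := f) i r).symm }
  have hgf : ∀ i j (h : i ≤ j) (x : G i), g j (f i j h x) = g i x := fun i j h x => (DirectLimit.eq_of_le (f := f) ⟨i, x⟩ j h).symm
  have hg : ∀ i j (h : i ≤ j), (g j).comp (f i j h) = g i := fun i j h => AlgHom.ext (hgf i j h)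
  have hsurj : ∀ a : DirectLimit G f, ∃ i, ∃ x : G i, g i x = a := fun a => by
    obtain ⟨i, x, rfl⟩ := DirectLimit.exists_eq_mk f a
    exact ⟨i, x, rfl⟩
  have hker : ∀ i (x : G i), g i x = 0 → ∃ j, ∃ h : i ≤ j, f i j h x = 0 := fun i x hx => by
    rw [← map_zero (g i)] at hx
    obtain ⟨k, h1, h2, hk⟩ := Quotient.exact hx
    exact ⟨k, h1, hk.trans (map_zero _)⟩
  refine ⟨?_, fun p hp => ⟨hN p, ?_⟩⟩
  · haveI : ∀ i, Module.Flat R (G i) := fun i => haveI := hs i; inferInstance
    exact Groth.Agent.S9308.flat_colim R G f (DirectLimit G f) g hg hsurj hker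
  intro K _ _ hK
  haveI := hK
  letI : Algebra R K := ((algebraMap p.ResidueField K).comp (algebraMap R p.ResidueField)).toAlgebra
  haveI : IsScalarTower R p.ResidueField K := IsScalarTower.of_algebraMap_eq' rfl
  haveI := hN p
  haveI hn := Groth.L06.GeomFG.isNoetherianRing_tensor p.ResidueField K (p.Fiber (DirectLimit G f))
  let e : K ⊗[p.ResidueField] p.Fiber (DirectLimit G f) ≃+* K ⊗[R] DirectLimit G f :=
    (Algebra.TensorProduct.cancelBaseChange R p.ResidueField p.ResidueField K (DirectLimit G f)).toRingEquiv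
  haveI := isNoetherianRing_of_ringEquiv _ e
  have hreg : ∀ i, IsRegularRing (K ⊗[R] G i) := fun i => by
    haveI := hs i
    exact Groth.L03.GeomRegular.isRegularRing_of_smooth K (K ⊗[R] G i)
  haveI := Groth.Agent.S9308.isRegularRing_tensor R G f (DirectLimit G f) g hg hsurj hker K hreg
  exact Groth.L06.PropLoc.loc_reg_iff.mp (Groth.L06.PropLoc.loc_of_ringEquiv Groth.L06.PropLoc.good_reg e.symm
    (Groth.L06.PropLoc.loc_reg_iff.mpr inferInstance))

end Groth.Agent.S9308
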