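import Groth.Statements.S9310
import Groth.Agent.L06.CTensPS
import Mathlib.RingTheory.AdicCompletion.Completeness
import Mathlib.RingTheory.MvPowerSeries.Substitution
import Mathlib.RingTheory.AdicCompletion.Functoriality
-- import your own Groth.Agent.* helpers here

set_option autoImplicit false
universe u
open CAlg

namespace Groth.Agent.S9310

/-- Let K be a field, A = K[[x_1, ..., x_n]], and y_1, ..., y_n ∈ A a regular system of parameters (n
elements generating the maximal ideal). Then the substitution map K[[y_1, ..., y_n]] → A is an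
isomorphism: f ↦ f(y_1, ..., y_n) is a bijection of K[[x_1, ..., x_n]] onto itself. -/
theorem result (K : Type u) [Field K] (n : ℕ)
    (y : Fin n → MvPowerSeries (Fin n) K)
    (hy : Ideal.span (Set.range y) = IsLocalRing.maximalIdeal (MvPowerSeries (Fin n) K)) :
    Function.Bijective (MvPowerSeries.subst y : MvPowerSeries (Fin n) K → MvPowerSeries (Fin n) K) := by
  classical
  let A := MvPowerSeries (Fin n) K
  have hm : IsLocalRing.maximalIdeal A = Ideal.span (Set.range MvPowerSeries.X) := by
    ext f
    rw [← Set.image_univ, ← Finset.coe_univ, Groth.L06.CTens.mem_span_X_iff,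
      IsLocalRing.mem_maximalIdeal, mem_nonunits_iff, MvPowerSeries.isUnit_iff_constantCoeff,
      isUnit_iff_ne_zero, not_not]
    constructor
    · intro h d hd
      have : d = 0 := Finsupp.ext fun i => hd i (Finset.mem_univ i)
      rw [this, MvPowerSeries.coeff_zero_eq_constantCoeff]; exact h
    · intro h
      rw [← MvPowerSeries.coeff_zero_eq_constantCoeff]; exact h 0 (fun i _ => rfl)
  have hys : MvPowerSeries.HasSubst y := MvPowerSeries.hasSubst_of_constantCoeff_zero fun s => by
    have : y s ∈ IsLocalRing.maximalIdeal A := hy ▸ Ideal.subset_span ⟨s, rfl⟩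
    rwa [IsLocalRing.mem_maximalIdeal, mem_nonunits_iff, MvPowerSeries.isUnit_iff_constantCoeff,
      isUnit_iff_ne_zero, not_not] at this
  let φ : A →ₐ[K] A := MvPowerSeries.substAlgHom hys
  have hφ : (φ : A → A) = MvPowerSeries.subst y := MvPowerSeries.coe_substAlgHom hys
  have hmap : (IsLocalRing.maximalIdeal A).map φ.toRingHom = IsLocalRing.maximalIdeal A := by
    conv_lhs => rw [hm]
    rw [Ideal.map_span, ← Set.range_comp, ← hy]
    refine congr_arg (fun g => Ideal.span (Set.range g)) (funext fun s => ?_)
    show φ (MvPowerSeries.X s) = y s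
    rw [hφ, MvPowerSeries.subst_X hys]
  haveI : IsAdicComplete (IsLocalRing.maximalIdeal A) A := by
    rw [hm]; infer_instance
  haveI : IsHausdorff ((IsLocalRing.maximalIdeal A).map φ.toRingHom) A := by
    rw [hmap]; infer_instance
  have hsurj : Function.Surjective φ.toRingHom := by
    refine surjective_of_mk_map_comp_surjective φ.toRingHom (I := IsLocalRing.maximalIdeal A) fun z => ?_
    obtain ⟨f, rfl⟩ := Ideal.Quotient.mk_surjective z
    refine ⟨algebraMap K A (MvPowerSeries.constantCoeff f), ?_⟩
    show Ideal.Quotient.mk _ (φ (algebraMap K A _)) = _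
    rw [AlgHom.commutes, Ideal.Quotient.eq, hmap, IsLocalRing.mem_maximalIdeal, mem_nonunits_iff,
      MvPowerSeries.isUnit_iff_constantCoeff, isUnit_iff_ne_zero, not_not, map_sub]
    rw [MvPowerSeries.algebraMap_apply, MvPowerSeries.constantCoeff_C]
    simp
  haveI : IsNoetherianRing A := Groth.L06.CTens.isNoetherianRing_ps K
  rw [← hφ]
  refine ⟨?_, hsurj⟩
  -- a surjective endomorphism of a Noetherian ring is injective
  let F : ℕ →o Submodule A A :=
    { toFun := fun k => RingHom.ker ((φ.toRingHom : A →+* A) ^ k)
      monotone' := monotone_nat_of_le_succ fun k x hx => by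
        rw [RingHom.mem_ker] at hx ⊢
        rw [pow_succ', RingHom.mul_def, RingHom.comp_apply, hx, map_zero] }
  obtain ⟨N, hN⟩ := monotone_stabilizes_iff_noetherian.2 (inferInstance : IsNoetherian A A) F
  have hsN : Function.Surjective ((φ.toRingHom : A →+* A) ^ N) := by
    rw [RingHom.coe_pow]
    exact hsurj.iterate N
  refine (injective_iff_map_eq_zero φ.toRingHom).2 fun a ha => ?_
  obtain ⟨b, rfl⟩ := hsN a
  have hb : b ∈ F (N + 1) := by
    show b ∈ RingHom.ker _
    rw [RingHom.mem_ker, pow_succ', RingHom.mul_def, RingHom.comp_apply, ha]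
  rw [← hN (N + 1) N.le_succ] at hb
  exact hb

end Groth.Agent.S9310
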