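import Groth.Statements.S9311
import Groth.Agent.L06.CTensPS
import Mathlib.RingTheory.MvPowerSeries.Substitution
import Mathlib.RingTheory.AdicCompletion.Functoriality
import Mathlib.Tactic.Ring
-- import your own Groth.Agent.* helpers here

set_option autoImplicit false
universe u
open CAlg

namespace Groth.Agent.S9311

/-- Let Λ be a Cohen ring (a complete discrete valuation ring whose maximal ideal is generated by a
prime number p), B = Λ[[x_1, ..., x_n]], and y_1, ..., y_n ∈ B with zero constant terms such that p,
y_1, ..., y_n is a regular system of parameters of B (these n + 1 elements generate the maximal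
ideal). Then the substitution map Λ[[y_1, ..., y_n]] → B is an isomorphism: f ↦ f(y_1, ..., y_n) is
a bijection of Λ[[x_1, ..., x_n]] onto itself. (The published statement allows the y_i to have
constant terms in pΛ, the substitution being defined through the (p, x)-adic topology of B; this row
asks the constant terms to vanish, the case in which substitution is defined coefficientwise with no
topology on Λ.) -/
theorem result (Λ : Type u) [CommRing Λ] [IsDomain Λ]
    [IsDiscreteValuationRing Λ] [IsAdicComplete (IsLocalRing.maximalIdeal Λ) Λ] (p : ℕ) (hp : p.Prime)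
    (hm : IsLocalRing.maximalIdeal Λ = Ideal.span {(p : Λ)}) (n : ℕ)
    (y : Fin n → MvPowerSeries (Fin n) Λ) (hy0 : ∀ i, MvPowerSeries.constantCoeff (y i) = 0)
    (hy : Ideal.span (insert (p : MvPowerSeries (Fin n) Λ) (Set.range y)) =
      IsLocalRing.maximalIdeal (MvPowerSeries (Fin n) Λ)) :
    Function.Bijective (MvPowerSeries.subst y : MvPowerSeries (Fin n) Λ → MvPowerSeries (Fin n) Λ) := by
  classical
  let A := MvPowerSeries (Fin n) Λ
  have hm' : IsLocalRing.maximalIdeal A = Ideal.span (insert (p : A) (Set.range MvPowerSeries.X)) := by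
    refine le_antisymm (fun f hf => ?_) ?_
    · rw [IsLocalRing.mem_maximalIdeal, mem_nonunits_iff, MvPowerSeries.isUnit_iff_constantCoeff,
        ← mem_nonunits_iff, ← IsLocalRing.mem_maximalIdeal, hm, Ideal.mem_span_singleton] at hf
      obtain ⟨c, hc⟩ := hf
      have h1 : f - MvPowerSeries.C (MvPowerSeries.constantCoeff f) ∈
          Ideal.span (Set.range (MvPowerSeries.X : Fin n → A)) := by
        rw [← Set.image_univ, ← Finset.coe_univ, Groth.L06.CTens.mem_span_X_iff]
        intro d hd
        have : d = 0 := Finsupp.ext fun i => hd i (Finset.mem_univ i)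
        rw [this, map_sub, MvPowerSeries.coeff_zero_eq_constantCoeff_apply,
          MvPowerSeries.coeff_zero_eq_constantCoeff_apply, MvPowerSeries.constantCoeff_C, sub_self]
      rw [Ideal.mem_span_insert]
      refine ⟨MvPowerSeries.C c, _, h1, ?_⟩
      rw [hc, map_mul, map_natCast]; ring
    · rw [Ideal.span_le, Set.insert_subset_iff]
      refine ⟨hy ▸ Ideal.subset_span (Set.mem_insert _ _), ?_⟩
      rintro _ ⟨i, rfl⟩
      rw [SetLike.mem_coe, IsLocalRing.mem_maximalIdeal, mem_nonunits_iff,
        MvPowerSeries.isUnit_iff_constantCoeff]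
      simp
  have hys : MvPowerSeries.HasSubst y := MvPowerSeries.hasSubst_of_constantCoeff_zero hy0
  let φ : A →ₐ[Λ] A := MvPowerSeries.substAlgHom hys
  have hφ : (φ : A → A) = MvPowerSeries.subst y := MvPowerSeries.coe_substAlgHom hys
  have hmap : (IsLocalRing.maximalIdeal A).map φ.toRingHom = IsLocalRing.maximalIdeal A := by
    conv_lhs => rw [hm']
    rw [Ideal.map_span, Set.image_insert_eq, ← Set.range_comp, ← hy, map_natCast]
    refine congr_arg (fun g => Ideal.span (insert _ (Set.range g))) (funext fun s => ?_)
    show φ (MvPowerSeries.X s) = y s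
    rw [hφ, MvPowerSeries.subst_X hys]
  haveI : IsAdicComplete (IsLocalRing.maximalIdeal A) A := Groth.L12.isAdicComplete_mvPowerSeries
  haveI : IsHausdorff ((IsLocalRing.maximalIdeal A).map φ.toRingHom) A := by
    rw [hmap]; infer_instance
  have hsurj : Function.Surjective φ.toRingHom := by
    refine surjective_of_mk_map_comp_surjective φ.toRingHom (I := IsLocalRing.maximalIdeal A) fun z => ?_
    obtain ⟨f, rfl⟩ := Ideal.Quotient.mk_surjective z
    refine ⟨algebraMap Λ A (MvPowerSeries.constantCoeff f), ?_⟩
    show Ideal.Quotient.mk _ (φ (algebraMap Λ A _)) = _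
    rw [AlgHom.commutes, Ideal.Quotient.eq, hmap, IsLocalRing.mem_maximalIdeal, mem_nonunits_iff,
      MvPowerSeries.isUnit_iff_constantCoeff, map_sub]
    rw [MvPowerSeries.algebraMap_apply, MvPowerSeries.constantCoeff_C]
    simp
  haveI : IsNoetherianRing A := Groth.L06.CTens.isNoetherianRing_ps Λ
  rw [← hφ]
  refine ⟨?_, hsurj⟩
  -- a surjective endomorphism of a Noetherian ring is injective
  let F : ℕ →o Submodule A A :=
    { toFun := fun k => RingHom.ker ((φ.toRingHom : A →+* A) ^ k)
      monotone' := monotone_nat_of_le_succ fun k x hx => by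
        rw [RingHom.mem_ker] at hx ⊢
        rw [pow_succ', RingHom.mul_def, RingHom.comp_apply, hx, map_zero] }
  obtain ⟨N, hN⟩ := monotone_stabilizes_iff_noetherian.2 (inferInstance : IsNoetherian A A) F
  have hsN : Function.Surjective ((φ.toRingHom : A →+* A) ^ N) := by
    rw [RingHom.coe_pow]
    exact hsurj.iterate N
  refine (injective_iff_map_eq_zero φ.toRingHom).2 fun a ha => ?_
  obtain ⟨b, rfl⟩ := hsN a
  have hb : b ∈ F (N + 1) := by
    show b ∈ RingHom.ker _
    rw [RingHom.mem_ker, pow_succ', RingHom.mul_def, RingHom.comp_apply, ha]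
  rw [← hN (N + 1) N.le_succ] at hb
  exact hb

end Groth.Agent.S9311
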