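import Groth.Statements.S9312
import Mathlib.Algebra.Polynomial.Lifts
import Mathlib.Algebra.Ring.Action.Invariant
import Mathlib.LinearAlgebra.TensorProduct.RightExactness
import Mathlib.RingTheory.Flat.Basic
import Mathlib.RingTheory.MvPolynomial.Basic
import Mathlib.RingTheory.TensorProduct.MvPolynomial
-- import your own Groth.Agent.* helpers here

set_option autoImplicit false
universe u
open CAlg

namespace Groth.Agent.S9312

open scoped TensorProduct

theorem key (R G : Type u) [CommRing R] [Group G] [Fintype G] [MulSemiringAction G R]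
    (ι : Type u) (r : ι → R) [Fintype ι] :
    ∃ Q : Polynomial (MvPolynomial ι (FixedPoints.subring R G)), Q.Monic ∧
      Q.map (MvPolynomial.constantCoeff) = Polynomial.X ^ Fintype.card G ∧
      ∀ (A : Type u) [CommRing A] [Algebra (FixedPoints.subring R G) A] (v : ι → A),
        (Q.map (MvPolynomial.aeval v).toRingHom).map
            (algebraMap A (A ⊗[FixedPoints.subring R G] R)) =
          ∏ σ : G, (Polynomial.X - Polynomial.C (∑ i, v i ⊗ₜ[FixedPoints.subring R G] (σ • r i))) := by
  classical
  let S := FixedPoints.subring R G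
  let ℓ : G → MvPolynomial ι R := fun σ => ∑ i, MvPolynomial.X i * MvPolynomial.C (σ • r i)
  let P₀ : Polynomial (MvPolynomial ι R) := ∏ σ : G, (Polynomial.X - Polynomial.C (ℓ σ))
  have hm : P₀.Monic := Polynomial.monic_prod_of_monic _ _ fun σ _ => Polynomial.monic_X_sub_C _
  let act : G → (MvPolynomial ι R →+* MvPolynomial ι R) := fun g =>
    MvPolynomial.map (MulSemiringAction.toRingHom G R g)
  have hact : ∀ g, P₀.map (act g) = P₀ := by
    intro g
    simp only [P₀, Polynomial.map_prod, Polynomial.map_sub, Polynomial.map_X, Polynomial.map_C]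
    refine Fintype.prod_equiv (Equiv.mulLeft g) _ _ fun σ => ?_
    simp only [act, ℓ, map_sum, map_mul, MvPolynomial.map_X, MvPolynomial.map_C, Equiv.coe_mulLeft,
      MulSemiringAction.toRingHom_apply, mul_smul]
  have hc : ∀ k, P₀.coeff k ∈ (MvPolynomial.map S.subtype : MvPolynomial ι S →+* MvPolynomial ι R).range := by
    intro k
    rw [RingHom.mem_range, ← Set.mem_range, MvPolynomial.mem_range_map_iff_coeffs_subset]
    intro c hc
    obtain ⟨d, -, rfl⟩ := MvPolynomial.mem_coeffs_iff.1 hc
    have hf : (P₀.coeff k).coeff d ∈ S := fun g => by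
      conv_rhs => rw [← hact g, Polynomial.coeff_map]
      rw [MvPolynomial.coeff_map, MulSemiringAction.toRingHom_apply]
    exact ⟨⟨_, hf⟩, rfl⟩
  have hl : P₀ ∈ Polynomial.lifts (MvPolynomial.map S.subtype) := by
    rw [Polynomial.lifts_iff_coeff_lifts]; exact hc
  obtain ⟨Q, hQ, -, hQm⟩ := Polynomial.lifts_and_natDegree_eq_and_monic hl hm
  have hinj : Function.Injective S.subtype := Subtype.val_injective
  refine ⟨Q, hQm, ?_, fun A _ _ v => ?_⟩
  · refine Polynomial.map_injective S.subtype hinj ?_
    rw [Polynomial.map_map, show S.subtype.comp MvPolynomial.constantCoeff =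
        MvPolynomial.constantCoeff.comp (MvPolynomial.map S.subtype) from RingHom.ext fun p => by
          simp [MvPolynomial.constantCoeff_map],
      ← Polynomial.map_map, hQ, Polynomial.map_pow, Polynomial.map_X]
    simp only [P₀, Polynomial.map_prod, Polynomial.map_sub, Polynomial.map_X, Polynomial.map_C, ℓ,
      map_sum, map_mul, Polynomial.map_sum, Polynomial.map_mul, MvPolynomial.constantCoeff_X, zero_mul, Finset.sum_const_zero, map_zero, sub_zero]
    rw [Finset.prod_const, Finset.card_univ]
  · let e : MvPolynomial ι R →+* A ⊗[S] R := MvPolynomial.eval₂Hom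
      (Algebra.TensorProduct.includeRight (R := S) (A := A) (B := R)).toRingHom (fun i => v i ⊗ₜ 1)
    rw [Polynomial.map_map, show (algebraMap A (A ⊗[S] R)).comp (MvPolynomial.aeval v).toRingHom =
        e.comp (MvPolynomial.map S.subtype) from MvPolynomial.ringHom_ext (fun s => by
          simp only [RingHom.comp_apply, AlgHom.toRingHom_eq_coe, RingHom.coe_coe, MvPolynomial.aeval_C,
            MvPolynomial.map_C, e, MvPolynomial.eval₂Hom_C, Algebra.TensorProduct.includeRight_apply,
            Algebra.TensorProduct.algebraMap_apply, Algebra.algebraMap_self, RingHom.id_apply]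
          rw [Algebra.algebraMap_eq_smul_one, TensorProduct.smul_tmul]
          congr 1
          exact mul_one _) (fun i => by simp [e]),
      ← Polynomial.map_map, hQ]
    simp only [P₀, Polynomial.map_prod, Polynomial.map_sub, Polynomial.map_X, Polynomial.map_C, ℓ,
      map_sum, map_mul, Polynomial.map_sum, Polynomial.map_mul, Polynomial.map_C, e, MvPolynomial.eval₂Hom_C, MvPolynomial.eval₂Hom_X']
    refine Finset.prod_congr rfl fun σ _ => congr_arg (Polynomial.X - ·) (Finset.sum_congr rfl fun i _ => ?_)
    rw [← Polynomial.C_mul]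
    simp [S]

/-- Let a finite group G with n elements act on a ring R by ring automorphisms, with invariant ring R^G,
and let A be an algebra over R^G; G acts on A ⊗ R through the factor R. (1) For every G-invariant b
∈ A ⊗ R there is a monic polynomial over A whose image in (A ⊗ R)[T] is (T - b)^n. (2) For every a
in the kernel of A → A ⊗ R, all coefficients of (T - a)^n below degree n vanish, that is (T - a)^n =
T^n in A[T]. -/
theorem result (R G A : Type u) [CommRing R] [Group G] [Fintype G]
    [MulSemiringAction G R] [CommRing A] [Algebra (FixedPoints.subring R G) A] :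
    (∀ b : TensorProduct (FixedPoints.subring R G) A R,
      (∀ σ : G, Algebra.TensorProduct.map (AlgHom.id (FixedPoints.subring R G) A)
        (MulSemiringAction.toAlgHom (FixedPoints.subring R G) R σ) b = b) →
      ∃ P : Polynomial A, P.Monic ∧
        Polynomial.map (algebraMap A (TensorProduct (FixedPoints.subring R G) A R)) P =
          (Polynomial.X - Polynomial.C b) ^ Fintype.card G) ∧
    (∀ a : A, algebraMap A (TensorProduct (FixedPoints.subring R G) A R) a = 0 →
      ∀ i : ℕ, i < Fintype.card G → ((Polynomial.X - Polynomial.C a) ^ Fintype.card G).coeff i = 0) := by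
  classical
  let S := FixedPoints.subring R G
  refine ⟨fun b hb => ?_, fun a ha i hi => ?_⟩
  · obtain ⟨W, hW⟩ := TensorProduct.exists_finset (R := S) b
    obtain ⟨Q, hQm, -, hQ⟩ := key R G W (fun i => i.1.2)
    refine ⟨Q.map (MvPolynomial.aeval fun i : W => i.1.1).toRingHom, hQm.map _, ?_⟩
    rw [hQ A]
    rw [← Finset.card_univ, ← Finset.prod_const]
    refine Finset.prod_congr rfl fun σ _ => ?_
    conv_rhs => rw [← hb σ, hW, ← Finset.sum_coe_sort]
    simp only [map_sum, Algebra.TensorProduct.map_tmul]
    rfl
  · -- lift `a` to a polynomial ring over the invariants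
    let π : (MvPolynomial A (FixedPoints.subring R G)) →ₐ[S] A := MvPolynomial.aeval (fun x : A => x)
    have hπ : Function.Surjective π := fun x => ⟨MvPolynomial.X x, MvPolynomial.aeval_X _ _⟩
    let a' : (MvPolynomial A (FixedPoints.subring R G)) := MvPolynomial.X a
    let K := LinearMap.ker π.toLinearMap
    have hex : Function.Exact K.subtype π.toLinearMap := LinearMap.exact_subtype_ker_map π.toLinearMap
    have ha' : π.toLinearMap.rTensor R (a' ⊗ₜ[S] (1 : R)) = 0 := by
      rw [LinearMap.rTensor_tmul, AlgHom.toLinearMap_apply, MvPolynomial.aeval_X]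
      simpa using ha
    obtain ⟨w, hw⟩ := ((rTensor_exact (R := S) (M := K) (N := (MvPolynomial A (FixedPoints.subring R G))) (P := A) R hex hπ) _).1 ha'
    obtain ⟨W, hW⟩ := TensorProduct.exists_finset (R := S) w
    obtain ⟨Q, hQm, hQ0, hQ⟩ := key R G W (fun i => i.1.2)
    have h1 : (Q.map (MvPolynomial.aeval fun i : W => (i.1.1 : (MvPolynomial A (FixedPoints.subring R G)))).toRingHom).map
        (algebraMap (MvPolynomial A (FixedPoints.subring R G)) ((MvPolynomial A (FixedPoints.subring R G)) ⊗[S] R)) = ((Polynomial.X - Polynomial.C a') ^ Fintype.card G).map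
          (algebraMap (MvPolynomial A (FixedPoints.subring R G)) ((MvPolynomial A (FixedPoints.subring R G)) ⊗[S] R)) := by
      have hgen : ∀ {T : Type u} [CommRing T] (f : MvPolynomial A (FixedPoints.subring R G) →+* T),
          ((Polynomial.X - Polynomial.C a') ^ Fintype.card G).map f =
            ∏ _σ : G, (Polynomial.X - Polynomial.C (f a')) := by
        intro T _ f
        rw [Finset.prod_const, Finset.card_univ, Polynomial.map_pow]
        simp
      refine (hQ (MvPolynomial A (FixedPoints.subring R G)) _).trans (Eq.trans ?_ (hgen _).symm)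
      refine Finset.prod_congr rfl fun σ _ => ?_
      refine congr_arg (fun z : (MvPolynomial A (FixedPoints.subring R G)) ⊗[S] R => Polynomial.X - Polynomial.C z) ?_
      have h2 : Algebra.TensorProduct.map (AlgHom.id S (MvPolynomial A (FixedPoints.subring R G))) (MulSemiringAction.toAlgHom S R σ)
          (a' ⊗ₜ[S] (1 : R)) = a' ⊗ₜ 1 := by
        rw [Algebra.TensorProduct.map_tmul, map_one]; rfl
      rw [Algebra.TensorProduct.algebraMap_apply, Algebra.algebraMap_self, RingHom.id_apply]
      conv_rhs => rw [← h2, ← hw, hW, ← Finset.sum_coe_sort]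
      simp only [map_sum, LinearMap.rTensor_tmul, Algebra.TensorProduct.map_tmul]
      rfl
    have hinj : Function.Injective (algebraMap (MvPolynomial A (FixedPoints.subring R G)) ((MvPolynomial A (FixedPoints.subring R G)) ⊗[S] R)) :=
      Algebra.TensorProduct.includeLeft_injective (S := (MvPolynomial A (FixedPoints.subring R G))) Subtype.val_injective
    have h3 := congr_arg (Polynomial.map π.toRingHom) (Polynomial.map_injective _ hinj h1)
    rw [Polynomial.map_map, show π.toRingHom.comp (MvPolynomial.aeval fun i : W => (i.1.1 : (MvPolynomial A (FixedPoints.subring R G)))).toRingHom =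
        (algebraMap S A).comp MvPolynomial.constantCoeff from MvPolynomial.ringHom_ext (fun s => by
            show π (MvPolynomial.aeval _ (MvPolynomial.C s)) = algebraMap S A (MvPolynomial.constantCoeff (MvPolynomial.C s))
            rw [MvPolynomial.aeval_C, MvPolynomial.constantCoeff_C]
            exact π.commutes s)
          (fun j => by
            have : π (j.1.1 : (MvPolynomial A (FixedPoints.subring R G))) = 0 := j.1.1.2
            simp [this]),
      ← Polynomial.map_map, hQ0, Polynomial.map_pow, Polynomial.map_X, Polynomial.map_pow,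
      Polynomial.map_sub, Polynomial.map_X, Polynomial.map_C] at h3
    have h4 : π.toRingHom a' = a := MvPolynomial.aeval_X _ _
    rw [h4] at h3
    rw [← h3, Polynomial.coeff_X_pow, if_neg hi.ne]

end Groth.Agent.S9312
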