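import Groth.Statements.S9313
import Mathlib.RingTheory.ZariskisMainTheorem
import Mathlib.RingTheory.Idempotents
-- import your own Groth.Agent.* helpers here

set_option autoImplicit false
universe u
open CAlg

namespace Groth.Agent.S9313

variable {A B : Type u} [CommRing A] [CommRing B] [Algebra A B]

theorem weaklyQF (I : Ideal A) (et : B) (he : et * (1 - et) ∈ I.map (algebraMap A B))
    [Module.Finite A (B ⧸ (I.map (algebraMap A B) ⊔ Ideal.span {1 - et}))]
    (q : Ideal B) [q.IsPrime] (hI : I.map (algebraMap A B) ≤ q) (hq : et ∉ q) :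
    Algebra.WeaklyQuasiFiniteAt A q := by
  rw [Algebra.weaklyQuasiFiniteAt_iff]
  let φ : B →ₐ[A] Localization.AtPrime q ⧸ (q.under A).map (algebraMap A (Localization.AtPrime q)) :=
    (Ideal.Quotient.mkₐ A _).comp (IsScalarTower.toAlgHom A B _)
  have hu : ∀ s, s ∉ q → IsUnit (φ s) := fun s hs =>
    (IsLocalization.map_units (M := q.primeCompl) (Localization.AtPrime q) ⟨s, hs⟩).map (Ideal.Quotient.mkₐ A _)
  have h0 : I.map (algebraMap A B) ≤ RingHom.ker φ := by
    refine Ideal.map_le_iff_le_comap.mpr fun a ha => ?_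
    show φ (algebraMap A B a) = 0
    rw [AlgHom.commutes, IsScalarTower.algebraMap_apply A (Localization.AtPrime q) (Localization.AtPrime q ⧸ _),
      Ideal.Quotient.algebraMap_eq, Ideal.Quotient.eq_zero_iff_mem]
    exact Ideal.mem_map_of_mem _ (hI (Ideal.mem_map_of_mem _ ha) : a ∈ q.under A)
  have hL : I.map (algebraMap A B) ⊔ Ideal.span {1 - et} ≤ RingHom.ker φ := by
    refine sup_le h0 ((Ideal.span_singleton_le_iff_mem _).mpr ?_)
    have h : φ et * φ (1 - et) = 0 := by rw [← map_mul]; exact h0 he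
    exact RingHom.mem_ker.mpr ((hu et hq).mul_right_eq_zero.mp h)
  let f : B ⧸ (I.map (algebraMap A B) ⊔ Ideal.span {1 - et}) →ₐ[A] _ :=
    Ideal.Quotient.liftₐ _ φ fun b hb => RingHom.mem_ker.mp (hL hb)
  refine Algebra.QuasiFinite.of_forall_exists_mul_mem_range f fun x => ?_
  obtain ⟨x, rfl⟩ := Ideal.Quotient.mk_surjective x
  obtain ⟨b, ⟨s, hs⟩, rfl⟩ := IsLocalization.exists_mk'_eq q.primeCompl x
  refine ⟨Ideal.Quotient.mk _ s, hu s hs, Ideal.Quotient.mk _ b, ?_⟩
  show φ b = Ideal.Quotient.mk _ _ * φ s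
  show Ideal.Quotient.mk _ _ = Ideal.Quotient.mk _ _ * Ideal.Quotient.mk _ _
  rw [← map_mul]
  exact congrArg _ (IsLocalization.mk'_spec _ b ⟨s, hs⟩).symm

/-- Let A be a ring with an ideal I and A → B a ring map of finite type, and suppose B/IB = C_1 × C_2
(given by an idempotent e of B/IB with C_1 = (B/IB)/(1 - e)) where C_1 is finite over A/I. Writing
B' for the integral closure of A in B, some g ∈ B' has idempotent image in B'/IB' lifting e (so
B'/IB' = C_1' × C_2' compatibly with the decomposition of B/IB), and the map B'_g → B_g is an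
isomorphism (whence C_1' = C_1). -/
theorem result (A B : Type u) [CommRing A] [CommRing B]
    [Algebra A B] [Algebra.FiniteType A B] (I : Ideal A) (e : B ⧸ Ideal.map (algebraMap A B) I)
    (he : IsIdempotentElem e)
    (hfin : Module.Finite (A ⧸ I) ((B ⧸ Ideal.map (algebraMap A B) I) ⧸ Ideal.span {1 - e})) :
    ∃ g : integralClosure A B,
      IsIdempotentElem (Ideal.Quotient.mk (Ideal.map (algebraMap A (integralClosure A B)) I) g) ∧
      Ideal.Quotient.mk (Ideal.map (algebraMap A B) I) (g : B) = e ∧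
      Function.Bijective (algebraMap (Localization.Away g)
        (Localization (Algebra.algebraMapSubmonoid B (Submonoid.powers g)))) := by
  classical
  obtain ⟨et, rfl⟩ := Ideal.Quotient.mk_surjective e
  set IB := Ideal.map (algebraMap A B) I with hIB
  let L := IB ⊔ Ideal.span {1 - et}
  have he0 : et * (1 - et) ∈ IB := by
    rw [← Ideal.Quotient.eq_zero_iff_mem, map_mul, map_sub, map_one]
    exact he.mul_one_sub_self
  haveI : Module.Finite A (B ⧸ L) := by
    haveI := hfin
    haveI : Module.Finite A (A ⧸ I) := Module.Finite.of_surjective (Ideal.Quotient.mkₐ A I).toLinearMap Ideal.Quotient.mk_surjective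
    haveI : Module.Finite A ((B ⧸ IB) ⧸ Ideal.span {1 - Ideal.Quotient.mk IB et}) := Module.Finite.trans (A ⧸ I) _
    let f₁ : B ⧸ IB →ₐ[A] B ⧸ L := Ideal.Quotient.factorₐ A le_sup_left
    have hk : Ideal.span {1 - Ideal.Quotient.mk IB et} ≤ RingHom.ker f₁ :=
      (Ideal.span_singleton_le_iff_mem _).mpr (RingHom.mem_ker.mpr (by
        rw [map_sub, map_one]
        show 1 - Ideal.Quotient.mk L et = 0
        rw [← map_one (Ideal.Quotient.mk L), ← map_sub]
        exact Ideal.Quotient.eq_zero_iff_mem.mpr (Ideal.mem_sup_right (Ideal.mem_span_singleton_self _))))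
    refine Module.Finite.of_surjective (Ideal.Quotient.liftₐ _ f₁ fun b hb => RingHom.mem_ker.mp (hk hb)).toLinearMap ?_
    intro x
    obtain ⟨b, rfl⟩ := Ideal.Quotient.mk_surjective x
    exact ⟨Ideal.Quotient.mk _ (Ideal.Quotient.mk IB b), rfl⟩
  let ι : integralClosure A B →+* B := algebraMap _ B
  let col : B → Ideal (integralClosure A B) := fun b =>
    { carrier := {x | (x : B) * b ∈ integralClosure A B}
      add_mem' := fun {x y} hx hy => by
        show ((x + y : integralClosure A B) : B) * b ∈ integralClosure A B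
        rw [AddMemClass.coe_add, add_mul]; exact add_mem hx hy
      zero_mem' := by
        show ((0 : integralClosure A B) : B) * b ∈ integralClosure A B
        rw [ZeroMemClass.coe_zero, zero_mul]; exact zero_mem _
      smul_mem' := fun c x hx => by
        show ((c * x : integralClosure A B) : B) * b ∈ integralClosure A B
        rw [MulMemClass.coe_mul, mul_assoc]; exact mul_mem c.2 hx }
  let J : Ideal (integralClosure A B) := ⨅ b, (col b).radical
  have hJ : ∀ r ∈ J, ∀ b, ∃ m, ∃ z : integralClosure A B, (z : B) = (r : B) ^ m * b := fun r hr b => by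
    obtain ⟨m, hm⟩ := (Submodule.mem_iInf _).mp hr b
    refine ⟨m, ⟨_, hm⟩, ?_⟩
    show ((r ^ m : integralClosure A B) : B) * b = _
    rw [SubmonoidClass.coe_pow]
  let IB' := Ideal.map (algebraMap A (integralClosure A B)) I
  have hIB' : IB' ≤ IB.comap ι := Ideal.map_le_iff_le_comap.mpr fun a ha => Ideal.mem_map_of_mem (algebraMap A B) ha
  let K := L.comap ι
  let H := J ⊓ (Ideal.span {et}).comap ι
  have hK : ∀ p : Ideal (integralClosure A B), p.IsPrime → K ≤ p → ¬ H ≤ p := by
    intro p _ hKp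
    haveI : Algebra.IsIntegral (integralClosure A B) (B ⧸ L) := Algebra.IsIntegral.tower_top A
    obtain ⟨Q, -, hQ, hQp⟩ := Ideal.exists_ideal_over_prime_of_isIntegral p (⊥ : Ideal (B ⧸ L)) (fun x hx => hKp
      (show ι x ∈ L from Ideal.Quotient.eq_zero_iff_mem.mp hx))
    let q := Q.comap (Ideal.Quotient.mk L)
    haveI : q.IsPrime := Ideal.IsPrime.comap _
    have hLq : L ≤ q := fun x hx => by
      show Ideal.Quotient.mk L x ∈ Q
      rw [Ideal.Quotient.eq_zero_iff_mem.mpr hx]; exact Q.zero_mem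
    have het : et ∉ q := fun h => ‹q.IsPrime›.ne_top ((Ideal.eq_top_iff_one _).mpr (by
      have := q.add_mem h (hLq (Ideal.mem_sup_right (Ideal.mem_span_singleton_self _)))
      rwa [add_sub_cancel] at this))
    haveI : Algebra.WeaklyQuasiFiniteAt A q := weaklyQF I et he0 q (le_sup_left.trans hLq) het
    obtain ⟨r', hrq, hr', hr⟩ := Algebra.zariskisMainProperty_iff.mp
      (Algebra.ZariskisMainProperty.of_finiteType_of_weaklyQuasiFiniteAt (R := A) q)
    let r : integralClosure A B := ⟨r', hr'⟩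
    have hrJ : r ∈ J := (Submodule.mem_iInf _).mpr fun b => by
      obtain ⟨m, hm⟩ := hr b
      refine ⟨m, ?_⟩
      show ((r ^ m : integralClosure A B) : B) * b ∈ integralClosure A B
      rw [SubmonoidClass.coe_pow]; exact hm
    obtain ⟨m, z, hz⟩ := hJ r hrJ et
    have hH : r * z ∈ H := ⟨J.mul_mem_right _ hrJ, by
      show ((r * z : integralClosure A B) : B) ∈ Ideal.span {et}
      rw [MulMemClass.coe_mul, hz]
      exact Ideal.mul_mem_left _ _ (Ideal.mul_mem_left _ _ (Ideal.mem_span_singleton_self _))⟩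
    intro hHp
    have : ((r * z : integralClosure A B) : B) ∈ q := by
      have := hHp hH
      rw [← hQp] at this
      exact this
    rw [MulMemClass.coe_mul, hz] at this
    rcases ‹q.IsPrime›.mem_or_mem this with h | h
    · exact hrq h
    rcases ‹q.IsPrime›.mem_or_mem h with h | h
    · exact hrq (‹q.IsPrime›.mem_of_pow_mem _ h)
    · exact het h
  have hH : ∀ p : Ideal (integralClosure A B), p.IsPrime → IB' ≤ p → ¬ H ≤ p → K ≤ p := by
    intro p hp hIp hHp
    obtain ⟨h, hh, hhp⟩ := Set.not_subset.mp hHp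
    have key : ∀ y ∈ p.map ι, ∃ m, ∃ z : integralClosure A B, (z : B) = (h : B) ^ m * y ∧ z ∈ p := by
      intro y hy
      induction hy using Submodule.span_induction with
      | mem y hy =>
        obtain ⟨a, ha, rfl⟩ := hy
        exact ⟨0, a, (by rw [pow_zero, one_mul]; rfl), ha⟩
      | zero => exact ⟨0, 0, by simp, p.zero_mem⟩
      | add x y _ _ hx hy =>
        obtain ⟨m, z, hz, hzp⟩ := hx; obtain ⟨n, w, hw, hwp⟩ := hy
        refine ⟨m + n, h ^ n * z + h ^ m * w, ?_, add_mem (Ideal.mul_mem_left p _ hzp) (Ideal.mul_mem_left p _ hwp)⟩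
        push_cast [hz, hw]; ring
      | smul c y _ hy =>
        obtain ⟨m, z, hz, hzp⟩ := hy; obtain ⟨n, w, hw⟩ := hJ h hh.1 c
        refine ⟨n + m, w * z, ?_, Ideal.mul_mem_left p _ hzp⟩
        push_cast [hz, hw, smul_eq_mul]; ring
    obtain ⟨q, hq, hqp⟩ := (Ideal.comap_map_eq_self_iff_of_isPrime p (f := ι)).mp (le_antisymm (fun x hx => by
      obtain ⟨m, z, hz, hzp⟩ := key _ hx
      have : z = h ^ m * x := Subtype.ext (by push_cast [hz]; rfl)
      exact (hp.mem_or_mem (this ▸ hzp)).resolve_left fun h' => hhp (hp.mem_of_pow_mem _ h')) Ideal.le_comap_map)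
    subst hqp
    have hIq : IB ≤ q := Ideal.map_le_iff_le_comap.mpr fun a ha =>
      hIp (Ideal.mem_map_of_mem (algebraMap A (integralClosure A B)) ha)
    refine Ideal.comap_mono (sup_le hIq ((Ideal.span_singleton_le_iff_mem _).mpr ?_))
    refine (hq.mem_or_mem (hIq he0)).resolve_left fun h' => hhp ?_
    exact (Ideal.span_singleton_le_iff_mem _).mpr h' hh.2
  have hIK : IB' ≤ K := hIB'.trans (Ideal.comap_mono le_sup_left)
  have hsup : K ⊔ H = ⊤ := by
    by_contra hne
    obtain ⟨p, hp, hle⟩ := Ideal.exists_le_maximal _ hne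
    exact hK p hp.isPrime (le_sup_left.trans hle) (le_sup_right.trans hle)
  obtain ⟨k, hk, h, hh, hkh⟩ := Submodule.mem_sup.mp (hsup.ge (Submodule.mem_top (x := (1 : integralClosure A B))))
  have hrad : k * h ∈ IB'.radical := by
    rw [Ideal.radical_eq_sInf, Submodule.mem_sInf]
    rintro p ⟨hIp, hp⟩
    by_cases hc : H ≤ p
    · exact Ideal.mul_mem_left p _ (hc hh)
    · exact Ideal.mul_mem_right (I := p) _ (hH p hp hIp hc hk)
  obtain ⟨n, hn⟩ := hrad
  obtain ⟨x, y, hxy⟩ := IsCoprime.pow (m := n + 1) (n := n + 1) (⟨1, 1, by rw [one_mul, one_mul, hkh]⟩ : IsCoprime k h)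
  let g := y * h ^ (n + 1)
  have hgH : g ∈ H := H.mul_mem_left _ (H.pow_mem_of_mem hh _ n.succ_pos)
  have hgK : 1 - g ∈ K := by
    rw [show 1 - g = x * k ^ (n + 1) by rw [← hxy]; exact add_sub_cancel_right _ _]
    exact K.mul_mem_left _ (K.pow_mem_of_mem hk _ n.succ_pos)
  have hg2 : g * (1 - g) ∈ IB' := by
    rw [show g * (1 - g) = x * y * (k * h) * (k * h) ^ n by
      rw [show 1 - g = x * k ^ (n + 1) by rw [← hxy]; exact add_sub_cancel_right _ _]
      simp only [g]; ring]
    exact IB'.mul_mem_left _ hn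
  refine ⟨g, ?_, ?_, ?_, ?_⟩
  · rw [IsIdempotentElem, ← map_mul, Ideal.Quotient.eq,
      show g * g - g = -(g * (1 - g)) by ring]
    exact neg_mem hg2
  · refine eq_of_isNilpotent_sub_of_isIdempotentElem ?_ he ?_
    · rw [IsIdempotentElem, ← map_mul, Ideal.Quotient.eq]
      have : ι (g * (1 - g)) ∈ IB := hIB' hg2
      rw [map_mul, map_sub, map_one] at this
      have h2 : (g : B) * g - g = -((g : B) * (1 - g)) := by ring
      rw [h2]; exact neg_mem this
    · rw [← map_sub]
      have : (g : B) - et ∈ IB.radical := by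
        rw [Ideal.radical_eq_sInf, Submodule.mem_sInf]
        rintro q ⟨hIq, hq⟩
        by_cases hc : et ∈ q
        · exact q.sub_mem ((Ideal.span_singleton_le_iff_mem _).mpr hc hgH.2) hc
        · have h1 : 1 - et ∈ q := (hq.mem_or_mem (hIq he0)).resolve_left hc
          have h2 : ι (1 - g) ∈ q := sup_le hIq ((Ideal.span_singleton_le_iff_mem _).mpr h1) hgK
          rw [map_sub, map_one] at h2
          have := q.sub_mem h1 h2
          rwa [sub_sub_sub_cancel_left] at this
      obtain ⟨m, hm⟩ := this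
      exact ⟨m, by rw [← map_pow]; exact Ideal.Quotient.eq_zero_iff_mem.mpr hm⟩
  · exact localizationAlgebra_injective _ _ Subtype.val_injective
  · intro z
    obtain ⟨b, ⟨s, hs⟩, rfl⟩ := IsLocalization.exists_mk'_eq (Algebra.algebraMapSubmonoid B (Submonoid.powers g)) z
    obtain ⟨s', hs', hsv⟩ := Submonoid.mem_map.mp hs
    obtain ⟨j, hj⟩ := (Submonoid.mem_powers_iff _ _).mp hs'
    subst hsv hj
    obtain ⟨m, w, hw⟩ := hJ g hgH.1 b
    refine ⟨IsLocalization.mk' _ w ⟨g ^ (m + j), Submonoid.pow_mem _ (Submonoid.mem_powers g) _⟩, ?_⟩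
    rw [show algebraMap (Localization.Away g) (Localization (Algebra.algebraMapSubmonoid B (Submonoid.powers g))) = _ from localizationAlgebraMap_def _ _,
      IsLocalization.map_mk']
    refine IsLocalization.mk'_eq_of_eq ?_
    show ι (g ^ (m + j)) * b = ι (g ^ j) * (w : B)
    rw [hw, map_pow, map_pow]
    show (g : B) ^ (m + j) * b = (g : B) ^ j * ((g : B) ^ m * b)
    ring

end Groth.Agent.S9313
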