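import Groth.Statements.S9315
import Mathlib.RingTheory.Ideal.Quotient.Nilpotent
import Mathlib.RingTheory.LocalRing.RingHom.Basic
import Mathlib.RingTheory.Ideal.Quotient.Operations
-- import your own Groth.Agent.* helpers here

set_option autoImplicit false
universe u
open CAlg

namespace Groth.Agent.S9315

section
open IsLocalRing

theorem lift_sqZero {R S : Type u} [CommRing R] [CommRing S] [IsLocalRing R] [IsLocalRing S] [Algebra R S]
    [IsLocalHom (algebraMap R S)]
    (H : ∀ (A : Type u) [CommRing A] [IsLocalRing A] [Algebra R A] [IsLocalHom (algebraMap R A)]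
        (J : Ideal A), J ^ 2 = ⊥ → (∃ n : ℕ, maximalIdeal A ^ n = ⊥) →
        ∀ [IsLocalRing (A ⧸ J)] (ψ : S →ₐ[R] A ⧸ J) [IsLocalHom ψ.toRingHom],
          Function.Bijective (ResidueField.map ψ.toRingHom) →
          ∃ χ : S →ₐ[R] A, (Ideal.Quotient.mkₐ R J).comp χ = ψ)
    {N : ℕ} [IsLocalRing (S ⧸ maximalIdeal S ^ N)] (B : Type u) [CommRing B] [Algebra R B]
    (p : B →ₐ[R] S ⧸ maximalIdeal S ^ N) (hp : Function.Surjective p) (hK2 : RingHom.ker p ^ 2 = ⊥) :
    ∃ χ : S →ₐ[R] B, ∀ s, p (χ s) = Ideal.Quotient.mk _ s := by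
  let K : Ideal B := RingHom.ker p
  let e : (B ⧸ K) ≃ₐ[R] S ⧸ maximalIdeal S ^ N := Ideal.quotientKerAlgEquivOfSurjective hp
  have hunit : ∀ b : B, IsUnit (p b) → IsUnit b := fun b hb => by
    refine (IsNilpotent.isUnit_quotient_mk_iff (I := K) ⟨2, hK2⟩).1 ?_
    have := hb.map e.symm
    rwa [show e.symm (p b) = Ideal.Quotient.mk K b from (AlgEquiv.symm_apply_eq _).2 rfl] at this
  haveI : Nontrivial B := p.toRingHom.domain_nontrivial
  haveI : IsLocalHom p.toRingHom := ⟨hunit⟩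
  haveI : IsLocalRing B := RingHom.domain_isLocalRing p.toRingHom
  haveI : IsLocalHom (Ideal.Quotient.mk (maximalIdeal S ^ N)) := IsLocalHom.of_surjective _ Ideal.Quotient.mk_surjective
  haveI : IsLocalHom (algebraMap R B) := ⟨fun r hr => by
    have h := hr.map p
    rw [p.commutes, IsScalarTower.algebraMap_apply R S (S ⧸ maximalIdeal S ^ N)] at h
    exact IsUnit.of_map (algebraMap R S) r ((isUnit_map_iff (Ideal.Quotient.mk _) _).1 h)⟩
  haveI : Nontrivial (B ⧸ K) := e.toEquiv.nontrivial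
  haveI : IsLocalRing (B ⧸ K) := IsLocalRing.of_surjective' (Ideal.Quotient.mk K) Ideal.Quotient.mk_surjective
  let φ : S →ₐ[R] B ⧸ K := e.symm.toAlgHom.comp (Ideal.Quotient.mkₐ R _)
  have hφ : Function.Surjective φ := e.symm.surjective.comp Ideal.Quotient.mk_surjective
  haveI : IsLocalHom φ.toRingHom := ⟨fun s hs => (isUnit_map_iff (Ideal.Quotient.mk (maximalIdeal S ^ N)) s).1 (by
    have h : IsUnit (e (φ s)) := IsUnit.map e hs
    simpa only [φ, AlgHom.comp_apply, AlgEquiv.coe_toAlgHom, AlgEquiv.apply_symm_apply, Ideal.Quotient.mkₐ_eq_mk] using h)⟩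
  have hnil : maximalIdeal B ^ (N * 2) = ⊥ := by
    rw [pow_mul, ← le_bot_iff, ← hK2]
    refine Ideal.pow_right_mono ?_ 2
    show _ ≤ RingHom.ker p.toRingHom
    rw [RingHom.ker_eq_comap_bot, ← Ideal.map_le_iff_le_comap, Ideal.map_pow]
    have hle : (maximalIdeal B).map p.toRingHom ≤ (maximalIdeal S).map (Ideal.Quotient.mk (maximalIdeal S ^ N)) := by
      refine Ideal.map_le_iff_le_comap.2 fun b hb => ?_
      obtain ⟨s, hs⟩ := Ideal.Quotient.mk_surjective (p b)
      rw [Ideal.mem_comap, show p.toRingHom b = p b from rfl, ← hs]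
      refine Ideal.mem_map_of_mem _ ((mem_maximalIdeal _).2 fun hu => (mem_maximalIdeal _).1 hb (hunit b ?_))
      rw [← hs]; exact hu.map _
    refine (Ideal.pow_right_mono hle N).trans ?_
    rw [← Ideal.map_pow, Ideal.map_quotient_self]
  obtain ⟨χ, hχ⟩ := H B K hK2 ⟨_, hnil⟩ φ
    ⟨(ResidueField.map φ.toRingHom).injective, fun y => by
      obtain ⟨x, rfl⟩ := residue_surjective y
      obtain ⟨s, rfl⟩ := hφ x
      exact ⟨residue _ s, ResidueField.map_residue _ _⟩⟩
  refine ⟨χ, fun s => ?_⟩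
  have := congrArg e (AlgHom.congr_fun hχ s)
  simp only [φ, AlgHom.comp_apply, AlgEquiv.coe_toAlgHom, AlgEquiv.apply_symm_apply] at this
  exact this

end

open IsLocalRing in
/-- Let `R → S` be a local homomorphism of local rings (no Noetherian hypothesis). Then `R → S` is
formally smooth for the adic topology of the maximal ideal of `S` if and only if the following
lifting property holds: for every local ring `A` with a local structure map `R → A`, every ideal `J`
of `A` of square zero such that some power of the maximal ideal of `A` is zero, and every local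
`R`-algebra homomorphism `ψ : S → A/J` inducing a bijection on residue fields, there is an
`R`-algebra homomorphism `S → A` lifting `ψ`. -/
theorem result {R S : Type u} [CommRing R] [CommRing S]
    [IsLocalRing R] [IsLocalRing S] [Algebra R S] [IsLocalHom (algebraMap R S)] :
    CAlgX.IsAdicFormallySmooth R S (maximalIdeal S) ↔
      ∀ (A : Type u) [CommRing A] [IsLocalRing A] [Algebra R A] [IsLocalHom (algebraMap R A)]
        (J : Ideal A), J ^ 2 = ⊥ → (∃ n : ℕ, maximalIdeal A ^ n = ⊥) →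
        ∀ [IsLocalRing (A ⧸ J)] (ψ : S →ₐ[R] A ⧸ J) [IsLocalHom ψ.toRingHom],
          Function.Bijective (ResidueField.map ψ.toRingHom) →
          ∃ χ : S →ₐ[R] A, (Ideal.Quotient.mkₐ R J).comp χ = ψ := by
  constructor
  · intro h A _ _ _ _ J hJ ⟨n, hn⟩ _ ψ _ _
    refine h A J hJ ψ ⟨n, fun x hx => ?_⟩
    have hle : (maximalIdeal S).map ψ.toRingHom ≤ maximalIdeal (A ⧸ J) :=
      ((IsLocalRing.local_hom_TFAE ψ.toRingHom).out 0 2).1 ‹IsLocalHom ψ.toRingHom›
    have hle' : maximalIdeal (A ⧸ J) ≤ (maximalIdeal A).map (Ideal.Quotient.mk J) := fun y hy => by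
      obtain ⟨a, rfl⟩ := Ideal.Quotient.mk_surjective y
      exact Ideal.mem_map_of_mem _ ((mem_maximalIdeal _).2 fun hu => ((mem_maximalIdeal _).1 hy) (hu.map _))
    have h1 : ψ x ∈ ((maximalIdeal A).map (Ideal.Quotient.mk J)) ^ n := by
      refine Ideal.pow_right_mono (hle.trans hle') n ?_
      rw [← Ideal.map_pow]; exact Ideal.mem_map_of_mem ψ.toRingHom hx
    rwa [← Ideal.map_pow, hn, Ideal.map_bot] at h1
  intro H A _ _ J hJ ψ ⟨k₀, hk₀⟩
  let N := k₀ + 1
  have hk : ∀ x ∈ maximalIdeal S ^ N, ψ x = 0 := fun x hx => hk₀ x (Ideal.pow_le_pow_right (Nat.le_succ _) hx)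
  have hne : maximalIdeal S ^ N ≠ ⊤ :=
    fun e => (maximalIdeal.isMaximal S).ne_top (top_le_iff.1 (e ▸ Ideal.pow_le_self k₀.succ_ne_zero))
  haveI : Nontrivial (S ⧸ maximalIdeal S ^ N) := Ideal.Quotient.nontrivial_iff.2 hne
  haveI : IsLocalRing (S ⧸ maximalIdeal S ^ N) := .of_surjective' _ Ideal.Quotient.mk_surjective
  let f : A × (S ⧸ maximalIdeal S ^ N) →ₐ[R] A ⧸ J := (Ideal.Quotient.mkₐ R J).comp (AlgHom.fst R _ _)
  let g : A × (S ⧸ maximalIdeal S ^ N) →ₐ[R] A ⧸ J := (Ideal.Quotient.liftₐ _ ψ hk).comp (AlgHom.snd R _ _)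
  let B := AlgHom.equalizer f g
  let p : B →ₐ[R] S ⧸ maximalIdeal S ^ N := (AlgHom.snd R _ _).comp B.val
  have hB : ∀ b : B, Ideal.Quotient.mk J b.1.1 = Ideal.Quotient.liftₐ _ ψ hk b.1.2 := fun b => b.2
  have hp : Function.Surjective p := fun x => by
    obtain ⟨a, ha⟩ := Ideal.Quotient.mk_surjective (Ideal.Quotient.liftₐ _ ψ hk x)
    exact ⟨⟨(a, x), ha⟩, rfl⟩
  let K : Ideal B := RingHom.ker p
  have hK2 : K ^ 2 = ⊥ := by
    refine eq_bot_iff.2 ((pow_two _).le.trans (Ideal.mul_le.2 fun v hv w hw => ?_))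
    have hv' : v.1.2 = 0 := hv
    have hw' : w.1.2 = 0 := hw
    have hvJ : v.1.1 ∈ J := by rw [← Ideal.Quotient.eq_zero_iff_mem, hB, hv', map_zero]
    have hwJ : w.1.1 ∈ J := by rw [← Ideal.Quotient.eq_zero_iff_mem, hB, hw', map_zero]
    have := Ideal.mul_mem_mul hvJ hwJ
    rw [← pow_two, hJ] at this
    refine Subtype.ext (Prod.ext this ?_)
    show v.1.2 * w.1.2 = 0
    rw [hv', zero_mul]
  obtain ⟨χ, hχ⟩ := lift_sqZero H B p hp hK2
  refine ⟨(AlgHom.fst R _ _).comp (B.val.comp χ), AlgHom.ext fun s => ?_⟩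
  have h2 : p (χ s) = Ideal.Quotient.mk _ s := hχ s
  show Ideal.Quotient.mk J (χ s).1.1 = _
  rw [hB, show (χ s).1.2 = p (χ s) from rfl, h2]
  rfl

end Groth.Agent.S9315
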