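import Groth.Statements.S9320
import Groth.Agent.L03.CartierEq
import Mathlib.RingTheory.Kaehler.Basic
import Mathlib.Tactic.Linarith

set_option autoImplicit false
universe u
open CAlg

namespace Groth.Agent.S9320

open TensorProduct in
/-- Consider a commutative square of fields with maps `k → K`, `k → k'`, `k' → K'` and `K → K'`, where
`k'` is a finitely generated field extension of `k` and `K'` is a finitely generated field extension
of `K`. Let `α : Ω_{K/k} ⊗_K K' → Ω_{K'/k'}` and `β : H_1(L_{K/k}) ⊗_K K' → H_1(L_{K'/k'})` be the
comparison maps (`H_1(L)` the first homology of the naive cotangent complex). Then the kernels and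
cokernels of `α` and `β` are finite-dimensional `K'`-vector spaces, and the difference of
transcendence degrees trdeg_k(k') − trdeg_K(K') equals (dim Ker α + dim Coker β) − (dim Coker α +
dim Ker β). -/
theorem result {k k' K K' : Type u} [Field k] [Field k']
    [Field K] [Field K'] [Algebra k k'] [Algebra k K] [Algebra k K'] [Algebra k' K'] [Algebra K K']
    [IsScalarTower k k' K'] [IsScalarTower k K K']
    [Algebra.EssFiniteType k k'] [Algebra.EssFiniteType K K'] :
    Module.Finite K' (LinearMap.ker ((KaehlerDifferential.map k k' K K').liftBaseChange K')) ∧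
      Module.Finite K' (Ω[K'⁄k'] ⧸ LinearMap.range ((KaehlerDifferential.map k k' K K').liftBaseChange K')) ∧
      Module.Finite K' (LinearMap.ker ((Algebra.H1Cotangent.map k k' K K').liftBaseChange K')) ∧
      Module.Finite K' (Algebra.H1Cotangent k' K' ⧸ LinearMap.range ((Algebra.H1Cotangent.map k k' K K').liftBaseChange K')) ∧
      ((Module.finrank K' (LinearMap.ker ((KaehlerDifferential.map k k' K K').liftBaseChange K')) : ℤ)
          - Module.finrank K' (Ω[K'⁄k'] ⧸ LinearMap.range ((KaehlerDifferential.map k k' K K').liftBaseChange K'))
          - Module.finrank K' (LinearMap.ker ((Algebra.H1Cotangent.map k k' K K').liftBaseChange K'))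
          + Module.finrank K' (Algebra.H1Cotangent k' K' ⧸ LinearMap.range ((Algebra.H1Cotangent.map k k' K K').liftBaseChange K'))
        = (Cardinal.toNat (Algebra.trdeg k k') : ℤ) - Cardinal.toNat (Algebra.trdeg K K')) := by
  obtain ⟨h1, h2, hA⟩ := Groth.L03.CartierEq.fred_baseChange k K K' (Groth.L03.CartierEq.cartier K K')
  obtain ⟨h3, h4, hB⟩ := Groth.L03.CartierEq.fred_map k k' K' (Groth.L03.CartierEq.cartier k k')
  have hα : (KaehlerDifferential.map k k' K K').liftBaseChange K' =
      (KaehlerDifferential.map k k' K' K').comp (KaehlerDifferential.mapBaseChange k K K') := by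
    apply TensorProduct.AlgebraTensorModule.curry_injective
    refine LinearMap.ext_ring ?_
    apply Derivation.liftKaehlerDifferential_unique
    ext x
    simp
  have hcomp : ∀ z, Algebra.H1Cotangent.map k k' K' K' (Algebra.H1Cotangent.map k k K K' z) =
      Algebra.H1Cotangent.map k k' K K' z := fun z => by
    refine (Algebra.Extension.H1Cotangent.map_comp_apply
      (Algebra.Generators.defaultHom (Algebra.Generators.self k K) (Algebra.Generators.self k K')).toExtensionHom
      (Algebra.Generators.defaultHom (Algebra.Generators.self k K') (Algebra.Generators.self k' K')).toExtensionHom z).symm.trans ?_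
    exact LinearMap.congr_fun (Algebra.Extension.H1Cotangent.map_eq
      (((Algebra.Generators.defaultHom (Algebra.Generators.self k K') (Algebra.Generators.self k' K')).toExtensionHom).comp
        (Algebra.Generators.defaultHom (Algebra.Generators.self k K) (Algebra.Generators.self k K')).toExtensionHom)
      (Algebra.Generators.defaultHom (Algebra.Generators.self k K) (Algebra.Generators.self k' K')).toExtensionHom) z
  have hβ : (Algebra.H1Cotangent.map k k' K K').liftBaseChange K' =
      (Algebra.H1Cotangent.map k k' K' K').comp ((Algebra.H1Cotangent.map k k K K').liftBaseChange K') := by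
    apply TensorProduct.AlgebraTensorModule.curry_injective
    refine LinearMap.ext_ring (LinearMap.ext fun z => ?_)
    simp [hcomp]
  obtain ⟨c1, d1⟩ := Groth.L03.CartierEq.index_comp _ _ h1 h3
  obtain ⟨c2, d2⟩ := Groth.L03.CartierEq.index_comp _ _ h2 h4
  rw [hα, hβ]
  refine ⟨c1.1, c1.2, c2.1, c2.2, ?_⟩
  simp only [Groth.L03.CartierEq.index] at hA hB d1 d2 ⊢
  linarith

end Groth.Agent.S9320
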