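import Groth.Statements.S9321
import Groth.Agent.L03.PSLift
import Groth.Agent.L03.FieldFS
import Mathlib.Algebra.Field.ZMod
import Mathlib.FieldTheory.Perfect
import Mathlib.Data.ZMod.Basic
import Mathlib.Algebra.Algebra.Rat

set_option autoImplicit false
open CAlg

namespace Groth.Agent.S9321

/-- Let `K` be a field of characteristic zero and `n ≥ 0`. Then `ℚ → K[[x_1, …, x_n]]` is formally
smooth for the adic topology of the maximal ideal of the power series ring. (`K` is taken in the
lowest universe, where `ℚ` lives.) -/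
theorem result (K : Type) [Field K] [CharZero K] (n : ℕ) :
    CAlgX.IsAdicFormallySmooth ℚ (MvPowerSeries (Fin n) K)
      (IsLocalRing.maximalIdeal (MvPowerSeries (Fin n) K)) := by
  intro C _ _ J hJ ψ hψ
  haveI : Algebra.FormallySmooth (ℚ) K := Groth.L03.FieldFS.formallySmooth_of_perfectField (ℚ) K
  let f : K →ₐ[ℚ] C ⧸ J :=
    { ψ.toRingHom.comp (MvPowerSeries.C : K →+* MvPowerSeries (Fin n) K) with
      commutes' := fun r => RingHom.congr_fun (Subsingleton.elim
        ((ψ.toRingHom.comp (MvPowerSeries.C : K →+* MvPowerSeries (Fin n) K)).comp (algebraMap (ℚ) K))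
        (algebraMap (ℚ) (C ⧸ J))) r }
  obtain ⟨φ, hφ⟩ := Algebra.FormallySmooth.comp_surjective (ℚ) K J hJ f
  obtain ⟨χ, hχ⟩ := Groth.L03.PSLift.exists_lift J hJ ψ.toRingHom hψ φ.toRingHom
    (RingHom.ext fun x => AlgHom.congr_fun hφ x)
  exact ⟨{ χ with commutes' := fun r => RingHom.congr_fun (Subsingleton.elim (χ.comp (algebraMap (ℚ) _)) (algebraMap (ℚ) C)) r },
    AlgHom.coe_ringHom_injective hχ⟩

end Groth.Agent.S9321
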