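import Groth.Statements.S9322
import Groth.Agent.L03.PSLift
import Groth.Agent.L03.FieldFS
import Mathlib.Algebra.Field.ZMod
import Mathlib.FieldTheory.Perfect
import Mathlib.Data.ZMod.Basic
import Mathlib.Algebra.Algebra.Rat

set_option autoImplicit false
open CAlg

namespace Groth.Agent.S9322

/-- Let `p` be a prime, `L` a field of characteristic `p` (given as an algebra over `ℤ/p`) and `n ≥ 0`.
Then `𝔽_p → L[[x_1, …, x_n]]` is formally smooth for the adic topology of the maximal ideal of the
power series ring. (`L` is taken in the lowest universe, where `ℤ/p` lives.) -/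
theorem result (p : ℕ) [Fact p.Prime] (L : Type) [Field L]
    [Algebra (ZMod p) L] (n : ℕ) :
    CAlgX.IsAdicFormallySmooth (ZMod p) (MvPowerSeries (Fin n) L)
      (IsLocalRing.maximalIdeal (MvPowerSeries (Fin n) L)) := by
  intro C _ _ J hJ ψ hψ
  haveI : Algebra.FormallySmooth (ZMod p) L := Groth.L03.FieldFS.formallySmooth_of_perfectField (ZMod p) L
  let f : L →ₐ[ZMod p] C ⧸ J :=
    { ψ.toRingHom.comp (MvPowerSeries.C : L →+* MvPowerSeries (Fin n) L) with
      commutes' := fun r => RingHom.congr_fun (Subsingleton.elim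
        ((ψ.toRingHom.comp (MvPowerSeries.C : L →+* MvPowerSeries (Fin n) L)).comp (algebraMap (ZMod p) L))
        (algebraMap (ZMod p) (C ⧸ J))) r }
  obtain ⟨φ, hφ⟩ := Algebra.FormallySmooth.comp_surjective (ZMod p) L J hJ f
  obtain ⟨χ, hχ⟩ := Groth.L03.PSLift.exists_lift J hJ ψ.toRingHom hψ φ.toRingHom
    (RingHom.ext fun x => AlgHom.congr_fun hφ x)
  exact ⟨{ χ with commutes' := fun r => RingHom.congr_fun (Subsingleton.elim (χ.comp (algebraMap (ZMod p) _)) (algebraMap (ZMod p) C)) r },
    AlgHom.coe_ringHom_injective hχ⟩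

end Groth.Agent.S9322
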