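import Groth.Statements.S9323
import Groth.Agent.L03.PSLift
import Groth.Agent.L01.CohenLift
import Mathlib.RingTheory.DiscreteValuationRing.Basic
import Mathlib.RingTheory.MvPowerSeries.Inverse

set_option autoImplicit false
open CAlg

namespace Groth.Agent.S9323

/-- Let `Λ` be a Cohen ring (a complete discrete valuation ring whose maximal ideal is generated by a
prime number) and `n ≥ 0`. Then `ℤ → Λ[[x_1, …, x_n]]` is formally smooth for the adic topology of
the maximal ideal of the power series ring. (`Λ` is taken in the lowest universe, where `ℤ` lives.) -/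
theorem result (Λ : Type) [CommRing Λ] [IsLocalRing Λ]
    (hΛ : CAlg.IsCohenRing Λ) (n : ℕ) :
    CAlgX.IsAdicFormallySmooth ℤ (MvPowerSeries (Fin n) Λ)
      (IsLocalRing.maximalIdeal (MvPowerSeries (Fin n) Λ)) := by
  obtain ⟨hD, hV, -, p, hp, hm⟩ := hΛ
  haveI := Fact.mk hp
  intro C _ _ J hJ ψ hψ
  obtain ⟨k₀, hk₀⟩ := hψ
  let k := k₀ + 1
  let ι : Λ →+* MvPowerSeries (Fin n) Λ := MvPowerSeries.C
  have hpm : ∀ x ∈ IsLocalRing.maximalIdeal Λ, ι x ∈ IsLocalRing.maximalIdeal (MvPowerSeries (Fin n) Λ) := fun x hx => by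
    rw [IsLocalRing.mem_maximalIdeal, mem_nonunits_iff, MvPowerSeries.isUnit_iff_constantCoeff, MvPowerSeries.constantCoeff_C]
    exact hx
  let f := ψ.toRingHom.comp ι
  have hpk : f ((p : Λ) ^ k) = 0 := by
    show ψ (ι ((p : Λ) ^ k)) = 0
    rw [map_pow]
    exact hk₀ _ (Ideal.pow_le_pow_right (Nat.le_succ _)
      (Ideal.pow_mem_pow (hpm _ (hm ▸ Ideal.mem_span_singleton_self _)) k))
  have hC : (p : C) ^ (2 * k) = 0 := by
    have h1 : (p : C) ^ k ∈ J := by
      rw [← Ideal.Quotient.eq_zero_iff_mem, map_pow, map_natCast, ← map_natCast f, ← map_pow, hpk]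
    have := Ideal.pow_mem_pow h1 2
    rwa [hJ, Submodule.mem_bot, ← pow_mul, mul_comm] at this
  let N := 2 * k
  let A := Λ ⧸ Ideal.span {(p : Λ) ^ N}
  have hp0 : (p : Λ) ≠ 0 := fun h => IsDiscreteValuationRing.not_a_field Λ (by rw [hm, h, Ideal.span_singleton_eq_bot])
  have hAn : (p : A) ^ N = 0 := by
    rw [← map_natCast (Ideal.Quotient.mk (Ideal.span {(p : Λ) ^ N})), ← map_pow, Ideal.Quotient.eq_zero_iff_mem]
    exact Ideal.mem_span_singleton_self _
  have hne : (Ideal.span {((p : ℕ) : A)}).IsMaximal := by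
    have : (IsLocalRing.maximalIdeal Λ).map (Ideal.Quotient.mk (Ideal.span {(p : Λ) ^ N})) = Ideal.span {((p : ℕ) : A)} := by
      rw [hm, Ideal.map_span, Set.image_singleton, map_natCast]
    rw [← this]
    refine Ideal.IsMaximal.map_of_surjective_of_ker_le Ideal.Quotient.mk_surjective ?_
    rw [Ideal.mk_ker, hm, Ideal.span_singleton_le_iff_mem]
    exact Ideal.pow_mem_of_mem _ (Ideal.mem_span_singleton_self _) _ (by omega)
  have htor : ∀ a : A, (p : A) * a = 0 → ∃ b, a = (p : A) ^ (N - 1) * b := fun a ha => by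
    obtain ⟨a, rfl⟩ := Ideal.Quotient.mk_surjective a
    rw [← map_natCast (Ideal.Quotient.mk (Ideal.span {(p : Λ) ^ N})), ← map_mul, Ideal.Quotient.eq_zero_iff_mem,
      Ideal.mem_span_singleton'] at ha
    obtain ⟨c, hc⟩ := ha
    refine ⟨Ideal.Quotient.mk (Ideal.span {(p : Λ) ^ N}) c, ?_⟩
    have h0 : a = (p : Λ) ^ (N - 1) * c := mul_left_cancel₀ hp0 (by
      rw [← hc, ← mul_assoc, ← pow_succ', Nat.sub_add_cancel (by omega : 1 ≤ N), mul_comm])
    rw [h0, map_mul, map_pow, map_natCast]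
  have hker : ∀ x ∈ Ideal.span {(p : Λ) ^ N}, f x = 0 := fun x hx => by
    obtain ⟨c, rfl⟩ := Ideal.mem_span_singleton'.1 hx
    rw [show N = k + k by omega, pow_add, map_mul, map_mul, hpk, mul_zero, mul_zero]
  obtain ⟨g, hg⟩ := Groth.L01.Cohen.exists_lift_of_flat (p := p) (n := N) (by omega) hAn htor hne hC
    (Ideal.Quotient.mk J) Ideal.Quotient.mk_surjective (by rw [Ideal.mk_ker]; exact hJ) (Ideal.Quotient.lift _ f hker)
  obtain ⟨χ, hχ⟩ := Groth.L03.PSLift.exists_lift J hJ ψ.toRingHom ⟨k₀, hk₀⟩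
    (g.comp (Ideal.Quotient.mk (Ideal.span {(p : Λ) ^ N}))) (by rw [← RingHom.comp_assoc, hg]; rfl)
  exact ⟨{ χ with commutes' := fun r => RingHom.congr_fun (Subsingleton.elim (χ.comp (algebraMap ℤ _)) (algebraMap ℤ C)) r },
    AlgHom.coe_ringHom_injective hχ⟩

end Groth.Agent.S9323
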