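import Groth.Statements.S9324
import Groth.Agent.L05.Henselization.BaseChange

set_option autoImplicit false
universe u
open Hensel

namespace Groth.Agent.S9324

open TensorProduct in
/-- Let `(A, I) → (B, J)` be a map of pairs, i.e. `I B ⊆ J`, such that `J` and `I B` have the same
radical, and suppose `A → B` is integral. Let `A^h` be a henselization of the pair `(A, I)`, `B^h` a
henselization of the pair `(B, J)`, and `φ : A^h → B^h` an `A`-algebra homomorphism (there is
exactly one, by the universal property of `A^h`). Then the induced map `A^h ⊗_A B → B^h` is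
bijective: henselization commutes with integral base change. -/
theorem result {A B Ah Bh : Type u} [CommRing A]
    [CommRing B] [CommRing Ah] [CommRing Bh] [Algebra A B] (I : Ideal A) (J : Ideal B)
    (hIJ : I.map (algebraMap A B) ≤ J) (hrad : J.radical = (I.map (algebraMap A B)).radical)
    [Algebra.IsIntegral A B] [Algebra A Ah] (hA : Hens2.IsPairHenselization A I Ah)
    [Algebra B Bh] [Algebra A Bh] [IsScalarTower A B Bh] (hB : Hens2.IsPairHenselization B J Bh)
    (φ : Ah →ₐ[A] Bh) :
    Function.Bijective (Algebra.TensorProduct.productMap φ (IsScalarTower.toAlgHom A B Bh)) := by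
  letI : Algebra Ah (B ⊗[A] Ah) := Algebra.TensorProduct.rightAlgebra
  have h := Groth.L05.Henselization.isPairHenselization_tensor I J hIJ
    (Ideal.le_radical.trans hrad.le) hA
  obtain ⟨e, he⟩ := Groth.L05.Henselization.isPairHenselization_algEquiv B J h hB
  let ψ : B ⊗[A] Ah →ₐ[B] Bh :=
    Algebra.TensorProduct.lift (Algebra.ofId B Bh) φ fun _ _ => Commute.all _ _
  have h1 : Function.Bijective ψ := by
    rw [he ψ]
    exact e.bijective
  have h2 : ⇑(Algebra.TensorProduct.productMap φ (IsScalarTower.toAlgHom A B Bh)) =
      ⇑ψ ∘ ⇑(Algebra.TensorProduct.comm A Ah B) := by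
    funext z
    induction z using TensorProduct.induction_on with
    | zero => simp
    | tmul a b => simp [ψ, mul_comm, Algebra.TensorProduct.productMap_apply_tmul]
    | add x y hx hy => simp only [map_add, Function.comp_apply] at *; rw [hx, hy]
  rw [h2]
  exact h1.comp (Algebra.TensorProduct.comm A Ah B).bijective

end Groth.Agent.S9324
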