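import Groth.Statements.S9325
import Groth.Agent.L19.Thick.H1Reg
import Mathlib.RingTheory.Localization.Algebra

set_option autoImplicit false
set_option backward.isDefEq.respectTransparency.types false
set_option backward.isDefEq.respectTransparency false
universe u
open CAlg

namespace Groth.Agent.S9325

/-- Let `A` be a ring and `I ⊆ J` ideals of `A` such that the ideal `J/I` of `A/I` is `H_1`-regular: for
every prime `𝔮` of `A/I` containing `J/I` there is `g ∉ 𝔮` such that the extension of `J/I` to
`(A/I)_g` is generated by an `H_1`-regular sequence (a finite sequence all of whose linear relations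
are combinations of the trivial ones). Then `I ∩ J² = I J`. -/
theorem result {A : Type u} [CommRing A] (I J : Ideal A)
    (hIJ : I ≤ J)
    (h : ∀ (𝔮 : Ideal (A ⧸ I)) [𝔮.IsPrime], J.map (Ideal.Quotient.mk I) ≤ 𝔮 →
      ∃ g : A ⧸ I, g ∉ 𝔮 ∧ ∃ (c : ℕ) (f : Fin c → Localization.Away g),
        CAlgX.IsH1Regular f ∧
          Ideal.span (Set.range f) =
            (J.map (Ideal.Quotient.mk I)).map (algebraMap (A ⧸ I) (Localization.Away g))) :
    I ⊓ J ^ 2 = I * J := by
  classical
  refine le_antisymm (fun x hx => ?_) (le_inf Ideal.mul_le_left ((Ideal.mul_mono_left hIJ).trans_eq (pow_two J).symm))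
  obtain ⟨hxI, hxJ⟩ := hx
  let C : Ideal A := (I * J).colon {x}
  suffices hC : C = ⊤ by
    have h1 : (1 : A) ∈ C := hC ▸ Submodule.mem_top
    simpa using Submodule.mem_colon_singleton.mp h1
  by_contra hne
  obtain ⟨m, hm, hCm⟩ := Ideal.exists_le_maximal C hne
  have hJm : J ≤ m := fun a ha => hCm (Submodule.mem_colon_singleton.mpr (by
    rw [smul_eq_mul, mul_comm a x]
    exact Ideal.mul_mem_mul hxI ha))
  have hker : RingHom.ker (Ideal.Quotient.mk I) ≤ m := by rw [Ideal.mk_ker]; exact hIJ.trans hJm
  haveI := Ideal.map_isPrime_of_surjective (f := Ideal.Quotient.mk I) (I := m) Ideal.Quotient.mk_surjective hker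
  obtain ⟨g, hg, c, f, hf, hspan⟩ := h (m.map (Ideal.Quotient.mk I)) (Ideal.map_mono hJm)
  obtain ⟨g', rfl⟩ := Ideal.Quotient.mk_surjective g
  have hg' : g' ∉ m := fun h' => hg (Ideal.mem_map_of_mem _ h')
  let A' := Localization.Away g'
  let B' := Localization.Away (Ideal.Quotient.mk I g')
  haveI : IsLocalization ((Submonoid.powers g').map (Ideal.Quotient.mk I)) B' := by
    rw [Submonoid.map_powers]; infer_instance
  let q : A' →+* B' := IsLocalization.map B' (Ideal.Quotient.mk I) (Submonoid.powers g').le_comap_map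
  have hq : Function.Surjective q :=
    IsLocalization.map_surjective_of_surjective _ _ _ Ideal.Quotient.mk_surjective
  have hkerq : RingHom.ker q = I.map (algebraMap A A') := by
    rw [IsLocalization.ker_map (S := A') (Q := B') (g := Ideal.Quotient.mk I)
      (T := (Submonoid.powers g').map (Ideal.Quotient.mk I)) rfl, Ideal.mk_ker]
  choose f' hf' using fun i => hq (f i)
  let J' := J.map (algebraMap A A')
  have hJ' : J' = RingHom.ker q ⊔ Ideal.span (Set.range f') := by
    have e1 : (Ideal.span (Set.range f')).map q = J'.map q := by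
      rw [Ideal.map_span, ← Set.range_comp]
      have : q ∘ f' = f := funext hf'
      rw [this, hspan, Ideal.map_map, Ideal.map_map, IsLocalization.map_comp]
    have hle : RingHom.ker q ≤ J' := hkerq ▸ Ideal.map_mono hIJ
    have e2 := congrArg (Ideal.comap q) e1
    rw [Ideal.comap_map_of_surjective q hq, Ideal.comap_map_of_surjective q hq, ← RingHom.ker_eq_comap_bot,
      sup_eq_left.mpr hle] at e2
    rw [← e2, sup_comm]
  have hx1 := Groth.L19.Thick.mem_mul_of_h1Regular q hq J' f' hJ' (by simpa only [hf'] using hf)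
    (algebraMap A A' x) (hkerq ▸ Ideal.mem_map_of_mem _ hxI) (by
      rw [← Ideal.map_mul, ← pow_two]; exact Ideal.mem_map_of_mem _ hxJ)
  rw [hkerq, ← Ideal.map_mul] at hx1
  obtain ⟨_, ⟨k, rfl⟩, hk⟩ := (IsLocalization.algebraMap_mem_map_algebraMap_iff (Submonoid.powers g') A' (I * J) x).mp hx1
  exact hg' (hm.isPrime.mem_of_pow_mem k (hCm (Submodule.mem_colon_singleton.mpr hk)))

end Groth.Agent.S9325
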