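import Groth.Statements.S9326
import Groth.Agent.L05.LinTop.QuotientCompletion
-- import your own Groth.Agent.* helpers here

set_option autoImplicit false
universe u
open CAlg

namespace Groth.Agent.S9326

/-- Let `u : N → M` be a continuous homomorphism of topological abelian groups. Assume `M` is Hausdorff
and `N` is Hausdorff and complete, linearly topologized (every neighbourhood of zero contains an
open subgroup) and first countable (zero has a countable basis of neighbourhoods). Then exactly one
of two things holds: `u` is an open map; or there is an open subgroup of `N` whose image is nowhere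
dense in `M`. -/
theorem result {N M : Type u} [AddCommGroup N]
    [AddCommGroup M] [UniformSpace N] [IsUniformAddGroup N] [TopologicalSpace M]
    [IsTopologicalAddGroup M] [T2Space M] [T2Space N] [CompleteSpace N] [NonarchimedeanAddGroup N]
    [FirstCountableTopology N] (u : N →+ M) (hu : Continuous u) :
    Xor (IsOpenMap u) (∃ V : OpenAddSubgroup N, IsNowhereDense (u '' (V : Set N))) := by
  by_cases h : ∃ V : OpenAddSubgroup N, IsNowhereDense (u '' (V : Set N))
  · obtain ⟨V, hV⟩ := h
    refine Or.inr ⟨⟨V, hV⟩, fun ho => ?_⟩
    have h1 : (0 : M) ∈ interior (closure (u '' (V : Set N))) :=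
      interior_mono subset_closure (by
        rw [(ho _ V.isOpen).interior_eq]
        exact ⟨0, zero_mem V, map_zero u⟩)
    rw [hV] at h1
    exact h1
  · refine Or.inl ⟨?_, h⟩
    push Not at h
    have hcl : ∀ H : OpenAddSubgroup N, IsOpen (closure (u '' (H : Set N))) := by
      intro H
      obtain ⟨x, hx⟩ := Set.nonempty_iff_ne_empty.2 (h H)
      exact (H.toAddSubgroup.map u).topologicalClosure.isOpen_of_mem_nhds
        (g := x) (mem_interior_iff_mem_nhds.1 hx)
    have himg : ∀ H : OpenAddSubgroup N, IsOpen (u '' (H : Set N)) := fun H => by
      rw [subset_antisymm subset_closure (Groth.L05.LinTop.closure_image_subset_image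
        inferInstance u hu hcl H)]
      exact hcl H
    intro U hU
    rw [isOpen_iff_mem_nhds]
    rintro _ ⟨x, hx, rfl⟩
    have hU0 : (fun a => x + a) ⁻¹' U ∈ nhds (0 : N) :=
      (hU.preimage (continuous_const.add continuous_id)).mem_nhds (by simpa using hx)
    obtain ⟨H, hH⟩ := NonarchimedeanAddGroup.is_nonarchimedean _ hU0
    have h2 : IsOpen ((fun b => b - u x) ⁻¹' (u '' (H : Set N))) :=
      (himg H).preimage (continuous_id.sub continuous_const)
    refine Filter.mem_of_superset (h2.mem_nhds ?_) ?_
    · exact ⟨0, zero_mem H, by simp⟩
    · rintro b ⟨a, ha, hab⟩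
      exact ⟨x + a, hH ha, (map_add u x a).trans (by simp only at hab; rw [hab, add_sub_cancel])⟩

end Groth.Agent.S9326
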