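import Groth.Agent.L18.FibrePoints
import Groth.Statements.S9333
-- import your own Groth.Agent.* helpers here

set_option autoImplicit false
universe u
open QFin

namespace Groth.Agent.S9333

open AlgebraicGeometry CategoryTheory in
/-- Let f : X → S be locally of finite type, g : S' → S any morphism and X' = X ×_S S' with projections
g' : X' → X and f' : X' → S'. If x' ∈ X' maps to x ∈ X and x is closed in the fibre X_{f x}, then x'
is closed in the fibre X'_{f' x'}. -/
theorem result {X S X' S' : Scheme.{u}} (f : X ⟶ S) [LocallyOfFiniteType f] (g : S' ⟶ S)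
    (g' : X' ⟶ X) (f' : X' ⟶ S') (hsq : IsPullback g' f' f g) (x' : X')
    (hx : IsClosed ({f.asFiber (g'.base x')} : Set ↑(f.fiber (f.base (g'.base x'))))) :
    IsClosed ({f'.asFiber x'} : Set ↑(f'.fiber (f'.base x'))) := by
  haveI hlft : ∀ t : S, @LocallyOfFiniteType (f.fiber t) (Spec (CommRingCat.of (S.residueField t))) (f.fiberToSpecResidueField t) := fun t =>
    MorphismProperty.pullback_snd _ _ inferInstance
  obtain ⟨p, sq, hp⟩ := Groth.L18.FP.exists_fiberMap f hsq (f'.base x')
  refine @Groth.L18.FP.isClosed_baseChange _ _ _ _ _ _ _ (hlft _) _ _ _ sq (f'.asFiber x') ?_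
  refine (Groth.L18.FP.isClosed_fiber_iff f _ _).mpr ?_
  have e : (f.fiberι (g.base (f'.base x'))).base (p.base (f'.asFiber x')) = g'.base x' := by
    rw [← Scheme.Hom.comp_apply, hp, Scheme.Hom.comp_apply, f'.fiberι_asFiber]
  rw [e]
  exact hx

end Groth.Agent.S9333
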