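import Groth.Agent.L18.FibrePoints
import Groth.Statements.S9335
-- import your own Groth.Agent.* helpers here

set_option autoImplicit false
universe u
open QFin

namespace Groth.Agent.S9335

open AlgebraicGeometry CategoryTheory in
/-- If f : X → S is of finite type and s ∈ S, then f is quasi-finite at only finitely many points of the
fibre over s. -/
theorem result {X S : Scheme.{u}} (f : X ⟶ S) [LocallyOfFiniteType f] [QuasiCompact f] (s : S) :
    {x : ↑X | f.base x = s ∧ f.QuasiFiniteAt x}.Finite := by
  haveI hlft : ∀ t : S, @LocallyOfFiniteType (f.fiber t) (Spec (CommRingCat.of (S.residueField t))) (f.fiberToSpecResidueField t) := fun t =>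
    MorphismProperty.pullback_snd _ _ inferInstance
  haveI : IsLocallyNoetherian (f.fiber s) := @Groth.L18.FP.isLocallyNoetherian_of_lft _ _ _ (f.fiberToSpecResidueField s) (hlft _)
  haveI : IsNoetherian (f.fiber s) := {}
  have hfin : {z : f.fiber s | IsOpen ({z} : Set (f.fiber s))}.Finite := by
    refine (TopologicalSpace.NoetherianSpace.isCompact _).finite ?_
    rw [isDiscrete_iff_discreteTopology, discreteTopology_iff_isOpen_singleton]
    rintro ⟨z, hz⟩
    refine ⟨{z}, hz, ?_⟩
    ext w
    exact ⟨fun hw => Subtype.ext hw, fun hw => congrArg Subtype.val hw⟩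
  refine (hfin.image (f.fiberι s).base).subset ?_
  rintro x ⟨hx, hq⟩
  obtain ⟨z, rfl⟩ := (f.range_fiberι s).ge hx
  exact ⟨z, (Groth.L18.FP.quasiFiniteAt_iff f s z).mp hq, rfl⟩

end Groth.Agent.S9335
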