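import Groth.Agent.L18.FibrePoints
import Groth.Statements.S9336
-- import your own Groth.Agent.* helpers here

set_option autoImplicit false
universe u
open QFin

namespace Groth.Agent.S9336

open AlgebraicGeometry CategoryTheory in
/-- Let f : X → Y be surjective and g : Y → S locally of finite type. If g ∘ f is locally quasi-finite
(and locally of finite type), then g is locally quasi-finite. -/
theorem result {X Y S : Scheme.{u}} (f : X ⟶ Y) (g : Y ⟶ S) [Surjective f]
    [LocallyQuasiFinite (f ≫ g)] [LocallyOfFiniteType (f ≫ g)] [LocallyOfFiniteType g] :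
    LocallyQuasiFinite g := by
  haveI hlft : ∀ t : S, @LocallyOfFiniteType (g.fiber t) (Spec (CommRingCat.of (S.residueField t))) (g.fiberToSpecResidueField t) := fun t =>
    MorphismProperty.pullback_snd _ _ inferInstance
  rw [← Scheme.Hom.quasiFiniteLocus_eq_top_iff]
  refine top_le_iff.mp fun y _ => ?_
  rw [Scheme.Hom.mem_quasiFiniteLocus]
  suffices key : ∀ (s : S) (z : g.fiber s), g.QuasiFiniteAt ((g.fiberι s).base z) by
    have := key (g.base y) (g.asFiber y)
    rwa [g.fiberι_asFiber] at this
  intro s z
  -- every point of the fibre is closed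
  have hcl : ∀ w : g.fiber s, IsClosed ({w} : Set (g.fiber s)) := fun w => by
    refine (Groth.L18.FP.isClosed_fiber_iff g s w).mpr ?_
    obtain ⟨x, hx⟩ := f.surjective ((g.fiberι s).base w)
    rw [← hx]
    refine (Groth.L18.FP.isClosed_asFiber_iff g _).mpr ?_
    have h1 := (Groth.L18.FP.isClosed_asFiber_iff (f ≫ g) x).mp
      ((f ≫ g).quasiFiniteAt x).isClopen_singleton_asFiber.isClosed
    replace h1 : ((f.residueFieldMap x).hom.comp (g.residueFieldMap (f.base x)).hom).Finite :=
      (congrArg RingHom.Finite (congrArg CommRingCat.Hom.hom (Scheme.residueFieldMap_comp f g x))).mp h1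
    letI := (g.residueFieldMap (f.base x)).hom.toAlgebra
    letI := (f.residueFieldMap x).hom.toAlgebra
    letI := ((f.residueFieldMap x).hom.comp (g.residueFieldMap (f.base x)).hom).toAlgebra
    haveI : IsScalarTower (S.residueField (g.base (f.base x))) (Y.residueField (f.base x)) (X.residueField x) :=
      IsScalarTower.of_algebraMap_eq' rfl
    haveI : Module.Finite (S.residueField (g.base (f.base x))) (X.residueField x) := h1
    exact Module.Finite.of_injective
      (IsScalarTower.toAlgHom (S.residueField (g.base (f.base x))) (Y.residueField (f.base x)) (X.residueField x)).toLinearMap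
      (RingHom.injective _)
  exact (Groth.L18.FP.quasiFiniteAt_iff g s z).mpr ((@Groth.L18.FP.isOpen_iff _ _ _ (g.fiberToSpecResidueField s) (hlft _) z).mpr
    ⟨hcl z, fun w hw => (hw.mem_closed (hcl w) rfl).symm⟩)

end Groth.Agent.S9336
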