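import Groth.Statements.S9343
import Mathlib.AlgebraicGeometry.PullbackCarrier
import Groth.Agent.L19.Closure
-- import your own Groth.Agent.* helpers here

set_option autoImplicit false
universe u
open Dom

namespace Groth.Agent.S9343

open AlgebraicGeometry CategoryTheory in
/-- The base change of a quasi-compact dominant morphism f : X → S along a morphism g : S' → S along
which generalizations lift is dominant. -/
theorem result {X S X' S' : Scheme.{u}} (f : X ⟶ S) [QuasiCompact f] [IsDominant f]
    (g : S' ⟶ S) (g' : X' ⟶ X) (f' : X' ⟶ S') (hsq : IsPullback g' f' f g) (hg : GeneralizingMap g.base) :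
    IsDominant f' := by
  refine ⟨fun s' => ?_⟩
  have hd : g.base s' ∈ closure (Set.range f.base) := by
    rw [f.denseRange.closure_range]; trivial
  obtain ⟨x, hx⟩ := Groth.L19.exists_specializes_of_mem_closure_range f hd
  obtain ⟨t, ht, hgt⟩ := hg hx
  have ht' : t ∈ Set.range f'.base := by
    have h1 : t ∈ Set.range (CategoryTheory.Limits.pullback.snd f g) := by
      rw [Scheme.Pullback.range_snd]; exact ⟨x, hgt.symm⟩
    obtain ⟨z, rfl⟩ := h1
    exact ⟨hsq.isoPullback.inv z, by rw [← Scheme.Hom.comp_apply, hsq.isoPullback_inv_snd]⟩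
  exact closure_mono (Set.singleton_subset_iff.2 ht') ht.mem_closure

end Groth.Agent.S9343
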