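import Groth.Statements.S9345
import Mathlib.AlgebraicGeometry.Morphisms.UnderlyingMap
import Mathlib.AlgebraicGeometry.Properties
import Mathlib.Topology.Sober
-- import your own Groth.Agent.* helpers here

set_option autoImplicit false
universe u
open Dom

namespace Groth.Agent.S9345

open AlgebraicGeometry CategoryTheory in
/-- For a morphism f : X → S whose source has only finitely many irreducible components, the image of f
is dense exactly when it contains the generic point of each irreducible component of S, and then S
too has finitely many. -/
theorem result {X S : Scheme.{u}} (f : X ⟶ S)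
    (hX : (irreducibleComponents (↑X : Type u)).Finite) :
    (IsDominant f ↔ ∀ s : ↑S, closure {s} ∈ irreducibleComponents (↑S : Type u) → s ∈ Set.range f.base) ∧
      (IsDominant f → (irreducibleComponents (↑S : Type u)).Finite) := by
  have gen : ∀ (T : Scheme.{u}) (t : T), ∃ η : T, η ⤳ t ∧ closure {η} ∈ irreducibleComponents (↑T : Type u) :=
    fun T t => ⟨(isIrreducible_irreducibleComponent (x := t)).genericPoint,
      ((isIrreducible_irreducibleComponent (x := t)).isGenericPoint_genericPoint
        isClosed_irreducibleComponent).specializes mem_irreducibleComponent, by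
      rw [(isIrreducible_irreducibleComponent (x := t)).closure_genericPoint isClosed_irreducibleComponent]
      exact irreducibleComponent_mem_irreducibleComponents t⟩
  let G : Set X := {η | closure {η} ∈ irreducibleComponents (↑X : Type u)}
  have hG : G.Finite := by
    refine Set.Finite.of_finite_image (f := fun η => closure {η}) (hX.subset (by rintro _ ⟨η, hη, rfl⟩; exact hη)) ?_
    intro a _ b _ hab
    exact (inseparable_iff_closure_eq.mpr hab).eq
  have hcov : IsDominant f → ∀ s : S, ∃ η ∈ G, f.base η ⤳ s := by
    intro hdom s
    have hclosed : IsClosed (⋃ η ∈ G, closure {f.base η}) := hG.isClosed_biUnion fun η _ => isClosed_closure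
    have hsub : Set.range f.base ⊆ ⋃ η ∈ G, closure {f.base η} := by
      rintro _ ⟨x, rfl⟩
      obtain ⟨η, hη, hη'⟩ := gen X x
      exact Set.mem_biUnion hη' (hη.map f.continuous).mem_closure
    have := closure_minimal hsub hclosed (hdom.denseRange s)
    simp only [Set.mem_iUnion, exists_prop] at this
    obtain ⟨η, hη, hs⟩ := this
    exact ⟨η, hη, specializes_iff_mem_closure.mpr hs⟩
  have hgen : IsDominant f → ∀ s : S, closure {s} ∈ irreducibleComponents (↑S : Type u) →
      ∃ η ∈ G, f.base η = s := by
    intro hdom s hs
    obtain ⟨η, hη, hsp⟩ := hcov hdom s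
    refine ⟨η, hη, (inseparable_iff_closure_eq.mpr (subset_antisymm ?_ (specializes_iff_closure_subset.mp hsp))).eq⟩
    exact hs.2 isIrreducible_singleton.closure (specializes_iff_closure_subset.mp hsp)
  refine ⟨⟨fun hdom s hs => ?_, fun h => ⟨fun s => ?_⟩⟩, fun hdom => ?_⟩
  · obtain ⟨η, -, rfl⟩ := hgen hdom s hs
    exact ⟨η, rfl⟩
  · obtain ⟨η, hη, hη'⟩ := gen S s
    exact closure_mono (Set.singleton_subset_iff.mpr (h η hη')) hη.mem_closure
  · refine (hG.image fun η => closure {f.base η}).subset fun C hC => ?_
    have hirr : IsIrreducible C := hC.1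
    have hcl := isClosed_of_mem_irreducibleComponents C hC
    have heq := hirr.closure_genericPoint hcl
    obtain ⟨η, hη, he⟩ := hgen hdom hirr.genericPoint (by rw [heq]; exact hC)
    exact ⟨η, hη, by rw [← heq, ← he]⟩

end Groth.Agent.S9345
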