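import Groth.Statements.S9346
import Mathlib.AlgebraicGeometry.FunctionField
import Mathlib.AlgebraicGeometry.Morphisms.UnderlyingMap
import Mathlib.Tactic.TFAE
-- import your own Groth.Agent.* helpers here

set_option autoImplicit false
universe u
open Dom

namespace Groth.Agent.S9346

open AlgebraicGeometry CategoryTheory in
/-- For a morphism f : X → Y between integral schemes, these six conditions coincide: (1) f is dominant;
(2) f sends the generic point of X to that of Y; (3) there exist affine opens U ⊆ X, V ⊆ Y with U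
nonempty and U ⊆ f⁻¹V such that the induced ring map on sections is injective; (4) the same for all
such pairs; (5) for some x ∈ X the map of local rings O_{Y,f x} → O_{X,x} is injective; (6) the same
for all x. -/
theorem result {X Y : Scheme.{u}} [AlgebraicGeometry.IsIntegral X] [AlgebraicGeometry.IsIntegral Y] (f : X ⟶ Y) :
    [IsDominant f,
      f.base (genericPoint ↑X) = genericPoint ↑Y,
      ∃ (U : X.Opens) (V : Y.Opens) (hUV : U ≤ f ⁻¹ᵁ V), IsAffineOpen U ∧ IsAffineOpen V ∧ (U : Set ↑X).Nonempty ∧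
        Function.Injective (f.appLE V U hUV),
      ∀ (U : X.Opens) (V : Y.Opens) (hUV : U ≤ f ⁻¹ᵁ V), IsAffineOpen U → IsAffineOpen V → (U : Set ↑X).Nonempty →
        Function.Injective (f.appLE V U hUV),
      ∃ x : ↑X, Function.Injective (f.stalkMap x),
      ∀ x : ↑X, Function.Injective (f.stalkMap x)].TFAE := by
  open AlgebraicGeometry CategoryTheory in
  let ξ := genericPoint ↑X
  have hξ : ∀ (U : X.Opens), (U : Set X).Nonempty → ξ ∈ U := fun U hU =>
    (((genericPoint_spec (X : Type u)).mem_open_set_iff U.2).mpr (by simpa using hU))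
  have key : ∀ (x : X) (U : X.Opens) (V : Y.Opens) (hUV : U ≤ f ⁻¹ᵁ V), x ∈ U →
      Function.Injective (f.stalkMap x) → Function.Injective (f.appLE V U hUV) := by
    intro x U V hUV hxU hinj a b hab
    apply germ_injective_of_isIntegral Y (f x) (show f x ∈ V from hUV hxU)
    apply hinj
    rw [Scheme.Hom.germ_stalkMap_apply, Scheme.Hom.germ_stalkMap_apply]
    have h1 := congrArg (X.presheaf.germ U x hxU) hab
    simp only [Scheme.Hom.appLE, CommRingCat.comp_apply, TopCat.Presheaf.germ_res_apply] at h1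
    exact h1
  have aff : ∀ x : X, ∃ (U : X.Opens) (V : Y.Opens) (_ : U ≤ f ⁻¹ᵁ V), IsAffineOpen U ∧ IsAffineOpen V ∧ x ∈ U := by
    intro x
    obtain ⟨_, ⟨V, hV, rfl⟩, hy, -⟩ :=
      Y.isBasis_affineOpens.exists_subset_of_mem_open (Set.mem_univ (f.base x)) isOpen_univ
    obtain ⟨_, ⟨U, hU, rfl⟩, hx, hUV⟩ :=
      X.isBasis_affineOpens.exists_subset_of_mem_open (show x ∈ f ⁻¹ᵁ V from hy) (f ⁻¹ᵁ V).2
    exact ⟨U, V, hUV, hU, hV, hx⟩
  tfae_have 1 → 2 := fun h => by
    refine (genericPoint_spec (Y : Type u)).eq ?_ |>.symm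
    show closure {f.base ξ} = _
    refine Set.univ_subset_iff.mp ?_
    rw [← h.denseRange.closure_range]
    refine closure_minimal ?_ isClosed_closure
    rintro _ ⟨x, rfl⟩
    exact (((genericPoint_spec (X : Type u)).specializes (Set.mem_univ x)).map f.continuous).mem_closure
  tfae_have 2 → 1 := fun h => by
    refine ⟨dense_iff_closure_eq.mpr (Set.univ_subset_iff.mp ?_)⟩
    rw [← (genericPoint_spec (Y : Type u)).def, ← h]
    exact closure_mono (Set.singleton_subset_iff.mpr ⟨ξ, rfl⟩)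
  tfae_have 2 → 6 := fun h x => by
    have hs : ξ ⤳ x := (genericPoint_spec (X : Type u)).specializes (Set.mem_univ x)
    intro a b hab
    have h1 := congrArg (X.presheaf.stalkSpecializes hs) hab
    rw [← Scheme.Hom.stalkSpecializes_stalkMap_apply, ← Scheme.Hom.stalkSpecializes_stalkMap_apply] at h1
    have hfld : IsField (Y.presheaf.stalk (f.base ξ)) := by
      rw [h]; exact Field.toIsField Y.functionField
    letI := hfld.toField
    have h2 := (f.stalkMap ξ).hom.injective h1
    obtain ⟨U, hU, a', rfl⟩ := Y.presheaf.exists_germ_eq a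
    obtain ⟨W, hW, b', rfl⟩ := Y.presheaf.exists_germ_eq b
    have hsp : f.base ξ ⤳ f.base x := hs.map f.continuous
    rw [TopCat.Presheaf.germ_stalkSpecializes_apply, TopCat.Presheaf.germ_stalkSpecializes_apply] at h2
    rw [← Y.presheaf.germ_res_apply (homOfLE (inf_le_left : U ⊓ W ≤ U)) (f.base x) ⟨hU, hW⟩ a',
      ← Y.presheaf.germ_res_apply (homOfLE (inf_le_right : U ⊓ W ≤ W)) (f.base x) ⟨hU, hW⟩ b']
    congr 1
    apply germ_injective_of_isIntegral Y (U := U ⊓ W) (f.base ξ) (show f.base ξ ∈ U ⊓ W from ⟨hsp.mem_open U.2 hU, hsp.mem_open W.2 hW⟩)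
    erw [TopCat.Presheaf.germ_res_apply, TopCat.Presheaf.germ_res_apply]
    exact h2
  tfae_have 6 → 5 := fun h => ⟨ξ, h ξ⟩
  tfae_have 5 → 3 := fun ⟨x, hx⟩ => by
    obtain ⟨U, V, hUV, hU, hV, hxU⟩ := aff x
    exact ⟨U, V, hUV, hU, hV, ⟨x, hxU⟩, key x U V hUV hxU hx⟩
  tfae_have 6 → 4 := fun h U V hUV _ _ ⟨x, hx⟩ => key x U V hUV hx (h x)
  tfae_have 4 → 3 := fun h => by
    obtain ⟨U, V, hUV, hU, hV, hxU⟩ := aff ξ
    exact ⟨U, V, hUV, hU, hV, ⟨ξ, hxU⟩, h U V hUV hU hV ⟨ξ, hxU⟩⟩
  tfae_have 3 → 2 := by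
    rintro ⟨U, V, hUV, hU, hV, hne, hinj⟩
    refine ((genericPoint_spec (Y : Type u)).eq ?_).symm
    show closure {f.base ξ} = Set.univ
    rw [← dense_iff_closure_eq, dense_iff_inter_open]
    intro W hW ⟨w, hw⟩
    refine ⟨f.base ξ, ?_, rfl⟩
    have hVne : (V : Set Y).Nonempty := hne.imp' f.base fun x hx => hUV hx
    obtain ⟨y, hyW, hyV⟩ := nonempty_preirreducible_inter hW V.2 ⟨w, hw⟩ hVne
    obtain ⟨s, hs, hys⟩ := hV.exists_basicOpen_le (V := ⟨W, hW⟩) ⟨y, hyW⟩ hyV
    refine hs ?_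
    have hs0 : s ≠ 0 := by
      rintro rfl
      simp at hys
    have hne0 : (f.appLE V U hUV) s ≠ 0 := fun hc => hs0 (hinj (by rw [hc, map_zero]))
    have hmem : ξ ∈ X.basicOpen ((f.appLE V U hUV) s) := by
      refine hξ _ ?_
      rw [Set.nonempty_iff_ne_empty]
      intro hc
      exact hne0 ((basicOpen_eq_bot_iff _).mp (TopologicalSpace.Opens.ext hc))
    rw [Scheme.Hom.appLE, CommRingCat.comp_apply, Scheme.basicOpen_res, ← Scheme.preimage_basicOpen] at hmem
    exact hmem.2
  tfae_finish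

end Groth.Agent.S9346
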