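import Groth.Statements.S9348
import Mathlib.AlgebraicGeometry.PullbackCarrier
import Mathlib.AlgebraicGeometry.Morphisms.QuasiCompact
-- import your own Groth.Agent.* helpers here

set_option autoImplicit false
universe u
open Dom

namespace Groth.Agent.S9348

open AlgebraicGeometry CategoryTheory in
/-- Let f : X → Y be a morphism and g : Y' → Y open and surjective. If the base change f' : X ×_Y Y' →
Y' of f is quasi-compact, then so is f. -/
theorem result {X Y X' Y' : Scheme.{u}} (f : X ⟶ Y) (g : Y' ⟶ Y) [Surjective g]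
    (hg : IsOpenMap g.base) (g' : X' ⟶ X) (f' : X' ⟶ Y') (hsq : IsPullback g' f' f g) [QuasiCompact f'] :
    QuasiCompact f := by
  refine ⟨fun U hU hUc => ?_⟩
  let ι := {W : Y'.affineOpens // (W.1 : Set Y') ⊆ g.base ⁻¹' U}
  have hcov : U ⊆ ⋃ W : ι, g.base '' (W.1.1 : Set Y') := by
    intro y hy
    obtain ⟨y', rfl⟩ := g.surjective y
    obtain ⟨W, hW, hyW, hWU⟩ := TopologicalSpace.Opens.isBasis_iff_nbhd.mp Y'.isBasis_affineOpens
      (U := ⟨_, hU.preimage g.base.hom.continuous⟩) hy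
    exact Set.mem_iUnion.2 ⟨⟨⟨W, hW⟩, hWU⟩, y', hyW, rfl⟩
  obtain ⟨t, ht⟩ := hUc.elim_finite_subcover (fun W : ι => g.base '' (W.1.1 : Set Y'))
    (fun W => hg _ W.1.1.isOpen) hcov
  let W0 : Set Y' := ⋃ W ∈ t, (W.1.1 : Set Y')
  have hW0c : IsCompact W0 := t.isCompact_biUnion (fun W _ => W.1.2.isCompact)
  have hW0o : IsOpen W0 := isOpen_biUnion (fun W _ => W.1.1.isOpen)
  have hc : IsCompact (f'.base ⁻¹' W0) := QuasiCompact.isCompact_preimage _ hW0o hW0c
  suffices himg : f.base ⁻¹' U = g'.base '' (f'.base ⁻¹' W0) by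
    exact himg ▸ hc.image g'.base.hom.continuous
  ext x
  refine ⟨fun hx => ?_, ?_⟩
  · obtain ⟨W, hW⟩ := Set.mem_iUnion.1 (ht hx)
    obtain ⟨hWt, y', hy', hgy⟩ := Set.mem_iUnion.1 hW
    obtain ⟨z, hz1, hz2⟩ := Scheme.Pullback.exists_preimage_pullback (f := f) (g := g) x y' hgy.symm
    refine ⟨hsq.isoPullback.inv z, Set.mem_preimage.2 (Set.mem_iUnion₂.2 ⟨W, hWt, ?_⟩), ?_⟩
    · change f' (hsq.isoPullback.inv z) ∈ _
      rw [← Scheme.Hom.comp_apply, hsq.isoPullback_inv_snd, hz2]; exact hy'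
    · change g' (hsq.isoPullback.inv z) = _
      rw [← Scheme.Hom.comp_apply, hsq.isoPullback_inv_fst, hz1]
  · rintro ⟨z, hz, rfl⟩
    obtain ⟨W, hWt, hzW⟩ := Set.mem_iUnion₂.1 hz
    have := W.2 hzW
    change f (g' z) ∈ U
    rw [← Scheme.Hom.comp_apply, hsq.w, Scheme.Hom.comp_apply]
    exact this

end Groth.Agent.S9348
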