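import Groth.Statements.S9357
import Groth.Agent.L07.UnivOpenFibre
import Groth.Agent.L22.Cyc.RelDim
import Groth.Agent.L07.DimToolkit
-- import your own Groth.Agent.* helpers here

set_option autoImplicit false
universe u
open FibDim

namespace Groth.Agent.S9357

open AlgebraicGeometry CategoryTheory in
/-- Suppose both f : X → Y and g : Y → Z are morphisms locally of finite type. When the relative
dimension of f is at most d and that of g is at most e, the composite g ∘ f has relative dimension
at most d + e. Moreover, when f is flat of relative dimension exactly d and g is of relative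
dimension exactly e, the composite g ∘ f is of relative dimension exactly d + e (every nonempty
fibre equidimensional of that dimension). -/
theorem result {X Y Z : Scheme.{u}} (f : X ⟶ Y) (g : Y ⟶ Z) [LocallyOfFiniteType f] [LocallyOfFiniteType g] (d e : ℕ) :
    ((∀ x : ↑X, FlatMor.fibreDimAt f x ≤ d) → (∀ y : ↑Y, FlatMor.fibreDimAt g y ≤ e) →
        ∀ x : ↑X, FlatMor.fibreDimAt (f ≫ g) x ≤ (d + e : ℕ)) ∧
      (Cyc.HasRelDim f d → Cyc.HasRelDim g e → Flat f → Cyc.HasRelDim (f ≫ g) (d + e)) := by
  refine ⟨fun hf hg x => ?_, fun hd he hfl => ?_⟩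
  · obtain ⟨z, -, -, -, hz⟩ := Groth.L07.OpenEquiv.exists_maximal_fdim_eq (f ≫ g) x
    obtain ⟨n, hn, hnt⟩ := Groth.L07.DimToolkit.exists_fdim_rtrdeg (f ≫ g) z
    obtain ⟨p, hp, hpt⟩ := Groth.L07.DimToolkit.exists_fdim_rtrdeg f z
    obtain ⟨q, hq, hqt⟩ := Groth.L07.DimToolkit.exists_fdim_rtrdeg g (f z)
    rw [Groth.L22.Cyc.rtrdeg_comp, hqt, hpt] at hnt
    have hnpq : q + p = n := by exact_mod_cast hnt
    have h1 : p ≤ d := by exact_mod_cast hp ▸ (Groth.L07.Equidim.fdim_le_fibreDimAt f z).trans (hf z)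
    have h2 : q ≤ e := by exact_mod_cast hq ▸ (Groth.L07.Equidim.fdim_le_fibreDimAt g (f z)).trans (hg (f z))
    rw [← hz, hn]
    exact_mod_cast (show n ≤ d + e by omega)
  · haveI := hfl
    exact Groth.L22.Cyc.hasRelDim_comp f g hd he

end Groth.Agent.S9357
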