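import Mathlib.AlgebraicGeometry.Morphisms.SchemeTheoreticallyDominant
import Mathlib.AlgebraicGeometry.Morphisms.Separated
import Mathlib.AlgebraicGeometry.Morphisms.QuasiCompact

set_option autoImplicit false
set_option linter.style.haveILetI false
namespace SchDense
end SchDense
universe u
open SchDense

namespace Groth.Agent.S9360

open AlgebraicGeometry CategoryTheory in
/-- Let U ⊆ X be a reduced open subscheme. Then the scheme-theoretic closure of U in X is X if and only
if U is scheme-theoretically dense in X (for every open W the scheme-theoretic closure of U ∩ W in W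
is W); and in that case X is reduced. -/
theorem result (X : Scheme.{u}) (U : X.Opens) [IsReduced (↑U : Scheme.{u})] :
    (IsSchemeTheoreticallyDominant U.ι ↔
        ∀ W : X.Opens, IsSchemeTheoreticallyDominant (X.homOfLE (inf_le_right : U ⊓ W ≤ W))) ∧
      (IsSchemeTheoreticallyDominant U.ι → IsReduced X) := by
  have hvan : ∀ Z : TopologicalSpace.Closeds X, (U : Set X) ⊆ Z →
      Scheme.IdealSheafData.vanishingIdeal Z ≤ U.ι.ker := by
    intro Z hUZ
    refine Scheme.IdealSheafData.le_ofIdeals_iff.2 fun V s hs => ?_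
    rw [RingHom.mem_ker, ← basicOpen_eq_bot_iff, ← Scheme.preimage_basicOpen, eq_bot_iff]
    rintro ⟨x, hxU⟩ hx
    replace hx : x ∈ X.basicOpen s := hx
    have hxV : x ∈ (V : X.Opens) := X.basicOpen_le s hx
    obtain ⟨q, hq⟩ : x ∈ Set.range V.2.fromSpec := by rw [V.2.range_fromSpec]; exact hxV
    have h1 : q ∈ PrimeSpectrum.basicOpen s := by
      have : q ∈ V.2.fromSpec ⁻¹ᵁ X.basicOpen s := by
        show V.2.fromSpec q ∈ X.basicOpen s
        rw [hq]; exact hx
      rwa [V.2.fromSpec_preimage_basicOpen] at this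
    exact (h1 ((PrimeSpectrum.mem_vanishingIdeal _ _).1 hs q (by
      show V.2.fromSpec q ∈ (Z : Set X)
      rw [hq]; exact hUZ hxU))).elim
  have hmain : IsSchemeTheoreticallyDominant U.ι → IsReduced X ∧ Dense (U : Set X) := by
    intro h
    let Z : TopologicalSpace.Closeds X := ⟨closure (U : Set X), isClosed_closure⟩
    have hZ : Scheme.IdealSheafData.vanishingIdeal Z = ⊥ :=
      le_bot_iff.1 ((hvan Z subset_closure).trans_eq h.ker_eq_bot)
    have hZtop : Z = ⊤ := by
      have e : (Scheme.IdealSheafData.vanishingIdeal Z).support = Z := rfl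
      rw [← e, hZ, Scheme.IdealSheafData.support_bot]
    have hnil : X.nilradical = ⊥ := by
      rw [← Scheme.IdealSheafData.vanishingIdeal_top, ← hZtop, hZ]
    refine ⟨⟨fun W => ⟨fun s hs => X.IsSheaf.section_ext fun x hx => ?_⟩⟩, ?_⟩
    · obtain ⟨_, ⟨V, hV, rfl⟩, hxV, hVW : V ≤ W⟩ :=
        X.isBasis_affineOpens.exists_subset_of_mem_open hx W.isOpen
      refine ⟨V, hVW, hxV, ?_⟩
      have hn : IsNilpotent ((X.presheaf.map (homOfLE hVW).op).hom s) := hs.map _
      have h2 : (X.presheaf.map (homOfLE hVW).op).hom s ∈ X.nilradical.ideal ⟨V, hV⟩ := hn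
      rw [hnil, Scheme.IdealSheafData.ideal_bot, Pi.bot_apply, Ideal.mem_bot] at h2
      rw [h2, map_zero]
    · exact fun x => by
        have : x ∈ Z := hZtop ▸ trivial
        exact this
  refine ⟨⟨fun h W => ?_, fun h => ?_⟩, fun h => (hmain h).1⟩
  · obtain ⟨hred, hdense⟩ := hmain h
    haveI := hred
    haveI : IsDominant (X.homOfLE (inf_le_right : U ⊓ W ≤ W)) := by
      refine ⟨fun w => ?_⟩
      rw [mem_closure_iff]
      intro O hO hwO
      obtain ⟨x, ⟨y, hyO, rfl⟩, hxU⟩ := hdense.inter_open_nonempty _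
        (W.ι.isOpenEmbedding.isOpenMap _ hO) ⟨_, w, hwO, rfl⟩
      have hyW : (W.ι y) ∈ W := y.2
      let z : (U ⊓ W : X.Opens) := ⟨W.ι y, hxU, hyW⟩
      have hz : X.homOfLE (inf_le_right : U ⊓ W ≤ W) z = y := by
        apply W.ι.isOpenEmbedding.injective
        show (X.homOfLE _ ≫ W.ι) z = W.ι y
        rw [Scheme.homOfLE_ι]
        rfl
      exact ⟨y, hyO, z, hz⟩
    exact IsSchemeTheoreticallyDominant.of_isDominant _
  · haveI := h ⊤
    haveI : IsIso (⊤ : X.Opens).ι := ⟨X.topIso.inv, X.topIso.hom_inv_id, X.topIso.inv_hom_id⟩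
    have e : X.homOfLE (inf_le_left : U ⊓ ⊤ ≤ U) ≫ U.ι =
        X.homOfLE (inf_le_right : U ⊓ ⊤ ≤ ⊤) ≫ (⊤ : X.Opens).ι := by
      rw [Scheme.homOfLE_ι, Scheme.homOfLE_ι]
    refine ⟨le_bot_iff.1 ?_⟩
    refine (Scheme.Hom.le_ker_comp (X.homOfLE (inf_le_left : U ⊓ ⊤ ≤ U)) U.ι).trans_eq ?_
    rw [e]
    exact Scheme.Hom.ker_eq_bot _

end Groth.Agent.S9360
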