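import Mathlib.AlgebraicGeometry.Morphisms.SchemeTheoreticallyDominant
import Mathlib.AlgebraicGeometry.Morphisms.Separated
import Mathlib.AlgebraicGeometry.Morphisms.QuasiCompact
import Groth.Agent.L02.Misc.STD
import Mathlib.AlgebraicGeometry.Morphisms.QuasiSeparated

set_option autoImplicit false
set_option linter.style.haveILetI false
namespace SchImage
end SchImage
universe u
open SchImage

open CategoryTheory.Limits
namespace Groth.Agent.S9361

open AlgebraicGeometry CategoryTheory in
/-- Let f : X → Y be separated, V ⊆ Y a retrocompact open and s : V → X a section of f over V. If Y' ⊆ X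
is the scheme-theoretic image of s, then Y' → Y is an isomorphism over V. -/
theorem result {X Y : Scheme.{u}} (f : X ⟶ Y) [IsSeparated f] (V : Y.Opens) [QuasiCompact V.ι]
    (s : (↑V : Scheme.{u}) ⟶ X) (hs : s ≫ f = V.ι) :
    IsIso ((s.imageι ≫ f) ∣_ V) := by
  haveI : QuasiCompact (s ≫ f) := by rw [hs]; infer_instance
  haveI : QuasiCompact s := QuasiCompact.of_comp s f
  let g := s.imageι ≫ f
  haveI := Groth.L02.STD.toImage_dominant s
  have hle : s.toImage ⁻¹ᵁ (g ⁻¹ᵁ V) = ⊤ := by
    rw [← Scheme.Hom.comp_preimage, ← Category.assoc, Scheme.Hom.toImage_imageι, hs]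
    simp
  have hr : Set.range s.toImage ⊆ Set.range (g ⁻¹ᵁ V).ι := by
    rw [Scheme.Opens.range_ι]
    rintro _ ⟨x, rfl⟩
    exact (SetLike.ext_iff.1 hle x).2 trivial
  let l : (↑V : Scheme.{u}) ⟶ ↑(g ⁻¹ᵁ V) := IsOpenImmersion.lift (g ⁻¹ᵁ V).ι s.toImage hr
  have hl : l ≫ (g ⁻¹ᵁ V).ι = s.toImage := IsOpenImmersion.lift_fac _ _ _
  have hsec : l ≫ (g ∣_ V) = 𝟙 _ := by
    rw [← cancel_mono V.ι, Category.assoc, morphismRestrict_ι, reassoc_of% hl, Category.id_comp]
    show s.toImage ≫ s.imageι ≫ f = V.ι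
    rw [Scheme.Hom.toImage_imageι_assoc, hs]
  haveI : IsSeparated g := inferInstance
  haveI : IsSeparated (g ∣_ V) := MorphismProperty.of_isPullback (isPullback_morphismRestrict g V).flip inferInstance
  haveI : IsClosedImmersion (l ≫ (g ∣_ V)) := by rw [hsec]; infer_instance
  haveI : IsClosedImmersion l := IsClosedImmersion.of_comp l (g ∣_ V)
  have hpb : IsPullback (𝟙 _) l s.toImage (g ⁻¹ᵁ V).ι :=
    ⟨⟨by rw [Category.id_comp, hl]⟩, ⟨PullbackCone.IsLimit.mk _ (fun c => c.fst)
      (fun c => Category.comp_id _)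
      (fun c => by rw [← cancel_mono (g ⁻¹ᵁ V).ι, Category.assoc, hl]; exact c.condition)
      (fun c m h1 _ => (Category.comp_id m).symm.trans h1)⟩⟩
  haveI : IsSchemeTheoreticallyDominant l := IsSchemeTheoreticallyDominant.of_isPullback hpb
  haveI := Groth.L02.STD.isIso_of_closedImmersion_of_dominant l
  exact ⟨⟨l, by rw [← cancel_epi l, ← Category.assoc, hsec, Category.id_comp, Category.comp_id], hsec⟩⟩

end Groth.Agent.S9361
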