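import Groth.Statements.S9362
import Groth.Agent.L17.QCohGab.Groth
import Mathlib.CategoryTheory.Abelian.Images

set_option autoImplicit false
universe u
open QCohSub

namespace Groth.Agent.S9362

open AlgebraicGeometry CategoryTheory in
/-- Let F be a quasi-coherent O_X-module and G ⊆ F an O_X-submodule. There is a quasi-coherent submodule
G' ⊆ G such that Hom(H, G') → Hom(H, G) is bijective for every quasi-coherent O_X-module H; in
particular G' is the largest quasi-coherent submodule of F contained in G (it is unique up to unique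
isomorphism over G). -/
theorem result (X : Scheme.{u}) (F G : X.Modules) (hF : Coh.IsQCoh F) (j : G ⟶ F) [Mono j] :
    ∃ (G' : X.Modules) (k : G' ⟶ G), Coh.IsQCoh G' ∧ Mono k ∧
      ∀ H : X.Modules, Coh.IsQCoh H → Function.Bijective (fun φ : H ⟶ G' => φ ≫ k) := by
  obtain ⟨⟨Q, ⟨adj⟩⟩⟩ := Groth.L17.QCohGab.isLeftAdjoint_of_preservesColimits X (QCohCat.isQCoh X).ι
  let ε : (Q.obj G).obj ⟶ G := adj.counit.app G
  refine ⟨Abelian.image ε, Abelian.image.ι ε, ?_, inferInstance, fun H hH => ⟨fun a b h => (cancel_mono (Abelian.image.ι ε)).1 h, fun φ => ?_⟩⟩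
  · haveI := hF
    have hK : Coh.IsQCoh (Limits.kernel (ε ≫ j)) := (Groth.L00.AlgQCoh.isQCoh_kernel_cokernel _ (Q.obj G).property hF).1
    have hC : Coh.IsQCoh (Limits.cokernel (Limits.kernel.ι (ε ≫ j))) :=
      (Groth.L00.AlgQCoh.isQCoh_kernel_cokernel _ hK (Q.obj G).property).2
    exact Groth.L00.AlgQCoh.qcohIso
      (Limits.cokernel.mapIso _ (Limits.kernel.ι ε) (Limits.kernelCompMono ε j) (Iso.refl _) (by simp) ≪≫
        Abelian.coimageIsoImage ε) hC
  · let φ' : (⟨H, hH⟩ : QCohCat.QCoh X) ⟶ Q.obj G := adj.homEquiv _ _ φ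
    refine ⟨φ'.hom ≫ Abelian.factorThruImage ε, ?_⟩
    show (φ'.hom ≫ Abelian.factorThruImage ε) ≫ Abelian.image.ι ε = φ
    rw [Category.assoc, Abelian.image.fac]
    refine (adj.homEquiv_counit ⟨H, hH⟩ G φ').symm.trans ?_
    exact Equiv.symm_apply_apply (adj.homEquiv ⟨H, hH⟩ G) φ

end Groth.Agent.S9362
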