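import Groth.Statements.S9373
import Groth.Agent.L20.ModStalk

set_option autoImplicit false
set_option maxSynthPendingDepth 3
set_option backward.isDefEq.respectTransparency false
set_option backward.isDefEq.respectTransparency.types false
set_option linter.style.haveILetI false
universe u
open QCohSub

namespace Groth.Agent.S9373

open AlgebraicGeometry CategoryTheory in
/-- The support of a quasi-coherent O_X-module is closed under specialization. -/
theorem result (X : Scheme.{u}) (F : X.Modules) (hF : Coh.IsQCoh F) :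
    StableUnderSpecialization (CohB1.support F) := by
  haveI : Coh.IsQCoh F := hF
  intro x y hxy hx hsub
  obtain ⟨V, hV, hyV, -⟩ := exists_isAffineOpen_mem_and_subset (TopologicalSpace.Opens.mem_top y)
  have hxV : x ∈ V := hxy.mem_open V.2 hyV
  refine hx ⟨?_⟩
  have hle : (hV.primeIdealOf ⟨x, hxV⟩).asIdeal ≤ (hV.primeIdealOf ⟨y, hyV⟩).asIdeal := by
    rw [PrimeSpectrum.asIdeal_le_asIdeal, PrimeSpectrum.le_iff_specializes]
    refine hV.fromSpec.isOpenEmbedding.isInducing.specializes_iff.mp ?_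
    erw [hV.fromSpec_primeIdealOf, hV.fromSpec_primeIdealOf]
    exact hxy
  have hy : ∀ m : Γ(F, V), ∃ t ∈ (hV.primeIdealOf ⟨y, hyV⟩).asIdeal.primeCompl, t • m = 0 := by
    intro m
    letI := Groth.L20.ModStalk.stalkModule F hyV
    haveI := Groth.L20.ModStalk.isLocalizedModule_germ F hV hyV
    obtain ⟨t, ht⟩ := (IsLocalizedModule.eq_zero_iff (hV.primeIdealOf ⟨y, hyV⟩).asIdeal.primeCompl
      (Groth.L20.ModStalk.germₗ F hyV)).mp (@Subsingleton.elim _ hsub (Groth.L20.ModStalk.germₗ F hyV m) 0)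
    exact ⟨t, t.2, ht⟩
  letI := Groth.L20.ModStalk.stalkModule F hxV
  haveI := Groth.L20.ModStalk.isLocalizedModule_germ F hV hxV
  have h0 : ∀ c : F.presheaf.stalk x, c = 0 := fun c => by
    obtain ⟨⟨m, s⟩, hs⟩ := IsLocalizedModule.surj (hV.primeIdealOf ⟨x, hxV⟩).asIdeal.primeCompl
      (Groth.L20.ModStalk.germₗ F hxV) c
    obtain ⟨t, ht, htm⟩ := hy m
    have h1 : Groth.L20.ModStalk.germₗ F hxV m = 0 :=
      (IsLocalizedModule.eq_zero_iff (hV.primeIdealOf ⟨x, hxV⟩).asIdeal.primeCompl _).mpr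
        ⟨⟨t, fun h => ht (hle h)⟩, htm⟩
    rw [h1] at hs
    exact IsLocalizedModule.smul_injective (Groth.L20.ModStalk.germₗ F hxV) s (hs.trans (smul_zero s).symm)
  intro a b
  rw [h0 a, h0 b]

end Groth.Agent.S9373
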