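import Groth.Statements.S9378
import Groth.Agent.L16.SchSupport
import Groth.Agent.L16.AffineBC.Pullback
import Groth.Agent.L22.Ideal
import Mathlib.RingTheory.Flat.Basic
import Mathlib.LinearAlgebra.TensorProduct.Pi

set_option autoImplicit false
universe u
open QCohSub

set_option backward.isDefEq.respectTransparency.types false
namespace Groth.Agent.S9378
open TensorProduct

/-- Annihilators of finite modules commute with flat base change. -/
theorem annihilator_of_isBaseChange {A B M N : Type u} [CommRing A] [CommRing B] [Algebra A B] [Module.Flat A B]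
    [AddCommGroup M] [Module A M] [Module.Finite A M] [AddCommGroup N] [Module A N] [Module B N]
    [IsScalarTower A B N] {g : M →ₗ[A] N} (hg : IsBaseChange B g) :
    (Module.annihilator A M).map (algebraMap A B) = Module.annihilator B N := by
  apply le_antisymm
  · rw [Ideal.map_le_iff_le_comap]
    intro a ha
    rw [Ideal.mem_comap, Module.mem_annihilator]
    intro z
    induction z using hg.inductionOn with
    | zero => exact smul_zero _
    | tmul m => rw [algebraMap_smul, ← map_smul, Module.mem_annihilator.1 ha m, map_zero]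
    | smul b z hz => rw [smul_comm, hz, smul_zero]
    | add y z hy hz => rw [smul_add, hy, hz, add_zero]
  · intro b hb
    obtain ⟨n, s, hs⟩ := Module.Finite.exists_fin (R := A) (M := M)
    let φ : A →ₗ[A] (Fin n → M) := LinearMap.pi fun i => LinearMap.toSpanSingleton A M (s i)
    let ι : Module.annihilator A M →ₗ[A] A := Submodule.subtype (Module.annihilator A M)
    have hexact : Function.Exact ι φ := by
      rw [LinearMap.exact_iff, Submodule.range_subtype]
      ext a
      rw [LinearMap.mem_ker, ← Submodule.annihilator_top, ← hs, Submodule.mem_annihilator_span]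
      exact ⟨fun h => fun ⟨m, i, hi⟩ => hi ▸ congrFun h i, fun h => funext fun i => h ⟨s i, i, rfl⟩⟩
    have h0 : LinearMap.lTensor B φ (b ⊗ₜ 1) = 0 := by
      apply (TensorProduct.piRight A A B (fun _ : Fin n => M)).injective
      rw [map_zero]
      funext i
      rw [LinearMap.lTensor_tmul, TensorProduct.piRight_apply, TensorProduct.piRightHom_tmul]
      apply hg.equiv.injective
      rw [hg.equiv_tmul, Pi.zero_apply, map_zero]
      show b • g ((1 : A) • s i) = 0
      exact Module.mem_annihilator.1 hb _
    obtain ⟨w, hw⟩ := (Module.Flat.lTensor_exact B hexact (b ⊗ₜ 1)).1 h0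
    have key : ∀ w : B ⊗[A] (Module.annihilator A M), TensorProduct.rid A B (LinearMap.lTensor B ι w) ∈
        (Module.annihilator A M).map (algebraMap A B) := by
      intro w
      induction w using TensorProduct.induction_on with
      | zero => simp
      | tmul c a =>
        rw [LinearMap.lTensor_tmul, TensorProduct.rid_tmul, Algebra.smul_def]
        exact Ideal.mul_mem_right _ _ (Ideal.mem_map_of_mem _ a.2)
      | add y z hy hz => rw [map_add, map_add]; exact add_mem hy hz
    have := key w
    rwa [hw, TensorProduct.rid_tmul, one_smul] at this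

end Groth.Agent.S9378

namespace Groth.Agent.S9378

open AlgebraicGeometry CategoryTheory Opposite in
/-- Let f : Y → X be flat and F a quasi-coherent O_X-module of finite type, where the ideal sheaf J
(given by annihilators on affine opens) defines the scheme-theoretic support of F. Then the inverse
image ideal sheaf of J along f cuts out the scheme-theoretic support of f^*F. -/
theorem result {Y X : Scheme.{u}} (f : Y ⟶ X) [Flat f] (F : X.Modules)
    (hq : Coh.IsQCoh F) (hft : CohB1.IsFT F) (J : X.IdealSheafData)
    (hJ : ∀ U : X.affineOpens, J.ideal U = Module.annihilator Γ(X, U.1) Γ(F, U.1)) :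
    ∀ V : Y.affineOpens, (J.comap f).ideal V =
      Module.annihilator Γ(Y, V.1) Γ((Scheme.Modules.pullback f).obj F, V.1) := by
  have hco : Coh.IsCoh F := ⟨hq, hft⟩
  haveI : Coh.IsQCoh F := hq
  have hP := Groth.L16.AffineBC.isCoh_pullback f hco
  suffices h : J.comap f = Groth.L16.SchSupport.annIdeal hP from fun V => by
    rw [h, Groth.L16.SchSupport.annIdeal_ideal]
  choose U hU hxU using fun x : Y => (show ∃ U : X.Opens, IsAffineOpen U ∧ f x ∈ U from by
    obtain ⟨_, ⟨U, hU, rfl⟩, hxU, -⟩ :=
      X.isBasis_affineOpens.exists_subset_of_mem_open (Set.mem_univ (f x)) isOpen_univ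
    exact ⟨U, hU, hxU⟩)
  choose V hV hxV hVU using fun x : Y =>
    exists_isAffineOpen_mem_and_subset (x := x) (U := f ⁻¹ᵁ (U x)) (hxU x)
  refine Scheme.IdealSheafData.ext_of_iSup_eq_top (fun x : Y => (⟨V x, hV x⟩ : Y.affineOpens))
    (eq_top_iff.2 fun x _ => TopologicalSpace.Opens.mem_iSup.2 ⟨x, hxV x⟩) fun x => ?_
  rw [Groth.L16.SchSupport.annIdeal_ideal, Groth.L22.Ideals.comap_ideal f J ⟨U x, hU x⟩ ⟨V x, hV x⟩ (hVU x), hJ]
  letI : Algebra Γ(X, U x) Γ(Y, V x) := (f.appLE (U x) (V x) (hVU x)).hom.toAlgebra
  letI := Module.compHom Γ((Scheme.Modules.pullback f).obj F, V x) (f.appLE (U x) (V x) (hVU x)).hom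
  haveI : IsScalarTower Γ(X, U x) Γ(Y, V x) Γ((Scheme.Modules.pullback f).obj F, V x) :=
    IsScalarTower.of_algebraMap_smul fun _ _ => rfl
  haveI : Module.Finite Γ(X, U x) Γ(F, U x) := Groth.L20.ModStalk.finite_sections F hco (hU x)
  haveI : Module.Flat Γ(X, U x) Γ(Y, V x) := f.flat_appLE (hU x) (hV x) (hVU x)
  exact annihilator_of_isBaseChange (Groth.L16.AffineBC.isBaseChange_pull f F (hU x) (hV x) (hVU x))

end Groth.Agent.S9378
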