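import Groth.Agent.L16.QAffFactor.Basic
import Groth.Agent.L18.QuasiAffine
import Groth.Statements.S9380
-- import your own Groth.Agent.* helpers here

set_option autoImplicit false
universe u
open QAff
open CategoryTheory AlgebraicGeometry TopologicalSpace Opposite

namespace Groth.Agent.S9380

open AlgebraicGeometry CategoryTheory in
/-- A quasi-compact quasi-separated morphism f : X → S is quasi-affine if and only if the canonical
S-morphism X → Spec_S(f_*O_X) (the one inducing the comparison map on direct-image algebras) exists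
as a quasi-compact open immersion. -/
theorem result {X S : Scheme.{u}} (f : X ⟶ S) [QuasiCompact f] [QuasiSeparated f] :
    MoreMor.IsQuasiAffineHom f ↔
      ∃ (c : X ⟶ (RelSpec.QCAlg.directImage f).spec) (e : c ≫ (RelSpec.QCAlg.directImage f).π = f),
        (RelSpec.QCAlg.directImage f).gammaMap = AffAlg.algHom (RelSpec.QCAlg.directImage f).π f c e ∧
          QuasiCompact c ∧ IsOpenImmersion c := by
  haveI : IsAffineHom (RelSpec.QCAlg.directImage f).π := ⟨fun U hU => by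
    rw [RelSpec.QCAlg.π_preimage _ U hU]; exact isAffineOpen_opensRange _⟩
  constructor
  · intro hf
    have hf' : Mor2.IsQuasiAffine f := hf
    set A := RelSpec.QCAlg.directImage f with hA
    set c := Groth.L16.QAffFactor.toHull f
    refine ⟨c, Groth.L16.QAffFactor.toHull_π f, ?_, ?_, Groth.L16.QAffFactor.isOpenImmersion_toHull f hf'⟩
    · apply (Functor.IsCoverDense.restrictHomEquivHom (G := Scheme.AffineZariskiSite.toOpensFunctor S)
        (K := Opens.grothendieckTopology S) (ℱ := A.π.base _* A.spec.presheaf)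
        (ℱ' := (⟨A.presheaf, A.isSheaf⟩ : TopCat.Sheaf CommRingCat.{u} S.carrier))).symm.injective
      ext V : 2
      obtain ⟨⟨U, hU⟩⟩ := V
      have key : ∀ (g : X ⟶ S) (w : c ≫ A.π = g) (W : X.Opens) (hW : W = g ⁻¹ᵁ U) (e : W ≤ c ⁻¹ᵁ (A.π ⁻¹ᵁ U)),
          (AffAlg.algHom A.π g c w).app (op U) ≫ X.presheaf.map (eqToHom hW).op = c.appLE (A.π ⁻¹ᵁ U) W e := by
        rintro g rfl W rfl e
        simp [AffAlg.algHom, Scheme.Hom.appLE]
        rfl
      have e1 : f ⁻¹ᵁ U ≤ c ⁻¹ᵁ (A.π ⁻¹ᵁ U) := by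
        rw [← Scheme.Hom.comp_preimage, Groth.L16.QAffFactor.toHull_π]
      have h := key f (Groth.L16.QAffFactor.toHull_π f) (f ⁻¹ᵁ U) rfl e1
      erw [CategoryTheory.Functor.map_id, Category.comp_id] at h
      change A.gammaMap.app (op U) = (AffAlg.algHom A.π f c (Groth.L16.QAffFactor.toHull_π f)).app (op U)
      rw [h, A.gammaMap_app U hU]
      have e2 : (⊤ : (f ⁻¹ᵁ U).toScheme.Opens) ≤ (f ⁻¹ᵁ U).ι ⁻¹ᵁ (f ⁻¹ᵁ U) := (Scheme.Opens.ι_preimage_self _).ge
      have h1 := Scheme.Hom.appLE_comp_appLE (f ⁻¹ᵁ U).ι c (A.π ⁻¹ᵁ U) (f ⁻¹ᵁ U) ⊤ e1 e2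
      have h2 := Scheme.Hom.appLE_comp_appLE (f ⁻¹ᵁ U).toSpecΓ (A.ι U hU) (A.π ⁻¹ᵁ U) ⊤ ⊤
        (A.top_le_preimage U hU) le_top
      have hcongr : ∀ (m m' : (f ⁻¹ᵁ U).toScheme ⟶ A.spec) (_ : m = m') (d : (⊤ : (f ⁻¹ᵁ U).toScheme.Opens) ≤ m ⁻¹ᵁ (A.π ⁻¹ᵁ U))
          (d' : (⊤ : (f ⁻¹ᵁ U).toScheme.Opens) ≤ m' ⁻¹ᵁ (A.π ⁻¹ᵁ U)), m.appLE _ ⊤ d = m'.appLE _ ⊤ d' := by
        rintro m m' rfl d d'; rfl
      have h3 := h1.trans ((hcongr _ _ (Groth.L16.QAffFactor.ι_toHull f ⟨U, hU⟩) _ _).trans h2.symm)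
      have h4 : (f ⁻¹ᵁ U).ι.appLE (f ⁻¹ᵁ U) ⊤ e2 = (f ⁻¹ᵁ U).topIso.inv := by
        rw [Scheme.Opens.topIso_inv, Scheme.Opens.ι_appLE]
        exact congrArg X.presheaf.map (Subsingleton.elim _ _)
      have h5 : (f ⁻¹ᵁ U).toSpecΓ.appLE ⊤ ⊤ le_top =
          (Scheme.ΓSpecIso Γ(X, f ⁻¹ᵁ U)).hom ≫ (f ⁻¹ᵁ U).topIso.inv := by
        rw [← Scheme.Opens.toSpecΓ_appTop]
        simp [Scheme.Hom.appLE, Scheme.Hom.appTop]
        rfl
      exact ((cancel_mono (f ⁻¹ᵁ U).topIso.inv).1 ((congrArg (fun t => _ ≫ t) h4.symm).trans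
        (h3.trans ((congrArg (fun t => _ ≫ t) h5).trans (Category.assoc _ _ _).symm)))).symm
    · haveI : QuasiCompact (Groth.L16.QAffFactor.toHull f ≫ A.π) := by
        rw [Groth.L16.QAffFactor.toHull_π]; infer_instance
      exact QuasiCompact.of_comp c A.π
  · rintro ⟨c, e, -, hc, ho⟩
    haveI := hc
    haveI := ho
    have h1 : Mor2.IsQuasiAffine (RelSpec.QCAlg.directImage f).π := ⟨inferInstance, fun V hV => by
      haveI : IsAffine ((RelSpec.QCAlg.directImage f).π ⁻¹ᵁ V : Scheme.{u}) := hV.preimage _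
      infer_instance⟩
    have h2 : Mor2.IsQuasiAffine c := Groth.L18.isQuasiAffine_of_isEmbedding c c.isOpenEmbedding.isEmbedding
    have h3 := Groth.L18.isQuasiAffine_comp c (RelSpec.QCAlg.directImage f).π h2 h1
    rw [e] at h3
    exact h3

end Groth.Agent.S9380
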