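import Groth.Statements.S9382


set_option autoImplicit false
universe u
open QCohSub

namespace Groth.Agent.S9382

open AlgebraicGeometry CategoryTheory in
/-- For closed subschemes Z, Y ⊆ X with ideal sheaves I, J, the scheme-theoretic intersection (ideal
sheaf I ⊔ J) together with its inclusions into Z and Y forms a cartesian square over X. -/
theorem result (X : Scheme.{u}) (I J : X.IdealSheafData) :
    IsPullback (Scheme.IdealSheafData.inclusion (le_sup_left : I ≤ I ⊔ J))
      (Scheme.IdealSheafData.inclusion (le_sup_right : J ≤ I ⊔ J)) I.subschemeι J.subschemeι := by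
  refine IsPullback.of_isLimit' ⟨by simp⟩ ?_
  have hle : ∀ s : Limits.PullbackCone I.subschemeι J.subschemeι,
      (I ⊔ J).subschemeι.ker ≤ (s.fst ≫ I.subschemeι).ker := fun s => by
    rw [Scheme.IdealSheafData.ker_subschemeι]
    refine sup_le (I.ker_subschemeι.ge.trans (Scheme.Hom.le_ker_comp _ _)) ?_
    rw [s.condition]
    exact J.ker_subschemeι.ge.trans (Scheme.Hom.le_ker_comp _ _)
  refine Limits.PullbackCone.IsLimit.mk _ (fun s => IsClosedImmersion.lift _ _ (hle s))
    (fun s => ?_) (fun s => ?_) fun s m hm _ => ?_
  · rw [← cancel_mono I.subschemeι]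
    simp
  · rw [← cancel_mono J.subschemeι]
    simp [s.condition]
  · rw [← cancel_mono (I ⊔ J).subschemeι, IsClosedImmersion.lift_fac, ← hm, Category.assoc,
      Scheme.IdealSheafData.inclusion_subschemeι]

end Groth.Agent.S9382
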