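import Groth.Statements.S9387
import Groth.Agent.L19.OmegaSh.Unramified
import Groth.Agent.L16.CohKernel
import Mathlib.AlgebraicGeometry.Morphisms.FiniteType

set_option autoImplicit false
set_option backward.isDefEq.respectTransparency.types false
set_option backward.isDefEq.respectTransparency false
set_option linter.style.haveILetI false
universe u
open OmegaSh

namespace Groth.Agent.S9387

open AlgebraicGeometry CategoryTheory in
/-- If f : X → S is locally of finite type then Ω_{X/S} is an O_X-module of finite type (for any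
receptacle Ω of a universal S-derivation). -/
theorem result {X S : Scheme.{u}} (f : X ⟶ S) [LocallyOfFiniteType f]
    (Ω : X.Modules) (d : OmegaSh.Der f Ω) (hd : OmegaSh.IsUniversal d) : CohB1.IsFT Ω := by
  refine (Groth.L16.CohKernel.isCoh_of_tilde_charts Ω fun x => ?_).2
  obtain ⟨U, ⟨V, e⟩, hxU, -⟩ := Groth.L19.OmegaSh.exists_good (f := f) x ⊤ trivial
  letI : Algebra Γ(S, V.1) Γ(X, U.1) := (f.appLE V.1 U.1 e).hom.toAlgebra
  haveI : Algebra.FiniteType Γ(S, V.1) Γ(X, U.1) := f.finiteType_appLE V.2 U.2 e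
  obtain ⟨i, -⟩ := Groth.L19.OmegaSh.exists_chart_affine hd U.2 V.2 e
  exact ⟨_, U.2.fromSpec, inferInstance, _, by rwa [U.2.opensRange_fromSpec],
    inferInstanceAs (Module.Finite Γ(X, U.1) Ω[Γ(X, U.1)⁄Γ(S, V.1)]), ⟨i⟩⟩

end Groth.Agent.S9387
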