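import Groth.Agent.L18.FibrePoints
import Groth.Statements.S9389
-- import your own Groth.Agent.* helpers here

set_option autoImplicit false
universe u
open QFin

namespace Groth.Agent.S9389

open AlgebraicGeometry CategoryTheory in
/-- For f : X → S locally of finite type and a cartesian square with base change f' : X' → S', g' : X' →
X, the quasi-finite locus of f' is the inverse image under g' of the quasi-finite locus of f. -/
theorem result {X S X' S' : Scheme.{u}} (f : X ⟶ S) [LocallyOfFiniteType f] (g : S' ⟶ S)
    (g' : X' ⟶ X) (f' : X' ⟶ S') (hsq : IsPullback g' f' f g) :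
    {x' : ↑X' | f'.QuasiFiniteAt x'} = g'.base ⁻¹' {x : ↑X | f.QuasiFiniteAt x} := by
  haveI hlft : ∀ t : S, @LocallyOfFiniteType (f.fiber t) (Spec (CommRingCat.of (S.residueField t))) (f.fiberToSpecResidueField t) := fun t =>
    MorphismProperty.pullback_snd _ _ inferInstance
  ext x'
  obtain ⟨p, sq, hp⟩ := Groth.L18.FP.exists_fiberMap f hsq (f'.base x')
  haveI : LocallyOfFiniteType f' := MorphismProperty.of_isPullback hsq inferInstance
  have e : (f.fiberι (g.base (f'.base x'))).base (p.base (f'.asFiber x')) = g'.base x' := by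
    rw [← Scheme.Hom.comp_apply, hp, Scheme.Hom.comp_apply, f'.fiberι_asFiber]
  show f'.QuasiFiniteAt x' ↔ f.QuasiFiniteAt (g'.base x')
  rw [← e, Groth.L18.FP.quasiFiniteAt_iff, Scheme.Hom.quasiFiniteAt_iff_isOpen_singleton_asFiber]
  exact @Groth.L18.FP.isOpen_baseChange_iff _ _ _ _ _ _ _ (hlft _) _ _ _ sq _

end Groth.Agent.S9389
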