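import Groth.Statements.S9395
import Mathlib.RingTheory.Localization.Integer
import Mathlib.RingTheory.Localization.FractionRing
import Mathlib.Algebra.Polynomial.RingDivision
import Mathlib.RingTheory.Noetherian.Basic
import Mathlib.Tactic.LinearCombination
import Mathlib.RingTheory.IntegralClosure.Algebra.Basic

set_option autoImplicit false
universe u
open CAlg

namespace Groth.Agent.S9395

/-- For a Noetherian domain R, if the Laurent polynomial ring R[X, 1/X] (the localization of R[X] away
from X) is N-1, then R is N-1. -/
theorem result (R : Type u) [CommRing R] [IsDomain R] [IsNoetherianRing R]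
    (S : Type u) [CommRing S] [IsDomain S] [Algebra (Polynomial R) S]
    [IsLocalization.Away (Polynomial.X : Polynomial R) S] (h : CAlg.IsN1 S) : CAlg.IsN1 R := by
  classical
  let K := FractionRing R
  let K' := FractionRing S
  have hinjS : Function.Injective (algebraMap (Polynomial R) S) :=
    IsLocalization.injective S (powers_le_nonZeroDivisors_of_noZeroDivisors Polynomial.X_ne_zero)
  let ι : R →+* K' :=
    (algebraMap S K').comp ((algebraMap (Polynomial R) S).comp Polynomial.C)
  have hι : Function.Injective ι :=
    (IsFractionRing.injective S K').comp (hinjS.comp Polynomial.C_injective)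
  let φ : K →+* K' := IsFractionRing.lift hι
  obtain ⟨G, hG⟩ := h.fg_top
  obtain ⟨⟨d, hd⟩, hdG⟩ :=
    IsLocalization.exist_integer_multiples_of_finset (nonZeroDivisors S) (G.image Subtype.val : Finset K')
  have hint : ∀ z : K', IsIntegral S z → ∃ s : S, algebraMap S K' s = d • z := by
    intro z hz
    have hm : (⟨z, hz⟩ : integralClosure S K') ∈ Submodule.span S (G : Set (integralClosure S K')) := by
      rw [hG]; exact Submodule.mem_top
    suffices ∀ w ∈ Submodule.span S (G : Set (integralClosure S K')), ∃ s : S, algebraMap S K' s = d • (w : K')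
      from this _ hm
    intro w hw
    induction hw using Submodule.span_induction with
    | mem w hw => exact hdG _ (Finset.mem_image_of_mem _ hw)
    | zero => exact ⟨0, by simp⟩
    | add a b _ _ ha hb =>
      obtain ⟨s, hs⟩ := ha
      obtain ⟨t, ht⟩ := hb
      exact ⟨s + t, by rw [map_add, hs, ht]; push_cast; rw [smul_add]⟩
    | smul c a _ ha =>
      obtain ⟨s, hs⟩ := ha
      exact ⟨c * s, by rw [map_mul, hs]; push_cast; rw [smul_comm, Algebra.smul_def c]⟩
  obtain ⟨D, ⟨_, b, rfl⟩, hD⟩ := IsLocalization.exists_mk'_eq (Submonoid.powers (Polynomial.X : Polynomial R)) d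
  have hD' : d * algebraMap (Polynomial R) S (Polynomial.X ^ b) = algebraMap (Polynomial R) S D := by
    rw [← hD]; exact IsLocalization.mk'_spec S D _
  have hD0 : D ≠ 0 := by
    rintro rfl
    rw [IsLocalization.mk'_zero] at hD
    exact nonZeroDivisors.ne_zero hd hD.symm
  set c := D.leadingCoeff
  have hc : c ≠ 0 := Polynomial.leadingCoeff_ne_zero.2 hD0
  have key : ∀ x : K, IsIntegral R x → c • x ∈ LinearMap.range (Algebra.linearMap R K) := by
    intro x hx
    obtain ⟨a0, b0, hb0, rfl⟩ := IsFractionRing.div_surjective (A := R) x
    have hφ : IsIntegral S (φ (algebraMap R K a0 / algebraMap R K b0)) := by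
      obtain ⟨P, hP, hPx⟩ := hx
      refine ⟨P.map ((algebraMap (Polynomial R) S).comp Polynomial.C), hP.map _, ?_⟩
      rw [Polynomial.eval₂_map]
      have he : (algebraMap S K').comp ((algebraMap (Polynomial R) S).comp Polynomial.C) =
          φ.comp (algebraMap R K) := by
        refine RingHom.ext fun r => ?_
        rw [RingHom.comp_apply φ (algebraMap R K) r]
        simp only [φ, ι, IsFractionRing.lift_algebraMap]
      rw [he, ← Polynomial.hom_eval₂, hPx, map_zero]
    obtain ⟨s, hs⟩ := hint _ hφ
    obtain ⟨P, ⟨_, a, rfl⟩, hP⟩ := IsLocalization.exists_mk'_eq (Submonoid.powers (Polynomial.X : Polynomial R)) s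
    have hP' : s * algebraMap (Polynomial R) S (Polynomial.X ^ a) = algebraMap (Polynomial R) S P := by
      rw [← hP]; exact IsLocalization.mk'_spec S P _
    rw [map_div₀, IsFractionRing.lift_algebraMap, IsFractionRing.lift_algebraMap, Algebra.smul_def,
      mul_div_assoc', eq_div_iff ((map_ne_zero_iff _ hι).2 (nonZeroDivisors.ne_zero hb0))] at hs
    simp only [ι, RingHom.comp_apply, ← map_mul] at hs
    have hs' := IsFractionRing.injective S K' hs
    have heq : D * Polynomial.C a0 * Polynomial.X ^ a = P * Polynomial.C b0 * Polynomial.X ^ b := by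
      refine hinjS ?_
      rw [map_mul, map_mul, map_mul, map_mul, ← hD', ← hP']
      linear_combination (-(algebraMap (Polynomial R) S (Polynomial.X ^ a)) *
        algebraMap (Polynomial R) S (Polynomial.X ^ b)) * hs'
    have hl := congrArg Polynomial.leadingCoeff heq
    simp only [Polynomial.leadingCoeff_mul, Polynomial.leadingCoeff_C, Polynomial.leadingCoeff_X_pow,
      mul_one] at hl
    refine ⟨P.leadingCoeff, ?_⟩
    rw [Algebra.linearMap_apply, Algebra.smul_def, mul_div_assoc', eq_div_iff
      ((map_ne_zero_iff _ (IsFractionRing.injective R K)).2 (nonZeroDivisors.ne_zero hb0)), ← map_mul, ← map_mul, hl]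
  let emb : integralClosure R K →ₗ[R] R :=
    LinearMap.codRestrictOfInjective
      ((c • LinearMap.id : K →ₗ[R] K) ∘ₗ (integralClosure R K).val.toLinearMap)
      (Algebra.linearMap R K) (IsFractionRing.injective R K) (fun x => key x x.2)
  have hemb : Function.Injective emb := by
    intro x z hxz
    have h1 := congrArg (Algebra.linearMap R K) hxz
    have h2 : ∀ w, Algebra.linearMap R K (emb w) = c • (w : K) := fun w =>
      LinearMap.codRestrictOfInjective_comp_apply _ _ _ _ w
    rw [h2, h2, Algebra.smul_def, Algebra.smul_def] at h1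
    exact Subtype.ext (mul_left_cancel₀ ((map_ne_zero_iff _ (IsFractionRing.injective R K)).2 hc) h1)
  exact Module.Finite.of_injective emb hemb

end Groth.Agent.S9395
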