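import Groth.Statements.S9396
import Groth.Agent.L01.NagataComplete

set_option autoImplicit false
universe u
open CAlg

namespace Groth.Agent.S9396

/-- If R is a Noetherian N-2 (Japanese) domain, then the power series ring R[[X]] is an N-2 domain. (R
is not assumed integrally closed.) -/
theorem result (R : Type u) [CommRing R] [IsDomain R] [IsNoetherianRing R]
    (h : CAlg.IsN2 R) : CAlg.IsN2 (PowerSeries R) := by
  classical
  let R' := integralClosure R (FractionRing R)
  haveI hfin : Module.Finite R R' := Groth.L01.N2.isN1_of_isN2 R h
  haveI : IsNoetherianRing R' := IsNoetherianRing.of_finite R R'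
  haveI : IsIntegrallyClosed R' := integralClosure.isIntegrallyClosedOfFiniteExtension (FractionRing R)
  have hinj : Function.Injective (algebraMap R R') := fun a b hab =>
    IsFractionRing.injective R (FractionRing R) (congrArg Subtype.val hab)
  let φ : PowerSeries R →+* PowerSeries R' := PowerSeries.map (algebraMap R R')
  have hφ : Function.Injective φ := fun a b hab => PowerSeries.ext fun n =>
    hinj (by simpa [φ] using congrArg (PowerSeries.coeff n) hab)
  letI : Algebra (PowerSeries R) (PowerSeries R') := φ.toAlgebra
  obtain ⟨k, e, he⟩ := Module.Finite.exists_fin (R := R) (M := R')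
  haveI : Module.Finite (PowerSeries R) (PowerSeries R') := by
    refine Module.Finite.of_surjective
      (Fintype.linearCombination (PowerSeries R) fun i => PowerSeries.C (e i)) fun g => ?_
    have hc : ∀ n, ∃ c : Fin k → R, ∑ i, c i • e i = PowerSeries.coeff n g := fun n =>
      (Submodule.mem_span_range_iff_exists_fun R).mp (he ▸ Submodule.mem_top)
    choose c hc using hc
    refine ⟨fun i => PowerSeries.mk fun n => c n i, PowerSeries.ext fun n => ?_⟩
    rw [Fintype.linearCombination_apply, map_sum, ← hc n]
    refine Finset.sum_congr rfl fun i _ => ?_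
    rw [Algebra.smul_def, Algebra.smul_def]
    change PowerSeries.coeff n (φ (PowerSeries.mk fun n => c n i) * PowerSeries.C (e i)) = _
    rw [PowerSeries.coeff_mul_C, PowerSeries.coeff_map, PowerSeries.coeff_mk]
  exact Groth.L01.NagataComplete.isN2_of_finite_descend hφ
    (Groth.L01.NagataComplete.isN2_powerSeries_of_normal R' (Groth.L01.N2.isN2_of_finite hinj h))

end Groth.Agent.S9396
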