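import Groth.Statements.S9401
import Groth.Agent.L01.NagataN2
import Groth.Agent.S9407
import Mathlib.RingTheory.Smooth.Flat

set_option autoImplicit false
universe u
open CAlg

namespace Groth.Agent.S9401

/-- The Nagata property descends along smooth ring maps that are surjective on spectra. -/
theorem result (R : Type u) [CommRing R] (S : Type u)
    [CommRing S] [Algebra R S] [Algebra.Smooth R S]
    (hs : Function.Surjective (PrimeSpectrum.comap (algebraMap R S))) (hS : CAlg.IsNagata S) :
    CAlg.IsNagata R := by
  haveI := hS.1
  haveI : Module.FaithfullyFlat R S := Module.FaithfullyFlat.of_comap_surjective hs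
  haveI hN : IsNoetherianRing R := by
    haveI : IsNoetherian S (TensorProduct R S R) :=
      isNoetherian_of_linearEquiv (Algebra.TensorProduct.rid R S S).symm.toLinearEquiv
    exact Submodule.IsNoetherian.of_isNoetherian_tensorProduct_of_faithfullyFlat (A := S) inferInstance
  refine ⟨hN, fun p _ => Groth.L01.Nagata.isN2_of_forall_isN1 fun B _ _ _ _ => ?_⟩
  letI : Algebra R B := Algebra.compHom B (Ideal.Quotient.mk p)
  haveI : IsScalarTower R (R ⧸ p) B := IsScalarTower.of_algebraMap_eq fun _ => rfl
  haveI : Module.Finite R B := Module.Finite.trans (R ⧸ p) B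
  haveI : IsNoetherianRing B := IsNoetherianRing.of_finite R B
  let T := TensorProduct R B S
  haveI : Algebra.Smooth B T := inferInstance
  haveI : IsReduced T := Groth.Agent.S9407.result B T
  haveI : Algebra.FiniteType B T := inferInstance
  haveI : IsNoetherianRing T := Algebra.FiniteType.isNoetherianRing B T
  haveI : Module.FaithfullyFlat B T := inferInstance
  have hT : CAlg.IsNagata T := Groth.L01.Nagata.isNagata_of_surjective
    (Algebra.TensorProduct.comm R S B).toRingEquiv.toRingHom (Algebra.TensorProduct.comm R S B).surjective
    (Groth.L01.Nagata.isNagata_of_finite hS)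
  exact Groth.L01.NagataCriteria.isN1_of_faithfullyFlat_reduced (T := T) fun P _ =>
    Groth.L01.N2.isN1_of_isN2 _ (hT.2 P)

end Groth.Agent.S9401
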