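import Groth.Statements.S9402
import Mathlib.RingTheory.Kaehler.Basic

set_option autoImplicit false
universe u
open CAlg

namespace Groth.Agent.S9402

/-- Let R → S be a ring map with S a nonzero algebra over the rationals and f ∈ S such that some
S-linear form on the module of differentials of S over R sends df to 1 (that is, df spans a free
direct summand of rank one). Then f is not nilpotent. (The published statement asks only that S·df
be a direct summand of the module of differentials, which also holds for the rationals with a
square-zero element adjoined and for the zero ring, where f is nilpotent; this row asks for an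
S-linear form on the differentials sending df to 1, as the published proof uses, and S nonzero.) -/
theorem result (R : Type u) [CommRing R] (S : Type u)
    [CommRing S] [Nontrivial S] [Algebra R S] [Algebra ℚ S] (f : S)
    (θ : Ω[S⁄R] →ₗ[S] S) (hθ : θ (KaehlerDifferential.D R S f) = 1) : ¬ IsNilpotent f := by
  classical
  intro hnil
  have hm := Nat.find_spec hnil
  rcases hn : Nat.find hnil with _ | k
  · rw [hn, pow_zero] at hm
    exact one_ne_zero hm
  · rw [hn] at hm
    have h0 : f ^ k ≠ 0 := fun h => Nat.find_min hnil (by omega : k < Nat.find hnil) h
    have h1 := congrArg θ (congrArg (KaehlerDifferential.D R S) hm)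
    rw [map_zero, map_zero, Derivation.leibniz_pow, Nat.add_sub_cancel, map_nsmul, map_smul, hθ,
      smul_eq_mul, mul_one, nsmul_eq_mul] at h1
    refine h0 ?_
    have hu : IsUnit (((k + 1 : ℕ) : S)) := by
      rw [← map_natCast (algebraMap ℚ S)]
      exact (IsUnit.mk0 _ (Nat.cast_ne_zero.2 (Nat.succ_ne_zero k))).map _
    exact hu.mul_right_eq_zero.1 h1

end Groth.Agent.S9402
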