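import Groth.Statements.S9404
import Mathlib.RingTheory.Spectrum.Prime.Homeomorph
import Mathlib.RingTheory.LocalRing.ResidueField.Basic
import Mathlib.RingTheory.IntegralClosure.IsIntegralClosure.Basic
import Mathlib.RingTheory.Ideal.GoingUp
-- import your own Groth.Agent.* helpers here

set_option autoImplicit false
universe u
open CAlg

namespace Groth.Agent.S9404

open TensorProduct IsLocalRing in
/-- A prime of `B ⊗[A] C` over both closed points comes from the tensor product of the residue fields. -/
theorem aux (A B C : Type u) [CommRing A] [IsLocalRing A] [CommRing B] [IsLocalRing B] [Algebra A B]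
    [IsLocalHom (algebraMap A B)] [CommRing C] [IsLocalRing C] [Algebra A C] [IsLocalHom (algebraMap A C)] :
    ∃ π : B ⊗[A] C →+* ResidueField B ⊗[ResidueField A] ResidueField C,
      ∀ P : Ideal (B ⊗[A] C), P.IsPrime →
        P.comap (Algebra.TensorProduct.includeLeft : B →ₐ[A] B ⊗[A] C).toRingHom = maximalIdeal B →
        P.comap (Algebra.TensorProduct.includeRight : C →ₐ[A] B ⊗[A] C).toRingHom = maximalIdeal C →
        ∃ P' : Ideal (ResidueField B ⊗[ResidueField A] ResidueField C), P'.IsPrime ∧ P'.comap π = P := by
  let T := ResidueField B ⊗[ResidueField A] ResidueField C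
  let fB : B →ₐ[A] T :=
    { (Algebra.TensorProduct.includeLeftRingHom : ResidueField B →+* T).comp (residue B) with
      commutes' := fun _ => rfl }
  let fC : C →ₐ[A] T :=
    { ((Algebra.TensorProduct.includeRight : ResidueField C →ₐ[ResidueField A] T).toRingHom).comp (residue C) with
      commutes' := fun a => ((Algebra.TensorProduct.includeRight :
        ResidueField C →ₐ[ResidueField A] T).commutes (residue A a)).trans
        ((Algebra.TensorProduct.algebraMap_apply (residue A a)).trans rfl) }
  refine ⟨(Algebra.TensorProduct.lift fB fC fun _ _ => Commute.all _ _).toRingHom, fun P hP hB hC => ?_⟩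
  let q := (B ⊗[A] C) ⧸ P
  let gB : ResidueField B →+* q := Ideal.Quotient.lift (maximalIdeal B)
    ((Ideal.Quotient.mk P).comp Algebra.TensorProduct.includeLeftRingHom)
    fun b hb => Ideal.Quotient.eq_zero_iff_mem.2 (hB.ge hb : _)
  let gC : ResidueField C →+* q := Ideal.Quotient.lift (maximalIdeal C)
    ((Ideal.Quotient.mk P).comp (Algebra.TensorProduct.includeRight : C →ₐ[A] B ⊗[A] C).toRingHom)
    fun b hb => Ideal.Quotient.eq_zero_iff_mem.2 (hC.ge hb : _)
  letI : Algebra (ResidueField A) q := (gB.comp (algebraMap (ResidueField A) (ResidueField B))).toAlgebra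
  let gB' : ResidueField B →ₐ[ResidueField A] q := { gB with commutes' := fun _ => rfl }
  let gC' : ResidueField C →ₐ[ResidueField A] q :=
    { gC with
      commutes' := fun a => by
        obtain ⟨a, rfl⟩ := residue_surjective a
        show Ideal.Quotient.mk P ((1 : B) ⊗ₜ algebraMap A C a) = Ideal.Quotient.mk P (algebraMap A B a ⊗ₜ (1 : C))
        rw [← Algebra.TensorProduct.algebraMap_apply, Algebra.TensorProduct.algebraMap_apply'] }
  let g : T →ₐ[ResidueField A] q := Algebra.TensorProduct.lift gB' gC' fun _ _ => Commute.all _ _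
  refine ⟨RingHom.ker g, RingHom.ker_isPrime _, ?_⟩
  have h : (g.toRingHom).comp (Algebra.TensorProduct.lift fB fC fun _ _ => Commute.all _ _).toRingHom =
      Ideal.Quotient.mk P := by
    refine RingHom.ext fun x => ?_
    induction x using TensorProduct.induction_on with
    | zero => simp
    | add a b ha hb => rw [map_add, map_add, ha, hb]
    | tmul b c =>
      show g (fB b * fC c) = _
      rw [map_mul]
      show g ((residue B b) ⊗ₜ (1 : ResidueField C)) * g ((1 : ResidueField B) ⊗ₜ (residue C c)) = _
      rw [Algebra.TensorProduct.lift_tmul, Algebra.TensorProduct.lift_tmul, map_one, map_one, mul_one, one_mul]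
      show Ideal.Quotient.mk P (b ⊗ₜ (1 : C)) * Ideal.Quotient.mk P ((1 : B) ⊗ₜ c) = _
      rw [← map_mul, Algebra.TensorProduct.tmul_mul_tmul, mul_one, one_mul]
  refine Eq.trans ?_ ((congrArg RingHom.ker h).trans Ideal.mk_ker)
  rfl

open TensorProduct in
/-- For local homomorphisms of local rings A → B and A → C with A → C integral, if the residue field of
C or that of B is purely inseparable over the residue field of A, then B ⊗_A C is local and both
structure maps into it are local. -/
theorem result (A : Type u) [CommRing A]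
    [IsLocalRing A] (B : Type u) [CommRing B] [IsLocalRing B] [Algebra A B]
    [IsLocalHom (algebraMap A B)] (C : Type u) [CommRing C] [IsLocalRing C] [Algebra A C]
    [IsLocalHom (algebraMap A C)] [Algebra.IsIntegral A C]
    (h : IsPurelyInseparable (IsLocalRing.ResidueField A) (IsLocalRing.ResidueField C) ∨
      IsPurelyInseparable (IsLocalRing.ResidueField A) (IsLocalRing.ResidueField B)) :
    IsLocalRing (B ⊗[A] C) ∧
      IsLocalHom (Algebra.TensorProduct.includeLeft : B →ₐ[A] B ⊗[A] C).toRingHom ∧
      IsLocalHom (Algebra.TensorProduct.includeRight : C →ₐ[A] B ⊗[A] C).toRingHom := by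
  obtain ⟨π, hπ⟩ := aux A B C
  let iL := (Algebra.TensorProduct.includeLeft : B →ₐ[A] B ⊗[A] C).toRingHom
  let iR := (Algebra.TensorProduct.includeRight : C →ₐ[A] B ⊗[A] C).toRingHom
  let kT := IsLocalRing.ResidueField B ⊗[IsLocalRing.ResidueField A] IsLocalRing.ResidueField C
  haveI : Nontrivial kT := (Algebra.TensorProduct.includeLeft_injective
    (S := IsLocalRing.ResidueField B) (algebraMap (IsLocalRing.ResidueField A) (IsLocalRing.ResidueField C)).injective).nontrivial
  haveI : Nontrivial (B ⊗[A] C) := π.domain_nontrivial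
  have hover : ∀ M : Ideal (B ⊗[A] C), M.IsMaximal →
      M.comap iL = IsLocalRing.maximalIdeal B ∧ M.comap iR = IsLocalRing.maximalIdeal C := by
    intro M hM
    haveI := hM
    have hB : M.comap iL = IsLocalRing.maximalIdeal B := IsLocalRing.eq_maximalIdeal
      (Ideal.isMaximal_comap_of_isIntegral_of_isMaximal (R := B) M)
    haveI : (M.comap iR).IsPrime := Ideal.IsPrime.comap iR
    have hA : (M.comap iR).comap (algebraMap A C) = IsLocalRing.maximalIdeal A := by
      rw [← IsLocalRing.maximalIdeal_comap (f := algebraMap A B), ← hB, Ideal.comap_comap, Ideal.comap_comap]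
      congr 1
      exact RingHom.ext fun a => (Algebra.TensorProduct.includeRight : C →ₐ[A] B ⊗[A] C).commutes a |>.trans
        ((Algebra.TensorProduct.includeLeft : B →ₐ[A] B ⊗[A] C).commutes a).symm
    exact ⟨hB, IsLocalRing.eq_maximalIdeal (Ideal.isMaximal_of_isIntegral_of_isMaximal_comap (R := A) _
      (hA ▸ IsLocalRing.maximalIdeal.isMaximal A))⟩
  have hsub : ∀ p q : PrimeSpectrum kT, p = q := by
    rcases h with h | h
    · intro p q
      exact (PrimeSpectrum.isHomeomorph_comap_of_isPurelyInseparable (IsLocalRing.ResidueField A)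
        (IsLocalRing.ResidueField C) (IsLocalRing.ResidueField B)).injective (Subsingleton.elim _ _)
    · intro p q
      exact (PrimeSpectrum.homeomorphOfRingEquiv (Algebra.TensorProduct.comm (IsLocalRing.ResidueField A)
        (IsLocalRing.ResidueField B) (IsLocalRing.ResidueField C)).toRingEquiv).injective
        ((PrimeSpectrum.isHomeomorph_comap_of_isPurelyInseparable (IsLocalRing.ResidueField A)
        (IsLocalRing.ResidueField B) (IsLocalRing.ResidueField C)).injective (Subsingleton.elim _ _))
  have huniq : ∀ P Q : Ideal (B ⊗[A] C), P.IsMaximal → Q.IsMaximal → P = Q := by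
    intro P Q hP hQ
    obtain ⟨P', hP', rfl⟩ := hπ P hP.isPrime (hover P hP).1 (hover P hP).2
    obtain ⟨Q', hQ', rfl⟩ := hπ Q hQ.isPrime (hover Q hQ).1 (hover Q hQ).2
    rw [show P' = Q' from congrArg PrimeSpectrum.asIdeal (hsub ⟨P', hP'⟩ ⟨Q', hQ'⟩)]
  obtain ⟨M, hM⟩ := Ideal.exists_maximal (B ⊗[A] C)
  refine ⟨IsLocalRing.of_unique_max_ideal ⟨M, hM, fun Q hQ => huniq Q M hQ hM⟩, ⟨fun b hb => ?_⟩, ⟨fun c hc => ?_⟩⟩
  · by_contra hu
    have := (hover M hM).1.ge hu
    exact hM.ne_top (M.eq_top_of_isUnit_mem this hb)
  · by_contra hu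
    have := (hover M hM).2.ge hu
    exact hM.ne_top (M.eq_top_of_isUnit_mem this hc)

end Groth.Agent.S9404
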