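import Groth.Statements.S9414
import Groth.Agent.L03.CotSplit
import Mathlib.RingTheory.Jacobson.Ring
import Mathlib.LinearAlgebra.Dimension.Free
-- import your own Groth.Agent.* helpers here

set_option autoImplicit false
universe u
open CAlg

namespace Groth.Agent.S9414

open TensorProduct in
/-- For an algebraically closed field k, a finite type k-algebra S and a maximal ideal m of S with
residue field κ = S/m, the κ-vector spaces κ ⊗_S Ω_{S/k} and m/m² have the same dimension. -/
theorem result (k : Type u) [Field k]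
    [IsAlgClosed k] (S : Type u) [CommRing S] [Algebra k S] [Algebra.FiniteType k S]
    (m : Ideal S) [m.IsMaximal] :
    Module.finrank (S ⧸ m) ((S ⧸ m) ⊗[S] Ω[S⁄k]) = Module.finrank (S ⧸ m) m.Cotangent := by
  letI := Ideal.Quotient.field m
  haveI : Module.Finite k (S ⧸ m) := finite_of_finite_type_of_isJacobsonRing k (S ⧸ m)
  have hbij : Function.Bijective (algebraMap k (S ⧸ m)) := IsAlgClosed.algebraMap_bijective_of_isIntegral
  let e : (S ⧸ m) ≃ₐ[k] k := (AlgEquiv.ofBijective (Algebra.ofId k (S ⧸ m)) hbij).symm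
  let J := RingHom.ker (algebraMap S (S ⧸ m))
  have hJ : J = m := Ideal.mk_ker
  let σ : S →ₐ[k] S ⧸ J ^ 2 := (Algebra.ofId k (S ⧸ J ^ 2)).comp (e.toAlgHom.comp (Ideal.Quotient.mkₐ k m))
  have he : ∀ s : S, algebraMap k (S ⧸ m) (e (Ideal.Quotient.mk m s)) = Ideal.Quotient.mk m s := fun s =>
    e.symm_apply_apply _
  obtain ⟨g, hg⟩ := Groth.L03.CotSplit.exists_retraction k S (S ⧸ m) Ideal.Quotient.mk_surjective σ (fun b => by
    show Ideal.Quotient.mk (J ^ 2) b - algebraMap k (S ⧸ J ^ 2) (e (Ideal.Quotient.mk m b)) ∈ _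
    rw [IsScalarTower.algebraMap_apply k S (S ⧸ J ^ 2)]
    show Ideal.Quotient.mk (J ^ 2) b - Ideal.Quotient.mk (J ^ 2) (algebraMap k S (e (Ideal.Quotient.mk m b))) ∈ _
    rw [← map_sub]
    refine ⟨_, RingHom.mem_ker.2 ?_, rfl⟩
    rw [map_sub, ← IsScalarTower.algebraMap_apply, he]
    exact sub_self _)
  let f := KaehlerDifferential.kerCotangentToTensor k S (S ⧸ m)
  have hinj : Function.Injective f := by
    refine (injective_iff_map_eq_zero f).2 fun y hy => ?_
    obtain ⟨x, rfl⟩ := J.toCotangent_surjective y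
    have h1 : g ((1 : S ⧸ m) ⊗ₜ KaehlerDifferential.D k S (x : S)) = 0 := by
      rw [← KaehlerDifferential.kerCotangentToTensor_toCotangent, show
        KaehlerDifferential.kerCotangentToTensor k S (S ⧸ m) (J.toCotangent x) = 0 from hy, map_zero]
    rw [hg] at h1
    have h2 : σ (x : S) = 0 := by
      show algebraMap k (S ⧸ J ^ 2) (e (Ideal.Quotient.mk m (x : S))) = 0
      rw [show Ideal.Quotient.mk m (x : S) = 0 from x.2, map_zero, map_zero]
    rw [h2, sub_zero] at h1
    exact (J.toCotangent_eq_zero x).2 (Ideal.Quotient.eq_zero_iff_mem.1 h1)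
  have hsurj : Function.Surjective f :=
    Groth.L03.CotSplit.kerCotangentToTensor_surjective k S (S ⧸ m) hbij.2
  obtain ⟨c⟩ : Nonempty (J.Cotangent ≃ₗ[S] m.Cotangent) := by rw [hJ]; exact ⟨LinearEquiv.refl S _⟩
  let φ : m.Cotangent ≃ₗ[S] (S ⧸ m) ⊗[S] Ω[S⁄k] := c.symm.trans (LinearEquiv.ofBijective f ⟨hinj, hsurj⟩)
  exact ((φ.extendScalarsOfSurjective (R := S) (S := S ⧸ m) Ideal.Quotient.mk_surjective).finrank_eq).symm

end Groth.Agent.S9414
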