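import Groth.Statements.S9415
import Groth.Agent.L03.SepField
import Mathlib.RingTheory.Smooth.Kaehler
import Mathlib.RingTheory.Smooth.Basic
import Mathlib.RingTheory.LocalRing.ResidueField.Basic

set_option autoImplicit false
universe u
open CAlg

namespace Groth.Agent.S9415

/-- Let R be a Noetherian local algebra over a field k whose residue field κ is a finitely generated,
separable (that is, geometrically reduced) field extension of k. Then the map from m/m² (m the
maximal ideal, realised as the kernel of R → κ) to κ ⊗_R Ω_{R/k} sending the class of x to 1 ⊗ dx is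
injective. -/
theorem result (k : Type u) [Field k] (R : Type u)
    [CommRing R] [IsLocalRing R] [IsNoetherianRing R] [Algebra k R]
    [Algebra.EssFiniteType k (IsLocalRing.ResidueField R)]
    [Algebra.IsGeometricallyReduced k (IsLocalRing.ResidueField R)] :
    Function.Injective
      (KaehlerDifferential.kerCotangentToTensor k R (IsLocalRing.ResidueField R)) := by
  let κ := IsLocalRing.ResidueField R
  haveI := Groth.L03.SepField.formallySmooth_of_essFiniteType k κ
  let f := IsScalarTower.toAlgHom k R κ
  have hf : Function.Surjective (algebraMap R κ) := IsLocalRing.residue_surjective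
  have hks : Function.Surjective f.kerSquareLift := fun y => by
    obtain ⟨x, rfl⟩ := hf y
    exact ⟨Ideal.Quotient.mk _ x, rfl⟩
  have hnil : IsNilpotent (RingHom.ker f.kerSquareLift.toRingHom) :=
    ⟨2, by rw [show RingHom.ker f.kerSquareLift.toRingHom = _ from f.ker_kerSquareLift]; exact Ideal.cotangentIdeal_square _⟩
  let g := Algebra.FormallySmooth.liftOfSurjective (AlgHom.id k κ) f.kerSquareLift hks hnil
  have hg : f.kerSquareLift.comp g = AlgHom.id k κ := Algebra.FormallySmooth.comp_liftOfSurjective _ _ _ _
  obtain ⟨l, hl⟩ := (retractionKerCotangentToTensorEquivSection (R := k) (P := R) (S := κ) hf).symm ⟨g, hg⟩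
  intro x y h
  have hx := LinearMap.congr_fun hl x
  have hy := LinearMap.congr_fun hl y
  simp only [LinearMap.comp_apply, LinearMap.id_apply] at hx hy
  rw [← hx, ← hy, h]

end Groth.Agent.S9415
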