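import Groth.Statements.S9416
import Mathlib.RingTheory.Derivation.Basic
import Mathlib.FieldTheory.IntermediateField.Adjoin.Basic
import Mathlib.RingTheory.IntegralClosure.IntegrallyClosed
import Mathlib.Algebra.CharP.Lemmas
import Mathlib.RingTheory.Finiteness.Basic
import Mathlib.Algebra.CharP.Algebra
import Mathlib.RingTheory.Noetherian.Basic
import Mathlib.Data.ZMod.Basic
import Mathlib.Tactic.FieldSimp
import Mathlib.Data.Nat.Prime.Factorial

set_option autoImplicit false
universe u
open CAlg

namespace Groth.Agent.S9416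

/-- Suppose R is a normal Noetherian domain whose field of fractions K has prime characteristic p > 0, D
a derivation of K preserving R, and a ∈ K with D(a) ≠ 0. For a field L generated over K by an
element x with x^p = a, the integral closure of R in L is module-finite over R. -/
theorem result (R : Type u) [CommRing R]
    [IsDomain R] [IsNoetherianRing R] [IsIntegrallyClosed R] (K : Type u) [Field K] [Algebra R K]
    [IsFractionRing R K] (p : ℕ) [Fact p.Prime] [CharP K p] (D : Derivation ℤ K K)
    (hD : ∀ r : R, ∃ s : R, D (algebraMap R K r) = algebraMap R K s) (a : K) (ha : D a ≠ 0)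
    (L : Type u) [Field L] [Algebra K L] [Algebra R L] [IsScalarTower R K L] (x : L)
    (hx : x ^ p = algebraMap K L a) (hgen : IntermediateField.adjoin K {x} = ⊤) :
    Module.Finite R (integralClosure R L) := by
  obtain ⟨⟨a₁, r, hr⟩, hra⟩ := IsLocalization.surj (nonZeroDivisors R) a
  have hr0 : algebraMap R K r ≠ 0 := fun h => nonZeroDivisors.ne_zero hr (IsFractionRing.injective R K (h.trans (map_zero _).symm))
  let ρ := algebraMap R K r
  let b := ρ ^ p * a
  have hp := (Fact.out : p.Prime)
  have hbR : ∃ b₀ : R, algebraMap R K b₀ = b := ⟨r ^ (p - 1) * a₁, by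
    simp only [b, ρ, map_mul, map_pow]
    rw [← hra]
    conv_rhs => rw [← Nat.sub_add_cancel hp.one_le, pow_succ]
    ring⟩
  obtain ⟨b₀, hb₀⟩ := hbR
  have hDp : ∀ z : K, D (z ^ p) = 0 := fun z => by
    rw [D.leibniz_pow, ← Nat.cast_smul_eq_nsmul K, CharP.cast_eq_zero, zero_smul]
  have hDb : D b = ρ ^ p * D a := by simp [b, D.leibniz, hDp]
  have hDb0 : D b ≠ 0 := by rw [hDb]; exact mul_ne_zero (pow_ne_zero _ hr0) ha
  obtain ⟨e, he⟩ := hD b₀
  rw [hb₀] at he
  let C : R := e ^ (2 ^ p)
  have hC0 : algebraMap R K C ≠ 0 := by rw [map_pow, ← he]; exact pow_ne_zero _ hDb0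
  let x' := algebraMap K L ρ * x
  have hx' : x' ^ p = algebraMap K L b := by simp [x', b, mul_pow, hx]
  -- closure under `D`
  let InR : K → Prop := fun z => ∃ s : R, algebraMap R K s = z
  have key : ∀ c : ℕ → K, InR (∑ i ∈ Finset.range p, c i ^ p * b ^ i) →
      ∀ j < p, InR (algebraMap R K C * ∑ i ∈ Finset.range p, (i.descFactorial j : K) * (c i ^ p * b ^ (i - j))) := by
    intro c hc
    let T : ℕ → K := fun j => ∑ i ∈ Finset.range p, (i.descFactorial j : K) * (c i ^ p * b ^ (i - j))
    have hT : ∀ j, D (T j) = T (j + 1) * D b := fun j => by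
      simp only [T, map_sum, Finset.sum_mul]
      refine Finset.sum_congr rfl fun i _ => ?_
      simp only [D.leibniz, D.leibniz_pow, hDp, Derivation.map_natCast, smul_zero, add_zero,
        nsmul_eq_mul, smul_eq_mul, Nat.descFactorial_succ, Nat.cast_mul]
      rw [show i - (j + 1) = i - j - 1 by omega, CharP.cast_eq_zero K p]
      ring
    have step : ∀ j, InR (D b ^ (2 ^ j - 1) * T j) := fun j => by
      induction j with
      | zero => obtain ⟨s, hs⟩ := hc; exact ⟨s, by simp [T, hs]⟩
      | succ j ih =>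
        obtain ⟨s, hs⟩ := ih
        obtain ⟨s', hs'⟩ := hD s
        obtain ⟨t, ht⟩ := hD e
        rw [← he] at ht
        refine ⟨e ^ (2 ^ j - 1) * s' - (2 ^ j - 1 : ℕ) * (e ^ (2 ^ j - 1 - 1) * t * s), ?_⟩
        rw [show 2 ^ (j + 1) - 1 = (2 ^ j - 1) + (2 ^ j - 1) + 1 by
          have := Nat.one_le_two_pow (n := j); rw [pow_succ]; omega]
        simp only [map_sub, map_mul, map_pow, map_natCast, ← hs', ← ht, ← he, hs,
          D.leibniz, D.leibniz_pow, hT, nsmul_eq_mul, smul_eq_mul]
        ring
    intro j hj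
    obtain ⟨s, hs⟩ := step j
    have hle : 2 ^ j - 1 ≤ 2 ^ p := (Nat.sub_le _ _).trans (Nat.pow_le_pow_right two_pos hj.le)
    refine ⟨e ^ (2 ^ p - (2 ^ j - 1)) * s, ?_⟩
    rw [map_mul, map_pow, hs, ← mul_assoc, ← he, ← pow_add, Nat.sub_add_cancel hle, he, ← map_pow]
  have coef : ∀ c : ℕ → K, InR (∑ i ∈ Finset.range p, c i ^ p * b ^ i) →
      ∀ i < p, InR (algebraMap R K C * c i) := by
    intro c hc
    suffices h : ∀ k i, i < p → p - i ≤ k → InR (algebraMap R K C * c i ^ p) by
      intro i hi
      obtain ⟨s, hs⟩ := h p i hi (Nat.sub_le _ _)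
      refine IsIntegrallyClosed.exists_algebraMap_eq_of_isIntegral_pow (n := p) hp.pos ?_
      rw [mul_pow, show algebraMap R K C ^ p * c i ^ p = algebraMap R K C ^ (p - 1) * (algebraMap R K C * c i ^ p) by
        rw [← mul_assoc, ← pow_succ, Nat.sub_add_cancel hp.one_le], ← hs, ← map_pow, ← map_mul]
      exact isIntegral_algebraMap
    intro k
    induction k with
    | zero => intro i hi h; omega
    | succ k ih =>
      intro j hj hk
      obtain ⟨s, hs⟩ := key c hc j hj
      have hrest : InR (algebraMap R K C * ∑ i ∈ (Finset.range p).erase j,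
          (i.descFactorial j : K) * (c i ^ p * b ^ (i - j))) := by
        rw [Finset.mul_sum]
        refine Finset.sum_induction _ InR (fun _ _ ⟨s, hs⟩ ⟨t, ht⟩ => ⟨s + t, by rw [map_add, hs, ht]⟩)
          ⟨0, map_zero _⟩ fun i hi => ?_
        rw [Finset.mem_erase, Finset.mem_range] at hi
        rcases Nat.lt_or_ge i j with hij | hij
        · exact ⟨0, by simp [Nat.descFactorial_eq_zero_iff_lt.2 hij]⟩
        obtain ⟨t, ht⟩ := ih i hi.2 (by omega)
        exact ⟨(i.descFactorial j : R) * (t * b₀ ^ (i - j)), by rw [map_mul, map_mul, map_natCast, map_pow, ht, hb₀]; ring⟩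
      obtain ⟨t, ht⟩ := hrest
      rw [← Finset.add_sum_erase _ _ (Finset.mem_range.2 hj), mul_add, ← ht] at hs
      haveI : CharP R p := (RingHom.charP_iff _ (IsFractionRing.injective R K) p).2 inferInstance
      obtain ⟨u, hu⟩ : IsUnit ((j.descFactorial j : ℕ) : R) := by
        rw [Nat.descFactorial_self]
        have h : IsUnit (j.factorial : ZMod p) := (ZMod.isUnit_iff_coprime _ _).2
          ((Nat.Prime.coprime_iff_not_dvd hp).2 fun h0 => absurd ((Nat.Prime.dvd_factorial hp).1 h0) (Nat.not_le.2 hj)).symm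
        simpa using h.map (ZMod.castHom dvd_rfl R)
      refine ⟨↑u⁻¹ * (s - t), ?_⟩
      rw [map_mul, map_sub, hs, add_sub_cancel_right, Nat.sub_self, pow_zero, mul_one, mul_left_comm (algebraMap R K C),
        ← map_natCast (algebraMap R K), ← hu, ← mul_assoc, ← map_mul, Units.inv_mul, map_one, one_mul]
  -- every element is a combination of powers of x'
  have hρ : algebraMap K L ρ ≠ 0 := (map_ne_zero _).2 hr0
  have expand : ∀ y : L, ∃ c : ℕ → K, y = ∑ i ∈ Finset.range p, algebraMap K L (c i) * x' ^ i := fun y => by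
    have hxi : IsIntegral K x := ⟨Polynomial.X ^ p - Polynomial.C a, Polynomial.monic_X_pow_sub_C a hp.ne_zero, by simp [hx]⟩
    have hy : y ∈ Algebra.adjoin K {x} := by
      rw [← IntermediateField.adjoin_simple_toSubalgebra_of_isAlgebraic hxi.isAlgebraic, hgen]; trivial
    rw [Algebra.adjoin_singleton_eq_range_aeval] at hy
    obtain ⟨q, rfl⟩ := hy
    have hm := Polynomial.monic_X_pow_sub_C a hp.ne_zero
    have hdeg : (q %ₘ (Polynomial.X ^ p - Polynomial.C a)).natDegree < p := by
      have := Polynomial.natDegree_modByMonic_lt q hm (fun h => by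
        have := congrArg Polynomial.natDegree h
        rw [Polynomial.natDegree_X_pow_sub_C, Polynomial.natDegree_one] at this
        exact hp.ne_zero this)
      rwa [Polynomial.natDegree_X_pow_sub_C] at this
    refine ⟨fun i => (q %ₘ (Polynomial.X ^ p - Polynomial.C a)).coeff i / ρ ^ i, ?_⟩
    show Polynomial.aeval x q = _
    rw [← Polynomial.aeval_modByMonic_eq_self_of_root (show Polynomial.aeval x (Polynomial.X ^ p - Polynomial.C a) = 0 by simp [hx]),
      Polynomial.aeval_eq_sum_range' hdeg]
    refine Finset.sum_congr rfl fun i _ => ?_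
    simp only [x', mul_pow, map_div₀, map_pow, Algebra.smul_def]
    field_simp
  haveI : CharP L p := (RingHom.charP_iff _ (algebraMap K L).injective p).1 inferInstance
  let Ci := algebraMap K L (algebraMap R K C)⁻¹
  let N : Submodule R L := Submodule.span R ((fun i => Ci * x' ^ i) '' (Finset.range p : Set ℕ))
  haveI : Module.Finite R N := Module.Finite.span_of_finite R ((Finset.range p).finite_toSet.image _)
  refine Module.Finite.of_injective (Submodule.inclusion (p := Subalgebra.toSubmodule (integralClosure R L)) (p' := N) ?_) (Submodule.inclusion_injective _)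
  intro y hy
  obtain ⟨c, rfl⟩ := expand y
  have hp' : (∑ i ∈ Finset.range p, algebraMap K L (c i) * x' ^ i) ^ p = algebraMap K L (∑ i ∈ Finset.range p, c i ^ p * b ^ i) := by
    rw [sum_pow_char, map_sum]
    exact Finset.sum_congr rfl fun i _ => by rw [mul_pow, map_mul, map_pow, map_pow, ← hx', ← pow_mul, ← pow_mul, mul_comm p i]
  have hin : InR (∑ i ∈ Finset.range p, c i ^ p * b ^ i) := by
    have h := (hy : IsIntegral R _).pow p
    rw [hp'] at h
    exact IsIntegrallyClosed.algebraMap_eq_of_integral ((isIntegral_algHom_iff (IsScalarTower.toAlgHom R K L) (algebraMap K L).injective).1 h)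
  refine Submodule.sum_mem _ fun i hi => ?_
  obtain ⟨s, hs⟩ := coef c hin i (Finset.mem_range.1 hi)
  have : algebraMap K L (c i) * x' ^ i = s • (Ci * x' ^ i) := by
    rw [Algebra.smul_def, IsScalarTower.algebraMap_apply R K L, hs, ← mul_assoc]
    simp only [Ci]
    rw [← map_mul, mul_comm (algebraMap R K C), mul_assoc, mul_inv_cancel₀ hC0, mul_one]
  rw [this]
  exact Submodule.smul_mem _ _ (Submodule.subset_span ⟨i, hi, rfl⟩)

end Groth.Agent.S9416
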