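import Groth.Statements.S9425
import Mathlib.RingTheory.Etale.Basic

set_option autoImplicit false
universe u
open CAlg

namespace Groth.Agent.S9425

/-- A directed colimit of formally étale R-algebras is formally étale over R. The colimit is encoded by
compatible R-algebra maps S_i → S which are jointly surjective and whose kernels die further along
the system. -/
theorem result {ι : Type u} [Preorder ι] [IsDirected ι (· ≤ ·)] [Nonempty ι]
    (R : Type u) [CommRing R] (G : ι → Type u) [∀ i, CommRing (G i)] [∀ i, Algebra R (G i)]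
    (f : ∀ i j, i ≤ j → (G i →ₐ[R] G j)) (S : Type u) [CommRing S] [Algebra R S]
    (g : ∀ i, G i →ₐ[R] S) (hg : ∀ i j (h : i ≤ j), (g j).comp (f i j h) = g i)
    (hsurj : ∀ s : S, ∃ i, ∃ x : G i, g i x = s)
    (hker : ∀ i (x : G i), g i x = 0 → ∃ j, ∃ h : i ≤ j, f i j h x = 0)
    (h : ∀ i, Algebra.FormallyEtale R (G i)) : Algebra.FormallyEtale R S := by
  classical
  rw [Algebra.FormallyEtale.iff_comp_bijective]
  intro B _ _ I hI
  refine ⟨fun φ ψ e => ?_, fun φ => ?_⟩
  · refine AlgHom.ext fun s => ?_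
    obtain ⟨i, x, rfl⟩ := hsurj s
    haveI := h i
    have := Algebra.FormallyUnramified.comp_injective (R := R) (A := G i) I hI
      (a₁ := φ.comp (g i)) (a₂ := ψ.comp (g i)) (by
        change ((Ideal.Quotient.mkₐ R I).comp φ).comp (g i) = ((Ideal.Quotient.mkₐ R I).comp ψ).comp (g i)
        exact congrArg (fun t : S →ₐ[R] B ⧸ I => t.comp (g i)) e)
    exact AlgHom.congr_fun this x
  · have hex : ∀ i, ∃ L : G i →ₐ[R] B, (Ideal.Quotient.mkₐ R I).comp L = φ.comp (g i) := fun i => by
      haveI := h i
      exact Algebra.FormallySmooth.comp_surjective R (G i) I hI _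
    choose L hL using hex
    have hcompat : ∀ i j (hij : i ≤ j) (x : G i), L j (f i j hij x) = L i x := by
      intro i j hij x
      haveI := h i
      refine AlgHom.congr_fun (Algebra.FormallyUnramified.comp_injective (R := R) (A := G i) I hI
        (a₁ := (L j).comp (f i j hij)) (a₂ := L i) ?_) x
      change ((Ideal.Quotient.mkₐ R I).comp (L j)).comp (f i j hij) = _
      rw [hL, AlgHom.comp_assoc, hg]
      exact (hL i).symm
    have hwd : ∀ i j (x : G i) (y : G j), g i x = g j y → L i x = L j y := by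
      intro i j x y e
      obtain ⟨k, hik, hjk⟩ := exists_ge_ge i j
      have h0 : g k (f i k hik x - f j k hjk y) = 0 := by
        rw [map_sub, ← AlgHom.comp_apply, ← AlgHom.comp_apply, hg, hg, e, sub_self]
      obtain ⟨l, hkl, hl⟩ := hker k _ h0
      rw [← hcompat i k hik, ← hcompat j k hjk, ← hcompat k l hkl, ← hcompat k l hkl (f j k hjk y),
        ← sub_eq_zero, ← map_sub, ← map_sub, hl, map_zero]
    choose ix x hx using hsurj
    have hval : ∀ i (y : G i), L (ix (g i y)) (x (g i y)) = L i y := fun i y => hwd _ _ _ _ (hx _)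
    have hpair : ∀ a b : S, ∃ k, ∃ p q : G k, g k p = a ∧ g k q = b := by
      intro a b
      obtain ⟨k, hak, hbk⟩ := exists_ge_ge (ix a) (ix b)
      refine ⟨k, f _ k hak (x a), f _ k hbk (x b), ?_, ?_⟩ <;> rw [← AlgHom.comp_apply, hg] <;> exact hx _
    let Φ : S → B := fun s => L (ix s) (x s)
    have hΦ : ∀ i (y : G i), Φ (g i y) = L i y := hval
    obtain ⟨i₀⟩ := (inferInstance : Nonempty ι)
    refine ⟨{ toFun := Φ, map_one' := ?_, map_mul' := ?_, map_zero' := ?_, map_add' := ?_, commutes' := ?_ }, ?_⟩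
    · rw [← map_one (g i₀), hΦ, map_one]
    · intro a b
      obtain ⟨k, p, q, rfl, rfl⟩ := hpair a b
      rw [← map_mul, hΦ, hΦ, hΦ, map_mul]
    · rw [← map_zero (g i₀), hΦ, map_zero]
    · intro a b
      obtain ⟨k, p, q, rfl, rfl⟩ := hpair a b
      rw [← map_add, hΦ, hΦ, hΦ, map_add]
    · intro r
      rw [← (g i₀).commutes r, hΦ, AlgHom.commutes]
    · refine AlgHom.ext fun s => ?_
      have := AlgHom.congr_fun (hL (ix s)) (x s)
      simp only [AlgHom.comp_apply] at this ⊢
      rw [hx s] at this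
      exact this

end Groth.Agent.S9425
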