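import Groth.Statements.S9428
import Mathlib.RingTheory.Etale.Basic

set_option autoImplicit false
universe u
open CAlg

namespace Groth.Agent.S9428

/-- If R → S is formally étale and J ⊆ S is an ideal with R → S/J surjective, I ⊆ R its kernel (the
preimage of J), then R/I^n → S/J^n is bijective for all n. (The published statement adds that the
associated graded rings are then isomorphic, which follows from these bijections.) -/
theorem result (R : Type u) [CommRing R] (S : Type u)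
    [CommRing S] [Algebra R S] [Algebra.FormallyEtale R S] (J : Ideal S)
    (hJ : Function.Surjective (algebraMap R (S ⧸ J))) (n : ℕ) :
    Function.Bijective (Ideal.quotientMap (J ^ n) (algebraMap R S)
      (le_of_le_of_eq (Ideal.le_comap_pow (algebraMap R S) n) rfl :
        (J.comap (algebraMap R S)) ^ n ≤ (J ^ n).comap (algebraMap R S))) := by
  classical
  set I := J.comap (algebraMap R S) with hI
  let Q := R ⧸ I ^ n
  let q : Q →ₐ[R] S ⧸ J ^ n :=
    Ideal.quotientMapₐ (J ^ n) (Algebra.ofId R S) (Ideal.le_comap_pow (algebraMap R S) n)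
  change Function.Bijective q
  rcases Nat.eq_zero_or_pos n with hn | hn
  · haveI h1 : Subsingleton Q := Ideal.Quotient.subsingleton_iff.2 (by rw [hn, pow_zero, Ideal.one_eq_top])
    haveI h2 : Subsingleton (S ⧸ J ^ n) :=
      Ideal.Quotient.subsingleton_iff.2 (by rw [hn, pow_zero, Ideal.one_eq_top])
    exact ⟨fun x y _ => Subsingleton.elim x y, fun y => ⟨0, Subsingleton.elim _ _⟩⟩
  let K : Ideal Q := I.map (Ideal.Quotient.mkₐ R (I ^ n))
  have hKn : K ^ n = ⊥ := (Ideal.map_pow _ _ _).symm.trans (Ideal.map_quotient_self _)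
  have hK : IsNilpotent K := ⟨n, hKn⟩
  let e₀ : R ⧸ I →ₐ[R] S ⧸ J := Ideal.quotientMapₐ J (Algebra.ofId R S) le_rfl
  have he : Function.Bijective e₀ := by
    refine ⟨Ideal.quotientMap_injective, fun z => ?_⟩
    obtain ⟨r, rfl⟩ := hJ z
    exact ⟨Ideal.Quotient.mk I r, rfl⟩
  let e : (R ⧸ I) ≃ₐ[R] S ⧸ J := AlgEquiv.ofBijective e₀ he
  let g : S →ₐ[R] Q ⧸ K := (Ideal.quotientMapₐ K (Ideal.Quotient.mkₐ R (I ^ n)) Ideal.le_comap_map).comp
    (e.symm.toAlgHom.comp (Ideal.Quotient.mkₐ R J))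
  let ψ : S →ₐ[R] Q := Algebra.FormallySmooth.lift K hK g
  have hψ : ∀ s, Ideal.Quotient.mk K (ψ s) = g s := Algebra.FormallySmooth.mk_lift K hK g
  have hJK : J.map ψ ≤ K := by
    rw [Ideal.map_le_iff_le_comap]
    intro j hj
    rw [Ideal.mem_comap, ← Ideal.Quotient.eq_zero_iff_mem, hψ]
    simp [g, Ideal.Quotient.eq_zero_iff_mem.2 hj]
  have hker : ∀ s ∈ J ^ n, ψ s = 0 := by
    intro s hs
    have h1 : ψ s ∈ (J ^ n).map ψ := Ideal.mem_map_of_mem _ hs
    rw [Ideal.map_pow] at h1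
    exact Ideal.mem_bot.1 (hKn ▸ Ideal.pow_right_mono hJK n h1)
  let ψ' : S ⧸ J ^ n →ₐ[R] Q := Ideal.Quotient.liftₐ (J ^ n) ψ hker
  have h1 : ∀ x, ψ' (q x) = x := by
    intro x
    obtain ⟨r, rfl⟩ := Ideal.Quotient.mk_surjective x
    exact (ψ'.comp q).commutes r
  let L : Ideal (S ⧸ J ^ n) := J.map (Ideal.Quotient.mk (J ^ n))
  have hL : IsNilpotent L := ⟨n, (Ideal.map_pow _ _ _).symm.trans (Ideal.map_quotient_self _)⟩
  have h2 : q.comp ψ = Ideal.Quotient.mkₐ R (J ^ n) := by
    refine Algebra.FormallyUnramified.ext L hL fun s => ?_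
    obtain ⟨r, hr⟩ := Ideal.Quotient.mk_surjective (ψ s)
    obtain ⟨r₀, hr₀⟩ := Ideal.Quotient.mk_surjective (e.symm (Ideal.Quotient.mk J s))
    have h3 : Ideal.Quotient.mk K (Ideal.Quotient.mk (I ^ n) r) =
        Ideal.Quotient.mk K (Ideal.Quotient.mk (I ^ n) r₀) := by
      rw [hr, hψ]
      simp only [g, AlgHom.comp_apply]
      change Ideal.quotientMapₐ K _ _ (e.symm (Ideal.Quotient.mk J s)) = _
      rw [← hr₀]
      rfl
    rw [Ideal.Quotient.eq, ← map_sub] at h3
    have h4 : r - r₀ ∈ I := by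
      have h5 := (Ideal.mem_quotient_iff_mem (Ideal.pow_le_self hn.ne')).1 h3
      exact h5
    have h6 : Ideal.Quotient.mk J (algebraMap R S r₀) = Ideal.Quotient.mk J s := by
      have := congrArg e hr₀
      rw [e.apply_symm_apply] at this
      exact this
    rw [Ideal.Quotient.eq]
    change q (ψ s) - Ideal.Quotient.mk (J ^ n) s ∈ L
    rw [← hr]
    change Ideal.Quotient.mk (J ^ n) (algebraMap R S r) - Ideal.Quotient.mk (J ^ n) s ∈ L
    rw [← map_sub]
    refine Ideal.mem_map_of_mem _ ?_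
    have h7 : algebraMap R S r - algebraMap R S r₀ ∈ J := by rw [← map_sub]; exact h4
    simpa using add_mem h7 (Ideal.Quotient.eq.1 h6)
  refine ⟨Function.LeftInverse.injective h1, fun y => ?_⟩
  obtain ⟨s, rfl⟩ := Ideal.Quotient.mk_surjective y
  exact ⟨ψ s, AlgHom.congr_fun h2 s⟩

end Groth.Agent.S9428
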