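import Groth.Statements.S9430
import Groth.Agent.L07.SyntFieldExtra
import Groth.Agent.L07.CIFibre

set_option autoImplicit false
set_option backward.isDefEq.respectTransparency.types false
set_option backward.isDefEq.respectTransparency false
set_option linter.style.haveILetI false
universe u
open Synt

namespace Groth.Agent.S9430

/-- For a field extension K/k, every finite subset of K lies in a k-subalgebra of K which is a global
complete intersection over k; so K is the directed union of its k-subalgebras that are global
complete intersections over k. -/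
theorem result (k : Type u) [Field k] (K : Type u)
    [Field K] [Algebra k K] (E : Finset K) :
    ∃ A : Subalgebra k K, (↑E : Set K) ⊆ (A : Set K) ∧ Synt.IsGlobalCI k A := by
  classical
  let S₀ := Algebra.adjoin k (E : Set K)
  haveI : Algebra.FiniteType k S₀ := (Subalgebra.fg_iff_finiteType S₀).mp (Subalgebra.fg_adjoin_finset E)
  haveI : IsFractionRing S₀ (Localization.AtPrime (⊥ : Ideal S₀)) := by
    show IsLocalization _ _
    have : nonZeroDivisors S₀ = (⊥ : Ideal S₀).primeCompl := by
      ext z
      simp [Ideal.primeCompl]
    rw [this]
    infer_instance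
  have hfield : IsField (Localization.AtPrime (⊥ : Ideal S₀)) :=
    (IsFractionRing.toField S₀).toIsField
  letI := hfield.toField
  obtain ⟨g, hg, hCI⟩ := Groth.L07.Synt.exists_globalCI_away (k := k) (⊥ : Ideal S₀)
    (Groth.L07.CIFibre.isCompleteIntersection_of_regular _)
  have hg0 : (g : K) ≠ 0 := fun h => hg (by
    rw [Ideal.mem_bot]
    exact Subtype.ext h)
  let ι : Localization.Away g →ₐ[k] K :=
    AlgHom.mk (IsLocalization.Away.lift (g := algebraMap S₀ K) g (isUnit_iff_ne_zero.2 hg0)) fun c => by
      rw [IsScalarTower.algebraMap_apply k S₀ (Localization.Away g)]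
      exact IsLocalization.Away.lift_eq g _ _
  have hι : Function.Injective ι := by
    show Function.Injective (IsLocalization.Away.lift (g := algebraMap S₀ K) (S := Localization.Away g) g (isUnit_iff_ne_zero.2 hg0))
    refine (IsLocalization.lift_injective_iff (M := Submonoid.powers g) _).2 fun x y => ?_
    exact ⟨fun h => congrArg _ (IsLocalization.injective (Localization.Away g)
      (powers_le_nonZeroDivisors_of_noZeroDivisors (show g ≠ 0 from fun h0 => hg0 (by rw [h0]; rfl))) h),
      fun h => congrArg _ (Subtype.val_injective h)⟩
  refine ⟨ι.range, fun e he => ⟨algebraMap S₀ _ ⟨e, Algebra.subset_adjoin he⟩, ?_⟩, ?_⟩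
  · exact IsLocalization.Away.lift_eq (S := Localization.Away g) g (isUnit_iff_ne_zero.2 hg0) _
  · exact Groth.L07.Synt.isGlobalCI_of_algEquiv (AlgEquiv.ofInjective ι hι) hCI

end Groth.Agent.S9430
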