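import Groth.Statements.S9433
import Groth.Agent.L03.EtaleLocal
import Mathlib.RingTheory.Etale.Basic
import Mathlib.Algebra.Polynomial.Div

set_option autoImplicit false
universe u
open CAlg

open Polynomial

namespace Groth.Agent.S9433

/-- Let R → S be a local homomorphism of local rings with S the localization of an étale R-algebra at a
prime, inducing an isomorphism of residue fields. Then for some t in the maximal ideal of R the maps
R/t^nR → S/t^nS are bijective for all n ≥ 1. -/
theorem result (R : Type u) [CommRing R] [IsLocalRing R] (T : Type u) [CommRing T] [Algebra R T]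
    [Algebra.Etale R T] (q : Ideal T) [q.IsPrime] (S : Type u) [CommRing S] [IsLocalRing S]
    [Algebra T S] [IsLocalization.AtPrime S q] [Algebra R S] [IsScalarTower R T S]
    [IsLocalHom (algebraMap R S)]
    (hres : Function.Bijective (IsLocalRing.ResidueField.map (algebraMap R S))) :
    ∃ t ∈ IsLocalRing.maximalIdeal R, ∀ n : ℕ, 1 ≤ n →
      Function.Bijective (Ideal.quotientMap ((Ideal.span {t ^ n}).map (algebraMap R S))
        (algebraMap R S) Ideal.le_comap_map) := by
  obtain ⟨P, x, hx, hlift, hext⟩ := Groth.L03.EtaleLocal.exists_stdPres R T q S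
  obtain ⟨c₀, hc₀⟩ := hres.2 (IsLocalRing.residue S x)
  obtain ⟨a₀, rfl⟩ := IsLocalRing.residue_surjective c₀
  have hxc : x - algebraMap R S a₀ ∈ IsLocalRing.maximalIdeal S := by
    rw [← IsLocalRing.residue_eq_zero_iff, map_sub, sub_eq_zero, ← hc₀]
    rfl
  have haev : ∀ p : R[X], aeval x p - algebraMap R S (p.eval a₀) ∈ IsLocalRing.maximalIdeal S := fun p => by
    rw [← aeval_algebraMap_apply_eq_algebraMap_eval, aeval_def, aeval_def, ← eval_map, ← eval_map]
    exact Ideal.mem_of_dvd _ (sub_dvd_eval_sub _ _ _) hxc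
  have hu : ∀ p : R[X], IsUnit (aeval x p) → IsUnit (p.eval a₀) := fun p hp => by
    refine isUnit_of_map_unit (algebraMap R S) _ ?_
    by_contra h
    exact (IsLocalRing.mem_maximalIdeal _).1 (by simpa using add_mem (haev p) ((IsLocalRing.mem_maximalIdeal _).2 h)) hp
  let t := P.f.eval a₀
  have ht : t ∈ IsLocalRing.maximalIdeal R := by
    rw [IsLocalRing.mem_maximalIdeal]
    intro h
    have h2 := haev P.f
    rw [hx.1, zero_sub, neg_mem_iff] at h2
    exact (IsLocalRing.mem_maximalIdeal _).1 h2 (h.map _)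
  -- x is congruent to a₀ modulo t
  let F := P.f.map (algebraMap R S)
  let H := F /ₘ (X - C (algebraMap R S a₀))
  have hF : F = C (algebraMap R S t) + (X - C (algebraMap R S a₀)) * H := by
    conv_lhs => rw [← modByMonic_add_div F (X - C (algebraMap R S a₀))]
    rw [modByMonic_X_sub_C_eq_C_eval, eval_map_apply]
  have hd : F.derivative.eval x = H.eval x + (x - algebraMap R S a₀) * H.derivative.eval x := by
    rw [hF]; simp
  have hHu : IsUnit (H.eval x) := by
    have h1 : IsUnit (F.derivative.eval x) := by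
      rw [derivative_map, eval_map, ← aeval_def]; exact hx.isUnit_derivative_f
    by_contra h
    refine (IsLocalRing.mem_maximalIdeal _).1 ?_ h1
    rw [hd]
    exact add_mem ((IsLocalRing.mem_maximalIdeal _).2 h) (Ideal.mul_mem_right _ _ hxc)
  have hxt : x - algebraMap R S a₀ ∈ Ideal.span {algebraMap R S t} := by
    have h0 : F.eval x = 0 := by rw [eval_map, ← aeval_def]; exact hx.1
    rw [hF] at h0
    simp only [eval_add, eval_C, eval_mul, eval_sub, eval_X] at h0
    refine (Ideal.mul_unit_mem_iff_mem _ hHu).1 ?_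
    rw [show (x - algebraMap R S a₀) * H.eval x = -algebraMap R S t by linear_combination h0]
    exact neg_mem (Ideal.mem_span_singleton_self _)
  refine ⟨t, ht, fun n hn => ?_⟩
  -- the root in R/t^n
  let Rn := R ⧸ Ideal.span {t ^ n}
  let mn : R →+* Rn := Ideal.Quotient.mk _
  let I : Ideal Rn := Ideal.span {mn t}
  have hI : IsNilpotent I := ⟨n, by
    rw [Ideal.span_singleton_pow, ← map_pow]
    show Ideal.span {mn (t ^ n)} = ⊥
    rw [Ideal.span_singleton_eq_bot, Ideal.Quotient.eq_zero_iff_mem]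
    exact Ideal.mem_span_singleton_self _⟩
  have haevq : ∀ p : R[X], aeval (Ideal.Quotient.mk I (mn a₀)) p = Ideal.Quotient.mk I (mn (p.eval a₀)) := fun p =>
    aeval_algebraMap_apply_eq_algebraMap_eval (A := Rn ⧸ I) a₀ p
  have h1 : P.HasMap (Ideal.Quotient.mk I (mn a₀)) := by
    refine ⟨?_, ?_⟩ <;> rw [haevq]
    · exact Ideal.Quotient.eq_zero_iff_mem.2 (Ideal.mem_span_singleton_self _)
    · exact ((hu _ hx.2).map mn).map _
  obtain ⟨ψ, hψ⟩ := Algebra.FormallySmooth.exists_lift I hI (P.lift _ h1)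
  have hψX : Ideal.Quotient.mk I (ψ P.X) = Ideal.Quotient.mk I (mn a₀) := by
    simpa using AlgHom.congr_fun hψ P.X
  obtain ⟨φ, hφ⟩ := hlift Rn (ψ P.X) (StandardEtalePair.hasMap_X.map ψ) fun p hp => by
    rw [← IsNilpotent.isUnit_quotient_mk_iff hI, ← Ideal.Quotient.mkₐ_eq_mk R, ← aeval_algHom_apply,
      Ideal.Quotient.mkₐ_eq_mk, hψX, haevq]
    exact ((hu _ hp).map mn).map _
  let J : Ideal S := (Ideal.span {t ^ n}).map (algebraMap R S)
  refine ⟨?_, ?_⟩
  · have hJ : J ≤ RingHom.ker φ := Ideal.map_le_iff_le_comap.2 fun r hr => by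
      show φ (algebraMap R S r) = 0
      rw [AlgHom.commutes]
      exact Ideal.Quotient.eq_zero_iff_mem.2 hr
    rw [injective_iff_map_eq_zero]
    intro y hy
    obtain ⟨r, rfl⟩ := Ideal.Quotient.mk_surjective y
    rw [Ideal.quotientMap_mk, Ideal.Quotient.eq_zero_iff_mem] at hy
    show algebraMap R Rn r = 0
    rw [← φ.commutes]
    exact hJ hy
  · let ι : Rn →ₐ[R] S ⧸ J := Ideal.Quotient.liftₐ _ (Algebra.ofId R (S ⧸ J)) fun r hr =>
      Ideal.Quotient.eq_zero_iff_mem.2 (Ideal.mem_map_of_mem _ hr)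
    let π : S →ₐ[R] S ⧸ J := Ideal.Quotient.mkₐ R J
    let K : Ideal (S ⧸ J) := Ideal.span {π (algebraMap R S t)}
    have hK : IsNilpotent K := ⟨n, by
      rw [Ideal.span_singleton_pow, ← map_pow, ← map_pow]
      show Ideal.span {π (algebraMap R S (t ^ n))} = ⊥
      rw [Ideal.span_singleton_eq_bot]
      exact Ideal.Quotient.eq_zero_iff_mem.2 (Ideal.mem_map_of_mem _ (Ideal.mem_span_singleton_self _))⟩
    have hu1 : P.HasMap (ι (ψ P.X)) := (StandardEtalePair.hasMap_X.map ψ).map ι
    have hIK : I ≤ K.comap ι.toRingHom := (Ideal.span_singleton_le_iff_mem _).2 (Ideal.mem_span_singleton_self (π (algebraMap R S t)))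
    have hcong : ι (ψ P.X) - π x ∈ K := by
      have e1 : ι (ψ P.X - mn a₀) ∈ K := hIK ((Ideal.Quotient.eq).1 hψX)
      have e2 : π (x - algebraMap R S a₀) ∈ K := by
        obtain ⟨y, hy⟩ := Ideal.mem_span_singleton.1 hxt
        exact Ideal.mem_span_singleton.2 ⟨π y, by rw [hy, map_mul]⟩
      have e3 : ι (mn a₀) = π (algebraMap R S a₀) := rfl
      have := sub_mem e1 e2
      rw [map_sub, map_sub, e3, sub_sub_sub_cancel_right] at this
      exact this
    have heq : P.lift _ hu1 = P.lift _ (hx.map π) := by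
      refine Algebra.FormallyUnramified.ext K hK fun y => ?_
      refine AlgHom.congr_fun (φ₁ := (Ideal.Quotient.mkₐ R K).comp (P.lift _ hu1)) (φ₂ := (Ideal.Quotient.mkₐ R K).comp (P.lift _ (hx.map π))) (StandardEtalePair.hom_ext (P := P) ?_) y
      simpa using (Ideal.Quotient.eq).2 hcong
    have hιφ : ι.comp φ = π := hext _ _ _ (by
      show ι (φ x) = π x
      rw [hφ]
      simpa using AlgHom.congr_fun heq P.X)
    intro y
    obtain ⟨s, rfl⟩ := Ideal.Quotient.mk_surjective y
    refine ⟨φ s, ?_⟩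
    rw [show Ideal.Quotient.mk J s = ι (φ s) from (AlgHom.congr_fun hιφ s).symm]
    obtain ⟨r, hr⟩ := Ideal.Quotient.mk_surjective (φ s)
    rw [← hr]
    rfl

end Groth.Agent.S9433
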