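import Groth.Statements.S9434
import Groth.Agent.L03.EtaleLocal
import Mathlib.RingTheory.AdjoinRoot
import Mathlib.RingTheory.Finiteness.ModuleFinitePresentation
import Mathlib.RingTheory.Flat.FaithfullyFlat.Basic
import Mathlib.FieldTheory.Minpoly.Field
import Mathlib.RingTheory.Ideal.GoingUp

set_option autoImplicit false
universe u
open CAlg

open Polynomial

namespace Groth.Agent.S9434

/-- Let R → S be a local homomorphism of local rings with S the localization of an étale R-algebra at a
prime. Then there is a finite, finitely presented, faithfully flat R-algebra S' such that for every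
maximal ideal m' of S' the structure map R → S'_{m'} factors through some R-algebra map S → S'_{m'}. -/
theorem result (R : Type u) [CommRing R] [IsLocalRing R] (T : Type u) [CommRing T] [Algebra R T]
    [Algebra.Etale R T] (q : Ideal T) [q.IsPrime] (S : Type u) [CommRing S] [IsLocalRing S]
    [Algebra T S] [IsLocalization.AtPrime S q] [Algebra R S] [IsScalarTower R T S]
    [IsLocalHom (algebraMap R S)] :
    ∃ (S' : Type u) (_ : CommRing S') (_ : Algebra R S'),
      Module.Finite R S' ∧ Algebra.FinitePresentation R S' ∧ Module.FaithfullyFlat R S' ∧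
        ∀ (m' : Ideal S') [m'.IsMaximal], Nonempty (S →ₐ[R] Localization.AtPrime m') := by
  obtain ⟨P, x, hx, hlift, hext⟩ := Groth.L03.EtaleLocal.exists_stdPres R T q S
  obtain ⟨S', _, _, hfin, hfree, _, hsplit⟩ := P.monic_f.exists_splits_map
  haveI := hfree
  haveI := hfin
  haveI : Module.FinitePresentation R S' := Module.finitePresentation_of_projective R S'
  refine ⟨S', inferInstance, inferInstance, hfin, inferInstance, inferInstance, fun m' _ => ?_⟩
  have hmR : (m'.under R).IsMaximal := Ideal.IsMaximal.under R m'
  have hm := IsLocalRing.eq_maximalIdeal hmR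
  let κ := IsLocalRing.ResidueField R
  let κS := IsLocalRing.ResidueField S
  let κ' := S' ⧸ m'
  letI : Field κ' := Ideal.Quotient.field m'
  let i' : κ →+* κ' := Ideal.quotientMap m' (algebraMap R S') (le_of_eq hm.symm)
  have hi' : ∀ r, i' (IsLocalRing.residue R r) = Ideal.Quotient.mk m' (algebraMap R S' r) := fun _ => rfl
  let iS : κ →+* κS := IsLocalRing.ResidueField.map (algebraMap R S)
  -- residues of polynomials evaluated at x
  have hres : ∀ p : R[X], IsLocalRing.residue S (aeval x p) = (p.map (IsLocalRing.residue R)).eval₂ iS (IsLocalRing.residue S x) := fun p => by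
    rw [eval₂_map, aeval_def, hom_eval₂]
    rfl
  letI : Algebra κ κS := iS.toAlgebra
  have hint : IsIntegral κ (IsLocalRing.residue S x) :=
    ⟨P.f.map (IsLocalRing.residue R), P.monic_f.map _, by
      show Polynomial.eval₂ iS _ _ = 0
      rw [← hres, hx.1, map_zero]⟩
  let μ := minpoly κ (IsLocalRing.residue S x)
  have hdvd : μ ∣ P.f.map (IsLocalRing.residue R) := minpoly.dvd _ _ (by
    rw [aeval_def]; show Polynomial.eval₂ iS _ _ = 0
    rw [← hres, hx.1, map_zero])
  have hsp : ((P.f.map (IsLocalRing.residue R)).map i').Splits := by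
    rw [map_map, show i'.comp (IsLocalRing.residue R) = (Ideal.Quotient.mk m').comp (algebraMap R S') from RingHom.ext hi', ← map_map]
    exact hsplit.map _
  have hne : (P.f.map (IsLocalRing.residue R)).map i' ≠ 0 := ((P.monic_f.map _).map _).ne_zero
  have hsp' : (μ.map i').Splits := hsp.of_dvd hne (Polynomial.map_dvd i' hdvd)
  have hdeg : (μ.map i').degree ≠ 0 := by
    rw [degree_map]; exact (minpoly.degree_pos hint).ne'
  obtain ⟨β, hβ⟩ := hsp'.exists_eval_eq_zero hdeg
  -- β lifts to a root of f in S'
  obtain ⟨ms, hms⟩ := splits_iff_exists_multiset.1 hsplit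
  rw [(P.monic_f.map _).leadingCoeff, map_one, one_mul] at hms
  have hβ' : ((P.f.map (algebraMap R S')).map (Ideal.Quotient.mk m')).eval β = 0 := by
    rw [map_map, show (Ideal.Quotient.mk m').comp (algebraMap R S') = i'.comp (IsLocalRing.residue R) from (RingHom.ext hi').symm, ← map_map]
    exact eval_eq_zero_of_dvd_of_eval_eq_zero (Polynomial.map_dvd i' hdvd) hβ
  rw [hms, Polynomial.map_multiset_prod, eval_multiset_prod, Multiset.prod_eq_zero_iff] at hβ'
  simp only [Multiset.map_map, Multiset.mem_map, Function.comp_apply, Polynomial.map_sub, map_X, map_C, eval_sub, eval_X, eval_C, sub_eq_zero] at hβ'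
  obtain ⟨α, hα, rfl⟩ := hβ'
  have hαf : aeval α P.f = 0 := by
    rw [aeval_def, ← eval_map, hms, eval_multiset_prod]
    refine Multiset.prod_eq_zero ?_
    simp only [Multiset.map_map, Multiset.mem_map, Function.comp_apply]
    exact ⟨α, hα, by simp⟩
  -- unit criterion
  have hunit : ∀ p : R[X], IsUnit (aeval x p) → IsUnit (algebraMap S' (Localization.AtPrime m') (aeval α p)) := fun p hp => by
    refine IsLocalization.map_units (Localization.AtPrime m') (⟨_, fun hmem => ?_⟩ : m'.primeCompl)
    refine (IsLocalRing.residue_ne_zero_iff_isUnit _).2 hp ?_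
    rw [hres]
    have hirr := minpoly.irreducible hint
    have h0 : ((p.map (IsLocalRing.residue R)).map i').eval (Ideal.Quotient.mk m' α) = 0 := by
      rw [map_map, show i'.comp (IsLocalRing.residue R) = (Ideal.Quotient.mk m').comp (algebraMap R S') from RingHom.ext hi',
        ← map_map, eval_map_apply, eval_map, ← aeval_def, Ideal.Quotient.eq_zero_iff_mem]
      exact hmem
    letI : Algebra κ κ' := i'.toAlgebra
    have hμeq : μ = minpoly κ (Ideal.Quotient.mk m' α) := minpoly.eq_of_irreducible_of_monic hirr
      (by rw [aeval_def]; show Polynomial.eval₂ i' _ _ = 0; rw [← eval_map]; exact hβ) (minpoly.monic hint)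
    have hd : μ ∣ p.map (IsLocalRing.residue R) := hμeq ▸ minpoly.dvd _ _ (by
      rw [aeval_def]; show Polynomial.eval₂ i' _ _ = 0; rw [← eval_map]; exact h0)
    obtain ⟨r, hr⟩ := hd
    rw [hr, eval₂_mul, show eval₂ iS (IsLocalRing.residue S x) μ = 0 from minpoly.aeval κ _, zero_mul]
  let L := Localization.AtPrime m'
  obtain ⟨φ, -⟩ := hlift L (algebraMap S' L α) ⟨by rw [aeval_algebraMap_apply, hαf, map_zero],
    by rw [aeval_algebraMap_apply]; exact hunit _ hx.2⟩ fun p hp => by rw [aeval_algebraMap_apply]; exact hunit p hp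
  exact ⟨φ⟩

end Groth.Agent.S9434
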