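import Groth.Statements.S9437
import Groth.Agent.L06.FlatFibre

set_option autoImplicit false
set_option linter.style.haveILetI false
universe u
open CAlg

namespace Groth.Agent.S9437

/-- Serre's condition (S_k) descends along faithfully flat ring maps: if S is faithfully flat over R,
Noetherian and (S_k), then R is Noetherian and (S_k). -/
theorem result (k : ℕ) (R : Type u) [CommRing R] (S : Type u) [CommRing S]
    [Algebra R S] [Module.FaithfullyFlat R S] [IsNoetherianRing S] (hS : LocCoh.HasSk k S S) :
    IsNoetherianRing R ∧ LocCoh.HasSk k R R := by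
  haveI : IsNoetherianRing R := by
    rw [isNoetherianRing_iff, isNoetherian_iff']
    have hm : StrictMono (Ideal.map (algebraMap R S)) := Monotone.strictMono_of_injective
      (fun _ _ h => Ideal.map_mono h) (fun I J h => by
        rw [← Ideal.comap_map_eq_self_of_faithfullyFlat (B := S) I, h, Ideal.comap_map_eq_self_of_faithfullyFlat])
    haveI : WellFoundedGT (Ideal S) := isNoetherian_iff'.mp (isNoetherianRing_iff.mp inferInstance)
    exact ⟨Subrelation.wf (fun {a b} h => hm h) (InvImage.wf (Ideal.map (algebraMap R S)) wellFounded_gt)⟩
  exact ⟨inferInstance, Groth.L06.FlatFibre.hasSk_base_of_faithfullyFlat k hS⟩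

end Groth.Agent.S9437
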