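import Groth.Statements.S9439
import Groth.Agent.L01.AdicNoeth
import Mathlib.RingTheory.AdicCompletion.AsTensorProduct
import Mathlib.RingTheory.DiscreteValuationRing.TFAE
import Mathlib.RingTheory.Flat.Localization
import Mathlib.RingTheory.Filtration
import Mathlib.RingTheory.Flat.Stability
import Mathlib.RingTheory.TensorProduct.Quotient
import Mathlib.RingTheory.Ideal.AssociatedPrime.Basic

set_option autoImplicit false
universe u
open CAlg

open TensorProduct

namespace Groth.Agent.S9439

/-- Let R be a Noetherian local ring, R^ its completion and p a prime with R_p a discrete valuation ring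
and with R^/pR^ reduced (p analytically unramified: the completion of R/p, which is R^/pR^, is
reduced). Then the localization of R^ at any associated prime of R^/pR^ is a discrete valuation
ring. -/
theorem result
    (R : Type u) [CommRing R] [IsLocalRing R] [IsNoetherianRing R] (p : Ideal R) [p.IsPrime]
    [IsDomain (Localization.AtPrime p)] [IsDiscreteValuationRing (Localization.AtPrime p)]
    (hp : IsReduced (AdicCompletion (IsLocalRing.maximalIdeal R) R ⧸
      p.map (algebraMap R (AdicCompletion (IsLocalRing.maximalIdeal R) R))))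
    (q : Ideal (AdicCompletion (IsLocalRing.maximalIdeal R) R)) [q.IsPrime]
    (hq : q ∈ associatedPrimes (AdicCompletion (IsLocalRing.maximalIdeal R) R)
      (AdicCompletion (IsLocalRing.maximalIdeal R) R ⧸
        p.map (algebraMap R (AdicCompletion (IsLocalRing.maximalIdeal R) R)))) :
    ∃ _ : IsDomain (Localization.AtPrime q), IsDiscreteValuationRing (Localization.AtPrime q) := by
  have hnt : q ≠ ⊤ := Ideal.IsPrime.ne_top ‹_›
  let C := AdicCompletion (IsLocalRing.maximalIdeal R) R
  let pC := p.map (algebraMap R C)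
  haveI : IsNoetherianRing (R ⧸ IsLocalRing.maximalIdeal R) := isNoetherianRing_of_surjective _ _ (Ideal.Quotient.mk _) Ideal.Quotient.mk_surjective
  haveI : IsNoetherianRing C := Groth.L01.AdicNoeth.isNoetherianRing_adicCompletion _ (IsNoetherian.noetherian _)
  obtain ⟨-, xb, hxb⟩ := hq
  obtain ⟨x, rfl⟩ := Ideal.Quotient.mk_surjective xb
  have hmemq : ∀ y : C, y ∈ q ↔ ∃ n : ℕ, y ^ n * x ∈ pC := fun y => by
    rw [hxb, Ideal.mem_radical_iff]
    refine exists_congr fun n => ?_
    rw [Submodule.mem_colon_singleton, Submodule.mem_bot, Algebra.smul_def, Ideal.Quotient.algebraMap_eq,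
      ← map_mul, Ideal.Quotient.eq_zero_iff_mem]
  have hred : ∀ z : C, ∀ n : ℕ, z ^ n ∈ pC → z ∈ pC := fun z n hz => by
    rw [← Ideal.Quotient.eq_zero_iff_mem]
    exact IsReduced.eq_zero _ ⟨n, by rw [← map_pow, Ideal.Quotient.eq_zero_iff_mem]; exact hz⟩
  have hx : x ∉ pC := fun h => hnt ((Ideal.eq_top_iff_one q).2 ((hmemq 1).2 ⟨1, by simpa using h⟩))
  have hmul : ∀ y ∈ q, y * x ∈ pC := fun y hy => by
    obtain ⟨n, hn⟩ := (hmemq y).1 hy
    refine hred _ (n + 1) ?_
    rw [show (y * x) ^ (n + 1) = (y * x ^ n) * (y ^ n * x) by ring]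
    exact Ideal.mul_mem_left _ _ hn
  have hxq : x ∉ q := fun h => hx (hred x 2 (by rw [pow_two]; exact hmul x h))
  have hreg : ∀ (z : R) (w : C), z ∉ p → algebraMap R C z * w ∈ pC → w ∈ pC := fun z w hz hw => by
    let e := Algebra.TensorProduct.quotIdealMapEquivTensorQuot C p
    have hinj : Function.Injective ((LinearMap.lsmul R (R ⧸ p) z).lTensor C) := by
      refine Module.Flat.lTensor_preserves_injective_linearMap _ ?_
      rw [injective_iff_map_eq_zero]
      intro a ha
      obtain ⟨a, rfl⟩ := Ideal.Quotient.mk_surjective a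
      rw [LinearMap.lsmul_apply, Algebra.smul_def, Ideal.Quotient.algebraMap_eq, ← map_mul,
        Ideal.Quotient.eq_zero_iff_mem] at ha
      exact Ideal.Quotient.eq_zero_iff_mem.2 ((Ideal.IsPrime.mem_or_mem ‹_› ha).resolve_left hz)
    have hsm : ∀ t : C ⊗[R] (R ⧸ p), (LinearMap.lsmul R (R ⧸ p) z).lTensor C t = algebraMap R C z • t := fun t => by
      induction t with
      | zero => simp
      | tmul a b => rw [LinearMap.lTensor_tmul, LinearMap.lsmul_apply, algebraMap_smul, TensorProduct.tmul_smul]
      | add a b ha hb => rw [map_add, smul_add, ha, hb]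
    have h0 : e (Ideal.Quotient.mk pC w) = 0 := hinj (by
      rw [map_zero, hsm, ← map_smul, Algebra.smul_def, Ideal.Quotient.algebraMap_eq, ← map_mul,
        Ideal.Quotient.eq_zero_iff_mem.2 hw, map_zero])
    exact Ideal.Quotient.eq_zero_iff_mem.1 (e.map_eq_zero_iff.1 h0)
  have hpq : p = q.comap (algebraMap R C) := le_antisymm (fun z hz => (hmemq _).2 ⟨1, by
    rw [pow_one]; exact Ideal.mul_mem_right _ _ (Ideal.mem_map_of_mem _ hz)⟩) fun z hz => by
    by_contra hzp
    exact hx (hreg z x hzp (hmul _ hz))
  let Cq := Localization.AtPrime q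
  let φ : Localization.AtPrime p →+* Cq := Localization.localRingHom p q (algebraMap R C) hpq
  letI : Algebra (Localization.AtPrime p) Cq := φ.toAlgebra
  haveI : IsScalarTower R (Localization.AtPrime p) Cq := IsScalarTower.of_algebraMap_eq fun r => by
    show _ = φ (algebraMap R (Localization.AtPrime p) r)
    rw [Localization.localRingHom_to_map, ← IsScalarTower.algebraMap_apply]
  haveI : Module.Flat C Cq := IsLocalization.flat Cq q.primeCompl
  haveI : Module.Flat R Cq := Module.Flat.trans R C Cq
  haveI : Module.Flat (Localization.AtPrime p) Cq :=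
    (Module.flat_iff_of_isLocalization (Localization.AtPrime p) p.primeCompl Cq).2 inferInstance
  obtain ⟨π, hπ⟩ := (IsDiscreteValuationRing.exists_irreducible (Localization.AtPrime p))
  have hmax : IsLocalRing.maximalIdeal (Localization.AtPrime p) = Ideal.span {π} := hπ.maximalIdeal_eq
  let P : Cq := φ π
  have hmapp : pC.map (algebraMap C Cq) = Ideal.span {P} := by
    rw [show Ideal.span {P} = (Ideal.span {π}).map φ by rw [Ideal.map_span, Set.image_singleton],
      ← hmax, ← Localization.AtPrime.map_eq_maximalIdeal, Ideal.map_map, Ideal.map_map]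
    refine congrArg (fun f => Ideal.map f p) (RingHom.ext fun r => ?_)
    show _ = φ (algebraMap R (Localization.AtPrime p) r)
    rw [Localization.localRingHom_to_map]
    rfl
  have hmaxC : IsLocalRing.maximalIdeal Cq = Ideal.span {P} := by
    rw [← hmapp, ← Localization.AtPrime.map_eq_maximalIdeal]
    refine le_antisymm (Ideal.map_le_iff_le_comap.2 fun y hy => ?_) (Ideal.map_mono (fun y hy => (hmemq y).2 ⟨1, by
      rw [pow_one]; exact Ideal.mul_mem_right _ _ hy⟩))
    have h := Ideal.mem_map_of_mem (algebraMap C Cq) (hmul y hy)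
    rw [map_mul] at h
    exact (Ideal.mul_unit_mem_iff_mem _ (IsLocalization.map_units Cq (⟨x, hxq⟩ : q.primeCompl))).1 h
  have hPreg : ∀ a : Cq, P * a = 0 → a = 0 := fun a ha => by
    have hπ0 : IsSMulRegular (Localization.AtPrime p) π := fun a b h => mul_left_cancel₀ hπ.ne_zero h
    have h := IsSMulRegular.of_flat (S := Cq) hπ0
    exact h (show P • a = P • 0 by simp [ha])
  have hPmem : P ∈ IsLocalRing.maximalIdeal Cq := by rw [hmaxC]; exact Ideal.mem_span_singleton_self _
  have hdec : ∀ a : Cq, a ≠ 0 → ∃ n u, IsUnit u ∧ a = u * P ^ n := fun a ha => by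
    by_contra hne
    push_neg at hne
    refine ha ((Submodule.mem_bot Cq).1 ?_)
    rw [← Ideal.iInf_pow_eq_bot_of_isLocalRing _ (IsLocalRing.maximalIdeal.isMaximal Cq).ne_top, Submodule.mem_iInf]
    intro n
    induction n with
    | zero => simp
    | succ n ih =>
      rw [hmaxC, Ideal.span_singleton_pow, Ideal.mem_span_singleton'] at ih ⊢
      obtain ⟨u, hu⟩ := ih
      by_cases hU : IsUnit u
      · exact absurd hu.symm (hne n u hU)
      have hu' : u ∈ Ideal.span {P} := hmaxC ▸ (IsLocalRing.mem_maximalIdeal u).2 hU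
      obtain ⟨v, rfl⟩ := Ideal.mem_span_singleton'.1 hu'
      exact ⟨v, by rw [← hu]; ring⟩
  have hPn : ∀ (n : ℕ) (a : Cq), P ^ n * a = 0 → a = 0 := fun n => by
    induction n with
    | zero => simp
    | succ n ih => intro a ha; exact hPreg a (ih _ (by rw [← mul_assoc, ← pow_succ]; exact ha))
  haveI : NoZeroDivisors Cq := ⟨fun {a b} hab => by
    by_contra! hne
    obtain ⟨n, u, hu, rfl⟩ := hdec a hne.1
    have h1 : P ^ n * b = 0 := hu.mul_right_eq_zero.1 (by rw [← mul_assoc]; exact hab)
    exact hne.2 (hPn n b h1)⟩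
  haveI : IsDomain Cq := NoZeroDivisors.to_isDomain _
  refine ⟨inferInstance, ?_⟩
  have hnf : ¬ IsField Cq := fun hF => by
    have : P = 0 := by
      have := hPmem
      rw [IsLocalRing.isField_iff_maximalIdeal_eq.1 hF] at this
      exact this
    exact one_ne_zero (hPreg 1 (by rw [this, zero_mul]))
  exact ((IsDiscreteValuationRing.TFAE Cq hnf).out 4 0).1 (show (IsLocalRing.maximalIdeal Cq).IsPrincipal from ⟨⟨P, hmaxC⟩⟩)

end Groth.Agent.S9439
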