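import Groth.Statements.S9440
import Groth.Agent.L01.NagataFiniteType

set_option autoImplicit false
universe u
open CAlg

namespace Groth.Agent.S9440

/-- (1) ⇔ (3): a Noetherian local ring R is a Nagata ring if and only if for every finite local
homomorphism R → S of local rings with S a domain, the completion of S is reduced. -/
theorem result (R : Type u) [CommRing R]
    [IsLocalRing R] [IsNoetherianRing R] :
    CAlg.IsNagata R ↔ ∀ (S : Type u) [CommRing S] [IsDomain S] [IsLocalRing S] [Algebra R S]
      [IsLocalHom (algebraMap R S)] [Module.Finite R S],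
      IsReduced (AdicCompletion (IsLocalRing.maximalIdeal S) S) := by
  refine ⟨fun hR S _ _ _ _ _ _ => ?_, fun h => ⟨inferInstance, fun p _ => ?_⟩⟩
  · haveI : IsNoetherianRing S := IsNoetherianRing.of_finite R S
    exact Groth.L01.AnalUnram.isReduced_completion S (Groth.L01.Nagata.isNagata_of_finite (R := R) hR)
  · refine Groth.L01.Nagata.isN2_of_forall_isN1 fun B _ _ _ _ => ?_
    letI : Algebra R B := Algebra.compHom B (Ideal.Quotient.mk p)
    haveI : IsScalarTower R (R ⧸ p) B := IsScalarTower.of_algebraMap_eq fun _ => rfl
    haveI : Module.Finite R B := Module.Finite.trans (R ⧸ p) B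
    exact Groth.L01.Nagata.isN1_of_forall_finite_local h B

end Groth.Agent.S9440
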