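import Groth.Statements.S9444
import Groth.Agent.L01.CohenRing
import Groth.Agent.L01.PowSerReg
import Groth.Agent.L01.Regular
import Mathlib.RingTheory.KrullDimension.NonZeroDivisors
import Mathlib.RingTheory.MvPowerSeries.NoZeroDivisors

set_option autoImplicit false
universe u
open CAlg

namespace Groth.L03aux9444

theorem exists_equiv (R : Type u) [CommRing R] [IsRegularLocalRing R]
    [IsAdicComplete (IsLocalRing.maximalIdeal R) R] (A : Type u) [Field A] (F : A →+* R)
    (hF : Function.Surjective ((IsLocalRing.residue R).comp F)) :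
    ∃ (d : ℕ) (e : MvPowerSeries (Fin d) A ≃+* R), ∀ a, e (MvPowerSeries.C a) = F a := by
  haveI := Groth.L01.isDomain_of_regular R
  let m := IsLocalRing.maximalIdeal R
  have hfg : Submodule.FG m := IsNoetherian.noetherian m
  let G : Set R := Submodule.generators m
  haveI : Finite G := (Submodule.FG.finite_generators hfg).to_subtype
  let n := Nat.card G
  let x : Fin n → R := fun i => ((Finite.equivFin G).symm i).1
  have hx : Ideal.span (Set.range x) = m := by
    rw [show Set.range x = G by
      show Set.range (Subtype.val ∘ (Finite.equivFin G).symm) = G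
      rw [Set.range_comp, Equiv.range_eq_univ, Set.image_univ, Subtype.range_coe]]
    exact Submodule.span_generators m
  obtain ⟨φ, hC, -, hs⟩ := Groth.L01.Cohen.exists_surjective_powerSeries F hF x hx
  have hn : (n : WithBot ℕ∞) = ringKrullDim R := by
    rw [← IsRegularLocalRing.spanFinrank_maximalIdeal]
    show ((Nat.card (Submodule.generators m) : ℕ) : WithBot ℕ∞) = _
    rw [Nat.card_coe_set_eq, Submodule.FG.generators_ncard hfg]
  have hinj : Function.Injective φ := by
    rw [RingHom.injective_iff_ker_eq_bot]
    by_contra hne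
    obtain ⟨t, ht, ht0⟩ := Submodule.exists_mem_ne_zero_of_ne_bot hne
    have h1 : ringKrullDim R ≤ ringKrullDim (MvPowerSeries (Fin n) A ⧸ Ideal.span {t}) := by
      refine ringKrullDim_le_of_surjective (Ideal.Quotient.lift (Ideal.span {t}) φ fun a ha => ?_) ?_
      · obtain ⟨c, rfl⟩ := Ideal.mem_span_singleton'.1 ha
        rw [map_mul, show φ t = 0 from ht, mul_zero]
      · intro y
        obtain ⟨w, rfl⟩ := hs y
        exact ⟨Ideal.Quotient.mk _ w, rfl⟩
    have h2 := (add_le_add h1 (le_refl (1 : WithBot ℕ∞))).trans
      (ringKrullDim_quotient_succ_le_of_nonZeroDivisor (r := t) (mem_nonZeroDivisors_of_ne_zero ht0))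
    rw [Groth.L01.PowSerReg.ringKrullDim_eq (k := A) n, ← hn] at h2
    exact Nat.not_succ_le_self n (by exact_mod_cast h2)
  exact ⟨n, RingEquiv.ofBijective φ ⟨hinj, hs⟩, fun a => RingHom.congr_fun hC a⟩

end Groth.L03aux9444



namespace Groth.Agent.S9444

/-- A complete regular local ring containing a field (that is, containing the prime field F_p or ℚ) is
isomorphic to a power series ring in finitely many variables over its residue field (existence of an
isomorphism only). -/
theorem result (R : Type u)
    [CommRing R] [IsRegularLocalRing R] [IsAdicComplete (IsLocalRing.maximalIdeal R) R]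
    (k₀ : Type u) [Field k₀] [Algebra k₀ R] :
    ∃ d : ℕ, Nonempty (R ≃+* MvPowerSeries (Fin d) (IsLocalRing.ResidueField R)) := by
  let κ := IsLocalRing.ResidueField R
  obtain ⟨F, hF⟩ : ∃ F : κ →+* R, (IsLocalRing.residue R).comp F = RingHom.id _ := by
    rcases CharP.exists' κ with hz | ⟨p, hp, hpκ⟩
    · exact Groth.L01.Cohen.exists_coefficientField_charZero
    · haveI := hp
      refine Groth.L01.Cohen.exists_coefficientField_charP (p := p) ?_
      have h1 : ((IsLocalRing.residue R).comp (algebraMap k₀ R)) (p : k₀) = 0 := by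
        rw [map_natCast]; exact CharP.cast_eq_zero κ p
      have h2 : (p : k₀) = 0 := (RingHom.injective _) (h1.trans (map_zero _).symm)
      rw [← map_natCast (algebraMap k₀ R), h2, map_zero]
  obtain ⟨d, e, -⟩ := Groth.L03aux9444.exists_equiv R κ F fun y => ⟨y, RingHom.congr_fun hF y⟩
  exact ⟨d, ⟨e.symm⟩⟩

end Groth.Agent.S9444
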