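import Groth.Statements.S9445
import Mathlib.RingTheory.Etale.Basic
import Mathlib.RingTheory.Kaehler.Basic

set_option autoImplicit false
universe u
open CAlg

namespace Groth.S9445aux
open TensorProduct
variable (R : Type u) [CommRing R] (S : Type u) [CommRing S] [Algebra R S] (S' : Type u) [CommRing S']
  [Algebra R S'] [Algebra S S'] [IsScalarTower R S S']

noncomputable def mu : S' ⊗[R] S →ₐ[S'] S' :=
  Algebra.TensorProduct.lift (AlgHom.id S' S') (IsScalarTower.toAlgHom R S S') (fun _ _ => Commute.all _ _)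

lemma lmul'_map (t : S' ⊗[R] S) : Algebra.TensorProduct.lmul' R (S := S')
    (Algebra.TensorProduct.map (AlgHom.id S' S') (IsScalarTower.toAlgHom R S S') t) = mu R S S' t := by
  induction t using TensorProduct.induction_on with
  | zero => simp
  | tmul a b => simp [mu]
  | add a b ha hb => simp [ha, hb]

lemma mu_sub (s : S) : mu R S S' (algebraMap S' (S' ⊗[R] S) (algebraMap S S' s) - (1 : S') ⊗ₜ[R] s) = 0 := by
  simp [mu]

end Groth.S9445aux


open TensorProduct

namespace Groth.Agent.S9445

open TensorProduct in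
/-- For ring maps R → S → S' with S → S' formally étale and k ≥ 0, let J' ⊆ S' ⊗_R S' be the kernel of
multiplication and I ⊆ S' ⊗_R S its preimage under the map induced by S → S' (I is the kernel of S'
⊗_R S → S', and (S' ⊗_R S)/I^{k+1} is S' ⊗_S P^k_{S/R}); then (S' ⊗_R S)/I^{k+1} → (S' ⊗_R
S')/J'^{k+1} is bijective. (The consequence S' ⊗_S Ω_{S/R} ≅ Ω_{S'/R} is Mathlib's
KaehlerDifferential.isBaseChange_of_formallyEtale.) -/
theorem result (R : Type u) [CommRing R]
    (S : Type u) [CommRing S] [Algebra R S] (S' : Type u) [CommRing S'] [Algebra R S']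
    [Algebra S S'] [IsScalarTower R S S'] [Algebra.FormallyEtale S S'] (k : ℕ) :
    Function.Bijective (Ideal.quotientMap (KaehlerDifferential.ideal R S' ^ (k + 1))
      (Algebra.TensorProduct.map (AlgHom.id S' S') (IsScalarTower.toAlgHom R S S')).toRingHom
      (Ideal.le_comap_pow
        (Algebra.TensorProduct.map (AlgHom.id S' S') (IsScalarTower.toAlgHom R S S')).toRingHom
        (K := KaehlerDifferential.ideal R S') (k + 1))) := by
  let T := TensorProduct R S' S
  let T' := TensorProduct R S' S'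
  let φ : T →ₐ[S'] T' := Algebra.TensorProduct.map (AlgHom.id S' S') (IsScalarTower.toAlgHom R S S')
  let J := KaehlerDifferential.ideal R S'
  let I : Ideal T := J.comap φ.toRingHom
  let μ : T →ₐ[S'] S' := Groth.S9445aux.mu R S S'
  have hμ : ∀ t, Algebra.TensorProduct.lmul' R (S := S') (φ t) = μ t := Groth.S9445aux.lmul'_map R S S'
  have hI : ∀ t, t ∈ I ↔ μ t = 0 := fun t => by
    show φ t ∈ RingHom.ker (Algebra.TensorProduct.lmul' R (S := S')).toRingHom ↔ _
    rw [RingHom.mem_ker]; exact iff_of_eq (congrArg (· = 0) (hμ t))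
  let B := T ⧸ I ^ (k + 1)
  let mkB : T →ₐ[S'] B := Ideal.Quotient.mkₐ S' (I ^ (k + 1))
  letI : Algebra S B := ((mkB.toRingHom).comp (Algebra.TensorProduct.includeRight : S →ₐ[R] T).toRingHom).toAlgebra
  let Ibar : Ideal B := I.map (Ideal.Quotient.mk (I ^ (k + 1)))
  have hnil : IsNilpotent Ibar := ⟨k + 1, by rw [← Ideal.map_pow, Ideal.map_quotient_self]; rfl⟩
  let g : S' →ₐ[S] B ⧸ Ibar :=
    { ((Ideal.Quotient.mk Ibar).comp mkB.toRingHom).comp (algebraMap S' T) with
      commutes' := fun s => by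
        show Ideal.Quotient.mk Ibar (mkB (algebraMap S' T (algebraMap S S' s))) = Ideal.Quotient.mk Ibar (mkB ((1 : S') ⊗ₜ[R] s))
        rw [Ideal.Quotient.eq, ← map_sub]
        refine Ideal.mem_map_of_mem _ ((hI _).mpr ?_)
        exact Groth.S9445aux.mu_sub R S S' s }
  obtain ⟨σ, hσ⟩ := Algebra.FormallySmooth.exists_lift (R := S) Ibar hnil g
  -- the inverse map
  let σR : S' →ₐ[R] B :=
    { σ.toRingHom with
      commutes' := fun r => by
        show σ (algebraMap R S' r) = algebraMap R B r
        rw [IsScalarTower.algebraMap_apply R S S' r, σ.commutes]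
        show mkB ((1 : S') ⊗ₜ[R] algebraMap R S r) = _
        rw [← Algebra.TensorProduct.algebraMap_apply']
        rfl }
  let ψ : T' →ₐ[S'] B := Algebra.TensorProduct.lift (Algebra.ofId S' B) σR (fun _ _ => Commute.all _ _)
  have hψφ : ∀ t, ψ (φ t) = mkB t := fun t => by
    induction t using TensorProduct.induction_on with
    | zero => simp
    | tmul a b =>
      show ψ (a ⊗ₜ[R] algebraMap S S' b) = mkB (a ⊗ₜ[R] b)
      rw [Algebra.TensorProduct.lift_tmul]
      show algebraMap S' B a * σ (algebraMap S S' b) = _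
      rw [σ.commutes]
      show mkB (a ⊗ₜ[R] (1 : S)) * mkB ((1 : S') ⊗ₜ[R] b) = _
      rw [← map_mul, Algebra.TensorProduct.tmul_mul_tmul, mul_one, one_mul]
    | add a b ha hb => simp [ha, hb]
  have hψJ : ∀ x ∈ J ^ (k + 1), ψ x = 0 := by
    have h1 : J ≤ Ibar.comap ψ.toRingHom := by
      intro x hx
      have key : ∀ y : T', Ideal.Quotient.mk Ibar (ψ y) =
          Ideal.Quotient.mk Ibar (mkB (algebraMap S' T (Algebra.TensorProduct.lmul' R (S := S') y))) := fun y => by
        induction y using TensorProduct.induction_on with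
        | zero => simp
        | tmul a b =>
          rw [Algebra.TensorProduct.lift_tmul, Algebra.TensorProduct.lmul'_apply_tmul, map_mul, map_mul, map_mul, map_mul]
          congr 1
          exact AlgHom.congr_fun hσ b
        | add a b ha hb => simp [ha, hb]
      show ψ x ∈ Ibar
      rw [← Ideal.Quotient.eq_zero_iff_mem, key, show Algebra.TensorProduct.lmul' R (S := S') x = 0 from RingHom.mem_ker.mp hx]
      simp
    intro x hx
    have h2 := Ideal.pow_right_mono h1 (k + 1) hx
    have h3 := Ideal.le_comap_pow ψ.toRingHom (K := Ibar) (k + 1) h2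
    rw [← Ideal.map_pow, Ideal.map_quotient_self] at h3
    exact h3
  refine ⟨?_, ?_⟩
  · rw [injective_iff_map_eq_zero]
    intro b hb
    obtain ⟨t, rfl⟩ := Ideal.Quotient.mk_surjective b
    rw [Ideal.quotientMap_mk, Ideal.Quotient.eq_zero_iff_mem] at hb
    show mkB t = 0
    rw [← hψφ]; exact hψJ _ hb
  · let q : B →ₐ[S'] T' ⧸ J ^ (k + 1) := Ideal.Quotient.liftₐ (I ^ (k + 1)) ((Ideal.Quotient.mkₐ S' (J ^ (k + 1))).comp φ)
      (fun t ht => Ideal.Quotient.eq_zero_iff_mem.mpr (Ideal.le_comap_pow φ.toRingHom (K := J) (k + 1) ht))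
    have hq : ∀ t, q (mkB t) = Ideal.Quotient.mk (J ^ (k + 1)) (φ t) := fun _ => rfl
    -- the composite agrees with the projection by uniqueness of lifts
    letI : Algebra S (T' ⧸ J ^ (k + 1)) := ((Ideal.Quotient.mk _).comp ((Algebra.TensorProduct.includeRight : S' →ₐ[R] T').toRingHom.comp (algebraMap S S'))).toAlgebra
    let Jbar : Ideal (T' ⧸ J ^ (k + 1)) := J.map (Ideal.Quotient.mk (J ^ (k + 1)))
    have hJnil : IsNilpotent Jbar := ⟨k + 1, by rw [← Ideal.map_pow, Ideal.map_quotient_self]; rfl⟩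
    let a₁ : S' →ₐ[S] T' ⧸ J ^ (k + 1) :=
      { (Ideal.Quotient.mk _).comp (Algebra.TensorProduct.includeRight : S' →ₐ[R] T').toRingHom with
        commutes' := fun s => rfl }
    let a₂ : S' →ₐ[S] T' ⧸ J ^ (k + 1) :=
      { q.toRingHom.comp σ.toRingHom with
        commutes' := fun s => by
          show q (σ (algebraMap S S' s)) = _
          rw [σ.commutes]
          rfl }
    have heq : a₂ = a₁ := Algebra.FormallyUnramified.ext Jbar hJnil fun x => by
      obtain ⟨t, ht⟩ := Ideal.Quotient.mk_surjective (σ x)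
      have h1 : Ideal.Quotient.mk Ibar (mkB t) = Ideal.Quotient.mk Ibar (mkB (algebraMap S' T x)) := by
        show Ideal.Quotient.mk Ibar (Ideal.Quotient.mk _ t) = _
        rw [ht]; exact AlgHom.congr_fun hσ x
      rw [Ideal.Quotient.eq, ← map_sub, show mkB (t - algebraMap S' T x) ∈ Ibar ↔ _ from Ideal.mem_quotient_iff_mem (Ideal.pow_le_self (Nat.succ_ne_zero k)), hI] at h1
      rw [map_sub, sub_eq_zero, AlgHom.commutes] at h1
      show Ideal.Quotient.mk Jbar (q (σ x)) = Ideal.Quotient.mk Jbar (Ideal.Quotient.mk _ ((1 : S') ⊗ₜ[R] x))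
      rw [← ht, show q (Ideal.Quotient.mk _ t) = _ from hq t, Ideal.Quotient.eq, ← map_sub]
      refine Ideal.mem_map_of_mem _ (RingHom.mem_ker.mpr ?_)
      erw [map_sub, hμ, h1]
      simp
    intro y
    obtain ⟨y, rfl⟩ := Ideal.Quotient.mk_surjective y
    refine ⟨ψ y, ?_⟩
    show q (ψ y) = _
    induction y using TensorProduct.induction_on with
    | zero => simp
    | tmul a b =>
      rw [Algebra.TensorProduct.lift_tmul, map_mul]
      show q (algebraMap S' B a) * a₂ b = _
      rw [heq, AlgHom.commutes]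
      show Ideal.Quotient.mk (J ^ (k + 1)) (a ⊗ₜ[R] (1 : S')) * Ideal.Quotient.mk _ ((1 : S') ⊗ₜ[R] b) = _
      rw [← map_mul, Algebra.TensorProduct.tmul_mul_tmul, mul_one, one_mul]
    | add a b ha hb => simp [ha, hb]

end Groth.Agent.S9445
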