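import Groth.Statements.S9446
import Mathlib.RingTheory.Smooth.IntegralClosure
import Mathlib.RingTheory.Flat.EquationalCriterion
import Mathlib.LinearAlgebra.TensorProduct.Vanishing
import Mathlib.RingTheory.FinitePresentation
import Mathlib.RingTheory.Smooth.Flat

set_option autoImplicit false
universe u
open CAlg

namespace Groth.S9446aux
open TensorProduct

variable {R S : Type u} [CommRing R] [CommRing S] [Algebra R S] (hS : Smoothing.IndSmooth R S)

include hS in
lemma exists_lift {ι : Type u} [Finite ι] (s : ι → S) :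
    ∃ (C : Type u) (_ : CommRing C) (_ : Algebra R C) (_ : Algebra.Smooth R C) (h : C →ₐ[R] S) (c : ι → C),
      ∀ i, h (c i) = s i := by
  obtain ⟨C, _, _, hC, g, h, hgh⟩ := hS (MvPolynomial ι R) inferInstance (MvPolynomial.aeval s)
  refine ⟨C, inferInstance, inferInstance, hC, h, fun i => g (MvPolynomial.X i), fun i => ?_⟩
  have := DFunLike.congr_fun hgh (MvPolynomial.X i)
  simpa using this

include hS in
lemma flat : Module.Flat R S := by
  rw [Module.Flat.iff_forall_isTrivialRelation]
  intro l f x hx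
  let I : Ideal (MvPolynomial (Fin l) R) := Ideal.span {∑ i, f i • MvPolynomial.X i}
  haveI : Algebra.FinitePresentation R (MvPolynomial (Fin l) R ⧸ I) :=
    Algebra.FinitePresentation.quotient ⟨{∑ i, f i • MvPolynomial.X i}, by simp [I]⟩
  have hI : ∀ a ∈ I, MvPolynomial.aeval x a = 0 := by
    intro a ha
    obtain ⟨b, rfl⟩ := Ideal.mem_span_singleton'.mp ha
    simp [hx]
  let φ := Ideal.Quotient.liftₐ I (MvPolynomial.aeval x) hI
  let e : Fin l → MvPolynomial (Fin l) R ⧸ I := fun i => Ideal.Quotient.mk I (MvPolynomial.X i)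
  obtain ⟨C, _, _, hC, g, h, hgh⟩ := hS _ inferInstance φ
  have h0 : ∑ i, f i • g (e i) = 0 := by
    simp only [← map_smul g, ← map_sum]
    have : ∑ i, f i • e i = Ideal.Quotient.mk I (∑ i, f i • MvPolynomial.X i) := by
      simp only [e, map_sum, ← Ideal.Quotient.mkₐ_eq_mk R, map_smul]
    rw [this, Ideal.Quotient.eq_zero_iff_mem.mpr (show _ ∈ I from Ideal.mem_span_singleton_self _), map_zero]
  obtain ⟨k, a, y, hy, ha⟩ := Module.Flat.iff_forall_isTrivialRelation.mp inferInstance h0
  refine ⟨k, a, fun j => h (y j), fun i => ?_, ha⟩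
  have h1 := DFunLike.congr_fun hgh (e i)
  simp only [AlgHom.comp_apply, hy i, map_sum, map_smul] at h1
  rw [h1]
  show x i = MvPolynomial.aeval x (MvPolynomial.X i)
  simp

variable {B : Type u} [CommRing B] [Algebra R B]

include hS in
lemma exists_kill {C : Type u} [CommRing C] [Algebra R C] [Algebra.FinitePresentation R C]
    (h : C →ₐ[R] S) (y : C ⊗[R] B) (hy : Algebra.TensorProduct.map h (AlgHom.id R B) y = 0) :
    ∃ (C' : Type u) (_ : CommRing C') (_ : Algebra R C') (_ : Algebra.Smooth R C') (g : C →ₐ[R] C') (h' : C' →ₐ[R] S),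
      h'.comp g = h ∧ Algebra.TensorProduct.map g (AlgHom.id R B) y = 0 := by
  haveI := flat hS
  obtain ⟨n, c, b, rfl⟩ : ∃ (n : ℕ) (c : Fin n → C) (b : Fin n → B), y = ∑ i, c i ⊗ₜ b i := by
    obtain ⟨T, rfl⟩ := TensorProduct.exists_finset y
    exact ⟨T.card, fun i => (T.equivFin.symm i).1.1, fun i => (T.equivFin.symm i).1.2, by
      rw [← Finset.sum_coe_sort T, ← T.equivFin.symm.sum_comp]⟩
  have h0 : ∑ i, b i ⊗ₜ[R] h (c i) = 0 := by
    have := congrArg (TensorProduct.comm R S B) hy
    simpa using this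
  obtain ⟨k, a, t, ht, ha⟩ := TensorProduct.vanishesTrivially_of_sum_tmul_eq_zero_of_rTensor_injective R
    (Module.Flat.rTensor_preserves_injective_linearMap _ Subtype.val_injective) h0
  let P := MvPolynomial (Fin k) C
  let rel : Fin n → P := fun i => MvPolynomial.C (c i) - ∑ j, a i j • MvPolynomial.X j
  let I : Ideal P := Ideal.span (Set.range rel)
  haveI : Algebra.FinitePresentation R P := Algebra.FinitePresentation.trans R C P
  haveI : Algebra.FinitePresentation R (P ⧸ I) :=
    Algebra.FinitePresentation.quotient (Submodule.fg_span (Set.finite_range rel))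
  let ψ : P →ₐ[R] S := MvPolynomial.aevalTower h t
  have hI : ∀ p ∈ I, ψ p = 0 := by
    intro p hp
    refine (Ideal.span_le (I := RingHom.ker ψ.toRingHom)).mpr ?_ hp
    rintro _ ⟨i, rfl⟩
    show MvPolynomial.aevalTower h t (MvPolynomial.C (c i) - ∑ j, a i j • MvPolynomial.X j) = 0
    simp only [map_sub, map_sum, map_smul, MvPolynomial.aevalTower_C, MvPolynomial.aevalTower_X]
    exact sub_eq_zero.mpr (ht i)
  obtain ⟨C', _, _, hC', g, h', hgh⟩ := hS _ inferInstance (Ideal.Quotient.liftₐ I ψ hI)
  let G : C →ₐ[R] C' := (g.comp (Ideal.Quotient.mkₐ R I)).comp (IsScalarTower.toAlgHom R C P)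
  refine ⟨C', inferInstance, inferInstance, hC', G, h', ?_, ?_⟩
  · ext x
    have h1 := DFunLike.congr_fun hgh (Ideal.Quotient.mkₐ R I (algebraMap C P x))
    simp only [AlgHom.comp_apply] at h1
    show h' (g (Ideal.Quotient.mkₐ R I (algebraMap C P x))) = h x
    rw [h1]
    show MvPolynomial.aevalTower h t (MvPolynomial.C x) = h x
    exact MvPolynomial.aevalTower_C _ _ _
  · have hG : ∀ i, G (c i) = ∑ j, a i j • g (Ideal.Quotient.mkₐ R I (MvPolynomial.X j)) := by
      intro i
      have : Ideal.Quotient.mkₐ R I (rel i) = 0 :=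
        Ideal.Quotient.eq_zero_iff_mem.mpr (Ideal.subset_span ⟨i, rfl⟩)
      simp only [rel, map_sub, map_sum, map_smul, sub_eq_zero] at this
      show g (Ideal.Quotient.mkₐ R I (algebraMap C P (c i))) = _
      rw [MvPolynomial.algebraMap_eq, this, map_sum]
      simp only [map_smul]
    simp only [map_sum, Algebra.TensorProduct.map_tmul, AlgHom.id_apply, hG, TensorProduct.sum_tmul,
      TensorProduct.smul_tmul]
    rw [Finset.sum_comm]
    refine Finset.sum_eq_zero fun j _ => ?_
    rw [← TensorProduct.tmul_sum, ha j, TensorProduct.tmul_zero]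

lemma eval₂_map_tensor {C C' : Type u} [CommRing C] [Algebra R C] [CommRing C'] [Algebra R C']
    (g : C →ₐ[R] C') (p : Polynomial C) (z : C ⊗[R] B) :
    Algebra.TensorProduct.map g (AlgHom.id R B) (Polynomial.eval₂ (algebraMap C (C ⊗[R] B)) z p) =
      Polynomial.eval₂ (algebraMap C' (C' ⊗[R] B)) (Algebra.TensorProduct.map g (AlgHom.id R B) z) (p.map g.toRingHom) := by
  rw [Polynomial.eval₂_map]
  refine (Polynomial.hom_eval₂ p _ (Algebra.TensorProduct.map g (AlgHom.id R B)).toRingHom z).trans ?_
  congr 1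

end Groth.S9446aux

open TensorProduct

namespace Groth.Agent.S9446

/-- If S is ind-smooth over R (every R-algebra map into S from a finitely presented R-algebra factors
through a smooth R-algebra) then for every R-algebra B the canonical map S ⊗_R A → A', from the base
change of the integral closure A of R in B to the integral closure A' of S in S ⊗_R B, is bijective. -/
theorem result (R : Type u) [CommRing R] (S : Type u)
    [CommRing S] [Algebra R S] (hS : Smoothing.IndSmooth R S) (B : Type u) [CommRing B]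
    [Algebra R B] : Function.Bijective (TensorProduct.toIntegralClosure R S B) := by
  haveI := Groth.S9446aux.flat hS
  refine ⟨TensorProduct.toIntegralClosure_injective_of_flat, fun z => ?_⟩
  obtain ⟨z, hz⟩ := z
  obtain ⟨p, hp, hpz⟩ := hz
  obtain ⟨T, hT⟩ := TensorProduct.exists_finset z
  let coef : (↥T ⊕ Fin p.natDegree) → S := Sum.elim (fun t => t.1.1) (fun i => p.coeff i)
  obtain ⟨C, _, _, _, h, c, hc⟩ := Groth.S9446aux.exists_lift hS coef
  let z₀ : C ⊗[R] B := ∑ t : T, c (Sum.inl t) ⊗ₜ t.1.2
  let p₀ : Polynomial C := Polynomial.X ^ p.natDegree + ∑ i : Fin p.natDegree, Polynomial.C (c (Sum.inr i)) * Polynomial.X ^ (i : ℕ)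
  have hp₀ : p₀.Monic := Polynomial.monic_X_pow_add (by
    refine (Polynomial.degree_sum_le _ _).trans_lt ((Finset.sup_lt_iff (WithBot.bot_lt_coe _)).mpr fun i _ => ?_)
    exact (Polynomial.degree_C_mul_X_pow_le _ _).trans_lt (WithBot.coe_lt_coe.mpr i.isLt))
  have hmap : p₀.map h.toRingHom = p := by
    conv_rhs => rw [hp.as_sum]
    simp [p₀, Polynomial.map_sum, hc, coef, ← Fin.sum_univ_eq_sum_range fun i => Polynomial.C (p.coeff i) * Polynomial.X ^ i]
  have hzmap : Algebra.TensorProduct.map h (AlgHom.id R B) z₀ = z := by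
    conv_rhs => rw [hT, ← Finset.sum_coe_sort T]
    simp [z₀, hc, coef]
  have hy : Algebra.TensorProduct.map h (AlgHom.id R B) (Polynomial.eval₂ (algebraMap C (C ⊗[R] B)) z₀ p₀) = 0 := by
    rw [Groth.S9446aux.eval₂_map_tensor, hmap, hzmap]; exact hpz
  obtain ⟨C', _, _, _, g, h', hgh, hgy⟩ := Groth.S9446aux.exists_kill hS h _ hy
  have hz' : IsIntegral C' (Algebra.TensorProduct.map g (AlgHom.id R B) z₀) := by
    refine ⟨p₀.map g.toRingHom, hp₀.map _, ?_⟩
    rw [← Groth.S9446aux.eval₂_map_tensor]; exact hgy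
  obtain ⟨w, hw⟩ := (TensorProduct.toIntegralClosure_bijective_of_smooth (R := R) (S := C') (B := B)).2 ⟨_, hz'⟩
  refine ⟨Algebra.TensorProduct.map h' (AlgHom.id R (integralClosure R B)) w, Subtype.ext ?_⟩
  have e : ∀ (D : Type u) (_ : CommRing D) (_ : Algebra R D) (u : D ⊗[R] integralClosure R B),
      (TensorProduct.toIntegralClosure R D B u : D ⊗[R] B) = Algebra.TensorProduct.map (AlgHom.id R D) (integralClosure R B).val u := by
    intro D _ _ u
    induction u with
    | zero => simp
    | tmul x y => simp [TensorProduct.toIntegralClosure]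
    | add x y hx hy => simp [hx, hy]
  have hw' := congrArg Subtype.val hw
  rw [e] at hw'
  rw [e]
  show _ = z
  rw [← hzmap, ← hgh]
  have : ∀ u : C' ⊗[R] integralClosure R B,
      Algebra.TensorProduct.map (AlgHom.id R S) (integralClosure R B).val (Algebra.TensorProduct.map h' (AlgHom.id R _) u) =
      Algebra.TensorProduct.map h' (AlgHom.id R B) (Algebra.TensorProduct.map (AlgHom.id R C') (integralClosure R B).val u) := by
    intro u
    induction u with
    | zero => simp
    | tmul x y => simp
    | add x y hx hy => simp [hx, hy]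
  rw [this, hw']
  simp [z₀]

end Groth.Agent.S9446
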