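import Groth.Statements.S9448
import Groth.Agent.L05.SmoothCrit.Adapted
import Groth.Agent.S2143

set_option autoImplicit false
universe u
open Unram

namespace Groth.Agent.S9448

/-- For a field k and a finite type algebra A over the polynomial ring k[x_1, …, x_n] (the variables
mapping to a_1, …, a_n), the structure map is étale if and only if (a) the local rings of A at all
maximal ideals have dimension n and (b) da_1, …, da_n generate the module of differentials of A over
k. -/
theorem result (k : Type u) [Field k] (n : ℕ)
    (A : Type u) [CommRing A] [Algebra k A] [Algebra (MvPolynomial (Fin n) k) A]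
    [IsScalarTower k (MvPolynomial (Fin n) k) A] [Algebra.FiniteType (MvPolynomial (Fin n) k) A] :
    Algebra.Etale (MvPolynomial (Fin n) k) A ↔
      (∀ (m : Ideal A) [m.IsMaximal], ringKrullDim (Localization.AtPrime m) = n) ∧
        Submodule.span A (Set.range fun i : Fin n =>
          KaehlerDifferential.D k A (algebraMap (MvPolynomial (Fin n) k) A (MvPolynomial.X i))) = ⊤ := by
  classical
  haveI : Algebra.FiniteType k A :=
    Algebra.FiniteType.trans (R := k) (S := MvPolynomial (Fin n) k) inferInstance inferInstance
  haveI : IsNoetherianRing A := Algebra.FiniteType.isNoetherianRing k A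
  have hloc : ∀ (m : Ideal A) [m.IsMaximal],
      FlatMor.localDim (PrimeSpectrum A) ⟨m, inferInstance⟩ = ringKrullDim (Localization.AtPrime m) := by
    intro m hm
    rw [Groth.Agent.S2143.result (k := k) m]
    refine le_antisymm (iInf_le_of_le ⟨m, hm, le_rfl⟩ le_rfl) (le_iInf fun m' => ?_)
    obtain ⟨m', h1, h2⟩ := m'
    obtain rfl : m = m' := hm.eq_of_le h1.ne_top h2
    exact le_rfl
  have htrans : Submodule.span A (Set.range fun i : Fin n => KaehlerDifferential.D k A
        (algebraMap (MvPolynomial (Fin n) k) A (MvPolynomial.X i))) = ⊤ →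
      ∀ (m : Ideal A) [m.IsPrime], Submodule.span (Localization.AtPrime m)
        (Set.range (Groth.L05.SmoothCrit.dX k A n m)) = ⊤ := by
    intro h m _
    haveI : Algebra.FormallyEtale A (Localization.AtPrime m) := .of_isLocalization m.primeCompl
    have hb := congrArg (Submodule.baseChange (Localization.AtPrime m)) h
    rw [Submodule.baseChange_span, Submodule.baseChange_top, ← Set.range_comp] at hb
    have h2 := congrArg (Submodule.map
      (KaehlerDifferential.tensorKaehlerEquivOfFormallyEtale k A (Localization.AtPrime m)).toLinearMap) hb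
    rw [Submodule.map_span, Submodule.map_top, LinearEquiv.range, ← Set.range_comp] at h2
    rw [← h2]
    congr 2
    funext i
    show _ = KaehlerDifferential.tensorKaehlerEquivOfFormallyEtale k A (Localization.AtPrime m) (1 ⊗ₜ _)
    rw [KaehlerDifferential.tensorKaehlerEquivOfFormallyEtale_apply, KaehlerDifferential.mapBaseChange_tmul,
      one_smul, KaehlerDifferential.map_D]
    rfl
  constructor
  · intro he
    haveI : Algebra.FormallySmooth k A := Algebra.FormallySmooth.comp k (MvPolynomial (Fin n) k) A
    obtain ⟨hli, hsp⟩ := (Groth.L05.Kaehler.formallyEtale_mvPolynomial_iff (Fin n) k A).mp inferInstance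
    refine ⟨fun m _ => ?_, hsp⟩
    let b := Module.Basis.mk hli hsp.ge
    haveI : Algebra.IsSmoothAt k m := by
      have h1 : (⟨m, inferInstance⟩ : PrimeSpectrum A) ∈ Algebra.smoothLocus k A := by
        haveI : Algebra.FinitePresentation k A :=
          Algebra.FinitePresentation.of_finiteType.mp ‹Algebra.FiniteType k A›
        haveI : Algebra.Smooth k A := ⟨inferInstance, inferInstance⟩
        rw [Algebra.smoothLocus_eq_univ]; trivial
      exact h1
    rw [← hloc m, Groth.L05.SmoothCrit.rank_eq_localDim (k := k) m,
      show Groth.L05.SmoothCrit.rank (k := k) m = n from by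
        unfold Groth.L05.SmoothCrit.rank
        rw [Module.finrank_eq_card_basis (Algebra.TensorProduct.basis m.ResidueField b), Fintype.card_fin]]
  · rintro ⟨hdim, hsp⟩
    haveI : Algebra.FinitePresentation (MvPolynomial (Fin n) k) A :=
      Algebra.FinitePresentation.of_finiteType.mp ‹Algebra.FiniteType (MvPolynomial (Fin n) k) A›
    refine Algebra.etaleLocus_eq_univ_iff_etale.mp (Set.eq_univ_of_forall fun q => ?_)
    obtain ⟨m, hm, hqm⟩ := Ideal.exists_le_maximal q.asIdeal q.isPrime.ne_top
    have h := (Groth.L05.SmoothCrit.isEtaleAt_mvPolynomial_iff k A n m (by rw [hloc m]; exact hdim m)).mpr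
      (htrans hsp m)
    exact ((PrimeSpectrum.le_iff_specializes q ⟨m, inferInstance⟩).mp hqm).mem_open
      Algebra.isOpen_etaleLocus h

end Groth.Agent.S9448
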