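import Groth.Statements.S9449
import Groth.Agent.L05.Chart.EtaleSplittingAffine

set_option autoImplicit false
universe u
open Unram

namespace Groth.Agent.S9449

open TensorProduct in
/-- For an unramified ring map R → S and a prime p of R there exist an étale R-algebra R', a prime p' of
R' lying over p and a decomposition R' ⊗_R S ≅ A_1 × ⋯ × A_n × B of R'-algebras with every R' → A_i
surjective, p'A_i a prime ideal of A_i whose preimage in R' is p', and no prime of B lying over p'. -/
theorem result (R : Type u) [CommRing R]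
    (S : Type u) [CommRing S] [Algebra R S] [Algebra.Unramified R S] (p : Ideal R) [p.IsPrime] :
    ∃ (R' : Type u) (_ : CommRing R') (_ : Algebra R R') (_ : Algebra.Etale R R') (p' : Ideal R')
      (_ : p'.IsPrime) (_ : p'.LiesOver p) (n : ℕ) (A : Fin n → Type u) (_ : ∀ i, CommRing (A i))
      (_ : ∀ i, Algebra R' (A i)) (B : Type u) (_ : CommRing B) (_ : Algebra R' B),
      Nonempty ((R' ⊗[R] S) ≃ₐ[R'] ((∀ i, A i) × B)) ∧
        (∀ i, Function.Surjective (algebraMap R' (A i)) ∧
          (p'.map (algebraMap R' (A i))).IsPrime ∧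
          (p'.map (algebraMap R' (A i))).comap (algebraMap R' (A i)) = p') ∧
        ∀ (q : Ideal B) [q.IsPrime], q.comap (algebraMap R' B) ≠ p' := by
  classical
  haveI : Finite (p.primesOver S) := (Algebra.QuasiFinite.finite_primesOver (R := R) (S := S) p).to_subtype
  let x : p.primesOver S → PrimeSpectrum S := fun P => ⟨P.1, P.2.1⟩
  obtain ⟨R', _, _, hR', p', n, e, Q, hp', hce, hsurj, hQ, hcov, -⟩ :=
    Groth.L05.Chart.exists_affine_split R S ⟨p, inferInstance⟩ x
      (fun P => PrimeSpectrum.ext P.2.2.over.symm) (fun P => inferInstance)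
  let α : R' ⊗[R] S →ₐ[R'] (∀ i, (R' ⊗[R] S) ⧸ Ideal.span {1 - e (some i)}) ×
      ((R' ⊗[R] S) ⧸ Ideal.span {1 - e none}) :=
    (Pi.algHom R' _ fun i => Ideal.Quotient.mkₐ R' (Ideal.span {1 - e (some i)})).prod
      (Ideal.Quotient.mkₐ R' (Ideal.span {1 - e none}))
  have hb : Function.Bijective α := by
    obtain ⟨hi, hs⟩ := hce.bijective_pi
    refine ⟨fun a b hab => hi (funext fun o => ?_), fun ⟨a, b⟩ => ?_⟩
    · cases o with
      | none => exact congrArg Prod.snd hab
      | some i => exact congrFun (congrArg Prod.fst hab) i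
    · obtain ⟨t, ht⟩ := hs (fun o => match o with
        | none => b
        | some i => a i)
      exact ⟨t, Prod.ext (funext fun i => congrFun ht (some i)) (congrFun ht none)⟩
  refine ⟨R', inferInstance, inferInstance, hR', p'.asIdeal, inferInstance,
    ⟨(congrArg PrimeSpectrum.asIdeal hp').symm⟩, n, _, inferInstance, inferInstance, _, inferInstance,
    inferInstance, ⟨AlgEquiv.ofBijective α hb⟩, fun i => ?_, fun q hq hqp => ?_⟩
  · obtain ⟨h1, h2, -⟩ :=
      Groth.L05.Chart.quotient_prime (hce.idem (some i)) (Q i) (hQ i).1 (hQ i).2 (hsurj i)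
    exact ⟨hsurj i, h1, h2⟩
  · let z : PrimeSpectrum (R' ⊗[R] S) := ⟨q.comap (Ideal.Quotient.mk (Ideal.span {1 - e none})), inferInstance⟩
    have hz : PrimeSpectrum.comap (algebraMap R' (R' ⊗[R] S)) z = p' := PrimeSpectrum.ext <| by
      rw [← hqp]
      show Ideal.comap _ (q.comap _) = _
      rw [Ideal.comap_comap]
      rfl
    let z' := PrimeSpectrum.comap
      (Algebra.TensorProduct.includeRight : S →ₐ[R] R' ⊗[R] S).toRingHom z
    have hz' : z'.asIdeal.under R = p := by
      have := congrArg PrimeSpectrum.asIdeal hp'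
      rw [← hz] at this
      refine Eq.trans ?_ this
      show Ideal.comap _ (Ideal.comap _ _) = Ideal.comap _ (Ideal.comap _ _)
      rw [Ideal.comap_comap, Ideal.comap_comap]
      exact congrArg (fun φ : R →+* R' ⊗[R] S => Ideal.comap φ z.asIdeal)
        ((Algebra.TensorProduct.includeRight : S →ₐ[R] R' ⊗[R] S).comp_algebraMap.trans
          (IsScalarTower.algebraMap_eq R R' (R' ⊗[R] S)))
    obtain ⟨i, hi⟩ := hcov z hz ⟨⟨z'.asIdeal, z'.isPrime, ⟨hz'.symm⟩⟩, rfl⟩
    have h1 : 1 - e none ∈ z.asIdeal := by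
      show Ideal.Quotient.mk _ (1 - e none) ∈ q
      rw [Ideal.Quotient.eq_zero_iff_mem.mpr (Ideal.subset_span (Set.mem_singleton (1 - e none)))]
      exact q.zero_mem
    have h0 : e (some i) * e none ∈ z.asIdeal := by
      rw [hce.ortho (show some i ≠ none from nofun)]
      exact z.asIdeal.zero_mem
    have h2 : e (some i) ∈ z.asIdeal := by
      have := z.asIdeal.add_mem h0 (z.asIdeal.mul_mem_left (e (some i)) h1)
      rwa [← mul_add, add_sub_cancel, mul_one] at this
    exact (hQ i).1 (hi ▸ h2)

end Groth.Agent.S9449
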