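import Groth.Statements.S9450
import Groth.Agent.L03.CotSplit
import Mathlib.RingTheory.Jacobson.Ring
import Mathlib.LinearAlgebra.Dimension.Free
-- import your own Groth.Agent.* helpers here

set_option autoImplicit false
universe u
open CAlg

namespace Groth.Agent.S9450

open TensorProduct

/-- For ring maps A → B → C with A → C surjective and A → B formally smooth, writing I = ker(A → C) and
J = ker(B → C), the sequence 0 → I/I² → J/J² → C ⊗_B Ω_{B/A} → 0 is split exact: the first map is
injective and admits an A-linear retraction, its range is the kernel of the second map (class of x ↦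
1 ⊗ dx), and the second map is surjective. -/
theorem result (A : Type u) [CommRing A]
    (B : Type u) [CommRing B] [Algebra A B] [Algebra.FormallySmooth A B] (C : Type u) [CommRing C]
    [Algebra B C] [Algebra A C] [IsScalarTower A B C] (hC : Function.Surjective (algebraMap A C)) :
    Function.Injective (Ideal.mapCotangent (RingHom.ker (algebraMap A C))
        (RingHom.ker (algebraMap B C)) (Algebra.ofId A B)
        (le_of_eq (congrArg RingHom.ker (IsScalarTower.algebraMap_eq A B C)))) ∧
      (∃ r : (RingHom.ker (algebraMap B C)).Cotangent →ₗ[A] (RingHom.ker (algebraMap A C)).Cotangent,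
        r ∘ₗ (Ideal.mapCotangent (RingHom.ker (algebraMap A C)) (RingHom.ker (algebraMap B C))
          (Algebra.ofId A B)
          (le_of_eq (congrArg RingHom.ker (IsScalarTower.algebraMap_eq A B C)))) = LinearMap.id) ∧
      LinearMap.range (Ideal.mapCotangent (RingHom.ker (algebraMap A C))
          (RingHom.ker (algebraMap B C)) (Algebra.ofId A B)
          (le_of_eq (congrArg RingHom.ker (IsScalarTower.algebraMap_eq A B C)))) =
        LinearMap.ker ((KaehlerDifferential.kerCotangentToTensor A B C).restrictScalars A) ∧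
      Function.Surjective (KaehlerDifferential.kerCotangentToTensor A B C) := by
  let I := RingHom.ker (algebraMap A C)
  let J := RingHom.ker (algebraMap B C)
  have hle : I ≤ J.comap (Algebra.ofId A B) :=
    le_of_eq (congrArg RingHom.ker (IsScalarTower.algebraMap_eq A B C))
  let ι : A ⧸ I ^ 2 →ₐ[A] B ⧸ J ^ 2 := Ideal.Quotient.liftₐ (I ^ 2) (Algebra.ofId A (B ⧸ J ^ 2)) (fun a ha => by
    show algebraMap A (B ⧸ J ^ 2) a = 0
    rw [IsScalarTower.algebraMap_apply A B, Ideal.Quotient.algebraMap_eq, Ideal.Quotient.eq_zero_iff_mem]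
    have h2 : Ideal.map (algebraMap A B) (I ^ 2) ≤ J ^ 2 := by
      rw [Ideal.map_pow]
      exact Ideal.pow_right_mono (Ideal.map_le_iff_le_comap.2 hle) 2
    exact h2 (Ideal.mem_map_of_mem _ ha))
  -- a lift of `B → C` to `A/I²`
  let q : A ⧸ I ^ 2 →ₐ[A] C := Ideal.Quotient.liftₐ (I ^ 2) (Algebra.ofId A C)
    fun a ha => (Ideal.pow_le_self two_ne_zero ha : a ∈ I)
  have hqk : RingHom.ker q.toRingHom = I.cotangentIdeal := by
    ext x
    obtain ⟨a, rfl⟩ := Ideal.Quotient.mk_surjective x
    refine ⟨fun h => ⟨a, (show algebraMap A C a = 0 from h), rfl⟩, ?_⟩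
    rintro ⟨b, hb, hba⟩
    show q (Ideal.Quotient.mk (I ^ 2) a) = 0
    rw [← show Ideal.Quotient.mk (I ^ 2) b = Ideal.Quotient.mk (I ^ 2) a from hba]
    exact hb
  have hqn : IsNilpotent (RingHom.ker q.toRingHom) := ⟨2, by rw [hqk, I.cotangentIdeal_square]; rfl⟩
  have hqs : Function.Surjective q := fun c => by
    obtain ⟨a, rfl⟩ := hC c
    exact ⟨Ideal.Quotient.mk _ a, rfl⟩
  let σ₀ := Algebra.FormallySmooth.liftOfSurjective (IsScalarTower.toAlgHom A B C) q hqs hqn
  have hσ₀ : ∀ b, q (σ₀ b) = algebraMap B C b := fun b =>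
    Algebra.FormallySmooth.liftOfSurjective_apply (IsScalarTower.toAlgHom A B C) q hqs hqn b
  have hmk : ∀ a : A, ι (Ideal.Quotient.mk _ a) = Ideal.Quotient.mk (J ^ 2) (algebraMap A B a) := fun a => rfl
  obtain ⟨g, hg⟩ := Groth.L03.CotSplit.exists_retraction A B C (fun c => by
    obtain ⟨a, rfl⟩ := hC c
    exact ⟨algebraMap A B a, (IsScalarTower.algebraMap_apply A B C a).symm⟩) (ι.comp σ₀) (fun b => by
    obtain ⟨a, ha⟩ := Ideal.Quotient.mk_surjective (σ₀ b)
    show Ideal.Quotient.mk (J ^ 2) b - ι (σ₀ b) ∈ _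
    rw [← ha, hmk, ← map_sub]
    refine ⟨_, RingHom.mem_ker.2 ?_, rfl⟩
    rw [map_sub, ← hσ₀ b, ← ha, ← IsScalarTower.algebraMap_apply]
    exact sub_self _)
  let f := Ideal.mapCotangent I J (Algebra.ofId A B) hle
  have hker : ∀ x : J, σ₀ x ∈ LinearMap.range I.cotangentToQuotientSquare := fun x => by
    rw [Ideal.range_cotangentToQuotientSquare]
    show σ₀ x ∈ I.cotangentIdeal
    rw [← hqk]
    exact (hσ₀ x).trans x.2
  let r₀ : J →ₗ[A] I.Cotangent :=
    LinearMap.codRestrictOfInjective (σ₀.toLinearMap ∘ₗ (J.subtype.restrictScalars A))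
      I.cotangentToQuotientSquare I.cotangentToQuotientSquare_injective hker
  have hr₀ : ∀ x : J, I.cotangentToQuotientSquare (r₀ x) = σ₀ x := fun x =>
    LinearMap.codRestrictOfInjective_comp_apply _ _ _ _ x
  let r : J.Cotangent →ₗ[A] I.Cotangent := Submodule.liftQ ((J • ⊤ : Submodule B J).restrictScalars A) r₀ (fun x hx => by
    refine LinearMap.mem_ker.2 (I.cotangentToQuotientSquare_injective ?_)
    rw [hr₀, map_zero]
    have hx2 : (x : B) ∈ J ^ 2 := (J.toCotangent_eq_zero x).1 ((Submodule.Quotient.mk_eq_zero _).2 hx)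
    have h2 : Ideal.map σ₀.toRingHom (J ^ 2) ≤ ⊥ := by
      rw [Ideal.map_pow]
      refine (Ideal.pow_right_mono (Ideal.map_le_iff_le_comap.2 fun y hy => ?_) 2).trans I.cotangentIdeal_square.le
      show σ₀ y ∈ I.cotangentIdeal
      rw [← hqk]
      exact (hσ₀ y).trans hy
    exact (Submodule.mem_bot _).1 (h2 (Ideal.mem_map_of_mem σ₀.toRingHom hx2)))
  have hr : ∀ x : J, r (J.toCotangent x) = r₀ x := fun x => rfl
  have hrf : r ∘ₗ f = LinearMap.id := by
    refine LinearMap.ext fun y => ?_
    obtain ⟨a, rfl⟩ := I.toCotangent_surjective y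
    refine I.cotangentToQuotientSquare_injective ?_
    show I.cotangentToQuotientSquare (r (f (I.toCotangent a))) = Ideal.Quotient.mk (I ^ 2) (a : A)
    rw [Ideal.mapCotangent_toCotangent, hr, hr₀]
    exact σ₀.commutes (a : A)
  have hrange : LinearMap.range f =
      LinearMap.ker ((KaehlerDifferential.kerCotangentToTensor A B C).restrictScalars A) := by
    refine le_antisymm ?_ ?_
    · rintro _ ⟨y, rfl⟩
      obtain ⟨a, rfl⟩ := I.toCotangent_surjective y
      show KaehlerDifferential.kerCotangentToTensor A B C (f (I.toCotangent a)) = 0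
      rw [Ideal.mapCotangent_toCotangent, KaehlerDifferential.kerCotangentToTensor_toCotangent]
      show (1 : C) ⊗ₜ KaehlerDifferential.D A B (algebraMap A B a) = 0
      rw [Derivation.map_algebraMap, TensorProduct.tmul_zero]
    · intro y hy
      obtain ⟨x, rfl⟩ := J.toCotangent_surjective y
      have h1 : g ((1 : C) ⊗ₜ KaehlerDifferential.D A B (x : B)) = 0 := by
        rw [← KaehlerDifferential.kerCotangentToTensor_toCotangent, show
          KaehlerDifferential.kerCotangentToTensor A B C (J.toCotangent x) = 0 from hy, map_zero]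
      rw [hg, sub_eq_zero] at h1
      refine ⟨r₀ x, J.cotangentToQuotientSquare_injective ?_⟩
      obtain ⟨a, ha⟩ := I.toCotangent_surjective (r₀ x)
      rw [← ha, Ideal.mapCotangent_toCotangent]
      refine Eq.trans ?_ h1.symm
      show Ideal.Quotient.mk (J ^ 2) (algebraMap A B a) = ι (σ₀ x)
      rw [← hr₀, ← ha]
      rfl
  refine ⟨fun u v h => ?_, ⟨r, hrf⟩, hrange, Groth.L03.CotSplit.kerCotangentToTensor_surjective A B C hC⟩
  have := congrArg r h
  rw [show r (f u) = u from LinearMap.congr_fun hrf u, show r (f v) = v from LinearMap.congr_fun hrf v] at this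
  exact this

end Groth.Agent.S9450
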