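import Groth.Statements.S9452
import Groth.Agent.L05.Chart.EtaleSplittingAffine

set_option autoImplicit false
universe u
open Unram

namespace Groth.Agent.S9452

open TensorProduct in
/-- Let R → S be of finite type and unramified at a prime q lying over p. Then there are an étale
R-algebra R', a prime p' of R' over p and an R'-algebra isomorphism e : R' ⊗_R S ≅ A × B with R' → A
surjective and p'A a prime ideal of A lying over p' whose pull-back along S → R' ⊗_R S ≅ A × B → A
is q. -/
theorem result (R : Type u) [CommRing R]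
    (S : Type u) [CommRing S] [Algebra R S] [Algebra.FiniteType R S] (q : Ideal S) [q.IsPrime]
    [Algebra.IsUnramifiedAt R q] :
    ∃ (R' : Type u) (_ : CommRing R') (_ : Algebra R R') (_ : Algebra.Etale R R') (p' : Ideal R')
      (_ : p'.IsPrime) (_ : p'.LiesOver (q.under R)) (A : Type u) (_ : CommRing A) (_ : Algebra R' A)
      (B : Type u) (_ : CommRing B) (_ : Algebra R' B) (e : (R' ⊗[R] S) ≃ₐ[R'] (A × B)),
      Function.Surjective (algebraMap R' A) ∧ (p'.map (algebraMap R' A)).IsPrime ∧
        (p'.map (algebraMap R' A)).comap (algebraMap R' A) = p' ∧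
        (p'.map (algebraMap R' A)).comap (((RingHom.fst A B).comp e.toRingHom).comp
          (Algebra.TensorProduct.includeRight : S →ₐ[R] R' ⊗[R] S).toRingHom) = q := by
  obtain ⟨R', _, _, hR', p', n, e, Q, hp', hce, hsurj, hQ, -, hex⟩ :=
    Groth.L05.Chart.exists_affine_split R S (PrimeSpectrum.comap (algebraMap R S) ⟨q, inferInstance⟩)
      (fun _ : PUnit.{1} => (⟨q, inferInstance⟩ : PrimeSpectrum S)) (fun _ => rfl) (fun _ => ‹_›)
  obtain ⟨i, hi⟩ := hex PUnit.unit
  have he := hce.idem (some i)
  have hb : Function.Bijective ((Ideal.Quotient.mkₐ R' (Ideal.span {1 - e (some i)})).prod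
      (Ideal.Quotient.mkₐ R' (Ideal.span {e (some i)}))) :=
    RingHom.prod_bijective_of_isIdempotentElem he.one_sub he (sub_add_cancel _ _)
      (by rw [sub_mul, one_mul, he.eq, sub_self])
  obtain ⟨h1, h2, h3⟩ := Groth.L05.Chart.quotient_prime he (Q i) (hQ i).1 (hQ i).2 (hsurj i)
  refine ⟨R', inferInstance, inferInstance, hR', p'.asIdeal, inferInstance,
    ⟨(congrArg PrimeSpectrum.asIdeal hp').symm⟩, _, inferInstance, inferInstance, _, inferInstance,
    inferInstance, AlgEquiv.ofBijective _ hb, hsurj i, h1, h2, ?_⟩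
  refine Eq.trans ?_ (congrArg PrimeSpectrum.asIdeal hi)
  show _ = (Q i).asIdeal.comap _
  rw [← h3, Ideal.comap_comap]
  rfl

end Groth.Agent.S9452
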