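import Groth.Statements.S9453
import Mathlib.RingTheory.AdjoinRoot
import Mathlib.RingTheory.Etale.StandardEtale
import Mathlib.RingTheory.Finiteness.ModuleFinitePresentation
import Mathlib.RingTheory.Flat.FaithfullyFlat.Algebra
import Mathlib.FieldTheory.Minpoly.Field
import Mathlib.RingTheory.LocalRing.ResidueField.Ideal
import Mathlib.RingTheory.Localization.Ideal

set_option autoImplicit false
universe u
open CAlg

open Polynomial

namespace Groth.Agent.S9453

/-- For a standard étale R-algebra S there is an R-algebra S' which is finite, finitely presented and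
flat over R, with Spec S' → Spec R surjective, and such that for every prime q of S and every prime
q' of S' lying over the same prime of R there are g' ∉ q' and an R-algebra map φ : S → S'_{g'} under
which the extension of q' pulls back to q. -/
theorem result (R : Type u) [CommRing R] (S : Type u)
    [CommRing S] [Algebra R S] [Algebra.IsStandardEtale R S] :
    ∃ (S' : Type u) (_ : CommRing S') (_ : Algebra R S'),
      Module.Finite R S' ∧ Algebra.FinitePresentation R S' ∧ Module.Flat R S' ∧
        Function.Surjective (PrimeSpectrum.comap (algebraMap R S')) ∧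
        ∀ (q : Ideal S) [q.IsPrime] (q' : Ideal S') [q'.IsPrime], q'.under R = q.under R →
          ∃ (g' : S') (_ : g' ∉ q') (φ : S →ₐ[R] Localization.Away g'),
            (q'.map (algebraMap S' (Localization.Away g'))).comap φ = q := by
  rcases subsingleton_or_nontrivial R with hR | hR
  · refine ⟨R, inferInstance, inferInstance, inferInstance, inferInstance, inferInstance,
      fun p => ⟨p, by simp⟩, fun q _ q' hq' _ => absurd (Subsingleton.elim (1 : R) 0 ▸ q'.zero_mem : (1:R) ∈ q') ?_⟩
    exact fun h => hq'.ne_top ((Ideal.eq_top_iff_one q').2 h)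
  let Q : StandardEtalePresentation R S := Algebra.IsStandardEtale.nonempty_standardEtalePresentation.some
  obtain ⟨S', _, _, hfin, hfree, _, hsplit⟩ := Q.P.monic_f.exists_splits_map
  haveI := hfree
  haveI := hfin
  haveI : Module.FinitePresentation R S' := Module.finitePresentation_of_projective R S'
  refine ⟨S', inferInstance, inferInstance, hfin, inferInstance, inferInstance,
    PrimeSpectrum.comap_surjective_of_faithfullyFlat, fun q hqp q' hq'p hq => ?_⟩
  let p : Ideal R := q.under R
  haveI : p.IsPrime := Ideal.IsPrime.under R q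
  let i : p.ResidueField →+* q.ResidueField := Ideal.ResidueField.map p q (algebraMap R S) rfl
  let i' : p.ResidueField →+* q'.ResidueField := Ideal.ResidueField.map p q' (algebraMap R S') hq.symm
  have hi : ∀ r, i (algebraMap R p.ResidueField r) = algebraMap S q.ResidueField (algebraMap R S r) :=
    fun r => Ideal.ResidueField.map_algebraMap _ _ _ _ r
  have hi' : ∀ r, i' (algebraMap R p.ResidueField r) = algebraMap S' q'.ResidueField (algebraMap R S' r) :=
    fun r => Ideal.ResidueField.map_algebraMap _ _ _ _ r
  let xb := algebraMap S q.ResidueField Q.x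
  have hres : ∀ h : R[X], algebraMap S q.ResidueField (aeval Q.x h) =
      (h.map (algebraMap R p.ResidueField)).eval₂ i xb := fun h => by
    rw [eval₂_map, aeval_def, hom_eval₂]
    exact congrArg (fun f => eval₂ f xb h) (RingHom.ext fun r => (hi r).symm)
  letI : Algebra p.ResidueField q.ResidueField := i.toAlgebra
  have hfx : (Q.P.f.map (algebraMap R p.ResidueField)).eval₂ i xb = 0 := by
    rw [← hres, Q.hasMap.1, map_zero]
  have hint : IsIntegral p.ResidueField xb := ⟨_, Q.P.monic_f.map _, hfx⟩
  let μ := minpoly p.ResidueField xb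
  have hdvd : μ ∣ Q.P.f.map (algebraMap R p.ResidueField) := minpoly.dvd _ _ (by rw [aeval_def]; exact hfx)
  have hcomp : i'.comp (algebraMap R p.ResidueField) = (algebraMap S' q'.ResidueField).comp (algebraMap R S') :=
    RingHom.ext hi'
  have hsp : ((Q.P.f.map (algebraMap R p.ResidueField)).map i').Splits := by
    rw [map_map, hcomp, ← map_map]
    exact hsplit.map _
  have hne : (Q.P.f.map (algebraMap R p.ResidueField)).map i' ≠ 0 := ((Q.P.monic_f.map _).map _).ne_zero
  have hsp' : (μ.map i').Splits := hsp.of_dvd hne (Polynomial.map_dvd i' hdvd)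
  have hdeg : (μ.map i').degree ≠ 0 := by
    rw [degree_map]; exact (minpoly.degree_pos hint).ne'
  obtain ⟨β, hβ⟩ := hsp'.exists_eval_eq_zero hdeg
  obtain ⟨ms, hms⟩ := splits_iff_exists_multiset.1 hsplit
  rw [(Q.P.monic_f.map _).leadingCoeff, map_one, one_mul] at hms
  have hβ' : ((Q.P.f.map (algebraMap R S')).map (algebraMap S' q'.ResidueField)).eval β = 0 := by
    rw [map_map, ← hcomp, ← map_map]
    exact eval_eq_zero_of_dvd_of_eval_eq_zero (Polynomial.map_dvd i' hdvd) hβ
  rw [hms, Polynomial.map_multiset_prod, eval_multiset_prod, Multiset.prod_eq_zero_iff] at hβ'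
  simp only [Multiset.map_map, Multiset.mem_map, Function.comp_apply, Polynomial.map_sub, map_X, map_C, eval_sub, eval_X, eval_C, sub_eq_zero] at hβ'
  obtain ⟨α, hα, rfl⟩ := hβ'
  have hαf : aeval α Q.P.f = 0 := by
    rw [aeval_def, ← eval_map, hms, eval_multiset_prod]
    refine Multiset.prod_eq_zero ?_
    simp only [Multiset.map_map, Multiset.mem_map, Function.comp_apply]
    exact ⟨α, hα, by simp⟩
  have hiff : ∀ h : R[X], aeval Q.x h ∈ q ↔ aeval α h ∈ q' := fun h => by
    have hL : aeval Q.x h ∈ q ↔ μ ∣ h.map (algebraMap R p.ResidueField) := by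
      rw [minpoly.dvd_iff, ← Ideal.algebraMap_residueField_eq_zero, hres, aeval_def]; rfl
    letI : Algebra p.ResidueField q'.ResidueField := i'.toAlgebra
    have hμeq : μ = minpoly p.ResidueField (algebraMap S' q'.ResidueField α) :=
      minpoly.eq_of_irreducible_of_monic (minpoly.irreducible hint)
        (by rw [aeval_def]; show Polynomial.eval₂ i' _ _ = 0; rw [← eval_map]; exact hβ) (minpoly.monic hint)
    rw [hL, hμeq, minpoly.dvd_iff, ← Ideal.algebraMap_residueField_eq_zero, aeval_def, eval₂_map, aeval_def,
      hom_eval₂]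
    show eval₂ (i'.comp _) _ h = 0 ↔ _
    rw [hcomp]
  have hg : aeval α Q.P.g ∉ q' := fun h => hqp.ne_top (Ideal.eq_top_of_isUnit_mem _ ((hiff _).2 h) Q.hasMap.2)
  refine ⟨aeval α Q.P.g, hg, ?_⟩
  let A := Localization.Away (aeval α Q.P.g)
  let a : A := algebraMap S' A α
  have ha : ∀ h : R[X], aeval a h = algebraMap S' A (aeval α h) := fun h => aeval_algebraMap_apply _ _ _
  have hga : IsUnit (algebraMap S' A (aeval α Q.P.g)) := IsLocalization.Away.algebraMap_isUnit _
  have hmap : Q.P.HasMap a := ⟨by rw [ha, hαf, map_zero], by rw [ha]; exact hga⟩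
  refine ⟨(Q.P.lift a hmap).comp Q.equivRing.toAlgHom, ?_⟩
  have hφx : ((Q.P.lift a hmap).comp Q.equivRing.toAlgHom) Q.x = a := by simp
  have hd : Disjoint (Submonoid.powers (aeval α Q.P.g) : Set S') q' :=
    (Ideal.disjoint_powers_iff_notMem_of_isPrime _).2 hg
  have hprime : (q'.map (algebraMap S' A)).IsPrime :=
    IsLocalization.isPrime_of_isPrime_disjoint (Submonoid.powers (aeval α Q.P.g)) A q' hq'p hd
  ext s
  obtain ⟨h, n, hh⟩ := Q.exists_mul_aeval_x_g_pow_eq_aeval_x s
  have hu : IsUnit (aeval Q.x Q.P.g ^ n) := Q.hasMap.2.pow n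
  rw [Ideal.mem_comap]
  have h1 := congrArg ((Q.P.lift a hmap).comp Q.equivRing.toAlgHom) hh
  rw [map_mul, map_pow, ← aeval_algHom_apply, ← aeval_algHom_apply, hφx, ha, ha] at h1
  calc _ ↔ algebraMap S' A (aeval α h) ∈ q'.map (algebraMap S' A) := by
        rw [← h1, Ideal.mul_unit_mem_iff_mem _ (hga.pow n)]
    _ ↔ aeval α h ∈ q' := by
        conv_rhs => rw [← IsLocalization.under_map_of_isPrime_disjoint (Submonoid.powers (aeval α Q.P.g)) A hq'p hd]
        rfl
    _ ↔ aeval Q.x h ∈ q := (hiff h).symm
    _ ↔ s ∈ q := by rw [← hh, Ideal.mul_unit_mem_iff_mem _ hu]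

end Groth.Agent.S9453
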