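import Groth.Statements.S9454
import Groth.Agent.S9453
import Mathlib.RingTheory.Unramified.LocalStructure
import Mathlib.RingTheory.Flat.FaithfullyFlat.Algebra
import Mathlib.RingTheory.TensorProduct.Finite
import Mathlib.RingTheory.Flat.Stability

set_option autoImplicit false
universe u
open CAlg

open TensorProduct

namespace Groth.Agent.S9454

/-- For an étale ring map R → S which is surjective on spectra there is a finite, finitely presented,
flat R-algebra S' with Spec S' → Spec R surjective such that, Zariski locally on S', the structure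
map factors through S: every prime q' of S' has some g' ∉ q' and an R-algebra map S → S'_{g'}. -/
theorem result (R : Type u) [CommRing R]
    (S : Type u) [CommRing S] [Algebra R S] [Algebra.Etale R S]
    (hs : Function.Surjective (PrimeSpectrum.comap (algebraMap R S))) :
    ∃ (S' : Type u) (_ : CommRing S') (_ : Algebra R S'),
      Module.Finite R S' ∧ Algebra.FinitePresentation R S' ∧ Module.Flat R S' ∧
        Function.Surjective (PrimeSpectrum.comap (algebraMap R S')) ∧
        ∀ (q' : Ideal S') [q'.IsPrime], ∃ (g' : S') (_ : g' ∉ q'),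
          Nonempty (S →ₐ[R] Localization.Away g') := by
  suffices key : ∀ l : List {f : S // Algebra.IsStandardEtale R (Localization.Away f)},
      ∃ (S' : Type u) (_ : CommRing S') (_ : Algebra R S'),
        Module.Finite R S' ∧ Algebra.FinitePresentation R S' ∧ Module.FaithfullyFlat R S' ∧
          ∀ f ∈ l, ∀ (q : Ideal S) [q.IsPrime] (q' : Ideal S') [q'.IsPrime], q'.under R = q.under R → (f : S) ∉ q →
            ∃ (g' : S') (_ : g' ∉ q'), Nonempty (S →ₐ[R] Localization.Away g') by
    have hspan : Ideal.span {f : S | Algebra.IsStandardEtale R (Localization.Away f)} = ⊤ := by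
      by_contra hne
      obtain ⟨M, hM, hle⟩ := Ideal.exists_le_maximal _ hne
      obtain ⟨f, hf, hstd⟩ := Algebra.IsEtaleAt.exists_isStandardEtale (R := R) M
      exact hf (hle (Ideal.subset_span hstd))
    obtain ⟨T, hT, hTspan⟩ := (Ideal.span_eq_top_iff_finite _).1 hspan
    obtain ⟨S', _, _, h1, h2, h3, h4⟩ := key (T.attach.toList.map fun t : {x // x ∈ T} =>
      (⟨(t.1 : S), hT t.2⟩ : {f : S // Algebra.IsStandardEtale R (Localization.Away f)}))
    refine ⟨S', inferInstance, inferInstance, h1, h2, inferInstance,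
      PrimeSpectrum.comap_surjective_of_faithfullyFlat, fun q' _ => ?_⟩
    obtain ⟨⟨q, hq⟩, hqp⟩ := hs ⟨q'.under R, Ideal.IsPrime.under R q'⟩
    obtain ⟨f, hfT, hfq⟩ : ∃ f ∈ T, f ∉ q := by
      by_contra! h
      exact hq.ne_top (top_le_iff.1 (hTspan ▸ Ideal.span_le.2 h))
    exact h4 ⟨f, hT hfT⟩ (List.mem_map.2 ⟨⟨f, hfT⟩, by simp, rfl⟩) q q' (congrArg PrimeSpectrum.asIdeal hqp).symm hfq
  intro l
  induction l with
  | nil => exact ⟨R, inferInstance, inferInstance, inferInstance, inferInstance, inferInstance, by simp⟩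
  | cons f l ih =>
    obtain ⟨S₁, _, _, hfin₁, hfp₁, hff₁, h₁⟩ := ih
    haveI := f.2
    obtain ⟨S₂, _, _, hfin₂, hfp₂, hfl₂, hsurj₂, h₂⟩ := Groth.Agent.S9453.result R (Localization.Away (f : S))
    haveI := hfl₂
    haveI : Module.FaithfullyFlat R S₂ := Module.FaithfullyFlat.of_comap_surjective hsurj₂
    haveI : Module.FaithfullyFlat R (S₁ ⊗[R] S₂) := Module.FaithfullyFlat.trans R S₁ (S₁ ⊗[R] S₂)
    haveI : Algebra.FinitePresentation R (S₁ ⊗[R] S₂) := Algebra.FinitePresentation.trans R S₁ (S₁ ⊗[R] S₂)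
    refine ⟨S₁ ⊗[R] S₂, inferInstance, inferInstance, inferInstance, inferInstance, inferInstance,
      fun g hg q hq q' hq' hqq hgq => ?_⟩
    have push : ∀ (B : Type u) [CommRing B] [Algebra R B] (ψ : B →ₐ[R] S₁ ⊗[R] S₂) (g₁ : B),
        g₁ ∉ q'.comap ψ → Nonempty (S →ₐ[R] Localization.Away g₁) →
        ∃ (g' : S₁ ⊗[R] S₂) (_ : g' ∉ q'), Nonempty (S →ₐ[R] Localization.Away g') := by
      intro B _ _ ψ g₁ hg₁ ⟨φ⟩
      refine ⟨ψ g₁, hg₁, ⟨AlgHom.comp ?_ φ⟩⟩
      exact IsLocalization.Away.liftAlgHom g₁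
        (f := (IsScalarTower.toAlgHom R (S₁ ⊗[R] S₂) (Localization.Away (ψ g₁))).comp ψ)
        (by exact IsLocalization.Away.algebraMap_isUnit (ψ g₁))
    have hund : ∀ (B : Type u) [CommRing B] [Algebra R B] (ψ : B →ₐ[R] S₁ ⊗[R] S₂),
        (q'.comap ψ).under R = q.under R := fun B _ _ ψ => by
      rw [← hqq]; ext r; simp [Ideal.mem_comap]
    rcases List.mem_cons.1 hg with rfl | hg
    · let q₂ := q'.comap (Algebra.TensorProduct.includeRight : S₂ →ₐ[R] S₁ ⊗[R] S₂)
      have hd : Disjoint (Submonoid.powers (g : S) : Set S) q :=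
        (Ideal.disjoint_powers_iff_notMem_of_isPrime _).2 hgq
      haveI := IsLocalization.isPrime_of_isPrime_disjoint (Submonoid.powers (g : S)) (Localization.Away (g : S)) q hq hd
      have hu : (q.map (algebraMap S (Localization.Away (g : S)))).under R = q.under R := by
        rw [← Ideal.under_under (B := S), IsLocalization.under_map_of_isPrime_disjoint _ _ hq hd]
      obtain ⟨g₂, hg₂, φ, -⟩ := h₂ (q.map (algebraMap S (Localization.Away (g : S)))) q₂ ((hund _ _).trans hu.symm)
      exact push S₂ Algebra.TensorProduct.includeRight g₂ hg₂ ⟨φ.comp (IsScalarTower.toAlgHom R S (Localization.Away (g : S)))⟩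
    · obtain ⟨g₁, hg₁, hφ⟩ := h₁ g hg q (q'.comap (Algebra.TensorProduct.includeLeft : S₁ →ₐ[R] S₁ ⊗[R] S₂)) (hund _ _) hgq
      exact push S₁ Algebra.TensorProduct.includeLeft g₁ hg₁ hφ

end Groth.Agent.S9454
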