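import Groth.Statements.S9455
import Groth.Agent.L01.CohenLift
import Mathlib.RingTheory.Smooth.Basic
import Mathlib.RingTheory.AdicCompletion.Basic
import Mathlib.RingTheory.DiscreteValuationRing.Basic
import Mathlib.Data.ZMod.Basic

set_option autoImplicit false
universe u
open CAlg

namespace Groth.Agent.S9455

/-- If Λ is a Cohen ring (a complete discrete valuation ring with maximal ideal generated by a prime
number p) then Λ/p^nΛ is formally smooth over ℤ/p^nℤ for every n ≥ 1; the ℤ/p^nℤ-algebra structure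
on Λ/p^nΛ is the unique one and is taken as a hypothesis. -/
theorem result (Λ : Type u) [CommRing Λ] [IsDomain Λ]
    [IsDiscreteValuationRing Λ] [IsAdicComplete (IsLocalRing.maximalIdeal Λ) Λ] (p : ℕ)
    (hp : p.Prime) (hm : IsLocalRing.maximalIdeal Λ = Ideal.span {(p : Λ)}) (n : ℕ) (hn : 1 ≤ n)
    [Algebra (ZMod (p ^ n)) (Λ ⧸ Ideal.span {((p : Λ) ^ n)})] :
    Algebra.FormallySmooth (ZMod (p ^ n)) (Λ ⧸ Ideal.span {((p : Λ) ^ n)}) := by
  haveI := Fact.mk hp
  have hp0 : (p : Λ) ≠ 0 := fun h => IsDiscreteValuationRing.not_a_field Λ (by rw [hm, h, Ideal.span_singleton_eq_bot])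
  have hAn : (p : Λ ⧸ (Ideal.span {(p : Λ) ^ n})) ^ n = 0 := by
    rw [← map_natCast (Ideal.Quotient.mk (Ideal.span {(p : Λ) ^ n})), ← map_pow, Ideal.Quotient.eq_zero_iff_mem]
    exact Ideal.mem_span_singleton_self _
  have hne : (Ideal.span {((p : ℕ) : Λ ⧸ (Ideal.span {(p : Λ) ^ n}))}).IsMaximal := by
    have : (IsLocalRing.maximalIdeal Λ).map (Ideal.Quotient.mk (Ideal.span {(p : Λ) ^ n})) = Ideal.span {((p : ℕ) : Λ ⧸ (Ideal.span {(p : Λ) ^ n}))} := by
      rw [hm, Ideal.map_span, Set.image_singleton, map_natCast]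
    rw [← this]
    refine Ideal.IsMaximal.map_of_surjective_of_ker_le Ideal.Quotient.mk_surjective ?_
    rw [Ideal.mk_ker, hm, Ideal.span_singleton_le_iff_mem]
    exact Ideal.pow_mem_of_mem _ (Ideal.mem_span_singleton_self _) _ hn
  have htor : ∀ a : Λ ⧸ (Ideal.span {(p : Λ) ^ n}), (p : Λ ⧸ (Ideal.span {(p : Λ) ^ n})) * a = 0 → ∃ b, a = (p : Λ ⧸ (Ideal.span {(p : Λ) ^ n})) ^ (n - 1) * b := fun a ha => by
    obtain ⟨a, rfl⟩ := Ideal.Quotient.mk_surjective a
    rw [← map_natCast (Ideal.Quotient.mk (Ideal.span {(p : Λ) ^ n})), ← map_mul, Ideal.Quotient.eq_zero_iff_mem,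
      Ideal.mem_span_singleton'] at ha
    obtain ⟨c, hc⟩ := ha
    refine ⟨Ideal.Quotient.mk (Ideal.span {(p : Λ) ^ n}) c, ?_⟩
    have h0 : a = (p : Λ) ^ (n - 1) * c := mul_left_cancel₀ hp0 (by rw [← hc, ← mul_assoc, ← pow_succ', Nat.sub_add_cancel hn, mul_comm])
    rw [h0, map_mul, map_pow, map_natCast]
  refine Algebra.FormallySmooth.of_comp_surjective ?_
  intro B instB instAB J hJ f
  have hB : (p : B) ^ n = 0 := by
    rw [← map_natCast (algebraMap (ZMod (p ^ n)) B), ← map_pow, ← Nat.cast_pow, ZMod.natCast_self, map_zero]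
  obtain ⟨g, hg⟩ := Groth.L01.Cohen.exists_lift_of_flat (p := p) (n := n) hn hAn htor hne hB (Ideal.Quotient.mk J)
    Ideal.Quotient.mk_surjective (by rw [Ideal.mk_ker]; exact hJ) f.toRingHom
  exact ⟨{ g with commutes' := RingHom.congr_fun (Subsingleton.elim (g.comp (algebraMap (ZMod (p ^ n)) _)) (algebraMap (ZMod (p ^ n)) B)) },
    AlgHom.coe_ringHom_injective hg⟩

end Groth.Agent.S9455
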