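import Groth.Statements.S9456
import Groth.Agent.L07.FlatStage
import Mathlib.RingTheory.IsTensorProduct
import Mathlib.Algebra.Module.Torsion.Basic
import Mathlib.RingTheory.Finiteness.ModuleFinitePresentation
import Mathlib.RingTheory.Ideal.Quotient.Operations
import Mathlib.RingTheory.Ideal.Quotient.Defs

set_option autoImplicit false
universe u
open CAlg

set_option maxHeartbeats 1000000
open Groth.L07.FlatDescent TensorProduct

namespace Groth.Agent.S9456

/-- The models over an arbitrary stage. -/
theorem aux {R' B R S M : Type u} [CommRing R'] [CommRing B] [CommRing R] [CommRing S]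
    [Algebra R' B] [Algebra B R] [Algebra R' R] [IsScalarTower R' B R] [Algebra R S] [Algebra B S]
    [IsScalarTower B R S] [AddCommGroup M] [Module S M] {d n : ℕ}
    (π : MvPolynomial (Fin d) R →ₐ[R] S) (hπ : Function.Surjective π)
    (Gs : Finset (MvPolynomial (Fin d) R)) (hGs : Ideal.span (Gs : Set _) = RingHom.ker π.toRingHom)
    (w : MvPolynomial (Fin d) R → MvPolynomial (Fin d) R')
    (hw : ∀ g ∈ Gs, MvPolynomial.map (algebraMap R' R) (w g) = g)
    [Module (MvPolynomial (Fin d) R) M]
    (hcomp : ∀ (p : MvPolynomial (Fin d) R) (x : M), p • x = π p • x)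
    (m : Fin n → M) (q : F d n R →ₗ[MvPolynomial (Fin d) R] M)
    (hqapp : ∀ v : F d n R, q v = ∑ i, π (v i) • m i) (hqs : Function.Surjective q)
    (G₀ G : Finset (F d n R)) (hG₀ : Submodule.span (MvPolynomial (Fin d) R) (G₀ : Set _) = LinearMap.ker q)
    (hG₀G : ∀ y ∈ G₀, y ∈ G) (z : F d n R → F d n R') (hz : ∀ y ∈ G, ψ R (z y) = y)
    (K : Submodule (MvPolynomial (Fin d) R') (F d n R'))
    (hKz : ∀ y ∈ G, z y ∈ K) (hKw : ∀ g ∈ Gs, ∀ i, Pi.single i (w g) ∈ K)
    (hKker : KP (C := R) K = LinearMap.ker q) (hflat : Module.Flat B (MC B K)) :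
    ∃ (S₀ : Type u) (_ : CommRing S₀) (_ : Algebra B S₀) (_ : Algebra S₀ S)
      (_ : IsScalarTower B S₀ S) (M₀ : Type u) (_ : AddCommGroup M₀) (_ : Module S₀ M₀)
      (_ : Module B M₀) (_ : IsScalarTower B S₀ M₀) (_ : Module S₀ M) (_ : IsScalarTower S₀ S M)
      (f : M₀ →ₗ[S₀] M),
      Algebra.FiniteType B S₀ ∧ Module.Finite S₀ M₀ ∧ Module.Flat B M₀ ∧
        Algebra.IsPushout B R S₀ S ∧ IsBaseChange S f := by
  classical
  -- the models
  let ρ : MvPolynomial (Fin d) B →ₐ[B] S := MvPolynomial.aeval fun k => π (MvPolynomial.X k)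
  have hρmap : ∀ p, ρ p = π (MvPolynomial.map (algebraMap B R) p) := fun p => by
    rw [show π (MvPolynomial.map (algebraMap B R) p) =
      MvPolynomial.aeval (fun k => π (MvPolynomial.X k)) (MvPolynomial.map (algebraMap B R) p) from
        (DFunLike.congr_fun (MvPolynomial.aeval_unique π) _), MvPolynomial.aeval_map_algebraMap]
  let J₀ : Ideal (MvPolynomial (Fin d) B) := Ideal.span (((fun g => MvPolynomial.map (algebraMap R' B) (w g)) '' Gs))
  have hmapw : ∀ g ∈ Gs, MvPolynomial.map (algebraMap B R) (MvPolynomial.map (algebraMap R' B) (w g)) = g := by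
    intro g hg
    rw [MvPolynomial.map_map, ← IsScalarTower.algebraMap_eq, hw g hg]
  have hJ₀ : ∀ p ∈ J₀, ρ p = 0 := by
    intro p hp
    have h : J₀ ≤ RingHom.ker ρ.toRingHom := by
      rw [Ideal.span_le]
      rintro _ ⟨g, hg, rfl⟩
      show ρ (MvPolynomial.map (algebraMap R' B) (w g)) = 0
      rw [hρmap, hmapw g hg]
      exact (hGs ▸ Ideal.subset_span hg : g ∈ RingHom.ker π.toRingHom)
    exact h hp
  let τ : (MvPolynomial (Fin d) B ⧸ J₀) →ₐ[B] S := Ideal.Quotient.liftₐ J₀ ρ hJ₀
  have htor : Module.IsTorsionBySet (MvPolynomial (Fin d) B) (F d n B ⧸ KP (C := B) K) (J₀ : Set _) := by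
    intro x ⟨p, hp⟩
    obtain ⟨v, rfl⟩ := Submodule.Quotient.mk_surjective _ x
    show p • Submodule.Quotient.mk v = 0
    rw [← Submodule.Quotient.mk_smul, Submodule.Quotient.mk_eq_zero]
    induction hp using Submodule.span_induction with
    | mem p hp =>
      obtain ⟨g, hg, rfl⟩ := hp
      rw [show v = ∑ i, v i • (Pi.single i 1 : F d n B) by funext j; simp [Finset.sum_apply, Pi.single_apply], Finset.smul_sum]
      refine Submodule.sum_mem _ fun i _ => ?_
      rw [smul_comm]
      refine Submodule.smul_mem _ _ ?_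
      rw [show MvPolynomial.map (algebraMap R' B) (w g) • (Pi.single i 1 : F d n B) = ψ B (Pi.single i (w g) : F d n R') by
        funext j
        rw [ψ_apply]
        by_cases h : j = i
        · subst h; simp
        · simp [h]]
      exact ψ_mem K (hKw g hg i)
    | zero => simp
    | add a b _ _ ha hb => rw [add_smul]; exact add_mem ha hb
    | smul c a _ ha => rw [smul_assoc]; exact Submodule.smul_mem _ _ ha
  let _ : Module (MvPolynomial (Fin d) B ⧸ J₀) (F d n B ⧸ KP (C := B) K) := htor.module
  have hmod : ∀ (p : MvPolynomial (Fin d) B) (x : F d n B ⧸ KP (C := B) K),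
      Ideal.Quotient.mk J₀ p • x = p • x := fun p x => rfl
  have : IsScalarTower B (MvPolynomial (Fin d) B ⧸ J₀) (F d n B ⧸ KP (C := B) K) := ⟨fun b s x => by
    obtain ⟨p, rfl⟩ := Ideal.Quotient.mk_surjective s
    show Ideal.Quotient.mk J₀ (b • p) • x = b • Ideal.Quotient.mk J₀ p • x
    rw [hmod, hmod, smul_assoc]⟩
  let _ : Algebra (MvPolynomial (Fin d) B ⧸ J₀) S := τ.toRingHom.toAlgebra
  have : IsScalarTower B (MvPolynomial (Fin d) B ⧸ J₀) S :=
    IsScalarTower.of_algebraMap_eq fun b => (τ.commutes b).symm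
  let _ : Module (MvPolynomial (Fin d) B ⧸ J₀) M := Module.compHom M τ.toRingHom
  have : IsScalarTower (MvPolynomial (Fin d) B ⧸ J₀) S M := ⟨fun s b x => by
    show (τ s * b) • x = τ s • b • x
    rw [mul_smul]⟩
  -- the comparison map
  have hqψ : ∀ x ∈ KP (C := B) K, q (ψ R x) = 0 := by
    intro x hx
    have h1 : ψ R x ∈ KC R (KP (C := B) K) := ψ_mem _ hx
    rw [KC_KP] at h1
    exact LinearMap.mem_ker.1 (hKker.le h1)
  let f₀ : F d n B →+ M := q.toAddMonoidHom.comp (ψ R).toAddMonoidHom
  let f : (F d n B ⧸ KP (C := B) K) →ₗ[MvPolynomial (Fin d) B ⧸ J₀] M :=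
    { toFun := fun x => QuotientAddGroup.lift (KP (C := B) K).toAddSubgroup f₀
        (fun y hy => hqψ y hy) x
      map_add' := map_add _
      map_smul' := fun s x => by
        obtain ⟨p, rfl⟩ := Ideal.Quotient.mk_surjective s
        obtain ⟨v, rfl⟩ := Submodule.Quotient.mk_surjective _ x
        show q (ψ R (p • v)) = τ (Ideal.Quotient.mk J₀ p) • q (ψ R v)
        rw [ψ_poly_smul, map_smul]
        rw [hcomp]
        show π (MvPolynomial.map (algebraMap B R) p) • q (ψ R v) = ρ p • q (ψ R v)
        rw [hρmap] }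
  have hf : ∀ v, f (Submodule.Quotient.mk v) = q (ψ R v) := fun v => rfl
  refine ⟨MvPolynomial (Fin d) B ⧸ J₀, inferInstance, inferInstance, inferInstance,
    inferInstance, F d n B ⧸ KP (C := B) K, inferInstance, inferInstance, inferInstance,
    inferInstance, inferInstance, inferInstance, f, inferInstance, ?_, ?_, ?_, ?_⟩
  · have : Module.Finite (MvPolynomial (Fin d) B) (F d n B ⧸ KP (C := B) K) := inferInstance
    have : IsScalarTower (MvPolynomial (Fin d) B) (MvPolynomial (Fin d) B ⧸ J₀) (F d n B ⧸ KP (C := B) K) := htor.isScalarTower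
    exact Module.Finite.of_restrictScalars_finite (MvPolynomial (Fin d) B) _ _
  · exact Module.Flat.of_linearEquiv
      ((Submodule.quotEquivOfEq (KC B K) ((KP (C := B) K).restrictScalars B) rfl) ≪≫ₗ
        Submodule.Quotient.restrictScalarsEquiv B (KP (C := B) K)).symm
  · -- the algebra is a base change
    let g : TensorProduct B R (MvPolynomial (Fin d) B ⧸ J₀) →ₐ[R] S :=
      Algebra.TensorProduct.lift (Algebra.ofId R S) τ (fun _ _ => Commute.all _ _)
    let h : MvPolynomial (Fin d) R →ₐ[R] TensorProduct B R (MvPolynomial (Fin d) B ⧸ J₀) :=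
      MvPolynomial.aeval fun k => (1 : R) ⊗ₜ[B] Ideal.Quotient.mk J₀ (MvPolynomial.X k)
    have hcomp : ∀ p, g (h p) = π p := fun p => by
      have : g.comp h = π := MvPolynomial.algHom_ext fun k => by
        rw [AlgHom.comp_apply, MvPolynomial.aeval_X]
        show Algebra.TensorProduct.lift (Algebra.ofId R S) τ _ _ = _
        rw [Algebra.TensorProduct.lift_tmul, map_one, one_mul]
        exact MvPolynomial.aeval_X _ k
      exact DFunLike.congr_fun this p
    have hhmap : ∀ p, h (MvPolynomial.map (algebraMap B R) p) = (1 : R) ⊗ₜ[B] Ideal.Quotient.mk J₀ p := fun p => by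
      have : (h.restrictScalars B).comp (MvPolynomial.mapAlgHom (Algebra.ofId B R)) =
          (Algebra.TensorProduct.includeRight : _ →ₐ[B] TensorProduct B R (MvPolynomial (Fin d) B ⧸ J₀)).comp (Ideal.Quotient.mkₐ B J₀) :=
        MvPolynomial.algHom_ext fun k => by simp [h]
      exact DFunLike.congr_fun this p
    have hhs : Function.Surjective h := by
      intro x
      induction x with
      | zero => exact ⟨0, map_zero h⟩
      | tmul r s =>
        obtain ⟨p, rfl⟩ := Ideal.Quotient.mk_surjective s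
        refine ⟨r • MvPolynomial.map (algebraMap B R) p, ?_⟩
        rw [map_smul, hhmap, TensorProduct.smul_tmul', smul_eq_mul, mul_one]
      | add a b ha hb =>
        obtain ⟨a', rfl⟩ := ha
        obtain ⟨b', rfl⟩ := hb
        exact ⟨a' + b', map_add h _ _⟩
    have hbij : Function.Bijective g := by
      refine ⟨(injective_iff_map_eq_zero g).2 fun x hx => ?_, fun s => ?_⟩
      · obtain ⟨p, rfl⟩ := hhs x
        rw [hcomp] at hx
        have h1 : RingHom.ker π.toRingHom ≤ RingHom.ker h.toRingHom := by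
          rw [← hGs, Ideal.span_le]
          intro r hr
          show h r = 0
          rw [← hmapw r hr, hhmap, Ideal.Quotient.eq_zero_iff_mem.2 (show MvPolynomial.map (algebraMap R' B) (w r) ∈ J₀ from Ideal.subset_span ⟨r, hr, rfl⟩), TensorProduct.tmul_zero]
        exact h1 hx
      · obtain ⟨p, rfl⟩ := hπ s
        exact ⟨h p, hcomp p⟩
    rw [Algebra.isPushout_iff]
    refine IsBaseChange.of_equiv (LinearEquiv.ofBijective g.toLinearMap hbij) fun s => ?_
    show Algebra.TensorProduct.lift (Algebra.ofId R S) τ (fun _ _ => Commute.all _ _) ((1 : R) ⊗ₜ[B] s) = τ s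
    rw [Algebra.TensorProduct.lift_tmul, map_one, one_mul]
  · -- the module is a base change
    have hg : ∀ (s : S) (x : F d n B ⧸ KP (C := B) K),
        LinearMap.liftBaseChange S f (s ⊗ₜ x) = s • f x := fun s x => rfl
    let h : F d n R → TensorProduct (MvPolynomial (Fin d) B ⧸ J₀) S (F d n B ⧸ KP (C := B) K) :=
      fun v => ∑ i, π (v i) ⊗ₜ[MvPolynomial (Fin d) B ⧸ J₀] Submodule.Quotient.mk (Pi.single i 1 : F d n B)
    have hsingle : ∀ i, f (Submodule.Quotient.mk (Pi.single i 1 : F d n B)) = m i := fun i => by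
      rw [hf, hqapp, Finset.sum_eq_single i]
      · rw [ψ_apply, Pi.single_eq_same, map_one, map_one, one_smul]
      · intro j _ hj
        rw [ψ_apply, Pi.single_eq_of_ne hj, map_zero, map_zero, zero_smul]
      · simp
    have hgh : ∀ v, LinearMap.liftBaseChange S f (h v) = q v := fun v => by
      rw [map_sum, hqapp]
      exact Finset.sum_congr rfl fun i _ => by rw [hg, hsingle]
    have hadd : ∀ a b, h (a + b) = h a + h b := fun a b => by
      simp only [h, Pi.add_apply, map_add, TensorProduct.add_tmul, Finset.sum_add_distrib]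
    have hsmul : ∀ p a, h (p • a) = π p • h a := fun p a => by
      simp only [h, Pi.smul_apply, smul_eq_mul, map_mul, Finset.smul_sum, TensorProduct.smul_tmul']
    have hhψ : ∀ v, h (ψ R v) = (1 : S) ⊗ₜ[MvPolynomial (Fin d) B ⧸ J₀] (Submodule.Quotient.mk v : F d n B ⧸ KP (C := B) K) := fun v => by
      simp only [h, ψ_apply]
      conv_rhs => rw [show v = ∑ i, v i • (Pi.single i 1 : F d n B) by funext j; simp [Finset.sum_apply, Pi.single_apply], ← Submodule.mkQ_apply, map_sum]
      rw [TensorProduct.tmul_sum]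
      refine Finset.sum_congr rfl fun i _ => ?_
      rw [map_smul, Submodule.mkQ_apply, ← hmod, ← TensorProduct.smul_tmul, Algebra.smul_def, mul_one, ← hρmap]
      rfl
    have hhs : Function.Surjective h := by
      intro x
      induction x with
      | zero => exact ⟨0, by simp [h]⟩
      | tmul s y =>
        obtain ⟨v, rfl⟩ := Submodule.Quotient.mk_surjective _ y
        obtain ⟨p, rfl⟩ := hπ s
        refine ⟨p • ψ R v, ?_⟩
        rw [hsmul, hhψ, TensorProduct.smul_tmul', smul_eq_mul, mul_one]
      | add a b ha hb =>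
        obtain ⟨a', rfl⟩ := ha
        obtain ⟨b', rfl⟩ := hb
        exact ⟨a' + b', hadd a' b'⟩
    refine ⟨(injective_iff_map_eq_zero _).2 fun x hx => ?_, fun x => ?_⟩
    · obtain ⟨v, rfl⟩ := hhs x
      replace hx : LinearMap.liftBaseChange S f (h v) = 0 := hx
      rw [hgh, ← LinearMap.mem_ker, ← hG₀] at hx
      induction hx using Submodule.span_induction with
      | mem y hy =>
        have hyG : y ∈ G := hG₀G y hy
        rw [← hz y hyG, ← ψ_ψ B R (z y), hhψ]
        refine Eq.trans (congrArg (fun t => (1 : S) ⊗ₜ[MvPolynomial (Fin d) B ⧸ J₀] t) ((Submodule.Quotient.mk_eq_zero _).2 ?_)) (TensorProduct.tmul_zero _ _)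
        exact ψ_mem K (hKz y hyG)
      | zero => simp [h]
      | add a b _ _ ha hb => rw [hadd, ha, hb, add_zero]
      | smul c a _ ha => rw [hsmul, ha, smul_zero]
    · obtain ⟨v, rfl⟩ := hqs x
      exact ⟨h v, hgh v⟩
end Groth.Agent.S9456


namespace Groth.Agent.S9456

/-- Let R → S be of finite presentation and M a finitely presented S-module which is flat over R. Then
the triple descends to a finite type ℤ-algebra: there are R₀ of finite type over ℤ with R₀ → R, a
finite type R₀-algebra S₀ with a compatible map S₀ → S making S the base change R ⊗_{R₀} S₀, and a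
finite S₀-module M₀ flat over R₀ with an S₀-linear map M₀ → M making M the base change S ⊗_{S₀} M₀. -/
theorem result (R : Type u) [CommRing R]
    (S : Type u) [CommRing S] [Algebra R S] [Algebra.FinitePresentation R S] (M : Type u)
    [AddCommGroup M] [Module S M] [Module R M] [IsScalarTower R S M]
    [Module.FinitePresentation S M] [Module.Flat R M] :
    ∃ (R₀ : Type u) (_ : CommRing R₀) (_ : Algebra R₀ R) (S₀ : Type u) (_ : CommRing S₀)
      (_ : Algebra R₀ S₀) (_ : Algebra S₀ S) (_ : Algebra R₀ S) (_ : IsScalarTower R₀ R S)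
      (_ : IsScalarTower R₀ S₀ S) (M₀ : Type u) (_ : AddCommGroup M₀) (_ : Module S₀ M₀)
      (_ : Module R₀ M₀) (_ : IsScalarTower R₀ S₀ M₀) (_ : Module S₀ M) (_ : IsScalarTower S₀ S M)
      (f : M₀ →ₗ[S₀] M),
      Algebra.FiniteType ℤ R₀ ∧ Algebra.FiniteType R₀ S₀ ∧ Module.Finite S₀ M₀ ∧ Module.Flat R₀ M₀ ∧
        Algebra.IsPushout R₀ R S₀ S ∧ IsBaseChange S f := by
  classical
  obtain ⟨d, π, hπ, Gs, hGs⟩ := Algebra.FinitePresentation.out (R := R) (A := S)
  obtain ⟨n, m, hm⟩ := Module.Finite.exists_fin (R := S) (M := M)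
  -- `M` over the polynomial ring
  let _ : Module (MvPolynomial (Fin d) R) M := Module.compHom M π.toRingHom
  let _ : Algebra (MvPolynomial (Fin d) R) S := π.toRingHom.toAlgebra
  have : IsScalarTower (MvPolynomial (Fin d) R) S M := ⟨fun p b x => by
    show (π p * b) • x = π p • b • x
    rw [mul_smul]⟩
  have : IsScalarTower R (MvPolynomial (Fin d) R) M := ⟨fun a p x => by
    show π (a • p) • x = a • π p • x
    rw [map_smul, smul_assoc]⟩
  have : Module.FinitePresentation (MvPolynomial (Fin d) R) S :=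
    Module.finitePresentation_of_surjective (Algebra.linearMap _ S) hπ ⟨Gs, hGs⟩
  have : Module.FinitePresentation (MvPolynomial (Fin d) R) M :=
    Module.FinitePresentation.trans (MvPolynomial (Fin d) R) M S
  let q : F d n R →ₗ[MvPolynomial (Fin d) R] M := Fintype.linearCombination (MvPolynomial (Fin d) R) m
  have hqapp : ∀ v : F d n R, q v = ∑ i, π (v i) • m i := fun v => by
    rw [Fintype.linearCombination_apply]; rfl
  have hqs : Function.Surjective q := by
    intro x
    have hx : x ∈ Submodule.span S (Set.range m) := hm ▸ Submodule.mem_top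
    obtain ⟨c, hc⟩ := (Submodule.mem_span_range_iff_exists_fun S).1 hx
    choose p hp using fun i => hπ (c i)
    refine ⟨p, ?_⟩
    rw [hqapp, ← hc]
    exact Finset.sum_congr rfl fun i _ => by rw [hp]
  obtain ⟨G₀, hG₀⟩ := Module.FinitePresentation.fg_ker q hqs
  -- all relations
  let G : Finset (F d n R) := G₀ ∪ (Gs ×ˢ (Finset.univ : Finset (Fin n))).image fun x => Pi.single x.2 x.1
  have hGmem : ∀ y ∈ G, q y = 0 := by
    intro y hy
    rcases Finset.mem_union.1 hy with h | h
    · exact LinearMap.mem_ker.1 (hG₀ ▸ Submodule.subset_span h)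
    · obtain ⟨⟨g, i⟩, hgi, rfl⟩ := Finset.mem_image.1 h
      rw [Fintype.linearCombination_apply_single]
      show π g • m i = 0
      rw [show π g = 0 from (hGs ▸ Ideal.subset_span (Finset.mem_product.1 hgi).1 : g ∈ RingHom.ker π.toRingHom), zero_smul]
  let W : Finset R := (G.biUnion fun y => Finset.univ.biUnion fun i => (y i).coeffs) ∪ Gs.biUnion fun g => g.coeffs
  let R' : Subalgebra ℤ R := Algebra.adjoin ℤ (W : Set R)
  have hR' : IsNoetherianRing R' := by
    have : Algebra.FiniteType ℤ R' := R'.fg_iff_finiteType.mp ⟨W, rfl⟩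
    exact Algebra.FiniteType.isNoetherianRing ℤ R'
  have hlift : ∀ y ∈ G, ∃ z : F d n R', ψ R z = y := by
    intro y hy
    have : ∀ i, y i ∈ Set.range (MvPolynomial.map (algebraMap R' R)) := fun i => by
      rw [MvPolynomial.mem_range_map_iff_coeffs_subset]
      intro c hc
      exact ⟨⟨c, Algebra.subset_adjoin (Finset.mem_union_left _ (Finset.mem_biUnion.2 ⟨y, hy,
        Finset.mem_biUnion.2 ⟨i, Finset.mem_univ _, hc⟩⟩))⟩, rfl⟩
    choose z hz using this
    exact ⟨z, funext hz⟩
  have hliftg : ∀ g ∈ Gs, ∃ z : MvPolynomial (Fin d) R', MvPolynomial.map (algebraMap R' R) z = g := by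
    intro g hg
    have : g ∈ Set.range (MvPolynomial.map (algebraMap R' R)) := by
      rw [MvPolynomial.mem_range_map_iff_coeffs_subset]
      intro c hc
      exact ⟨⟨c, Algebra.subset_adjoin (Finset.mem_union_right _ (Finset.mem_biUnion.2 ⟨g, hg, hc⟩))⟩, rfl⟩
    exact this
  choose! z hz using hlift
  choose! w hw using hliftg
  let K : Submodule (MvPolynomial (Fin d) R') (F d n R') :=
    Submodule.span _ (z '' G ∪ {v | ∃ g ∈ Gs, ∃ i, v = Pi.single i (w g)})
  have hψsingle : ∀ g ∈ Gs, ∀ i, ψ R (Pi.single i (w g) : F d n R') = Pi.single i g := by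
    intro g hg i
    funext j
    rw [ψ_apply]
    by_cases h : j = i
    · subst h; simp [hw g hg]
    · simp [h]
  have hKker : KP (C := R) K = LinearMap.ker q := by
    apply le_antisymm
    · suffices h : KC R K ≤ (LinearMap.ker q).restrictScalars R from fun v hv => h hv
      rw [KC, Submodule.span_le]
      rintro _ ⟨k, hk, rfl⟩
      show q (ψ R k) = 0
      induction hk using Submodule.span_induction with
      | mem v hv =>
        rcases hv with ⟨y, hy, rfl⟩ | ⟨g, hg, i, rfl⟩
        · rw [hz y hy]; exact hGmem y hy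
        · rw [hψsingle g hg i]
          exact hGmem _ (Finset.mem_union_right _ (Finset.mem_image.2 ⟨(g, i), Finset.mem_product.2 ⟨hg, Finset.mem_univ _⟩, rfl⟩))
      | zero => simp
      | add a b _ _ ha hb => rw [map_add, map_add, ha, hb, add_zero]
      | smul c a _ ha => rw [ψ_poly_smul, map_smul, ha, smul_zero]
    · rw [← hG₀, Submodule.span_le]
      intro y hy
      rw [← hz y (Finset.mem_union_left _ hy)]
      exact ψ_mem K (Submodule.subset_span (Or.inl ⟨y, Finset.mem_union_left _ hy, rfl⟩))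
  let eM : MC R K ≃ₗ[R] M :=
    Submodule.quotEquivOfEq _ _ rfl ≪≫ₗ Submodule.Quotient.restrictScalarsEquiv R (KP (C := R) K) ≪≫ₗ
      (Submodule.quotEquivOfEq _ _ hKker).restrictScalars R ≪≫ₗ (q.quotKerEquivOfSurjective hqs).restrictScalars R
  have : Module.Flat R (MC R K) := Module.Flat.of_linearEquiv eM
  obtain ⟨B, hB, hflat⟩ := exists_fg_stage K R
  have hBft : Algebra.FiniteType ℤ B := by
    have : Algebra.FiniteType R' B := B.fg_iff_finiteType.mp hB
    have : Algebra.FiniteType ℤ R' := R'.fg_iff_finiteType.mp ⟨W, rfl⟩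
    exact Algebra.FiniteType.trans (R := ℤ) (S := R') inferInstance inferInstance
  let _ : CommRing B := @Subalgebra.toCommRing _ _ _ _ _ B
  let _ : Algebra B R := B.val.toRingHom.toAlgebra
  let _ : Algebra B S := ((algebraMap R S).comp B.val.toRingHom).toAlgebra
  have htB := IsScalarTower.of_algebraMap_eq (R := B) (S := R) (A := S) fun _ => rfl
  have htR := IsScalarTower.of_algebraMap_eq (R := R') (S := B) (A := R) fun _ => rfl
  obtain ⟨S₀, i1, i2, i3, i4, M₀, i5, i6, i7, i8, i9, i10, f, h1, h2, h3, h4, h5⟩ := aux (B := B) π hπ Gs hGs w hw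
    (fun _ _ => rfl) m q hqapp hqs G₀ G hG₀ (fun _ h => Finset.mem_union_left _ h) z hz K
    (fun y hy => Submodule.subset_span (Or.inl ⟨y, hy, rfl⟩))
    (fun g hg i => Submodule.subset_span (Or.inr ⟨g, hg, i, rfl⟩)) hKker hflat
  exact ⟨B, inferInstance, inferInstance, S₀, i1, i2, i3, inferInstance, inferInstance, i4, M₀, i5, i6, i7, i8, i9, i10,
    f, hBft, h1, h2, h3, h4, h5⟩

end Groth.Agent.S9456
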