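import Groth.Statements.S9457
import Mathlib.RingTheory.Etale.QuasiFinite
import Mathlib.RingTheory.TensorProduct.Pi
import Mathlib.RingTheory.Idempotents
import Mathlib.RingTheory.Localization.Away.Lemmas
import Mathlib.RingTheory.Spectrum.Prime.Noetherian
-- import your own Groth.Agent.* helpers here

set_option autoImplicit false
universe u
open CAlg

namespace Groth.Agent.S9457

open TensorProduct

/-- The number of generic points of the fibre over `p`. -/
noncomputable def numMin (R : Type u) [CommRing R] (S : Type u) [CommRing S] [Algebra R S] (p : Ideal R) : ℕ :=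
  {q : p.primesOver S | IsMin q}.ncard

theorem finite_isMin (R : Type u) [CommRing R] (S : Type u) [CommRing S] [Algebra R S] [Algebra.FiniteType R S]
    (p : Ideal R) [p.IsPrime] : {q : p.primesOver S | IsMin q}.Finite := by
  haveI : IsNoetherianRing (p.Fiber S) := Algebra.FiniteType.isNoetherianRing p.ResidueField _
  let F := PrimeSpectrum.primesOverOrderIsoFiber R S p
  have h : {x : PrimeSpectrum (p.Fiber S) | IsMin x}.Finite := by
    refine ((minimalPrimes.finite_of_isNoetherianRing (p.Fiber S)).preimage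
      (f := PrimeSpectrum.asIdeal) (fun x _ y _ h => PrimeSpectrum.ext h)).subset fun x hx => ?_
    exact PrimeSpectrum.isMin_iff.mp hx
  exact (h.preimage F.injective.injOn).subset fun q hq => (F.isMin_apply).mpr hq

theorem numMin_baseChange {R R' S : Type u} [CommRing R] [CommRing R'] [CommRing S] [Algebra R R'] [Algebra R S]
    {p : Ideal R} {P : Ideal R'} [p.IsPrime] [P.IsPrime] [P.LiesOver p]
    (H : Function.Bijective (Ideal.ResidueField.mapₐ p P (Algebra.ofId _ _) (P.over_def p))) :
    numMin R' (R' ⊗[R] S) P = numMin R S p := by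
  let F := Ideal.fiberIsoOfBijectiveResidueField (S := S) H
  rw [numMin, numMin, show {q : p.primesOver S | IsMin q} = F '' {q | IsMin q} from ?_,
    Set.ncard_image_of_injective _ F.injective]
  ext q
  exact ⟨fun hq => ⟨F.symm q, F.symm.isMin_apply.mpr hq, F.apply_symm_apply q⟩,
    fun ⟨r, hr, e⟩ => e ▸ F.isMin_apply.mpr hr⟩

theorem numMin_quotient_lt {R S : Type u} [CommRing R] [CommRing S] [Algebra R S] [Algebra.FiniteType R S]
    (p : Ideal R) [p.IsPrime] {e : S} (he : IsIdempotentElem e) (q₀ : p.primesOver S) (he₀ : e ∉ q₀.1)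
    (hu : ∀ r : Ideal S, r.IsPrime → r.LiesOver p → e ∉ r → r = q₀.1) :
    numMin R (S ⧸ Ideal.span {e}) p < numMin R S p := by
  let π := Ideal.Quotient.mk (Ideal.span {e})
  let j : p.primesOver (S ⧸ Ideal.span {e}) → p.primesOver S := fun q =>
    ⟨q.1.comap π, Ideal.IsPrime.comap π (hK := q.2.1), ⟨q.2.2.over.trans
      (Ideal.comap_comap (I := q.1) (algebraMap R S) π).symm⟩⟩
  have hπe : ∀ q, e ∈ (j q).1 := fun q => by
    show π e ∈ q.1
    rw [Ideal.Quotient.eq_zero_iff_mem.mpr (Ideal.mem_span_singleton_self e)]; exact q.1.zero_mem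
  have hj : Function.Injective j := fun a b h => Subtype.ext
    (Ideal.comap_injective_of_surjective π Ideal.Quotient.mk_surjective (congrArg Subtype.val h))
  have hmin₀ : IsMin q₀ := fun r hr => le_of_eq (Subtype.ext
    (hu r.1 r.2.1 r.2.2 fun h => he₀ (hr h)).symm)
  rw [numMin, numMin, ← Set.ncard_image_of_injective _ hj]
  refine Set.ncard_lt_ncard ⟨?_, fun h => ?_⟩ (finite_isMin R S p)
  · rintro _ ⟨q, hq, rfl⟩ r hr
    haveI := r.2.1
    have her : e ∈ r.1 := by
      refine (r.2.1.mem_or_mem (show e * (1 - e) ∈ r.1 by rw [he.mul_one_sub_self]; exact r.1.zero_mem)).resolve_right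
        fun h1 => (j q).2.1.ne_top ((Ideal.eq_top_iff_one _).mpr ?_)
      have := (j q).1.add_mem (hπe q) (hr h1)
      rwa [add_sub_cancel] at this
    have hk : Ideal.span {e} ≤ r.1 := (Ideal.span_singleton_le_iff_mem _).mpr her
    have hc : (r.1.map π).comap π = r.1 := by rw [Ideal.comap_map_quotientMk, sup_eq_right.mpr hk]
    haveI : (r.1.map π).IsPrime := Ideal.map_isPrime_of_surjective Ideal.Quotient.mk_surjective
      (Ideal.mk_ker.trans_le hk)
    let r' : p.primesOver (S ⧸ Ideal.span {e}) := ⟨r.1.map π, inferInstance, ⟨r.2.2.over.trans (by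
      show Ideal.comap _ _ = Ideal.comap (π.comp (algebraMap R S)) _
      rw [← Ideal.comap_comap, hc])⟩⟩
    have hle : r' ≤ q := fun x hx => by
      obtain ⟨x, rfl⟩ := Ideal.Quotient.mk_surjective x
      exact hr (show x ∈ r.1 from hc ▸ hx)
    intro x hx
    exact hc ▸ hq hle hx
  · obtain ⟨q, -, hq⟩ := h hmin₀
    exact he₀ (congrArg Subtype.val hq ▸ hπe q)

theorem existsUnique_baseChange {R R' S : Type u} [CommRing R] [CommRing R'] [CommRing S] [Algebra R R'] [Algebra R S]
    {p : Ideal R} {P : Ideal R'} [p.IsPrime] [P.IsPrime] [P.LiesOver p]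
    (H : Function.Bijective (Ideal.ResidueField.mapₐ p P (Algebra.ofId _ _) (P.over_def p)))
    (h : ∃! r : Ideal S, r.IsPrime ∧ r.comap (algebraMap R S) = p) :
    ∃! r : Ideal (R' ⊗[R] S), r.IsPrime ∧ r.comap (algebraMap R' (R' ⊗[R] S)) = P := by
  let F := Ideal.fiberIsoOfBijectiveResidueField (S := S) H
  obtain ⟨r₀, ⟨hr, hrp⟩, hu⟩ := h
  let x := F.symm ⟨r₀, hr, ⟨hrp.symm⟩⟩
  refine ⟨x.1, ⟨x.2.1, x.2.2.over.symm⟩, fun r ⟨hr', hrP⟩ => ?_⟩
  let y : P.primesOver (R' ⊗[R] S) := ⟨r, hr', ⟨hrP.symm⟩⟩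
  have hy : F y = F x := Subtype.ext ((hu _ ⟨(F y).2.1, (F y).2.2.over.symm⟩).trans
    (hu _ ⟨(F x).2.1, (F x).2.2.over.symm⟩).symm)
  exact congrArg Subtype.val (F.injective hy)

theorem consPack {R T X B : Type u} [CommRing R] [CommRing T] [Algebra R T] [iX : CommRing X] [iX' : Algebra R X]
    [CommRing B] [Algebra R B] {m : ℕ} {A : Fin m → Type u} [iA : ∀ i, CommRing (A i)] [iA' : ∀ i, Algebra R (A i)]
    (ε : T ≃ₐ[R] (X × ((∀ i, A i) × B))) (Φ : ∀ (Z : Type u) [CommRing Z] [Algebra R Z], Prop)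
    (hX : Φ X) (hA : ∀ i, Φ (A i)) :
    ∃ (A' : Fin (m + 1) → Type u) (_ : ∀ i, CommRing (A' i)) (_ : ∀ i, Algebra R (A' i)),
      Nonempty (T ≃ₐ[R] ((∀ i, A' i) × B)) ∧ ∀ i, Φ (A' i) := by
  let jA : ∀ i, CommRing (Fin.cons (α := fun _ => Type u) X A i) := Fin.cases iX iA
  let jA' : ∀ i, Algebra R (Fin.cons (α := fun _ => Type u) X A i) := Fin.cases iX' iA'
  refine ⟨Fin.cons (α := fun _ => Type u) X A, jA, jA', ⟨ε.trans ?_⟩, Fin.cases hX hA⟩
  exact
    { toFun := fun x => (Fin.cases x.1 x.2.1, x.2.2)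
      invFun := fun y => (y.1 0, fun i => y.1 i.succ, y.2)
      left_inv := fun x => rfl
      right_inv := fun y => Prod.ext (funext (Fin.cases rfl fun i => rfl)) rfl
      map_mul' := fun x y => Prod.ext (funext (Fin.cases rfl fun i => rfl)) rfl
      map_add' := fun x y => Prod.ext (funext (Fin.cases rfl fun i => rfl)) rfl
      commutes' := fun r => Prod.ext (funext (Fin.cases rfl fun i => rfl)) rfl }

set_option maxHeartbeats 1000000 in
theorem decomp (n : ℕ) : ∀ (R S : Type u) [CommRing R] [CommRing S] [Algebra R S] [Algebra.FiniteType R S]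
    (p : Ideal R) [p.IsPrime], numMin R S p ≤ n →
    ∃ (R' : Type u) (_ : CommRing R') (_ : Algebra R R') (_ : Algebra.Etale R R') (P : Ideal R')
      (_ : P.IsPrime) (_ : P.LiesOver p) (m : ℕ) (A : Fin m → Type u) (_ : ∀ i, CommRing (A i))
      (_ : ∀ i, Algebra R' (A i)) (B : Type u) (_ : CommRing B) (_ : Algebra R' B),
      Function.Bijective (Ideal.ResidueField.mapₐ p P (Algebra.ofId _ _) (P.over_def p)) ∧
      Nonempty ((R' ⊗[R] S) ≃ₐ[R'] ((∀ i, A i) × B)) ∧
        (∀ i, Module.Finite R' (A i) ∧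
          ∃! r : Ideal (A i), r.IsPrime ∧ r.comap (algebraMap R' (A i)) = P) ∧
        ∀ (q : Ideal B) [q.IsPrime], q.comap (algebraMap R' B) = P →
          ¬ Algebra.QuasiFiniteAt R' q := by
  induction n using Nat.strong_induction_on with
  | h n IH =>
  intro R S _ _ _ _ p _ hn
  classical
  by_cases hq : ∃ (q : p.primesOver S) (_ : q.1.IsPrime), Algebra.QuasiFiniteAt R q.1
  · obtain ⟨⟨q, hq₁, hq₂⟩, _, hqf⟩ := hq
    obtain ⟨R', _, _, _, P, _, _, e, he, P', _, _, -, heP', hbij, hfin, huniq⟩ :=
      Algebra.exists_etale_isIdempotentElem_forall_liesOver_eq p q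
    let A0 := (R' ⊗[R] S) ⧸ Ideal.span {1 - e}
    let B0 := (R' ⊗[R] S) ⧸ Ideal.span {e}
    haveI : Module.Finite R' A0 := by
      haveI := hfin
      haveI : IsLocalization.Away e A0 := IsLocalization.Away.quotient_of_isIdempotentElem he
      exact Module.Finite.equiv
        ((IsLocalization.algEquiv (Submonoid.powers e) (Localization.Away e) A0).restrictScalars R').toLinearEquiv
    have hA0 : ∃! r : Ideal A0, r.IsPrime ∧ r.comap (algebraMap R' A0) = P := by
      let π := Ideal.Quotient.mk (Ideal.span {1 - e})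
      have h1 : Ideal.span {1 - e} ≤ P' := (Ideal.span_singleton_le_iff_mem _).mpr
        ((‹P'.IsPrime›.mem_or_mem (show e * (1 - e) ∈ P' by rw [he.mul_one_sub_self]; exact P'.zero_mem)).resolve_left heP')
      have hc : (P'.map π).comap π = P' := by rw [Ideal.comap_map_quotientMk, sup_eq_right.mpr h1]
      refine ⟨P'.map π, ⟨Ideal.map_isPrime_of_surjective Ideal.Quotient.mk_surjective (Ideal.mk_ker.trans_le h1), ?_⟩,
        fun r ⟨hr, hrP⟩ => ?_⟩
      · show Ideal.comap (π.comp (algebraMap R' (R' ⊗[R] S))) _ = P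
        rw [← Ideal.comap_comap, hc]
        exact (P'.over_def P).symm
      · haveI : (r.comap π).IsPrime := hr.comap π
        have := huniq (r.comap π) inferInstance ⟨by rw [← hrP]; exact (Ideal.comap_comap (I := r) _ _).symm⟩ (fun h => hr.ne_top
          ((Ideal.eq_top_iff_one _).mpr (by
            have h2 : π (1 - e) ∈ r := by
              rw [Ideal.Quotient.eq_zero_iff_mem.mpr (Ideal.mem_span_singleton_self _)]; exact r.zero_mem
            have h3 := r.add_mem (show π e ∈ r from h) h2
            rwa [← map_add, add_sub_cancel, map_one] at h3)))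
        rw [← this, Ideal.map_comap_of_surjective _ Ideal.Quotient.mk_surjective]
    have hlt : numMin R' B0 P < n :=
      lt_of_lt_of_le (numMin_quotient_lt P he ⟨P', inferInstance, inferInstance⟩ heP'
        (fun r hr hr' h => huniq r hr hr' h)) ((numMin_baseChange hbij).trans_le hn)
    obtain ⟨R'', _, _, _, Q, _, _, m, A, _, _, B, _, _, hbij', ⟨ε⟩, hA, hB⟩ := IH _ hlt R' B0 P le_rfl
    let : Algebra R R'' := .compHom _ (algebraMap R R')
    have : IsScalarTower R R' R'' := .of_algebraMap_eq' rfl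
    have : Algebra.Etale R R'' := .comp R R' R''
    have : Q.LiesOver p := .trans _ P _
    have hpQ : Function.Bijective (Ideal.ResidueField.mapₐ p Q (Algebra.ofId _ _) (Q.over_def p)) := by
      convert hbij'.comp hbij
      rw [← @AlgHom.coe_restrictScalars' R R', ← AlgHom.coe_comp]; congr 1; ext
    let s : R' ⊗[R] S ≃ₐ[R'] A0 × B0 :=
      AlgEquiv.prodQuotientOfIsIdempotentElem R' he.one_sub he (by simp) (by rw [mul_comm]; exact he.mul_one_sub_self)
    let τ : R'' ⊗[R] S ≃ₐ[R''] ((R'' ⊗[R'] A0) × ((∀ i, A i) × B)) :=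
      (Algebra.TensorProduct.cancelBaseChange R R' R'' R'' S).symm.trans
        ((Algebra.TensorProduct.congr (AlgEquiv.refl (R := R'') (A₁ := R'')) s).trans
          ((Algebra.TensorProduct.prodRight R' R'' R'' A0 B0).trans (AlgEquiv.prodCongr AlgEquiv.refl ε)))
    obtain ⟨A', _, _, hτ, hA'⟩ := consPack (A := A) (B := B) (X := R'' ⊗[R'] A0) τ (fun Z _ _ => Module.Finite R'' Z ∧
      ∃! r : Ideal Z, r.IsPrime ∧ r.comap (algebraMap R'' Z) = Q)
      ⟨inferInstance, existsUnique_baseChange hbij' hA0⟩ hA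
    exact ⟨R'', inferInstance, inferInstance, inferInstance, Q, inferInstance, inferInstance, m + 1, A', inferInstance,
      inferInstance, B, inferInstance, inferInstance, hpQ, hτ, hA', hB⟩
  · refine ⟨R, inferInstance, Algebra.id R, inferInstance, p, inferInstance, ⟨rfl⟩, 0, fun _ => PUnit, inferInstance,
      inferInstance, R ⊗[R] S, inferInstance, inferInstance, ?_, ⟨?_⟩, fun i => i.elim0, fun q hq' hqp hqf => ?_⟩
    · rw! [Algebra.ofId_self, Ideal.ResidueField.mapₐ_id]; exact Function.bijective_id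
    · exact
        show R ⊗[R] S ≃ₐ[R] (((i : Fin 0) → PUnit.{u+1}) × R ⊗[R] S) from
        { toFun := fun x => (fun i => i.elim0, x)
          invFun := fun y => y.2
          left_inv := fun x => rfl
          right_inv := fun y => Prod.ext (funext fun i => i.elim0) rfl
          map_mul' := fun x y => Prod.ext (funext fun i => i.elim0) rfl
          map_add' := fun x y => Prod.ext (funext fun i => i.elim0) rfl
          commutes' := fun r => Prod.ext (funext fun i => i.elim0) rfl }
    · let e := (Algebra.TensorProduct.lid R S).symm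
      haveI : Algebra.QuasiFiniteAt R q := hqf
      refine hq ⟨⟨q.comap e.toRingHom, inferInstance, ⟨?_⟩⟩, inferInstance, inferInstance⟩
      rw [Ideal.under, Ideal.comap_comap]
      exact hqp.symm.trans (congrArg (fun φ => Ideal.comap φ q) e.toAlgHom.comp_algebraMap.symm)

open TensorProduct in
/-- For a finite type ring map R → S and a prime p of R there are an étale R-algebra R', a prime p' of
R' over p with trivial residue field extension κ(p) = κ(p') (the image of R generates κ(p') as a
field), and a decomposition R' ⊗_R S ≅ A_1 × ⋯ × A_n × B of R'-algebras in which every A_i is finite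
over R' with exactly one prime lying over p' and R' → B is quasi-finite at no prime of B lying over
p'. -/
theorem result (R : Type u) [CommRing R]
    (S : Type u) [CommRing S] [Algebra R S] [Algebra.FiniteType R S] (p : Ideal R) [p.IsPrime] :
    ∃ (R' : Type u) (_ : CommRing R') (_ : Algebra R R') (_ : Algebra.Etale R R') (p' : Ideal R')
      (_ : p'.IsPrime) (_ : p'.LiesOver p) (n : ℕ) (A : Fin n → Type u) (_ : ∀ i, CommRing (A i))
      (_ : ∀ i, Algebra R' (A i)) (B : Type u) (_ : CommRing B) (_ : Algebra R' B),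
      Subfield.closure (Set.range (algebraMap R p'.ResidueField)) = ⊤ ∧
      Nonempty ((R' ⊗[R] S) ≃ₐ[R'] ((∀ i, A i) × B)) ∧
        (∀ i, Module.Finite R' (A i) ∧
          ∃! r : Ideal (A i), r.IsPrime ∧ r.comap (algebraMap R' (A i)) = p') ∧
        ∀ (q : Ideal B) [q.IsPrime], q.comap (algebraMap R' B) = p' →
          ¬ Algebra.QuasiFiniteAt R' q := by
  obtain ⟨R', _, _, hR', P, _, _, m, A, _, _, B, _, _, hbij, hτ, hA, hB⟩ := decomp _ R S p le_rfl
  refine ⟨R', inferInstance, inferInstance, hR', P, inferInstance, inferInstance, m, A, inferInstance, inferInstance,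
    B, inferInstance, inferInstance, ?_, hτ, hA, hB⟩
  refine top_le_iff.mp fun y _ => ?_
  obtain ⟨x, rfl⟩ := hbij.2 y
  obtain ⟨a, b, -, rfl⟩ := IsFractionRing.div_surjective (R ⧸ p) x
  obtain ⟨a, rfl⟩ := Ideal.Quotient.mk_surjective a
  obtain ⟨b, rfl⟩ := Ideal.Quotient.mk_surjective b
  rw [map_div₀]
  have h : ∀ c : R, Ideal.ResidueField.mapₐ p P (Algebra.ofId _ _) (P.over_def p)
      (algebraMap (R ⧸ p) p.ResidueField (Ideal.Quotient.mk p c)) = algebraMap R P.ResidueField c := fun c => by
    rw [← Ideal.Quotient.algebraMap_eq, ← IsScalarTower.algebraMap_apply, AlgHom.commutes]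
  rw [h, h]
  exact div_mem (Subfield.subset_closure ⟨a, rfl⟩) (Subfield.subset_closure ⟨b, rfl⟩)

end Groth.Agent.S9457
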