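import Groth.Statements.S9458
import Groth.Agent.L05.HensTensor.QuasiFinite

set_option autoImplicit false
universe u
open Hensel

namespace Groth.Agent.S9458

/-- Let R → S be of finite type and quasi-finite at a prime q lying over p, and let R_p^h, S_q^h be
henselizations of the local rings, S_q^h carrying the compatible R_p^h-algebra structure (the
canonical local map R_p^h → S_q^h). Then S_q^h is finite over R_p^h. (The published statement also
identifies S_q^h with a localization of R_p^h ⊗_{R_p} S_q; this row states only that S_q^h is finite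
over R_p^h.) -/
theorem result (R : Type u) [CommRing R] (S : Type u)
    [CommRing S] [Algebra R S] [Algebra.FiniteType R S] (p : Ideal R) [p.IsPrime] (q : Ideal S)
    [q.IsPrime] [q.LiesOver p] [Algebra.QuasiFiniteAt R q]
    (Rh : Type u) [CommRing Rh] [IsLocalRing Rh] [Algebra (Localization.AtPrime p) Rh]
    [IsLocalHom (algebraMap (Localization.AtPrime p) Rh)]
    [Hensel.IsHenselization (Localization.AtPrime p) Rh]
    (Sh : Type u) [CommRing Sh] [IsLocalRing Sh] [Algebra (Localization.AtPrime q) Sh]
    [IsLocalHom (algebraMap (Localization.AtPrime q) Sh)]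
    [Hensel.IsHenselization (Localization.AtPrime q) Sh]
    [Algebra (Localization.AtPrime p) (Localization.AtPrime q)]
    [IsScalarTower R (Localization.AtPrime p) (Localization.AtPrime q)]
    [Algebra Rh Sh] [Algebra (Localization.AtPrime p) Sh]
    [IsScalarTower (Localization.AtPrime p) Rh Sh]
    [IsScalarTower (Localization.AtPrime p) (Localization.AtPrime q) Sh] :
    Module.Finite Rh Sh := by
  haveI := (‹Hensel.IsHenselization (Localization.AtPrime p) Rh›).henselian
  letI : Algebra R Rh := ((algebraMap (Localization.AtPrime p) Rh).comp (algebraMap R _)).toAlgebra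
  haveI : IsScalarTower R (Localization.AtPrime p) Rh := IsScalarTower.of_algebraMap_eq' rfl
  letI : Algebra S Sh := ((algebraMap (Localization.AtPrime q) Sh).comp (algebraMap S _)).toAlgebra
  haveI : IsScalarTower S (Localization.AtPrime q) Sh := IsScalarTower.of_algebraMap_eq' rfl
  letI : Algebra R Sh := ((algebraMap (Localization.AtPrime p) Sh).comp (algebraMap R _)).toAlgebra
  haveI : IsScalarTower R Rh Sh := IsScalarTower.of_algebraMap_eq fun r =>
    IsScalarTower.algebraMap_apply (Localization.AtPrime p) Rh Sh (algebraMap R _ r)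
  haveI : IsScalarTower R S Sh := IsScalarTower.of_algebraMap_eq fun r => by
    change algebraMap (Localization.AtPrime p) Sh (algebraMap R _ r) =
      algebraMap (Localization.AtPrime q) Sh (algebraMap S _ (algebraMap R S r))
    rw [IsScalarTower.algebraMap_apply (Localization.AtPrime p) (Localization.AtPrime q) Sh,
      ← IsScalarTower.algebraMap_apply R (Localization.AtPrime p) (Localization.AtPrime q),
      ← IsScalarTower.algebraMap_apply R S (Localization.AtPrime q)]
  haveI : Algebra.WeaklyEtale R Rh :=
    Groth.L05.HensTensor.weaklyEtale_of_localization_trans R (Localization.AtPrime p) Rh p.primeCompl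
      (Groth.L05.Henselization.isIndEtale_of_isHenselization _ _)
  haveI : Algebra.WeaklyEtale S Sh :=
    Groth.L05.HensTensor.weaklyEtale_of_localization_trans S (Localization.AtPrime q) Sh q.primeCompl
      (Groth.L05.Henselization.isIndEtale_of_isHenselization _ _)
  have hq : (IsLocalRing.maximalIdeal Sh).comap (algebraMap S Sh) = q := by
    rw [IsScalarTower.algebraMap_eq S (Localization.AtPrime q) Sh, ← Ideal.comap_comap,
      IsLocalRing.maximalIdeal_comap, show (IsLocalRing.maximalIdeal (Localization.AtPrime q)).comap (algebraMap S _) = q from Localization.AtPrime.comap_maximalIdeal]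
  haveI : IsLocalHom (algebraMap Rh Sh) := by
    refine ((IsLocalRing.local_hom_TFAE _).out 0 2 rfl rfl).mpr ?_
    rw [← Groth.L05.Henselization.map_maximalIdeal_of_isHenselization (Localization.AtPrime p) Rh,
      Ideal.map_map, ← IsScalarTower.algebraMap_eq, ← Localization.AtPrime.map_eq_maximalIdeal,
      Ideal.map_map, Ideal.map_le_iff_le_comap]
    intro r hr
    refine Ideal.mem_comap.mpr ?_
    change algebraMap R Sh r ∈ IsLocalRing.maximalIdeal Sh
    rw [IsScalarTower.algebraMap_apply R S Sh, ← Ideal.mem_comap, hq]
    exact (Ideal.mem_of_liesOver q p r).mp hr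
  refine Groth.L05.HensTensor.finite_of_quasiFiniteAt (R := R) (Rh := Rh) q hq fun D _ _ _ _ _ _ _ _ _ _ => ?_
  refine (Groth.L05.HensTensor.bijective_algebraMap D Sh fun c => ?_).2
  obtain ⟨k, hk⟩ := (Groth.L05.Henselization.residueField_map_bijective_of_isHenselization
    (Localization.AtPrime q) Sh).2 (IsLocalRing.residue Sh c)
  obtain ⟨x, rfl⟩ := IsLocalRing.residue_surjective k
  rw [IsLocalRing.ResidueField.map_residue] at hk
  obtain ⟨s, t, rfl⟩ := IsLocalization.exists_mk'_eq q.primeCompl x
  have htS : IsUnit (algebraMap S Sh t) := by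
    rw [IsScalarTower.algebraMap_apply S (Localization.AtPrime q) Sh]
    exact (IsLocalization.map_units _ t).map _
  obtain ⟨v, hv⟩ : IsUnit (algebraMap S D t) :=
    IsUnit.of_map (algebraMap D Sh) _ (by rw [← IsScalarTower.algebraMap_apply S D Sh]; exact htS)
  refine ⟨algebraMap S D s * ↑v⁻¹, ?_⟩
  have : algebraMap D Sh (algebraMap S D s * ↑v⁻¹) =
      algebraMap (Localization.AtPrime q) Sh (IsLocalization.mk' _ s t) := by
    apply htS.mul_left_injective
    simp only
    rw [IsScalarTower.algebraMap_apply S D Sh t, ← map_mul, mul_assoc, ← hv, Units.inv_mul, mul_one,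
      hv, ← IsScalarTower.algebraMap_apply S D Sh, ← IsScalarTower.algebraMap_apply S D Sh,
      IsScalarTower.algebraMap_apply S (Localization.AtPrime q) Sh t,
      ← map_mul, IsLocalization.mk'_spec, ← IsScalarTower.algebraMap_apply]
  rw [this]
  exact Ideal.Quotient.eq.mp hk.symm

end Groth.Agent.S9458
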