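import Groth.Statements.S9459
import Groth.Agent.L05.HensTensor.TensorLocal

set_option autoImplicit false
universe u
open Hensel

namespace Groth.Agent.S9459

open TensorProduct in
/-- Let R → S be a ring map, q a prime of S over p, and R^h, S^h henselizations of R_p and S_q, S^h
carrying the compatible R^h-algebra structure (the canonical map R^h → S^h). Let φ : R^h ⊗_R S → S^h
be the induced map and Q the preimage under φ of the maximal ideal (a prime lying over the maximal
ideal of R^h and over q). Then S^h is a henselization of the local ring (R^h ⊗_R S)_Q: for every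
henselization E of (R^h ⊗_R S)_Q there is a ring isomorphism E ≅ S^h compatible with the two maps
from R^h ⊗_R S. -/
theorem result (R : Type u) [CommRing R] (S : Type u)
    [CommRing S] [Algebra R S] (p : Ideal R) [p.IsPrime] (q : Ideal S) [q.IsPrime] [q.LiesOver p]
    (Rh : Type u) [CommRing Rh] [IsLocalRing Rh] [Algebra (Localization.AtPrime p) Rh]
    [IsLocalHom (algebraMap (Localization.AtPrime p) Rh)]
    [Hensel.IsHenselization (Localization.AtPrime p) Rh] [Algebra R Rh]
    [IsScalarTower R (Localization.AtPrime p) Rh]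
    (Sh : Type u) [CommRing Sh] [IsLocalRing Sh] [Algebra (Localization.AtPrime q) Sh]
    [IsLocalHom (algebraMap (Localization.AtPrime q) Sh)]
    [Hensel.IsHenselization (Localization.AtPrime q) Sh] [Algebra S Sh]
    [IsScalarTower S (Localization.AtPrime q) Sh] [Algebra R Sh] [IsScalarTower R S Sh]
    [Algebra Rh Sh] [IsScalarTower R Rh Sh]
    (E : Type u) [CommRing E] [IsLocalRing E]
    [Algebra (Localization.AtPrime (Ideal.comap (Algebra.TensorProduct.lift (IsScalarTower.toAlgHom R Rh Sh) (IsScalarTower.toAlgHom R S Sh)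
          (fun _ _ => Commute.all _ _)) (IsLocalRing.maximalIdeal Sh))) E]
    [IsLocalHom (algebraMap (Localization.AtPrime
      (Ideal.comap (Algebra.TensorProduct.lift (IsScalarTower.toAlgHom R Rh Sh) (IsScalarTower.toAlgHom R S Sh)
          (fun _ _ => Commute.all _ _)) (IsLocalRing.maximalIdeal Sh))) E)]
    [Hensel.IsHenselization (Localization.AtPrime
      (Ideal.comap (Algebra.TensorProduct.lift (IsScalarTower.toAlgHom R Rh Sh) (IsScalarTower.toAlgHom R S Sh)
          (fun _ _ => Commute.all _ _)) (IsLocalRing.maximalIdeal Sh))) E] :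
    ∃ e : E ≃+* Sh, ∀ d : Rh ⊗[R] S,
      e (algebraMap (Localization.AtPrime
        (Ideal.comap (Algebra.TensorProduct.lift (IsScalarTower.toAlgHom R Rh Sh) (IsScalarTower.toAlgHom R S Sh)
          (fun _ _ => Commute.all _ _)) (IsLocalRing.maximalIdeal Sh))) E
        (algebraMap (Rh ⊗[R] S) _ d)) = (Algebra.TensorProduct.lift (IsScalarTower.toAlgHom R Rh Sh) (IsScalarTower.toAlgHom R S Sh)
          (fun _ _ => Commute.all _ _)) d := by
  let φ := (Algebra.TensorProduct.lift (IsScalarTower.toAlgHom R Rh Sh) (IsScalarTower.toAlgHom R S Sh)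
    (fun _ _ => Commute.all _ _) : Rh ⊗[R] S →ₐ[R] Sh)
  have hφ : ∀ s : S, φ.toRingHom (1 ⊗ₜ s) = algebraMap S Sh s := fun s => by simp [φ]
  set D := Localization.AtPrime ((IsLocalRing.maximalIdeal Sh).comap φ)
  haveI : Algebra.WeaklyEtale R Rh :=
    Groth.L05.HensTensor.weaklyEtale_of_localization_trans R (Localization.AtPrime p) Rh p.primeCompl
      (Groth.L05.Henselization.isIndEtale_of_isHenselization _ _)
  haveI : Algebra.WeaklyEtale S Sh :=
    Groth.L05.HensTensor.weaklyEtale_of_localization_trans S (Localization.AtPrime q) Sh q.primeCompl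
      (Groth.L05.Henselization.isIndEtale_of_isHenselization _ _)
  haveI : IsLocalization.AtPrime D ((IsLocalRing.maximalIdeal Sh).comap φ.toRingHom) :=
    (inferInstance : IsLocalization.AtPrime D ((IsLocalRing.maximalIdeal Sh).comap φ))
  letI : Algebra D Sh := (Groth.L05.HensTensor.toSh φ.toRingHom D).toAlgebra
  haveI : IsLocalHom (algebraMap D Sh) := Groth.L05.HensTensor.isLocalHom_toSh φ.toRingHom D
  haveI : Algebra.WeaklyEtale D Sh := Groth.L05.HensTensor.weaklyEtale_toSh φ.toRingHom hφ D
  haveI := (‹Hensel.IsHenselization (Localization.AtPrime q) Sh›).henselian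
  haveI : Hensel.IsHenselization D Sh := by
    refine Groth.L05.HensTensor.isHenselization_of_weaklyEtale D Sh fun c => ?_
    obtain ⟨k, hk⟩ := (Groth.L05.Henselization.residueField_map_bijective_of_isHenselization
      (Localization.AtPrime q) Sh).2 (IsLocalRing.residue Sh c)
    obtain ⟨x, rfl⟩ := IsLocalRing.residue_surjective k
    rw [IsLocalRing.ResidueField.map_residue] at hk
    obtain ⟨s, t, rfl⟩ := IsLocalization.exists_mk'_eq q.primeCompl x
    let g : S → D := fun s => algebraMap (Rh ⊗[R] S) D (1 ⊗ₜ s)
    have hg : ∀ s, algebraMap D Sh (g s) = algebraMap S Sh s := fun s =>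
      (Groth.L05.HensTensor.toSh_algebraMap φ.toRingHom D _).trans (hφ s)
    have htS : IsUnit (algebraMap S Sh t) := by
      rw [IsScalarTower.algebraMap_apply S (Localization.AtPrime q) Sh]
      exact (IsLocalization.map_units _ t).map _
    obtain ⟨v, hv⟩ : IsUnit (g t) := IsUnit.of_map (algebraMap D Sh) _ (by rw [hg]; exact htS)
    refine ⟨g s * ↑v⁻¹, ?_⟩
    have : algebraMap D Sh (g s * ↑v⁻¹) =
        algebraMap (Localization.AtPrime q) Sh (IsLocalization.mk' _ s t) := by
      apply htS.mul_left_injective
      simp only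
      rw [← hg t, ← map_mul, mul_assoc, ← hv, Units.inv_mul, mul_one, hg, hv, hg,
        IsScalarTower.algebraMap_apply S (Localization.AtPrime q) Sh t,
        ← map_mul, IsLocalization.mk'_spec, ← IsScalarTower.algebraMap_apply]
    rw [this]
    exact Ideal.Quotient.eq.mp hk.symm
  obtain ⟨e⟩ := Groth.L05.Henselization.isHenselization_algEquiv (R := D) (S := E) (S' := Sh)
  exact ⟨e.toRingEquiv, fun d => (e.commutes _).trans (Groth.L05.HensTensor.toSh_algebraMap φ.toRingHom D d)⟩

end Groth.Agent.S9459
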