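import Groth.Statements.S9468
import Groth.Agent.L05.Henselization.AtPrime

set_option autoImplicit false
universe u
open Hensel

namespace Groth.Agent.S9468

/-- Let R be a ring and p a prime of R. Consider pairs (S, q) with S an étale R-algebra and q a prime of
S lying over p such that κ(p) → κ(q) is bijective; a morphism of pairs is an R-algebra map pulling
the second prime back to the first. Then any two pairs admit morphisms of pairs to a common third
pair. -/
theorem result (R : Type u) [CommRing R]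
    (p : Ideal R) [p.IsPrime] (S₁ : Type u) [CommRing S₁] [Algebra R S₁] [Algebra.Etale R S₁] (q₁ : Ideal S₁) [q₁.IsPrime] (hq₁ : p = q₁.comap (algebraMap R S₁))
    (hq₁κ : Function.Bijective (Ideal.ResidueField.map p q₁ (algebraMap R S₁) hq₁))
    (S₂ : Type u) [CommRing S₂] [Algebra R S₂] [Algebra.Etale R S₂] (q₂ : Ideal S₂) [q₂.IsPrime] (hq₂ : p = q₂.comap (algebraMap R S₂))
    (hq₂κ : Function.Bijective (Ideal.ResidueField.map p q₂ (algebraMap R S₂) hq₂)) :
    ∃ (S₃ : Type u) (_ : CommRing S₃) (_ : Algebra R S₃) (_ : Algebra.Etale R S₃) (q₃ : Ideal S₃)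
      (_ : q₃.IsPrime) (hq₃ : p = q₃.comap (algebraMap R S₃)),
      Function.Bijective (Ideal.ResidueField.map p q₃ (algebraMap R S₃) hq₃) ∧
        ∃ (φ₁ : S₁ →ₐ[R] S₃) (φ₂ : S₂ →ₐ[R] S₃),
          q₃.comap φ₁.toRingHom = q₁ ∧ q₃.comap φ₂.toRingHom = q₂ := by
  obtain ⟨φ₁, hφ₁⟩ := Groth.L05.Henselization.exists_point p q₁ hq₁ hq₁κ
  obtain ⟨φ₂, hφ₂⟩ := Groth.L05.Henselization.exists_point p q₂ hq₂ hq₂κ
  obtain ⟨Z, f₁, f₂, h₁, h₂⟩ := Groth.L05.Henselization.exists_nbhd_cocone p φ₁ φ₂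
  haveI hq := RingHom.ker_isPrime Z.φ
  refine ⟨Z.R, inferInstance, inferInstance, Z.etale, RingHom.ker Z.φ, hq,
    Groth.L05.Henselization.comap_ker_point p Z.φ,
    Groth.L05.Henselization.bijective_of_point p Z.φ _ rfl _, f₁, f₂, ?_, ?_⟩
  · rw [← hφ₁, ← h₁]
    rfl
  · rw [← hφ₂, ← h₂]
    rfl

end Groth.Agent.S9468
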