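import Groth.Statements.S9471
import Groth.Agent.L05.HensTensor.TensorBij

set_option autoImplicit false
universe u
open Hensel

namespace Groth.Agent.S9471

open TensorProduct in
/-- Let A → B be integral and A → C any ring map, D = B ⊗_A C, and p_D a prime of D with images p_B,
p_C, p_A in B, C, A. Let A^{sh}, B^{sh}, C^{sh}, D^{sh} be strict henselizations of the local rings
A_{p_A}, B_{p_B}, C_{p_C}, D_{p_D}, equipped with local homomorphisms A^{sh} → B^{sh} → D^{sh} and
A^{sh} → C^{sh} → D^{sh} forming a commutative square compatible with A → B → D and A → C → D (such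
maps are the ones attached to a compatible choice of residue-field embeddings into one separably
closed field, and are unique given that choice). Then the induced A^{sh}-algebra map B^{sh}
⊗_{A^{sh}} C^{sh} → D^{sh} is bijective. -/
theorem result (A B C : Type u) [CommRing A] [CommRing B]
    [CommRing C] [Algebra A B] [Algebra A C] [Algebra.IsIntegral A B]
    (pA : Ideal A) [pA.IsPrime] (pB : Ideal B) [pB.IsPrime] [pB.LiesOver pA]
    (pC : Ideal C) [pC.IsPrime] [pC.LiesOver pA]
    (pD : Ideal (B ⊗[A] C)) [pD.IsPrime] [pD.LiesOver pB]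
    (hDC : pD.comap (Algebra.TensorProduct.includeRight : C →ₐ[A] B ⊗[A] C).toRingHom = pC)
    (Ash : Type u) [CommRing Ash] [IsLocalRing Ash] [Algebra (Localization.AtPrime pA) Ash]
    [IsLocalHom (algebraMap (Localization.AtPrime pA) Ash)]
    [Hensel.IsStrictHenselization (Localization.AtPrime pA) Ash] [Algebra A Ash]
    [IsScalarTower A (Localization.AtPrime pA) Ash]
    (Bsh : Type u) [CommRing Bsh] [IsLocalRing Bsh] [Algebra (Localization.AtPrime pB) Bsh]
    [IsLocalHom (algebraMap (Localization.AtPrime pB) Bsh)]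
    [Hensel.IsStrictHenselization (Localization.AtPrime pB) Bsh] [Algebra B Bsh]
    [IsScalarTower B (Localization.AtPrime pB) Bsh] [Algebra A Bsh] [IsScalarTower A B Bsh]
    [Algebra Ash Bsh] [IsScalarTower A Ash Bsh] [IsLocalHom (algebraMap Ash Bsh)]
    (Csh : Type u) [CommRing Csh] [IsLocalRing Csh] [Algebra (Localization.AtPrime pC) Csh]
    [IsLocalHom (algebraMap (Localization.AtPrime pC) Csh)]
    [Hensel.IsStrictHenselization (Localization.AtPrime pC) Csh] [Algebra C Csh]
    [IsScalarTower C (Localization.AtPrime pC) Csh] [Algebra A Csh] [IsScalarTower A C Csh]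
    [Algebra Ash Csh] [IsScalarTower A Ash Csh] [IsLocalHom (algebraMap Ash Csh)]
    (Dsh : Type u) [CommRing Dsh] [IsLocalRing Dsh] [Algebra (Localization.AtPrime pD) Dsh]
    [IsLocalHom (algebraMap (Localization.AtPrime pD) Dsh)]
    [Hensel.IsStrictHenselization (Localization.AtPrime pD) Dsh] [Algebra (B ⊗[A] C) Dsh]
    [IsScalarTower (B ⊗[A] C) (Localization.AtPrime pD) Dsh]
    [Algebra Bsh Dsh] [IsLocalHom (algebraMap Bsh Dsh)] [Algebra B Dsh] [IsScalarTower B Bsh Dsh]
    [IsScalarTower B (B ⊗[A] C) Dsh]
    [Algebra Csh Dsh] [IsLocalHom (algebraMap Csh Dsh)]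
    (hC : ∀ c : C, algebraMap Csh Dsh (algebraMap C Csh c) = algebraMap (B ⊗[A] C) Dsh (1 ⊗ₜ[A] c))
    [Algebra Ash Dsh] [IsScalarTower Ash Bsh Dsh] [IsScalarTower Ash Csh Dsh] :
    Function.Bijective (Algebra.TensorProduct.lift (IsScalarTower.toAlgHom Ash Bsh Dsh)
      (IsScalarTower.toAlgHom Ash Csh Dsh) (fun _ _ => Commute.all _ _)) := by
  haveI := (‹Hensel.IsStrictHenselization (Localization.AtPrime pA) Ash›).henselian
  haveI := (‹Hensel.IsStrictHenselization (Localization.AtPrime pC) Csh›).henselian
  haveI : IsSepClosed (IsLocalRing.ResidueField Ash) :=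
    (‹Hensel.IsStrictHenselization (Localization.AtPrime pA) Ash›).isSepClosure.sep_closed
  haveI : IsSepClosed (IsLocalRing.ResidueField Csh) :=
    (‹Hensel.IsStrictHenselization (Localization.AtPrime pC) Csh›).isSepClosure.sep_closed
  haveI : Algebra.WeaklyEtale A Ash :=
    Groth.L05.HensTensor.weaklyEtale_of_localization_trans A (Localization.AtPrime pA) Ash pA.primeCompl
      (Groth.L05.Henselization.isIndEtale_of_isStrictHenselization _ _)
  haveI : Algebra.WeaklyEtale B Bsh :=
    Groth.L05.HensTensor.weaklyEtale_of_localization_trans B (Localization.AtPrime pB) Bsh pB.primeCompl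
      (Groth.L05.Henselization.isIndEtale_of_isStrictHenselization _ _)
  haveI : Algebra.WeaklyEtale C Csh :=
    Groth.L05.HensTensor.weaklyEtale_of_localization_trans C (Localization.AtPrime pC) Csh pC.primeCompl
      (Groth.L05.Henselization.isIndEtale_of_isStrictHenselization _ _)
  haveI : Algebra.WeaklyEtale (B ⊗[A] C) Dsh :=
    Groth.L05.HensTensor.weaklyEtale_of_localization_trans (B ⊗[A] C) (Localization.AtPrime pD) Dsh
      pD.primeCompl (Groth.L05.Henselization.isIndEtale_of_isStrictHenselization _ _)
  haveI : Algebra.IsIntegral Ash Bsh :=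
    Groth.L05.HensTensor.isIntegral_of_indQuasiFinite (R := A) (S := B) fun s => by
      haveI : Module.Finite A (Algebra.adjoin A (↑s : Set B)) :=
        ⟨(Submodule.fg_top _).mpr
          (fg_adjoin_of_finite s.finite_toSet fun x _ => Algebra.IsIntegral.isIntegral x)⟩
      exact ⟨_, Algebra.subset_adjoin, inferInstance, inferInstance⟩
  exact Groth.L05.HensTensor.bijective_lift (A := A) (B := B) (C := C) (fun b => by
    rw [← IsScalarTower.algebraMap_apply B Bsh Dsh, IsScalarTower.algebraMap_apply B (B ⊗[A] C) Dsh]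
    simp) hC

end Groth.Agent.S9471
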