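import Groth.Statements.S9474
import Mathlib.RingTheory.Kaehler.Polynomial
import Mathlib.RingTheory.Unramified.Basic
import Mathlib.RingTheory.FiniteType
import Mathlib.Algebra.MvPolynomial.Eval
import Mathlib.RingTheory.Ideal.Quotient.Operations
-- import your own Groth.Agent.* helpers here

set_option autoImplicit false
universe u
open CAlg

namespace Groth.Agent.S9474

open TensorProduct MvPolynomial KaehlerDifferential

variable {R S : Type u} [CommRing R] [CommRing S] [Algebra R S]

/-- Unramifiedness of a quotient of a polynomial ring, witnessed by relations. -/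
theorem exists_relations [Algebra.FormallyUnramified R S] {n : ℕ} (π : MvPolynomial (Fin n) R →ₐ[R] S)
    (hπ : Function.Surjective π) :
    ∃ f : Fin n → MvPolynomial (Fin n) R, (∀ i, π (f i) = 0) ∧
      ∀ i j, π (pderiv j (f i) - (Pi.single i (1 : MvPolynomial (Fin n) R) : Fin n → MvPolynomial (Fin n) R) j) = 0 := by
  classical
  letI : Algebra (MvPolynomial (Fin n) R) S := π.toRingHom.toAlgebra
  haveI : IsScalarTower R (MvPolynomial (Fin n) R) S := IsScalarTower.of_algebraMap_eq fun r => (π.commutes r).symm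
  have hs : Function.Surjective (algebraMap (MvPolynomial (Fin n) R) S) := hπ
  have h : ∀ i, ∃ f : MvPolynomial (Fin n) R, π f = 0 ∧
      (1 : S) ⊗ₜ[MvPolynomial (Fin n) R] D R _ f = (1 : S) ⊗ₜ[MvPolynomial (Fin n) R] D R _ (X i) := by
    intro i
    have h1 : (1 : S) ⊗ₜ[MvPolynomial (Fin n) R] D R _ (X i) ∈
        LinearMap.range (kerCotangentToTensor R (MvPolynomial (Fin n) R) S) := by
      rw [range_kerCotangentToTensor R _ S hs]
      exact Subsingleton.elim _ _
    obtain ⟨y, hy⟩ := h1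
    obtain ⟨⟨f, hf⟩, rfl⟩ := Ideal.toCotangent_surjective _ y
    exact ⟨f, hf, hy⟩
  choose f hf0 hf using h
  refine ⟨f, hf0, fun i j => ?_⟩
  let Φ : S ⊗[MvPolynomial (Fin n) R] Ω[MvPolynomial (Fin n) R⁄R] →ₗ[MvPolynomial (Fin n) R] S :=
    TensorProduct.lift ((LinearMap.mul (MvPolynomial (Fin n) R) S).compl₂
      ((Algebra.linearMap (MvPolynomial (Fin n) R) S) ∘ₗ (Finsupp.lapply j) ∘ₗ
        (mvPolynomialBasis R (Fin n)).repr.toLinearMap))
  have hΦ : ∀ g, Φ ((1 : S) ⊗ₜ D R _ g) = π (pderiv j g) := fun g => by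
    show (1 : S) * π (((mvPolynomialBasis R (Fin n)).repr (D R _ g)) j) = _
    rw [one_mul, mvPolynomialBasis_repr_apply]
  have h2 := congrArg Φ (hf i)
  rw [hΦ, hΦ, pderiv_X] at h2
  rw [map_sub, h2, sub_eq_zero]
  congr 1
  rcases eq_or_ne i j with rfl | hij
  · simp
  · simp [Pi.single_eq_of_ne hij.symm, Pi.single_eq_of_ne hij]

/-- A quotient of a polynomial ring by such relations is unramified. -/
theorem formallyUnramified_quotient {A : Type u} [CommRing A] {n : ℕ} (f : Fin n → MvPolynomial (Fin n) A)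
    (I : Ideal (MvPolynomial (Fin n) A)) (hf : ∀ i, f i ∈ I)
    (hd : ∀ i j, pderiv j (f i) - (Pi.single i (1 : MvPolynomial (Fin n) A) : Fin n → MvPolynomial (Fin n) A) j ∈ I) :
    Algebra.FormallyUnramified A (MvPolynomial (Fin n) A ⧸ I) := by
  classical
  let P := MvPolynomial (Fin n) A
  let d : Derivation A P Ω[P ⧸ I⁄A] := (D A (P ⧸ I)).compAlgebraMap P
  let l := d.liftKaehlerDifferential
  have hsum : ∀ g : P, D A P g = ∑ j, pderiv j g • D A P (X j) := by
    intro g
    refine (mvPolynomialBasis A (Fin n)).repr.injective (Finsupp.ext fun k => ?_)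
    rw [mvPolynomialBasis_repr_apply, map_sum, Finsupp.finset_sum_apply, Finset.sum_eq_single k]
    · rw [map_smul, Finsupp.smul_apply, mvPolynomialBasis_repr_D_X, Finsupp.single_eq_same, smul_eq_mul, mul_one]
    · intro j _ hj
      rw [map_smul, Finsupp.smul_apply, mvPolynomialBasis_repr_D_X, Finsupp.single_eq_of_ne hj.symm, smul_zero]
    · exact fun h => absurd (Finset.mem_univ k) h
  have hld : ∀ g : P, l (D A P g) = D A (P ⧸ I) (algebraMap P (P ⧸ I) g) := fun g =>
    Derivation.liftKaehlerDifferential_comp_D d g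
  have hkill : ∀ c ∈ I, ∀ ω : Ω[P ⧸ I⁄A], c • ω = 0 := fun c hc ω => by
    rw [← algebraMap_smul (P ⧸ I) c ω, show algebraMap P (P ⧸ I) c = 0 from Ideal.Quotient.eq_zero_iff_mem.2 hc]; exact zero_smul (P ⧸ I) ω
  have hX : ∀ i, l (D A P (X i)) = 0 := by
    intro i
    have h1 : l (D A P (f i)) = 0 := by
      rw [hld, show algebraMap P (P ⧸ I) (f i) = 0 from Ideal.Quotient.eq_zero_iff_mem.2 (hf i), map_zero]
    rw [hsum, map_sum] at h1
    refine Eq.trans ?_ h1
    simp only [map_smul]
    rw [Finset.sum_eq_single i]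
    · have h2 := hkill _ (hd i i) (l (D A P (X i)))
      rw [Pi.single_eq_same, sub_smul, one_smul, sub_eq_zero] at h2
      exact h2.symm
    · intro j _ hj
      have h2 := hkill _ (hd i j) (l (D A P (X j)))
      rwa [Pi.single_eq_of_ne hj, sub_zero] at h2
    · exact fun h => absurd (Finset.mem_univ i) h
  refine ⟨subsingleton_of_forall_eq 0 fun ω => ?_⟩
  have hω : ω ∈ Submodule.span (P ⧸ I) (Set.range (D A (P ⧸ I))) := by rw [span_range_derivation]; trivial
  induction hω using Submodule.span_induction with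
  | mem x hx =>
    obtain ⟨b, rfl⟩ := hx
    obtain ⟨g, rfl⟩ := Ideal.Quotient.mk_surjective b
    rw [← Ideal.Quotient.algebraMap_eq, ← hld, hsum, map_sum]
    exact Finset.sum_eq_zero fun j _ => by rw [map_smul, hX, smul_zero]
  | zero => rfl
  | add x y _ _ hx hy => rw [hx, hy, add_zero]
  | smul c x _ hx => rw [hx, smul_zero]

open TensorProduct in
/-- If R → S is unramified (of finite type with vanishing module of differentials), then there are a
finite type ℤ-algebra R₀, an unramified R₀-algebra S₀, a ring map R₀ → R, and a surjective R-algebra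
map from R ⊗_{R₀} S₀ onto S. -/
theorem result (R : Type u) [CommRing R] (S : Type u)
    [CommRing S] [Algebra R S] [Algebra.Unramified R S] :
    ∃ (R₀ : Type u) (_ : CommRing R₀) (_ : Algebra.FiniteType ℤ R₀) (S₀ : Type u) (_ : CommRing S₀)
      (_ : Algebra R₀ S₀) (_ : Algebra.Unramified R₀ S₀) (_ : Algebra R₀ R)
      (ψ : R ⊗[R₀] S₀ →ₐ[R] S), Function.Surjective ψ := by
  classical
  haveI : Algebra.FormallyUnramified R S := Algebra.Unramified.formallyUnramified
  haveI : Algebra.FiniteType R S := Algebra.Unramified.finiteType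
  obtain ⟨n, π, hπ⟩ := Algebra.FiniteType.iff_quotient_mvPolynomial''.1 (inferInstance : Algebra.FiniteType R S)
  obtain ⟨f, hf, hd⟩ := exists_relations π hπ
  let C : Finset R := Finset.univ.biUnion fun i => (f i).coeffs
  let T : Subalgebra ℤ R := Algebra.adjoin ℤ (C : Set R)
  have hmem : ∀ i, f i ∈ Set.range (MvPolynomial.map (algebraMap T R)) := fun i => by
    rw [MvPolynomial.mem_range_map_iff_coeffs_subset]
    exact fun c hc => ⟨⟨c, Algebra.subset_adjoin (Finset.mem_coe.2 (Finset.mem_biUnion.2 ⟨i, Finset.mem_univ i, hc⟩))⟩, rfl⟩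
  choose f₀ hf₀ using hmem
  let π₀ : MvPolynomial (Fin n) T →ₐ[T] S := MvPolynomial.aeval fun i => π (MvPolynomial.X i)
  have hcomp : ∀ g, π₀ g = π (MvPolynomial.map (algebraMap T R) g) := fun g => by
    induction g using MvPolynomial.induction_on with
    | C r =>
      rw [MvPolynomial.map_C, ← MvPolynomial.algebraMap_eq (R := R), π.commutes, MvPolynomial.aeval_C]
      exact IsScalarTower.algebraMap_apply T R S r
    | add a b ha hb => rw [map_add, map_add, map_add, ha, hb]
    | mul_X a i ha => rw [map_mul, map_mul, map_mul, ha, MvPolynomial.map_X, MvPolynomial.aeval_X]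
  let I : Ideal (MvPolynomial (Fin n) T) := Ideal.span (Set.range f₀ ∪
    Set.range fun ij : Fin n × Fin n => MvPolynomial.pderiv ij.2 (f₀ ij.1) - (Pi.single ij.1 (1 : MvPolynomial (Fin n) T) : Fin n → MvPolynomial (Fin n) T) ij.2)
  have hI : ∀ g ∈ I, π₀ g = 0 := by
    intro g hg
    have hle : I ≤ RingHom.ker π₀ := by
      refine Ideal.span_le.2 ?_
      rintro _ (⟨i, rfl⟩ | ⟨⟨i, j⟩, rfl⟩)
      · show π₀ (f₀ i) = 0
        rw [hcomp, hf₀, hf]
      · show π₀ (MvPolynomial.pderiv j (f₀ i) - (Pi.single i (1 : MvPolynomial (Fin n) T) : Fin n → MvPolynomial (Fin n) T) j) = 0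
        refine (hcomp _).trans (Eq.trans ?_ (hd i j))
        rw [map_sub, map_sub, map_sub, ← MvPolynomial.pderiv_map, hf₀]
        congr 2
        rcases eq_or_ne j i with rfl | hij
        · simp
        · simp [Pi.single_eq_of_ne hij]
    exact hle hg
  let φ₀ : (MvPolynomial (Fin n) T ⧸ I) →ₐ[T] S := Ideal.Quotient.liftₐ I π₀ hI
  haveI hT : Algebra.FiniteType ℤ T := ⟨T.fg_top.2 ⟨C, rfl⟩⟩
  haveI : Algebra.FormallyUnramified T (MvPolynomial (Fin n) T ⧸ I) :=
    formallyUnramified_quotient f₀ I (fun i => Ideal.subset_span (Or.inl ⟨i, rfl⟩))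
      fun i j => Ideal.subset_span (Or.inr ⟨(i, j), rfl⟩)
  haveI : Algebra.FiniteType T (MvPolynomial (Fin n) T ⧸ I) :=
    Algebra.FiniteType.of_surjective (Ideal.Quotient.mkₐ T I) Ideal.Quotient.mk_surjective
  refine ⟨T, inferInstance, by convert hT using 0, MvPolynomial (Fin n) T ⧸ I, Ideal.Quotient.commRing I, Ideal.instAlgebraQuotient T I, ⟨inferInstance, inferInstance⟩, T.toAlgebra,
    Algebra.TensorProduct.lift (Algebra.ofId R S) φ₀ (fun _ _ => Commute.all _ _), fun y => ?_⟩
  obtain ⟨g, rfl⟩ := hπ y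
  show π g ∈ (Algebra.TensorProduct.lift (Algebra.ofId R S) φ₀ (fun _ _ => Commute.all _ _)).range
  have htop : (⊤ : Subalgebra R (MvPolynomial (Fin n) R)) ≤
      ((Algebra.TensorProduct.lift (Algebra.ofId R S) φ₀ (fun _ _ => Commute.all _ _)).range).comap π := by
    rw [← MvPolynomial.adjoin_range_X, Algebra.adjoin_le_iff]
    rintro _ ⟨i, rfl⟩
    refine ⟨(1 : R) ⊗ₜ Ideal.Quotient.mk I (MvPolynomial.X i), ?_⟩
    show Algebra.TensorProduct.lift (Algebra.ofId R S) φ₀ (fun _ _ => Commute.all _ _) ((1 : R) ⊗ₜ _) = _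
    rw [Algebra.TensorProduct.lift_tmul, map_one, one_mul]
    show π₀ (MvPolynomial.X i) = _
    rw [MvPolynomial.aeval_X]
    rfl
  exact htop Algebra.mem_top

end Groth.Agent.S9474
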