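import Groth.Statements.S9480
import Groth.Agent.L13.FEtLeff.LeffHyper
-- import your own Groth.Agent.* helpers here

set_option autoImplicit false
set_option backward.isDefEq.respectTransparency false
set_option linter.style.haveILetI false
set_option backward.isDefEq.respectTransparency.types false
universe u
open Pi1

namespace Groth.Agent.S9480

open AlgebraicGeometry CategoryTheory CategoryTheory.Limits in
/-- X is proper over a field k, L is an ample invertible O_X-module, s a global section of L and Y =
Z(s) its zero scheme. Assume depth(O_{X,x}) + dim(closure of x) > 2 for every point x of X not in Y.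
Then every finite etale cover R of Y is isomorphic, over Y, to the restriction of a finite etale
cover R' of some open subscheme V of X containing Y; here both R and R' are restricted to Y ×_X V
(which maps isomorphically to Y). Together with full faithfulness of restriction from every such V,
this says that restriction from the system of open neighbourhoods of Y to Y is an equivalence. -/
theorem result (k : Type u) [Field k] (X : Scheme.{u})
    (f : X ⟶ Spec (CommRingCat.of k)) [IsProper f] (L : X.Modules) (hL : CohB1.IsAmple L)
    (s : Coh.structureModule X ⟶ L)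
    (hd : ∀ x : X, x ∉ (PicF2.zeroScheme L s).support →
      (2 : WithBot ℕ∞) < (LocCoh.depth (X.presheaf.stalk x) (X.presheaf.stalk x) : WithBot ℕ∞) +
        topologicalKrullDim (closure ({x} : Set X)))
    (R : FEt.Cat ((PicF2.zeroScheme L s).subscheme)) :
    ∃ (V : X.Opens) (R' : FEt.Cat (V : Scheme.{u})), ((PicF2.zeroScheme L s).support : Set X) ⊆ V ∧
      Nonempty ((FEt.restrict (pullback.snd (PicF2.zeroScheme L s).subschemeι V.ι)).obj R' ≅
        (FEt.restrict (pullback.fst (PicF2.zeroScheme L s).subschemeι V.ι)).obj R) := by
  obtain ⟨V, W, hV, hi⟩ := Groth.L13.FEtLeff.exists_extension_of_leff _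
    (Groth.L13.FEtLeff.LefHyper.leffCond k f hL s hd) R
  have hr : Set.range (PicF2.zeroScheme L s).subschemeι ⊆ Set.range V.ι := by
    rw [Scheme.Opens.range_ι, Scheme.IdealSheafData.range_subschemeι]
    exact hV
  let i := IsOpenImmersion.lift V.ι (PicF2.zeroScheme L s).subschemeι hr
  have hiV : i ≫ V.ι = (PicF2.zeroScheme L s).subschemeι := IsOpenImmersion.lift_fac _ _ _
  obtain ⟨a⟩ := hi i hiV
  have e : pullback.fst (PicF2.zeroScheme L s).subschemeι V.ι ≫ i = pullback.snd _ V.ι := by
    rw [← cancel_mono V.ι, Category.assoc, hiV, pullback.condition]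
  exact ⟨V, W, hV, ⟨(Groth.L13.FEtLeff.restrictFacIso e).app W ≪≫ (FEt.restrict _).mapIso a⟩⟩

end Groth.Agent.S9480
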