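import Groth.Statements.S9485
import Groth.Agent.L27.SGA1.FEtFaithful
import Mathlib.RingTheory.Ideal.KrullsHeightTheorem

set_option autoImplicit false
universe u
open Pi1

namespace Groth.Agent.S9485

open AlgebraicGeometry CategoryTheory CategoryTheory.Limits in
example : True := trivial

theorem isUnit_of_map_unit_quot {A : Type u} [CommRing A] [IsLocalRing A] (P : Ideal A) [P.IsPrime] (a : A)
    (h : IsUnit (Ideal.Quotient.mk P a)) : IsUnit a := by
  by_contra hn
  obtain ⟨b, hb⟩ := h.exists_right_inv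
  obtain ⟨c, rfl⟩ := Ideal.Quotient.mk_surjective b
  rw [← map_mul, ← map_one (Ideal.Quotient.mk P), Ideal.Quotient.eq] at hb
  have h1 : a * c ∈ IsLocalRing.maximalIdeal A := Ideal.mul_mem_right _ _ hn
  exact (IsLocalRing.maximalIdeal.isMaximal A).ne_top ((Ideal.eq_top_iff_one _).2
    (by simpa using sub_mem h1 (IsLocalRing.le_maximalIdeal (Ideal.IsPrime.ne_top inferInstance) hb)))

open AlgebraicGeometry CategoryTheory CategoryTheory.Limits in


/-- Let A be a Noetherian local ring with maximal ideal m and f ∈ m, U the punctured spectrum of A and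
U₀ that of A/fA (realised as U ×_{Spec A} Spec(A/fA)). Let U' ⊆ U be an open through which U₀ ⟶ Spec
A factors (as u'). If dim(A/p) ≥ 2 for every minimal prime p of A which lies in U' and does not
contain f, then restriction of finite etale covers along u' is faithful. (Such U' exist, e.g. the
complement in U of the one-dimensional irreducible components not meeting U₀, and the condition
passes to smaller such opens, so restriction from the system of these opens is faithful.) -/
theorem result (A : Type u) [CommRing A] [IsNoetherianRing A] [IsLocalRing A] (f : A) (hf : f ∈ IsLocalRing.maximalIdeal A)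
    (U' : (Spec (CommRingCat.of A)).Opens) (hU' : U' ≤ FEt.puncturedSpec A)
    (u' : pullback (FEt.puncturedSpec A).ι (Spec.map (CommRingCat.ofHom (Ideal.Quotient.mk (Ideal.span {f})))) ⟶ (U' : Scheme.{u})) (hu' : u' ≫ U'.ι = (pullback.fst (FEt.puncturedSpec A).ι (Spec.map (CommRingCat.ofHom (Ideal.Quotient.mk (Ideal.span {f})))) ≫ (FEt.puncturedSpec A).ι))
    (hdim : ∀ p : PrimeSpectrum A, p.asIdeal ∈ minimalPrimes A → p ∈ U' → f ∉ p.asIdeal →
      (2 : WithBot ℕ∞) ≤ ringKrullDim (A ⧸ p.asIdeal)) :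
    (FEt.restrict u').Faithful := by
  let U := FEt.puncturedSpec A
  let πq : A →+* A ⧸ Ideal.span {f} := Ideal.Quotient.mk (Ideal.span {f})
  let i := Spec.map (CommRingCat.ofHom πq)
  haveI : IsClosedImmersion i := IsClosedImmersion.spec_of_surjective _ Ideal.Quotient.mk_surjective
  haveI : IsClosedImmersion (pullback.fst U.ι i) := inferInstance
  haveI : IsClosedImmersion (u' ≫ (Spec (CommRingCat.of A)).homOfLE hU') := by
    have h : u' ≫ (Spec (CommRingCat.of A)).homOfLE hU' = pullback.fst U.ι i := by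
      rw [← cancel_mono U.ι, Category.assoc, Scheme.homOfLE_ι]
      exact hu'
    rw [h]; infer_instance
  haveI : IsClosedImmersion u' := IsClosedImmersion.of_comp u' ((Spec (CommRingCat.of A)).homOfLE hU')
  refine Groth.L27.SGA1Conn.faithful_of_meets_components u' fun x => ?_
  -- points of the punctured spectrum containing `f` lie in the image
  have hrange : ∀ q : PrimeSpectrum A, q ≠ IsLocalRing.closedPoint A → f ∈ q.asIdeal →
      ∃ (hq : q ∈ U'), (⟨q, hq⟩ : (U' : Scheme.{u})) ∈ Set.range u' := fun q hqm hfq => by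
    obtain ⟨z, hz⟩ : (⟨q, hqm⟩ : (U : Scheme.{u})) ∈ Set.range (pullback.fst U.ι i) := by
      rw [Scheme.Pullback.range_fst]
      show q ∈ Set.range i
      rw [show Set.range i = PrimeSpectrum.zeroLocus ((RingHom.ker πq : Ideal A) : Set A) from
        range_comap_of_surjective _ _ Ideal.Quotient.mk_surjective, Ideal.mk_ker]
      exact (Ideal.span_singleton_le_iff_mem q.asIdeal).2 hfq
    have h1 : U'.ι (u' z) = q := by
      rw [← Scheme.Hom.comp_apply, hu', Scheme.Hom.comp_apply, hz]; rfl
    exact ⟨h1 ▸ (u' z).2, z, Subtype.ext h1⟩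
  haveI : x.1.asIdeal.IsPrime := x.1.2
  obtain ⟨P, hP, hPx⟩ := Ideal.exists_minimalPrimes_le (J := x.1.asIdeal) (bot_le : ⊥ ≤ _)
  let p : PrimeSpectrum A := ⟨P, hP.1.1⟩
  have hpx : p ⤳ x.1 := (PrimeSpectrum.le_iff_specializes _ _).1 hPx
  have hpU : p ∈ U' := hpx.mem_open U'.2 x.2
  have hcomp : ∀ (q : (U' : Scheme.{u})), p ⤳ q.1 → q ∈ connectedComponent x := fun q hq => by
    have h1 : (⟨p, hpU⟩ : (U' : Scheme.{u})) ⤳ q := U'.ι.isEmbedding.toIsInducing.specializes_iff.1 hq
    have h2 : (⟨p, hpU⟩ : (U' : Scheme.{u})) ⤳ x := U'.ι.isEmbedding.toIsInducing.specializes_iff.1 hpx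
    have hc : _root_.IsPreconnected (closure ({⟨p, hpU⟩} : Set (U' : Scheme.{u}))) :=
      isPreconnected_singleton.closure
    exact (hc.subset_connectedComponent h2.mem_closure) h1.mem_closure
  by_cases hfp : f ∈ P
  · obtain ⟨hq, hr⟩ := hrange p (hU' hpU) hfp
    exact ⟨_, hcomp ⟨p, hq⟩ specializes_rfl, hr⟩
  haveI : P.IsPrime := hP.1.1
  obtain ⟨q, hqp, hfq, hqm⟩ : ∃ q : PrimeSpectrum A, P ≤ q.asIdeal ∧ f ∈ q.asIdeal ∧
      q ≠ IsLocalRing.closedPoint A := by
    by_contra hno
    push Not at hno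
    have h2 := hdim p hP hpU hfp
    let π : A →+* A ⧸ P := Ideal.Quotient.mk P
    haveI : Nontrivial (A ⧸ P) := Ideal.Quotient.nontrivial_iff.2 hP.1.1.ne_top
    haveI : IsLocalRing (A ⧸ P) := IsLocalRing.of_surjective' _ Ideal.Quotient.mk_surjective
    have hmin : IsLocalRing.maximalIdeal (A ⧸ P) ∈ (Ideal.span {π f}).minimalPrimes := by
      refine ⟨⟨inferInstance, (Ideal.span_singleton_le_iff_mem _).2 ?_⟩, fun Q hQ hle => ?_⟩
      · rw [IsLocalRing.mem_maximalIdeal, mem_nonunits_iff]
        intro hu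
        exact (IsLocalRing.mem_maximalIdeal f).1 hf (isUnit_of_map_unit_quot P f hu)
      · haveI : (Q.comap π).IsPrime := hQ.1.comap π
        have := hno ⟨Q.comap π, inferInstance⟩ (fun a ha => by
          show π a ∈ Q
          rw [Ideal.Quotient.eq_zero_iff_mem.2 ha]; exact Q.zero_mem)
          (hQ.2 (Ideal.mem_span_singleton_self _))
        have hQc : Q.comap π = IsLocalRing.maximalIdeal A := congrArg PrimeSpectrum.asIdeal this
        rw [← Ideal.map_comap_of_surjective π Ideal.Quotient.mk_surjective Q, hQc]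
        intro y hy
        obtain ⟨a, rfl⟩ := Ideal.Quotient.mk_surjective y
        refine Ideal.mem_map_of_mem π ?_
        exact fun hu => hy (hu.map π)
    have h1 := Ideal.height_le_one_of_isPrincipal_of_mem_minimalPrimes (Ideal.span {π f}) _ hmin
    rw [← IsLocalRing.maximalIdeal_height_eq_ringKrullDim] at h2
    have h3 : (2 : WithBot ℕ∞) ≤ ((1 : ℕ∞) : WithBot ℕ∞) := h2.trans (WithBot.coe_le_coe.2 h1)
    exact absurd h3 (by decide)
  obtain ⟨hq, hr⟩ := hrange q hqm hfq
  exact ⟨_, hcomp ⟨q, hq⟩ ((PrimeSpectrum.le_iff_specializes _ _).1 hqp), hr⟩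

end Groth.Agent.S9485
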