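import Groth.Statements.S9488
import Groth.Agent.L18.NormalizationField
import Groth.Agent.L18.NormalExtend
import Groth.Agent.L20.NormalCard.Spread
import Mathlib.AlgebraicGeometry.Morphisms.Etale

set_option autoImplicit false
universe u
open Pi1

set_option backward.isDefEq.respectTransparency.types false
open AlgebraicGeometry CategoryTheory CategoryTheory.Limits in
/-- Finite etale over an affine open from the ring map on sections. -/
theorem finite_etale_restrict {X Y : Scheme.{u}} (f : Y ⟶ X) [IsAffineHom f] {U : X.Opens}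
    (hU : IsAffineOpen U) (hfin : (f.app U).hom.Finite) (het : (f.app U).hom.Etale) :
    Etale (pullback.snd f U.ι) ∧ IsFinite (pullback.snd f U.ι) := by
  haveI : IsAffine (U : Scheme) := hU
  haveI : IsAffine ((f ⁻¹ᵁ U).toScheme) := hU.preimage f
  have h1 : (f.app (U.ι ''ᵁ ⊤)).hom.Finite ∧ (f.app (U.ι ''ᵁ ⊤)).hom.Etale := by
    have : ∀ O : X.Opens, O = U → (f.app O).hom.Finite ∧ (f.app O).hom.Etale := by
      rintro _ rfl; exact ⟨hfin, het⟩
    exact this _ (Scheme.Opens.ι_image_top _)
  have h2 : Etale (f ∣_ U) := by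
    rw [HasRingHomProperty.iff_of_isAffine (P := @Etale), morphismRestrict_appTop]
    exact (RingHom.Etale.respectsIso.cancel_right_isIso _ _).mpr h1.2
  have h3 : IsFinite (f ∣_ U) := by
    rw [HasAffineProperty.iff_of_isAffine (P := @IsFinite)]
    refine ⟨inferInstance, ?_⟩
    rw [morphismRestrict_appTop]
    exact (RingHom.finite_respectsIso.cancel_right_isIso _ _).mpr h1.1
  rw [← pullbackRestrictIsoRestrict_hom_morphismRestrict f U]
  exact ⟨inferInstance, inferInstance⟩
namespace Groth.Agent.S9488

open AlgebraicGeometry CategoryTheory CategoryTheory.Limits in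
/-- The criterion by the cardinality of a geometric fibre, in the local form its proof establishes: X is
an integral scheme with integrally closed local rings and function field K; L is a finite field
extension of K and ν : Y ⟶ X the normalization of X in Spec L. Let ξ : Spec Ω ⟶ X be a geometric
point (Ω algebraically closed) such that the fibre of ν over ξ is etale and ν has at least [L : K]
distinct Ω-points lying over ξ. Then ν is finite etale over some open neighbourhood of the image of
ξ. Consequently ν is finite etale as soon as every scheme-theoretic fibre of ν is etale of degree at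
least [L : K]. -/
theorem result {X : Scheme.{u}} [IsIntegral X] (hX : Pi1.IsNormalScheme X)
    (L : Type u) [Field L] [Algebra X.functionField L] [FiniteDimensional X.functionField L]
    [QuasiCompact (Spec.map (CommRingCat.ofHom (algebraMap X.functionField L)) ≫ X.fromSpecStalk (genericPoint X))] [QuasiSeparated (Spec.map (CommRingCat.ofHom (algebraMap X.functionField L)) ≫ X.fromSpecStalk (genericPoint X))]
    (Ω : Type u) [Field Ω] [IsAlgClosed Ω] (ξ : Spec (CommRingCat.of Ω) ⟶ X)
    (het : Etale (pullback.snd (Spec.map (CommRingCat.ofHom (algebraMap X.functionField L)) ≫ X.fromSpecStalk (genericPoint X)).fromNormalization ξ))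
    (hcard : Nonempty (Fin (Module.finrank X.functionField L) ↪
      {η : Spec (CommRingCat.of Ω) ⟶ (Spec.map (CommRingCat.ofHom (algebraMap X.functionField L)) ≫ X.fromSpecStalk (genericPoint X)).normalization // η ≫ (Spec.map (CommRingCat.ofHom (algebraMap X.functionField L)) ≫ X.fromSpecStalk (genericPoint X)).fromNormalization = ξ})) :
    ∃ U : X.Opens, Set.range ξ.base ⊆ (U : Set X) ∧
      Etale (pullback.snd (Spec.map (CommRingCat.ofHom (algebraMap X.functionField L)) ≫ X.fromSpecStalk (genericPoint X)).fromNormalization U.ι) ∧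
      IsFinite (pullback.snd (Spec.map (CommRingCat.ofHom (algebraMap X.functionField L)) ≫ X.fromSpecStalk (genericPoint X)).fromNormalization U.ι) := by
  set g := Spec.map (CommRingCat.ofHom (algebraMap X.functionField L)) ≫
    X.fromSpecStalk (genericPoint X) with hg
  obtain ⟨η⟩ := hcard
  obtain ⟨U, hU, hx0⟩ : ∃ U : X.Opens, IsAffineOpen U ∧
      ξ (IsLocalRing.closedPoint Ω) ∈ U := by
    obtain ⟨_, ⟨U, hU, rfl⟩, h, -⟩ := X.isBasis_affineOpens.exists_subset_of_mem_open
      (Set.mem_univ (ξ (IsLocalRing.closedPoint Ω))) isOpen_univ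
    exact ⟨U, hU, h⟩
  haveI : Nonempty U := ⟨⟨_, hx0⟩⟩
  have hpt : ∀ (W : X.Opens), ξ (IsLocalRing.closedPoint Ω) ∈ W → ⊤ ≤ ξ ⁻¹ᵁ W := by
    intro W hW z _
    have : z = IsLocalRing.closedPoint Ω := Subsingleton.elim (α := PrimeSpectrum Ω) _ _
    rw [this]; exact hW
  haveI : IsIntegrallyClosed Γ(X, U) := Groth.L18.isIntegrallyClosed_of_isNormalScheme hX hU
  haveI : IsFractionRing Γ(X, U) X.functionField :=
    functionField_isFractionRing_of_isAffineOpen X U hU
  letI aL : Algebra Γ(X, U) L :=
    ((algebraMap X.functionField L).comp (X.germToFunctionField U).hom).toAlgebra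
  haveI : IsScalarTower Γ(X, U) X.functionField L := IsScalarTower.of_algebraMap_eq fun _ => rfl
  let αX := ξ.appLE U ⊤ (hpt U hx0) ≫ (Scheme.ΓSpecIso (CommRingCat.of Ω)).hom
  letI aΩ : Algebra Γ(X, U) Ω := αX.hom.toAlgebra
  obtain ⟨e, he, -⟩ := Groth.L18.NormField.exists_equiv (φ := algebraMap X.functionField L) hg hU
  have hV : IsAffineOpen (g.fromNormalization ⁻¹ᵁ U) := hU.preimage _
  have hle : ∀ i, ⊤ ≤ (η i).1 ⁻¹ᵁ (g.fromNormalization ⁻¹ᵁ U) := fun i => by
    rw [← Scheme.Hom.comp_preimage, (η i).2]; exact hpt U hx0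
  let α := fun i => (η i).1.appLE (g.fromNormalization ⁻¹ᵁ U) ⊤ (hle i) ≫
    (Scheme.ΓSpecIso (CommRingCat.of Ω)).hom
  have hα : ∀ i, g.fromNormalization.app U ≫ α i = αX := by
    intro i
    simp only [α, αX, ← Category.assoc, Scheme.Hom.app_eq_appLE]
    rw [Scheme.Hom.appLE_comp_appLE]
    congr 1
    have hk : ∀ (k : Spec (CommRingCat.of Ω) ⟶ X) (_ : k = ξ) (h : ⊤ ≤ k ⁻¹ᵁ U),
        k.appLE U ⊤ h = ξ.appLE U ⊤ (hpt U hx0) := by rintro k rfl h; rfl
    exact hk _ (η i).2 _
  let φ : Fin (Module.finrank X.functionField L) → integralClosure Γ(X, U) L →ₐ[Γ(X, U)] Ω :=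
    fun i => { (α i).hom.comp e.symm.toRingHom with
      commutes' := fun a => by
        show (α i).hom (e.symm _) = αX.hom a
        rw [← hα i, ← he a, RingEquiv.symm_apply_apply]
        rfl }
  have hφ : Function.Injective φ := by
    intro i j h
    refine η.injective (Subtype.ext ?_)
    have h1 : α i = α j := CommRingCat.hom_ext (RingHom.ext fun b => by
      simpa [φ] using AlgHom.congr_fun h (e b))
    rw [cancel_mono] at h1
    haveI : Epi (isAffineOpen_top (Spec (CommRingCat.of Ω))).fromSpec := by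
      rw [IsAffineOpen.fromSpec_top]; infer_instance
    rw [← cancel_epi (isAffineOpen_top (Spec (CommRingCat.of Ω))).fromSpec,
      ← IsAffineOpen.SpecMap_appLE_fromSpec (η i).1 hV (isAffineOpen_top _) (hle i),
      ← IsAffineOpen.SpecMap_appLE_fromSpec (η j).1 hV (isAffineOpen_top _) (hle j), h1]
  obtain ⟨g₀, hg₀, H⟩ :=
    Groth.L20.NormalCard.exists_finite_etale_away Γ(X, U) X.functionField L φ hφ
  have hx1 : ξ (IsLocalRing.closedPoint Ω) ∈ X.basicOpen g₀ := by
    have hu : IsUnit (ξ.appLE U ⊤ (hpt U hx0) g₀) := by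
      have h1 : IsUnit (αX g₀) := isUnit_iff_ne_zero.mpr hg₀
      exact (isUnit_map_iff (Scheme.ΓSpecIso (CommRingCat.of Ω)).commRingCatIsoToRingEquiv _).mp h1
    have h2 := Scheme.basicOpen_appLE ξ ⊤ U (hpt U hx0) g₀
    rw [Scheme.basicOpen_of_isUnit _ hu, top_inf_eq] at h2
    have h3 : IsLocalRing.closedPoint Ω ∈ ξ ⁻¹ᵁ X.basicOpen g₀ := h2 ▸ trivial
    exact h3
  haveI : Nonempty (X.basicOpen g₀) := ⟨⟨_, hx1⟩⟩
  haveI := hU.isLocalization_basicOpen g₀
  letI aL' : Algebra Γ(X, X.basicOpen g₀) L :=
    ((algebraMap X.functionField L).comp (X.germToFunctionField (X.basicOpen g₀)).hom).toAlgebra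
  haveI : IsScalarTower Γ(X, U) Γ(X, X.basicOpen g₀) L :=
    IsScalarTower.of_algebraMap_eq fun a => congrArg (algebraMap X.functionField L)
      (ConcreteCategory.congr_hom (X.presheaf.germ_res (homOfLE (X.basicOpen_le g₀))
        (genericPoint X) (((genericPoint_spec X).mem_open_set_iff (X.basicOpen g₀).isOpen).mpr
          ⟨_, trivial, hx1⟩)) a).symm
  obtain ⟨h1, h2⟩ := H Γ(X, X.basicOpen g₀)
  obtain ⟨e', he', -⟩ := Groth.L18.NormField.exists_equiv (φ := algebraMap X.functionField L) hg
    (hU.basicOpen g₀)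
  have hc : (g.fromNormalization.app (X.basicOpen g₀)).hom =
      e'.symm.toRingHom.comp (algebraMap _ (integralClosure Γ(X, X.basicOpen g₀) L)) :=
    RingHom.ext fun a => by
      apply e'.injective
      rw [he', RingHom.comp_apply]
      exact (e'.apply_symm_apply _).symm
  refine ⟨X.basicOpen g₀, ?_, finite_etale_restrict _ (hU.basicOpen g₀) ?_ ?_⟩
  · rintro _ ⟨z, rfl⟩
    rw [show z = IsLocalRing.closedPoint Ω from Subsingleton.elim (α := PrimeSpectrum Ω) _ _]
    exact hx1
  · rw [hc]
    exact (RingHom.Finite.of_surjective _ e'.symm.surjective).comp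
      (RingHom.finite_algebraMap.mpr h1)
  · rw [hc]
    exact RingHom.Etale.stableUnderComposition _ _ (RingHom.etale_algebraMap.mpr h2)
      (RingHom.Etale.of_bijective e'.symm.bijective)


end Groth.Agent.S9488
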