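import Groth.Statements.S9490
import Groth.Agent.L27.Lefschetz.RegularPurity
import Groth.Agent.L06.AndreApps
import Groth.Agent.L06.GeomHom
import Groth.Agent.L06.NormalAscent
import Groth.Agent.S2038
import Groth.Agent.L13.FEtLeff.Extend

set_option autoImplicit false
universe u
open Pi1

namespace Groth.Agent.S9490

open AlgebraicGeometry CategoryTheory CategoryTheory.Limits in
example : True := trivial

attribute [local instance] HasDerivedCategory.standard

open AlgebraicGeometry CategoryTheory CategoryTheory.Limits IsLocalRing in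
theorem purity_at {A B : Type u} [CommRing A] [IsNoetherianRing A] [IsLocalRing A]
    [CommRing B] [IsNoetherianRing B] [IsLocalRing B] [Algebra A B] [IsLocalHom (algebraMap A B)]
    (hA : (2 : ℕ∞) ≤ LocCoh.depth A A) (hfs : CAlgX.IsAdicFormallySmooth A B (maximalIdeal B))
    (q : Ideal B) [q.IsPrime] (hq : q.comap (algebraMap A B) = maximalIdeal A)
    (hne : q ≠ (maximalIdeal A).map (algebraMap A B)) :
    (2 : ℕ∞) ≤ LocCoh.depth (Localization.AtPrime q) (Localization.AtPrime q) ∧
      FEt.PurityHolds (Localization.AtPrime q) := by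
  obtain ⟨hflat, hgeo⟩ := Groth.Agent.S2038.result.mpr hfs
  haveI := hflat
  haveI : IsRegularRing ((maximalIdeal A).Fiber B) := by
    haveI := hgeo (maximalIdeal A).ResidueField inferInstance
    exact IsRegularRing.of_ringEquiv (R := TensorProduct (maximalIdeal A).ResidueField (maximalIdeal A).ResidueField ((maximalIdeal A).Fiber B))
      (Algebra.TensorProduct.lid (maximalIdeal A).ResidueField _).toRingEquiv
  -- the generic point of the closed fibre
  let P0 : Ideal B := (maximalIdeal A).map (algebraMap A B)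
  have hP0 : P0.IsPrime := by
    obtain ⟨P, hP, -, hle, hmin⟩ := Groth.L27.RegularPurity.exists_generic (R := B) (maximalIdeal A) (maximalIdeal B)
      (Ideal.map_le_iff_le_comap.1 (IsLocalRing.map_maximalIdeal_le _))
    have : P = P0 := le_antisymm (fun r hr => by
      obtain ⟨s, hs, hsr⟩ := hmin r hr
      exact (Ideal.unit_mul_mem_iff_mem _ (IsLocalRing.notMem_maximalIdeal.1 hs)).1 hsr) hle
    exact this ▸ hP
  have hP0q : P0 ≤ q := Ideal.map_le_iff_le_comap.2 hq.ge
  -- depth
  haveI : IsLocalization (maximalIdeal A).primeCompl A :=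
    IsLocalization.self fun x hx => IsLocalRing.notMem_maximalIdeal.1 hx
  haveI : IsNoetherianRing (Localization.AtPrime (maximalIdeal A)) :=
    IsLocalization.isNoetherianRing (maximalIdeal A).primeCompl _ inferInstance
  have hA' : (2 : ℕ∞) ≤ LocCoh.depth (Localization.AtPrime (maximalIdeal A)) (Localization.AtPrime (maximalIdeal A)) := by
    rwa [← Groth.L06.FlatFibre.depth_eq_of_ringEquiv
      (IsLocalization.algEquiv (maximalIdeal A).primeCompl (Localization.AtPrime (maximalIdeal A)) A).toRingEquiv]
  have hdq := Groth.L27.SmoothPurity.two_le_depth_localization (maximalIdeal A) q hq.symm hA'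
  refine ⟨hdq, ?_⟩
  -- the completions
  let Ah := AdicCompletion (maximalIdeal A) A
  let Bh := AdicCompletion (maximalIdeal B) B
  haveI : IsNoetherianRing Ah := Groth.Agent.S0543.result A _
  haveI : IsNoetherianRing Bh := Groth.Agent.S0543.result B _
  have hmAB : (maximalIdeal A).map (algebraMap A B) ≤ maximalIdeal B := IsLocalRing.map_maximalIdeal_le _
  let ψ := Groth.L06.GRingTransport.mapCompletion (algebraMap A B) (maximalIdeal A) (maximalIdeal B) hmAB
  have hψ : ψ.comp (algebraMap A Ah) = (algebraMap B Bh).comp (algebraMap A B) :=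
    RingHom.ext fun a => Groth.L06.GRingTransport.mapCompletion_algebraMap _ _ _ hmAB a
  letI : Algebra Ah Bh := ψ.toAlgebra
  have hfs' := (Groth.Agent.S9317.result (maximalIdeal A) (maximalIdeal B) (IsNoetherian.noetherian _)
    (IsNoetherian.noetherian _) ⟨1, by rw [pow_one]; exact hmAB⟩ ψ hψ).mp hfs
  rw [← AdicCompletion.maximalIdeal_eq_map] at hfs'
  haveI : IsLocalHom (algebraMap Ah Bh) := ((IsLocalRing.local_hom_TFAE (algebraMap Ah Bh)).out 0 2 rfl rfl).mpr (by
    rw [AdicCompletion.maximalIdeal_eq_map, Ideal.map_map, show (algebraMap Ah Bh).comp (algebraMap A Ah) = _ from hψ,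
      ← Ideal.map_map]
    exact (Ideal.map_mono hmAB).trans (AdicCompletion.maximalIdeal_eq_map (R := B)).ge)
  have hreg : CAlg.IsRegularHom Ah Bh := Groth.L06.AndreRegular.isRegularHom_of_adicSmooth hfs'
  haveI := hreg.1
  haveI : Module.FaithfullyFlat B Bh := Groth.L06.NormalAscent.faithfullyFlat_cpl B
  haveI : Module.Flat A Ah := AdicCompletion.flat_of_isNoetherian _
  have hmAh : (maximalIdeal A).map (algebraMap A Ah) = maximalIdeal Ah := (AdicCompletion.maximalIdeal_eq_map (R := A)).symm
  haveI : IsLocalHom (algebraMap A Ah) := ((IsLocalRing.local_hom_TFAE (algebraMap A Ah)).out 2 0).1 hmAh.le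
  -- a minimal prime of the completion over `q`
  obtain ⟨⟨q₁, hq₁⟩, hq₁q⟩ := PrimeSpectrum.comap_surjective_of_faithfullyFlat (A := B) (B := Bh) ⟨q, inferInstance⟩
  have hq₁c : q₁.comap (algebraMap B Bh) = q := congrArg PrimeSpectrum.asIdeal hq₁q
  haveI := hq₁
  obtain ⟨q', hq', hq'le⟩ := Ideal.exists_minimalPrimes_le (Ideal.map_le_iff_le_comap.2 hq₁c.ge : q.map (algebraMap B Bh) ≤ q₁)
  haveI : q'.IsPrime := hq'.1.1
  have hq'c : q'.comap (algebraMap B Bh) = q :=
    le_antisymm ((Ideal.comap_mono hq'le).trans hq₁c.le) (Ideal.map_le_iff_le_comap.1 hq'.1.2)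
  let L := Localization.AtPrime q'
  haveI : IsNoetherianRing L := IsLocalization.isNoetherianRing q'.primeCompl L inferInstance
  -- `L` is regular over the completion of `A`
  haveI : IsScalarTower Ah Bh L := inferInstance
  haveI : Module.Flat Bh L := IsLocalization.flat L q'.primeCompl
  haveI : Module.Flat Ah L := Module.Flat.trans Ah Bh L
  have hregL : CAlg.IsRegularHom Ah L := Groth.L06.GeomHom.isRegularHom_of_geomHom
    (Groth.L06.GeomHom.comp Groth.L06.PropLoc.good_reg (Groth.L06.GeomHom.geomHom_reg_of_isRegularHom hreg)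
      (Groth.L06.GeomHom.geomHom_localization q'.primeCompl L))
  have hcomap : ∀ J : Ideal Bh, (J.comap (algebraMap Ah Bh)).comap (algebraMap A Ah) =
      (J.comap (algebraMap B Bh)).comap (algebraMap A B) := fun J => by
    rw [Ideal.comap_comap, Ideal.comap_comap, show (algebraMap Ah Bh).comp (algebraMap A Ah) = _ from hψ]
  have hqA : ∀ J : Ideal Bh, maximalIdeal A ≤ (J.comap (algebraMap B Bh)).comap (algebraMap A B) →
      maximalIdeal Ah ≤ J.comap (algebraMap Ah Bh) := fun J h => by
    rw [← hmAh, Ideal.map_le_iff_le_comap, hcomap]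
    exact h
  haveI : IsLocalHom (algebraMap Ah L) := by
    refine ((IsLocalRing.local_hom_TFAE (algebraMap Ah L)).out 4 0).1 ?_
    rw [IsScalarTower.algebraMap_eq Ah Bh L, ← Ideal.comap_comap,
      show (maximalIdeal L).comap (algebraMap Bh L) = q' from IsLocalization.AtPrime.comap_maximalIdeal L q']
    exact ((maximalIdeal.isMaximal Ah).eq_of_le (Ideal.comap_ne_top _ (inferInstance : q'.IsPrime).ne_top)
      (hqA q' (by rw [hq'c, hq]))).symm
  haveI := hP0
  haveI : q'.LiesOver q := ⟨hq'c.symm⟩
  obtain ⟨P₁, hP₁le, hP₁, hP₁o⟩ := Ideal.exists_ideal_le_liesOver_of_le (p := P0) (q := q) q' hP0q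
  haveI := hP₁
  have hd : Disjoint (q'.primeCompl : Set Bh) (P₁ : Set Bh) := Set.disjoint_left.2 fun z hz hz' => hz (hP₁le hz')
  have hP₁c : Ideal.comap (algebraMap Bh L) (P₁.map (algebraMap Bh L)) = P₁ :=
    IsLocalization.comap_map_of_isPrime_disjoint q'.primeCompl L hP₁ hd
  have hPL : ∃ P : Ideal L, P.IsPrime ∧ P < maximalIdeal L ∧ maximalIdeal Ah ≤ P.comap (algebraMap Ah L) := by
    haveI := IsLocalization.isPrime_of_isPrime_disjoint q'.primeCompl L P₁ hP₁ hd
    refine ⟨P₁.map (algebraMap Bh L), inferInstance,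
      lt_of_le_of_ne (IsLocalRing.le_maximalIdeal (Ideal.IsPrime.ne_top inferInstance)) fun h => hne ?_, ?_⟩
    · rw [← hq'c]
      show _ = P0
      rw [hP₁o.over]
      show _ = P₁.comap (algebraMap B Bh)
      rw [← hP₁c, h]
      exact congrArg _ (IsLocalization.AtPrime.comap_maximalIdeal L q').symm
    · rw [IsScalarTower.algebraMap_eq Ah Bh L, ← Ideal.comap_comap, hP₁c]
      refine hqA P₁ ?_
      rw [show P₁.comap (algebraMap B Bh) = P0 from hP₁o.over.symm]
      exact Ideal.map_le_iff_le_comap.1 le_rfl
  have hpur : FEt.PurityHolds L :=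
    Groth.L27.RegularPurity.purityHolds_of_regular (Groth.L27.PurityRetract.two_le_depth_of_flat hA) hregL hPL
  -- descend to `B_q`
  letI : Algebra (Localization.AtPrime q) L := (Localization.localRingHom q q' (algebraMap B Bh) hq'c.symm).toAlgebra
  haveI : IsLocalHom (algebraMap (Localization.AtPrime q) L) := Localization.isLocalHom_localRingHom _ _ _ hq'c.symm
  haveI : Module.Flat (Localization.AtPrime q) L :=
    RingHom.flat_algebraMap_iff.1 (RingHom.Flat.localRingHom (RingHom.flat_algebraMap_iff.2 inferInstance) q' q hq'c.symm)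
  haveI : IsNoetherianRing (Localization.AtPrime q) := IsLocalization.isNoetherianRing q.primeCompl _ inferInstance
  refine Groth.L27.SmoothPurity.purityHolds_of_flat hdq (fun x hx => ?_) hpur
  let J : Ideal Bh := x.asIdeal.comap (algebraMap Bh L)
  haveI : J.IsPrime := Ideal.comap_isPrime _ _
  have hJle : J ≤ q' := (Ideal.comap_mono (IsLocalRing.le_maximalIdeal x.2.ne_top)).trans
    (IsLocalization.AtPrime.comap_maximalIdeal L q').le
  have hJq : q.map (algebraMap B Bh) ≤ J := by
    refine Ideal.map_le_iff_le_comap.2 fun b hb => ?_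
    show algebraMap Bh L (algebraMap B Bh b) ∈ x.asIdeal
    have h1 : x.asIdeal.comap (algebraMap (Localization.AtPrime q) L) = maximalIdeal (Localization.AtPrime q) :=
      congrArg PrimeSpectrum.asIdeal hx
    have h2 : algebraMap B (Localization.AtPrime q) b ∈ x.asIdeal.comap (algebraMap (Localization.AtPrime q) L) := by
      rw [h1]
      exact (IsLocalization.AtPrime.to_map_mem_maximal_iff _ q b).2 hb
    rw [← Localization.localRingHom_to_map q q' (algebraMap B Bh) hq'c.symm b]
    exact h2
  have hJ : J = q' := le_antisymm hJle (hq'.2 ⟨inferInstance, hJq⟩ hJle)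
  refine PrimeSpectrum.ext ?_
  show x.asIdeal = maximalIdeal L
  rw [← IsLocalization.map_comap q'.primeCompl L x.asIdeal]
  show J.map (algebraMap Bh L) = _
  rw [hJ]
  exact Localization.AtPrime.map_eq_maximalIdeal

open AlgebraicGeometry CategoryTheory CategoryTheory.Limits IsLocalRing in
theorem purity_stalk {A B : Type u} [CommRing A] [IsNoetherianRing A] [IsLocalRing A]
    [CommRing B] [IsNoetherianRing B] [IsLocalRing B] [Algebra A B] [IsLocalHom (algebraMap A B)]
    (hA : (2 : ℕ∞) ≤ LocCoh.depth A A) (hfs : CAlgX.IsAdicFormallySmooth A B (maximalIdeal B))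
    (x : Spec (CommRingCat.of B)) (p : PrimeSpectrum B) (hp : p = x)
    (hq : p.asIdeal.comap (algebraMap A B) = maximalIdeal A)
    (hne : p.asIdeal ≠ (maximalIdeal A).map (algebraMap A B)) :
    (2 : ℕ∞) ≤ LocCoh.depth ((Spec (CommRingCat.of B)).presheaf.stalk x) ((Spec (CommRingCat.of B)).presheaf.stalk x) ∧
      FEt.PurityHolds ((Spec (CommRingCat.of B)).presheaf.stalk x) := by
  subst hp
  letI : Algebra B ((Spec (CommRingCat.of B)).presheaf.stalk p) := StructureSheaf.stalkAlgebra B p
  haveI : IsLocalization.AtPrime ((Spec (CommRingCat.of B)).presheaf.stalk p) p.asIdeal :=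
    StructureSheaf.IsLocalization.to_stalk B p
  haveI : IsNoetherianRing (Localization.AtPrime p.asIdeal) := IsLocalization.isNoetherianRing p.asIdeal.primeCompl _ inferInstance
  let e := (IsLocalization.algEquiv p.asIdeal.primeCompl (Localization.AtPrime p.asIdeal)
    ((Spec (CommRingCat.of B)).presheaf.stalk p)).toRingEquiv
  obtain ⟨h1, h2⟩ := purity_at hA hfs p.asIdeal hq hne
  refine ⟨?_, Groth.L13.FEtLeff.purityHolds_of_ringEquiv e h2⟩
  rw [Groth.L06.FlatFibre.depth_eq_of_ringEquiv e]
  exact h1

open AlgebraicGeometry CategoryTheory CategoryTheory.Limits in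

/-- Let A → B be a local homomorphism of Noetherian local rings. Assume depth A ≥ 2, that the map is
formally smooth when B carries its m_B-adic topology, and that the Krull dimension of A is strictly
below that of B. Let V ⊆ Spec B be an open subset containing every prime q of B whose contraction to
A is not the maximal ideal m_A, and containing the prime m_A B. Then restriction of finite etale
covers from Spec B to V is an equivalence of categories. (Taking V to be the punctured spectrum
shows that purity holds for B.) -/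
theorem result (A B : Type u) [CommRing A] [IsNoetherianRing A] [IsLocalRing A]
    [CommRing B] [IsNoetherianRing B] [IsLocalRing B] [Algebra A B] [IsLocalHom (algebraMap A B)]
    (hdepth : (2 : ℕ∞) ≤ LocCoh.depth A A)
    (hfs : CAlgX.IsAdicFormallySmooth A B (IsLocalRing.maximalIdeal B))
    (hdim : ringKrullDim A < ringKrullDim B)
    (V : (Spec (CommRingCat.of B)).Opens)
    (hV1 : ∀ q : PrimeSpectrum B, q.asIdeal.comap (algebraMap A B) ≠ IsLocalRing.maximalIdeal A → q ∈ V)
    (hV2 : ∀ q : PrimeSpectrum B, q.asIdeal = (IsLocalRing.maximalIdeal A).map (algebraMap A B) → q ∈ V) :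
    (FEt.restrict V.ι).IsEquivalence := by
  have h : ∀ x : Spec (CommRingCat.of B), x ∉ V → _ := fun x hx => purity_stalk hdepth hfs x x rfl
    (by_contra fun h => hx (hV1 x h)) (fun h => hx (hV2 x h))
  exact Groth.L13.FEtLeff.isEquivalence_restrict_of_depth_purity V (fun x hx => (h x hx).1) (fun x hx => (h x hx).2)

end Groth.Agent.S9490
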