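import Groth.Statements.S9491
import Groth.Agent.L16.BirationalNormal
import Groth.Agent.L18.NormalizationGeneric
import Groth.Agent.L27.NormalSepClosed.FEt
import Groth.Agent.S7180

set_option autoImplicit false
set_option linter.style.haveILetI false
set_option backward.isDefEq.respectTransparency.types false
universe u
open Pi1

namespace Groth.Agent.S9491

open AlgebraicGeometry CategoryTheory CategoryTheory.Limits

theorem surjective_stalkSpecializes_of_eq {Y : Scheme.{u}} {p q : Y} (e : p = q) (h : p ⤳ q) :
    Function.Surjective (Y.presheaf.stalkSpecializes h).hom := by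
  subst e
  intro a
  exact ⟨a, by rw [TopCat.Presheaf.stalkSpecializes_refl]; rfl⟩

theorem bijective_ffMap {A B : Scheme.{u}} [IsIntegral A] [IsIntegral B] (t : A ⟶ B) [IsPreimmersion t]
    (e : t (genericPoint A) = genericPoint B) : Function.Bijective (Groth.L21.Curve.ffMap t e) := by
  refine ⟨RingHom.injective _, ?_⟩
  have h1 := surjective_stalkSpecializes_of_eq e (specializes_of_eq e)
  intro a
  obtain ⟨b, hb⟩ := t.stalkMap_surjective (genericPoint A) a
  obtain ⟨c, hc⟩ := h1 b
  exact ⟨c, (congrArg (t.stalkMap (genericPoint A)).hom hc).trans hb⟩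

open AlgebraicGeometry CategoryTheory CategoryTheory.Limits in
/-- The essential image of restriction of finite etale covers from a normal integral scheme X to its
generic point Spec K consists of the finite etale K-schemes whose points are spectra of finite
extensions L of K in which X is unramified. Precisely: let L be a finite field extension of K and Y₀
the object Spec L → Spec K of the category of finite etale covers of Spec K; then Y₀ is isomorphic
to the restriction of a finite etale cover of X if and only if the normalization of X in Spec L is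
finite etale over X. (With full faithfulness of this restriction functor for normal X, this says
that the fundamental group of X is the Galois group of the union M of all finite subextensions of a
separable closure in which X is unramified.) -/
theorem result {X : Scheme.{u}} [IsIntegral X] (hX : Pi1.IsNormalScheme X)
    (L : Type u) [Field L] [Algebra X.functionField L] [FiniteDimensional X.functionField L]
    [QuasiCompact (Spec.map (CommRingCat.ofHom (algebraMap X.functionField L)) ≫ X.fromSpecStalk (genericPoint X))] [QuasiSeparated (Spec.map (CommRingCat.ofHom (algebraMap X.functionField L)) ≫ X.fromSpecStalk (genericPoint X))]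
    (Y₀ : FEt.Cat (Spec X.functionField)) (e : Y₀.left ≅ Spec (CommRingCat.of L))
    (he : e.hom ≫ Spec.map (CommRingCat.ofHom (algebraMap X.functionField L)) = Y₀.hom) :
    (FEt.restrict (X.fromSpecStalk (genericPoint X))).essImage Y₀ ↔
      (Etale (Spec.map (CommRingCat.ofHom (algebraMap X.functionField L)) ≫ X.fromSpecStalk (genericPoint X)).fromNormalization ∧ IsFinite (Spec.map (CommRingCat.ofHom (algebraMap X.functionField L)) ≫ X.fromSpecStalk (genericPoint X)).fromNormalization) := by
  let ι : Spec X.functionField ⟶ X := X.fromSpecStalk (genericPoint X)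
  let φ : X.functionField →+* L := algebraMap X.functionField L
  let g : Spec (CommRingCat.of L) ⟶ X := Spec.map (CommRingCat.ofHom φ) ≫ ι
  haveI : IsIntegral g.normalization := inferInstance
  let ν := g.fromNormalization
  have hι : ∀ z, ι z = genericPoint X := fun z => by
    have h : ι z ∈ Set.range ι := ⟨z, rfl⟩
    rw [Scheme.range_fromSpecStalk] at h
    exact (h.antisymm ((genericPoint_spec X).specializes (Set.mem_univ _))).eq
  have hbase : ∀ z, g z = genericPoint X := fun z => by
    rw [Scheme.Hom.comp_apply]; exact hι _
  constructor
  · rintro ⟨Y, ⟨i⟩⟩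
    let h : Y.left ⟶ X := Y.hom
    have hh : IsFinite h ∧ Etale h := Y.prop
    haveI := hh.1; haveI := hh.2
    let ψ : pullback h ι ≅ Spec (CommRingCat.of L) :=
      ((MorphismProperty.Over.forget _ _ _ ⋙ CategoryTheory.Over.forget _).mapIso i) ≪≫ e
    have hψ : ψ.inv ≫ pullback.snd h ι = Spec.map (CommRingCat.ofHom φ) := by
      rw [Iso.inv_comp_eq]
      show _ = (i.hom.left ≫ e.hom) ≫ _
      rw [Category.assoc, he]
      exact (CategoryTheory.Over.w i.hom.hom).symm
    let t : Spec (CommRingCat.of L) ⟶ Y.left := ψ.inv ≫ pullback.fst h ι
    have ht : t ≫ h = g := by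
      show (ψ.inv ≫ pullback.fst h ι) ≫ h = _
      rw [Category.assoc, pullback.condition, ← Category.assoc, hψ]
    haveI : Subsingleton ↥(Spec (CommRingCat.of L)) := inferInstanceAs (Subsingleton (PrimeSpectrum L))
    let p : ↥(Spec (CommRingCat.of L)) := IsLocalRing.closedPoint L
    -- the fibre over the generic point is one point
    have hfib : ∀ y : Y.left, h y = genericPoint X → y = t p := by
      intro y hy
      obtain ⟨z, hz, -⟩ := Scheme.Pullback.exists_preimage_pullback (f := h) (g := ι) y
        (IsLocalRing.closedPoint X.functionField) (hy.trans (hι _).symm)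
      have h2 : ψ.inv (ψ.hom z) = z := by rw [← Scheme.Hom.comp_apply, ψ.hom_inv_id]; rfl
      rw [← hz, Subsingleton.elim p (ψ.hom z)]
      show _ = (ψ.inv ≫ pullback.fst h ι) (ψ.hom z)
      rw [Scheme.Hom.comp_apply, h2]
    haveI : ConnectedSpace Y.left := by
      haveI : Nonempty Y.left := ⟨t p⟩
      haveI : PreirreducibleSpace Y.left := ⟨fun U V hU hV ⟨u, _, hu⟩ ⟨v, _, hv⟩ => by
        have key : ∀ (W : Set Y.left), IsOpen W → ∀ w ∈ W, t p ∈ W := by
          intro W hW w hw
          obtain ⟨ξ, hξ, hsp⟩ := Groth.L27.NormalSepClosed.exists_generic h w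
          rw [← hfib ξ hξ]
          exact hsp.mem_open hW hw
        exact ⟨t p, trivial, key U hU u hu, key V hV v hv⟩⟩
      haveI : IrreducibleSpace Y.left := { toNonempty := inferInstance }
      infer_instance
    haveI : IsIntegral Y.left := Groth.L27.NormalSepClosed.isIntegral_of_connected h fun x => (hX x).2
    have hYN : Pi1.IsNormalScheme Y.left := Groth.Agent.S7180.result h hX
    have htη : t (genericPoint (Spec (CommRingCat.of L))) = genericPoint Y.left := by
      obtain ⟨ξ, hξ, hsp⟩ := Groth.L27.NormalSepClosed.exists_generic h (genericPoint Y.left)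
      rw [Subsingleton.elim (genericPoint (Spec (CommRingCat.of L))) p, ← hfib ξ hξ]
      exact (hsp.antisymm ((genericPoint_spec Y.left).specializes (Set.mem_univ _))).eq
    haveI : IsPreimmersion t := by
      show IsPreimmersion (ψ.inv ≫ pullback.fst h ι)
      haveI : IsPreimmersion (pullback.fst h ι) := inferInstance
      infer_instance
    have hbij : Function.Bijective (Groth.L21.Curve.ffMap t htη) := bijective_ffMap t htη
    haveI : QuasiCompact t := by
      haveI : CompactSpace ↥(Spec (CommRingCat.of L)) := inferInstance
      haveI : QuasiCompact (t ≫ h) := ht.symm ▸ inferInstance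
      exact QuasiCompact.of_comp t h
    haveI : QuasiSeparated t := inferInstance
    haveI hiso : IsIso t.fromNormalization :=
      Groth.L16.BirNormal.isIso_fromNormalization t htη (fun y => (hYN y).2) hbij
    let b : g.normalization ⟶ Y.left := g.normalizationDesc t h ht.symm
    have hb : b ≫ h = ν := g.normalizationDesc_comp ..
    have hb' : g.toNormalization ≫ b = t := g.toNormalization_normalizationDesc ..
    haveI : IsIntegralHom b := by
      haveI : IsIntegralHom (b ≫ h) := hb.symm ▸ inferInstance
      exact IsIntegralHom.of_comp b h
    let c : t.normalization ⟶ g.normalization := t.normalizationDesc g.toNormalization b hb'.symm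
    have hc : c ≫ b = t.fromNormalization := t.normalizationDesc_comp ..
    have hc' : t.toNormalization ≫ c = g.toNormalization := t.toNormalization_normalizationDesc ..
    have hti : t ≫ inv t.fromNormalization = t.toNormalization := by
      rw [IsIso.comp_inv_eq, t.toNormalization_fromNormalization]
    have h1 : b ≫ inv t.fromNormalization ≫ c = 𝟙 _ := by
      refine Scheme.Hom.normalization.hom_ext g _ _ ν ?_ ?_ (Category.id_comp _)
      · rw [← Category.assoc, hb', ← Category.assoc, hti, hc', Category.comp_id]
      · rw [← hb]
        simp only [Category.assoc]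
        rw [← Category.assoc c, hc, IsIso.inv_hom_id_assoc]
        exact hb
    have h2 : (inv t.fromNormalization ≫ c) ≫ b = 𝟙 _ := by
      rw [Category.assoc, hc, IsIso.inv_hom_id]
    haveI : IsIso b := ⟨inv t.fromNormalization ≫ c, h1, h2⟩
    show Etale ν ∧ IsFinite ν
    rw [← hb]
    exact ⟨inferInstance, inferInstance⟩
  · rintro ⟨hν1, hν2⟩
    haveI : Etale ν := hν1
    haveI : IsFinite ν := hν2
    refine ⟨MorphismProperty.Over.mk ⊤ ν ⟨hν2, hν1⟩, ⟨?_⟩⟩
    let w : Spec (CommRingCat.of L) ⟶ pullback ν ι :=
      pullback.lift g.toNormalization (Spec.map (CommRingCat.ofHom φ)) (g.toNormalization_fromNormalization)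
    let v : Y₀.left ⟶ pullback ν ι := e.hom ≫ w
    have hv : v ≫ pullback.snd ν ι = Y₀.hom := by
      show (e.hom ≫ w) ≫ _ = _
      rw [Category.assoc, pullback.lift_snd]; exact he
    haveI : Mono g.toNormalization := by
      rw [← Scheme.Spec_stalkClosedPointTo_fromSpecStalk g.toNormalization]
      haveI : IsIso (Scheme.stalkClosedPointTo g.toNormalization) :=
        (ConcreteCategory.isIso_iff_bijective _).mpr ⟨Groth.L18.NormField.stalkTo_injective, fun y => by
          have hy : y ∈ Set.range (Scheme.stalkClosedPointTo g.toNormalization).hom := by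
            rw [Groth.L18.NormField.range_stalkTo (φ := φ) rfl]
            exact ⟨minpoly X.functionField y, minpoly.monic (IsIntegral.of_finite _ y), minpoly.aeval _ y⟩
          exact hy⟩
      infer_instance
    haveI : Mono w := by
      haveI : Mono (w ≫ pullback.fst ν ι) := by rw [pullback.lift_fst]; infer_instance
      exact mono_of_mono w (pullback.fst ν ι)
    haveI : Etale Y₀.hom := Y₀.prop.2
    haveI : Etale (w ≫ pullback.snd ν ι) := by
      rw [pullback.lift_snd]
      have h' : Spec.map (CommRingCat.ofHom φ) = e.inv ≫ Y₀.hom := by rw [← he, e.inv_hom_id_assoc]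
      have hE : Etale (e.inv ≫ Y₀.hom) := inferInstance
      rw [← h'] at hE
      exact hE
    haveI : Etale w := Etale.of_comp w (pullback.snd ν ι)
    haveI : IsOpenImmersion w := IsOpenImmersion.of_flat_of_mono w
    haveI : Surjective w := by
      refine ⟨fun z => ⟨IsLocalRing.closedPoint L, ?_⟩⟩
      apply (pullback.fst ν ι).isEmbedding.injective
      have hgen : ∀ y, ν y = genericPoint X → y = genericPoint g.normalization := fun y hy => by
        have h0 : y ∈ ν.base ⁻¹' {genericPoint X} := hy
        rw [Groth.L18.NormField.preimage_genericPoint (φ := φ) rfl] at h0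
        exact h0
      refine (hgen _ ?_).trans (hgen _ ?_).symm <;>
      · rw [← Scheme.Hom.comp_apply (pullback.fst ν ι) ν, pullback.condition, Scheme.Hom.comp_apply]
        exact hι _
    haveI : IsIso w := (isIso_iff_isOpenImmersion_and_surjective w).mpr ⟨inferInstance, inferInstance⟩
    have hiso : IsIso v := IsIso.comp_isIso
    exact (MorphismProperty.Over.isoMk (@asIso _ _ _ _ v hiso) hv).symm

end Groth.Agent.S9491
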