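import Groth.Statements.S9503
import Groth.Agent.L17.SheafHomCoh
import Groth.Agent.L07.PrinParts.HomFP
import Groth.Agent.L18.LocFreeTilde
import Groth.Agent.L22.ExtSh.SpecExt

set_option autoImplicit false
universe u
open AffSch

set_option backward.isDefEq.respectTransparency.types false
namespace Groth.Agent.S9503

open AlgebraicGeometry in
open CategoryTheory in
/-- Let A be a commutative ring, M a finitely presented A-module and N an A-module, with associated
O_X-modules M~ and N~ on X = Spec A, and let Hom_{O_X}(M~, -) denote the sheaf-Hom functor (the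
right adjoint of M~ ⊗ -, assumed to exist). Then Hom_{O_X}(M~, N~) is isomorphic to the O_X-module
associated to the A-module Hom_A(M, N) (existence of an isomorphism only; the prelude's sheaf Hom is
a chosen right adjoint, so no particular map is singled out). -/
theorem result
    (A : Type u) [CommRing A] (M N : Type u) [AddCommGroup M] [Module A M]
    [Module.FinitePresentation A M] [AddCommGroup N] [Module A N]
    [DCoh.HasSheafHom (tilde (R := CommRingCat.of A) (ModuleCat.of A M))] :
    Nonempty ((DCoh.sheafHom (tilde (R := CommRingCat.of A) (ModuleCat.of A M))).obj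
        (tilde (R := CommRingCat.of A) (ModuleCat.of A N)) ≅
      tilde (R := CommRingCat.of A) (ModuleCat.of A (M →ₗ[A] N))) := by
  let M' : ModuleCat.{u} (CommRingCat.of A) := ModuleCat.of A M
  let N' : ModuleCat.{u} (CommRingCat.of A) := ModuleCat.of A N
  haveI : Module.FinitePresentation (CommRingCat.of A : CommRingCat.{u}) M' := inferInstanceAs (Module.FinitePresentation A M)
  let H := Groth.L16.HomSh.homMod (tilde M') (tilde N')
  haveI : Coh.IsQCoh (tilde N') := (inferInstance : (tilde N').IsQuasicoherent)
  haveI hH : Coh.IsQCoh H := Groth.L07.PrinParts.HomFP.isQCoh_homMod (Groth.L18.LFP.isFP_tilde M') (tilde N')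
  haveI : H.IsQuasicoherent := hH
  haveI : IsIso (Scheme.Modules.fromTildeΓ (R := CommRingCat.of A) H) := (isQuasicoherent_iff_isIso_fromTildeΓ (R := CommRingCat.of A) H).1 hH
  let e1 := (LinearEquiv.ofBijective (Groth.L22.ExtSh.evTopLin M' N') (Groth.L22.ExtSh.bijective_evTopLin M' N')).trans
    ModuleCat.homLinearEquiv
  let e2 : (moduleSpecΓFunctor (R := CommRingCat.of A)).obj H ≅ ModuleCat.of A (M →ₗ[A] N) := e1.toModuleIso
  exact ⟨(Groth.L16.HomSh.sheafHomIso (tilde M')).app (tilde N') ≪≫ (asIso (Scheme.Modules.fromTildeΓ (R := CommRingCat.of A) H)).symm ≪≫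
    (tilde.functor _).mapIso e2⟩

end Groth.Agent.S9503
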