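import Groth.Statements.S9508
-- import your own Groth.Agent.* helpers here

set_option autoImplicit false
universe u
open SchMor

namespace Groth.Agent.S9508

open AlgebraicGeometry in
open CategoryTheory in
/-- (1) ⇔ (2): A morphism of schemes f : X → S is quasi-separated if and only if, whenever two affine
opens U and V of X both lie in the preimage f⁻¹(W) of one affine open W of S, their intersection U ∩
V is quasi-compact (equivalently, is covered by finitely many affine opens). -/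
theorem result
    {X S : Scheme.{u}} (f : X ⟶ S) :
    QuasiSeparated f ↔
      ∀ (U V : X.affineOpens) (W : S.affineOpens),
        (U : X.Opens) ≤ f ⁻¹ᵁ (W : S.Opens) → (V : X.Opens) ≤ f ⁻¹ᵁ (W : S.Opens) →
          IsCompact ((U : Set X) ∩ (V : Set X)) := by
  rw [HasAffineProperty.iff_of_iSup_eq_top (P := @QuasiSeparated) _ (iSup_affineOpens_eq_top S)]
  simp only [quasiSeparatedSpace_iff_forall_affineOpens]
  constructor
  · intro H U V W hU hV
    have hU' : IsAffineOpen ((f ⁻¹ᵁ (W : S.Opens)).ι ⁻¹ᵁ (U : X.Opens)) :=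
      U.2.preimage_of_isOpenImmersion _ (by rwa [Scheme.Opens.opensRange_ι])
    have hV' : IsAffineOpen ((f ⁻¹ᵁ (W : S.Opens)).ι ⁻¹ᵁ (V : X.Opens)) :=
      V.2.preimage_of_isOpenImmersion _ (by rwa [Scheme.Opens.opensRange_ι])
    have := (H W ⟨_, hU'⟩ ⟨_, hV'⟩).image (f ⁻¹ᵁ (W : S.Opens)).ι.continuous
    convert this using 1
    ext z
    constructor
    · rintro ⟨hzU, hzV⟩
      exact ⟨⟨z, hU hzU⟩, ⟨hzU, hzV⟩, rfl⟩
    · rintro ⟨w, ⟨hw1, hw2⟩, rfl⟩
      exact ⟨hw1, hw2⟩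
  · intro H W A B
    refine ((f ⁻¹ᵁ (W : S.Opens)).ι.isOpenEmbedding.isEmbedding.isCompact_iff).mpr ?_
    rw [Set.image_inter (f ⁻¹ᵁ (W : S.Opens)).ι.isOpenEmbedding.injective]
    exact H ⟨_, A.2.image_of_isOpenImmersion _⟩ ⟨_, B.2.image_of_isOpenImmersion _⟩ W
      (Scheme.Opens.ι_image_le (U := f ⁻¹ᵁ (W : S.Opens)) A.1) (Scheme.Opens.ι_image_le (U := f ⁻¹ᵁ (W : S.Opens)) B.1)

end Groth.Agent.S9508
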