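import Groth.Statements.S9509
-- import your own Groth.Agent.* helpers here

set_option autoImplicit false
universe u
open SchMor

namespace Groth.Agent.S9509

open AlgebraicGeometry in
open CategoryTheory in
/-- (3) ⇒ (1): Let f : X → S be a morphism of schemes. Suppose S is covered by affine opens W_i, each
preimage f⁻¹(W_i) is covered by affine opens V_{i,j}, and any two V_{i,j}, V_{i,j'} with the same
index i meet in a quasi-compact open (one covered by finitely many affine opens). Then f is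
quasi-separated. -/
theorem result
    {X S : Scheme.{u}} (f : X ⟶ S) {ι : Type u} (W : ι → S.affineOpens)
    (hW : ⨆ i, (W i : S.Opens) = ⊤) {κ : ι → Type u} (V : ∀ i, κ i → X.affineOpens)
    (hV : ∀ i, ⨆ j, (V i j : X.Opens) = f ⁻¹ᵁ (W i : S.Opens))
    (hVV : ∀ i (j j' : κ i), IsCompact ((V i j : Set X) ∩ (V i j' : Set X))) :
    QuasiSeparated f := by
  rw [HasAffineProperty.iff_of_iSup_eq_top (P := @QuasiSeparated) W hW]
  intro i
  refine Scheme.quasiSeparatedSpace_of_isOpenCover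
    (fun j => (f ⁻¹ᵁ (W i : S.Opens)).ι ⁻¹ᵁ (V i j : X.Opens)) ?_ (fun j => ?_) (fun j j' => ?_)
  · refine eq_top_iff.mpr fun z _ => ?_
    obtain ⟨j, hj⟩ := TopologicalSpace.Opens.mem_iSup.mp
      (show z.1 ∈ ⨆ j, (V i j : X.Opens) by rw [hV]; exact z.2)
    exact TopologicalSpace.Opens.mem_iSup.mpr ⟨j, hj⟩
  · refine (V i j).2.preimage_of_isOpenImmersion _ ?_
    rw [Scheme.Opens.opensRange_ι, ← hV i]
    exact le_iSup (fun j => (V i j : X.Opens)) j
  · refine ((f ⁻¹ᵁ (W i : S.Opens)).ι.isOpenEmbedding.isEmbedding.isCompact_iff).mpr ?_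
    convert hVV i j j' using 1
    ext z
    constructor
    · rintro ⟨w, ⟨h1, h2⟩, rfl⟩; exact ⟨h1, h2⟩
    · rintro ⟨h1, h2⟩
      refine ⟨⟨z, ?_⟩, ⟨h1, h2⟩, rfl⟩
      rw [← hV i]
      exact TopologicalSpace.Opens.mem_iSup.mpr ⟨j, h1⟩

end Groth.Agent.S9509
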