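import Groth.Statements.S9511
import Mathlib.AlgebraicGeometry.Limits
-- import your own Groth.Agent.* helpers here

set_option autoImplicit false
universe u
open LRSImm

namespace Groth.Agent.S9511

open AlgebraicGeometry in
open CategoryTheory TopologicalSpace in
/-- Let X be a locally ringed space and U, V ⊆ X open with X = U ⊔ V (they cover X and are disjoint),
such that the open subspaces X|_U and X|_V are affine schemes. Then X is an affine scheme: the
canonical morphism X → Spec Γ(X, O_X) is an isomorphism of locally ringed spaces. -/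
theorem result
    (X : LocallyRingedSpace.{u}) (U V : Opens X.toTopCat) (hUV : IsCompl U V)
    (A B : CommRingCat.{u})
    (eU : X.restrict U.isOpenEmbedding ≅ (Spec A).toLocallyRingedSpace)
    (eV : X.restrict V.isOpenEmbedding ≅ (Spec B).toLocallyRingedSpace) :
    IsIso X.toΓSpec := by
  let S : Scheme.{u} :=
    { toLocallyRingedSpace := X
      local_affine := fun x => by
        have hx : x ∈ U ⊔ V := by rw [hUV.sup_eq_top]; trivial
        rcases hx with hx | hx
        · exact ⟨⟨U, hx⟩, A, ⟨eU⟩⟩
        · exact ⟨⟨V, hx⟩, B, ⟨eV⟩⟩ }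
  let US : S.Opens := U
  let VS : S.Opens := V
  haveI : IsAffine US.toScheme :=
    IsAffine.of_isIso (Scheme.fullyFaithfulForgetToLocallyRingedSpace.preimageIso eU : US.toScheme ≅ Spec A).hom
  haveI : IsAffine VS.toScheme :=
    IsAffine.of_isIso (Scheme.fullyFaithfulForgetToLocallyRingedSpace.preimageIso eV : VS.toScheme ≅ Spec B).hom
  obtain ⟨hc⟩ := nonempty_isColimit_binaryCofanMk_of_isCompl US.ι VS.ι
    (by rw [Scheme.Opens.opensRange_ι, Scheme.Opens.opensRange_ι]; exact hUV)
  haveI : IsAffine S :=
    IsAffine.of_isIso (Y := CategoryTheory.Limits.coprod US.toScheme VS.toScheme)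
      (CategoryTheory.Limits.IsColimit.coconePointUniqueUpToIso hc
        (CategoryTheory.Limits.coprodIsCoprod US.toScheme VS.toScheme)).hom
  exact inferInstanceAs (IsIso (Scheme.forgetToLocallyRingedSpace.map S.toSpecΓ))

end Groth.Agent.S9511
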