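import Groth.Statements.S9541
import Groth.Agent.L29.Formal.DepthExtend
import Mathlib.RingTheory.Filtration

set_option autoImplicit false
set_option backward.isDefEq.respectTransparency.types false
set_option backward.isDefEq.respectTransparency false
universe u
open CategoryTheory
open Formal2

namespace Groth.Agent.S9541

open AlgebraicGeometry CategoryTheory Opposite Groth.L29.Formal Groth.L29.CechSect Groth.L29.ColimZero

theorem secMap_comp {A : Type u} [CommRing A] {V : (Spec (CommRingCat.of A)).Opens} {M N P : Type u}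
    [AddCommGroup M] [Module A M] [AddCommGroup N] [Module A N] [AddCommGroup P] [Module A P]
    (f : M →ₗ[A] N) (g : N →ₗ[A] P) (s : sec V (ModuleCat.of A M)) :
    (secMap V (ModuleCat.ofHom g)).hom ((secMap V (ModuleCat.ofHom f)).hom s) =
      (secMap V (ModuleCat.ofHom (g.comp f))).hom s := by
  obtain ⟨x, rfl⟩ := (h0 V (ModuleCat.of A M)).surjective s
  rw [← h0_hm, ← h0_hm, ← h0_hm, ← hm_comp]
  rfl

theorem secMap_zero {A : Type u} [CommRing A] {V : (Spec (CommRingCat.of A)).Opens} {M N : Type u}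
    [AddCommGroup M] [Module A M] [AddCommGroup N] [Module A N] (s : sec V (ModuleCat.of A M)) :
    (secMap V (ModuleCat.ofHom (0 : M →ₗ[A] N))).hom s = 0 := by
  obtain ⟨x, rfl⟩ := (h0 V (ModuleCat.of A M)).surjective s
  rw [← h0_hm, show ModuleCat.ofHom (0 : M →ₗ[A] N) = 0 from rfl, hm_zero, map_zero]

theorem secMap_id {A : Type u} [CommRing A] (V : (Spec (CommRingCat.of A)).Opens) (M : Type u)
    [AddCommGroup M] [Module A M] (s : sec V (ModuleCat.of A M)) :
    (secMap V (ModuleCat.ofHom (LinearMap.id : M →ₗ[A] M))).hom s = s := by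
  have h := secMap_sc V 1 (ModuleCat.of A M) s
  rwa [one_smul, show sc (1 : A) (ModuleCat.of A M) = ModuleCat.ofHom LinearMap.id from
    ModuleCat.hom_ext (one_smul A _)] at h

theorem sec_exact {A : Type u} [CommRing A] (V : (Spec (CommRingCat.of A)).Opens) {M N P : Type u}
    [AddCommGroup M] [Module A M] [AddCommGroup N] [Module A N] [AddCommGroup P] [Module A P]
    (f : M →ₗ[A] N) (g : N →ₗ[A] P) (hf : Function.Injective f) (hg : Function.Surjective g)
    (hfg : LinearMap.range f = LinearMap.ker g) (s : sec V (ModuleCat.of A N))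
    (hs : (secMap V (ModuleCat.ofHom g)).hom s = 0) :
    ∃ t, (secMap V (ModuleCat.ofHom f)).hom t = s := by
  obtain ⟨x, rfl⟩ := (h0 V (ModuleCat.of A N)).surjective s
  have hS := Groth.L04.LC.ses_shortExact f g hf hg (LinearMap.exact_iff.2 hfg.symm)
  obtain ⟨y, hy⟩ := exists_of_hm_g_eq_zero V hS 0 x ((h0 V _).injective (by rw [h0_hm, hs, map_zero]))
  exact ⟨h0 V _ y, by rw [← h0_hm]; exact congrArg _ hy⟩

theorem secMap_injective {A : Type u} [CommRing A] (V : (Spec (CommRingCat.of A)).Opens) {M N : Type u}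
    [AddCommGroup M] [Module A M] [AddCommGroup N] [Module A N] (f : M →ₗ[A] N) (hf : Function.Injective f)
    (s t : sec V (ModuleCat.of A M))
    (h : (secMap V (ModuleCat.ofHom f)).hom s = (secMap V (ModuleCat.ofHom f)).hom t) : s = t := by
  haveI : Mono ((T A).map (ModuleCat.ofHom f)) :=
    (T_shortExact (Groth.L04.LC.ses_shortExact f (LinearMap.range f).mkQ hf (Submodule.mkQ_surjective _)
      (LinearMap.exact_map_mkQ_range f))).mono_f
  obtain ⟨x, hx⟩ := (h0 V (ModuleCat.of A M)).surjective (s - t)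
  have h1 : hm (ModuleCat.ofHom f) V 0 x = 0 := (h0 V _).injective (by
    rw [h0_hm, hx, map_sub, h, sub_self, map_zero])
  obtain ⟨φ, rfl⟩ := Abelian.Ext.addEquiv₀.symm.surjective x
  rw [hm_apply] at h1
  change (Abelian.Ext.mk₀ φ).comp (Abelian.Ext.mk₀ _) (add_zero 0) = 0 at h1
  rw [Abelian.Ext.mk₀_comp_mk₀] at h1
  have h2 : φ ≫ (T A).map (ModuleCat.ofHom f) = 0 :=
    Abelian.Ext.addEquiv₀.symm.injective (h1.trans (map_zero Abelian.Ext.addEquiv₀.symm).symm)
  rw [← sub_eq_zero, ← hx, (cancel_mono ((T A).map (ModuleCat.ofHom f))).1 (h2.trans Limits.zero_comp.symm)]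
  exact (congrArg _ (map_zero Abelian.Ext.addEquiv₀.symm)).trans (map_zero _)

theorem exists_tr {A : Type u} [CommRing A] {V : (Spec (CommRingCat.of A)).Opens} (I : Ideal A) (M : Type u)
    [AddCommGroup M] [Module A M] (s : ∀ n, sec V (ModuleCat.of A (quotPow A I M n)))
    (hs : ∀ n, (secMap V (ModuleCat.ofHom (quotPowTrans A I M n))).hom (s (n + 1)) = s n) (n : ℕ) :
    ∀ k, ∃ φ : quotPow A I M (n + k) →ₗ[A] quotPow A I M n,
      φ.comp (quotPowπ A I M (n + k)) = quotPowπ A I M n ∧ (secMap V (ModuleCat.ofHom φ)).hom (s (n + k)) = s n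
  | 0 => ⟨LinearMap.id, rfl, secMap_id V (quotPow A I M n) (s n)⟩
  | k + 1 => by
    obtain ⟨φ, h1, h2⟩ := exists_tr I M s hs n k
    refine ⟨φ.comp (quotPowTrans A I M (n + k)), LinearMap.ext fun a => ?_, ?_⟩
    · exact LinearMap.congr_fun h1 a
    · exact ((secMap_comp _ φ _).symm.trans (congrArg _ (hs (n + k)))).trans h2

open AlgebraicGeometry in
/-- Second assertion, for the short exact sequence of coherent modules on U attached to a short exact
sequence 0 → M' → M → M'' → 0 of finite A-modules; I ⊆ 𝔞 ideals of a Noetherian ring A, U = Spec A ∖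
V(𝔞). If the comparison map (colimit over the opens V ⊆ U containing U ∩ V(I) of the sections over
V, to the limit of the sections of the quotients by powers of I over U) is bijective for M and for
M'', then it is bijective for M'. (The published sentence reads 'if the middle and left arrows are
isomorphisms, so is the left'; the diagram chase its proof describes, with both rows left exact,
gives the left arrow from the middle and right ones, which is what is stated here.) -/
theorem result (A : Type u) [CommRing A] [IsNoetherianRing A] (I 𝔞 : Ideal A) (hI : I ≤ 𝔞)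
    (M' M M'' : Type u) [AddCommGroup M'] [Module A M'] [AddCommGroup M] [Module A M] [AddCommGroup M''] [Module A M'']
    [Module.Finite A M'] [Module.Finite A M] [Module.Finite A M'']
    (f : M' →ₗ[A] M) (g : M →ₗ[A] M'') (hf : Function.Injective f) (hg : Function.Surjective g)
    (hfg : LinearMap.range f = LinearMap.ker g)
    (h : Formal2.FormalCohColimBijective A I M 0 (LocCoh.puncturedOpen A 𝔞))
    (h'' : Formal2.FormalCohColimBijective A I M'' 0 (LocCoh.puncturedOpen A 𝔞)) :
    Formal2.FormalCohColimBijective A I M' 0 (LocCoh.puncturedOpen A 𝔞) := by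

  refine ⟨fun V hV x hx => Groth.L29.ColimZero.colim_injective I M' _ V hV x hx, fun y' hy' => ?_⟩
  let U := LocCoh.puncturedOpen A 𝔞
  let Kf : ∀ n, quotPow A I M' n →ₗ[A] quotPow A I M n := fun n =>
    Submodule.mapQ _ _ f (Submodule.map_le_iff_le_comap.1 (by
      rw [Submodule.map_smul'']; exact Submodule.smul_mono le_rfl le_top))
  have hKπ : ∀ n, (Kf n).comp (quotPowπ A I M' n) = (quotPowπ A I M n).comp f := fun n => rfl
  have hKt : ∀ n, (Kf n).comp (quotPowTrans A I M' n) = (quotPowTrans A I M n).comp (Kf (n + 1)) := fun n => by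
    refine Submodule.linearMap_qext _ (LinearMap.ext fun a => rfl)
  let s : ∀ n, sec U (ModuleCat.of A (quotPow A I M' n)) := fun n => h0 U _ (y' n)
  have hs : ∀ n, (secMap U (ModuleCat.ofHom (quotPowTrans A I M' n))).hom (s (n + 1)) = s n := fun n => by
    rw [← h0_map, hy' n]
  obtain ⟨V, hV, x, hx⟩ := h.2 (fun n => (h0 U _).symm ((secMap U (ModuleCat.ofHom (Kf n))).hom (s n))) fun n => by
    refine (h0 U _).injective ?_
    rw [h0_map, AddEquiv.apply_symm_apply, AddEquiv.apply_symm_apply, ← hs n, secMap_comp, secMap_comp, hKt]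
  let σ := h0 V (ModuleCat.of A M) x
  have hσ : ∀ n, (secMap V (ModuleCat.ofHom (quotPowπ A I M n))).hom σ =
      (secMap V (ModuleCat.ofHom (Kf n))).hom (res hV.1 _ (s n)) := fun n => by
    rw [← h0_map, ← hx n, h0_res, AddEquiv.apply_symm_apply, secMap_res]
  obtain ⟨V', hV', h0'⟩ := h''.1 V hV ((h0 V _).symm ((secMap V (ModuleCat.ofHom g)).hom σ)) fun n => by
    refine (h0 V _).injective ?_
    let gn : quotPow A I M n →ₗ[A] quotPow A I M'' n := Submodule.mapQ _ _ g (Submodule.map_le_iff_le_comap.1 (by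
      rw [Submodule.map_smul'']; exact Submodule.smul_mono le_rfl le_top))
    rw [map_zero, h0_map, AddEquiv.apply_symm_apply, secMap_comp,
      show (quotPowπ A I M'' n).comp g = gn.comp (quotPowπ A I M n) from rfl, ← secMap_comp, hσ, secMap_comp,
      show gn.comp (Kf n) = 0 from Submodule.linearMap_qext _ (LinearMap.ext fun a => by
        change (Submodule.Quotient.mk (g (f a)) : quotPow A I M'' n) = 0
        rw [show g (f a) = 0 from LinearMap.mem_ker.1 (hfg ▸ LinearMap.mem_range_self f a),
          Submodule.Quotient.mk_zero]), secMap_zero]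
  have hgσ : (secMap V' (ModuleCat.ofHom g)).hom (res hV'.2 _ σ) = 0 := by
    have := congrArg (h0 V' (ModuleCat.of A M'')) h0'
    rwa [h0_res, AddEquiv.apply_symm_apply, secMap_res, map_zero] at this
  obtain ⟨σ', hσ'⟩ := sec_exact V' f g hf hg hfg _ hgσ
  refine ⟨V', hV'.1, (h0 V' _).symm σ', fun n => (h0 V' _).injective ?_⟩
  rw [h0_res, h0_map, AddEquiv.apply_symm_apply]
  obtain ⟨k, hk⟩ := Ideal.exists_pow_inf_eq_pow_smul I (LinearMap.range f)
  let m := n + k
  obtain ⟨tr, htrπ, htr⟩ := exists_tr I M' s hs n k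
  let δ := res hV'.1.1 _ (s m) - (secMap V' (ModuleCat.ofHom (quotPowπ A I M' m))).hom σ'
  have hδ : (secMap V' (ModuleCat.ofHom (Kf m))).hom δ = 0 := by
    rw [map_sub, secMap_comp, hKπ, ← secMap_comp, hσ', ← secMap_res hV'.2, hσ m, secMap_res, res_res, sub_self]
  let C := LinearMap.ker (Kf m)
  obtain ⟨ε, hε⟩ := sec_exact V' C.subtype (Kf m).rangeRestrict C.injective_subtype
    (Kf m).surjective_rangeRestrict (by rw [LinearMap.ker_rangeRestrict, Submodule.range_subtype]) δ
    (secMap_injective V' (LinearMap.range (Kf m)).subtype (LinearMap.range (Kf m)).injective_subtype _ _ (by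
      rw [secMap_comp, LinearMap.subtype_comp_codRestrict, hδ, map_zero]))
  have h0C : tr.comp C.subtype = 0 := LinearMap.ext fun c => by
    obtain ⟨a, ha⟩ := Submodule.Quotient.mk_surjective _ c.1
    have hc : Kf m c.1 = 0 := c.2
    rw [← ha] at hc
    have hfa : f a ∈ I ^ (m + 1) • (⊤ : Submodule A M) := (Submodule.Quotient.mk_eq_zero _).1 hc
    change tr c.1 = 0
    rw [← ha]
    refine (LinearMap.congr_fun htrπ a).trans ((Submodule.Quotient.mk_eq_zero _).2 ?_)
    have h1 : f a ∈ I ^ (n + 1) • LinearMap.range f := by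
      have h2 : f a ∈ I ^ (m + 1) • (⊤ : Submodule A M) ⊓ LinearMap.range f := ⟨hfa, LinearMap.mem_range_self f a⟩
      rw [hk (m + 1) (by omega)] at h2
      exact Submodule.smul_mono (Ideal.pow_le_pow_right (by omega)) inf_le_right h2
    rw [LinearMap.range_eq_map, ← Submodule.map_smul''] at h1
    obtain ⟨b, hb, hba⟩ := h1
    rwa [hf hba] at hb
  have hfin : (secMap V' (ModuleCat.ofHom tr)).hom δ = 0 := by
    rw [← hε, secMap_comp, h0C, secMap_zero]
  rw [map_sub, sub_eq_zero, ← secMap_res, htr, secMap_comp, htrπ] at hfin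
  exact hfin

end Groth.Agent.S9541
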