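import Groth.Statements.S9544
import Groth.Agent.L29.Formal.PuncLocFree
import Groth.Agent.S0840
import Groth.Agent.L04.LC.AlgebraizationKill
import Groth.Agent.L04.CMBasic

set_option autoImplicit false
set_option backward.isDefEq.respectTransparency false
universe u
open CategoryTheory
attribute [local instance] HasDerivedCategory.standard
open Formal2

namespace Groth.Agent.S9544

open AlgebraicGeometry Opposite in
/-- Let A be a Noetherian ring with a dualizing complex, f an element of an ideal 𝔞 with A complete for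
the f-adic topology, U = Spec A ∖ V(𝔞), and assume depth A_𝔭 + dim (A/𝔭)_𝔮 > 2 for every prime 𝔭 not
containing f and every prime 𝔮 ⊇ 𝔭 + 𝔞. Then the completion functor for the ideal (f) is fully
faithful on finite locally free O_U-modules. -/
theorem result (A : Type u) [CommRing A]
    [IsNoetherianRing A] (𝔞 : Ideal A) (f : A) (hf : f ∈ 𝔞) [IsAdicComplete (Ideal.span {f}) A]
    (hω : ∃ ω : Dual.D A, Dual.IsDualizing A ω)
    (h₂ : ∀ (p : Ideal A) [p.IsPrime], f ∉ p → ∀ (q : Ideal A) [q.IsPrime], p ≤ q → 𝔞 ≤ q →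
      ((2 : ℕ) : WithBot ℕ∞) < ((LocCoh.depth (Localization.AtPrime p) (Localization.AtPrime p) : ℕ∞) : WithBot ℕ∞) +
        Formal2.dimBetween A p q) :
    ∀ (E E' : (↑(LocCoh.puncturedOpen A 𝔞) : Scheme.{u}).Modules), FlatMod.IsFinLocFree E → FlatMod.IsFinLocFree E' →
      ∀ ψ : Formal.completion (Ideal.span {f}) E ⟶ Formal.completion (Ideal.span {f}) E',
        ∃! φ : E ⟶ E', ∀ n : ℕ, Formal.modPowπ (Ideal.span {f}) (n + 1) E ≫ ψ.app (op n) = φ ≫ Formal.modPowπ (Ideal.span {f}) (n + 1) E' := by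
  obtain ⟨ω, hω'⟩ := hω
  obtain ⟨n, hn⟩ := Groth.L04.AlgKill.exists_pow_kills A hω' 2 𝔞 (Ideal.span {f}) (fun p q hp hq hpq m hm => by
    haveI := p.isPrime; haveI := q.isPrime
    have h := h₂ p.asIdeal (fun hfp => hp ((Ideal.span_singleton_le_iff_mem _).2 hfp)) q.asIdeal hpq hq
    rw [Groth.L04.AlgKill.dimBetween_eq hω' p q hpq, ← Groth.L04.depth_localizedModule_self p.asIdeal] at h
    unfold Groth.L04.AlgKill.dep at hm
    rw [hm] at h
    have h' : (((2 : ℕ) : ℕ∞) : WithBot ℕ∞) <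
        (((m + (Groth.L29.HomD.dimFun hω' p - Groth.L29.HomD.dimFun hω' q).toNat : ℕ) : ℕ∞) : WithBot ℕ∞) := by
      push_cast; simpa using h
    have hlt := ENat.coe_lt_coe.1 (WithBot.coe_lt_coe.1 h')
    have := (Groth.L29.HomD.dimFun_strictAnti hω').antitone hpq
    omega)
  have hkill : ∀ i : ℕ, i ≤ 2 → ∃ k : ℕ, ∀ x : LocCoh.H 𝔞 i A, f ^ k • x = 0 := fun i hi =>
    ⟨n, fun x => hn _ (Ideal.pow_mem_pow (Ideal.mem_span_singleton_self f) n) i hi x⟩
  intro E E' hE hE' ψ
  haveI : IsNoetherianRing (CommRingCat.of A) := inferInstanceAs (IsNoetherianRing A)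
  haveI : IsLocallyNoetherian (LocCoh.puncturedOpen A 𝔞 : Scheme.{u}) :=
    isLocallyNoetherian_of_isOpenImmersion (LocCoh.puncturedOpen A 𝔞).ι
  haveI : TopologicalSpace.NoetherianSpace (LocCoh.puncturedOpen A 𝔞 : Scheme.{u}) :=
    (LocCoh.puncturedOpen A 𝔞).ι.isOpenEmbedding.toIsInducing.noetherianSpace
  haveI : IsNoetherian (LocCoh.puncturedOpen A 𝔞 : Scheme.{u}) := { }
  exact Groth.Agent.S0840.result A (Ideal.span {f}) _
    (fun G hG => Groth.L29.Formal.toHHlim_bijective_of_finLocFree 𝔞 f hf (hkill 1 (by omega)) (hkill 2 le_rfl) G hG) E E' hE hE' ψ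

end Groth.Agent.S9544
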