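import Groth.Statements.S9554
import Groth.Agent.L18.OffAffineCoh
import Groth.Agent.L22.EnrSev.H0
import Groth.Agent.S1575
-- import your own Groth.Agent.* helpers here

set_option autoImplicit false
set_option backward.isDefEq.respectTransparency.types false
set_option backward.isDefEq.respectTransparency false
set_option linter.style.haveILetI false
universe u
open CategoryTheory CategoryTheory.Limits AlgebraicGeometry
open Lef

namespace Groth.Agent.S9554

open Groth.L18.Frame (rs)

/-- The restriction to an open containing everything. -/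
theorem bijective_rs {X : Scheme.{u}} (M : X.Modules) {U W : X.Opens} (h : W ≤ U) (h' : U ≤ W) :
    Function.Bijective (rs M h) := by
  obtain rfl := le_antisymm h h'
  exact ⟨fun a b e => by rwa [Groth.L18.Frame.rs_self, Groth.L18.Frame.rs_self] at e,
    fun b => ⟨b, Groth.L18.Frame.rs_self M _ b⟩⟩

section Trans

variable {X : Scheme.{u}}

/-- The pullbacks to a system of subschemes. -/
noncomputable def mkMod (𝔛 : FSch.Sys.{u}) (g : ∀ n, 𝔛.X n ⟶ X) (hc : ∀ n, 𝔛.ι n ≫ g (n+1) = g n) (F : X.Modules) :
    FSch.ModSys 𝔛 where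
  F n := (Scheme.Modules.pullback (g n)).obj F
  e n := (Scheme.Modules.pullbackComp (𝔛.ι n) (g (n+1))).app F ≪≫ (Scheme.Modules.pullbackCongr (hc n)).app F

theorem trans_gen (𝔛 : FSch.Sys.{u}) (g : ∀ n, 𝔛.X n ⟶ X) (hc : ∀ n, 𝔛.ι n ≫ g (n+1) = g n) (F : X.Modules) (m : ℕ) :
    (Scheme.Modules.pullbackPushforwardAdjunction (g (m + 1))).unit.app F ≫
      ((Scheme.Modules.pushforward (g (m + 1))).map
            ((Scheme.Modules.pullbackPushforwardAdjunction (𝔛.ι m)).unit.app ((mkMod 𝔛 g hc F).F (m + 1))) ≫
          (Scheme.Modules.pushforwardComp (𝔛.ι m) (g (m + 1))).hom.app _ ≫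
          (Scheme.Modules.pushforwardCongr (hc m)).hom.app _ ≫
          (Scheme.Modules.pushforward (g m)).map ((mkMod 𝔛 g hc F).e m).hom) =
      (Scheme.Modules.pullbackPushforwardAdjunction (g m)).unit.app F :=
  Groth.L18.OffAffine.unit_trans (𝔛.ι m) (g (m+1)) (g m) (hc m) F

theorem mk_eq (I : X.IdealSheafData) (F : X.Modules) :
    FSch.completionMod I F = mkMod (FSch.completionAlong X I) (FSch.completionToX X I)
      (fun n => Scheme.IdealSheafData.inclusion_subschemeι (FSch.pow_succ_le X I n)) F := rfl

theorem hc_completion (I : X.IdealSheafData) (n : ℕ) :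
    (FSch.completionAlong X I).ι n ≫ FSch.completionToX X I (n + 1) = FSch.completionToX X I n :=
  Scheme.IdealSheafData.inclusion_subschemeι (FSch.pow_succ_le X I n)

theorem congr_eq (I : X.IdealSheafData) (m : ℕ) :
    Scheme.Modules.pushforwardCongr (Scheme.IdealSheafData.inclusion_subschemeι (FSch.pow_succ_le X I m)) =
    Scheme.Modules.pushforwardCongr (hc_completion I m) := rfl

theorem e_eq (I : X.IdealSheafData) (F : X.Modules) (m : ℕ) :
    ((FSch.completionMod I F).e m).hom = ((mkMod (FSch.completionAlong X I) (FSch.completionToX X I) (hc_completion I) F).e m).hom := rfl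

theorem clean (I : X.IdealSheafData) (F : X.Modules) (m : ℕ) :
    (Scheme.Modules.pullbackPushforwardAdjunction (FSch.completionToX X I (m + 1))).unit.app F ≫
      ((Scheme.Modules.pushforward (FSch.completionToX X I (m + 1))).map
            ((Scheme.Modules.pullbackPushforwardAdjunction ((FSch.completionAlong X I).ι m)).unit.app ((mkMod (FSch.completionAlong X I) (FSch.completionToX X I) (hc_completion I) F).F (m + 1))) ≫
          (Scheme.Modules.pushforwardComp ((FSch.completionAlong X I).ι m) (FSch.completionToX X I (m + 1))).hom.app _ ≫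
          (Scheme.Modules.pushforwardCongr (hc_completion I m)).hom.app _ ≫
          (Scheme.Modules.pushforward (FSch.completionToX X I m)).map ((mkMod (FSch.completionAlong X I) (FSch.completionToX X I) (hc_completion I) F).e m).hom) =
      (Scheme.Modules.pullbackPushforwardAdjunction (FSch.completionToX X I m)).unit.app F :=
  trans_gen (FSch.completionAlong X I) (FSch.completionToX X I) (hc_completion I) F m

theorem F_eq (I : X.IdealSheafData) (F : X.Modules) (n : ℕ) : (FSch.completionMod I F).F n = (mkMod (FSch.completionAlong X I) (FSch.completionToX X I) (hc_completion I) F).F n := rfl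

/-- The transition of the direct images of the completion. -/
noncomputable def trans (I : X.IdealSheafData) (F : X.Modules) (m : ℕ) :=
  (Scheme.Modules.pushforward (FSch.completionToX X I (m + 1))).map
      ((Scheme.Modules.pullbackPushforwardAdjunction ((FSch.completionAlong X I).ι m)).unit.app ((FSch.completionMod I F).F (m + 1))) ≫
    (Scheme.Modules.pushforwardComp ((FSch.completionAlong X I).ι m) (FSch.completionToX X I (m + 1))).hom.app _ ≫
    (Scheme.Modules.pushforwardCongr (Scheme.IdealSheafData.inclusion_subschemeι (FSch.pow_succ_le X I m))).hom.app _ ≫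
    (Scheme.Modules.pushforward (FSch.completionToX X I m)).map ((FSch.completionMod I F).e m).hom

theorem trans_def (I : X.IdealSheafData) (F : X.Modules) (m : ℕ) : trans I F m =
    (Scheme.Modules.pushforward (FSch.completionToX X I (m + 1))).map
            ((Scheme.Modules.pullbackPushforwardAdjunction ((FSch.completionAlong X I).ι m)).unit.app ((FSch.completionMod I F).F (m + 1))) ≫
          (Scheme.Modules.pushforwardComp ((FSch.completionAlong X I).ι m) (FSch.completionToX X I (m + 1))).hom.app _ ≫
          (Scheme.Modules.pushforwardCongr (Scheme.IdealSheafData.inclusion_subschemeι (FSch.pow_succ_le X I m))).hom.app _ ≫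
          (Scheme.Modules.pushforward (FSch.completionToX X I m)).map ((FSch.completionMod I F).e m).hom := by
  delta trans
  rfl

theorem app_congr {M N : X.Modules} {φ ψ : M ⟶ N} (h : φ = ψ) (V : X.Opens) (z : Γ(M, V)) : φ.app V z = ψ.app V z := by
  rw [h]

theorem trans_unit (I : X.IdealSheafData) (F : X.Modules) (m : ℕ) :
    (Scheme.Modules.pullbackPushforwardAdjunction (FSch.completionToX X I (m + 1))).unit.app F ≫ trans I F m =
      (Scheme.Modules.pullbackPushforwardAdjunction (FSch.completionToX X I m)).unit.app F := by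
  rw [trans_def, congr_eq, e_eq]
  exact clean I F m

end Trans

/-- Let k be a field, X a proper k-scheme, L an ample invertible O_X-module, s a global section of L
(not necessarily regular) with zero scheme Y and ideal 𝓘, Y_n the closed subscheme defined by
𝓘^(n+1) with closed immersion ι_n, and F a coherent O_X-module with depth(F_x) + dim cl(x) > 1 at
every point x of X outside Y. Then for every open V ⊆ X containing Y the canonical map Γ(V, F) →
lim_n Γ(Y_n, F|_{Y_n}) is bijective. Here Γ(Y_n, F|_{Y_n}) is written as the sections over V of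
ι_n,* ι_n^* F (all of its sections, as Y_n ⊆ V), the map from Γ(V, F) is induced by the unit F →
ι_n,* ι_n^* F, and the transition maps come from the units of the inclusions Y_n → Y_(n+1) together
with the identifications of the formal-completion system. -/
theorem result (k : Type u) [Field k] (X : Scheme.{u})
    (f : X ⟶ Spec (CommRingCat.of k)) [IsProper f] (L : X.Modules) (hL : CohB1.IsAmple L)
    (s : Coh.structureModule X ⟶ L) (F : X.Modules) (hF : Coh.IsCoh F)
    (hd : ∀ x : X, x ∉ ((PicF2.zeroScheme L s).support : Set X) →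
      (1 : WithBot ℕ∞) < (LocCoh.depth (X.presheaf.stalk x) (F.presheaf.stalk x) : WithBot ℕ∞) +
        topologicalKrullDim ↥(closure ({x} : Set X)))
    (V : X.Opens) (hV : ((PicF2.zeroScheme L s).support : Set X) ⊆ (V : Set X)) :
    (∀ σ : (Scheme.Modules.presheaf F).obj (Opposite.op V),
      (∀ n : ℕ, Scheme.Modules.Hom.app ((Scheme.Modules.pullbackPushforwardAdjunction (FSch.completionToX X (PicF2.zeroScheme L s) n)).unit.app F) V σ = 0) → σ = 0) ∧
    (∀ y : (∀ n : ℕ, (Scheme.Modules.presheaf ((Scheme.Modules.pushforward (FSch.completionToX X (PicF2.zeroScheme L s) n)).obj ((FSch.completionMod (PicF2.zeroScheme L s) F).F n))).obj (Opposite.op V)),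
      (∀ n : ℕ, Scheme.Modules.Hom.app
          ((Scheme.Modules.pushforward (FSch.completionToX X (PicF2.zeroScheme L s) (n + 1))).map
            ((Scheme.Modules.pullbackPushforwardAdjunction ((FSch.completionAlong X (PicF2.zeroScheme L s)).ι n)).unit.app ((FSch.completionMod (PicF2.zeroScheme L s) F).F (n + 1))) ≫
          (Scheme.Modules.pushforwardComp ((FSch.completionAlong X (PicF2.zeroScheme L s)).ι n) (FSch.completionToX X (PicF2.zeroScheme L s) (n + 1))).hom.app _ ≫
          (Scheme.Modules.pushforwardCongr (Scheme.IdealSheafData.inclusion_subschemeι (FSch.pow_succ_le X (PicF2.zeroScheme L s) n))).hom.app _ ≫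
          (Scheme.Modules.pushforward (FSch.completionToX X (PicF2.zeroScheme L s) n)).map ((FSch.completionMod (PicF2.zeroScheme L s) F).e n).hom) V (y (n + 1)) = y n) →
        ∃ σ : (Scheme.Modules.presheaf F).obj (Opposite.op V),
          ∀ n : ℕ, Scheme.Modules.Hom.app ((Scheme.Modules.pullbackPushforwardAdjunction (FSch.completionToX X (PicF2.zeroScheme L s) n)).unit.app F) V σ = y n) := by
  classical
  set I := PicF2.zeroScheme L s with hI
  letI : X.Over (Spec (CommRingCat.of k)) := ⟨f⟩
  haveI : IsProper (X ↘ Spec (CommRingCat.of k)) := ‹IsProper f›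
  haveI : IsLocallyNoetherian X := LocallyOfFiniteType.isLocallyNoetherian f
  haveI := hF.1
  have hsupp := Groth.L22.ZeroScheme.support_zeroScheme hL.1 s
  have hdepth : ∀ x : X, IsClosed ({x} : Set X) → x ∉ I.support →
      ((1 + 1 : ℕ) : ℕ∞) ≤ LocCoh.depth (X.presheaf.stalk x) (F.presheaf.stalk x) := fun x hx hxs => by
    have h := hd x hxs
    rw [hx.closure_eq] at h
    have h0 : topologicalKrullDim ↥({x} : Set X) ≤ 0 := by
      haveI : Subsingleton (TopologicalSpace.IrreducibleCloseds ↥({x} : Set X)) := ⟨fun a b => by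
        refine TopologicalSpace.IrreducibleCloseds.ext ?_
        rw [Set.eq_univ_of_forall (s := (a : Set ↥({x} : Set X))) (fun z => by
            obtain ⟨w, hw⟩ := a.isIrreducible.1; exact (Subsingleton.elim z w).symm ▸ hw),
          Set.eq_univ_of_forall (s := (b : Set ↥({x} : Set X))) (fun z => by
            obtain ⟨w, hw⟩ := b.isIrreducible.1; exact (Subsingleton.elim z w).symm ▸ hw)]⟩
      exact Order.krullDim_nonpos_of_subsingleton
    have h1 : (1 : WithBot ℕ∞) < (LocCoh.depth (X.presheaf.stalk x) (F.presheaf.stalk x) : WithBot ℕ∞) :=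
      lt_of_lt_of_le h ((add_le_add le_rfl h0).trans (by rw [add_zero]))
    have h2 : (1 : ℕ∞) < LocCoh.depth (X.presheaf.stalk x) (F.presheaf.stalk x) := by exact_mod_cast h1
    rw [ENat.coe_add, ENat.coe_one]
    exact Order.add_one_le_of_lt h2
  have hclosed : ∀ x : X, x ∉ V → IsClosed ({x} : Set X) := fun x hx => by
    refine Groth.L22.EnrSev.isClosed_of_closure_subset_affine k
      (Groth.L19.AmpleAffine.isAffineOpen_genLocus f hL s) fun z hz => ?_
    by_contra hzG
    exact hx ((specializes_iff_mem_closure.2 hz).mem_open V.2 (hV (hsupp.ge hzG)))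
  have hres : Function.Bijective (rs F (le_top : V ≤ ⊤)) := by
    have h1 := Groth.Agent.S1575.result X F hF V
      (fun x hx => (hdepth x (hclosed x hx) fun h => hx (hV h))) ⊤
    have h2 := bijective_rs F (le_inf le_top le_rfl : V ≤ ⊤ ⊓ V) inf_le_right
    have h3 : (rs F (le_top : V ≤ ⊤) : Γ(F, ⊤) → Γ(F, V)) =
        rs F (le_inf le_top le_rfl : V ≤ ⊤ ⊓ V) ∘ rs F (inf_le_left : (⊤ : X.Opens) ⊓ V ≤ ⊤) :=
      funext fun m => (Groth.L18.Frame.rs_rs F _ _ m).symm
    rw [h3]
    exact h2.comp h1
  let Q : ℕ → X.Modules := fun n =>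
    (Scheme.Modules.pushforward (FSch.completionToX X I n)).obj ((FSch.completionMod I F).F n)
  have hQ : ∀ n, Function.Bijective (rs (Q n) (le_top : V ≤ ⊤)) := fun n => by
    refine bijective_rs ((FSch.completionMod I F).F n)
      (show (I ^ (n + 1)).subschemeι ⁻¹ᵁ V ≤ (I ^ (n + 1)).subschemeι ⁻¹ᵁ ⊤ from fun _ _ => trivial) fun z _ => hV ?_
    show (I ^ (n + 1)).subschemeι z ∈ (I.support : Set X)
    rw [← Scheme.IdealSheafData.support_pow_succ I n, ← Scheme.IdealSheafData.range_subschemeι]
    exact ⟨z, rfl⟩
  have hle : ∀ {a b : ℕ}, a ≤ b → ∃ l : (Dual3.idealMul (I ^ (b + 1))).obj F ⟶ (Dual3.idealMul (I ^ (a + 1))).obj F,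
      l ≫ Dual3.idealMulι (I ^ (a + 1)) F = Dual3.idealMulι (I ^ (b + 1)) F := fun {a b} h =>
    Groth.L17.IdealMulSec.exists_le (I ^ (b + 1)) F
      (Groth.L17.IdealMulExtend.pow_le_pow I (Nat.add_le_add_right h 1))
  choose κ hκ using @hle
  have main := Groth.L18.OffAffine.sections_bijective (fun m => (Dual3.idealMul (I ^ (m + 1))).obj F) Q
    (fun m => Dual3.idealMulι (I ^ (m + 1)) F)
    (fun m => (Scheme.Modules.pullbackPushforwardAdjunction (FSch.completionToX X I m)).unit.app F)
    (fun m => kernel.condition _) (fun m => Groth.L18.OffAffine.shortExact_idealMul (I ^ (m + 1)) F)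
    (trans I F)
    (fun m => trans_unit I F m)
    @κ @hκ (fun q hq a => by
      obtain ⟨d, hd'⟩ := Groth.L18.OffAffine.exists_hmap_eq_zero_coh f hL s hF 1 hdepth q hq (a + 1)
      exact ⟨a + d, Nat.le_add_right a d, hd' (a + d + 1) (by omega) _ (hκ _)⟩)
  refine ⟨fun σ hσ => ?_, fun y hy => ?_⟩
  · obtain ⟨τ, rfl⟩ := hres.2 σ
    rw [main.1 τ fun m => (hQ m).1 ((Groth.L19.ProjBdl.app_rs _ _ _).symm.trans ((hσ m).trans (map_zero _).symm))]
    exact map_zero _
  · choose y' hy' using fun n => (hQ n).2 (y n)
    have key : ∀ (M N : X.Modules) (φ : M ⟶ N) (z : Γ(M, ⊤)) (w : Γ(N, ⊤)) (z' : Γ(M, V)) (w' : Γ(N, V)),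
        rs M le_top z = z' → rs N le_top w = w' → φ.app V z' = w' → Function.Injective (rs N (le_top : V ≤ ⊤)) →
          φ.app ⊤ z = w := by
      intro M N φ z w z' w' hz hw hzw hi
      subst hz hw
      exact hi ((Groth.L19.ProjBdl.app_rs _ _ _).symm.trans hzw)
    obtain ⟨τ, hτ⟩ := main.2 y' fun m =>
      key (Q (m + 1)) (Q m) _ (y' (m + 1)) (y' m) (y (m + 1)) (y m) (hy' (m + 1)) (hy' m) ((app_congr (trans_def I F m) V (y (m + 1))).trans (hy m)) (hQ m).1
    exact ⟨rs F le_top τ, fun n => (Groth.L19.ProjBdl.app_rs _ _ _).trans ((congrArg (rs (Q n) le_top) (hτ n)).trans (hy' n))⟩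

end Groth.Agent.S9554
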