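import Groth.Statements.S9557
import Groth.Agent.L05.Chart.EtaleSplittingData

set_option autoImplicit false
universe u
open EtLocal

namespace Groth.Agent.S9557

open AlgebraicGeometry CategoryTheory Limits in
/-- Let f : X ⟶ S be any morphism of schemes, s a point of S and x_1, …, x_n pairwise distinct points of
X over s such that f is étale at each x_i (the restriction of f to some open neighbourhood of x_i is
étale). Then there are an étale morphism g : U ⟶ S, a point u of U over s and finitely many opens
V_k of X_U = X ×_S U, each labelled by one of the x_i, such that (1) each V_k ⟶ U is an isomorphism,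
(2) no point of X_U over u lies in two different V_k, and (3) every point of X_U over u mapping to
x_i lies in some V_k labelled by x_i. -/
theorem result {X S : Scheme.{u}} (f : X ⟶ S) (s : S)
    {ι : Type} [Finite ι] (x : ι → ↑X) (hinj : Function.Injective x) (hs : ∀ i, f (x i) = s)
    (hx : ∀ i, ∃ W : X.Opens, x i ∈ W ∧ Etale (W.ι ≫ f)) :
    ∃ (U : Scheme.{u}) (g : U ⟶ S) (u : U), Etale g ∧ g u = s ∧
      ∃ (K : Type) (_ : Finite K) (lab : K → ι) (V : K → (pullback f g).Opens),
        (∀ k, IsIso ((V k).ι ≫ pullback.snd f g)) ∧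
        (∀ (k k' : K) (w : ↑(pullback f g)), w ∈ V k → w ∈ V k' → pullback.snd f g w = u → k = k') ∧
        (∀ (w : ↑(pullback f g)) (i : ι), pullback.snd f g w = u → pullback.fst f g w = x i →
          ∃ k, lab k = i ∧ w ∈ V k) := by
  obtain ⟨U, g, u, n, hg, hu, ⟨D⟩⟩ := Groth.L05.Chart.exists_split_isIso s x hs hx
  choose lab hlab using D.fst_w
  refine ⟨U, g, u, hg, hu, Fin n, inferInstance, lab, D.V, D.prop,
    fun k k' w hk hk' hw => D.inj ?_, fun w i hw hi => ?_⟩
  · haveI : IsIso ((D.V k).ι ≫ pullback.snd f g) := D.prop k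
    haveI : IsIso ((D.V k').ι ≫ pullback.snd f g) := D.prop k'
    exact (Groth.L05.Chart.eq_of_mem g (D.V k) (D.mem k) hk ((D.snd_w k).trans hw.symm)).trans
      (Groth.L05.Chart.eq_of_mem g (D.V k') hk' (D.mem k') (hw.trans (D.snd_w k').symm))
  · obtain ⟨k, rfl⟩ := D.cov w hw ⟨i, hi.symm⟩
    exact ⟨k, hinj ((hlab k).trans hi), D.mem k⟩

end Groth.Agent.S9557
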