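import Groth.Statements.S9558
import Groth.Agent.L05.Chart.EtaleSplittingData

set_option autoImplicit false
universe u
open EtLocal

namespace Groth.Agent.S9558

open AlgebraicGeometry CategoryTheory Limits in
/-- Let f : X ⟶ S be a separated morphism of schemes, s a point of S and x_1, …, x_n pairwise distinct
points of X over s such that f is étale at each x_i (the restriction of f to some open neighbourhood
of x_i is étale). Then there are an étale morphism g : U ⟶ S, a point u of U over s, and a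
decomposition of X_U = X ×_S U into pairwise disjoint open subschemes W and finitely many V_k which
together cover X_U, such that each V_k ⟶ U is an isomorphism and no point of W over u maps to any of
the x_i. -/
theorem result {X S : Scheme.{u}} (f : X ⟶ S)
    [IsSeparated f] (s : S)
    {ι : Type} [Finite ι] (x : ι → ↑X) (hinj : Function.Injective x) (hs : ∀ i, f (x i) = s)
    (hx : ∀ i, ∃ W : X.Opens, x i ∈ W ∧ Etale (W.ι ≫ f)) :
    ∃ (U : Scheme.{u}) (g : U ⟶ S) (u : U), Etale g ∧ g u = s ∧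
      ∃ (K : Type) (_ : Finite K) (W : (pullback f g).Opens) (V : K → (pullback f g).Opens),
        W ⊔ (⨆ k, V k) = ⊤ ∧ (∀ k, Disjoint W (V k)) ∧ (∀ k k', k ≠ k' → Disjoint (V k) (V k')) ∧
        (∀ k, IsIso ((V k).ι ≫ pullback.snd f g)) ∧
        (∀ (w : ↑(pullback f g)) (i : ι), w ∈ W → pullback.snd f g w = u → pullback.fst f g w ≠ x i) := by
  obtain ⟨U₀, g₀, u₀, n, hg₀, hu₀, ⟨D₀⟩⟩ := Groth.L05.Chart.exists_split_isIso s x hs hx
  obtain ⟨U, g, u, hg, hu, D, hdis, hcl⟩ := D₀.exists_disjoint (fun _ _ p (hp : IsIso p) => inferInstance) hg₀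
  let W : (pullback f g).Opens := ⟨(⋃ k, (D.V k : Set ↑(pullback f g)))ᶜ,
    (isClosed_iUnion_of_finite hcl).isOpen_compl⟩
  refine ⟨U, g, u, hg, hu.trans hu₀, Fin n, inferInstance, W, D.V, ?_, fun k => ?_, hdis,
    D.prop, fun w i hwW hw hi => ?_⟩
  · refine eq_top_iff.mpr fun z _ => ?_
    by_cases hz : z ∈ W
    · exact Or.inl hz
    · obtain ⟨k, hk⟩ := Set.mem_iUnion.mp (not_not.mp hz)
      exact Or.inr (TopologicalSpace.Opens.mem_iSup.mpr ⟨k, hk⟩)
  · rw [disjoint_iff_inf_le]
    exact fun z ⟨hz, hzk⟩ => (hz (Set.mem_iUnion.mpr ⟨k, hzk⟩)).elim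
  · obtain ⟨k, rfl⟩ := D.cov w hw ⟨i, hi.symm⟩
    exact hwW (Set.mem_iUnion.mpr ⟨k, D.mem k⟩)

end Groth.Agent.S9558
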