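import Groth.Statements.S9563
import Groth.Agent.S9560
import Mathlib.RingTheory.EssentialFiniteness
import Mathlib.RingTheory.Unramified.LocalStructure
import Mathlib.RingTheory.Unramified.LocalRing
import Mathlib.RingTheory.Localization.LocalizationLocalization

set_option autoImplicit false
universe u
open EtLocal

namespace Groth.Agent.S9563

/-- Let A → B be an étale homomorphism of Noetherian local rings, i.e. a local homomorphism with B
essentially of finite type and flat over A, m_A B = m_B, and residue field of B finite separable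
over that of A. Then there are a standard étale A-algebra B' = A[t]_g/(f) (f monic and f' invertible
in B') and a prime 𝔮 of B' such that B is isomorphic as an A-algebra to the localization of B' at 𝔮
(existence of an isomorphism). -/
theorem result (A B : Type u) [CommRing A] [CommRing B]
    [IsLocalRing A] [IsLocalRing B] [IsNoetherianRing A] [IsNoetherianRing B] [Algebra A B]
    [IsLocalHom (algebraMap A B)] [Algebra.EssFiniteType A B] [Module.Flat A B]
    (hm : (IsLocalRing.maximalIdeal A).map (algebraMap A B) = IsLocalRing.maximalIdeal B)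
    [Module.Finite (IsLocalRing.ResidueField A) (IsLocalRing.ResidueField B)]
    [Algebra.IsSeparable (IsLocalRing.ResidueField A) (IsLocalRing.ResidueField B)] :
    ∃ (P : StandardEtalePair A) (𝔮 : Ideal P.Ring) (_ : 𝔮.IsPrime),
      Nonempty (B ≃ₐ[A] Localization.AtPrime 𝔮) := by
  let C := Algebra.EssFiniteType.subalgebra A B
  haveI : Algebra.FinitePresentation A C := Algebra.FinitePresentation.of_finiteType.mp inferInstance
  let q : Ideal C := (IsLocalRing.maximalIdeal B).comap (algebraMap C B)
  have hunit : ∀ x : C, IsUnit (algebraMap C B x) ↔ x ∈ q.primeCompl := fun x => by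
    show _ ↔ ¬ algebraMap C B x ∈ IsLocalRing.maximalIdeal B
    rw [IsLocalRing.mem_maximalIdeal, mem_nonunits_iff, not_not]
  haveI : IsLocalization.AtPrime B q := by
    have : Algebra.EssFiniteType.submonoid A B = q.primeCompl := SetLike.ext fun x => hunit x
    show IsLocalization q.primeCompl B
    rw [← this]
    infer_instance
  let p := IsLocalRing.maximalIdeal A
  haveI : q.LiesOver p := ⟨by
    show p = Ideal.comap (algebraMap A C) (Ideal.comap (algebraMap C B) _)
    rw [Ideal.comap_comap, ← IsScalarTower.algebraMap_eq]
    have h04 := (IsLocalRing.local_hom_TFAE (algebraMap A B)).out 0 4 rfl rfl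
    exact (h04.mp ‹_›).symm⟩
  letI := Localization.AtPrime.algebraOfLiesOver p q
  let e : Localization.AtPrime q ≃ₐ[A] B :=
    (IsLocalization.algEquiv q.primeCompl (Localization.AtPrime q) B).restrictScalars A
  haveI : Algebra.FormallyUnramified A B :=
    Algebra.FormallyUnramified.iff_map_maximalIdeal_eq.mpr ⟨inferInstance, hm⟩
  haveI : Algebra.IsUnramifiedAt A q := Algebra.FormallyUnramified.of_equiv e.symm
  obtain ⟨hsep, hmax⟩ := (Algebra.isUnramifiedAt_iff_map_eq A p q).mp inferInstance
  haveI : Module.Flat A (Localization.AtPrime q) := Module.Flat.of_linearEquiv e.toLinearEquiv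
  haveI : Algebra.IsEtaleAt A q := (Groth.Agent.S9560.result A C p q).mpr
    ⟨(Module.flat_iff_of_isLocalization (Localization.AtPrime p) p.primeCompl _).mpr inferInstance,
      hmax, inferInstance, hsep⟩
  obtain ⟨f, hf, hfs⟩ := Algebra.IsEtaleAt.exists_isStandardEtale (R := A) q
  let Cf := Localization.Away f
  have hle : Submonoid.powers f ≤ q.primeCompl := Submonoid.powers_le.mpr hf
  letI : Algebra Cf B := IsLocalization.localizationAlgebraOfSubmonoidLe Cf B _ _ hle
  haveI : IsScalarTower C Cf B := IsLocalization.localization_isScalarTower_of_submonoid_le Cf B _ _ hle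
  haveI : IsScalarTower A Cf B := IsScalarTower.to₁₃₄ A C Cf B
  let Q' : Ideal Cf := (IsLocalRing.maximalIdeal B).comap (algebraMap Cf B)
  have hle' : q.primeCompl.map (algebraMap C Cf) ≤ Q'.primeCompl := by
    rintro _ ⟨x, hx, rfl⟩
    show ¬ algebraMap Cf B (algebraMap C Cf x) ∈ IsLocalRing.maximalIdeal B
    rw [← IsScalarTower.algebraMap_apply]
    exact hx
  haveI hloc := IsLocalization.isLocalization_of_submonoid_le Cf B _ _ hle
  haveI : IsLocalization Q'.primeCompl B := IsLocalization.of_le (q.primeCompl.map (algebraMap C Cf)) _ hle'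
    fun r hr => IsLocalRing.notMem_maximalIdeal.mp hr
  let S := (Nonempty.some (inferInstance : Nonempty (StandardEtalePresentation A Cf)))
  let h : Cf ≃ₐ[A] S.P.Ring := S.equivRing
  let 𝔮 : Ideal S.P.Ring := Q'.comap h.symm.toRingEquiv.toRingHom
  letI : Algebra S.P.Ring B := ((algebraMap Cf B).comp h.toRingEquiv.symm.toRingHom).toAlgebra
  haveI : IsScalarTower A S.P.Ring B := IsScalarTower.of_algebraMap_eq fun a => by
    show _ = algebraMap Cf B (h.symm (algebraMap A S.P.Ring a))
    rw [h.symm.commutes, ← IsScalarTower.algebraMap_apply]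
  haveI : IsLocalization 𝔮.primeCompl B := by
    have e1 : Q'.primeCompl.map h.toRingEquiv = 𝔮.primeCompl := by
      ext y
      constructor
      · rintro ⟨x, hx, rfl⟩
        show ¬ h.symm (h x) ∈ Q'
        rwa [h.symm_apply_apply]
      · exact fun hy => ⟨h.symm y, hy, h.apply_symm_apply y⟩
    rw [← e1]
    exact IsLocalization.isLocalization_of_base_ringEquiv Q'.primeCompl B h.toRingEquiv
  exact ⟨S.P, 𝔮, inferInstance,
    ⟨((IsLocalization.algEquiv 𝔮.primeCompl (Localization.AtPrime 𝔮) B).restrictScalars A).symm⟩⟩

end Groth.Agent.S9563
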