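import Groth.Statements.S9564
import Mathlib.RingTheory.EssentialFiniteness
import Mathlib.RingTheory.Unramified.LocalStructure
import Mathlib.RingTheory.Unramified.LocalRing
import Mathlib.RingTheory.Localization.LocalizationLocalization
import Mathlib.RingTheory.Ideal.Quotient.Operations

set_option autoImplicit false
universe u
open EtLocal

namespace Groth.Agent.S9564

/-- Let A → B be an unramified homomorphism of Noetherian local rings, i.e. a local homomorphism with B
essentially of finite type over A, m_A B = m_B, and residue field of B finite separable over that of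
A. Then there are a standard étale A-algebra B' = A[t]_g/(f) (f monic and f' invertible in B'), a
prime 𝔮 of B' and an ideal I of the localization of B' at 𝔮 such that B is isomorphic as an
A-algebra to the quotient of that localization by I (existence of an isomorphism). -/
theorem result (A B : Type u) [CommRing A] [CommRing B]
    [IsLocalRing A] [IsLocalRing B] [IsNoetherianRing A] [IsNoetherianRing B] [Algebra A B]
    [IsLocalHom (algebraMap A B)] [Algebra.EssFiniteType A B]
    (hm : (IsLocalRing.maximalIdeal A).map (algebraMap A B) = IsLocalRing.maximalIdeal B)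
    [Module.Finite (IsLocalRing.ResidueField A) (IsLocalRing.ResidueField B)]
    [Algebra.IsSeparable (IsLocalRing.ResidueField A) (IsLocalRing.ResidueField B)] :
    ∃ (P : StandardEtalePair A) (𝔮 : Ideal P.Ring) (_ : 𝔮.IsPrime) (I : Ideal (Localization.AtPrime 𝔮)),
      Nonempty (B ≃ₐ[A] (Localization.AtPrime 𝔮 ⧸ I)) := by
  let C := Algebra.EssFiniteType.subalgebra A B
  let q : Ideal C := (IsLocalRing.maximalIdeal B).comap (algebraMap C B)
  have hunit : ∀ x : C, IsUnit (algebraMap C B x) ↔ x ∈ q.primeCompl := fun x => by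
    show _ ↔ ¬ algebraMap C B x ∈ IsLocalRing.maximalIdeal B
    rw [IsLocalRing.mem_maximalIdeal, mem_nonunits_iff, not_not]
  haveI : IsLocalization.AtPrime B q := by
    have : Algebra.EssFiniteType.submonoid A B = q.primeCompl := SetLike.ext fun x => hunit x
    show IsLocalization q.primeCompl B
    rw [← this]
    infer_instance
  let e : Localization.AtPrime q ≃ₐ[A] B :=
    (IsLocalization.algEquiv q.primeCompl (Localization.AtPrime q) B).restrictScalars A
  haveI : Algebra.FormallyUnramified A B :=
    Algebra.FormallyUnramified.iff_map_maximalIdeal_eq.mpr ⟨inferInstance, hm⟩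
  haveI : Algebra.IsUnramifiedAt A q := Algebra.FormallyUnramified.of_equiv e.symm
  obtain ⟨f, hf, P, φ, hφ⟩ := Algebra.IsUnramifiedAt.exists_hasStandardEtaleSurjectionOn (R := A) q
  let Cf := Localization.Away f
  have hle : Submonoid.powers f ≤ q.primeCompl := Submonoid.powers_le.mpr hf
  letI : Algebra Cf B := IsLocalization.localizationAlgebraOfSubmonoidLe Cf B _ _ hle
  haveI : IsScalarTower C Cf B := IsLocalization.localization_isScalarTower_of_submonoid_le Cf B _ _ hle
  haveI : IsScalarTower A Cf B := IsScalarTower.to₁₃₄ A C Cf B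
  haveI hloc := IsLocalization.isLocalization_of_submonoid_le Cf B _ _ hle
  let g : P.Ring →ₐ[A] B := (IsScalarTower.toAlgHom A Cf B).comp φ
  let 𝔮 : Ideal P.Ring := (IsLocalRing.maximalIdeal B).comap g
  have hg : ∀ y : 𝔮.primeCompl, IsUnit (g y) := fun y => IsLocalRing.notMem_maximalIdeal.mp y.2
  let ψ : Localization.AtPrime 𝔮 →ₐ[A] B := IsLocalization.liftAlgHom (M := 𝔮.primeCompl) hg
  have hψ : Function.Surjective ψ := fun b => by
    obtain ⟨c, ⟨s, hs⟩, rfl⟩ := IsLocalization.exists_mk'_eq (q.primeCompl.map (algebraMap C Cf)) b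
    obtain ⟨x, rfl⟩ := hφ c
    obtain ⟨y, rfl⟩ := hφ s
    have hy : IsUnit (algebraMap Cf B (φ y)) :=
      IsLocalization.map_units B (⟨φ y, hs⟩ : q.primeCompl.map (algebraMap C Cf))
    refine ⟨IsLocalization.mk' _ x (⟨y, fun h => (IsLocalRing.mem_maximalIdeal _).mp h hy⟩ : 𝔮.primeCompl), ?_⟩
    rw [IsLocalization.liftAlgHom_apply, IsLocalization.lift_mk'_spec]
    exact (IsLocalization.mk'_spec' B (φ x) (⟨φ y, hs⟩ : q.primeCompl.map (algebraMap C Cf))).symm
  exact ⟨P, 𝔮, inferInstance, RingHom.ker ψ, ⟨(Ideal.quotientKerAlgEquivOfSurjective hψ).symm⟩⟩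

end Groth.Agent.S9564
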