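import Groth.Statements.S9568
import Mathlib.RingTheory.Kaehler.Basic
import Mathlib.Algebra.Module.LocalizedModule.Submodule
import Mathlib.LinearAlgebra.TensorProduct.Quotient

set_option autoImplicit false
universe u
open EtLocal

namespace Groth.Agent.S9568

/-- Let A be a ring, φ a surjection from the polynomial ring P = A[x_1, …, x_n] onto an A-algebra B with
kernel I, q a prime of B and 𝔮 its preimage in P. Then the localization at q of the module of
differentials Ω_{B/A} vanishes if and only if the images of the differentials dg, g ∈ I, span the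
localization of Ω_{P/A} at 𝔮 over P_𝔮. (Geometrically: for f locally of finite type, the stalk of
Ω_{X/Y} at x vanishes iff near x the scheme X is a closed subscheme of an affine space over the base
cut out by an ideal whose germs at the point have differentials generating the stalk of Ω of the
affine space; the published statement also lists the equivalence with f being unramified at x and
with the diagonal being a local isomorphism at x, which this row does not restate. The published
statement asks for one such presentation near the point; this row states the equivalence for every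
presentation, which is what the published proof shows and which implies the existential form.) -/
theorem result {A B : Type u} [CommRing A] [CommRing B]
    [Algebra A B] (n : ℕ) (φ : MvPolynomial (Fin n) A →ₐ[A] B) (hφ : Function.Surjective φ)
    (q : Ideal B) [q.IsPrime] :
    Subsingleton (LocalizedModule q.primeCompl (KaehlerDifferential A B)) ↔
      Submodule.span (Localization.AtPrime (q.comap φ.toRingHom))
        ((LocalizedModule.mkLinearMap (q.comap φ.toRingHom).primeCompl
            (KaehlerDifferential A (MvPolynomial (Fin n) A))) ''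
          ((KaehlerDifferential.D A (MvPolynomial (Fin n) A)) '' (RingHom.ker φ.toRingHom : Set (MvPolynomial (Fin n) A)))) = ⊤ := by
  letI alg := φ.toRingHom.toAlgebra
  haveI : IsScalarTower A (MvPolynomial (Fin n) A) B :=
    IsScalarTower.of_algebraMap_eq fun a => (φ.commutes a).symm
  let π := KaehlerDifferential.map A A (MvPolynomial (Fin n) A) B
  let N : Submodule (MvPolynomial (Fin n) A) (KaehlerDifferential A (MvPolynomial (Fin n) A)) :=
    Submodule.span _ ((KaehlerDifferential.D A (MvPolynomial (Fin n) A)) ''
      (RingHom.ker φ.toRingHom : Set (MvPolynomial (Fin n) A)))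
  have hI : ∀ g ∈ RingHom.ker φ.toRingHom, ∀ ω, g • ω ∈ N := by
    intro g hg ω
    have htop := KaehlerDifferential.span_range_derivation A (MvPolynomial (Fin n) A)
    have hω : ω ∈ Submodule.span (MvPolynomial (Fin n) A)
        (Set.range (KaehlerDifferential.D A (MvPolynomial (Fin n) A))) := htop ▸ Submodule.mem_top
    clear htop
    induction hω using Submodule.span_induction with
    | mem w hw =>
      obtain ⟨x, rfl⟩ := hw
      have e : g • KaehlerDifferential.D A (MvPolynomial (Fin n) A) x =
          KaehlerDifferential.D A (MvPolynomial (Fin n) A) (g * x) -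
            x • KaehlerDifferential.D A (MvPolynomial (Fin n) A) g := by
        rw [Derivation.leibniz, add_sub_cancel_right]
      rw [e]
      exact N.sub_mem (Submodule.subset_span ⟨_, Ideal.mul_mem_right _ _ hg, rfl⟩)
        (N.smul_mem _ (Submodule.subset_span ⟨g, hg, rfl⟩))
    | zero => rw [smul_zero]; exact N.zero_mem
    | add a b _ _ ha hb => rw [smul_add]; exact N.add_mem ha hb
    | smul c a _ ha => rw [smul_comm]; exact N.smul_mem c ha
  have hker : LinearMap.ker π = N := by
    refine le_antisymm (fun ω hω => ?_) (Submodule.span_le.mpr ?_)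
    · have h1 : (1 : B) ⊗ₜ[MvPolynomial (Fin n) A] ω ∈
          (LinearMap.ker (KaehlerDifferential.mapBaseChange A (MvPolynomial (Fin n) A) B)).restrictScalars
            (MvPolynomial (Fin n) A) := by
        show KaehlerDifferential.mapBaseChange A (MvPolynomial (Fin n) A) B (1 ⊗ₜ ω) = 0
        rw [KaehlerDifferential.mapBaseChange_tmul, one_smul]
        exact hω
      rw [← KaehlerDifferential.range_kerCotangentToTensor A (MvPolynomial (Fin n) A) B hφ] at h1
      obtain ⟨x, hx⟩ := h1
      obtain ⟨x, rfl⟩ := Ideal.toCotangent_surjective _ x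
      rw [KaehlerDifferential.kerCotangentToTensor_toCotangent] at hx
      let e : (MvPolynomial (Fin n) A ⧸ RingHom.ker φ.toRingHom) ≃ₐ[MvPolynomial (Fin n) A] B :=
        Ideal.quotientKerAlgEquivOfSurjective (f := Algebra.ofId (MvPolynomial (Fin n) A) B) hφ
      have h2 := congrArg (fun z => TensorProduct.quotTensorEquivQuotSMul _ (RingHom.ker φ.toRingHom)
        (TensorProduct.congr e.symm.toLinearEquiv (LinearEquiv.refl _ _) z)) hx
      simp only [TensorProduct.congr_tmul, AlgEquiv.toLinearEquiv_apply, map_one, LinearEquiv.refl_apply,
        TensorProduct.quotTensorEquivQuotSMul_mk_one_tmul] at h2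
      rw [Submodule.Quotient.eq] at h2
      have h3 : RingHom.ker φ.toRingHom • (⊤ : Submodule (MvPolynomial (Fin n) A)
          (KaehlerDifferential A (MvPolynomial (Fin n) A))) ≤ N :=
        Submodule.smul_le.mpr fun g hg w _ => hI g hg w
      have h4 := N.sub_mem (Submodule.subset_span ⟨x.1, x.2, rfl⟩ : _ ∈ N) (h3 h2)
      rwa [sub_sub_cancel] at h4
    · rintro _ ⟨g, hg, rfl⟩
      rw [SetLike.mem_coe, LinearMap.mem_ker, KaehlerDifferential.map_D]
      exact (congrArg (KaehlerDifferential.D A B) (RingHom.mem_ker.mp hg)).trans (map_zero _)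
  have hsurj : Function.Surjective π := KaehlerDifferential.map_surjective_of_surjective A A _ B hφ
  rw [IsLocalizedModule.subsingleton_iff q.primeCompl (LocalizedModule.mkLinearMap q.primeCompl _)]
  rw [← Submodule.localized'_span (Localization.AtPrime (q.comap φ.toRingHom))
    (q.comap φ.toRingHom).primeCompl (LocalizedModule.mkLinearMap _ _), Submodule.eq_top_iff']
  simp only [Submodule.mem_localized']
  constructor
  · intro h z
    obtain ⟨⟨ω, s⟩, rfl⟩ := IsLocalizedModule.mk'_surjective (q.comap φ.toRingHom).primeCompl
      (LocalizedModule.mkLinearMap (q.comap φ.toRingHom).primeCompl _) z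
    obtain ⟨r, hr, h0⟩ := h (π ω)
    obtain ⟨t, rfl⟩ := hφ r
    have hmem : t • ω ∈ N := by
      rw [← hker, LinearMap.mem_ker, map_smul]
      exact h0
    refine ⟨t • ω, hmem, ⟨t, hr⟩ * s, ?_⟩
    exact IsLocalizedModule.mk'_cancel_left
      (f := LocalizedModule.mkLinearMap (q.comap φ.toRingHom).primeCompl
        (KaehlerDifferential A (MvPolynomial (Fin n) A))) (m := ω)
      (s₁ := (⟨t, hr⟩ : (q.comap φ.toRingHom).primeCompl)) (s₂ := s)
  · intro h m
    obtain ⟨ω, rfl⟩ := hsurj m
    obtain ⟨m', hm', s, hs⟩ := h (LocalizedModule.mkLinearMap _ _ ω)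
    rw [IsLocalizedModule.mk'_eq_iff, ← LinearMap.map_smul_of_tower] at hs
    obtain ⟨c, hc⟩ := (IsLocalizedModule.eq_iff_exists (q.comap φ.toRingHom).primeCompl _).mp hs
    refine ⟨φ ((c * s : (q.comap φ.toRingHom).primeCompl) : MvPolynomial (Fin n) A), (c * s).2, ?_⟩
    show algebraMap (MvPolynomial (Fin n) A) B _ • π ω = 0
    rw [algebraMap_smul, ← map_smul, ← LinearMap.mem_ker, hker, Submonoid.coe_mul, mul_smul]
    have := N.smul_mem (c : MvPolynomial (Fin n) A) hm'
    rw [Submonoid.smul_def, Submonoid.smul_def, Submonoid.smul_def] at hc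
    rwa [hc] at this

end Groth.Agent.S9568
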