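import Groth.Agent.L18.KernelTensorGG
import Groth.Statements.S9569
-- import your own Groth.Agent.* helpers here

set_option autoImplicit false
universe u
open CategoryTheory CategoryTheory.Limits AlgebraicGeometry TopologicalSpace Opposite
open Constr

namespace Groth.Agent.S9569

/-- Let X be a scheme, L an invertible O_X-module and s_0, …, s_n global sections of L, given as module
maps O_X → L, which generate L: the map O_X^{n+1} → L they induce is an epimorphism. Let F be the
kernel of that map. Then F ⊗ L is globally generated, i.e. it is a quotient of a free O_X-module. -/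
theorem result (X : Scheme.{u}) (L : X.Modules) (hL : PicF.IsInvertible L)
    (n : ℕ) (s : Fin (n + 1) → (Coh.structureModule X ⟶ L))
    (hs : Epi (Sigma.desc s : FlatMod.freeMod X (n + 1) ⟶ L)) :
    Curv2.IsGloballyGenerated (CohB1.tensorMod (kernel (Sigma.desc s : FlatMod.freeMod X (n + 1) ⟶ L)) L) := by
  haveI := hs
  refine Groth.L18.KernelTensorGG.isGloballyGenerated_tensor_kernel ?_ hL _
  haveI : HasColimitsOfSize.{u, u} X.Modules := (inferInstance : HasColimitsOfSize.{u, u} (SheafOfModules X.ringCatSheaf))
  refine ⟨ULift.{u} (Fin (n + 1)),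
    Limits.Sigma.desc fun i => Limits.Sigma.ι (fun _ : Fin (n + 1) => Coh.structureModule X) i.down, ?_⟩
  refine Preadditive.epi_of_cancel_zero _ fun {H} g hg => ?_
  refine @Limits.Sigma.hom_ext _ X.Modules _ (fun _ : Fin (n + 1) => Coh.structureModule X) _ _ _ _ fun i => ?_
  exact ((congrArg (· ≫ g) (Limits.Sigma.ι_desc
      (fun i : ULift.{u} (Fin (n + 1)) => Limits.Sigma.ι (fun _ : Fin (n + 1) => Coh.structureModule X) i.down)
      ⟨i⟩).symm).trans (Category.assoc _ _ _)).trans
    ((congrArg (_ ≫ ·) hg).trans (comp_zero.trans comp_zero.symm))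

end Groth.Agent.S9569
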