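import Groth.Agent.L18.GrMod.CoeffBaseChange
import Groth.Agent.L18.RelProj.Localization
import Groth.Statements.S9573
-- import your own Groth.Agent.* helpers here

set_option autoImplicit false
universe u
open CategoryTheory CategoryTheory.Limits AlgebraicGeometry TopologicalSpace Opposite
open scoped HomogeneousIdeal
open Constr

namespace Groth.Agent.S9573

set_option backward.isDefEq.respectTransparency false
set_option backward.isDefEq.respectTransparency.types false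

theorem twist_iso_aux {R A : Type u} [CommRing R] [CommRing A] [Algebra R A] (𝒜 : ℕ → Submodule R A) [GradedAlgebra 𝒜]
    {B : Type u} [CommRing B] [Algebra R B] (ℬ : ℕ → Submodule R B) [GradedAlgebra ℬ] (ψ : 𝒜 →+*ᵍ ℬ)
    {A₀ L : Type u} [CommRing A₀] [CommRing L] [Algebra A₀ L] [Algebra A₀ A] [Algebra A B] [Algebra A₀ B]
    [IsScalarTower A₀ A B] [Algebra L B] [IsScalarTower A₀ L B]
    (g₀ : A₀) [IsLocalization.Away g₀ L] [IsLocalization.Away (algebraMap A₀ A g₀) B]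
    (hψA : ∀ a : A, ψ a = algebraMap A B a) (hA0 : ∀ c : A₀, algebraMap A₀ A c ∈ 𝒜 0)
    (hdeg : ∀ (b : B) (k : ℕ) (a : A), a ∈ 𝒜 0 → ψ (algebraMap A₀ A g₀) ^ k * b = ψ a → b ∈ ℬ 0)
    (hψ : HomogeneousIdeal.irrelevant ℬ ≤ (HomogeneousIdeal.irrelevant 𝒜).map ψ) (n : ℤ) :
    IsIso (((Scheme.Modules.pullbackPushforwardAdjunction (Proj.map ψ hψ)).homEquiv _ _).symm
      (GrTwist.comap ψ hψ n)) := by
  have hsub : Algebra.algebraMapSubmonoid A (Submonoid.powers g₀) = Submonoid.powers (algebraMap A₀ A g₀) :=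
    Submonoid.map_powers _ _
  haveI : IsLocalization (Algebra.algebraMapSubmonoid A (Submonoid.powers g₀)) B := by
    rw [hsub]; infer_instance
  haveI hm : IsLocalizedModule (Submonoid.powers g₀) (IsScalarTower.toAlgHom A₀ A B).toLinearMap :=
    (isLocalizedModule_iff_isLocalization (S := Submonoid.powers g₀)).2 inferInstance
  have hB0 : ∀ r : L, algebraMap L B r ∈ ℬ 0 := fun r => by
    obtain ⟨⟨c, ⟨_, k, rfl⟩⟩, he⟩ := IsLocalization.surj (Submonoid.powers g₀) r
    refine hdeg _ k _ (hA0 c) ?_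
    have h : algebraMap L B (r * algebraMap A₀ L (g₀ ^ k)) = algebraMap L B (algebraMap A₀ L c) :=
      congrArg _ he
    rw [map_mul, ← IsScalarTower.algebraMap_apply A₀ L B, ← IsScalarTower.algebraMap_apply A₀ L B,
      IsScalarTower.algebraMap_apply A₀ A B, IsScalarTower.algebraMap_apply A₀ A B c, map_pow, map_pow] at h
    rw [hψA, hψA, mul_comm]
    exact h
  rw [Groth.L18.GrM.CBC.comap_twist_eq ψ hψ n]
  exact Groth.L18.GrM.CBC.isIso_adjunct_comap (R' := A₀) (R := L) ψ hψ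
    (IsScalarTower.toAlgHom A₀ A B).toLinearMap (fun a => (hψA a).symm)
    (IsLocalizedModule.isBaseChange (Submonoid.powers g₀) L _) hA0 hB0
    (fun c => (hψA _).trans (IsScalarTower.algebraMap_apply A₀ A B c).symm) n

theorem twist_iso {R A : Type u} [CommRing R] [CommRing A] [Algebra R A] (𝒜 : ℕ → Submodule R A) [GradedAlgebra 𝒜]
    {B : Type u} [CommRing B] [Algebra R B] (ℬ : ℕ → Submodule R B) [GradedAlgebra ℬ] (ψ : 𝒜 →+*ᵍ ℬ)
    (g : A) (hg : g ∈ 𝒜 0) [Algebra A B] (hψA : ∀ a : A, ψ a = algebraMap A B a) [IsLocalization.Away g B]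
    (hdeg : ∀ (n : ℕ) (b : B), b ∈ ℬ n ↔ ∃ (k : ℕ) (a : A), a ∈ 𝒜 n ∧ ψ g ^ k * b = ψ a)
    (hψ : HomogeneousIdeal.irrelevant ℬ ≤ (HomogeneousIdeal.irrelevant 𝒜).map ψ) (n : ℤ) :
    IsIso (((Scheme.Modules.pullbackPushforwardAdjunction (Proj.map ψ hψ)).homEquiv _ _).symm
      (GrTwist.comap ψ hψ n)) := by
  classical
  letI b0 : Algebra (𝒜 0) B := ((algebraMap A B).comp (algebraMap (𝒜 0) A)).toAlgebra
  haveI : IsScalarTower (𝒜 0) A B := IsScalarTower.of_algebraMap_eq fun _ => rfl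
  have hu : IsUnit (algebraMap (𝒜 0) B ⟨g, hg⟩) := IsLocalization.Away.algebraMap_isUnit (S := B) g
  letI b1 : Algebra (Localization.Away (⟨g, hg⟩ : 𝒜 0)) B :=
    (IsLocalization.Away.lift (⟨g, hg⟩ : 𝒜 0) hu).toAlgebra
  haveI : @IsScalarTower (𝒜 0) (Localization.Away (⟨g, hg⟩ : 𝒜 0)) B Algebra.toSMul b1.toSMul b0.toSMul :=
    IsScalarTower.of_algebraMap_eq fun c => (IsLocalization.Away.lift_eq (⟨g, hg⟩ : 𝒜 0) hu c).symm
  haveI : IsLocalization.Away (algebraMap (𝒜 0) A ⟨g, hg⟩) B :=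
    (inferInstance : IsLocalization.Away g B)
  exact twist_iso_aux 𝒜 ℬ ψ (A₀ := 𝒜 0) (L := Localization.Away (⟨g, hg⟩ : 𝒜 0)) ⟨g, hg⟩ hψA (fun c => c.2)
    (fun b k a ha h => (hdeg 0 b).2 ⟨k, a, ha, h⟩) hψ n

/-- Let A be a graded ring, g an element of degree zero and ψ : A → B = A_g the localization map, B
carrying the induced grading (B_n consists of the b with g^k b = ψ(a) for some k and some a ∈ A_n).
Then the morphism r_ψ : Proj B → Proj A induced by ψ is everywhere defined, it is an open immersion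
whose image is the inverse image of the basic open D(g) of Spec A_0 under the structure morphism
Proj A → Spec A_0, and for every integer n the canonical map θ : r_ψ^* O_{Proj A}(n) → O_{Proj B}(n)
(adjoint to a/f ↦ ψ(a)/ψ(f)) is an isomorphism. (The containment of B_+ in the ideal generated by
ψ(A_+), through which r_ψ is Proj.map here, follows from the other hypotheses and is carried as
data.) -/
theorem result {R A : Type u} [CommRing R] [CommRing A] [Algebra R A] (𝒜 : ℕ → Submodule R A) [GradedAlgebra 𝒜]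
    {B : Type u} [CommRing B] [Algebra R B] (ℬ : ℕ → Submodule R B) [GradedAlgebra ℬ] (ψ : 𝒜 →+*ᵍ ℬ)
    (g : A) (hg : g ∈ 𝒜 0) [Algebra A B] (hψA : ∀ a : A, ψ a = algebraMap A B a) [IsLocalization.Away g B]
    (hdeg : ∀ (n : ℕ) (b : B), b ∈ ℬ n ↔ ∃ (k : ℕ) (a : A), a ∈ 𝒜 n ∧ ψ g ^ k * b = ψ a)
    (hψ : HomogeneousIdeal.irrelevant ℬ ≤ (HomogeneousIdeal.irrelevant 𝒜).map ψ) :
    IsOpenImmersion (Proj.map ψ hψ) ∧
      Set.range (Proj.map ψ hψ).base =
        (Proj.toSpecZero 𝒜).base ⁻¹' (PrimeSpectrum.basicOpen (⟨g, hg⟩ : 𝒜 0) : Set (PrimeSpectrum (𝒜 0))) ∧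
      ∀ n : ℤ, IsIso (((Scheme.Modules.pullbackPushforwardAdjunction (Proj.map ψ hψ)).homEquiv _ _).symm
        (GrTwist.comap ψ hψ n)) := by
  have hloc : letI := (ψ : A →+* B).toAlgebra; IsLocalization.Away g B := by
    have e : (ψ : A →+* B).toAlgebra = (inferInstance : Algebra A B) := Algebra.algebra_ext _ _ hψA
    rw [e]
    infer_instance
  refine ⟨Groth.L18.RPLoc.map_isOpenImmersion ψ hψ g hg hloc,
    Groth.L18.RPLoc.range_map ψ hψ g hg hloc, fun n => ?_⟩
  exact twist_iso 𝒜 ℬ ψ g hg hψA hdeg hψ n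

end Groth.Agent.S9573
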