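import Groth.Agent.L18.GrTildeQCoh
import Groth.Agent.L16.ProjSpace.Twist
import Groth.Statements.S9580
-- import your own Groth.Agent.* helpers here

set_option autoImplicit false
universe u
open CategoryTheory CategoryTheory.Limits AlgebraicGeometry TopologicalSpace Opposite
open Constr

namespace Groth.Agent.S9580

/-- Let S be a graded ring, X = Proj S and Y ⊆ X a quasi-compact open subscheme. Then there is an
integer d ≥ 1 such that Y is contained in the open W_d, the union of the standard opens D_+(ab) over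
homogeneous a, b with deg a = deg b + d, and such that the restriction O_Y(nd) of O_X(nd) to Y is
invertible for every integer n. (The remaining assertions — the multiplication maps among the
O_Y(nd) and M~(nd) are isomorphisms, D_+(f) ∩ Y = Y_s, and the loci Y_s form a basis — are not
stated here.) -/
theorem result {R A : Type u} [CommRing R] [CommRing A] [Algebra R A] (𝒜 : ℕ → Submodule R A) [GradedAlgebra 𝒜]
    (Y : (Proj 𝒜).Opens) (hY : IsCompact (Y : Set (Proj 𝒜))) :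
    ∃ d : ℕ, 0 < d ∧
      (∀ y : Proj 𝒜, y ∈ Y → ∃ (i j : ℕ) (a b : A), a ∈ 𝒜 i ∧ b ∈ 𝒜 j ∧ i = j + d ∧ y ∈ Proj.basicOpen 𝒜 (a * b)) ∧
      ∀ n : ℤ, PicF.IsInvertible ((Twist.twist 𝒜 (n * d)).restrict Y.ι) := by
  classical
  have hg : ∀ y : Proj 𝒜, ∃ (e : ℕ) (g : A), 0 < e ∧ g ∈ 𝒜 e ∧ g ∉ y.asHomogeneousIdeal :=
    fun y => Groth.L18.GrT.exists_hom_pos (show ProjectiveSpectrum 𝒜 from y)
  choose e g he hg hgy using hg
  obtain ⟨T, hT⟩ := hY.elim_finite_subcover (fun y : Proj 𝒜 => (Proj.basicOpen 𝒜 (g y) : Set (Proj 𝒜)))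
    (fun y => (Proj.basicOpen 𝒜 (g y)).2) (fun y _ => Set.mem_iUnion.2 ⟨y, (Proj.mem_basicOpen _ _ _).2 (hgy y)⟩)
  refine ⟨∏ y ∈ T, e y, Finset.prod_pos fun y _ => he y, ?_⟩
  have hcov : ∀ x ∈ Y, ∃ f : 𝒜 (∏ y ∈ T, e y), x ∈ Proj.basicOpen 𝒜 f.1 := by
    intro x hx
    obtain ⟨y, hyT, hxy⟩ := Set.mem_iUnion₂.1 (hT hx)
    obtain ⟨k, hk⟩ := Finset.dvd_prod_of_mem e hyT
    refine ⟨⟨g y ^ k, by rw [hk, mul_comm]; simpa using SetLike.pow_mem_graded k (hg y)⟩,
      (Proj.mem_basicOpen _ _ _).2 fun h => ?_⟩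
    exact (Proj.mem_basicOpen _ _ _).1 hxy (x.isPrime.mem_of_pow_mem k h)
  refine ⟨fun x hx => ?_, fun n => Groth.L16.ProjTwist.isInvertible_restrict_twist 𝒜 Y _ n hcov⟩
  obtain ⟨f, hf⟩ := hcov x hx
  exact ⟨_, 0, f.1, 1, f.2, SetLike.GradedOne.one_mem, (Nat.zero_add _).symm, by rwa [mul_one]⟩

end Groth.Agent.S9580
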