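import Groth.Statements.S9581
import Groth.Agent.L03.WeakAss

set_option autoImplicit false
universe u
open CAlg

open Groth.L03.WeakAss

namespace Groth.Agent.S9581

/-- (1) ⇔ (3): for a ring R, an R-module M and a prime p of R, the prime p is weakly associated to M
(minimal among the primes containing the annihilator of some element of M) if and only if the
localization M_p contains an element whose annihilator in R_p has radical equal to the maximal ideal
p R_p. -/
theorem result {R : Type u} [CommRing R] (M : Type u) [AddCommGroup M] [Module R M] (p : Ideal R) [p.IsPrime] :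
    p ∈ FlatCA.weakAss R M ↔ IsAssociatedPrime (IsLocalRing.maximalIdeal (Localization.AtPrime p)) (LocalizedModule p.primeCompl M) := by
  have hdis : Disjoint (p.primeCompl : Set R) (p : Set R) := disjoint_compl_left
  rw [IsAssociatedPrime, Submodule.isAssociatedPrime_def]
  constructor
  · intro hp
    have h2 := (mem_weakAss_localizedModule_iff (M := M) p.primeCompl).2 ⟨hp, hdis⟩
    rw [weakAss_restrict_localization p.primeCompl] at h2
    obtain ⟨q, ⟨z, hz⟩, hqp⟩ := h2
    have hq : q = IsLocalRing.maximalIdeal _ := by
      rw [← IsLocalization.map_under p.primeCompl (Localization.AtPrime p) q, Ideal.under_def, hqp,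
        Localization.AtPrime.map_eq_maximalIdeal]
    subst hq
    refine ⟨inferInstance, z, ?_⟩
    have hrad : (annE (Localization.AtPrime p) z).radical = IsLocalRing.maximalIdeal _ := by
      rw [Ideal.radical_eq_sInf]
      refine le_antisymm (sInf_le ⟨hz.le, inferInstance⟩) (le_sInf fun q ⟨hq, hqp'⟩ => ?_)
      exact hz.2 ⟨hqp', hq⟩ (IsLocalRing.le_maximalIdeal hqp'.ne_top)
    rw [← hrad]
    congr 1
    ext r
    rw [mem_annE, Submodule.mem_colon_singleton, Submodule.mem_bot]
  · rintro ⟨-, z, hz⟩
    refine ((mem_weakAss_localizedModule_iff (M := M) p.primeCompl).1 ?_).1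
    rw [weakAss_restrict_localization p.primeCompl]
    refine ⟨IsLocalRing.maximalIdeal _, ⟨z, ?_⟩, Localization.AtPrime.under_maximalIdeal⟩
    have h1 : annE (Localization.AtPrime p) z =
        Submodule.colon (⊥ : Submodule (Localization.AtPrime p) _) {z} := by
      ext r
      rw [mem_annE, Submodule.mem_colon_singleton, Submodule.mem_bot]
    change _ ∈ (annE (Localization.AtPrime p) z).minimalPrimes
    rw [h1, ← Ideal.radical_minimalPrimes, ← hz, Ideal.minimalPrimes_eq_subsingleton_self]
    rfl

end Groth.Agent.S9581
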