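import Groth.Statements.S9582
import Groth.Agent.L03.WeakAss

set_option autoImplicit false
universe u
open CAlg

open Groth.L03.WeakAss

namespace Groth.Agent.S9582

/-- For a reduced ring R, the primes weakly associated to the R-module R (primes minimal over the
annihilator of some element) are exactly the minimal primes of R. -/
theorem result {R : Type u} [CommRing R] [IsReduced R] :
    FlatCA.weakAss R R = minimalPrimes R := by
  ext p
  constructor
  · rintro ⟨x, hx⟩
    obtain ⟨hp, hle, h⟩ := minimalPrimes_iff.1 hx
    have hxp : x ∉ p := by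
      intro hxp
      obtain ⟨s, hs, n, hn⟩ := h x hxp
      rw [mem_annE, smul_eq_mul] at hn
      have h2 : IsNilpotent (s * x) := ⟨n + 1, by
        calc (s * x) ^ (n + 1) = s ^ n * (s * x ^ n * x) := by ring
          _ = 0 := by rw [hn, mul_zero]⟩
      exact hs (hle (mem_annE.2 (h2.eq_zero)))
    refine minimalPrimes_iff.2 ⟨hp, bot_le, fun a ha => ?_⟩
    obtain ⟨s, hs, n, hn⟩ := h a ha
    rw [mem_annE, smul_eq_mul] at hn
    refine ⟨s * x, fun hsx => (hp.mem_or_mem hsx).elim hs hxp, n, Ideal.mem_bot.2 ?_⟩
    linear_combination hn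
  · intro hp
    exact ⟨1, by rwa [show (Submodule.span R {(1 : R)}).annihilator = ⊥ from
      eq_bot_iff.2 fun r hr => by simpa using mem_annE.1 hr]⟩

end Groth.Agent.S9582
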