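import Groth.Statements.S9583
import Groth.Agent.L03.WeakAss

set_option autoImplicit false
universe u
open CAlg

open Groth.L03.WeakAss

namespace Groth.Agent.S9583

/-- For a ring R and a short exact sequence 0 → M' → M → M'' → 0 of R-modules, every prime weakly
associated to M' is weakly associated to M, and every prime weakly associated to M is weakly
associated to M' or to M''. -/
theorem result {R : Type u} [CommRing R] {M' M M'' : Type u} [AddCommGroup M'] [Module R M'] [AddCommGroup M] [Module R M] [AddCommGroup M''] [Module R M''] (f : M' →ₗ[R] M) (g : M →ₗ[R] M'') (hf : Function.Injective f) (hg : Function.Surjective g) (hfg : Function.Exact f g) :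
    FlatCA.weakAss R M' ⊆ FlatCA.weakAss R M ∧ FlatCA.weakAss R M ⊆ FlatCA.weakAss R M' ∪ FlatCA.weakAss R M'' := by
  refine ⟨weakAss_subset_of_injective f hf, ?_⟩
  rintro p ⟨m, hm⟩
  obtain ⟨hp, hle, h⟩ := minimalPrimes_iff.1 hm
  by_cases hg' : annE R (g m) ≤ p
  · refine Or.inr ⟨g m, minimalPrimes_iff.2 ⟨hp, hg', fun a ha => ?_⟩⟩
    obtain ⟨s, hs, n, hn⟩ := h a ha
    refine ⟨s, hs, n, mem_annE.2 ?_⟩
    rw [← map_smul, mem_annE.1 hn, map_zero]
  · obtain ⟨s, hs, hsp⟩ := SetLike.not_le_iff_exists.1 hg'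
    obtain ⟨m', hm'⟩ := (hfg (s • m)).1 (by rw [map_smul]; exact mem_annE.1 hs)
    refine Or.inl ⟨m', minimalPrimes_iff.2 ⟨hp, fun a ha => ?_, fun a ha => ?_⟩⟩
    · have : a • s • m = 0 := by rw [← hm', ← map_smul, mem_annE.1 ha, map_zero]
      rw [smul_smul] at this
      exact (hp.mem_or_mem (hle (mem_annE.2 this))).resolve_right hsp
    · obtain ⟨t, ht, n, hn⟩ := h a ha
      refine ⟨t, ht, n, mem_annE.2 (hf ?_)⟩
      rw [map_smul, hm', smul_comm, mem_annE.1 hn, smul_zero, map_zero]

end Groth.Agent.S9583
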