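import Groth.Statements.S9584
import Groth.Agent.L03.WeakAss

set_option autoImplicit false
universe u
open CAlg

open Groth.L03.WeakAss

namespace Groth.Agent.S9584

/-- For a ring R and an R-module M, M has no weakly associated prime (no prime minimal over the
annihilator of an element) if and only if M = 0. -/
theorem result {R : Type u} [CommRing R] (M : Type u) [AddCommGroup M] [Module R M] :
    FlatCA.weakAss R M = ∅ ↔ Subsingleton M := by
  constructor
  · intro h
    refine ⟨fun a b => sub_eq_zero.1 (by_contra fun hne => ?_)⟩
    obtain ⟨p, hp, -⟩ := exists_mem_weakAss_of_ne_zero (R := R) hne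
    rw [h] at hp
    exact hp
  · intro h
    rw [Set.eq_empty_iff_forall_notMem]
    rintro p ⟨m, hm⟩
    refine hm.isPrime.ne_top (top_le_iff.1 ?_)
    refine le_trans (fun r _ => mem_annE.2 ?_) hm.le
    exact Subsingleton.elim _ _

end Groth.Agent.S9584
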