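import Groth.Statements.S9585
import Groth.Agent.L03.WeakAss

set_option autoImplicit false
universe u
open CAlg

open Groth.L03.WeakAss

namespace Groth.Agent.S9585

/-- For a ring R and an R-module M, an element of R lies in some weakly associated prime of M exactly
when multiplication by it on M is not injective; in other words the union of the weakly associated
primes of M equals the set of zerodivisors on M. -/
theorem result {R : Type u} [CommRing R] (M : Type u) [AddCommGroup M] [Module R M] :
    ⋃ q ∈ FlatCA.weakAss R M, (q : Set R) = {f : R | ¬ IsSMulRegular M f} := by
  ext f
  simp only [Set.mem_iUnion, SetLike.mem_coe, exists_prop, Set.mem_setOf_eq]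
  exact ⟨fun ⟨q, hq, hf⟩ => not_isSMulRegular_of_mem_weakAss hq hf,
    exists_mem_weakAss_of_not_isSMulRegular⟩

end Groth.Agent.S9585
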