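import Groth.Statements.S9591
import Groth.Agent.L03.WeakAss

set_option autoImplicit false
universe u
open CAlg

open Groth.L03.WeakAss

namespace Groth.Agent.S9591

/-- For a ring R and an R-module M, the map from M to the product of the localizations M_p over all
primes p weakly associated to M is injective: an element vanishing in every such M_p is zero. -/
theorem result {R : Type u} [CommRing R] {M : Type u} [AddCommGroup M] [Module R M] (x : M) (hx : ∀ (p : Ideal R) [p.IsPrime], p ∈ FlatCA.weakAss R M → LocalizedModule.mkLinearMap p.primeCompl M x = 0) :
    x = 0 := by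
  by_contra hne
  obtain ⟨p, hp, hle⟩ := exists_mem_weakAss_of_ne_zero (R := R) hne
  haveI := isPrime_of_mem_weakAss hp
  have := hx p hp
  rw [LocalizedModule.mkLinearMap_apply, ← LocalizedModule.zero_mk (1 : p.primeCompl),
    LocalizedModule.mk_eq] at this
  obtain ⟨u, hu⟩ := this
  simp only [one_smul, smul_zero, Submonoid.smul_def] at hu
  exact u.2 (hle (mem_annE.2 hu))

end Groth.Agent.S9591
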