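import Groth.Statements.S9596
import Groth.Agent.L03.WeakAss

set_option autoImplicit false
universe u
open CAlg

open Groth.L03.WeakAss

namespace Groth.Agent.S9596

/-- For a Noetherian ring R and any R-module M, a prime which is minimal among the primes in the support
of M is an associated prime of M. -/
theorem result {R : Type u} [CommRing R] [IsNoetherianRing R] (M : Type u) [AddCommGroup M] [Module R M] (p : PrimeSpectrum R) (hp : Minimal (fun q : PrimeSpectrum R => q ∈ Module.support R M) p) :
    p.asIdeal ∈ associatedPrimes R M := by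
  obtain ⟨m, hm⟩ := Module.mem_support_iff_exists_annihilator.1 hp.prop
  have hw : p.asIdeal ∈ FlatCA.weakAss R M := by
    refine ⟨m, ⟨p.isPrime, hm⟩, fun q hq hqp => ?_⟩
    exact hp.le_of_le (y := ⟨q, hq.1⟩) (Module.mem_support_iff_exists_annihilator.2 ⟨m, hq.2⟩) hqp
  obtain ⟨hpp, x, hx⟩ := mem_ass_of_mem_weakAss_of_fg (IsNoetherian.noetherian _) hw
  rw [AssociatedPrimes.mem_iff, isAssociatedPrime_iff]
  refine ⟨hpp, x, ?_⟩
  rw [hx]
  ext r
  rw [Submodule.mem_annihilator_span_singleton, Submodule.mem_colon_singleton, Submodule.mem_bot]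

end Groth.Agent.S9596
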