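import Groth.Statements.S9597
import Mathlib.RingTheory.Ideal.AssociatedPrime.Basic
import Mathlib.RingTheory.Ideal.Quotient.Noetherian

set_option autoImplicit false
universe u
open CAlg

namespace Groth.Agent.S9597

/-- Let R be a Noetherian ring, M a finite R-module whose associated primes are pairwise incomparable
under inclusion (M has no embedded associated primes), and I the annihilator of M. Then the
associated primes of R/I, viewed as a module over itself, are again pairwise incomparable: R/I has
no embedded primes either. -/
theorem result {R : Type u} [CommRing R] [IsNoetherianRing R] (M : Type u) [AddCommGroup M] [Module R M] [Module.Finite R M] (hM : ∀ p ∈ associatedPrimes R M, ∀ q ∈ associatedPrimes R M, p ≤ q → p = q) :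
    ∀ p ∈ associatedPrimes (R ⧸ Module.annihilator R M) (R ⧸ Module.annihilator R M), ∀ q ∈ associatedPrimes (R ⧸ Module.annihilator R M) (R ⧸ Module.annihilator R M), p ≤ q → p = q := by
  classical
  obtain ⟨k, m, hm⟩ := Submodule.fg_iff_exists_fin_generating_family.1 (Module.Finite.fg_top (R := R) (M := M))
  have hmem : ∀ P ∈ associatedPrimes (R ⧸ Module.annihilator R M) (R ⧸ Module.annihilator R M),
      P.comap (Ideal.Quotient.mk _) ∈ associatedPrimes R M := by
    intro P hP
    obtain ⟨hprime, z, hz⟩ := isAssociatedPrime_iff.1 hP
    obtain ⟨x, rfl⟩ := Ideal.Quotient.mk_surjective z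
    haveI := hprime
    have hP' : (P.comap (Ideal.Quotient.mk (Module.annihilator R M))).IsPrime := inferInstance
    have hiff : ∀ r, r ∈ P.comap (Ideal.Quotient.mk (Module.annihilator R M)) ↔
        ∀ i, r • x • m i = 0 := by
      intro r
      rw [Ideal.mem_comap, hz, Submodule.mem_colon_singleton, Submodule.mem_bot, smul_eq_mul, ← map_mul,
        Ideal.Quotient.eq_zero_iff_mem, Module.mem_annihilator]
      refine ⟨fun h i => by rw [← mul_smul]; exact h _, fun h y => ?_⟩
      have hy : y ∈ Submodule.span R (Set.range m) := hm ▸ Submodule.mem_top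
      induction hy using Submodule.span_induction with
      | mem v hv => obtain ⟨i, rfl⟩ := hv; rw [mul_smul]; exact h i
      | zero => simp
      | add a b _ _ ha hb => rw [smul_add, ha, hb, add_zero]
      | smul c a _ ha => rw [smul_comm, ha, smul_zero]
    obtain ⟨i, hi⟩ : ∃ i, Submodule.colon (⊥ : Submodule R M) {x • m i} ≤
        P.comap (Ideal.Quotient.mk (Module.annihilator R M)) := by
      have hle : (Finset.univ.inf fun i => Submodule.colon (⊥ : Submodule R M) {x • m i}) ≤
          P.comap (Ideal.Quotient.mk (Module.annihilator R M)) := by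
        intro r hr
        rw [Submodule.mem_finsetInf] at hr
        exact (hiff r).2 fun i => by
          simpa [Submodule.mem_colon_singleton] using hr i (Finset.mem_univ i)
      obtain ⟨i, -, hi⟩ := hP'.inf_le'.1 hle
      exact ⟨i, hi⟩
    refine isAssociatedPrime_iff.2 ⟨hP', x • m i, le_antisymm (fun r hr => ?_) hi⟩
    simpa [Submodule.mem_colon_singleton] using (hiff r).1 hr i
  intro p hp q hq hpq
  exact Ideal.comap_injective_of_surjective _ Ideal.Quotient.mk_surjective
    (hM _ (hmem p hp) _ (hmem q hq) (Ideal.comap_mono hpq))

end Groth.Agent.S9597
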