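import Groth.Statements.S9598
import Mathlib.RingTheory.Ideal.AssociatedPrime.Finiteness
import Mathlib.RingTheory.Jacobson.Ring
import Mathlib.RingTheory.KrullDimension.Zero
import Mathlib.RingTheory.FiniteType

set_option autoImplicit false
universe u
open CAlg

namespace Groth.Agent.S9598

/-- For a field k and a finite type k-algebra S with dim S > 0, some element of S is a nonzerodivisor
and a nonunit. -/
theorem result {k S : Type u} [Field k] [CommRing S] [Algebra k S] [Algebra.FiniteType k S] (hdim : 0 < ringKrullDim S) :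
    ∃ f : S, f ∈ nonZeroDivisors S ∧ ¬ IsUnit f := by
  classical
  by_contra hcon
  simp only [not_exists, not_and, not_not] at hcon
  haveI : IsNoetherianRing S := Algebra.FiniteType.isNoetherianRing k S
  haveI : IsJacobsonRing S := isJacobsonRing_of_finiteType (A := k)
  have hfin := associatedPrimes.finite S S
  have hmax : ∀ M : Ideal S, M.IsMaximal → M ∈ associatedPrimes S S := by
    intro M hM
    have hsub : (M : Set S) ⊆ ⋃ p ∈ associatedPrimes S S, (p : Set S) := by
      rw [biUnion_associatedPrimes_eq_compl_nonZeroDivisors]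
      exact fun a ha h => hM.ne_top (Ideal.eq_top_of_isUnit_mem _ ha (hcon a h))
    rw [Ideal.subset_union_prime_finite hfin ⊥ ⊥ fun p hp _ _ => hp.isPrime] at hsub
    obtain ⟨p, hp, hle⟩ := hsub
    rwa [hM.eq_of_le hp.isPrime.ne_top hle]
  have hfinmax : {M : Ideal S | M.IsMaximal}.Finite := hfin.subset hmax
  have hz : ∀ p : Ideal S, p.IsPrime → p.IsMaximal := by
    intro p hp
    have hjac : p.jacobson = p := IsJacobsonRing.out inferInstance hp.isRadical
    have hle : (hfinmax.toFinset.filter (fun M => p ≤ M)).inf id ≤ p := by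
      conv_rhs => rw [← hjac]
      refine le_sInf fun M hM => ?_
      exact Finset.inf_le (f := id) (Finset.mem_filter.2 ⟨hfinmax.mem_toFinset.2 hM.2, hM.1⟩)
    obtain ⟨M, hM, hMp⟩ := hp.inf_le'.1 hle
    rw [Finset.mem_filter, Set.Finite.mem_toFinset] at hM
    rw [le_antisymm hM.2 hMp]
    exact hM.1
  haveI : Ring.KrullDimLE 0 S := Ring.krullDimLE_zero_iff.2 hz
  exact absurd (Ring.krullDimLE_iff.1 this) (not_le.2 (by exact_mod_cast hdim))

end Groth.Agent.S9598
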