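import Groth.Statements.S9600
import Groth.Agent.L03.ComplExact
-- import your own Groth.Agent.* helpers here

set_option autoImplicit false
universe u
open CAlg

namespace Groth.Agent.S9600

/-- Let R be a ring, I an ideal of R and 0 → M → N → Q → 0 a short exact sequence of R-modules in which
Q is killed by some power I^c of I. Then on I-adic completions the map M^ → N^ is injective, N^ → Q^
is surjective with kernel equal to the image of M^, and the canonical map Q → Q^ is bijective; so 0
→ M^ → N^ → Q → 0 is again short exact. -/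
theorem result {R : Type u} [CommRing R] (I : Ideal R) {M N Q : Type u} [AddCommGroup M] [Module R M] [AddCommGroup N] [Module R N] [AddCommGroup Q] [Module R Q] (i : M →ₗ[R] N) (g : N →ₗ[R] Q) (hi : Function.Injective i) (hg : Function.Surjective g) (hig : Function.Exact i g) (c : ℕ) (hc : ∀ x ∈ I ^ c, ∀ q : Q, x • q = 0) :
    Function.Injective (AdicCompletion.map I i) ∧ Function.Exact (AdicCompletion.map I i) (AdicCompletion.map I g) ∧ Function.Surjective (AdicCompletion.map I g) ∧ Function.Bijective (AdicCompletion.of I Q) := by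
  have hM : ∀ x ∈ (I ^ c • ⊤ : Submodule R N), x ∈ LinearMap.range i := by
    intro x hx
    have h1 : (I ^ c • ⊤ : Submodule R N) ≤ LinearMap.ker g := Submodule.smul_le.2 fun a ha m _ => by
      rw [LinearMap.mem_ker, map_smul]; exact hc a ha _
    exact (hig x).1 (h1 hx)
  have hp : ∀ n k, i k ∈ (I ^ (n + c) • ⊤ : Submodule R N) → k ∈ (I ^ n • ⊤ : Submodule R M) := by
    intro n k hk
    rw [pow_add, ← smul_eq_mul, Submodule.smul_assoc] at hk
    have h1 := Submodule.smul_mono le_rfl (show (I ^ c • ⊤ : Submodule R N) ≤ LinearMap.range i from hM) hk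
    rw [← Submodule.map_top, ← Submodule.map_smul''] at h1
    obtain ⟨k', hk', he⟩ := h1
    rwa [hi he] at hk'
  obtain ⟨h1, h2, h3⟩ := Groth.L03.ComplExact.exact_map c hp hg hig
  have hbot : ∀ n, c ≤ n → (I ^ n • ⊤ : Submodule R Q) = ⊥ := by
    intro n hn
    rw [eq_bot_iff]
    exact Submodule.smul_le.2 fun a ha m _ => (Submodule.mem_bot R).2 (hc a (Ideal.pow_le_pow_right hn ha) m)
  refine ⟨h1, h2, h3, AdicCompletion.of_bijective_iff.2 ?_⟩
  haveI : IsHausdorff I Q := ⟨fun x hx => by
    have := SModEq.sub_mem.1 (hx c)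
    rwa [hbot c le_rfl, Submodule.mem_bot, sub_zero] at this⟩
  haveI : IsPrecomplete I Q := ⟨fun f hf => ⟨f c, fun n => by
    rcases le_total n c with h | h
    · exact hf h
    · have := SModEq.sub_mem.1 (hf h)
      rw [hbot c le_rfl, Submodule.mem_bot, sub_eq_zero] at this
      rw [this]⟩⟩
  exact { }

end Groth.Agent.S9600
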