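import Groth.Statements.S9601
-- import your own Groth.Agent.* helpers here

set_option autoImplicit false
universe u
open CAlg

namespace Groth.Agent.S9601

/-- For a ring R, an ideal I of R and an R-module M, let M^ be the I-adic completion and K_n the kernel
of the projection M^ → M/IⁿM. The completion M^ is I-adically complete exactly when K_n = Iⁿ M^
holds for every n ≥ 1. -/
theorem result {R : Type u} [CommRing R] (I : Ideal R) (M : Type u) [AddCommGroup M] [Module R M] :
    IsAdicComplete I (AdicCompletion I M) ↔ ∀ n : ℕ, 1 ≤ n → LinearMap.ker (AdicCompletion.eval I M n) = I ^ n • (⊤ : Submodule R (AdicCompletion I M)) := by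
  constructor
  · intro h n _
    refine le_antisymm (fun x hx => ?_) (AdicCompletion.pow_smul_top_le_ker_eval (I := I) (M := M) n)
    obtain ⟨a, rfl⟩ := AdicCompletion.mk_surjective I M x
    obtain ⟨y, hy⟩ := IsPrecomplete.prec (inferInstance : IsPrecomplete I (AdicCompletion I M))
      (f := fun k => AdicCompletion.of I M (a k)) (fun {p q} hpq => by
        have h1 := a.2 hpq
        rw [SModEq.sub_mem] at h1 ⊢
        rw [← map_sub]
        have h2 := Submodule.mem_map_of_mem (f := AdicCompletion.of I M) h1
        rw [Submodule.map_smul''] at h2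
        exact Submodule.smul_mono le_rfl le_top h2)
    have hy' : y = AdicCompletion.mk I M a := by
      refine AdicCompletion.ext fun k => ?_
      have h1 := AdicCompletion.pow_smul_top_le_ker_eval (I := I) (M := M) k (SModEq.sub_mem.1 (hy k))
      rw [LinearMap.mem_ker, map_sub, AdicCompletion.eval_of, sub_eq_zero] at h1
      exact h1.symm
    have h1 := SModEq.sub_mem.1 (hy n)
    have ha : a n ∈ (I ^ n • ⊤ : Submodule R M) := by
      rw [LinearMap.mem_ker] at hx
      exact (Submodule.Quotient.mk_eq_zero _).1 hx
    have h2 := Submodule.mem_map_of_mem (f := AdicCompletion.of I M) ha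
    rw [Submodule.map_smul''] at h2
    rw [← hy']
    have h3 := Submodule.sub_mem _ (Submodule.smul_mono le_rfl le_top h2) h1
    simpa using h3
  · intro h
    haveI : IsPrecomplete I (AdicCompletion I M) := by
      refine ⟨fun f hf => ?_⟩
      let v : ∀ k, M ⧸ (I ^ k • ⊤ : Submodule R M) := fun k => AdicCompletion.eval I M k (f k)
      refine ⟨⟨v, fun {p q} hpq => ?_⟩, fun k => ?_⟩
      · show AdicCompletion.transitionMap I M hpq (AdicCompletion.eval I M q (f q)) = v p
        rw [AdicCompletion.eval_apply, AdicCompletion.transitionMap_comp_eval_apply]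
        have h1 := AdicCompletion.pow_smul_top_le_ker_eval (I := I) (M := M) p (SModEq.sub_mem.1 (hf hpq))
        rw [LinearMap.mem_ker, map_sub, sub_eq_zero] at h1
        exact h1.symm
      · rw [SModEq.sub_mem]
        rcases Nat.eq_zero_or_pos k with rfl | hk
        · simp
        · rw [← h k hk, LinearMap.mem_ker, map_sub, sub_eq_zero]
          rfl
    exact { }

end Groth.Agent.S9601
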