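import Groth.Statements.S9603
import Mathlib.RingTheory.AdicCompletion.Basic
import Mathlib.LinearAlgebra.Finsupp.Span
import Mathlib.LinearAlgebra.DFinsupp
import Mathlib.Tactic.Ring
import Mathlib.Tactic.Linarith
import Mathlib.Tactic.Abel
-- import your own Groth.Agent.* helpers here

set_option autoImplicit false
universe u
open CAlg

namespace Groth.Agent.S9603

theorem pow_sup_le {A : Type u} [CommRing A] {ι : Type*} (J : ι → Ideal A) (k : ℕ) (hk : 0 < k)
    (s : Finset ι) : (s.sup J) ^ ((s.card + 1) * k) ≤ s.sup fun i => J i ^ k := by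
  classical
  induction s using Finset.induction_on with
  | empty =>
    obtain ⟨m, rfl⟩ := Nat.exists_eq_add_of_le hk
    simp only [Finset.sup_empty, Finset.card_empty, zero_add, one_mul]
    rw [add_comm, pow_succ, Ideal.mul_bot]
  | insert i s hi ih =>
    rw [Finset.sup_insert, Finset.sup_insert, Finset.card_insert_of_notMem hi,
      show (s.card + 1 + 1) * k = k + (s.card + 1) * k by ring]
    exact Ideal.sup_pow_add_le_pow_sup_pow.trans (sup_le_sup le_rfl ih)

/-- For a ring A, elements f_1, …, f_r generating an ideal I and an A-module M, if the canonical map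
from M to its (f_i)-adic completion is surjective for every i, then the canonical map from M to its
I-adic completion is surjective. -/
theorem result {A : Type u} [CommRing A] {r : ℕ} (f : Fin r → A) (M : Type u) [AddCommGroup M] [Module A M] (h : ∀ i, Function.Surjective (AdicCompletion.of (Ideal.span {f i}) M)) :
    Function.Surjective (AdicCompletion.of (Ideal.span (Set.range f)) M) := by
  classical
  intro x
  obtain ⟨a, rfl⟩ := AdicCompletion.mk_surjective _ M x
  let I := Ideal.span (Set.range f)
  let J : Fin r → Ideal A := fun i => Ideal.span {f i}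
  have hI : I = Finset.univ.sup J := by
    rw [Finset.sup_univ_eq_iSup]
    show Ideal.span (Set.range f) = _
    rw [← Set.iUnion_singleton_eq_range, Ideal.span, Submodule.span_iUnion]
  have hpow : ∀ k, 0 < k → I ^ ((r + 1) * k) ≤ Finset.univ.sup fun i => J i ^ k := by
    intro k hk
    rw [hI]
    refine (Ideal.pow_le_pow_right (Nat.mul_le_mul_right k ?_)).trans (pow_sup_le J k hk Finset.univ)
    simp
  let b : ℕ → M := fun k => a ((r + 1) * (k + 1))
  have hd : ∀ k, ∃ y : Fin r → M, b (k + 1) - b k = ∑ i, f i ^ k • y i := by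
    intro k
    have h1 := SModEq.sub_mem.1 (a.2 (show (r + 1) * (k + 1) ≤ (r + 1) * (k + 1 + 1) by nlinarith))
    have h2 : b (k + 1) - b k ∈ (Finset.univ.sup fun i => J i ^ k) • (⊤ : Submodule A M) := by
      rw [← neg_sub]
      exact neg_mem (Submodule.smul_mono ((hpow _ k.succ_pos).trans (Finset.sup_mono_fun fun i _ => Ideal.pow_le_pow_right k.le_succ)) le_rfl h1)
    rw [Finset.sup_univ_eq_iSup, Submodule.iSup_smul, Submodule.mem_iSup_iff_exists_finsupp] at h2
    obtain ⟨z, hz, hsum⟩ := h2
    have hz' : ∀ i, ∃ y : M, z i = f i ^ k • y := fun i => by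
      have := hz i
      rw [Ideal.span_singleton_pow, Submodule.ideal_span_singleton_smul] at this
      obtain ⟨y, -, hy⟩ := (Submodule.mem_smul_pointwise_iff_exists _ _ _).1 this
      exact ⟨y, hy.symm⟩
    choose y hy using hz'
    exact ⟨y, by rw [← hsum, Finsupp.sum_fintype _ _ (fun _ => rfl)]; exact Finset.sum_congr rfl fun i _ => hy i⟩
  choose y hy using hd
  let S : Fin r → ℕ → M := fun i n => ∑ k ∈ Finset.range n, f i ^ k • y k i
  have hS : ∀ i, AdicCompletion.IsAdicCauchy (J i) M (S i) := by
    intro i p q hpq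
    rw [SModEq.sub_mem, ← neg_sub]
    refine neg_mem ?_
    show S i q - S i p ∈ _
    simp only [S]
    rw [← Finset.sum_Ico_eq_sub _ hpq]
    refine Submodule.sum_mem _ fun k hk => Submodule.smul_mem_smul ?_ Submodule.mem_top
    rw [Ideal.span_singleton_pow, Ideal.mem_span_singleton]
    exact pow_dvd_pow _ (Finset.mem_Ico.1 hk).1
  choose s hs using fun i => h i (AdicCompletion.mk (J i) M ⟨S i, hS i⟩)
  refine ⟨b 0 + ∑ i, s i, AdicCompletion.ext fun n => ?_⟩
  have hbn : ∀ n, b n = b 0 + ∑ i, S i n := by
    intro n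
    induction n with
    | zero => simp [S]
    | succ n ih =>
      have h4 : ∀ i, S i (n + 1) = S i n + f i ^ n • y n i := fun i => Finset.sum_range_succ _ n
      rw [Finset.sum_congr rfl fun i _ => h4 i, Finset.sum_add_distrib, ← hy n, ← add_assoc, ← ih]
      abel
  show Submodule.Quotient.mk (b 0 + ∑ i, s i) = Submodule.Quotient.mk (a n)
  rw [Submodule.Quotient.eq]
  have h1 : b 0 + ∑ i, s i - b n ∈ (I ^ n • ⊤ : Submodule A M) := by
    rw [hbn n, add_sub_add_left_eq_sub, ← Finset.sum_sub_distrib]
    refine Submodule.sum_mem _ fun i _ => ?_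
    have h2 := congr_arg (fun z => z.1 n) (hs i)
    have h3 : s i - S i n ∈ (J i ^ n • ⊤ : Submodule A M) := (Submodule.Quotient.eq _).1 h2
    refine Submodule.smul_mono (Ideal.pow_right_mono ?_ n) le_rfl h3
    exact Ideal.span_mono (Set.singleton_subset_iff.2 ⟨i, rfl⟩)
  have h2 : b n - a n ∈ (I ^ n • ⊤ : Submodule A M) := by
    rw [← neg_sub]
    exact neg_mem (SModEq.sub_mem.1 (a.2 (show n ≤ (r + 1) * (n + 1) by nlinarith)))
  simpa using add_mem h1 h2

end Groth.Agent.S9603
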