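import Groth.Statements.S9604


set_option autoImplicit false
universe u
open CAlg

namespace Groth.Agent.S9604

/-- Let R be a ring and I, J ideals of R with I^c ⊆ J and J^d ⊆ I for some integers c, d > 0. Then for
an R-module, being complete in the I-adic topology is equivalent to being complete in the J-adic
topology. -/
theorem result {R : Type u} [CommRing R] (I J : Ideal R) (c d : ℕ) (hc : 0 < c) (hd : 0 < d) (hI : I ^ c ≤ J) (hJ : J ^ d ≤ I) (M : Type u) [AddCommGroup M] [Module R M] :
    IsAdicComplete I M ↔ IsAdicComplete J M := by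
  have key : ∀ (I J : Ideal R) (c d : ℕ), 0 < c → 0 < d → I ^ c ≤ J → J ^ d ≤ I →
      IsAdicComplete J M → IsAdicComplete I M := by
    intro I J c d hc hd hI hJ hM
    have h1 : ∀ n, (I ^ (c * n) • ⊤ : Submodule R M) ≤ J ^ n • ⊤ := fun n => by
      rw [pow_mul]
      exact Submodule.smul_mono_left (Ideal.pow_right_mono hI n)
    have h2 : ∀ n, (J ^ (d * n) • ⊤ : Submodule R M) ≤ I ^ n • ⊤ := fun n => by
      rw [pow_mul]
      exact Submodule.smul_mono_left (Ideal.pow_right_mono hJ n)
    refine { haus' := fun x hx => hM.toIsHausdorff.haus x fun n => ?_, prec' := fun f hf => ?_ }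
    · exact SModEq.mono (h1 n) (hx (c * n))
    · obtain ⟨L, hL⟩ := hM.toIsPrecomplete.prec (f := fun n => f (c * n))
        (fun {m n} hmn => SModEq.mono (h1 m) (hf (Nat.mul_le_mul_left c hmn)))
      refine ⟨L, fun n => (hf ?_).trans (SModEq.mono (h2 n) (hL (d * n)))⟩
      calc n = 1 * (1 * n) := by rw [one_mul, one_mul]
        _ ≤ c * (d * n) := Nat.mul_le_mul hc (Nat.mul_le_mul hd le_rfl)
  exact ⟨key J I d c hd hc hJ hI, key I J c d hc hd hI hJ⟩

end Groth.Agent.S9604
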