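import Groth.Statements.S9605
import Mathlib.RingTheory.AdicCompletion.Basic

set_option autoImplicit false
universe u
open CAlg

namespace Groth.Agent.S9605

/-- For a ring R, an ideal I of R, an I-adically complete R-module M and a submodule K of M, the
quotient M/K is I-adically complete if and only if K = ⋂ₙ (K + IⁿM). -/
theorem result {R : Type u} [CommRing R] (I : Ideal R) (M : Type u) [AddCommGroup M] [Module R M] [IsAdicComplete I M] (K : Submodule R M) :
    IsAdicComplete I (M ⧸ K) ↔ K = ⨅ n : ℕ, K ⊔ I ^ n • (⊤ : Submodule R M) := by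
  set Q : ℕ → Submodule R (M ⧸ K) := fun n => I ^ n • ⊤
  have hmap : ∀ n (x : M), K.mkQ x ∈ Q n ↔ x ∈ K ⊔ I ^ n • (⊤ : Submodule R M) := by
    intro n x
    have : (I ^ n • (⊤ : Submodule R M)).map K.mkQ = Q n := by
      rw [Submodule.map_smul'', Submodule.map_top, Submodule.range_mkQ]
    rw [← this, ← Submodule.comap_map_mkQ]
    rfl
  constructor
  · intro h
    refine le_antisymm (le_iInf fun n => le_sup_left) fun x hx => ?_
    have := h.toIsHausdorff.haus' (K.mkQ x) fun n => by
      rw [SModEq.zero]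
      exact (hmap n x).2 (Submodule.mem_iInf _ |>.1 hx n)
    exact (Submodule.Quotient.mk_eq_zero K).1 this
  · intro hK
    haveI hH : IsHausdorff I (M ⧸ K) := ⟨fun z hz => by
      obtain ⟨x, rfl⟩ := K.mkQ_surjective z
      refine (Submodule.Quotient.mk_eq_zero K).2 ?_
      rw [hK, Submodule.mem_iInf]
      exact fun n => (hmap n x).1 (SModEq.zero.1 (hz n))⟩
    haveI hP : IsPrecomplete I (M ⧸ K) := ⟨fun f hf => by
      choose a ha using fun n => K.mkQ_surjective (f n)
      have hstep : ∀ n (y : M), K.mkQ y = f n → ∃ y', K.mkQ y' = f (n + 1) ∧ y' - y ∈ I ^ n • (⊤ : Submodule R M) := by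
        intro n y hy
        have h1 := SModEq.sub_mem.1 (hf (Nat.le_succ n))
        rw [← hy, ← ha (n + 1), ← map_sub, hmap, Submodule.mem_sup] at h1
        obtain ⟨k, hk, w, hw, hkw⟩ := h1
        refine ⟨y - w, ?_, by rw [sub_sub_cancel_left]; exact neg_mem hw⟩
        rw [← ha (n + 1), Submodule.mkQ_apply, Submodule.mkQ_apply, Submodule.Quotient.eq]
        rw [show y - w - a (n + 1) = (y - a (n + 1)) - w by abel, ← hkw]
        simpa using hk
      choose next hnext1 hnext2 using hstep
      let seq : ∀ n, {y : M // K.mkQ y = f n} := fun n =>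
        Nat.rec ⟨a 0, ha 0⟩ (fun j y => ⟨next j y.1 y.2, hnext1 j y.1 y.2⟩) n
      have hc : ∀ {m n}, m ≤ n → (seq m).1 ≡ (seq n).1 [SMOD (I ^ m • ⊤ : Submodule R M)] := by
        intro m n hmn
        induction hmn with
        | refl => exact SModEq.refl _
        | @step n hmn ih =>
          refine ih.trans (SModEq.sub_mem.2 ?_)
          rw [← neg_sub]
          exact neg_mem (Submodule.smul_mono_left (Ideal.pow_le_pow_right hmn) (hnext2 n _ (seq n).2))
      obtain ⟨L, hL⟩ := IsPrecomplete.prec' (fun n => (seq n).1) hc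
      refine ⟨K.mkQ L, fun n => ?_⟩
      rw [← (seq n).2, SModEq.sub_mem, ← map_sub, hmap]
      exact Submodule.mem_sup_right (SModEq.sub_mem.1 (hL n))⟩
    exact ⟨⟩

end Groth.Agent.S9605
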