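import Groth.Statements.S9606
import Groth.Agent.L01.GenHomeo

set_option autoImplicit false
universe u
open CAlg

namespace Groth.Agent.S9606

/-- Let R → S be a ring map with locally nilpotent kernel such that S is generated over R by elements x
with x² and x³ in the image of R. Then the induced map on spectra is a homeomorphism and every
residue field map κ(p) → κ(q), for q a prime of S with inverse image p, is bijective. -/
theorem result {R S : Type u} [CommRing R] [CommRing S] [Algebra R S]
    (hgen : Algebra.adjoin R {x : S | x ^ 2 ∈ Set.range (algebraMap R S) ∧ x ^ 3 ∈ Set.range (algebraMap R S)} = ⊤)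
    (hker : ∀ r : R, algebraMap R S r = 0 → IsNilpotent r) :
    IsHomeomorph (PrimeSpectrum.comap (algebraMap R S)) ∧
      ∀ (q : Ideal S) [q.IsPrime], Function.Bijective (Ideal.ResidueField.map (q.comap (algebraMap R S)) q (algebraMap R S) rfl) := by
  classical
  refine ⟨Groth.L01.GenHomeo.isHomeomorph_comap hgen (fun x hx => ?_) hker (fun x hx K _ f g hfg => ?_), fun q _ => ?_⟩
  · obtain ⟨a, ha⟩ := hx.1
    exact IsIntegral.of_pow two_pos (ha ▸ isIntegral_algebraMap)
  · obtain ⟨a, ha⟩ := hx.1
    obtain ⟨b, hb⟩ := hx.2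
    have h2 : f x ^ 2 = g x ^ 2 := by rw [← map_pow, ← map_pow, ← ha]; exact RingHom.congr_fun hfg a
    have h3 : f x ^ 3 = g x ^ 3 := by rw [← map_pow, ← map_pow, ← hb]; exact RingHom.congr_fun hfg b
    rcases eq_or_ne (f x) 0 with h | h
    · rw [h, zero_pow two_ne_zero] at h2
      rw [h, (pow_eq_zero_iff two_ne_zero).mp h2.symm]
    · rw [pow_succ, pow_succ _ 2, ← h2] at h3
      exact mul_left_cancel₀ (pow_ne_zero 2 h) h3
  · refine ⟨RingHom.injective _, ?_⟩
    let i := Ideal.ResidueField.map (q.comap (algebraMap R S)) q (algebraMap R S) rfl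
    have hi : ∀ r, i (algebraMap R _ r) = algebraMap S _ (algebraMap R S r) := fun r => Ideal.ResidueField.map_algebraMap _ _ _ _ r
    have hS : ∀ s : S, algebraMap S q.ResidueField s ∈ i.fieldRange := by
      intro s
      have hs : s ∈ Algebra.adjoin R {x : S | x ^ 2 ∈ Set.range (algebraMap R S) ∧ x ^ 3 ∈ Set.range (algebraMap R S)} := hgen ▸ Algebra.mem_top
      induction hs using Algebra.adjoin_induction with
      | mem x hx =>
        obtain ⟨a, ha⟩ := hx.1
        obtain ⟨b, hb⟩ := hx.2
        rcases eq_or_ne (algebraMap S q.ResidueField x) 0 with h | h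
        · rw [h]; exact zero_mem _
        · refine ⟨algebraMap R _ b / algebraMap R _ a, ?_⟩
          rw [map_div₀, hi, hi, ha, hb, map_pow, map_pow, pow_succ _ 2, mul_div_cancel_left₀ _ (pow_ne_zero 2 h)]
      | algebraMap r => exact ⟨_, hi r⟩
      | add a b _ _ ha hb => rw [map_add]; exact add_mem ha hb
      | mul a b _ _ ha hb => rw [map_mul]; exact mul_mem ha hb
    intro z
    obtain ⟨b, c, hc, rfl⟩ := IsFractionRing.div_surjective (A := S ⧸ q) z
    obtain ⟨b, rfl⟩ := Ideal.Quotient.mk_surjective b
    obtain ⟨c, rfl⟩ := Ideal.Quotient.mk_surjective c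
    exact RingHom.mem_fieldRange.mp (div_mem (hS b) (hS c))

end Groth.Agent.S9606
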