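import Groth.Statements.S9607
import Mathlib.Data.Nat.Factorization.Basic
import Mathlib.Data.Nat.Choose.Sum
import Mathlib.Algebra.MvPolynomial.CommRing
import Mathlib.Tactic.Ring
-- import your own Groth.Agent.* helpers here

set_option autoImplicit false
universe u
open CAlg

namespace Groth.Agent.S9607

/-- For a prime number p and integers n, m > 0 there exists an integer a such that (x + y)^(p^a) and p^a
(x + y) both belong to the subring ℤ[x^(p^n), p^n x, y^(p^m), p^m y] of the polynomial ring ℤ[x, y]. -/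
theorem result (p : ℕ) (hp : p.Prime) (n m : ℕ) (hn : 0 < n) (hm : 0 < m) :
    ∃ a : ℕ, ((MvPolynomial.X 0 + MvPolynomial.X 1 : MvPolynomial (Fin 2) ℤ) ^ (p ^ a) ∈ Algebra.adjoin ℤ ({MvPolynomial.X 0 ^ (p ^ n), (p : MvPolynomial (Fin 2) ℤ) ^ n * MvPolynomial.X 0, MvPolynomial.X 1 ^ (p ^ m), (p : MvPolynomial (Fin 2) ℤ) ^ m * MvPolynomial.X 1} : Set (MvPolynomial (Fin 2) ℤ)) ∧
      (p : MvPolynomial (Fin 2) ℤ) ^ a * (MvPolynomial.X 0 + MvPolynomial.X 1) ∈ Algebra.adjoin ℤ ({MvPolynomial.X 0 ^ (p ^ n), (p : MvPolynomial (Fin 2) ℤ) ^ n * MvPolynomial.X 0, MvPolynomial.X 1 ^ (p ^ m), (p : MvPolynomial (Fin 2) ℤ) ^ m * MvPolynomial.X 1} : Set (MvPolynomial (Fin 2) ℤ))) := by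
  classical
  let P := MvPolynomial (Fin 2) ℤ
  let S := Algebra.adjoin ℤ ({MvPolynomial.X 0 ^ (p ^ n), (p : P) ^ n * MvPolynomial.X 0,
    MvPolynomial.X 1 ^ (p ^ m), (p : P) ^ m * MvPolynomial.X 1} : Set P)
  let x : P := MvPolynomial.X 0
  let y : P := MvPolynomial.X 1
  let a := n * p ^ n + m * p ^ m + (n + m)
  refine ⟨a, ?_, ?_⟩
  swap
  · rw [mul_add]
    have g : ∀ (e : ℕ) (z : P), e ≤ a → (p : P) ^ e * z ∈ S → (p : P) ^ a * z ∈ S := by
      intro e z he hz
      obtain ⟨d, hd⟩ := Nat.exists_eq_add_of_le he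
      rw [show (p : P) ^ a * z = (p : P) ^ d * ((p : P) ^ e * z) by rw [hd, pow_add]; ring]
      exact mul_mem (pow_mem (natCast_mem S p) d) hz
    exact add_mem (g n x (by omega) (Algebra.subset_adjoin (by simp [x])))
      (g m y (by omega) (Algebra.subset_adjoin (by simp [y])))
  · rw [add_pow]
    refine sum_mem fun i hi => ?_
    have hia : i ≤ p ^ a := Nat.lt_succ_iff.1 (Finset.mem_range.1 hi)
    let C := (p ^ a).choose i
    let s := i % p ^ n
    let t := (p ^ a - i) % p ^ m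
    have hpn : 0 < p ^ n := pow_pos hp.pos n
    have hpm : 0 < p ^ m := pow_pos hp.pos m
    have hdvd : p ^ (n * s + m * t) ∣ C := by
      by_cases hv : p ^ (n + m) ∣ i
      · have hs0 : s = 0 := Nat.mod_eq_zero_of_dvd ((pow_dvd_pow p (Nat.le_add_right n m)).trans hv)
        have ht0 : t = 0 := Nat.mod_eq_zero_of_dvd (Nat.dvd_sub
          (pow_dvd_pow p (show m ≤ a by omega)) ((pow_dvd_pow p (Nat.le_add_left m n)).trans hv))
        simp [hs0, ht0]
      · have hi0 : i ≠ 0 := fun e => hv (e ▸ dvd_zero _)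
        have hC : C ≠ 0 := (Nat.choose_pos hia).ne'
        have h1 : p ^ a ∣ i * C := by
          obtain ⟨j, rfl⟩ := Nat.exists_eq_add_of_le (Nat.one_le_iff_ne_zero.2 hi0)
          refine ⟨(p ^ a - 1).choose j, ?_⟩
          have h2 := Nat.add_one_mul_choose_eq (p ^ a - 1) j
          rw [Nat.sub_add_cancel (Nat.one_le_pow a p hp.pos), add_comm j 1] at h2
          rw [h2, mul_comm]
        rw [hp.pow_dvd_iff_le_factorization hC]
        rw [hp.pow_dvd_iff_le_factorization (mul_ne_zero hi0 hC), Nat.factorization_mul hi0 hC,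
          Finsupp.add_apply] at h1
        rw [hp.pow_dvd_iff_le_factorization hi0, not_le] at hv
        have h3 : n * s ≤ n * p ^ n := Nat.mul_le_mul_left n (Nat.mod_lt _ hpn).le
        have h4 : m * t ≤ m * p ^ m := Nat.mul_le_mul_left m (Nat.mod_lt _ hpm).le
        omega
    obtain ⟨c, hc⟩ := hdvd
    have hx : x ^ i = (x ^ p ^ n) ^ (i / p ^ n) * x ^ s := by
      rw [← pow_mul, ← pow_add, Nat.div_add_mod]
    have hy : y ^ (p ^ a - i) = (y ^ p ^ m) ^ ((p ^ a - i) / p ^ m) * y ^ t := by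
      rw [← pow_mul, ← pow_add, Nat.div_add_mod]
    show x ^ i * y ^ (p ^ a - i) * (C : P) ∈ S
    have hc' : (C : P) = ((p : P) ^ n) ^ s * ((p : P) ^ m) ^ t * (c : P) := by
      rw [hc, Nat.cast_mul, Nat.cast_pow, pow_add, pow_mul, pow_mul]
    rw [hx, hy, hc',
      show (x ^ p ^ n) ^ (i / p ^ n) * x ^ s * ((y ^ p ^ m) ^ ((p ^ a - i) / p ^ m) * y ^ t) *
          (((p : P) ^ n) ^ s * ((p : P) ^ m) ^ t * (c : P)) =
        (x ^ p ^ n) ^ (i / p ^ n) * (y ^ p ^ m) ^ ((p ^ a - i) / p ^ m) * ((p : P) ^ n * x) ^ s *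
          ((p : P) ^ m * y) ^ t * (c : P) by ring]
    refine mul_mem (mul_mem (mul_mem (mul_mem (pow_mem ?_ _) (pow_mem ?_ _)) (pow_mem ?_ _)) (pow_mem ?_ _))
      (natCast_mem S c)
    all_goals exact Algebra.subset_adjoin (by simp [x, y])

end Groth.Agent.S9607
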