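import Groth.Statements.S9608
import Mathlib.FieldTheory.PurelyInseparable.PerfectClosure
-- import your own Groth.Agent.* helpers here

set_option autoImplicit false
universe u
open CAlg

namespace Groth.Agent.S9608

/-- Let k'/k be a field extension and p a prime number. Then k' is generated over k by elements x for
which some n > 0 has x^(p^n) ∈ k and p^n x ∈ k, if and only if either k' = k, or k has
characteristic p and k'/k is purely inseparable. -/
theorem result {k k' : Type u} [Field k] [Field k'] [Algebra k k'] (p : ℕ) (hp : p.Prime) :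
    IntermediateField.adjoin k {x : k' | ∃ n : ℕ, 0 < n ∧ x ^ (p ^ n) ∈ Set.range (algebraMap k k') ∧ (p : k') ^ n * x ∈ Set.range (algebraMap k k')} = ⊤ ↔
      (Function.Surjective (algebraMap k k') ∨ (CharP k p ∧ IsPurelyInseparable k k')) := by
  haveI := Fact.mk hp
  constructor
  · intro h
    by_cases h0 : (p : k) = 0
    · haveI : CharP k p := by
        obtain ⟨c, hc⟩ := CharP.exists k
        have := (CharP.cast_eq_zero_iff k c p).1 h0
        rcases hp.eq_one_or_self_of_dvd c this with rfl | rfl
        · exact absurd hc (fun h => CharP.char_ne_one k 1 rfl)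
        · exact hc
      haveI : ExpChar k p := ExpChar.prime hp
      refine Or.inr ⟨inferInstance, ?_⟩
      have h1 : IsPurelyInseparable k (IntermediateField.adjoin k
          {x : k' | ∃ n : ℕ, 0 < n ∧ x ^ (p ^ n) ∈ Set.range (algebraMap k k') ∧
            (p : k') ^ n * x ∈ Set.range (algebraMap k k')}) := by
        rw [IntermediateField.isPurelyInseparable_adjoin_iff_pow_mem k k' p]
        rintro x ⟨n, -, hx, -⟩
        exact ⟨n, hx⟩
      rw [h] at h1
      exact IntermediateField.topEquiv.isPurelyInseparable
    · left
      have hle : IntermediateField.adjoin k {x : k' | ∃ n : ℕ, 0 < n ∧ x ^ (p ^ n) ∈ Set.range (algebraMap k k') ∧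
          (p : k') ^ n * x ∈ Set.range (algebraMap k k')} ≤ ⊥ := by
        rw [IntermediateField.adjoin_le_iff]
        rintro x ⟨n, -, -, c, hc⟩
        rw [SetLike.mem_coe, IntermediateField.mem_bot]
        refine ⟨((p : k) ^ n)⁻¹ * c, ?_⟩
        rw [map_mul, hc, map_inv₀, map_pow, map_natCast, ← mul_assoc, inv_mul_cancel₀, one_mul]
        refine pow_ne_zero _ fun e => h0 ?_
        exact (algebraMap k k').injective (by rw [map_natCast, e, map_zero])
      intro x
      have : x ∈ (⊥ : IntermediateField k k') := hle (h ▸ IntermediateField.mem_top)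
      exact IntermediateField.mem_bot.1 this
  · intro h
    rw [eq_top_iff]
    intro x _
    rcases h with h | ⟨hc, hi⟩
    · obtain ⟨c, rfl⟩ := h x
      exact IntermediateField.algebraMap_mem _ c
    · haveI := hc
      haveI := hi
      haveI : ExpChar k p := ExpChar.prime hp
      haveI : CharP k' p := charP_of_injective_algebraMap (algebraMap k k').injective p
      obtain ⟨n, c, hx⟩ := IsPurelyInseparable.pow_mem k p x
      refine IntermediateField.subset_adjoin k _ ⟨n + 1, n.succ_pos, ⟨c ^ p, ?_⟩, ⟨0, ?_⟩⟩
      · rw [map_pow, hx, ← pow_mul, pow_succ]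
      · rw [map_zero, CharP.cast_eq_zero k' p, zero_pow (Nat.succ_ne_zero n), zero_mul]

end Groth.Agent.S9608
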