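import Groth.Statements.S9609
import Mathlib.RingTheory.TensorProduct.Basic
import Mathlib.RingTheory.LocalRing.ResidueField.Ideal
import Mathlib.Algebra.CharP.Algebra
import Mathlib.Algebra.CharP.Lemmas
import Mathlib.RingTheory.Spectrum.Prime.RingHom

set_option autoImplicit false
universe u
open CAlg

namespace Groth.S9609aux
open TensorProduct

variable {R S R' : Type u} [CommRing R] [CommRing S] [CommRing R'] [Algebra R S] [Algebra R R']

/-- In a prime of `R' ⊗ S`, modulo it every element has a power in the fractions of `R'`. -/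
lemma key (q : Ideal S) [q.IsPrime] (p' : Ideal R') [p'.IsPrime]
    (hpi : ∀ x : q.ResidueField, ∃ n : ℕ, x ^ (ringExpChar (q.comap (algebraMap R S)).ResidueField) ^ n ∈ Set.range (Ideal.ResidueField.map (q.comap (algebraMap R S)) q (algebraMap R S) rfl))
    (hp : p'.comap (algebraMap R R') = q.comap (algebraMap R S)) (z : R' ⊗[R] S) :
    ∃ (N : ℕ) (a b : R'), b ∉ p' ∧ ∀ q' : Ideal (R' ⊗[R] S), q'.IsPrime →
      q'.comap (algebraMap R' (R' ⊗[R] S)) = p' →
      q'.comap (Algebra.TensorProduct.includeRight : S →ₐ[R] R' ⊗[R] S).toRingHom = q →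
      algebraMap R' _ b * z ^ (ringExpChar p'.ResidueField) ^ N - algebraMap R' _ a ∈ q' := by
  set p := q.comap (algebraMap R S) with hpdef
  set e := ringExpChar p'.ResidueField with he
  haveI : ExpChar p'.ResidueField e := ringExpChar.expChar _
  haveI : ExpChar p.ResidueField e :=
    (Ideal.ResidueField.map p p' (algebraMap R R') hp.symm).expChar_iff (RingHom.injective _) e |>.mpr inferInstance
  have hee : ringExpChar p.ResidueField = e := ringExpChar.eq _ e
  -- the congruences live in a domain of exponential characteristic e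
  have hexp : ∀ q' : Ideal (R' ⊗[R] S), q'.IsPrime → q'.comap (algebraMap R' _) = p' →
      ExpChar ((R' ⊗[R] S) ⧸ q') e := by
    intro q' hq' hc
    haveI := hq'
    haveI : ExpChar q'.ResidueField e :=
      (Ideal.ResidueField.map p' q' (algebraMap R' _) hc.symm).expChar_iff (RingHom.injective _) e |>.mp inferInstance
    exact (algebraMap ((R' ⊗[R] S) ⧸ q') q'.ResidueField).expChar_iff
      (IsFractionRing.injective _ _) e |>.mpr inferInstance
  induction z using TensorProduct.induction_on with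
  | zero =>
    refine ⟨0, 0, 1, fun h => Ideal.IsPrime.ne_top' (Ideal.eq_top_of_isUnit_mem _ h isUnit_one), fun q' _ _ _ => ?_⟩
    simp
  | tmul r s =>
    obtain ⟨n, x, hx⟩ := hpi (algebraMap S q.ResidueField s)
    rw [hee] at hx
    obtain ⟨a, b, hb, rfl⟩ := IsFractionRing.div_surjective (R ⧸ p) x
    obtain ⟨a, rfl⟩ := Ideal.Quotient.mk_surjective a
    obtain ⟨b, rfl⟩ := Ideal.Quotient.mk_surjective b
    have hbp : b ∉ p := fun h => nonZeroDivisors.ne_zero hb (Ideal.Quotient.eq_zero_iff_mem.mpr h)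
    have hs : algebraMap R S b * s ^ e ^ n - algebraMap R S a ∈ q := by
      rw [← Ideal.algebraMap_residueField_eq_zero (I := q), map_sub, map_mul, map_pow, ← hx, map_div₀]
      have hm : ∀ r : R, Ideal.ResidueField.map p q (algebraMap R S) rfl (algebraMap (R ⧸ p) p.ResidueField (Ideal.Quotient.mk p r)) =
          algebraMap S q.ResidueField (algebraMap R S r) := fun r => by
        rw [← Ideal.Quotient.algebraMap_eq, ← IsScalarTower.algebraMap_apply]
        exact IsLocalRing.ResidueField.map_residue _ _ |>.trans (by simp [Localization.localRingHom_to_map]; rfl)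
      rw [hm, hm, mul_div_cancel₀ _ ?_, sub_self]
      rw [ne_eq, Ideal.algebraMap_residueField_eq_zero]; exact hbp
    refine ⟨n, r ^ e ^ n * algebraMap R R' a, algebraMap R R' b, fun h => hbp (hp ▸ h : b ∈ p), ?_⟩
    intro q' hq' hc hcs
    have hmem : (1 : R') ⊗ₜ[R] (algebraMap R S b * s ^ e ^ n - algebraMap R S a) ∈ q' := by
      rw [← hcs] at hs; exact hs
    have := q'.mul_mem_left (algebraMap R' (R' ⊗[R] S) (r ^ e ^ n)) hmem
    convert this using 1
    simp only [Algebra.TensorProduct.algebraMap_apply, Algebra.algebraMap_self, RingHom.id_apply,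
      Algebra.TensorProduct.tmul_pow, Algebra.TensorProduct.tmul_mul_tmul, one_mul, mul_one,
      TensorProduct.tmul_sub, mul_sub]
    simp only [Algebra.algebraMap_eq_smul_one, smul_mul_assoc, one_mul, mul_smul_comm, mul_one,
      TensorProduct.smul_tmul, TensorProduct.tmul_smul, smul_eq_mul]
  | add z₁ z₂ h₁ h₂ =>
    obtain ⟨N₁, a₁, b₁, hb₁, h₁⟩ := h₁
    obtain ⟨N₂, a₂, b₂, hb₂, h₂⟩ := h₂
    refine ⟨N₁ + N₂, a₁ ^ e ^ N₂ * b₂ ^ e ^ N₁ + a₂ ^ e ^ N₁ * b₁ ^ e ^ N₂,
      b₁ ^ e ^ N₂ * b₂ ^ e ^ N₁, ?_, fun q' hq' hc hcs => ?_⟩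
    · exact (inferInstance : p'.IsPrime).mul_notMem
        (fun h => hb₁ (Ideal.IsPrime.mem_of_pow_mem inferInstance _ h))
        (fun h => hb₂ (Ideal.IsPrime.mem_of_pow_mem inferInstance _ h))
    haveI := hq'
    haveI := hexp q' hq' hc
    rw [← Ideal.Quotient.eq]
    have e₁ := Ideal.Quotient.eq.mpr (h₁ q' hq' hc hcs)
    have e₂ := Ideal.Quotient.eq.mpr (h₂ q' hq' hc hcs)
    simp only [map_mul, map_pow, map_add] at e₁ e₂ ⊢
    rw [← e₁, ← e₂, add_pow_expChar_pow, mul_pow, mul_pow, ← pow_mul, ← pow_mul, ← pow_add, ← pow_add,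
      add_comm N₂ N₁]
    ring

end Groth.S9609aux


namespace Groth.Agent.S9609

open TensorProduct in
/-- Let R → S be a ring map which is injective on spectra and whose residue field extensions κ(p) → κ(q)
(q a prime of S with inverse image p) are purely inseparable: every element of κ(q) has a power with
exponent a power of the characteristic exponent lying in the image of κ(p). Then, given an arbitrary
R-algebra R', the induced map R' → R' ⊗_R S is likewise injective on spectra and has purely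
inseparable residue field extensions. -/
theorem result {R S R' : Type u} [CommRing R] [CommRing S] [CommRing R'] [Algebra R S] [Algebra R R']
    (hinj : Function.Injective (PrimeSpectrum.comap (algebraMap R S)))
    (hpi : ∀ (q : Ideal S) [q.IsPrime] (x : q.ResidueField), ∃ n : ℕ, x ^ (ringExpChar (q.comap (algebraMap R S)).ResidueField) ^ n ∈ Set.range (Ideal.ResidueField.map (q.comap (algebraMap R S)) q (algebraMap R S) rfl)) :
    Function.Injective (PrimeSpectrum.comap (algebraMap R' (R' ⊗[R] S))) ∧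
      ∀ (q' : Ideal (R' ⊗[R] S)) [q'.IsPrime] (x : q'.ResidueField), ∃ n : ℕ, x ^ (ringExpChar (q'.comap (algebraMap R' (R' ⊗[R] S))).ResidueField) ^ n ∈ Set.range (Ideal.ResidueField.map (q'.comap (algebraMap R' (R' ⊗[R] S))) q' (algebraMap R' (R' ⊗[R] S)) rfl) := by
  constructor
  · intro q₁ q₂ h
    have hc : q₁.asIdeal.comap (algebraMap R' (R' ⊗[R] S)) = q₂.asIdeal.comap (algebraMap R' (R' ⊗[R] S)) := congrArg PrimeSpectrum.asIdeal h
    let ι := (Algebra.TensorProduct.includeRight : S →ₐ[R] R' ⊗[R] S).toRingHom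
    have hR : ι.comp (algebraMap R S) = (algebraMap R' (R' ⊗[R] S)).comp (algebraMap R R') := by
      ext r
      simp [ι, Algebra.TensorProduct.algebraMap_apply, Algebra.algebraMap_eq_smul_one, TensorProduct.smul_tmul]
    have hsq : q₁.asIdeal.comap ι = q₂.asIdeal.comap ι := by
      haveI := Ideal.IsPrime.comap ι (K := q₁.asIdeal)
      haveI := Ideal.IsPrime.comap ι (K := q₂.asIdeal)
      refine congrArg PrimeSpectrum.asIdeal (@hinj ⟨q₁.asIdeal.comap ι, inferInstance⟩ ⟨q₂.asIdeal.comap ι, inferInstance⟩ (PrimeSpectrum.ext ?_))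
      show (q₁.asIdeal.comap ι).comap (algebraMap R S) = (q₂.asIdeal.comap ι).comap (algebraMap R S)
      rw [Ideal.comap_comap, Ideal.comap_comap, hR, ← Ideal.comap_comap, ← Ideal.comap_comap, hc]
    haveI := Ideal.IsPrime.comap ι (K := q₁.asIdeal)
    haveI := Ideal.IsPrime.comap (algebraMap R' (R' ⊗[R] S)) (K := q₁.asIdeal)
    refine PrimeSpectrum.ext (Ideal.ext fun z => ?_)
    obtain ⟨N, a, b, hb, hk⟩ := Groth.S9609aux.key (q₁.asIdeal.comap ι)
      (q₁.asIdeal.comap (algebraMap R' (R' ⊗[R] S))) (hpi _)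
      (by rw [Ideal.comap_comap, Ideal.comap_comap, hR]) z
    have k₁ := hk q₁.asIdeal q₁.isPrime rfl rfl
    have k₂ := hk q₂.asIdeal q₂.isPrime hc.symm hsq.symm
    have main : ∀ q' : PrimeSpectrum (R' ⊗[R] S),
        q'.asIdeal.comap (algebraMap R' (R' ⊗[R] S)) = q₁.asIdeal.comap (algebraMap R' (R' ⊗[R] S)) →
        algebraMap R' _ b * z ^ (ringExpChar (q₁.asIdeal.comap (algebraMap R' (R' ⊗[R] S))).ResidueField) ^ N - algebraMap R' _ a ∈ q'.asIdeal →
        (z ∈ q'.asIdeal ↔ a ∈ q₁.asIdeal.comap (algebraMap R' (R' ⊗[R] S))) := by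
      intro q' hq hm
      rw [← hq, Ideal.mem_comap]
      constructor
      · intro hz
        have h3 := q'.asIdeal.mul_mem_left (algebraMap R' _ b) (Ideal.pow_mem_of_mem _ hz ((ringExpChar (q₁.asIdeal.comap (algebraMap R' (R' ⊗[R] S))).ResidueField) ^ N) (pow_pos (expChar_pos (q₁.asIdeal.comap (algebraMap R' (R' ⊗[R] S))).ResidueField _) _))
        simpa using q'.asIdeal.sub_mem h3 hm
      · intro ha
        have h3 := q'.asIdeal.add_mem hm ha
        rw [sub_add_cancel] at h3
        rcases q'.isPrime.mem_or_mem h3 with h4 | h4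
        · exact absurd (hq ▸ h4 : b ∈ q₁.asIdeal.comap (algebraMap R' (R' ⊗[R] S))) hb
        · exact q'.isPrime.mem_of_pow_mem _ h4
    rw [main q₁ rfl k₁, main q₂ hc.symm k₂]
  · intro q' _ x
    let ι := (Algebra.TensorProduct.includeRight : S →ₐ[R] R' ⊗[R] S).toRingHom
    have hR : ι.comp (algebraMap R S) = (algebraMap R' (R' ⊗[R] S)).comp (algebraMap R R') := by
      ext r
      simp [ι, Algebra.TensorProduct.algebraMap_apply, Algebra.algebraMap_eq_smul_one, TensorProduct.smul_tmul]
    haveI := Ideal.IsPrime.comap ι (K := q')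
    set p' := q'.comap (algebraMap R' (R' ⊗[R] S)) with hp'
    set φ := Ideal.ResidueField.map p' q' (algebraMap R' (R' ⊗[R] S)) rfl with hφ
    set e := ringExpChar p'.ResidueField
    have hmem : ∀ z : R' ⊗[R] S, ∃ n : ℕ, (algebraMap _ q'.ResidueField z) ^ e ^ n ∈ Set.range φ := by
      intro z
      obtain ⟨N, a, b, hb, hk⟩ := Groth.S9609aux.key (q'.comap ι) p' (hpi _)
        (by rw [hp', Ideal.comap_comap, Ideal.comap_comap, hR]) z
      have k := hk q' inferInstance rfl rfl
      rw [← Ideal.algebraMap_residueField_eq_zero (I := q'), map_sub, sub_eq_zero, map_mul, map_pow] at k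
      have hm : ∀ r : R', φ (algebraMap R' p'.ResidueField r) = algebraMap _ q'.ResidueField (algebraMap R' (R' ⊗[R] S) r) :=
        fun r => IsLocalRing.ResidueField.map_residue _ _ |>.trans (by simp [Localization.localRingHom_to_map]; rfl)
      have hb0 : algebraMap R' p'.ResidueField b ≠ 0 := by simpa [Ideal.algebraMap_residueField_eq_zero] using hb
      refine ⟨N, algebraMap R' p'.ResidueField a / algebraMap R' p'.ResidueField b, ?_⟩
      rw [map_div₀, hm, hm, ← k, mul_div_cancel_left₀]
      rw [← hm]; simpa using hb0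
    obtain ⟨u, v, -, rfl⟩ := IsFractionRing.div_surjective ((R' ⊗[R] S) ⧸ q') x
    obtain ⟨u, rfl⟩ := Ideal.Quotient.mk_surjective u
    obtain ⟨v, rfl⟩ := Ideal.Quotient.mk_surjective v
    obtain ⟨n, c, hc⟩ := hmem u
    obtain ⟨m, d, hd⟩ := hmem v
    refine ⟨n + m, c ^ e ^ m / d ^ e ^ n, ?_⟩
    have h1 : ∀ w : R' ⊗[R] S, algebraMap ((R' ⊗[R] S) ⧸ q') q'.ResidueField (Ideal.Quotient.mk q' w) = algebraMap _ q'.ResidueField w :=
      fun w => (IsScalarTower.algebraMap_apply _ ((R' ⊗[R] S) ⧸ q') q'.ResidueField w).symm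
    rw [h1, h1, map_div₀, map_pow, map_pow, hc, hd, ← pow_mul, ← pow_mul, div_pow, pow_add, mul_comm (e ^ m) (e ^ n)]

end Groth.Agent.S9609
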