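import Groth.Statements.S9610


set_option autoImplicit false
universe u
open CAlg

namespace Groth.Agent.S9610

/-- Let k be a field and V a nonzero k-vector space with dim_k V < #k as cardinals. Then every k-linear
endomorphism T of V admits a monic polynomial P over k for which P(T) is not invertible. -/
theorem result {k V : Type u} [Field k] [AddCommGroup V] [Module k V] [Nontrivial V] (hV : Module.rank k V < Cardinal.mk k) (T : Module.End k V) :
    ∃ P : Polynomial k, P.Monic ∧ ¬ IsUnit (Polynomial.aeval T P) := by
  classical
  by_contra hcon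
  push Not at hcon
  obtain ⟨v, hv⟩ := exists_ne (0 : V)
  have hu : ∀ a : k, ∃ w : V, Polynomial.aeval T (Polynomial.X - Polynomial.C a) w = v := fun a =>
    ((Module.End.isUnit_iff _).1 (hcon _ (Polynomial.monic_X_sub_C a))).2 v
  choose w hw using hu
  refine (not_le.2 hV) (LinearIndependent.cardinal_le_rank (v := w) ?_)
  rw [linearIndependent_iff']
  intro s c hc i hi
  set Q : Polynomial k := ∑ a ∈ s, Polynomial.C (c a) * ∏ b ∈ s.erase a, (Polynomial.X - Polynomial.C b)
    with hQ
  have hQv : Polynomial.aeval T Q v = 0 := by
    calc Polynomial.aeval T Q v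
        = ∑ a ∈ s, c a • Polynomial.aeval T (∏ b ∈ s, (Polynomial.X - Polynomial.C b)) (w a) := by
          rw [hQ, map_sum, LinearMap.sum_apply]
          refine Finset.sum_congr rfl fun a ha => ?_
          rw [← Finset.prod_erase_mul s _ ha, map_mul, map_mul, Polynomial.aeval_C,
            Module.End.mul_apply, Module.End.mul_apply, hw a, Module.algebraMap_end_apply]
      _ = 0 := by
          simp only [← map_smul, ← map_sum, hc, map_zero]
  have hQ0 : Q = 0 := by
    by_contra hne
    have hmon := Polynomial.monic_mul_leadingCoeff_inv hne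
    have h1 := ((Module.End.isUnit_iff _).1 (hcon _ hmon)).1
    apply hv
    apply h1
    rw [map_zero, map_mul, Polynomial.aeval_C, ← Algebra.commutes, Module.End.mul_apply, hQv,
      map_zero]
  have := congrArg (Polynomial.eval i) hQ0
  rw [hQ, Polynomial.eval_finset_sum, Polynomial.eval_zero, Finset.sum_eq_single i] at this
  · rw [Polynomial.eval_mul, Polynomial.eval_C, Polynomial.eval_prod] at this
    refine (mul_eq_zero.1 this).resolve_right (Finset.prod_ne_zero_iff.2 fun b hb => ?_)
    rw [Polynomial.eval_sub, Polynomial.eval_X, Polynomial.eval_C]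
    exact sub_ne_zero.2 (Finset.ne_of_mem_erase hb).symm
  · intro b _ hb
    rw [Polynomial.eval_mul, Polynomial.eval_prod, Finset.prod_eq_zero (Finset.mem_erase.2 ⟨Ne.symm hb, hi⟩) (by simp), mul_zero]
  · exact fun h => absurd hi h

end Groth.Agent.S9610
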