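import Groth.Statements.S9611


set_option autoImplicit false
universe u
open CAlg

namespace Groth.Agent.S9611

/-- Let R be a Jacobson ring, p a prime ideal of R which is not maximal, and f an element of R not in p.
Then the set of primes of R containing p and not containing f is infinite. -/
theorem result {R : Type u} [CommRing R] [IsJacobsonRing R] (p : Ideal R) [p.IsPrime] (hp : ¬ p.IsMaximal) (f : R) (hf : f ∉ p) :
    {q : PrimeSpectrum R | p ≤ q.asIdeal ∧ f ∉ q.asIdeal}.Infinite := by
  intro hfin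
  classical
  haveI : Finite {q : PrimeSpectrum R | p ≤ q.asIdeal ∧ f ∉ q.asIdeal} := hfin
  set s := hfin.toFinset.filter (fun q => q.asIdeal.IsMaximal) with hs
  have hne : ∀ q ∈ s, ∃ g ∈ q.asIdeal, g ∉ p := by
    intro q hq
    rw [hs, Finset.mem_filter, Set.Finite.mem_toFinset] at hq
    exact SetLike.not_le_iff_exists.1 fun h => hp (le_antisymm hq.1.1 h ▸ hq.2)
  choose g hg hgp using hne
  have hjac : f * ∏ q ∈ s.attach, g q.1 q.2 ∈ p.jacobson := by
    rw [Ideal.jacobson, Submodule.mem_sInf]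
    rintro m ⟨hpm, hm⟩
    by_cases hfm : f ∈ m
    · exact Ideal.mul_mem_right _ _ hfm
    · refine Ideal.mul_mem_left _ _ ?_
      have hq : (⟨m, hm.isPrime⟩ : PrimeSpectrum R) ∈ s := by
        rw [hs, Finset.mem_filter, Set.Finite.mem_toFinset]
        exact ⟨⟨hpm, hfm⟩, hm⟩
      exact Ideal.mem_of_dvd _ (Finset.dvd_prod_of_mem _ (Finset.mem_attach s ⟨_, hq⟩)) (hg _ hq)
  rw [IsJacobsonRing.out inferInstance (Ideal.IsPrime.isRadical inferInstance)] at hjac
  rcases Ideal.IsPrime.mem_or_mem inferInstance hjac with h | h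
  · exact hf h
  · obtain ⟨q, -, hq⟩ := (Ideal.IsPrime.prod_mem_iff (p := p)).1 h
    exact hgp _ _ hq

end Groth.Agent.S9611
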