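import Groth.Statements.S9613
import Mathlib.RingTheory.Jacobson.Ring
import Mathlib.RingTheory.Algebraic.Integral
import Mathlib.RingTheory.Localization.Integral
import Mathlib.RingTheory.Localization.Away.Basic
import Mathlib.RingTheory.IntegralClosure.IsIntegralClosure.Basic

set_option autoImplicit false
universe u
open CAlg

namespace Groth.Agent.S9613

/-- Let R → K be an injective ring map into a field K which makes K an R-algebra of finite type. Then
for some nonzero f ∈ R the localization R_f is a field over which K is finite; here R_f is realised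
as the R-subalgebra of K that is a localization of R away from f. -/
theorem result {R K : Type u} [CommRing R] [Field K] [Algebra R K] (hinj : Function.Injective (algebraMap R K)) [Algebra.FiniteType R K] :
    ∃ f : R, f ≠ 0 ∧ ∃ Rf : Subalgebra R K, IsLocalization.Away f Rf ∧ IsField Rf ∧ Module.Finite Rf K := by
  classical
  haveI : IsDomain R := hinj.isDomain (algebraMap R K)
  haveI : FaithfulSMul R K := (faithfulSMul_iff_algebraMap_injective R K).2 hinj
  let F := FractionRing R
  letI : Algebra F K := (IsFractionRing.lift hinj).toAlgebra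
  haveI : IsScalarTower R F K := IsScalarTower.of_algebraMap_eq fun x =>
    (IsFractionRing.lift_algebraMap hinj x).symm
  haveI : Algebra.FiniteType F K := Algebra.FiniteType.of_restrictScalars_finiteType R F K
  haveI : Module.Finite F K := finite_of_finite_type_of_isJacobsonRing F K
  haveI : Algebra.IsAlgebraic R K :=
    (IsFractionRing.comap_isAlgebraic_iff (A := R) (K := F) (C := K)).2 inferInstance
  obtain ⟨G, hG⟩ := (inferInstance : Algebra.FiniteType R K)
  choose y hy0 hy using fun g : K => (Algebra.IsAlgebraic.isAlgebraic (R := R) g).exists_integral_multiple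
  let f := ∏ g ∈ G, y g
  have hf : f ≠ 0 := Finset.prod_ne_zero_iff.2 fun g _ => hy0 g
  let Rf : Subalgebra R K := Algebra.adjoin R {(algebraMap R K f)⁻¹}
  have hfK : algebraMap R K f ≠ 0 := (map_ne_zero_iff _ hinj).2 hf
  have hu : IsUnit (algebraMap R Rf f) := IsUnit.of_mul_eq_one
    (⟨_, Algebra.subset_adjoin rfl⟩ : Rf) (Subtype.ext (mul_inv_cancel₀ hfK))
  haveI hloc : IsLocalization.Away f Rf := by
    refine IsLocalization.Away.mk f hu ?_ fun a b h => ⟨0, by rw [hinj (congrArg Subtype.val h)]⟩
    rintro ⟨s, hs⟩
    suffices ∃ (n : ℕ) (a : R), s * algebraMap R K f ^ n = algebraMap R K a by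
      obtain ⟨n, a, h⟩ := this
      exact ⟨n, a, Subtype.ext h⟩
    induction hs using Algebra.adjoin_induction with
    | mem x hx =>
      rw [Set.mem_singleton_iff] at hx
      exact ⟨1, 1, by rw [hx, pow_one, inv_mul_cancel₀ hfK, map_one]⟩
    | algebraMap r => exact ⟨0, r, by simp⟩
    | add a b _ _ ha hb =>
      obtain ⟨n, x, hx⟩ := ha
      obtain ⟨m, z, hz⟩ := hb
      refine ⟨n + m, x * f ^ m + z * f ^ n, ?_⟩
      rw [map_add, map_mul, map_mul, map_pow, map_pow, ← hx, ← hz, add_mul, pow_add]
      ring
    | mul a b _ _ ha hb =>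
      obtain ⟨n, x, hx⟩ := ha
      obtain ⟨m, z, hz⟩ := hb
      refine ⟨n + m, x * z, ?_⟩
      rw [map_mul, ← hx, ← hz, pow_add]
      ring
  have hGint : ∀ g ∈ (G : Set K), IsIntegral Rf g := by
    intro g hg
    have hdvd : y g ∣ f := Finset.dvd_prod_of_mem y hg
    obtain ⟨c, hc⟩ := hdvd
    have hunit : IsUnit (algebraMap R Rf (y g)) := by
      rw [hc, map_mul] at hu
      exact isUnit_of_mul_isUnit_left hu
    obtain ⟨u, hu'⟩ := hunit
    have h1 : g = ((↑u⁻¹ : Rf) : K) * (y g • g) := by
      have h2 : ((↑u⁻¹ : Rf) : K) * algebraMap R K (y g) = 1 := by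
        have h3 : algebraMap R K (y g) = ((u : Rf) : K) := by rw [hu']; rfl
        rw [h3, ← MulMemClass.coe_mul, Units.inv_mul, OneMemClass.coe_one]
      rw [Algebra.smul_def, ← mul_assoc, h2, one_mul]
    rw [h1]
    exact (isIntegral_algebraMap (x := (↑u⁻¹ : Rf))).mul (hy g).tower_top
  have htop : Algebra.adjoin Rf (G : Set K) = ⊤ := by
    rw [eq_top_iff]
    rintro x -
    have : x ∈ Algebra.adjoin R (G : Set K) := by rw [hG]; exact Algebra.mem_top
    induction this using Algebra.adjoin_induction with
    | mem z hz => exact Algebra.subset_adjoin hz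
    | algebraMap r =>
      rw [IsScalarTower.algebraMap_apply R Rf K r]
      exact Subalgebra.algebraMap_mem _ _
    | add a b _ _ ha hb => exact add_mem ha hb
    | mul a b _ _ ha hb => exact mul_mem ha hb
  haveI hfin : Module.Finite Rf K := ⟨by
    have := fg_adjoin_of_finite G.finite_toSet hGint
    rwa [htop, Algebra.top_toSubmodule] at this⟩
  exact ⟨f, hf, Rf, hloc,
    isField_of_isIntegral_of_isField (R := Rf) (S := K) Subtype.val_injective (Field.toIsField K), hfin⟩

end Groth.Agent.S9613
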