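import Groth.Statements.S9614


set_option autoImplicit false
universe u
open CAlg

namespace Groth.Agent.S9614

/-- Let S be an ℕ-graded ring and M a finitely generated graded S-module, graded in nonnegative degrees
(the source allows all integer degrees). If x_1, …, x_n are homogeneous elements of M which generate
M modulo S₊ M (S₊ the irrelevant ideal), then x_1, …, x_n generate M. -/
theorem result {R S : Type u} [CommRing R] [CommRing S] [Algebra R S] (𝒜 : ℕ → Submodule R S) [GradedAlgebra 𝒜]
    (M : Type u) [AddCommGroup M] [Module R M] [Module S M] [IsScalarTower R S M] [Module.Finite S M] (ℳ : ℕ → Submodule R M) [DirectSum.Decomposition ℳ] [SetLike.GradedSMul 𝒜 ℳ]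
    {n : ℕ} (x : Fin n → M) (hx : ∀ i, SetLike.IsHomogeneousElem ℳ (x i))
    (h : Submodule.span S (Set.range x) ⊔ (HomogeneousIdeal.irrelevant 𝒜).toIdeal • (⊤ : Submodule S M) = ⊤) :
    Submodule.span S (Set.range x) = ⊤ := by
  classical
  set N := Submodule.span S (Set.range x) with hN
  have key : ∀ (s : S) (m : M) (k : ℕ), ((DirectSum.decompose ℳ (s • m) k : ℳ k) : M) =
      ∑ i ∈ (DirectSum.decompose 𝒜 s).support, ∑ j ∈ (DirectSum.decompose ℳ m).support,
        if i + j = k then ((DirectSum.decompose 𝒜 s i : 𝒜 i) : S) • ((DirectSum.decompose ℳ m j : ℳ j) : M) else 0 := by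
    intro s m k
    conv_lhs => rw [← DirectSum.sum_support_decompose 𝒜 s, ← DirectSum.sum_support_decompose ℳ m]
    rw [Finset.sum_smul, DirectSum.decompose_sum, DFinsupp.finsetSum_apply, AddSubmonoidClass.coe_finsetSum]
    refine Finset.sum_congr rfl fun i _ => ?_
    rw [Finset.smul_sum, DirectSum.decompose_sum, DFinsupp.finsetSum_apply, AddSubmonoidClass.coe_finsetSum]
    refine Finset.sum_congr rfl fun j _ => ?_
    have hmem : ((DirectSum.decompose 𝒜 s i : 𝒜 i) : S) • ((DirectSum.decompose ℳ m j : ℳ j) : M) ∈ ℳ (i + j) :=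
      (SetLike.GradedSMul.smul_mem (i := i) (j := j) (DirectSum.decompose 𝒜 s i).2 (DirectSum.decompose ℳ m j).2 :)
    split_ifs with hk
    · subst hk
      exact DirectSum.decompose_of_mem_same ℳ hmem
    · exact DirectSum.decompose_of_mem_ne ℳ hmem hk
  have hNhom : ∀ y ∈ N, ∀ k, ((DirectSum.decompose ℳ y k : ℳ k) : M) ∈ N := by
    intro y hy
    induction hy using Submodule.span_induction with
    | mem y hy =>
      obtain ⟨i, rfl⟩ := hy
      obtain ⟨d, hd⟩ := hx i
      intro k
      by_cases hk : d = k
      · subst hk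
        rw [DirectSum.decompose_of_mem_same ℳ hd]
        exact Submodule.subset_span (Set.mem_range_self i)
      · rw [DirectSum.decompose_of_mem_ne ℳ hd hk]
        exact zero_mem _
    | zero => intro k; simp
    | add a b _ _ ha hb =>
      intro k
      rw [DirectSum.decompose_add, DirectSum.add_apply, AddMemClass.coe_add]
      exact add_mem (ha k) (hb k)
    | smul s a _ ha =>
      intro k
      rw [key]
      refine sum_mem fun i _ => sum_mem fun j _ => ?_
      split_ifs
      · exact N.smul_mem _ (ha j)
      · exact zero_mem _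
  have hlow : ∀ n, (∀ j < n, ∀ m ∈ ℳ j, m ∈ N) → ∀ z ∈ (HomogeneousIdeal.irrelevant 𝒜).toIdeal • (⊤ : Submodule S M),
      ((DirectSum.decompose ℳ z n : ℳ n) : M) ∈ N := by
    intro n ih z hz
    refine Submodule.smul_induction_on hz (fun s hs m _ => ?_) (fun a b ha hb => ?_)
    · rw [key]
      refine sum_mem fun i _ => sum_mem fun j _ => ?_
      split_ifs with hij
      · rcases Nat.eq_zero_or_pos i with rfl | hi
        · have : ((DirectSum.decompose 𝒜 s 0 : 𝒜 0) : S) = 0 := by
            simpa [HomogeneousIdeal.mem_irrelevant_iff, GradedRing.proj_apply] using hs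
          rw [this, zero_smul]
          exact zero_mem _
        · exact N.smul_mem _ (ih j (by omega) _ (Subtype.prop _))
      · exact zero_mem _
    · rw [DirectSum.decompose_add, DirectSum.add_apply, AddMemClass.coe_add]
      exact add_mem ha hb
  have hall : ∀ n, ∀ m ∈ ℳ n, m ∈ N := by
    intro n
    induction n using Nat.strong_induction_on with
    | _ n ih =>
      intro m hm
      obtain ⟨a, ha, b, hb, hab⟩ := Submodule.mem_sup.1 (h ▸ Submodule.mem_top : m ∈ N ⊔ _)
      have := congrArg (fun y => ((DirectSum.decompose ℳ y n : ℳ n) : M)) hab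
      simp only [DirectSum.decompose_add, DirectSum.add_apply, AddMemClass.coe_add] at this
      rw [DirectSum.decompose_of_mem_same ℳ hm] at this
      rw [← this]
      exact add_mem (hNhom a ha n) (hlow n ih b hb)
  refine eq_top_iff.2 fun m _ => ?_
  rw [← DirectSum.sum_support_decompose ℳ m]
  exact sum_mem fun j _ => hall j _ (Subtype.prop _)

end Groth.Agent.S9614
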