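import Groth.Statements.S9615
import Mathlib.RingTheory.Polynomial.IsIntegral
import Mathlib.RingTheory.GradedAlgebra.Basic

set_option autoImplicit false
universe u
open CAlg

attribute [local instance] Polynomial.algebra

namespace Groth.Agent.S9615

/-- Let R → S be a homomorphism of ℕ-graded rings, i.e. the structure map carries each graded piece R_i
into S_i. If an element s of S is integral over R, then each homogeneous component of s is integral
over R; so the integral closure of R in S is a graded subring of S. -/
theorem result {R S : Type u} [CommRing R] [CommRing S] [Algebra R S] (ℛ : ℕ → AddSubgroup R) [GradedRing ℛ] (𝒮 : ℕ → AddSubgroup S) [GradedRing 𝒮]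
    (hmap : ∀ i : ℕ, ∀ r ∈ ℛ i, algebraMap R S r ∈ 𝒮 i) (s : S) (hs : IsIntegral R s) (i : ℕ) :
    IsIntegral R ((DirectSum.decompose 𝒮 s i : 𝒮 i) : S) := by
  classical
  let lam : S →+* Polynomial S :=
    (DirectSum.toSemiring (fun i => (Polynomial.monomial i).toAddMonoidHom.comp (𝒮 i).subtype)
      (show Polynomial.monomial 0 (1 : S) = 1 from Polynomial.monomial_zero_one)
      (fun {i j} a b => by simp [Polynomial.monomial_mul_monomial])).comp
      (DirectSum.decomposeRingEquiv 𝒮).toRingHom
  let lamR : R →+* Polynomial R :=
    (DirectSum.toSemiring (fun i => (Polynomial.monomial i).toAddMonoidHom.comp (ℛ i).subtype)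
      (show Polynomial.monomial 0 (1 : R) = 1 from Polynomial.monomial_zero_one)
      (fun {i j} a b => by simp [Polynomial.monomial_mul_monomial])).comp
      (DirectSum.decomposeRingEquiv ℛ).toRingHom
  have hlam : ∀ (j : ℕ) (x : S), x ∈ 𝒮 j → lam x = Polynomial.monomial j x := fun j x hx => by
    simp only [lam, RingHom.comp_apply]
    rw [show (DirectSum.decomposeRingEquiv 𝒮).toRingHom x = DirectSum.of (fun i => 𝒮 i) j ⟨x, hx⟩
      from DirectSum.decompose_of_mem 𝒮 hx]
    erw [DirectSum.toSemiring_of]
    rfl
  have hlamR : ∀ (j : ℕ) (x : R), x ∈ ℛ j → lamR x = Polynomial.monomial j x := fun j x hx => by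
    simp only [lamR, RingHom.comp_apply]
    rw [show (DirectSum.decomposeRingEquiv ℛ).toRingHom x = DirectSum.of (fun i => ℛ i) j ⟨x, hx⟩
      from DirectSum.decompose_of_mem ℛ hx]
    erw [DirectSum.toSemiring_of]
    rfl
  have hcomm : ∀ r : R, lam (algebraMap R S r) = (lamR r).map (algebraMap R S) := fun r => by
    induction r using DirectSum.Decomposition.inductionOn ℛ with
    | zero => simp
    | homogeneous m => rw [hlam _ _ (hmap _ _ m.2), hlamR _ _ m.2, Polynomial.map_monomial]
    | add x y hx hy => simp [map_add, hx, hy]
  have hint : IsIntegral (Polynomial R) (lam s) := by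
    obtain ⟨p, hp, hps⟩ := hs
    refine ⟨p.map lamR, hp.map _, ?_⟩
    rw [Polynomial.eval₂_map]
    have h := congrArg lam hps
    rw [Polynomial.hom_eval₂, map_zero] at h
    rwa [show lam.comp (algebraMap R S) = (algebraMap (Polynomial R) (Polynomial S)).comp lamR from
      RingHom.ext hcomm] at h
  have hcoeff : (lam s).coeff i = ((DirectSum.decompose 𝒮 s i : 𝒮 i) : S) := by
    clear hint hs
    induction s using DirectSum.Decomposition.inductionOn 𝒮 with
    | zero => simp
    | @homogeneous j m =>
      rw [hlam _ _ m.2, Polynomial.coeff_monomial]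
      split
      · subst_vars
        rw [DirectSum.decompose_of_mem_same 𝒮 m.2]
      · rename_i hne
        rw [DirectSum.decompose_of_mem_ne 𝒮 m.2 hne]
    | add x y hx hy => simp [map_add, hx, hy]
  rw [← hcoeff]
  exact Polynomial.isIntegral_iff_isIntegral_coeff.1 hint i

end Groth.Agent.S9615
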