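import Groth.Statements.S9616


set_option autoImplicit false
universe u
open CAlg

namespace Groth.Agent.S9616

/-- Let S be an ℕ-graded ring, p_1, …, p_r homogeneous prime ideals of S and I ⊆ S₊ a homogeneous ideal
not contained in any p_i. Then there is a homogeneous element x ∈ I of positive degree with x ∉ p_i
for all i. -/
theorem result {R S : Type u} [CommRing R] [CommRing S] [Algebra R S] (𝒜 : ℕ → Submodule R S) [GradedAlgebra 𝒜]
    {r : ℕ} (p : Fin r → HomogeneousIdeal 𝒜) (hp : ∀ i, (p i).toIdeal.IsPrime) (I : HomogeneousIdeal 𝒜) (hI : I ≤ HomogeneousIdeal.irrelevant 𝒜) (h : ∀ i, ¬ I ≤ p i) :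
    ∃ x : S, ∃ d : ℕ, 0 < d ∧ x ∈ 𝒜 d ∧ x ∈ I ∧ ∀ i, x ∉ p i := by
  classical
  have comp : ∀ (J : HomogeneousIdeal 𝒜) (P : Ideal S), ¬ J.toIdeal ≤ P → ∃ d z, z ∈ 𝒜 d ∧ z ∈ J.toIdeal ∧ z ∉ P := by
    intro J P hJ
    obtain ⟨y, hyJ, hyP⟩ := SetLike.not_le_iff_exists.1 hJ
    by_contra hcon
    push Not at hcon
    apply hyP
    rw [← DirectSum.sum_support_decompose 𝒜 y]
    exact sum_mem fun d _ => hcon d _ (Subtype.prop _) (J.isHomogeneous d hyJ)
  have pos : ∀ (P : Ideal S) d z, z ∈ 𝒜 d → z ∈ I.toIdeal → z ∉ P → 0 < d := by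
    intro P d z hz hzI hzP
    rcases Nat.eq_zero_or_pos d with rfl | hd
    · refine absurd ?_ hzP
      have := (HomogeneousIdeal.mem_irrelevant_iff 𝒜 z).1 (hI hzI)
      rw [GradedRing.proj_apply, DirectSum.decompose_of_mem_same 𝒜 hz] at this
      rw [this]; exact zero_mem _
    · exact hd
  suffices ∀ (k : ℕ) (s : Finset (Fin r)), s.card ≤ k → ∃ d x, x ∈ 𝒜 d ∧ x ∈ I.toIdeal ∧
      (∀ i ∈ s, x ∉ (p i).toIdeal) ∧ (s.Nonempty → 0 < d) by
    rcases isEmpty_or_nonempty (Fin r) with hr | hr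
    · exact ⟨0, 1, one_pos, zero_mem _, zero_mem _, fun i => (hr.false i).elim⟩
    · obtain ⟨d, x, hx, hxI, hxp, hd⟩ := this _ Finset.univ le_rfl
      exact ⟨x, d, hd Finset.univ_nonempty, hx, hxI, fun i => hxp i (Finset.mem_univ i)⟩
  intro k
  induction k with
  | zero =>
    intro s hs
    rw [Nat.le_zero, Finset.card_eq_zero] at hs
    exact ⟨0, 0, zero_mem _, zero_mem _, by simp [hs], by simp [hs]⟩
  | succ k ih =>
    intro s hs
    by_cases hsne : s.Nonempty
    swap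
    · exact ⟨0, 0, zero_mem _, zero_mem _, fun i hi => absurd ⟨i, hi⟩ hsne, fun h' => absurd h' hsne⟩
    obtain ⟨a, ha⟩ := hsne
    haveI := hp a
    have hcard : (s.erase a).card ≤ k := by rw [Finset.card_erase_of_mem ha]; omega
    by_cases hsub : ∃ j ∈ s.erase a, (p j).toIdeal ≤ (p a).toIdeal
    · obtain ⟨j, hj, hjle⟩ := hsub
      have hjs := Finset.mem_of_mem_erase hj
      obtain ⟨d, x, hx, hxI, hxp, hd⟩ := ih (s.erase j) (by rw [Finset.card_erase_of_mem hjs]; omega)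
      have haj : a ∈ s.erase j := Finset.mem_erase.2 ⟨(Finset.ne_of_mem_erase hj).symm, ha⟩
      refine ⟨d, x, hx, hxI, fun i hi => ?_, fun _ => hd ⟨a, haj⟩⟩
      by_cases hij : i = j
      · subst hij
        exact fun h' => hxp a haj (hjle h')
      · exact hxp i (Finset.mem_erase.2 ⟨hij, hi⟩)
    push Not at hsub
    obtain ⟨e0, z0, hz0, hz0I, hz0p⟩ := comp I (p a).toIdeal (fun hle => h a hle)
    choose! ej zj hzj hzjp hzja using fun j (hj : j ∈ s.erase a) => comp (p j) (p a).toIdeal (hsub j hj)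
    set y := z0 * ∏ j ∈ s.erase a, zj j
    have hy : y ∈ 𝒜 (e0 + ∑ j ∈ s.erase a, ej j) :=
      SetLike.mul_mem_graded hz0 (SetLike.prod_mem_graded 𝒜 _ _ hzj)
    have hyI : y ∈ I.toIdeal := Ideal.mul_mem_right _ _ hz0I
    have hya : y ∉ (p a).toIdeal := by
      intro h'
      rcases (hp a).mem_or_mem h' with h1 | h1
      · exact hz0p h1
      · obtain ⟨j, hj, hj'⟩ := (hp a).prod_mem_iff.1 h1
        exact hzja j hj hj'
    have he : 0 < e0 + ∑ j ∈ s.erase a, ej j := Nat.add_pos_left (pos _ _ _ hz0 hz0I hz0p) _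
    set e := e0 + ∑ j ∈ s.erase a, ej j
    obtain ⟨d, x, hx, hxI, hxp, hd⟩ := ih (s.erase a) hcard
    by_cases hne : (s.erase a).Nonempty
    swap
    · refine ⟨e, y, hy, hyI, fun i hi => ?_, fun _ => he⟩
      by_cases hia : i = a
      · subst hia; exact hya
      · exact absurd ⟨i, Finset.mem_erase.2 ⟨hia, hi⟩⟩ hne
    by_cases hxa : x ∈ (p a).toIdeal
    swap
    · refine ⟨d, x, hx, hxI, fun i hi => ?_, fun _ => hd hne⟩
      by_cases hia : i = a
      · subst hia; exact hxa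
      · exact hxp i (Finset.mem_erase.2 ⟨hia, hi⟩)
    have hd' := hd hne
    refine ⟨e * d, x ^ e + y ^ d, add_mem ?_ ?_, add_mem (Ideal.pow_mem_of_mem _ hxI e he) (Ideal.pow_mem_of_mem _ hyI d hd'),
      fun i hi => ?_, fun _ => Nat.mul_pos he hd'⟩
    · exact SetLike.pow_mem_graded e hx
    · rw [mul_comm]; exact SetLike.pow_mem_graded d hy
    · intro hsum
      by_cases hia : i = a
      · subst hia
        exact hya ((hp i).mem_of_pow_mem d
          ((Ideal.add_mem_iff_right _ (Ideal.pow_mem_of_mem _ hxa e he)).1 hsum))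
      · have hi' : i ∈ s.erase a := Finset.mem_erase.2 ⟨hia, hi⟩
        have hyi : y ∈ (p i).toIdeal :=
          Ideal.mul_mem_left _ _ (Ideal.mem_of_dvd _ (Finset.dvd_prod_of_mem _ hi') (hzjp i hi'))
        exact hxp i hi' ((hp i).mem_of_pow_mem e
          ((Ideal.add_mem_iff_left _ (Ideal.pow_mem_of_mem _ hyi d hd')).1 hsum))

end Groth.Agent.S9616
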