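import Groth.Statements.S9617
import Mathlib.RingTheory.GradedAlgebra.Basic
import Mathlib.RingTheory.IntegralClosure.IsIntegralClosure.Basic
import Mathlib.RingTheory.FiniteType

set_option autoImplicit false
universe u
open CAlg

namespace Groth.Agent.S9617

/-- Let S be an ℕ-graded ring, presented as a graded algebra over a ring A mapping onto S₀, such that S
is of finite type over A, i.e. over S₀. If M is a finitely generated graded S-module, graded in
nonnegative degrees (the source allows all integer degrees), then each graded piece M_n is a finite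
module over A, i.e. over S₀. -/
theorem result {A S : Type u} [CommRing A] [CommRing S] [Algebra A S] (𝒜 : ℕ → Submodule A S) [GradedAlgebra 𝒜]
    (h0 : ∀ s ∈ 𝒜 0, s ∈ Set.range (algebraMap A S)) [Algebra.FiniteType A S]
    (M : Type u) [AddCommGroup M] [Module A M] [Module S M] [IsScalarTower A S M] [Module.Finite S M] (ℳ : ℕ → Submodule A M) [DirectSum.Decomposition ℳ] [SetLike.GradedSMul 𝒜 ℳ] (n : ℕ) :
    Module.Finite A (ℳ n) := by
  classical
  let Q : Ideal S := Ideal.span {s | ∃ i, n < i ∧ s ∈ 𝒜 i}
  let pr : M →ₗ[A] ℳ n :=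
    DirectSum.component A ℕ (fun i => ℳ i) n ∘ₗ (DirectSum.decomposeLinearEquiv ℳ).toLinearMap
  have hpr : ∀ x, ((pr x : ℳ n) : M) = (DirectSum.decompose ℳ x n : M) := fun x => rfl
  have hkill : ∀ q ∈ Q, ∀ x : M, pr (q • x) = 0 := by
    intro q hq
    induction hq using Submodule.span_induction with
    | mem s hs =>
      obtain ⟨i, hi, hs⟩ := hs
      intro x
      induction x using DirectSum.Decomposition.inductionOn ℳ with
      | zero => simp
      | @homogeneous j y =>
        refine Subtype.ext ?_
        rw [hpr]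
        have hmem : s • (y : M) ∈ ℳ (i + j) := SetLike.GradedSMul.smul_mem hs y.2
        exact DirectSum.decompose_of_mem_ne ℳ hmem (by omega)
      | add a b ha hb => rw [smul_add, map_add, ha, hb, add_zero]
    | zero => simp
    | add a b _ _ ha hb => intro x; rw [add_smul, map_add, ha, hb, add_zero]
    | smul c a _ ha => intro x; rw [smul_eq_mul, mul_comm, mul_smul]; exact ha _
  haveI : Algebra.IsIntegral A (S ⧸ Q) := ⟨fun z => by
    obtain ⟨s, rfl⟩ := Ideal.Quotient.mkₐ_surjective A Q z
    induction s using DirectSum.Decomposition.inductionOn 𝒜 with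
    | zero => rw [map_zero]; exact isIntegral_zero
    | @homogeneous e s =>
      rcases Nat.eq_zero_or_pos e with rfl | he
      · obtain ⟨a, ha⟩ := h0 s s.2
        rw [← ha, AlgHom.commutes]
        exact isIntegral_algebraMap
      · refine IsIntegral.of_pow (Nat.succ_pos n) ?_
        have hmem : (s : S) ^ (n + 1) ∈ Q := Ideal.subset_span
          ⟨(n + 1) • e, by rw [smul_eq_mul]; exact lt_of_lt_of_le (Nat.lt_succ_self n) (Nat.le_mul_of_pos_right _ he),
            SetLike.pow_mem_graded _ s.2⟩
        rw [← map_pow, show (Ideal.Quotient.mkₐ A Q) ((s : S) ^ (n + 1)) = 0 from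
          Ideal.Quotient.eq_zero_iff_mem.2 hmem]
        exact isIntegral_zero
    | add a b ha hb => rw [map_add]; exact ha.add hb⟩
  haveI : Algebra.FiniteType A (S ⧸ Q) :=
    Algebra.FiniteType.of_surjective (Ideal.Quotient.mkₐ A Q) (Ideal.Quotient.mkₐ_surjective A Q)
  haveI : Module.Finite A (S ⧸ Q) := Algebra.IsIntegral.finite
  obtain ⟨k, m, hm⟩ := Submodule.fg_iff_exists_fin_generating_family.1 (Module.Finite.fg_top (R := S) (M := M))
  let ψ : Fin k → (S ⧸ Q.restrictScalars A) →ₗ[A] ℳ n := fun l =>
    (Q.restrictScalars A).liftQ (pr ∘ₗ ((LinearMap.toSpanSingleton S M (m l)).restrictScalars A))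
      fun q hq => hkill q hq (m l)
  haveI : Module.Finite A (S ⧸ Q.restrictScalars A) :=
    Module.Finite.equiv (Submodule.Quotient.restrictScalarsEquiv A Q).symm
  refine Module.Finite.of_surjective (∑ l, ψ l ∘ₗ LinearMap.proj l :
    (Fin k → S ⧸ Q.restrictScalars A) →ₗ[A] ℳ n) fun x => ?_
  obtain ⟨c, hc⟩ := (Submodule.mem_span_range_iff_exists_fun S).1 (hm ▸ Submodule.mem_top (x := (x : M)))
  refine ⟨fun l => Submodule.Quotient.mk (c l), ?_⟩
  refine Eq.trans (b := pr (∑ l, c l • m l)) ?_ ?_
  · simp only [LinearMap.sum_apply, LinearMap.comp_apply, LinearMap.coe_proj, Function.eval, ψ, map_sum]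
    exact Finset.sum_congr rfl fun l _ => Submodule.liftQ_apply _ _ _
  · rw [hc]
    refine Subtype.ext ?_
    rw [hpr]
    exact DirectSum.decompose_of_mem_same ℳ x.2

end Groth.Agent.S9617
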