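import Groth.Statements.S9618
import Groth.Agent.L03.Idem

set_option autoImplicit false
universe u
open CAlg

namespace Groth.Agent.S9618

/-- For a ring R and a subset T of Spec R the following are equivalent: (1) T is closed and contains the
connected component of each of its points; (2) T can be written as an intersection of subsets of
Spec R that are both open and closed; (3) T is the common zero locus of some set of idempotent
elements of R (equivalently, of the ideal they generate). -/
theorem result {R : Type u} [CommRing R] (T : Set (PrimeSpectrum R)) :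
    [IsClosed T ∧ ∀ x ∈ T, connectedComponent x ⊆ T,
      ∃ U : Set (Set (PrimeSpectrum R)), (∀ u ∈ U, IsClopen u) ∧ T = ⋂₀ U,
      ∃ E : Set R, (∀ e ∈ E, IsIdempotentElem e) ∧ T = PrimeSpectrum.zeroLocus E].TFAE := by
  tfae_have 1 → 3 := by
    rintro ⟨hT, hcomp⟩
    refine ⟨{e | IsIdempotentElem e ∧ ∀ x ∈ T, e ∈ x.asIdeal}, fun e he => he.1,
      Set.Subset.antisymm (fun x hx e he => he.2 x hx) fun x hx => ?_⟩
    by_contra hxT
    have hdisj : ∀ y ∈ T, y ∉ connectedComponent x := fun y hy hyx =>
      hxT (hcomp y hy (by rw [← connectedComponent_eq hyx]; exact mem_connectedComponent))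
    have htop : Ideal.span (Groth.L03.Idem.idems x.asIdeal) ⊔
        PrimeSpectrum.vanishingIdeal T = ⊤ := by
      rw [← PrimeSpectrum.zeroLocus_empty_iff_eq_top, PrimeSpectrum.zeroLocus_sup,
        PrimeSpectrum.zeroLocus_span, PrimeSpectrum.zeroLocus_vanishingIdeal_eq_closure,
        hT.closure_eq, ← Groth.L03.Idem.connectedComponent_eq, Set.eq_empty_iff_forall_notMem]
      exact fun y hy => hdisj y hy.2 hy.1
    rw [Ideal.eq_top_iff_one, Submodule.mem_sup] at htop
    obtain ⟨i, hi, j, hj, hij⟩ := htop
    obtain ⟨e, he, hei⟩ := Groth.L03.Idem.exists_idem_fix _ hi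
    have hmem : (1 - e) ∈ {e | IsIdempotentElem e ∧ ∀ x ∈ T, e ∈ x.asIdeal} := by
      refine ⟨he.1.one_sub, fun y hy => ?_⟩
      have : 1 - e = (1 - e) * j := by linear_combination (-1 : R) * hei - (1 - e) * hij
      rw [this]
      exact Ideal.mul_mem_left _ _ ((PrimeSpectrum.mem_vanishingIdeal T j).1 hj y hy)
    have := x.asIdeal.add_mem he.2 (hx hmem)
    rw [add_sub_cancel] at this
    exact x.isPrime.ne_top (Ideal.eq_top_iff_one _ |>.2 this)
  tfae_have 3 → 2 := by
    rintro ⟨E, hE, rfl⟩
    refine ⟨(fun e => PrimeSpectrum.zeroLocus {e}) '' E, ?_, ?_⟩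
    · rintro _ ⟨e, he, rfl⟩
      exact PrimeSpectrum.isClopen_iff_zeroLocus.2 ⟨e, hE e he, rfl⟩
    · ext x
      simp [PrimeSpectrum.mem_zeroLocus, Set.subset_def]
  tfae_have 2 → 1 := by
    rintro ⟨U, hU, rfl⟩
    refine ⟨isClosed_sInter fun u hu => (hU u hu).isClosed, fun x hx => ?_⟩
    exact Set.subset_sInter fun u hu => (hU u hu).connectedComponent_subset (hx u hu)
  tfae_finish

end Groth.Agent.S9618
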