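import Groth.Statements.S9621
import Groth.Agent.L03.WeakAss

set_option autoImplicit false
universe u
open CAlg

namespace Groth.Agent.S9621

/-- Let R be a ring, p a minimal prime of R and W a quasi-compact open subset of Spec R not containing
p. Then there is an f ∈ R, f ∉ p, whose basic open D(f) is disjoint from W. -/
theorem result {R : Type u} [CommRing R] (p : PrimeSpectrum R) (hp : p.asIdeal ∈ minimalPrimes R) (W : Set (PrimeSpectrum R)) (hWo : IsOpen W) (hWc : IsCompact W) (hpW : p ∉ W) :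
    ∃ f : R, f ∉ p.asIdeal ∧ Disjoint (PrimeSpectrum.basicOpen f : Set (PrimeSpectrum R)) W := by
  classical
  obtain ⟨t, rfl⟩ := PrimeSpectrum.isCompact_isOpen_iff.1 ⟨hWc, hWo⟩
  simp only [Set.mem_compl_iff, not_not, PrimeSpectrum.mem_zeroLocus] at hpW
  have h : ∀ g ∈ t, ∃ s, s ∉ p.asIdeal ∧ ∃ n : ℕ, s * g ^ n = 0 := by
    intro g hg
    obtain ⟨s, hs, n, hn⟩ := ((Groth.L03.WeakAss.minimalPrimes_iff (R := R)).1 hp).2.2 g (hpW hg)
    exact ⟨s, hs, n, Ideal.mem_bot.1 hn⟩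
  choose s hs n hn using h
  refine ⟨∏ g ∈ t.attach, s g.1 g.2, ?_, ?_⟩
  · intro h
    obtain ⟨g, -, hg⟩ := p.isPrime.prod_mem_iff.1 h
    exact hs _ _ hg
  · rw [Set.disjoint_left]
    intro q hq hqW
    apply hqW
    intro g hg
    have h0 : s g hg * g ^ n g hg ∈ q.asIdeal := by rw [hn g hg]; exact zero_mem _
    refine q.isPrime.mem_of_pow_mem _ ((q.isPrime.mem_or_mem h0).resolve_left fun hsq => hq ?_)
    exact Ideal.mem_of_dvd _ (Finset.dvd_prod_of_mem _ (Finset.mem_attach t ⟨g, hg⟩)) hsq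

end Groth.Agent.S9621
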