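import Groth.Statements.S9622
import Mathlib.RingTheory.HopkinsLevitzki
import Mathlib.RingTheory.IntegralClosure.Algebra.Basic
import Mathlib.RingTheory.Adjoin.Tower

set_option autoImplicit false
universe u
open CAlg

namespace Groth.Agent.S9622

/-- Let R → S be a ring map whose target S is a local Artinian ring, and write m for the maximal ideal
of S. Then S is a finite R-module exactly when S/m is, and S is an R-algebra of finite type exactly
when S/m is. -/
theorem result {R S : Type u} [CommRing R] [CommRing S] [Algebra R S] [IsArtinianRing S] [IsLocalRing S] :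
    (Module.Finite R S ↔ Module.Finite R (S ⧸ IsLocalRing.maximalIdeal S)) ∧
      (Algebra.FiniteType R S ↔ Algebra.FiniteType R (S ⧸ IsLocalRing.maximalIdeal S)) := by
  classical
  have key : ∀ A : Subalgebra R S, (∀ x : S, ∃ a ∈ A, x - a ∈ IsLocalRing.maximalIdeal S) →
      (∀ g : Finset S, Ideal.span (g : Set S) = IsLocalRing.maximalIdeal S → ↑g ⊆ (A : Set S) → A = ⊤) := by
    intro A hA g hg hgA
    have hstep : ∀ (k : ℕ), ∀ z ∈ IsLocalRing.maximalIdeal S ^ k, ∃ a ∈ A, z - a ∈ IsLocalRing.maximalIdeal S ^ (k + 1) := by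
      intro k
      induction k with
      | zero => simpa using hA
      | succ k ih =>
        intro z hz
        rw [pow_succ] at hz
        refine Submodule.mul_induction_on hz (fun u hu v hv => ?_) (fun u v hu hv => ?_)
        · obtain ⟨b, hb, hub⟩ := ih u hu
          have hv' : ∃ a ∈ A, v - a ∈ IsLocalRing.maximalIdeal S ^ 2 := by
            rw [← hg] at hv
            induction hv using Submodule.span_induction with
            | mem x hx => exact ⟨x, hgA hx, by simp⟩
            | zero => exact ⟨0, zero_mem _, by simp⟩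
            | add x y _ _ hx hy =>
              obtain ⟨a, ha, hxa⟩ := hx
              obtain ⟨c, hc, hyc⟩ := hy
              exact ⟨a + c, add_mem ha hc, by rw [add_sub_add_comm]; exact add_mem hxa hyc⟩
            | smul t x hx hxx =>
              obtain ⟨a, ha, hxa⟩ := hxx
              obtain ⟨e, he, hte⟩ := hA t
              have hxm : x ∈ IsLocalRing.maximalIdeal S := hg ▸ hx
              refine ⟨e * a, mul_mem he ha, ?_⟩
              rw [smul_eq_mul, show t * x - e * a = (t - e) * x + e * (x - a) by ring]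
              refine add_mem ?_ (Ideal.mul_mem_left _ _ hxa)
              rw [sq]
              exact Ideal.mul_mem_mul hte hxm
          obtain ⟨a, ha, hva⟩ := hv'
          refine ⟨b * a, mul_mem hb ha, ?_⟩
          rw [show u * v - b * a = (u - b) * v + b * (v - a) by ring]
          refine add_mem ?_ ?_
          · rw [pow_succ (IsLocalRing.maximalIdeal S) (k + 1)]
            exact Ideal.mul_mem_mul hub hv
          · have hbk : b ∈ IsLocalRing.maximalIdeal S ^ k := by
              have h1 : u - b ∈ IsLocalRing.maximalIdeal S ^ k := Ideal.pow_le_pow_right (Nat.le_succ k) hub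
              have := sub_mem hu h1
              rwa [sub_sub_cancel] at this
            rw [show k + 1 + 1 = k + 2 from rfl, pow_add]
            exact Ideal.mul_mem_mul hbk hva
        · obtain ⟨a, ha, hua⟩ := hu
          obtain ⟨c, hc, hvc⟩ := hv
          exact ⟨a + c, add_mem ha hc, by rw [add_sub_add_comm]; exact add_mem hua hvc⟩
    have hind : ∀ (k : ℕ) (x : S), ∃ a ∈ A, x - a ∈ IsLocalRing.maximalIdeal S ^ k := by
      intro k
      induction k with
      | zero => exact fun x => ⟨0, zero_mem _, by simp⟩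
      | succ k ih =>
        intro x
        obtain ⟨a, ha, hxa⟩ := ih x
        obtain ⟨c, hc, hac⟩ := hstep k _ hxa
        exact ⟨a + c, add_mem ha hc, by rwa [← sub_sub]⟩
    obtain ⟨n, hn⟩ := IsArtinianRing.isNilpotent_jacobson_bot (R := S)
    rw [IsLocalRing.jacobson_eq_maximalIdeal ⊥ bot_ne_top] at hn
    refine eq_top_iff.2 fun x _ => ?_
    obtain ⟨a, ha, hxa⟩ := hind n x
    rw [hn, Ideal.zero_eq_bot, Ideal.mem_bot, sub_eq_zero] at hxa
    exact hxa ▸ ha
  obtain ⟨g, hg⟩ := IsNoetherian.noetherian (IsLocalRing.maximalIdeal S)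
  have hft : Algebra.FiniteType R (S ⧸ IsLocalRing.maximalIdeal S) → Algebra.FiniteType R S := by
    rintro ⟨⟨t, ht⟩⟩
    refine ⟨⟨t.image Quotient.out ∪ g, ?_⟩⟩
    refine key _ (fun x => ?_) g hg ?_
    · set A := Algebra.adjoin R ((t.image Quotient.out ∪ g : Finset S) : Set S)
      have hle : Algebra.adjoin R (t : Set (S ⧸ IsLocalRing.maximalIdeal S)) ≤
          A.map (Ideal.Quotient.mkₐ R (IsLocalRing.maximalIdeal S)) := by
        refine Algebra.adjoin_le fun y hy => ?_
        refine ⟨Quotient.out y, Algebra.subset_adjoin (Finset.mem_union_left _ (Finset.mem_image_of_mem _ hy)), ?_⟩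
        exact Ideal.Quotient.mk_out y
      rw [ht] at hle
      obtain ⟨a, ha, hax⟩ := hle (Algebra.mem_top (x := Ideal.Quotient.mk _ x))
      exact ⟨a, ha, Ideal.Quotient.eq.1 hax.symm⟩
    · exact fun y hy => Algebra.subset_adjoin (Finset.mem_union_right _ hy)
  refine ⟨⟨fun h => Module.Finite.of_surjective (Ideal.Quotient.mkₐ R _).toLinearMap Ideal.Quotient.mk_surjective, fun h => ?_⟩,
    ⟨fun h => @Algebra.FiniteType.of_surjective _ _ _ _ _ _ _ _ h (Ideal.Quotient.mkₐ R _) Ideal.Quotient.mk_surjective, hft⟩⟩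
  haveI := hft inferInstance
  haveI : Algebra.IsIntegral R S := by
    constructor
    intro x
    obtain ⟨p, hp, hpx⟩ := Algebra.IsIntegral.isIntegral (R := R) (Ideal.Quotient.mk (IsLocalRing.maximalIdeal S) x)
    obtain ⟨n, hn⟩ := IsArtinianRing.isNilpotent_jacobson_bot (R := S)
    rw [IsLocalRing.jacobson_eq_maximalIdeal ⊥ bot_ne_top] at hn
    refine ⟨p ^ n, hp.pow n, ?_⟩
    rw [← Polynomial.aeval_def] at hpx ⊢
    rw [map_pow, ← Ideal.mem_bot, ← Ideal.zero_eq_bot, ← hn]
    refine Ideal.pow_mem_pow (Ideal.Quotient.eq_zero_iff_mem.1 ?_) n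
    rw [← Ideal.Quotient.mkₐ_eq_mk R, ← Polynomial.aeval_algHom_apply]
    exact hpx
  exact Algebra.IsIntegral.finite

end Groth.Agent.S9622
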