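import Groth.Statements.S9623
import Groth.Agent.L03.GeomIrred

set_option autoImplicit false
universe u
open CAlg

open TensorProduct

namespace Groth.Agent.S9623

open TensorProduct in
/-- Let k be a separably closed field and R, S two k-algebras with connected (nonempty) spectra. Then
Spec(R ⊗_k S) is connected. -/
theorem result {k R S : Type u} [Field k] [IsSepClosed k] [CommRing R] [CommRing S] [Algebra k R] [Algebra k S]
    [ConnectedSpace (PrimeSpectrum R)] [ConnectedSpace (PrimeSpectrum S)] :
    ConnectedSpace (PrimeSpectrum (R ⊗[k] S)) := by
  refine Groth.L03.GeomIrred.connected_tensor R S fun K _ _ => ?_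
  haveI := Groth.L03.GeomIrred.connected_tensor (k := k) S K fun F _ _ => by
    haveI : IrreducibleSpace (PrimeSpectrum (F ⊗[k] K)) := PrimeSpectrum.irreducibleSpace_iff_isPrime_nilradical.mpr
      (Groth.L02.SepClosedTensor.isPrime_nilradical_tensor (k := k)
        (by rw [nilradical_eq_zero]; exact Ideal.isPrime_bot) (by rw [nilradical_eq_zero]; exact Ideal.isPrime_bot))
    exact { toPreconnectedSpace := inferInstance, toNonempty := inferInstance }
  exact Groth.L03.GeomIrred.connectedSpace_of_injective (Algebra.TensorProduct.comm k K S).toRingEquiv.toRingHom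
    (Algebra.TensorProduct.comm k K S).injective inferInstance

end Groth.Agent.S9623
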