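import Groth.Statements.S9626
import Groth.Agent.L03.GeomIrred

set_option autoImplicit false
universe u
open CAlg

open TensorProduct

namespace Groth.Agent.S9626

open TensorProduct in
/-- Let k be a field, S a k-algebra with Spec(k' ⊗_k S) irreducible for every field extension k'/k, and
R any k-algebra. Then Spec(R ⊗_k S) → Spec(R) induces a bijection on irreducible components: taking
inverse images along R → R ⊗_k S maps the set of minimal primes of R ⊗_k S bijectively onto the set
of minimal primes of R. Here the test fields range over field extensions in the universe of k; this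
is equivalent to the unrestricted notion, since an algebraic closure of k suffices as a test. -/
theorem result {k R S : Type u} [Field k] [CommRing R] [CommRing S] [Algebra k R] [Algebra k S]
    (hS : ∀ (k' : Type u) [Field k'] [Algebra k k'], IrreducibleSpace (PrimeSpectrum (k' ⊗[k] S))) :
    Set.BijOn (Ideal.comap (algebraMap R (R ⊗[k] S))) (minimalPrimes (R ⊗[k] S)) (minimalPrimes R) := by
  let φ := algebraMap R (R ⊗[k] S)
  haveI := Groth.L03.GeomIrred.nontrivial_of_irreducible S hS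
  have hmin : ∀ P ∈ minimalPrimes (R ⊗[k] S), Ideal.comap φ P ∈ minimalPrimes R := by
    intro P hP
    haveI : P.IsPrime := hP.1.1
    refine ⟨⟨Ideal.IsPrime.comap _, bot_le⟩, fun p hp hle => ?_⟩
    haveI : p.IsPrime := hp.1
    haveI : P.LiesOver (P.comap φ) := ⟨rfl⟩
    obtain ⟨Q, hQ, hQp, hQo⟩ := Ideal.exists_ideal_le_liesOver_of_le (p := p) (q := P.comap φ) P hle
    rw [hQo.over, Ideal.under_def]
    exact Ideal.comap_mono (hP.2 ⟨hQp, bot_le⟩ hQ)
  have hbot : ∀ P Q : Ideal (R ⊗[k] S), P.IsPrime → Q.IsPrime → P.comap φ = Q.comap φ →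
      ∃ G : Ideal (R ⊗[k] S), G.IsPrime ∧ G ≤ P ∧ G ≤ Q := by
    intro P Q hP hQ hPQ
    let p : PrimeSpectrum R := ⟨Q.comap φ, Ideal.IsPrime.comap _⟩
    let T := R ⊗[k] S
    have hnil : (nilradical (p.asIdeal.Fiber T)).IsPrime := by
      haveI := hS p.asIdeal.ResidueField
      exact Groth.L02.SepClosedTensor.isPrime_nilradical_of_injective
        (Algebra.TensorProduct.cancelBaseChange k R R p.asIdeal.ResidueField S).toRingEquiv.toRingHom
        (Algebra.TensorProduct.cancelBaseChange k R R p.asIdeal.ResidueField S).injective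
        (PrimeSpectrum.irreducibleSpace_iff_isPrime_nilradical.mp inferInstance)
    let o := PrimeSpectrum.preimageOrderIsoFiber R T p
    let q0 : PrimeSpectrum (p.asIdeal.Fiber T) := ⟨nilradical _, hnil⟩
    let P' : ↥(PrimeSpectrum.comap φ ⁻¹' {p}) := ⟨⟨P, hP⟩, PrimeSpectrum.ext hPQ⟩
    let Q' : ↥(PrimeSpectrum.comap φ ⁻¹' {p}) := ⟨⟨Q, hQ⟩, rfl⟩
    have hle : ∀ x, q0 ≤ o x := fun x => nilradical_le_prime (o x).asIdeal
    exact ⟨(o.symm q0).1.asIdeal, (o.symm q0).1.2, (o.symm_apply_le (x := P')).mpr (hle _),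
      (o.symm_apply_le (x := Q')).mpr (hle _)⟩
  refine ⟨hmin, fun P hP Q hQ hPQ => ?_, fun p hp => ?_⟩
  · haveI : P.IsPrime := hP.1.1
    haveI : Q.IsPrime := hQ.1.1
    obtain ⟨G, hG, hGP, hGQ⟩ := hbot P Q inferInstance inferInstance hPQ
    exact (le_antisymm (hP.2 ⟨hG, bot_le⟩ hGP) hGP).trans (le_antisymm (hQ.2 ⟨hG, bot_le⟩ hGQ) hGQ).symm
  · haveI : p.IsPrime := hp.1.1
    obtain ⟨Q, hQ⟩ := Groth.L03.GeomIrred.comap_surjective (k := k) R S ⟨p, inferInstance⟩
    obtain ⟨P, hP, hPQ⟩ := Ideal.exists_minimalPrimes_le (bot_le : (⊥ : Ideal (R ⊗[k] S)) ≤ Q.asIdeal)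
    have hle : P.comap φ ≤ p := (Ideal.comap_mono hPQ).trans (congrArg PrimeSpectrum.asIdeal hQ).le
    exact ⟨P, hP, le_antisymm hle (hp.2 ⟨(hmin P hP).1.1, bot_le⟩ hle)⟩

end Groth.Agent.S9626
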