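import Groth.Statements.S9627
import Groth.Agent.L03.GeomIrred

set_option autoImplicit false
universe u
open CAlg

open TensorProduct

namespace Groth.Agent.S9627

open TensorProduct in
/-- Let K/k be a field extension such that Spec(k' ⊗_k K) is irreducible for every field extension k'/k,
and let S be a K-algebra such that Spec(K' ⊗_K S) is irreducible for every field extension K'/K.
Then Spec(k' ⊗_k S) is irreducible for every field extension k'/k: S is geometrically irreducible
over k. Here the test fields k'/k and K'/K range over field extensions in the common universe of k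
and K; this is equivalent to the unrestricted notions, since an algebraic closure of the base field
suffices as a test. -/
theorem result {k K S : Type u} [Field k] [Field K] [Algebra k K] [CommRing S] [Algebra K S] [Algebra k S] [IsScalarTower k K S]
    (hK : ∀ (k' : Type u) [Field k'] [Algebra k k'], IrreducibleSpace (PrimeSpectrum (k' ⊗[k] K)))
    (hS : ∀ (K' : Type u) [Field K'] [Algebra K K'], IrreducibleSpace (PrimeSpectrum (K' ⊗[K] S))) :
    ∀ (k' : Type u) [Field k'] [Algebra k k'], IrreducibleSpace (PrimeSpectrum (k' ⊗[k] S)) := by
  intro k' _ _
  haveI : IrreducibleSpace (PrimeSpectrum (K ⊗[k] k')) := by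
    rw [PrimeSpectrum.irreducibleSpace_iff_isPrime_nilradical]
    exact Groth.L02.SepClosedTensor.isPrime_nilradical_of_injective
      (Algebra.TensorProduct.comm k K k').toRingEquiv.toRingHom (Algebra.TensorProduct.comm k K k').injective
      (PrimeSpectrum.irreducibleSpace_iff_isPrime_nilradical.mp (hK k'))
  have h := Groth.L03.GeomIrred.irreducible_tensor (k := K) (K ⊗[k] k') S hS
  rw [PrimeSpectrum.irreducibleSpace_iff_isPrime_nilradical] at h ⊢
  let e : k' ⊗[k] S ≃+* (K ⊗[k] k') ⊗[K] S :=
    (Algebra.TensorProduct.comm k k' S).toRingEquiv.trans
      ((Algebra.TensorProduct.cancelBaseChange k K K S k').symm.toRingEquiv.trans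
        (Algebra.TensorProduct.comm K S (K ⊗[k] k')).toRingEquiv)
  exact Groth.L02.SepClosedTensor.isPrime_nilradical_of_injective e.toRingHom e.injective h

end Groth.Agent.S9627
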