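import Groth.Statements.S9629
import Groth.Agent.L03.GeomIrred
import Mathlib.Tactic.TFAE

set_option autoImplicit false
universe u
open CAlg

open TensorProduct

namespace Groth.Agent.S9629

open TensorProduct in
/-- For a field k and a k-algebra S the following are equivalent: (1) S is geometrically integral, i.e.
k' ⊗_k S is an integral domain for every field extension k'/k; (2) k' ⊗_k S is an integral domain
for every finite field extension k'/k; (3) k̄ ⊗_k S is an integral domain for the algebraic closure
k̄ of k. Here the test fields range over field extensions in the universe of k; this is equivalent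
to the unrestricted notion, since an algebraic closure of k suffices as a test. -/
theorem result {k S : Type u} [Field k] [CommRing S] [Algebra k S] :
    [∀ (k' : Type u) [Field k'] [Algebra k k'], IsDomain (k' ⊗[k] S),
      ∀ (k' : Type u) [Field k'] [Algebra k k'] [Module.Finite k k'], IsDomain (k' ⊗[k] S),
      IsDomain (AlgebraicClosure k ⊗[k] S)].TFAE := by
  tfae_have 1 → 2 := fun h k' _ _ _ => h k'
  tfae_have 2 → 3 := fun h => by
    haveI : Nontrivial S := by
      haveI := h k
      exact (Algebra.TensorProduct.lid k S).symm.toEquiv.nontrivial
    haveI : Nontrivial (AlgebraicClosure k ⊗[k] S) :=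
      (Algebra.TensorProduct.includeRight_injective (algebraMap k (AlgebraicClosure k)).injective :
        Function.Injective (Algebra.TensorProduct.includeRight : S → AlgebraicClosure k ⊗[k] S)).nontrivial
    haveI : NoZeroDivisors (AlgebraicClosure k ⊗[k] S) := ⟨fun {x y} hxy => by
      obtain ⟨L, _, ⟨x, rfl⟩, ⟨y, rfl⟩⟩ := Groth.L03.GeomIrred.exists_finite_range (AlgebraicClosure k) S x y
      haveI := h L
      have hι := Groth.L03.GeomIrred.map_injective L.val Subtype.val_injective S
      rcases mul_eq_zero.mp (hι ((map_mul _ x y).trans (hxy.trans (map_zero _).symm)) : x * y = 0) with rfl | rfl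
      · exact .inl (map_zero _)
      · exact .inr (map_zero _)⟩
    exact NoZeroDivisors.to_isDomain _
  tfae_have 3 → 1 := fun h k' _ _ => by
    haveI := h
    let C := AlgebraicClosure k'
    let j : AlgebraicClosure k →ₐ[k] C := IsAlgClosed.lift
    letI : Algebra (AlgebraicClosure k) C := j.toRingHom.toAlgebra
    haveI : IsScalarTower k (AlgebraicClosure k) C := .of_algebraMap_eq fun x => (j.commutes x).symm
    haveI : IsDomain (C ⊗[AlgebraicClosure k] (AlgebraicClosure k ⊗[k] S)) := Groth.L25.GeomIrred.isDomain_tensorProduct
    haveI : IsDomain (C ⊗[k] S) :=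
      (Algebra.TensorProduct.cancelBaseChange k (AlgebraicClosure k) C C S).symm.toMulEquiv.isDomain _
    exact (Groth.L03.GeomIrred.map_injective (IsScalarTower.toAlgHom k k' C) (algebraMap k' C).injective S).isDomain
      (Algebra.TensorProduct.map (IsScalarTower.toAlgHom k k' C) (AlgHom.id k S)).toRingHom
  tfae_finish

end Groth.Agent.S9629
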