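import Groth.Statements.S9630
import Groth.Agent.L03.GeomIrred
import Mathlib.Tactic.TFAE

set_option autoImplicit false
universe u
open CAlg

set_option maxSynthPendingDepth 3
set_option maxHeartbeats 800000

open TensorProduct

namespace Groth.Agent.S9630

open TensorProduct in
/-- For a field k and a k-algebra R the following are equivalent: (1) Spec(k' ⊗_k R) is irreducible for
every field extension k'/k; (2) the same for every finite separable extension k'/k; (3) Spec(k^sep
⊗_k R) is irreducible for the separable closure k^sep; (4) Spec(k̄ ⊗_k R) is irreducible for the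
algebraic closure k̄. Here the test fields range over field extensions in the universe of k; this is
equivalent to the unrestricted notion, since an algebraic closure of k suffices as a test. -/
theorem result {k R : Type u} [Field k] [CommRing R] [Algebra k R] :
    [∀ (k' : Type u) [Field k'] [Algebra k k'], IrreducibleSpace (PrimeSpectrum (k' ⊗[k] R)),
      ∀ (k' : Type u) [Field k'] [Algebra k k'] [Module.Finite k k'] [Algebra.IsSeparable k k'], IrreducibleSpace (PrimeSpectrum (k' ⊗[k] R)),
      IrreducibleSpace (PrimeSpectrum (SeparableClosure k ⊗[k] R)),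
      IrreducibleSpace (PrimeSpectrum (AlgebraicClosure k ⊗[k] R))].TFAE := by
  tfae_have 1 → 2 := fun h k' _ _ _ _ => h k'
  tfae_have 1 → 4 := fun h => h _
  tfae_have 2 → 3 := fun h => by
    rw [PrimeSpectrum.irreducibleSpace_iff_isPrime_nilradical]
    haveI : Nontrivial R := by
      haveI := h k
      haveI : Nontrivial (k ⊗[k] R) := PrimeSpectrum.nonempty_iff_nontrivial.mp inferInstance
      exact (Algebra.TensorProduct.lid k R).symm.toEquiv.nontrivial
    haveI : Nontrivial (SeparableClosure k ⊗[k] R) :=
      (Algebra.TensorProduct.includeRight_injective (algebraMap k (SeparableClosure k)).injective :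
        Function.Injective (Algebra.TensorProduct.includeRight : R → SeparableClosure k ⊗[k] R)).nontrivial
    refine ⟨?_, fun {x y} hxy => ?_⟩
    · obtain ⟨M, hM⟩ := Ideal.exists_maximal (SeparableClosure k ⊗[k] R)
      haveI := hM.isPrime
      exact ne_top_of_le_ne_top hM.ne_top (nilradical_le_prime M)
    · obtain ⟨L, _, ⟨x, rfl⟩, ⟨y, rfl⟩⟩ := Groth.L03.GeomIrred.exists_finite_range (SeparableClosure k) R x y
      have hL := PrimeSpectrum.irreducibleSpace_iff_isPrime_nilradical.mp (h L)
      have hι := Groth.L03.GeomIrred.map_injective L.val Subtype.val_injective R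
      let ι := (Algebra.TensorProduct.map L.val (AlgHom.id k R)).toRingHom
      have he := Groth.L02.SepClosedTensor.comap_nilradical_of_injective ι hι
      have hmem : x * y ∈ nilradical (↥L ⊗[k] R) := he ▸ Ideal.mem_comap.mpr (by rw [map_mul]; exact hxy)
      rcases hL.mem_or_mem hmem with h1 | h1
      · exact .inl (he.symm.le h1)
      · exact .inr (he.symm.le h1)
  tfae_have 3 → 1 := fun h k' _ _ => Groth.L03.GeomIrred.irreducible_of_sepClosure R h k'
  tfae_have 4 → 3 := fun h => by
    rw [PrimeSpectrum.irreducibleSpace_iff_isPrime_nilradical] at h ⊢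
    exact Groth.L02.SepClosedTensor.isPrime_nilradical_of_injective
      (Algebra.TensorProduct.map (IsScalarTower.toAlgHom k (SeparableClosure k) (AlgebraicClosure k)) (AlgHom.id k R)).toRingHom
      (Groth.L03.GeomIrred.map_injective _ (algebraMap (SeparableClosure k) (AlgebraicClosure k)).injective R) h
  tfae_finish

end Groth.Agent.S9630
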