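import Groth.Statements.S9633
import Groth.Agent.L03.WeakAss
import Mathlib.Topology.Connected.TotallyDisconnected
import Mathlib.Topology.Separation.Connected
import Mathlib.Topology.Separation.Regular
import Mathlib.Topology.Connected.Separation

set_option autoImplicit false
universe u
open CAlg

namespace Groth.Agent.S9633

/-- For a ring R with spectrum X the following are equivalent: (1) X is profinite, i.e. compact,
Hausdorff and totally disconnected; (2) X is Hausdorff; (3) X is totally disconnected; (4) every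
quasi-compact open subset of X is closed; (5) there are no nontrivial inclusions among prime ideals
of R; (6) every prime ideal of R is maximal; (7) every prime ideal of R is a minimal prime; (8)
every standard open D(f) is closed. -/
theorem result {R : Type u} [CommRing R] :
    [CompactSpace (PrimeSpectrum R) ∧ T2Space (PrimeSpectrum R) ∧ TotallyDisconnectedSpace (PrimeSpectrum R),
      T2Space (PrimeSpectrum R),
      TotallyDisconnectedSpace (PrimeSpectrum R),
      ∀ W : Set (PrimeSpectrum R), IsOpen W → IsCompact W → IsClosed W,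
      ∀ p q : PrimeSpectrum R, p ≤ q → p = q,
      ∀ p : Ideal R, p.IsPrime → p.IsMaximal,
      ∀ p : Ideal R, p.IsPrime → p ∈ minimalPrimes R,
      ∀ f : R, IsClosed (PrimeSpectrum.basicOpen f : Set (PrimeSpectrum R))].TFAE := by
  tfae_have 1 → 2 := fun h => h.2.1
  tfae_have 2 → 5 := by
    intro h p q hpq
    exact (((PrimeSpectrum.le_iff_specializes p q).1 hpq).eq)
  tfae_have 3 → 5 := by
    intro h p q hpq
    haveI : T1Space (PrimeSpectrum R) := inferInstance
    exact (((PrimeSpectrum.le_iff_specializes p q).1 hpq).eq)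
  tfae_have 5 → 6 := by
    intro h p hp
    obtain ⟨m, hm, hpm⟩ := p.exists_le_maximal hp.ne_top
    have := congrArg PrimeSpectrum.asIdeal (h ⟨p, hp⟩ ⟨m, hm.isPrime⟩ hpm)
    change p = m at this
    rw [this]
    exact hm
  tfae_have 6 → 7 := by
    intro h p hp
    refine ⟨⟨hp, bot_le⟩, fun q hq hqp => ?_⟩
    exact ((h q hq.1).eq_of_le hp.ne_top hqp).ge
  tfae_have 7 → 8 := by
    intro h f
    have hcover : Ideal.span {s : R | ∃ n : ℕ, s * f ^ n = 0} ⊔ Ideal.span {f} = ⊤ := by
      by_contra hne
      obtain ⟨m, hm, hle⟩ := Ideal.exists_le_maximal _ hne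
      obtain ⟨-, -, hloc⟩ :=
        (Groth.L03.WeakAss.minimalPrimes_iff (R := R)).1 (h m hm.isPrime)
      obtain ⟨s, hs, n, hn⟩ := hloc f (hle (Ideal.mem_sup_right (Ideal.mem_span_singleton_self f)))
      exact hs (hle (Ideal.mem_sup_left (Ideal.subset_span ⟨n, Ideal.mem_bot.1 hn⟩)))
    have : (PrimeSpectrum.basicOpen f : Set (PrimeSpectrum R)) =
        PrimeSpectrum.zeroLocus ({s : R | ∃ n : ℕ, s * f ^ n = 0}) := by
      ext q
      constructor
      · rintro hq s ⟨n, hn⟩
        have h0 : s * f ^ n ∈ q.asIdeal := by rw [hn]; exact zero_mem _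
        exact (q.isPrime.mem_or_mem h0).resolve_right fun h' => hq (q.isPrime.mem_of_pow_mem n h')
      · intro hq hf
        refine q.isPrime.ne_top (top_le_iff.1 ?_)
        rw [← hcover]
        exact sup_le (Ideal.span_le.2 hq) (Ideal.span_le.2 (by simpa using hf))
    rw [this]
    exact PrimeSpectrum.isClosed_zeroLocus _
  tfae_have 8 → 4 := by
    intro h W hWo hWc
    obtain ⟨t, rfl⟩ := PrimeSpectrum.isCompact_isOpen_iff.1 ⟨hWc, hWo⟩
    have : (PrimeSpectrum.zeroLocus (t : Set R))ᶜ =
        ⋃ g ∈ t, (PrimeSpectrum.basicOpen g : Set (PrimeSpectrum R)) := by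
      ext q
      simp [PrimeSpectrum.mem_zeroLocus, Set.subset_def, PrimeSpectrum.mem_basicOpen]
    rw [this]
    exact t.finite_toSet.isClosed_biUnion fun g _ => h g
  tfae_have 4 → 1 := by
    intro h
    have hclo : ∀ f : R, IsClopen (PrimeSpectrum.basicOpen f : Set (PrimeSpectrum R)) := fun f =>
      ⟨h _ (PrimeSpectrum.basicOpen f).2 (PrimeSpectrum.isCompact_basicOpen f),
        (PrimeSpectrum.basicOpen f).2⟩
    haveI : TotallySeparatedSpace (PrimeSpectrum R) := by
      rw [totallySeparatedSpace_iff_exists_isClopen]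
      intro x y hxy
      have : x.asIdeal ≠ y.asIdeal := fun h => hxy (PrimeSpectrum.ext h)
      by_cases hle : x.asIdeal ≤ y.asIdeal
      · obtain ⟨f, hfy, hfx⟩ := SetLike.not_le_iff_exists.1 fun h' => this (le_antisymm hle h')
        exact ⟨_, hclo f, hfx, fun h' => h' hfy⟩
      · obtain ⟨f, hfx, hfy⟩ := SetLike.not_le_iff_exists.1 hle
        exact ⟨_, (hclo f).compl, fun h' => h' hfx, fun h' => h' hfy⟩
    exact ⟨inferInstance, inferInstance, inferInstance⟩
  tfae_have 1 → 3 := fun h => h.2.2
  tfae_finish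

end Groth.Agent.S9633
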