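import Groth.Statements.S9636
import Mathlib.RingTheory.Unramified.Finite
import Mathlib.RingTheory.Unramified.Field
import Mathlib.RingTheory.Kaehler.Basic
import Mathlib.FieldTheory.IntermediateField.Adjoin.Basic
-- import your own Groth.Agent.* helpers here

set_option autoImplicit false
universe u
open CAlg

namespace Groth.Agent.S9636

open TensorProduct in
/-- Let k'/k be a separable algebraic field extension. Then for some multiplicative subset S of k' ⊗_k
k' the multiplication map k' ⊗_k k' → k' is a localization at S: there is a ring isomorphism S⁻¹(k'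
⊗_k k') ≅ k' carrying the localization map to the multiplication map. -/
theorem result {k k' : Type u} [Field k] [Field k'] [Algebra k k'] [Algebra.IsSeparable k k'] :
    ∃ (S : Submonoid (k' ⊗[k] k')) (e : Localization S ≃+* k'), ∀ x : k' ⊗[k] k', e (algebraMap (k' ⊗[k] k') (Localization S) x) = Algebra.TensorProduct.lmul' (S := k') k x := by
  let μ := Algebra.TensorProduct.lmul' (S := k') k
  let S : Submonoid (k' ⊗[k] k') := (nonZeroDivisors k').comap μ.toRingHom.toMonoidHom
  have hgen : ∀ s : k', ∃ t : k' ⊗[k] k', μ t = 1 ∧ t * ((1 : k') ⊗ₜ[k] s - s ⊗ₜ[k] (1 : k')) = 0 := by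
    intro s
    let L := IntermediateField.adjoin k ({s} : Set k')
    haveI : Algebra.IsSeparable k L := Algebra.isSeparable_tower_bot_of_isSeparable k L k'
    haveI : FiniteDimensional k L := IntermediateField.adjoin.finiteDimensional (Algebra.IsSeparable.isIntegral k s)
    haveI : Algebra.FormallyUnramified k L := Algebra.FormallyUnramified.of_isSeparable k L
    let j : L ⊗[k] L →ₐ[k] k' ⊗[k] k' := Algebra.TensorProduct.map L.val L.val
    refine ⟨j (Algebra.FormallyUnramified.elem k L), ?_, ?_⟩
    · have h : μ.comp j = L.val.comp (Algebra.TensorProduct.lmul' (S := L) k) :=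
        Algebra.TensorProduct.ext' fun a b => by simp [μ, j]
      have h2 := DFunLike.congr_fun h (Algebra.FormallyUnramified.elem k L)
      rw [AlgHom.comp_apply, AlgHom.comp_apply, Algebra.FormallyUnramified.lmul_elem, map_one] at h2
      exact h2
    · have h := congrArg j (Algebra.FormallyUnramified.one_tmul_sub_tmul_one_mul_elem (R := k)
        (⟨s, IntermediateField.mem_adjoin_simple_self k s⟩ : L))
      rw [map_mul, map_sub, map_zero, mul_comm] at h
      simpa [j] using h
  have hmemS : ∀ t, μ t ≠ 0 → t ∈ S := fun t ht => mem_nonZeroDivisors_of_ne_zero ht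
  have hker : ∀ x : k' ⊗[k] k', μ x = 0 → ∃ t ∈ S, t * x = 0 := by
    intro x hx
    have hx' : x ∈ Ideal.span (Set.range fun s : k' => (1 : k') ⊗ₜ[k] s - s ⊗ₜ[k] (1 : k')) := by
      rw [KaehlerDifferential.span_range_eq_ideal]; exact hx
    clear hx
    induction hx' using Submodule.span_induction with
    | mem y hy =>
      obtain ⟨s, rfl⟩ := hy
      obtain ⟨t, ht, h0⟩ := hgen s
      exact ⟨t, hmemS t (by rw [ht]; exact one_ne_zero), h0⟩
    | zero => exact ⟨1, one_mem S, mul_zero _⟩
    | add y z _ _ hy hz =>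
      obtain ⟨a, ha, ha'⟩ := hy
      obtain ⟨b, hb, hb'⟩ := hz
      exact ⟨a * b, mul_mem ha hb, by rw [mul_add, mul_comm a b, mul_assoc, ha', mul_comm b a, mul_assoc, hb', mul_zero, mul_zero, add_zero]⟩
    | smul c y _ hy =>
      obtain ⟨a, ha, ha'⟩ := hy
      exact ⟨a, ha, by rw [smul_eq_mul, mul_left_comm, ha', mul_zero]⟩
  have hu : ∀ y : S, IsUnit (μ.toRingHom y) := fun y => IsUnit.mk0 _ (nonZeroDivisors.ne_zero y.2)
  let φ : Localization S →+* k' := IsLocalization.lift hu
  have hφ : ∀ x, φ (algebraMap _ (Localization S) x) = μ x := fun x => IsLocalization.lift_eq hu x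
  refine ⟨S, RingEquiv.ofBijective φ ⟨(injective_iff_map_eq_zero φ).2 fun z hz => ?_, fun c => ?_⟩, hφ⟩
  · obtain ⟨x, t, rfl⟩ := IsLocalization.exists_mk'_eq S z
    have h : μ x = 0 := by
      rw [← hφ, ← IsLocalization.mk'_spec (M := S) (Localization S) x t, map_mul, hz, zero_mul]
    obtain ⟨u, hu', hux⟩ := hker x h
    exact (IsLocalization.mk'_eq_zero_iff x t).2 ⟨⟨u, hu'⟩, hux⟩
  · exact ⟨algebraMap _ _ (c ⊗ₜ[k] (1 : k')), by rw [hφ]; exact (Algebra.TensorProduct.lmul'_apply_tmul c 1).trans (mul_one c)⟩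

end Groth.Agent.S9636
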