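import Groth.Statements.S9637
import Mathlib.RingTheory.Ideal.AssociatedPrime.Finiteness
import Mathlib.RingTheory.Regular.RegularSequence

set_option autoImplicit false
universe u
open CAlg

namespace Groth.Agent.S9637

/-- Let R be a local Noetherian ring, I an ideal contained in its maximal ideal, and M a finite
R-module. Then I contains an M-regular element (one acting injectively on M) if and only if no
associated prime of M contains I. -/
theorem result {R : Type u} [CommRing R] [IsNoetherianRing R] [IsLocalRing R] (I : Ideal R) (hI : I ≤ IsLocalRing.maximalIdeal R) (M : Type u) [AddCommGroup M] [Module R M] [Module.Finite R M] :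
    (∃ x ∈ I, IsSMulRegular M x) ↔ ∀ q ∈ associatedPrimes R M, ¬ I ≤ q := by
  constructor
  · rintro ⟨x, hxI, hx⟩ q hq hle
    have : x ∈ {r : R | ∃ m : M, m ≠ 0 ∧ r • m = 0} := by
      rw [← biUnion_associatedPrimes_eq_zero_divisors]
      exact Set.mem_biUnion hq (hle hxI)
    obtain ⟨m, hm, hxm⟩ := this
    exact hm (hx.right_eq_zero_of_smul hxm)
  · intro h
    by_contra hcon
    push Not at hcon
    have hsub : (I : Set R) ⊆ ⋃ q ∈ associatedPrimes R M, (q : Set R) := by
      intro x hx
      rw [biUnion_associatedPrimes_eq_zero_divisors]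
      have hns := hcon x hx
      rw [isSMulRegular_iff_right_eq_zero_of_smul] at hns
      push Not at hns
      obtain ⟨m, hxm, hm⟩ := hns
      exact ⟨m, hm, hxm⟩
    obtain ⟨q, hq, hIq⟩ := (Ideal.subset_union_prime_finite (associatedPrimes.finite R M) ⊥ ⊥
      (fun p hp _ _ => IsAssociatedPrime.isPrime hp)).1 hsub
    exact h q hq hIq

end Groth.Agent.S9637
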