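import Groth.Statements.S9641
import Mathlib.RingTheory.Flat.Basic
import Mathlib.RingTheory.Adjoin.FG
import Mathlib.RingTheory.TensorProduct.Maps
import Mathlib.RingTheory.Nilpotent.Defs
import Mathlib.LinearAlgebra.FreeModule.Basic
import Mathlib.LinearAlgebra.Basis.VectorSpace

set_option autoImplicit false
universe u
open CAlg

open TensorProduct

namespace Groth.Agent.S9641

open TensorProduct in
/-- Let k be a field and R, S two k-algebras. If R ⊗_k S is not reduced then there are finitely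
generated k-subalgebras R' ⊆ R and S' ⊆ S such that R' ⊗_k S' is not reduced. -/
theorem result {k R S : Type u} [Field k] [CommRing R] [CommRing S] [Algebra k R] [Algebra k S] (h : ¬ IsReduced (R ⊗[k] S)) :
    ∃ (R' : Subalgebra k R) (S' : Subalgebra k S), R'.FG ∧ S'.FG ∧ ¬ IsReduced (R' ⊗[k] S') := by
  classical
  simp only [isReduced_iff, not_forall] at h ⊢
  obtain ⟨x, ⟨m, hm⟩, hx⟩ := h
  obtain ⟨R', S', hR', hS', hmem⟩ : ∃ (R' : Subalgebra k R) (S' : Subalgebra k S), R'.FG ∧ S'.FG ∧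
      x ∈ Set.range (Algebra.TensorProduct.map R'.val S'.val) := by
    clear hm hx
    induction x with
    | zero => exact ⟨⊥, ⊥, Subalgebra.fg_bot, Subalgebra.fg_bot, 0, map_zero _⟩
    | tmul r s =>
      exact ⟨Algebra.adjoin k {r}, Algebra.adjoin k {s}, ⟨{r}, by simp⟩, ⟨{s}, by simp⟩,
        ⟨r, Algebra.subset_adjoin rfl⟩ ⊗ₜ ⟨s, Algebra.subset_adjoin rfl⟩, rfl⟩
    | add a b ha hb =>
      obtain ⟨R₁, S₁, h1, h2, a', rfl⟩ := ha
      obtain ⟨R₂, S₂, h3, h4, b', rfl⟩ := hb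
      let ι₁ : R₁ ⊗[k] S₁ →ₐ[k] ↥(R₁ ⊔ R₂) ⊗[k] ↥(S₁ ⊔ S₂) :=
        Algebra.TensorProduct.map (Subalgebra.inclusion le_sup_left) (Subalgebra.inclusion le_sup_left)
      let ι₂ : R₂ ⊗[k] S₂ →ₐ[k] ↥(R₁ ⊔ R₂) ⊗[k] ↥(S₁ ⊔ S₂) :=
        Algebra.TensorProduct.map (Subalgebra.inclusion le_sup_right) (Subalgebra.inclusion le_sup_right)
      refine ⟨R₁ ⊔ R₂, S₁ ⊔ S₂, h1.sup h3, h2.sup h4, ι₁ a' + ι₂ b', ?_⟩
      simp only [ι₁, ι₂]
      rw [map_add, ← AlgHom.comp_apply, ← AlgHom.comp_apply, ← Algebra.TensorProduct.map_comp,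
        ← Algebra.TensorProduct.map_comp]
      rfl
  obtain ⟨y, rfl⟩ := hmem
  have hinj : Function.Injective (Algebra.TensorProduct.map R'.val S'.val) := by
    have h1 : Function.Injective (TensorProduct.map R'.val.toLinearMap S'.val.toLinearMap) :=
      TensorProduct.map_injective_of_flat_flat _ _ Subtype.val_injective Subtype.val_injective
    exact h1
  refine ⟨R', S', hR', hS', y, ⟨m, hinj ?_⟩, fun h0 => hx (by rw [h0, map_zero])⟩
  rw [map_pow, hm, map_zero]

end Groth.Agent.S9641
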