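import Groth.Statements.S9642
import Mathlib.RingTheory.LocalRing.ResidueField.Fiber
import Mathlib.Topology.Irreducible

set_option autoImplicit false
universe u
open CAlg

namespace Groth.Agent.S9642

/-- In the general form stated there: let R → S be a ring map inducing an open map Spec(S) → Spec(R),
with Spec(R) irreducible, such that for a dense set of primes p of R the fibre ring κ(p) ⊗_R S has
irreducible spectrum. Then Spec(S) is irreducible. The flat and finitely presented case is the
special case in which the map on spectra is open by fppf-openness. -/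
theorem result {R S : Type u} [CommRing R] [CommRing S] [Algebra R S]
    (hopen : IsOpenMap (PrimeSpectrum.comap (algebraMap R S))) [IrreducibleSpace (PrimeSpectrum R)]
    (D : Set (PrimeSpectrum R)) (hD : Dense D) (hfib : ∀ p ∈ D, IrreducibleSpace (PrimeSpectrum (p.asIdeal.Fiber S))) :
    IrreducibleSpace (PrimeSpectrum S) := by
  haveI hne : Nonempty (PrimeSpectrum S) := by
    obtain ⟨p, hp, -⟩ := hD.inter_open_nonempty Set.univ isOpen_univ ⟨Nonempty.some inferInstance, trivial⟩
      |> fun ⟨p, h1, h2⟩ => (⟨p, h2, h1⟩ : ∃ p, p ∈ D ∧ p ∈ Set.univ)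
    haveI := hfib p hp
    obtain ⟨q⟩ := (inferInstance : Nonempty (PrimeSpectrum (p.asIdeal.Fiber S)))
    exact ⟨((PrimeSpectrum.preimageHomeomorphFiber R S p).symm q).1⟩
  refine { toNonempty := hne, isPreirreducible_univ := ?_ }
  rintro U V hU hV ⟨a, -, ha⟩ ⟨b, -, hb⟩
  obtain ⟨c, -, hc⟩ := (PreirreducibleSpace.isPreirreducible_univ (X := PrimeSpectrum R)) _ _
    (hopen U hU) (hopen V hV) ⟨_, trivial, a, ha, rfl⟩ ⟨_, trivial, b, hb, rfl⟩
  obtain ⟨p, hp, hpD⟩ := hD.inter_open_nonempty _ ((hopen U hU).inter (hopen V hV)) ⟨c, hc⟩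
  haveI := hfib p hpD
  obtain ⟨⟨u, hu, hup⟩, v, hv, hvp⟩ := hp
  let e := PrimeSpectrum.preimageHomeomorphFiber R S p
  obtain ⟨w, -, hwU, hwV⟩ := (PreirreducibleSpace.isPreirreducible_univ (X := PrimeSpectrum (p.asIdeal.Fiber S)))
    (e.symm ⁻¹' (Subtype.val ⁻¹' U)) (e.symm ⁻¹' (Subtype.val ⁻¹' V))
    ((hU.preimage continuous_subtype_val).preimage e.symm.continuous)
    ((hV.preimage continuous_subtype_val).preimage e.symm.continuous)
    ⟨e ⟨u, hup⟩, trivial, by simp [hu]⟩ ⟨e ⟨v, hvp⟩, trivial, by simp [hv]⟩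
  exact ⟨(e.symm w).1, trivial, hwU, hwV⟩

end Groth.Agent.S9642
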