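import Groth.Statements.S9643
import Mathlib.RingTheory.Support
import Mathlib.RingTheory.Spectrum.Prime.Module

set_option autoImplicit false
universe u
open CAlg

namespace Groth.Agent.S9643

/-- Let R be a Noetherian ring, M a finite R-module and 0 = M_0 ⊆ M_1 ⊆ ⋯ ⊆ M_n = M a chain of
submodules whose successive quotients M_i/M_{i-1} are isomorphic to R/p_i for prime ideals p_i. Then
the primes minimal among p_1, …, p_n are exactly the primes minimal in the support of M. -/
theorem result {R : Type u} [CommRing R] [IsNoetherianRing R] (M : Type u) [AddCommGroup M] [Module R M] [Module.Finite R M]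
    {n : ℕ} (N : Fin (n + 1) → Submodule R M) (hN : Monotone N) (h0 : N 0 = ⊥) (hlast : N (Fin.last n) = ⊤)
    (p : Fin n → PrimeSpectrum R)
    (hquot : ∀ i : Fin n, Nonempty ((↥(N i.succ) ⧸ Submodule.comap (N i.succ).subtype (N i.castSucc)) ≃ₗ[R] (R ⧸ (p i).asIdeal))) :
    {q : PrimeSpectrum R | Minimal (fun x => x ∈ Set.range p) q} = {q : PrimeSpectrum R | Minimal (fun x => x ∈ Module.support R M) q} := by
  classical
  have hstep : ∀ i : Fin n, Module.support R (N i.succ) =
      Module.support R (N i.castSucc) ∪ PrimeSpectrum.zeroLocus ((p i).asIdeal : Set R) := by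
    intro i
    obtain ⟨e⟩ := hquot i
    have hle : N i.castSucc ≤ N i.succ := hN (Fin.castSucc_le_succ i)
    have hex : Function.Exact (Submodule.inclusion hle)
        (Submodule.comap (N i.succ).subtype (N i.castSucc)).mkQ := by
      rw [LinearMap.exact_iff, Submodule.ker_mkQ, Submodule.range_inclusion]
    rw [Module.support_of_exact hex (Submodule.inclusion_injective hle) (Submodule.mkQ_surjective _),
      e.support_eq, Module.support_eq_zeroLocus (M := R ⧸ (p i).asIdeal), Ideal.annihilator_quotient]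
  have hsupp : ∀ (k : Fin (n + 1)) (x : PrimeSpectrum R),
      x ∈ Module.support R (N k) ↔ ∃ i : Fin n, i.castSucc < k ∧ p i ≤ x := by
    intro k
    induction k using Fin.induction with
    | zero =>
      intro x
      haveI : Subsingleton (N 0) := by rw [h0]; infer_instance
      rw [Module.support_eq_empty_iff.2 inferInstance]
      simp
    | succ j ih =>
      intro x
      rw [hstep, Set.mem_union, ih, PrimeSpectrum.mem_zeroLocus, SetLike.coe_subset_coe]
      constructor
      · rintro (⟨i, hi, hix⟩ | h)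
        · exact ⟨i, hi.trans (Fin.castSucc_lt_succ), hix⟩
        · exact ⟨j, Fin.castSucc_lt_succ, h⟩
      · rintro ⟨i, hi, hix⟩
        rcases lt_or_eq_of_le (Fin.le_castSucc_iff.2 hi) with h | h
        · exact Or.inl ⟨i, h, hix⟩
        · exact Or.inr (Fin.castSucc_injective _ h ▸ hix)
  have hM : ∀ x : PrimeSpectrum R, x ∈ Module.support R M ↔ ∃ i, p i ≤ x := by
    intro x
    have h := hsupp (Fin.last n) x
    rw [hlast, LinearEquiv.support_eq Submodule.topEquiv] at h
    rw [h]
    exact exists_congr fun i => and_iff_right (Fin.castSucc_lt_last i)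
  ext q
  simp only [Set.mem_setOf_eq]
  constructor
  · rintro ⟨⟨i, rfl⟩, hmin⟩
    refine ⟨(hM _).2 ⟨i, le_rfl⟩, fun x hx hxle => ?_⟩
    obtain ⟨j, hj⟩ := (hM x).1 hx
    exact (hmin ⟨j, rfl⟩ (hj.trans hxle)).trans hj
  · rintro ⟨hq, hmin⟩
    obtain ⟨i, hi⟩ := (hM q).1 hq
    have he : p i = q := le_antisymm hi (hmin ((hM _).2 ⟨i, le_rfl⟩) hi)
    refine ⟨⟨i, he⟩, ?_⟩
    rintro x ⟨j, rfl⟩ hxle
    exact hmin ((hM _).2 ⟨j, le_rfl⟩) hxle

end Groth.Agent.S9643
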