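import Groth.Statements.S9644
import Mathlib.RingTheory.Ideal.AssociatedPrime.Localization
import Mathlib.RingTheory.Support
import Mathlib.RingTheory.Spectrum.Prime.Topology
import Mathlib.Algebra.Module.LocalizedModule.Exact

set_option autoImplicit false
universe u
open CAlg

namespace Groth.Agent.S9644

/-- Let R be a Noetherian ring and M a finite R-module. Among the submodules K' of M whose support is
nowhere dense inside Supp(M) there is a largest one, K. The quotient M' = M/K then satisfies
Supp(M') = Supp(M), its associated primes are pairwise incomparable (no embedded ones), and whenever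
f ∈ R belongs to every embedded associated prime of M the localized map M_f → M'_f is bijective. -/
theorem result {R : Type u} [CommRing R] [IsNoetherianRing R] (M : Type u) [AddCommGroup M] [Module R M] [Module.Finite R M] :
    ∃ K : Submodule R M,
      IsGreatest {K' : Submodule R M | ∀ U : Set (PrimeSpectrum R), IsOpen U → U ∩ Module.support R M ⊆ closure (Module.support R ↥K') → U ∩ Module.support R M = ∅} K ∧
      Module.support R (M ⧸ K) = Module.support R M ∧
      (∀ p ∈ associatedPrimes R (M ⧸ K), ∀ q ∈ associatedPrimes R (M ⧸ K), p ≤ q → p = q) ∧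
      ∀ f : R, (∀ p ∈ associatedPrimes R M, ¬ Minimal (fun x => x ∈ associatedPrimes R M) p → f ∈ p) →
        Function.Bijective (LocalizedModule.map (Submonoid.powers f) K.mkQ) := by
  classical
  set A := Module.annihilator R M with hA
  have hfin : A.minimalPrimes.Finite := Ideal.finite_minimalPrimes_of_isNoetherianRing R A
  let K : Submodule R M :=
    { carrier := {x | ∀ p ∈ A.minimalPrimes, ∃ s, s ∉ p ∧ s • x = 0}
      add_mem' := fun {x y} hx hy p hp => by
        obtain ⟨s, hs, hsx⟩ := hx p hp
        obtain ⟨t, ht, hty⟩ := hy p hp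
        refine ⟨s * t, hp.isPrime.mul_notMem hs ht, ?_⟩
        rw [smul_add, mul_comm, mul_smul, hsx, smul_zero, zero_add, mul_comm, mul_smul, hty, smul_zero]
      zero_mem' := fun p hp => ⟨1, (Ideal.ne_top_iff_one p).1 hp.isPrime.ne_top, smul_zero _⟩
      smul_mem' := fun c {x} hx p hp => by
        obtain ⟨s, hs, hsx⟩ := hx p hp
        exact ⟨s, hs, by rw [smul_comm, hsx, smul_zero]⟩ }
  have hsup : ∀ (p : PrimeSpectrum R), p.asIdeal ∈ A.minimalPrimes →
      p ∈ Module.support R M := fun p hp => by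
    rw [Module.support_eq_zeroLocus]
    exact hp.1.2
  have hmin : ∀ y ∈ Module.support R M, ∃ p : PrimeSpectrum R,
      p.asIdeal ∈ A.minimalPrimes ∧ p ≤ y := by
    intro y hy
    rw [Module.support_eq_zeroLocus] at hy
    obtain ⟨p, hp, hpy⟩ := Ideal.exists_minimalPrimes_le (J := y.asIdeal) (show A ≤ y.asIdeal from hy)
    exact ⟨⟨p, hp.isPrime⟩, hp, hpy⟩
  have hKsupp : ∀ p : PrimeSpectrum R, p.asIdeal ∈ A.minimalPrimes → p ∉ Module.support R K := by
    intro p hp hmem
    obtain ⟨m, hm⟩ := Module.mem_support_iff'.1 hmem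
    obtain ⟨s, hs, hsm⟩ := m.2 p.asIdeal hp
    exact hm s hs (Subtype.ext hsm)
  refine ⟨K, ⟨?_, ?_⟩, ?_, ?_, ?_⟩
  · intro U hU hsub
    rw [Module.support_eq_zeroLocus (M := K), (PrimeSpectrum.isClosed_zeroLocus _).closure_eq,
      ← Module.support_eq_zeroLocus] at hsub
    by_contra hne
    obtain ⟨y, hyU, hyS⟩ := Set.nonempty_iff_ne_empty.2 hne
    obtain ⟨p, hp, hpy⟩ := hmin y hyS
    exact hKsupp p hp (hsub ⟨hU.stableUnderGeneralization
      ((PrimeSpectrum.le_iff_specializes _ _).1 hpy) hyU, hsup p hp⟩)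
  · intro K' hK' x hx p hp
    by_contra hcon
    simp only [not_exists, not_and] at hcon
    have hpK' : (⟨p, hp.isPrime⟩ : PrimeSpectrum R) ∈ Module.support R K' :=
      Module.mem_support_iff'.2 ⟨⟨x, hx⟩, fun r hr h => hcon r hr (congrArg Subtype.val h)⟩
    let U : Set (PrimeSpectrum R) :=
      (⋃ q ∈ A.minimalPrimes \ {p}, PrimeSpectrum.zeroLocus (q : Set R))ᶜ
    have hU : IsOpen U := ((hfin.subset Set.sdiff_subset).isClosed_biUnion
      fun q _ => PrimeSpectrum.isClosed_zeroLocus _).isOpen_compl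
    have hemp := hK' U hU fun y hy => subset_closure (by
      obtain ⟨p', hp', hle⟩ := hmin y hy.2
      by_cases h : p'.asIdeal = p
      · exact Module.mem_support_mono (show (⟨p, hp.isPrime⟩ : PrimeSpectrum R) ≤ y from h ▸ hle) hpK'
      · exact absurd (Set.mem_iUnion₂.2 ⟨p'.asIdeal, ⟨hp', h⟩, hle⟩) hy.1)
    refine Set.notMem_empty (⟨p, hp.isPrime⟩ : PrimeSpectrum R) (hemp ▸ ⟨?_, hsup ⟨p, hp.isPrime⟩ hp⟩)
    intro h
    obtain ⟨q, ⟨hq, hqp⟩, hle⟩ := Set.mem_iUnion₂.1 h
    have hle' : q ≤ p := hle
    exact hqp (le_antisymm hle' (hp.2 hq.1 hle'))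
  · refine le_antisymm (Module.support_subset_of_surjective K.mkQ K.mkQ_surjective) fun y hy => ?_
    obtain ⟨p, hp, hpy⟩ := hmin y hy
    refine Module.mem_support_mono hpy (Module.mem_support_iff'.2 ?_)
    obtain ⟨m, hm⟩ := Module.mem_support_iff'.1 (hsup p hp)
    refine ⟨K.mkQ m, fun r hr h => ?_⟩
    rw [← map_smul, Submodule.mkQ_apply, Submodule.Quotient.mk_eq_zero] at h
    obtain ⟨s, hs, hsm⟩ := h p.asIdeal hp
    exact hm (s * r) (hp.isPrime.mul_notMem hs hr) (by rw [mul_smul, hsm])
  · have hAss : ∀ q ∈ associatedPrimes R (M ⧸ K), q ∈ A.minimalPrimes := by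
      intro q hq
      obtain ⟨hprime, z, hz⟩ := isAssociatedPrime_iff.1 hq
      obtain ⟨x, rfl⟩ := K.mkQ_surjective z
      have hxK : x ∉ K := fun h => hprime.ne_top (by
        rw [hz, Submodule.mkQ_apply, (Submodule.Quotient.mk_eq_zero K).2 h]
        simp)
      obtain ⟨p, hp, hpx⟩ : ∃ p ∈ A.minimalPrimes, ∀ s, s ∉ p → s • x ≠ 0 := by
        by_contra hc
        refine hxK fun p hp => ?_
        by_contra hc'
        exact hc ⟨p, hp, fun s hs h => hc' ⟨s, hs, h⟩⟩
      have hqp : q ≤ p := fun r hr => by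
        rw [hz, Submodule.mem_colon_singleton, Submodule.mem_bot, ← map_smul, Submodule.mkQ_apply,
          Submodule.Quotient.mk_eq_zero] at hr
        obtain ⟨s, hs, hsr⟩ := hr p hp
        by_contra hrp
        exact hpx (s * r) (hp.isPrime.mul_notMem hs hrp) (by rw [mul_smul, hsr])
      have hAq : A ≤ q := fun r hr => by
        rw [hz, Submodule.mem_colon_singleton, Submodule.mem_bot, ← map_smul,
          Module.mem_annihilator.1 hr x, map_zero]
      rwa [le_antisymm hqp (hp.2 ⟨hprime, hAq⟩ hqp)]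
    exact fun p hp q hq hpq => le_antisymm hpq ((hAss q hq).2 (hAss p hp).1 hpq)
  · intro f hf
    have hrad : f ∈ (Module.annihilator R K).radical := by
      rw [← Ideal.sInf_minimalPrimes, Ideal.mem_sInf]
      intro q hq
      have hqM : q ∈ associatedPrimes R M := associatedPrimes.subset_of_injective
        K.injective_subtype (Module.associatedPrimes.minimalPrimes_annihilator_subset_associatedPrimes R K hq)
      refine hf q hqM fun hmin' => ?_
      have hAq : A ≤ q := le_trans
        (LinearMap.annihilator_le_of_injective K.subtype K.injective_subtype) hq.1.2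
      haveI := hq.isPrime
      obtain ⟨p, hp, hpq⟩ := Ideal.exists_minimalPrimes_le hAq
      have hqp : q ≤ p := hmin'.2
        (Module.associatedPrimes.minimalPrimes_annihilator_subset_associatedPrimes R M hp) hpq
      refine hKsupp ⟨q, hq.isPrime⟩ (le_antisymm hqp hpq ▸ hp) ?_
      rw [Module.support_eq_zeroLocus]
      exact hq.1.2
    obtain ⟨N, hN⟩ := hrad
    refine ⟨?_, LocalizedModule.map_surjective _ _ K.mkQ_surjective⟩
    rw [injective_iff_map_eq_zero]
    intro z hz
    induction z using LocalizedModule.induction_on with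
    | h x s =>
      rw [LocalizedModule.map_mk, ← LocalizedModule.zero_mk s, LocalizedModule.mk_eq] at hz
      obtain ⟨⟨r, hr⟩, hrx⟩ := hz
      obtain ⟨s, hs⟩ := s
      simp only [Submonoid.smul_def, smul_zero] at hrx
      rw [← mul_smul] at hrx
      rw [← map_smul, Submodule.mkQ_apply, Submodule.Quotient.mk_eq_zero] at hrx
      rw [← LocalizedModule.zero_mk ⟨s, hs⟩, LocalizedModule.mk_eq]
      refine ⟨⟨f ^ N * r, mul_mem ⟨N, rfl⟩ hr⟩, ?_⟩
      simp only [Submonoid.smul_def, smul_zero]
      rw [← mul_smul, mul_assoc, mul_smul]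
      exact congrArg Subtype.val (Module.mem_annihilator.1 hN ⟨(r * s) • x, hrx⟩)

end Groth.Agent.S9644
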