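import Groth.Statements.S9645
import Groth.Agent.L03.IntLoc

set_option autoImplicit false
universe u
open CAlg

namespace Groth.Agent.S9645

/-- Integral closure commutes with localization. Let A → B be a ring map, S a multiplicative subset of
A, and A_S, B_S the localizations of A at S and of B at the image of S. Then an element x of B_S is
integral over A_S if and only if x·s = b for some s ∈ S and some b ∈ B integral over A (images taken
in B_S); that is, the integral closure of A_S in B_S is S⁻¹B' for B' the integral closure of A in B. -/
theorem result {A B As Bs : Type u} [CommRing A] [CommRing B] [CommRing As] [CommRing Bs] [Algebra A B] [Algebra A As] [Algebra B Bs] [Algebra As Bs] [Algebra A Bs] [IsScalarTower A B Bs] [IsScalarTower A As Bs]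
    (S : Submonoid A) [IsLocalization S As] [IsLocalization (Algebra.algebraMapSubmonoid B S) Bs] (x : Bs) :
    IsIntegral As x ↔ ∃ b : B, IsIntegral A b ∧ ∃ s ∈ S, x * algebraMap A Bs s = algebraMap B Bs b := by
  constructor
  · exact Groth.L03.IntLoc.exists_integral_mul S x
  · rintro ⟨b, hb, s, hs, hx⟩
    have h1 : IsIntegral As (algebraMap B Bs b) := (hb.map (IsScalarTower.toAlgHom A B Bs)).tower_top
    obtain ⟨u, hu⟩ := IsLocalization.map_units As (⟨s, hs⟩ : S)
    have : x = algebraMap As Bs (↑u⁻¹) * algebraMap B Bs b := by
      rw [← hx, IsScalarTower.algebraMap_apply A As Bs, ← hu, mul_comm x, ← mul_assoc, ← map_mul,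
        Units.inv_mul, map_one, one_mul]
    rw [this]
    exact isIntegral_algebraMap.mul h1

end Groth.Agent.S9645
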