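import Groth.Statements.S9646
import Groth.Agent.L03.IntLoc

set_option autoImplicit false
universe u
open CAlg

namespace Groth.Agent.S9646

/-- (2) ⇒ (1): let R → S be a ring map and x ∈ S. If for every prime ideal p of R the image of x in S_p
(the localization of S at the image of R ∖ p) is integral over R_p, then x is integral over R. Here
R_p and S_p are any rings satisfying the localization universal properties. -/
theorem result {R S : Type u} [CommRing R] [CommRing S] [Algebra R S] (x : S)
    (h : ∀ (p : Ideal R) [p.IsPrime] (Rp Sp : Type u) [CommRing Rp] [CommRing Sp] [Algebra R Rp] [Algebra S Sp] [Algebra Rp Sp] [Algebra R Sp] [IsScalarTower R S Sp] [IsScalarTower R Rp Sp] [IsLocalization.AtPrime Rp p] [IsLocalization (Algebra.algebraMapSubmonoid S p.primeCompl) Sp], IsIntegral Rp (algebraMap S Sp x)) :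
    IsIntegral R x := by
  classical
  let J : Ideal R :=
    { carrier := {r | IsIntegral R (r • x)}
      zero_mem' := by simp only [Set.mem_setOf_eq, zero_smul]; exact isIntegral_zero
      add_mem' := fun {a b} ha hb => by
        simp only [Set.mem_setOf_eq, add_smul] at *
        exact ha.add hb
      smul_mem' := fun c r hr => by
        simp only [Set.mem_setOf_eq, smul_eq_mul, mul_smul] at *
        exact hr.smul c }
  suffices J = ⊤ by
    have h1 : (1 : R) ∈ J := this ▸ trivial
    simpa [J] using h1
  by_contra hne
  obtain ⟨p, hp, hJp⟩ := Ideal.exists_le_maximal J hne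
  haveI := hp.isPrime
  let Sp := Localization (Algebra.algebraMapSubmonoid S p.primeCompl)
  letI : Algebra (Localization.AtPrime p) Sp :=
    (IsLocalization.map (M := p.primeCompl) (T := Algebra.algebraMapSubmonoid S p.primeCompl) Sp (algebraMap R S) (show p.primeCompl ≤ (Algebra.algebraMapSubmonoid S p.primeCompl).comap (algebraMap R S) from p.primeCompl.le_comap_map) :
      Localization.AtPrime p →+* Sp).toAlgebra
  haveI : IsScalarTower R (Localization.AtPrime p) Sp := IsScalarTower.of_algebraMap_eq fun r => by
    rw [RingHom.algebraMap_toAlgebra]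
    exact ((IsLocalization.map_eq (M := p.primeCompl) (T := Algebra.algebraMapSubmonoid S p.primeCompl) _ r).trans
      (IsScalarTower.algebraMap_apply R S Sp r).symm).symm
  obtain ⟨b, hb, s, hs, hsb⟩ := Groth.L03.IntLoc.exists_integral_mul (B := S) (Bs := Sp) (As := Localization.AtPrime p)
    p.primeCompl _ (h p (Localization.AtPrime p) Sp)
  rw [IsScalarTower.algebraMap_apply R S Sp, ← map_mul, IsLocalization.eq_iff_exists (Algebra.algebraMapSubmonoid S p.primeCompl)] at hsb
  obtain ⟨⟨_, t, ht, rfl⟩, htb⟩ := hsb
  have : t * s ∈ J := by
    show IsIntegral R ((t * s) • x)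
    have e : (t * s) • x = t • b := by
      simp only [Algebra.smul_def, map_mul]
      linear_combination htb
    rw [e]
    exact hb.smul t
  exact (hp.isPrime.mem_or_mem (hJp this)).elim ht hs

end Groth.Agent.S9646
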