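import Groth.Statements.S9647
import Groth.Agent.L03.GeomIrred
import Mathlib.RingTheory.IntegralClosure.Algebra.Basic
import Mathlib.RingTheory.IntegralClosure.IntegrallyClosed
import Mathlib.FieldTheory.SeparableClosure

set_option autoImplicit false
universe u
open CAlg

set_option maxSynthPendingDepth 3
set_option maxHeartbeats 800000

open TensorProduct

namespace Groth.Agent.S9647

open TensorProduct in
/-- Let K/k be a field extension and k^sep a separable algebraic closure of k. Then the automorphism
group of k^sep over k acts transitively on the primes of k^sep ⊗_k K: for any two primes P, Q there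
is a k-automorphism σ of k^sep with Q the inverse image of P under σ ⊗ id_K. -/
theorem result {k K : Type u} [Field k] [Field K] [Algebra k K]
    (P Q : Ideal (SeparableClosure k ⊗[k] K)) [P.IsPrime] [Q.IsPrime] :
    ∃ σ : SeparableClosure k ≃ₐ[k] SeparableClosure k, Q = P.comap (Algebra.TensorProduct.map (σ : SeparableClosure k →ₐ[k] SeparableClosure k) (AlgHom.id k K)) := by
  let F := SeparableClosure k
  let Ω := AlgebraicClosure K
  haveI : Algebra.IsIntegral k F := inferInstance
  have emb : ∀ (P : Ideal (F ⊗[k] K)), P.IsPrime → ∃ f : F ⊗[k] K →ₐ[k] Ω, RingHom.ker f = P ∧ ∀ c : K, f (1 ⊗ₜ c) = algebraMap K Ω c := by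
    intro P hP
    let P' : Ideal (K ⊗[k] F) := P.comap (Algebra.TensorProduct.comm k K F).toRingEquiv.toRingHom
    haveI : P'.IsPrime := Ideal.IsPrime.comap _
    haveI : Algebra.IsIntegral K (K ⊗[k] F) := Algebra.IsIntegral.tensorProduct k K F
    haveI : Algebra.IsIntegral K ((K ⊗[k] F) ⧸ P') :=
      Algebra.IsIntegral.of_surjective (Ideal.Quotient.mkₐ K P') Ideal.Quotient.mk_surjective
    letI : Field ((K ⊗[k] F) ⧸ P') :=
      (isField_of_isIntegral_of_isField' (R := K) (S := (K ⊗[k] F) ⧸ P') (Field.toIsField K)).toField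
    haveI : Algebra.IsAlgebraic K ((K ⊗[k] F) ⧸ P') := Algebra.IsIntegral.isAlgebraic
    let g : ((K ⊗[k] F) ⧸ P') →ₐ[K] Ω := IsAlgClosed.lift
    let f : F ⊗[k] K →ₐ[k] Ω := ((g.comp (Ideal.Quotient.mkₐ K P')).restrictScalars k).comp
      (Algebra.TensorProduct.comm k F K).toAlgHom
    refine ⟨f, ?_, fun c => ?_⟩
    · ext z
      rw [RingHom.mem_ker]
      show g (Ideal.Quotient.mk P' (Algebra.TensorProduct.comm k F K z)) = 0 ↔ _
      rw [map_eq_zero_iff g g.injective, Ideal.Quotient.eq_zero_iff_mem]
      show (Algebra.TensorProduct.comm k K F) (Algebra.TensorProduct.comm k F K z) ∈ P ↔ _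
      rw [show (Algebra.TensorProduct.comm k K F) (Algebra.TensorProduct.comm k F K z) = z from by
        induction z using TensorProduct.induction_on with
        | zero => simp
        | tmul a b => simp
        | add a b ha hb => simp only [map_add, ha, hb]]
    · exact g.commutes c
  obtain ⟨f, hf, hfc⟩ := emb P inferInstance
  obtain ⟨g, hg, hgc⟩ := emb Q inferInstance
  let fF : F →ₐ[k] Ω := f.comp Algebra.TensorProduct.includeLeft
  let gF : F →ₐ[k] Ω := g.comp Algebra.TensorProduct.includeLeft
  have hex : ∀ x : F, ∃ y : F, fF y = gF x := by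
    intro x
    have hs : ((minpoly k x).map (algebraMap k F)).Splits :=
      IsSepClosed.splits_of_separable _ (Polynomial.Separable.map (Algebra.IsSeparable.isSeparable k x))
    have hr : gF x ∈ (((minpoly k x).map (algebraMap k F)).map fF.toRingHom).roots := by
      rw [Polynomial.map_map, show fF.toRingHom.comp (algebraMap k F) = algebraMap k Ω from fF.comp_algebraMap, Polynomial.mem_roots (Polynomial.map_ne_zero (minpoly.ne_zero (Algebra.IsIntegral.isIntegral x))),
        Polynomial.IsRoot.def, Polynomial.eval_map, ← Polynomial.aeval_def, Polynomial.aeval_algHom_apply, minpoly.aeval, map_zero]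
    rw [hs.roots_map, Multiset.mem_map] at hr
    obtain ⟨y, -, hy⟩ := hr
    exact ⟨y, hy⟩
  choose s hs using hex
  have hinj : Function.Injective fF := fF.toRingHom.injective
  let σ₀ : F →ₐ[k] F :=
    { toFun := s
      map_one' := hinj (by rw [hs, map_one, map_one])
      map_mul' := fun a b => hinj (by rw [hs, map_mul, map_mul, hs, hs])
      map_zero' := hinj (by rw [hs, map_zero, map_zero])
      map_add' := fun a b => hinj (by rw [hs, map_add, map_add, hs, hs])
      commutes' := fun r => hinj (by rw [hs, AlgHom.commutes, AlgHom.commutes]) }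
  let σ : F ≃ₐ[k] F := AlgEquiv.ofBijective σ₀ (Algebra.IsAlgebraic.algHom_bijective σ₀)
  refine ⟨σ, ?_⟩
  rw [← hf, ← hg]
  ext z
  rw [RingHom.mem_ker, Ideal.mem_comap, RingHom.mem_ker]
  have key : f (Algebra.TensorProduct.map (σ : F →ₐ[k] F) (AlgHom.id k K) z) = g z := by
    induction z using TensorProduct.induction_on with
    | zero => simp
    | tmul a b =>
      have e : ∀ (h : F ⊗[k] K →ₐ[k] Ω) (a : F) (b : K), h (a ⊗ₜ b) = h (a ⊗ₜ 1) * h (1 ⊗ₜ b) := fun h a b => by
        rw [← map_mul, Algebra.TensorProduct.tmul_mul_tmul, mul_one, one_mul]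
      rw [Algebra.TensorProduct.map_tmul, e f, e g, hgc]
      show fF (s a) * f (1 ⊗ₜ b) = gF a * _
      rw [hs, hfc]
    | add a b ha hb => simp only [map_add, ha, hb]
  rw [key]

end Groth.Agent.S9647
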