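import Groth.Statements.S9648
import Groth.Agent.L03.FibreAss
-- import your own Groth.Agent.* helpers here

set_option autoImplicit false
universe u
open CAlg

namespace Groth.Agent.S9648

open TensorProduct in
/-- The inclusion, valid for any ring R: let R → S be a ring map, M an R-module and N an S-module which
is flat over R. For an associated prime p of M (a prime equal to the annihilator of an element) and
an associated prime Q of the fibre module N ⊗_R κ(p) over the fibre ring S ⊗_R κ(p), the inverse
image of Q in S is an associated prime of N ⊗_R M. -/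
theorem result {R S : Type u} [CommRing R] [CommRing S] [Algebra R S] (M : Type u) [AddCommGroup M] [Module R M] (N : Type u) [AddCommGroup N] [Module S N] [Module R N] [IsScalarTower R S N] [Module.Flat R N]
    (p : Ideal R) [p.IsPrime] (hp : p ∈ FlatCA.ass R M) (Q : Ideal (p.Fiber S)) (hQ : Q ∈ FlatCA.ass (p.Fiber S) (FlatCA.fiberMod p S N)) :
    Q.comap (Algebra.TensorProduct.includeRight (R := R) (A := p.ResidueField) (B := S)).toRingHom ∈ FlatCA.ass S (N ⊗[R] M) := by
  letI : Algebra S (p.Fiber S) := Algebra.TensorProduct.rightAlgebra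
  haveI : IsScalarTower S (p.Fiber S) (FlatCA.fiberMod p S N) :=
    inferInstanceAs (IsScalarTower S (p.Fiber S) ((p.Fiber S) ⊗[S] N))
  have h1 : Q.comap (Algebra.TensorProduct.includeRight (R := R) (A := p.ResidueField) (B := S)).toRingHom ∈
      FlatCA.ass S (FlatCA.fiberMod p S N) := Groth.L03.WeakAss.image_comap_ass_subset ⟨Q, hQ, rfl⟩
  rw [Groth.L03.FibreAss.ass_fiberMod_eq, ← Groth.L03.FibreAss.ass_tensor_eq_ass_fibre_of_flat] at h1
  obtain ⟨-, m, hm⟩ := hp
  have hle : p ≤ LinearMap.ker (LinearMap.toSpanSingleton R M m) := fun a ha =>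
    Groth.L03.WeakAss.mem_annE.1 (hm.le ha)
  let g : (R ⧸ p) →ₗ[R] M := p.liftQ (LinearMap.toSpanSingleton R M m) hle
  have hg : Function.Injective g := LinearMap.ker_eq_bot.1 (Submodule.ker_liftQ_eq_bot _ _ hle
    fun a ha => hm.ge (Groth.L03.WeakAss.mem_annE.2 ha))
  exact Groth.L03.WeakAss.ass_subset_of_injective (TensorProduct.AlgebraTensorModule.lTensor S N g)
    (Module.Flat.lTensor_preserves_injective_linearMap g hg) h1

end Groth.Agent.S9648
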