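import Groth.Statements.S9649
import Mathlib.FieldTheory.SeparablyGenerated
import Mathlib.FieldTheory.PurelyInseparable.PerfectClosure
import Mathlib.RingTheory.MvPolynomial.Expand
import Mathlib.FieldTheory.Perfect
import Mathlib.Algebra.CharP.Lemmas

set_option autoImplicit false
universe u
open CAlg

namespace Groth.Agent.S9649

open IntermediateField MvPolynomial

/-- In a separably generated extension of characteristic `p`, `p`-th powers of linearly independent
elements are linearly independent. -/
theorem linearIndependent_pow {k K : Type*} [Field k] [Field K] [Algebra k K] (p : ℕ) [hp : Fact p.Prime]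
    [CharP k p] {ι : Type*} (x : ι → K) (hx : AlgebraicIndependent k x)
    [Algebra.IsSeparable (adjoin k (Set.range x)) K]
    {κ : Type*} [Fintype κ] (v : κ → K) (hv : LinearIndependent k v) :
    LinearIndependent k (v · ^ p) := by
  classical
  have : ExpChar k p := .prime hp.out
  have : ExpChar K p := expChar_of_injective_algebraMap (algebraMap k K).injective p
  have : ExpChar (adjoin k (Set.range x)) p :=
    expChar_of_injective_algebraMap (algebraMap k (adjoin k (Set.range x))).injective p
  let b := Module.Free.chooseBasis (adjoin k (Set.range x)) K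
  let J0 := Finset.univ.biUnion fun i => (b.repr (v i)).support
  have hsum : ∀ i, v i = ∑ j : J0, b.repr (v i) j.1 • b j.1 := fun i => by
    conv_lhs => rw [← b.linearCombination_repr (v i)]
    rw [Finsupp.linearCombination_apply, Finset.sum_coe_sort J0 fun j => b.repr (v i) j • b j]
    refine Finset.sum_subset (Finset.subset_biUnion_of_mem (fun i => (b.repr (v i)).support) (Finset.mem_univ i)) fun j _ hj => ?_
    rw [Finsupp.notMem_support_iff.1 hj]
    exact zero_smul _ _
  have hAB : ∀ q : κ × J0, ∃ A B : MvPolynomial ι k, aeval x B ≠ 0 ∧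
      aeval x B * (b.repr (v q.1) q.2.1 : K) = aeval x A := by
    intro q
    obtain ⟨A, B, hAB⟩ := (mem_adjoin_range_iff k x _).1 (b.repr (v q.1) q.2.1).2
    by_cases hB : aeval x B = 0
    · refine ⟨0, 1, by simp, ?_⟩
      rw [hB, div_zero] at hAB
      simp [hAB]
    · exact ⟨A, B, hB, by rw [hAB, mul_div_cancel₀ _ hB]⟩
  choose A B hB hAB using hAB
  let D := ∏ q, B q
  have hD : aeval x D ≠ 0 := by
    rw [map_prod]; exact Finset.prod_ne_zero_iff.2 fun q _ => hB q
  let P : κ → J0 → MvPolynomial ι k := fun i j => A (i, j) * ∏ q ∈ Finset.univ.erase (i, j), B q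
  have hP : ∀ i j, aeval x (P i j) = aeval x D * (b.repr (v i) j.1 : K) := by
    intro i j
    rw [show D = B (i, j) * ∏ q ∈ Finset.univ.erase (i, j), B q from
      (Finset.mul_prod_erase _ _ (Finset.mem_univ _)).symm]
    simp only [P, map_mul, ← hAB (i, j)]
    ring
  let N := J0.attach.biUnion fun j => Finset.univ.biUnion fun i => (P i j).support.image fun m => (j, m)
  let w : κ → (N → k) := fun i n => (P i n.1.1).coeff n.1.2
  have hwli : LinearIndependent k w := by
    rw [Fintype.linearIndependent_iff] at hv ⊢
    intro d hd
    apply hv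
    have h1 : ∀ j, ∑ i, C (d i) * P i j = 0 := fun j => by
      ext m
      rw [coeff_sum, coeff_zero]
      by_cases hm : (j, m) ∈ N
      · simpa [w, coeff_C_mul] using congrFun hd ⟨(j, m), hm⟩
      · refine Finset.sum_eq_zero fun i _ => ?_
        rw [coeff_C_mul]
        have : (P i j).coeff m = 0 := by
          by_contra hne
          exact hm (Finset.mem_biUnion.2 ⟨j, Finset.mem_attach _ _, Finset.mem_biUnion.2
            ⟨i, Finset.mem_univ _, Finset.mem_image.2 ⟨m, MvPolynomial.mem_support_iff.2 hne, rfl⟩⟩⟩)
        rw [this, mul_zero]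
    calc ∑ i, d i • v i = ∑ j : J0, (∑ i, algebraMap k K (d i) * (b.repr (v i) j.1 : K)) * b j.1 := by
          simp_rw [Finset.sum_mul]
          rw [Finset.sum_comm]
          refine Finset.sum_congr rfl fun i _ => ?_
          conv_lhs => rw [hsum i]
          simp only [Finset.mul_sum, Algebra.smul_def, mul_assoc]
          rfl
      _ = 0 := Finset.sum_eq_zero fun j _ => by
          have h2 := congrArg (aeval x) (h1 j)
          simp only [map_sum, map_mul, aeval_C, hP, map_zero] at h2
          simp_rw [mul_left_comm _ (aeval x D), ← Finset.mul_sum] at h2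
          rw [(mul_eq_zero.1 h2).resolve_left hD, zero_mul]
  obtain ⟨g, hg⟩ := LinearMap.exists_leftInverse_of_injective (Fintype.linearCombination k w)
    (LinearMap.ker_eq_bot.2 (linearIndependent_iff_injective_fintypeLinearCombination.1 hwli))
  rw [Fintype.linearIndependent_iff]
  intro c hc
  have hli : LinearIndependent (adjoin k (Set.range x)) (b · ^ p ^ 1) :=
    b.linearIndependent.map_pow_expChar_pow_of_isSeparable p 1
  rw [pow_one] at hli
  have h3 := Fintype.linearIndependent_iff.1 (hli.comp (Subtype.val : J0 → _) Subtype.val_injective)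
    (fun j => ∑ i, algebraMap k (adjoin k (Set.range x)) (c i) * b.repr (v i) j.1 ^ p) (by
      rw [← hc]
      simp_rw [Finset.sum_smul]
      rw [Finset.sum_comm]
      refine Finset.sum_congr rfl fun i _ => ?_
      conv_rhs => rw [hsum i, sum_pow_char]
      rw [Finset.smul_sum]
      refine Finset.sum_congr rfl fun j _ => ?_
      simp only [Function.comp_apply, IntermediateField.smul_def, smul_eq_mul, Algebra.smul_def]
      push_cast
      simp [mul_pow, mul_assoc])
  have h4 : ∀ j m, ∑ i, c i * (P i j).coeff m ^ p = 0 := by
    intro j m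
    have h5 : ∑ i, C (c i) * P i j ^ p = 0 := by
      apply hx
      simp only [map_sum, map_mul, map_pow, aeval_C, hP, map_zero, mul_pow]
      simp_rw [mul_left_comm _ (aeval x D ^ p), ← Finset.mul_sum]
      have h6 := congrArg Subtype.val (h3 j)
      push_cast at h6
      rw [show (∑ i, algebraMap k K (c i) * (b.repr (v i) j.1 : K) ^ p) = 0 from by simpa using h6, mul_zero]
    have h7 := congrArg (coeff (p • m)) h5
    simpa [coeff_sum, coeff_C_mul, ← map_frobenius_expand p, coeff_map, coeff_expand_smul p hp.out.ne_zero, frobenius_def] using h7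
  let G : N → κ → k := fun n => g (Pi.single n 1)
  intro i
  have h8 : ∀ i', ∑ n, w i' n * G n i = if i' = i then 1 else 0 := by
    intro i'
    have h9 := congrFun (LinearMap.congr_fun hg (Pi.single i' 1)) i
    rw [LinearMap.comp_apply, LinearMap.id_apply, Fintype.linearCombination_apply_single, one_smul,
      pi_eq_sum_univ' (w i'), map_sum, Finset.sum_apply] at h9
    simp only [map_smul, Pi.smul_apply, smul_eq_mul, Pi.single_apply] at h9
    rw [show (if i' = i then (1 : k) else 0) = if i = i' then 1 else 0 by simp [eq_comm]]
    rw [← h9]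
  have h10 : ∀ i', ∑ n, w i' n ^ p * G n i ^ p = if i' = i then 1 else 0 := fun i' => by
    simp_rw [← mul_pow, ← sum_pow_char, h8, apply_ite (· ^ p), one_pow, zero_pow hp.out.ne_zero]
  calc c i = ∑ i', c i' * ∑ n, w i' n ^ p * G n i ^ p := by
        simp only [h10, mul_ite, mul_one, mul_zero, Finset.sum_ite_eq', Finset.mem_univ, if_true]
    _ = ∑ n, (∑ i', c i' * w i' n ^ p) * G n i ^ p := by
        simp_rw [Finset.mul_sum, Finset.sum_mul, ← mul_assoc]
        rw [Finset.sum_comm]
    _ = 0 := Finset.sum_eq_zero fun n _ => by rw [h4 n.1.1 n.1.2, zero_mul]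

end Groth.Agent.S9649


namespace Groth.Agent.S9649

/-- A separably generated field extension is separable. Precisely: let K/k be a field extension
admitting a transcendence basis x over whose generated subfield k(x) the field K is separable
algebraic; then every finitely generated subextension K' of K/k also admits such a transcendence
basis. -/
theorem result {k K : Type u} [Field k] [Field K] [Algebra k K]
    (h : ∃ (ι : Type u) (x : ι → K), IsTranscendenceBasis k x ∧ Algebra.IsSeparable (IntermediateField.adjoin k (Set.range x)) K)
    (K' : IntermediateField k K) (hK' : ∃ s : Finset K, IntermediateField.adjoin k (s : Set K) = K') :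
    ∃ (ι : Type u) (x : ι → K'), IsTranscendenceBasis k x ∧ Algebra.IsSeparable (IntermediateField.adjoin k (Set.range x)) K' := by
  classical
  obtain ⟨ι, x, hx, hsep⟩ := h
  obtain ⟨s, hs⟩ := hK'
  have : Algebra.EssFiniteType k K' := IntermediateField.essFiniteType_iff.2 ⟨s, hs⟩
  suffices h' : ∃ t : Finset K', IsTranscendenceBasis k ((↑) : t → K') ∧
      Algebra.IsSeparable (IntermediateField.adjoin k (t : Set K')) K' by
    obtain ⟨t, ht, ht'⟩ := h'
    exact ⟨↥t, (↑), ht, by rw [show Set.range ((↑) : t → K') = (t : Set K') from Subtype.range_coe]; exact ht'⟩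
  rcases CharP.exists' k with hz | ⟨p, hp, hpk⟩
  · exact exists_isTranscendenceBasis_and_isSeparable_of_perfectField k K'
  refine exists_isTranscendenceBasis_and_isSeparable_of_linearIndepOn_pow_of_essFiniteType p hp.out fun t ht => ?_
  have h1 : LinearIndependent k (fun i : t => (i.1 : K)) :=
    LinearIndependent.map' (v := fun i : t => i.1) ht K'.val.toLinearMap
      (LinearMap.ker_eq_bot.2 K'.val.injective)
  have h2 := linearIndependent_pow p x hx.1 _ h1
  exact LinearIndependent.of_comp K'.val.toLinearMap h2

end Groth.Agent.S9649
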