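import Groth.Statements.S9653
import Groth.Agent.L03.FtImage
-- import your own Groth.Agent.* helpers here

set_option autoImplicit false
universe u
open CAlg

namespace Groth.Agent.S9653

/-- Let R and S be Jacobson rings, R → S a ring map of finite type with induced map f : Spec(S) →
Spec(R), E ⊆ Spec(S) constructible and E₀ the set of points of E closed in E. Then a point ξ of
Spec(R) lies in f(E) if and only if cl{ξ} ∩ f(E₀) is dense in the closure cl{ξ}. -/
theorem result {R S : Type u} [CommRing R] [CommRing S] [Algebra R S] [IsJacobsonRing R] [IsJacobsonRing S] [Algebra.FiniteType R S]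
    (E : Set (PrimeSpectrum S)) (hE : Topology.IsConstructible E) (ξ : PrimeSpectrum R) :
    ξ ∈ PrimeSpectrum.comap (algebraMap R S) '' E ↔
      closure ({ξ} : Set (PrimeSpectrum R)) ⊆ closure (closure {ξ} ∩ PrimeSpectrum.comap (algebraMap R S) '' {y | y ∈ E ∧ closure {y} ∩ E = {y}}) := by
  rw [Groth.L03.FtImage.image_closedIn_eq hE]
  constructor
  · intro h
    obtain ⟨a, ha, hsub⟩ := Groth.L03.FtImage.exists_subset_image hE h
    refine (Groth.L03.FtImage.subset_closure_basicOpen_inter ha).trans ?_
    rw [← JacobsonSpace.closure_inter_closedPoints_eq_closure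
      (show IsLocallyClosed ((PrimeSpectrum.basicOpen a : Set (PrimeSpectrum R)) ∩ closure {ξ}) from
        ⟨_, _, (PrimeSpectrum.basicOpen a).isOpen, isClosed_closure, rfl⟩)]
    exact closure_mono fun z hz => ⟨hz.1.2, hz.2, hsub hz.1⟩
  · intro h
    by_contra hξ
    obtain ⟨a, ha, hdis⟩ := Groth.L03.FtImage.exists_disjoint_image hE hξ
    obtain ⟨z, hza, hzc, -, hzE⟩ := mem_closure_iff.1 (h (subset_closure rfl)) _ (PrimeSpectrum.basicOpen a).isOpen ha
    exact Set.eq_empty_iff_forall_notMem.1 hdis z ⟨⟨hza, hzc⟩, hzE⟩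

end Groth.Agent.S9653
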