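import Groth.Statements.S9654
import Mathlib.RingTheory.IntegralClosure.Algebra.Basic
import Mathlib.RingTheory.IntegralClosure.IntegrallyClosed
import Mathlib.RingTheory.Adjoin.Polynomial.Basic
import Mathlib.LinearAlgebra.Matrix.Charpoly.LinearMap
-- import your own Groth.Agent.* helpers here

set_option autoImplicit false
universe u
open CAlg

namespace Groth.Agent.S9654

open Algebra

variable {R A : Type u} [CommRing R] [CommRing A] [Algebra R A]

theorem exists_sum_range {a z : A} (hz : z ∈ Algebra.adjoin R ({a} : Set A)) :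
    ∃ (n : ℕ) (c : ℕ → R), z = ∑ j ∈ Finset.range n, c j • a ^ j := by
  rw [Algebra.adjoin_singleton_eq_range_aeval] at hz
  obtain ⟨P, rfl⟩ := hz
  exact ⟨P.natDegree + 1, P.coeff, Polynomial.aeval_eq_sum_range a⟩

theorem isIntegral_of_mem_inf {a b : A} (hab : a * b = 1) {z : A} (ha : z ∈ Algebra.adjoin R ({a} : Set A))
    (hb : z ∈ Algebra.adjoin R ({b} : Set A)) : IsIntegral R z := by
  classical
  obtain ⟨n, p, hp⟩ := exists_sum_range ha
  obtain ⟨m, q, hq⟩ := exists_sum_range hb
  let g : ℕ → A := fun i => a ^ i * b ^ m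
  let N : Submodule R A := Submodule.span R (g '' ↑(Finset.range (n + m + 1)))
  have hg : ∀ i, i < n + m + 1 → g i ∈ N := fun i hi =>
    Submodule.subset_span ⟨i, Finset.mem_coe.2 (Finset.mem_range.2 hi), rfl⟩
  have key : ∀ i, i < n + m + 1 → z * g i ∈ N := by
    intro i hi
    rcases le_or_gt i m with him | him
    · rw [hp, Finset.sum_mul]
      refine N.sum_mem fun j hj => ?_
      rw [smul_mul_assoc]
      refine N.smul_mem _ ?_
      rw [show a ^ j * g i = g (j + i) by simp only [g, pow_add]; ring]
      exact hg _ (by have := Finset.mem_range.1 hj; omega)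
    · rw [hq, Finset.sum_mul]
      refine N.sum_mem fun j hj => ?_
      rw [smul_mul_assoc]
      refine N.smul_mem _ ?_
      have hj' := Finset.mem_range.1 hj
      rw [show b ^ j * g i = g (i - j) by
        simp only [g]
        conv_lhs => rw [show i = (i - j) + j by omega, pow_add]
        calc b ^ j * (a ^ (i - j) * a ^ j * b ^ m) = (a * b) ^ j * (a ^ (i - j) * b ^ m) := by rw [mul_pow]; ring
          _ = _ := by rw [hab, one_pow, one_mul]]
      exact hg _ (by omega)
  have hN : ∀ v ∈ N, z * v ∈ N := by
    intro v hv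
    induction hv using Submodule.span_induction with
    | mem x hx => obtain ⟨i, hi, rfl⟩ := hx; exact key i (Finset.mem_range.1 (Finset.mem_coe.1 hi))
    | zero => rw [mul_zero]; exact N.zero_mem
    | add x y _ _ hx hy => rw [mul_add]; exact N.add_mem hx hy
    | smul r x _ hx => rw [mul_smul_comm]; exact N.smul_mem _ hx
  haveI : Module.Finite R N := Module.Finite.iff_fg.2 (Submodule.fg_span ((Finset.range (n + m + 1)).finite_toSet.image g))
  let f : N →ₗ[R] N := (LinearMap.mulLeft R z).restrict hN
  obtain ⟨P, hP, hPf⟩ := LinearMap.exists_monic_and_aeval_eq_zero R f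
  refine ⟨P, hP, ?_⟩
  have hpow : ∀ (k : ℕ) (v : N), ((f ^ k) v : A) = z ^ k * v := fun k => by
    induction k with
    | zero => intro v; simp
    | succ k ih => intro v; rw [pow_succ, Module.End.mul_apply, ih, pow_succ, mul_assoc]; rfl
  have h1 : (1 : A) ∈ N := by
    have := hg m (by omega)
    rwa [show g m = 1 by simp only [g, ← mul_pow, hab, one_pow]] at this
  have h := congrArg (fun φ : Module.End R N => ((φ ⟨1, h1⟩ : N) : A)) hPf
  simp only [Polynomial.aeval_eq_sum_range, LinearMap.sum_apply, LinearMap.smul_apply, Submodule.coe_sum,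
    Submodule.coe_smul, hpow, mul_one, LinearMap.zero_apply, ZeroMemClass.coe_zero] at h
  rw [← Polynomial.aeval_def, Polynomial.aeval_eq_sum_range]
  exact h

theorem pow_mul_pow_of_mul_eq_one {a b : A} (hab : a * b = 1) {i j : ℕ} (h : j ≤ i) :
    a ^ i * b ^ j = a ^ (i - j) := by
  conv_lhs => rw [← Nat.sub_add_cancel h, pow_add, mul_assoc, ← mul_pow, hab, one_pow, mul_one]

theorem exists_away (x : R) {B : Type u} [CommRing B] [Algebra R B] (hx : x ∈ nonZeroDivisors R)
    (hu : IsUnit (algebraMap R B x)) (hinj : Function.Injective (algebraMap R B)) :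
    ∃ j : Localization.Away x →ₐ[R] B, Function.Injective j := by
  let j : Localization.Away x →ₐ[R] B :=
    { IsLocalization.Away.lift x hu with commutes' := fun r => IsLocalization.Away.lift_eq x hu r }
  refine ⟨j, (injective_iff_map_eq_zero j).2 fun w hw => ?_⟩
  obtain ⟨r, t, rfl⟩ := IsLocalization.exists_mk'_eq (Submonoid.powers x) w
  have h : algebraMap R B r = 0 := by
    rw [← j.commutes, ← IsLocalization.mk'_spec (M := Submonoid.powers x) (Localization.Away x) r t, map_mul, hw, zero_mul]
  rw [hinj (h.trans (map_zero _).symm), IsLocalization.mk'_zero]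

/-- Let R be a ring and x, y ∈ R nonzerodivisors. In the localization R_{xy} let a = x/y and b = y/x,
and let R[a], R[b], R[a, b] be the R-subalgebras they generate. If R is integrally closed in R_x or
in R_y, then the sequence 0 → R → R[a] ⊕ R[b] → R[a, b] → 0 (difference map, then sum map) is short
exact; equivalently R[a] ∩ R[b] is the image of R and R[a] + R[b] = R[a, b] inside R_{xy}. -/
theorem result {R : Type u} [CommRing R] (x y : R) (hx : x ∈ nonZeroDivisors R) (hy : y ∈ nonZeroDivisors R)
    (hint : IsIntegrallyClosedIn R (Localization.Away x) ∨ IsIntegrallyClosedIn R (Localization.Away y)) :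
    (Algebra.adjoin R {algebraMap R (Localization.Away (x * y)) (x * x) * IsLocalization.Away.invSelf (x * y)}).toSubmodule ⊓
        (Algebra.adjoin R {algebraMap R (Localization.Away (x * y)) (y * y) * IsLocalization.Away.invSelf (x * y)}).toSubmodule =
        (⊥ : Subalgebra R (Localization.Away (x * y))).toSubmodule ∧
      (Algebra.adjoin R {algebraMap R (Localization.Away (x * y)) (x * x) * IsLocalization.Away.invSelf (x * y)}).toSubmodule ⊔
        (Algebra.adjoin R {algebraMap R (Localization.Away (x * y)) (y * y) * IsLocalization.Away.invSelf (x * y)}).toSubmodule =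
        (Algebra.adjoin R {algebraMap R (Localization.Away (x * y)) (x * x) * IsLocalization.Away.invSelf (x * y), algebraMap R (Localization.Away (x * y)) (y * y) * IsLocalization.Away.invSelf (x * y)}).toSubmodule := by
  let B := Localization.Away (x * y)
  let ι := algebraMap R B
  let iv := IsLocalization.Away.invSelf (S := B) (x * y)
  let a : B := ι (x * x) * iv
  let b : B := ι (y * y) * iv
  have hiv : ι (x * y) * iv = 1 := IsLocalization.Away.mul_invSelf _
  have hab : a * b = 1 := by
    calc a * b = (ι (x * y) * iv) * (ι (x * y) * iv) := by simp only [a, b, map_mul]; ring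
      _ = 1 := by rw [hiv, one_mul]
  have hι : Function.Injective ι :=
    IsLocalization.injective B (Submonoid.powers_le.2 (mul_mem hx hy))
  have hux : IsUnit (ι x) := IsUnit.of_mul_eq_one (ι y * iv) (by rw [← mul_assoc, ← map_mul, hiv])
  have huy : IsUnit (ι y) := IsUnit.of_mul_eq_one (ι x * iv) (by rw [← mul_assoc, ← map_mul, mul_comm y, hiv])
  have ha : ι x * b = ι y := by
    calc ι x * b = ι y * (ι (x * y) * iv) := by simp only [b, map_mul]; ring
      _ = ι y := by rw [hiv, mul_one]
  have hb : ι y * a = ι x := by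
    calc ι y * a = ι x * (ι (x * y) * iv) := by simp only [a, map_mul]; ring
      _ = ι x := by rw [hiv, mul_one]
  -- closedness in one of the two partial localizations
  have hclosed : ∀ (u v : R) (c : B), u ∈ nonZeroDivisors R → IsUnit (ι u) → ι u * c = ι v →
      IsIntegrallyClosedIn R (Localization.Away u) →
      ∀ z ∈ Algebra.adjoin R ({c} : Set B), IsIntegral R z → z ∈ (⊥ : Subalgebra R B) := by
    intro u v c hu huu hc hcl z hz hzi
    obtain ⟨j, hj⟩ := exists_away u hu huu hι
    have hcj : c ∈ j.range := ⟨algebraMap R _ v * IsLocalization.Away.invSelf u, huu.mul_left_cancel (by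
      show ι u * j _ = ι u * c
      rw [hc, ← j.commutes, ← map_mul, mul_left_comm, IsLocalization.Away.mul_invSelf, mul_one, j.commutes])⟩
    obtain ⟨w, hw⟩ := Algebra.adjoin_le (Set.singleton_subset_iff.2 hcj) hz
    obtain ⟨r, hr⟩ := (IsIntegralClosure.isIntegral_iff (A := R)).1
      ((isIntegral_algHom_iff j hj).1 (show IsIntegral R (j w) from hw.symm ▸ hzi))
    refine Algebra.mem_bot.2 ⟨r, ?_⟩
    rw [← hw, ← hr]
    exact (j.commutes r).symm
  refine ⟨le_antisymm ?_ (le_inf (fun z hz => (bot_le : (⊥ : Subalgebra R B) ≤ _) hz) fun z hz => (bot_le : (⊥ : Subalgebra R B) ≤ _) hz), le_antisymm (sup_le (Algebra.adjoin_mono (by simp)) (Algebra.adjoin_mono (by simp))) ?_⟩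
  · rintro z ⟨hza, hzb⟩
    have hzi := isIntegral_of_mem_inf hab hza hzb
    rcases hint with h | h
    · exact hclosed x y b hx hux ha h z hzb hzi
    · exact hclosed y x a hy huy hb h z hza hzi
  · have hmono : ∀ i j : ℕ, a ^ i * b ^ j ∈ (Algebra.adjoin R ({a} : Set B)).toSubmodule ⊔ (Algebra.adjoin R ({b} : Set B)).toSubmodule := by
      intro i j
      rcases le_total j i with hji | hij
      · refine Submodule.mem_sup_left ?_
        rw [pow_mul_pow_of_mul_eq_one hab hji]
        exact pow_mem (Algebra.self_mem_adjoin_singleton R a) _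
      · refine Submodule.mem_sup_right ?_
        rw [mul_comm (a ^ i) (b ^ j), pow_mul_pow_of_mul_eq_one ((mul_comm b a).trans hab) hij]
        exact pow_mem (Algebra.self_mem_adjoin_singleton R b) _
    rw [Algebra.adjoin_eq_span, Submodule.span_le]
    intro z hz
    obtain ⟨i, j, rfl⟩ := (Submonoid.mem_closure_pair _ _ _).1 hz
    exact hmono i j

end Groth.Agent.S9654
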