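import Groth.Statements.S9655
import Mathlib.RingTheory.Valuation.LocalSubring
import Mathlib.RingTheory.EssentialFiniteness
import Mathlib.RingTheory.LocalRing.ResidueField.Basic
-- import your own Groth.Agent.* helpers here

set_option autoImplicit false
universe u
open CAlg

namespace Groth.Agent.S9655

/-- Let R and S be local rings and R → S a ring map, not necessarily local, that is essentially of
finite type. Then for some n there is a maximal ideal m of the polynomial ring R[x_1, …, x_n] lying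
over the maximal ideal of R, together with an R-algebra map φ : R[x_1, …, x_n]_m → S making S a
localization of the image of φ; thus S arises from R[x_1, …, x_n]_m by passing to a quotient and
then localizing. -/
theorem result {R S : Type u} [CommRing R] [CommRing S] [Algebra R S] [IsLocalRing R] [IsLocalRing S] [Algebra.EssFiniteType R S] :
    ∃ (n : ℕ) (m : Ideal (MvPolynomial (Fin n) R)) (_ : m.IsMaximal), m.under R = IsLocalRing.maximalIdeal R ∧
      ∃ (φ : Localization.AtPrime m →ₐ[R] S) (T : Submonoid φ.range), IsLocalization T S := by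
  classical
  obtain ⟨σ, hσ⟩ := (Algebra.essFiniteType_iff R S).1 (inferInstance : Algebra.EssFiniteType R S)
  let g : R →+* IsLocalRing.ResidueField S := (IsLocalRing.residue S).comp (algebraMap R S)
  obtain ⟨V, hV⟩ := (LocalSubring.range g).exists_le_valuationSubring
  obtain ⟨hle, hloc⟩ := LocalSubring.le_def.1 hV
  have hgV : ∀ r, g r ∈ V := fun r => hle ⟨r, rfl⟩
  let x : Fin σ.card → S := fun i => (σ.equivFin.symm i : S)
  have hy : ∀ i, ∃ y : S, IsLocalRing.residue S y ∈ V ∧ (y = x i ∨ y * x i = 1) := by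
    intro i
    rcases V.mem_or_inv_mem (IsLocalRing.residue S (x i)) with h | h
    · exact ⟨x i, h, Or.inl rfl⟩
    · by_cases hu : IsUnit (x i)
      · obtain ⟨w, hw⟩ := hu.exists_left_inv
        refine ⟨w, ?_, Or.inr hw⟩
        rwa [eq_inv_of_mul_eq_one_left (show IsLocalRing.residue S w * IsLocalRing.residue S (x i) = 1 by
          rw [← map_mul, hw, map_one])]
      · refine ⟨x i, ?_, Or.inl rfl⟩
        rw [(IsLocalRing.residue_eq_zero_iff (x i)).2 hu]
        exact V.zero_mem
  choose y hyV hyx using hy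
  let φ₀ : MvPolynomial (Fin σ.card) R →ₐ[R] S := MvPolynomial.aeval y
  have hV' : ∀ P, IsLocalRing.residue S (φ₀ P) ∈ V := by
    intro P
    induction P using MvPolynomial.induction_on with
    | C r => rw [show φ₀ (MvPolynomial.C r) = algebraMap R S r from MvPolynomial.aeval_C _ r]; exact hgV r
    | add a b ha hb => rw [map_add, map_add]; exact V.add_mem _ _ ha hb
    | mul_X a i ha => rw [map_mul, map_mul, MvPolynomial.aeval_X]; exact V.mul_mem _ _ ha (hyV i)
  let ψ : MvPolynomial (Fin σ.card) R →+* V :=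
    ((IsLocalRing.residue S).comp φ₀.toRingHom).codRestrict V hV'
  let J : Ideal (MvPolynomial (Fin σ.card) R) := (IsLocalRing.maximalIdeal V).comap ψ
  haveI : J.IsPrime := Ideal.IsPrime.comap ψ
  obtain ⟨m, hm, hJm⟩ := J.exists_le_maximal (Ideal.IsPrime.ne_top inferInstance)
  haveI := hm
  have hmR : IsLocalRing.maximalIdeal R ≤ J.under R := fun r hr => by
    show ψ (algebraMap R _ r) ∈ IsLocalRing.maximalIdeal V
    rw [IsLocalRing.mem_maximalIdeal, mem_nonunits_iff]
    intro hu
    have h1 : ψ (algebraMap R _ r) = Subring.inclusion hle ⟨g r, r, rfl⟩ := Subtype.ext (by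
      show IsLocalRing.residue S (φ₀ (algebraMap R _ r)) = g r
      rw [φ₀.commutes]; rfl)
    rw [h1] at hu
    have h1' : IsUnit (⟨g r, r, rfl⟩ : g.range) := hloc.map_nonunit _ hu
    obtain ⟨⟨_, s, rfl⟩, hs⟩ := h1'.exists_left_inv
    have h2 : g (s * r - 1) = 0 := by
      rw [map_sub, map_mul, map_one]; exact sub_eq_zero.2 (congrArg Subtype.val hs)
    have h3 : s * r - 1 ∈ IsLocalRing.maximalIdeal R := fun hu' =>
      (hu'.map g).ne_zero h2
    have h4 := sub_mem (Ideal.mul_mem_left _ s hr) h3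
    rw [sub_sub_cancel] at h4
    exact h4 isUnit_one
  refine ⟨σ.card, m, hm, le_antisymm (IsLocalRing.le_maximalIdeal (Ideal.IsPrime.ne_top (Ideal.IsPrime.comap _)))
    (hmR.trans (Ideal.comap_mono hJm)), ?_⟩
  have hu : ∀ P : m.primeCompl, IsUnit (φ₀ P) := fun P => by
    by_contra h
    refine P.2 (hJm ?_)
    show ψ P ∈ IsLocalRing.maximalIdeal V
    rw [show ψ P = 0 from Subtype.ext ((IsLocalRing.residue_eq_zero_iff _).2 h)]
    exact zero_mem _
  let φ : Localization.AtPrime m →ₐ[R] S := IsLocalization.liftAlgHom (f := φ₀) hu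
  refine ⟨φ, (IsUnit.submonoid S).comap φ.range.val.toMonoidHom, ?_⟩
  have hy' : ∀ i, y i ∈ φ.range := fun i =>
    ⟨algebraMap _ _ (MvPolynomial.X i), (IsLocalization.lift_eq hu _).trans (MvPolynomial.aeval_X _ i)⟩
  let D : Subalgebra R S :=
    { carrier := {s | ∃ t ∈ φ.range, IsUnit t ∧ s * t ∈ φ.range}
      mul_mem' := by
        rintro a b ⟨t, ht, htu, hat⟩ ⟨u, hu', huu, hbu⟩
        exact ⟨t * u, mul_mem ht hu', htu.mul huu, by rw [mul_mul_mul_comm]; exact mul_mem hat hbu⟩
      add_mem' := by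
        rintro a b ⟨t, ht, htu, hat⟩ ⟨u, hu', huu, hbu⟩
        exact ⟨t * u, mul_mem ht hu', htu.mul huu, by
          rw [show (a + b) * (t * u) = a * t * u + b * u * t by ring]
          exact add_mem (mul_mem hat hu') (mul_mem hbu ht)⟩
      algebraMap_mem' := fun r => ⟨1, one_mem _, isUnit_one, by rw [mul_one]; exact φ.range.algebraMap_mem r⟩ }
  have hD : ∀ s ∈ Algebra.adjoin R (σ : Set S), s ∈ D := by
    refine fun s hs => Algebra.adjoin_le (fun z hz => ?_) hs
    obtain ⟨i, rfl⟩ : ∃ i, x i = z := ⟨σ.equivFin ⟨z, hz⟩, by simp [x]⟩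
    rcases hyx i with h | h
    · exact ⟨1, one_mem _, isUnit_one, by rw [mul_one, ← h]; exact hy' i⟩
    · exact ⟨y i, hy' i, IsUnit.of_mul_eq_one _ h, by rw [mul_comm, h]; exact one_mem _⟩
  have hall : ∀ s : S, ∃ t ∈ φ.range, IsUnit t ∧ s * t ∈ φ.range := by
    intro s
    obtain ⟨t, ht, htu, hst⟩ := hσ s
    obtain ⟨v, hv, hvu, htv⟩ := hD t ht
    obtain ⟨w, hw, hwu, hsw⟩ := hD _ hst
    refine ⟨(t * v) * w, mul_mem htv hw, (htu.mul hvu).mul hwu, ?_⟩
    rw [show s * ((t * v) * w) = v * (s * t * w) by ring]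
    exact mul_mem hv hsw
  exact
    { map_units := fun z => z.2
      surj := fun s => by
        obtain ⟨t, ht, htu, hst⟩ := hall s
        exact ⟨(⟨_, hst⟩, ⟨⟨t, ht⟩, htu⟩), rfl⟩
      exists_of_eq := fun {a b} h => ⟨1, by rw [show a = b from Subtype.ext h]⟩ }

end Groth.Agent.S9655
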