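import Groth.Statements.S9656
import Mathlib.Algebra.Polynomial.Lifts
import Mathlib.Algebra.BigOperators.Pi
import Mathlib.RingTheory.IntegralClosure.Algebra.Basic

set_option autoImplicit false
universe u
open CAlg

namespace Groth.Agent.S9656

/-- Let R_i → S_i be ring maps indexed by a finite type ι, with product map R = Π R_i → S = Π S_i. Then
an element (s_i) of S is integral over R exactly when s_i is integral over R_i for every i; so
integral closure in a finite product is computed factor by factor. -/
theorem result {ι : Type u} [Fintype ι] {R S : ι → Type u} [∀ i, CommRing (R i)] [∀ i, CommRing (S i)] (f : ∀ i, R i →+* S i) (s : ∀ i, S i) :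
    (RingHom.pi fun i => (f i).comp (Pi.evalRingHom R i)).IsIntegralElem s ↔ ∀ i, (f i).IsIntegralElem (s i) := by
  classical
  refine ⟨fun h i => ?_, fun h => ?_⟩
  · obtain ⟨p, hp, hp0⟩ := h
    refine ⟨p.map (Pi.evalRingHom R i), hp.map _, ?_⟩
    have := congrArg (Pi.evalRingHom S i) hp0
    rw [Polynomial.hom_eval₂, map_zero] at this
    rw [Polynomial.eval₂_map]
    exact this
  · have hs : s = ∑ i, Pi.single i (s i) := (Finset.univ_sum_single s).symm
    rw [hs]
    refine Finset.sum_induction _ (fun a => (RingHom.pi fun i => (f i).comp (Pi.evalRingHom R i)).IsIntegralElem a) (fun a b ha hb => RingHom.IsIntegralElem.add _ ha hb) ⟨Polynomial.X, Polynomial.monic_X, by simp⟩ fun i _ => ?_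
    obtain ⟨p, hp, hp0⟩ := h i
    rcases subsingleton_or_nontrivial (R i) with _ | _
    · have : Subsingleton (S i) := (f i).codomain_trivial
      rw [Subsingleton.elim (s i) 0, Pi.single_zero]
      exact ⟨Polynomial.X, Polynomial.monic_X, by simp⟩
    · obtain ⟨q, hq, -, hqm⟩ := Polynomial.lifts_and_degree_eq_and_monic (f := Pi.evalRingHom R i)
        ((Polynomial.mem_lifts p).2 (Polynomial.map_surjective _ (Function.surjective_eval i) p)) hp
      refine ⟨Polynomial.X * q, Polynomial.monic_X.mul hqm, ?_⟩
      funext j
      have h2 := Polynomial.hom_eval₂ (Polynomial.X * q) (RingHom.pi fun i => (f i).comp (Pi.evalRingHom R i)) (Pi.evalRingHom S j) (Pi.single i (s i))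
      have h3 : (Pi.evalRingHom S j).comp (RingHom.pi fun i => (f i).comp (Pi.evalRingHom R i)) = (f j).comp (Pi.evalRingHom R j) := rfl
      rw [h3, Pi.evalRingHom_apply, Pi.evalRingHom_apply, Polynomial.eval₂_mul, Polynomial.eval₂_X] at h2
      rw [Pi.zero_apply, Polynomial.eval₂_mul, Polynomial.eval₂_X]
      refine h2.trans ?_
      by_cases hji : j = i
      · subst hji
        rw [Pi.single_eq_same, Polynomial.eval₂_mul, Polynomial.eval₂_X, ← Polynomial.eval₂_map, hq, hp0, mul_zero]
      · rw [Pi.single_eq_of_ne hji, Polynomial.eval₂_mul, Polynomial.eval₂_X, zero_mul]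

end Groth.Agent.S9656
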