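import Groth.Statements.S9657
import Groth.Agent.L02.SepClosedTensor
import Groth.Agent.S2150
import Mathlib.RingTheory.PolynomialAlgebra
import Mathlib.RingTheory.Localization.FractionRing
import Mathlib.FieldTheory.SeparableDegree
import Mathlib.RingTheory.Flat.Basic

set_option autoImplicit false
universe u
open CAlg

set_option maxSynthPendingDepth 3
set_option maxHeartbeats 1000000

open TensorProduct

namespace Groth.Agent.S9657

open TensorProduct in
/-- Let K/k be a field extension and let k(t) ⊆ K(t) be the purely transcendental extensions in one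
variable, realised as fraction fields of k[t] and K[t] compatibly with k[t] → K[t]. Then K is
geometrically irreducible over k (Spec(k' ⊗_k K) irreducible for every field extension k'/k) if and
only if K(t) is geometrically irreducible over k(t). Here the test fields range over field
extensions of k, respectively of k(t), in the universe of k; this is equivalent to the unrestricted
notions, since an algebraic closure of the base field suffices as a test. -/
theorem result {k K : Type u} [Field k] [Field K] [Algebra k K]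
    (kt Kt : Type u) [Field kt] [Field Kt] [Algebra (Polynomial k) kt] [IsFractionRing (Polynomial k) kt] [Algebra (Polynomial K) Kt] [IsFractionRing (Polynomial K) Kt]
    [Algebra kt Kt] (hcompat : ∀ p : Polynomial k, algebraMap kt Kt (algebraMap (Polynomial k) kt p) = algebraMap (Polynomial K) Kt (Polynomial.map (algebraMap k K) p)) :
    (∀ (k' : Type u) [Field k'] [Algebra k k'], IrreducibleSpace (PrimeSpectrum (k' ⊗[k] K))) ↔
      ∀ (L : Type u) [Field L] [Algebra kt L], IrreducibleSpace (PrimeSpectrum (L ⊗[kt] Kt)) := by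
  letI : Algebra k kt := ((algebraMap (Polynomial k) kt).comp Polynomial.C).toAlgebra
  letI : Algebra K Kt := ((algebraMap (Polynomial K) Kt).comp Polynomial.C).toAlgebra
  letI : Algebra k Kt := ((algebraMap kt Kt).comp (algebraMap k kt)).toAlgebra
  haveI : IsScalarTower k kt Kt := IsScalarTower.of_algebraMap_eq' rfl
  haveI : IsScalarTower k K Kt := IsScalarTower.of_algebraMap_eq fun r => by
    show algebraMap kt Kt (algebraMap (Polynomial k) kt (Polynomial.C r)) = algebraMap (Polynomial K) Kt (Polynomial.C (algebraMap k K r))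
    rw [hcompat, Polynomial.map_C]
  constructor
  · intro h L _ _
    letI : Algebra k L := ((algebraMap kt L).comp (algebraMap k kt)).toAlgebra
    haveI : IsScalarTower k kt L := IsScalarTower.of_algebraMap_eq' rfl
    -- `k(t) ⊗ K → K(t)` is injective, with fractions dense
    let incK : K →ₐ[k] Kt := IsScalarTower.toAlgHom k K Kt
    let φ : kt ⊗[k] K →ₐ[kt] Kt := Algebra.TensorProduct.lift (Algebra.ofId kt Kt) incK (fun _ _ => Commute.all _ _)
    let ev : Polynomial k →ₐ[k] kt :=
      { algebraMap (Polynomial k) kt with commutes' := fun r => rfl }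
    let j : Polynomial k ⊗[k] K →ₐ[k] kt ⊗[k] K := Algebra.TensorProduct.map ev (AlgHom.id k K)
    let e : Polynomial k ⊗[k] K ≃ₐ[k] Polynomial K :=
      (Algebra.TensorProduct.comm k (Polynomial k) K).trans (polyEquivTensor k K).symm
    have hφj : ∀ w, φ (j w) = algebraMap (Polynomial K) Kt (e w) := by
      intro w
      induction w using TensorProduct.induction_on with
      | zero => simp
      | tmul p c =>
        show algebraMap kt Kt (algebraMap (Polynomial k) kt p) * algebraMap (Polynomial K) Kt (Polynomial.C c) =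
          algebraMap (Polynomial K) Kt ((polyEquivTensor k K).symm (c ⊗ₜ p))
        rw [hcompat, ← map_mul, polyEquivTensor_symm_apply_tmul_eq_smul, Polynomial.smul_eq_C_mul, mul_comm]
      | add a b ha hb => simp only [map_add, ha, hb]
    have hclear : ∀ z : kt ⊗[k] K, ∃ q : Polynomial k, q ≠ 0 ∧ ∃ w, (ev q ⊗ₜ[k] (1 : K)) * z = j w := by
      intro z
      induction z using TensorProduct.induction_on with
      | zero => exact ⟨1, one_ne_zero, 0, by simp⟩
      | tmul a c =>
        obtain ⟨p, q, hq, rfl⟩ := IsFractionRing.div_surjective (A := Polynomial k) a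
        refine ⟨q, nonZeroDivisors.ne_zero hq, p ⊗ₜ c, ?_⟩
        rw [Algebra.TensorProduct.tmul_mul_tmul, one_mul]
        show (algebraMap _ kt q * (algebraMap _ kt p / algebraMap _ kt q)) ⊗ₜ c = algebraMap _ kt p ⊗ₜ[k] c
        rw [mul_div_cancel₀ _ (IsFractionRing.to_map_ne_zero_of_mem_nonZeroDivisors hq)]
      | add a b ha hb =>
        obtain ⟨q, hq, w, hw⟩ := ha
        obtain ⟨q', hq', w', hw'⟩ := hb
        refine ⟨q * q', mul_ne_zero hq hq', (q' ⊗ₜ 1) * w + (q ⊗ₜ 1) * w', ?_⟩
        simp only [map_add, map_mul, ← hw, ← hw']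
        show _ = (ev q' ⊗ₜ 1) * ((ev q ⊗ₜ 1) * a) + (ev q ⊗ₜ 1) * ((ev q' ⊗ₜ 1) * b)
        rw [show (ev q * ev q') ⊗ₜ[k] (1 : K) = (ev q ⊗ₜ 1) * (ev q' ⊗ₜ 1) by rw [Algebra.TensorProduct.tmul_mul_tmul, one_mul]]
        ring
    have hunit : ∀ q : Polynomial k, q ≠ 0 → IsUnit (ev q ⊗ₜ[k] (1 : K)) := fun q hq =>
      (Ne.isUnit ((IsFractionRing.injective (Polynomial k) kt).ne_iff' (map_zero _) |>.mpr hq)).map
        (Algebra.TensorProduct.includeLeft : kt →ₐ[k] kt ⊗[k] K)
    have hφinj : Function.Injective φ := by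
      rw [injective_iff_map_eq_zero]
      intro z hz
      obtain ⟨q, hq, w, hw⟩ := hclear z
      have h0 : algebraMap (Polynomial K) Kt (e w) = 0 := by rw [← hφj, ← hw, map_mul, hz, mul_zero]
      have hw0 : w = 0 := e.injective ((IsFractionRing.injective (Polynomial K) Kt (h0.trans (map_zero _).symm)).trans (map_zero e).symm)
      rw [hw0, map_zero] at hw
      exact (hunit q hq).mul_right_eq_zero.mp hw
    have hdense : ∀ x : Kt, ∃ z w, φ w ≠ 0 ∧ x * φ w = φ z := fun x => by
      obtain ⟨P, S, hS, rfl⟩ := IsFractionRing.div_surjective (A := Polynomial K) x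
      refine ⟨j (e.symm P), j (e.symm S), ?_, ?_⟩
      · rw [hφj, e.apply_symm_apply]; exact IsFractionRing.to_map_ne_zero_of_mem_nonZeroDivisors hS
      · rw [hφj, hφj, e.apply_symm_apply, e.apply_symm_apply, div_mul_cancel₀ _ (IsFractionRing.to_map_ne_zero_of_mem_nonZeroDivisors hS)]
    let c : L ⊗[kt] (kt ⊗[k] K) ≃ₐ[L] L ⊗[k] K := Algebra.TensorProduct.cancelBaseChange k kt L L K
    let m : L ⊗[kt] (kt ⊗[k] K) →ₐ[kt] L ⊗[kt] Kt := Algebra.TensorProduct.map (AlgHom.id kt L) φ
    have hm : Function.Injective m :=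
      Module.Flat.lTensor_preserves_injective_linearMap (M := L) φ.toLinearMap hφinj
    let ψ : L ⊗[k] K →+* L ⊗[kt] Kt := m.toRingHom.comp c.symm.toRingEquiv.toRingHom
    have hψ : Function.Injective ψ := hm.comp c.symm.injective
    have hA := PrimeSpectrum.irreducibleSpace_iff_isPrime_nilradical.mp (h L)
    have hloc : ∀ b : L ⊗[kt] Kt, ∃ a s, IsUnit (ψ s) ∧ b * ψ s = ψ a := by
      intro b
      induction b using TensorProduct.induction_on with
      | zero => exact ⟨0, 1, by simp, by simp⟩
      | tmul l x =>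
        obtain ⟨z, w, hw, hx⟩ := hdense x
        refine ⟨c (l ⊗ₜ z), c (1 ⊗ₜ w), ?_, ?_⟩
        · show IsUnit (m (c.symm (c (1 ⊗ₜ w))))
          rw [c.symm_apply_apply]
          exact (Ne.isUnit hw).map (Algebra.TensorProduct.includeRight : Kt →ₐ[kt] L ⊗[kt] Kt)
        · show (l ⊗ₜ[kt] x) * m (c.symm (c (1 ⊗ₜ w))) = m (c.symm (c (l ⊗ₜ z)))
          rw [c.symm_apply_apply, c.symm_apply_apply]
          show (l ⊗ₜ[kt] x) * ((1 : L) ⊗ₜ[kt] φ w) = l ⊗ₜ[kt] φ z
          rw [Algebra.TensorProduct.tmul_mul_tmul, mul_one, hx]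
      | add b b' hb hb' =>
        obtain ⟨a, s, hs, e1⟩ := hb
        obtain ⟨a', s', hs', e2⟩ := hb'
        refine ⟨a * s' + a' * s, s * s', ?_, ?_⟩
        · rw [map_mul]; exact hs.mul hs'
        · rw [map_mul, map_add, map_mul, map_mul, ← e1, ← e2]; ring
    rw [PrimeSpectrum.irreducibleSpace_iff_isPrime_nilradical]
    haveI : Nontrivial (L ⊗[k] K) :=
      (Algebra.TensorProduct.includeRight_injective (algebraMap k L).injective :
        Function.Injective (Algebra.TensorProduct.includeRight : K → L ⊗[k] K)).nontrivial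
    haveI : Nontrivial (L ⊗[kt] Kt) := hψ.nontrivial
    refine ⟨?_, fun {x y} hxy => ?_⟩
    · obtain ⟨M, hM⟩ := Ideal.exists_maximal (L ⊗[kt] Kt)
      haveI := hM.isPrime
      exact ne_top_of_le_ne_top hM.ne_top (nilradical_le_prime M)
    · obtain ⟨a, s, hs, e1⟩ := hloc x
      obtain ⟨a', s', hs', e2⟩ := hloc y
      have he := Groth.L02.SepClosedTensor.comap_nilradical_of_injective ψ hψ
      have hmem : a * a' ∈ nilradical (L ⊗[k] K) := he ▸ Ideal.mem_comap.mpr (by
        rw [map_mul, ← e1, ← e2, show x * ψ s * (y * ψ s') = x * y * (ψ s * ψ s') by ring]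
        exact Ideal.mul_mem_right _ _ hxy)
      rcases hA.mem_or_mem hmem with h1 | h1
      · left
        have h2 : x * ψ s ∈ nilradical (L ⊗[kt] Kt) := by rw [e1]; exact he.symm.le h1
        exact (Ideal.mul_unit_mem_iff_mem _ hs).mp h2
      · right
        have h2 : y * ψ s' ∈ nilradical (L ⊗[kt] Kt) := by rw [e2]; exact he.symm.le h1
        exact (Ideal.mul_unit_mem_iff_mem _ hs').mp h2
  · intro h
    refine (Groth.Agent.S2150.result (k := k) (K := K)).mpr fun α hα => ?_
    have hsep : IsSeparable kt (algebraMap K Kt α) := by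
      refine IsSeparable.tower_top (F := k) kt ?_
      exact hα.map (IsScalarTower.toAlgHom k K Kt) (algebraMap K Kt).injective
    obtain ⟨r, hr⟩ := (Groth.Agent.S2150.result (k := kt) (K := Kt)).mp h _ hsep
    obtain ⟨p, q, hq, rfl⟩ := IsFractionRing.div_surjective (A := Polynomial k) r
    have hq0 : q ≠ 0 := nonZeroDivisors.ne_zero hq
    have hqK : algebraMap (Polynomial K) Kt (q.map (algebraMap k K)) ≠ 0 :=
      (IsFractionRing.injective (Polynomial K) Kt).ne_iff' (map_zero _) |>.mpr
        (Polynomial.map_ne_zero hq0)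
    rw [map_div₀, hcompat, hcompat, div_eq_iff hqK] at hr
    have hp : p.map (algebraMap k K) = Polynomial.C α * q.map (algebraMap k K) :=
      IsFractionRing.injective (Polynomial K) Kt (hr.trans ((algebraMap (Polynomial K) Kt).map_mul (Polynomial.C α) _).symm)
    have hc := congrArg (Polynomial.coeff · q.natDegree) hp
    simp only [Polynomial.coeff_map, Polynomial.coeff_C_mul] at hc
    have hl : algebraMap k K (q.coeff q.natDegree) ≠ 0 := by
      rw [map_ne_zero, ← Polynomial.leadingCoeff]
      exact Polynomial.leadingCoeff_ne_zero.mpr hq0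
    exact ⟨p.coeff q.natDegree / q.coeff q.natDegree, by rw [map_div₀, hc, mul_div_cancel_right₀ _ hl]⟩

end Groth.Agent.S9657
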