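import Groth.Statements.S9658
import Mathlib.Algebra.Module.LocalizedModule.Basic
import Mathlib.RingTheory.Ideal.Operations

set_option autoImplicit false
universe u
open CAlg

namespace Groth.Agent.S9658

/-- Let R be a ring, f_1, …, f_n ∈ R generating the unit ideal and M an R-module. With M_i = M_{f_i},
M_ij = M_{f_i f_j} (any localizations, with the canonical compatible maps M → M_i → M_ij), the
sequence 0 → M → ⊕ M_i → ⊕ M_ij is exact: an element of M whose image vanishes in every M_i is zero,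
and every family (m_i ∈ M_i) such that m_i and m_j have the same image in M_ij for all i, j is the
image of an element of M. -/
theorem result {R : Type u} [CommRing R] {ι : Type u} [Fintype ι] (f : ι → R) (hf : Ideal.span (Set.range f) = ⊤)
    (M : Type u) [AddCommGroup M] [Module R M]
    (Mi : ι → Type u) [∀ i, AddCommGroup (Mi i)] [∀ i, Module R (Mi i)] (g : ∀ i, M →ₗ[R] Mi i) [∀ i, IsLocalizedModule (Submonoid.powers (f i)) (g i)]
    (Mij : ι → ι → Type u) [∀ i j, AddCommGroup (Mij i j)] [∀ i j, Module R (Mij i j)] (gij : ∀ i j, M →ₗ[R] Mij i j) [∀ i j, IsLocalizedModule (Submonoid.powers (f i * f j)) (gij i j)]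
    (ρ₁ : ∀ i j, Mi i →ₗ[R] Mij i j) (hρ₁ : ∀ i j, ρ₁ i j ∘ₗ g i = gij i j) (ρ₂ : ∀ i j, Mi j →ₗ[R] Mij i j) (hρ₂ : ∀ i j, ρ₂ i j ∘ₗ g j = gij i j) :
    (∀ m : M, (∀ i, g i m = 0) → m = 0) ∧
      ∀ s : ∀ i, Mi i, (∀ i j, ρ₁ i j (s i) = ρ₂ i j (s j)) → ∃ m : M, ∀ i, g i m = s i := by
  classical
  have killM : ∀ m : M, (∀ i, ∃ k : ℕ, f i ^ k • m = 0) → m = 0 := by
    intro m hm
    choose k hk using hm
    have htop : Ideal.span (Set.range fun i => f i ^ k i) = ⊤ := by
      rw [← Ideal.radical_eq_top, eq_top_iff, ← hf, Ideal.span_le]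
      rintro _ ⟨i, rfl⟩
      exact ⟨k i, Ideal.subset_span ⟨i, rfl⟩⟩
    obtain ⟨c, hc⟩ := Ideal.mem_span_range_iff_exists_fun.1 (htop ▸ Submodule.mem_top (x := (1 : R)))
    rw [← one_smul R m, ← hc, Finset.sum_smul]
    exact Finset.sum_eq_zero fun i _ => by rw [mul_smul, hk, smul_zero]
  refine ⟨fun m hm => killM m fun i => ?_, fun s hs => ?_⟩
  · obtain ⟨⟨_, k, rfl⟩, hk⟩ := (IsLocalizedModule.eq_zero_iff (Submonoid.powers (f i)) (g i)).1 (hm i)
    exact ⟨k, hk⟩
  have hsurj : ∀ i, ∃ (a : M) (n : ℕ), f i ^ n • s i = g i a := by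
    intro i
    obtain ⟨⟨a, ⟨_, n, rfl⟩⟩, ha⟩ := IsLocalizedModule.surj (Submonoid.powers (f i)) (g i) (s i)
    exact ⟨a, n, ha⟩
  choose a n ha using hsurj
  set N := Finset.univ.sup n
  have ha' : ∀ i, g i (f i ^ (N - n i) • a i) = f i ^ N • s i := fun i => by
    rw [map_smul, ← ha, smul_smul, ← pow_add, Nat.sub_add_cancel (Finset.le_sup (Finset.mem_univ i))]
  set b := fun i => f i ^ (N - n i) • a i with hbdef
  have ha'' : ∀ i, g i (b i) = f i ^ N • s i := ha'
  clear_value b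
  have hk : ∀ i j, ∃ k : ℕ, (f i * f j) ^ k • (f j ^ N • b i - f i ^ N • b j) = 0 := by
    intro i j
    have h1 : gij i j (f j ^ N • b i - f i ^ N • b j) = 0 := by
      rw [map_sub, sub_eq_zero]
      calc gij i j (f j ^ N • b i) = ρ₁ i j (g i (f j ^ N • b i)) := (LinearMap.congr_fun (hρ₁ i j) _).symm
        _ = ρ₂ i j (g j (f i ^ N • b j)) := by
            rw [map_smul, map_smul, map_smul, map_smul, ha'', ha'', map_smul, map_smul, hs i j, smul_comm]
        _ = gij i j (f i ^ N • b j) := LinearMap.congr_fun (hρ₂ i j) _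
    obtain ⟨⟨_, k, rfl⟩, hk⟩ := (IsLocalizedModule.eq_zero_iff (Submonoid.powers (f i * f j)) (gij i j)).1 h1
    exact ⟨k, hk⟩
  choose k hk using hk
  set K := Finset.univ.sup fun i => Finset.univ.sup (k i)
  have hb : ∀ i j, f j ^ (N + K) • (f i ^ K • b i) = f i ^ (N + K) • (f j ^ K • b j) := by
    intro i j
    rw [← sub_eq_zero]
    have hle : k i j ≤ K := (Finset.le_sup (f := k i) (Finset.mem_univ j)).trans
      (Finset.le_sup (f := fun i => Finset.univ.sup (k i)) (Finset.mem_univ i))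
    have h2 : (f i * f j) ^ K • (f j ^ N • b i - f i ^ N • b j) = 0 := by
      rw [← Nat.sub_add_cancel hle, pow_add, mul_smul, hk, smul_zero]
    rw [← h2, smul_sub, smul_smul, smul_smul, smul_smul, smul_smul, mul_pow, pow_add, pow_add]
    congr 1 <;> (congr 1; ring)
  have htop : Ideal.span (Set.range fun i => f i ^ (N + K)) = ⊤ := by
    rw [← Ideal.radical_eq_top, eq_top_iff, ← hf, Ideal.span_le]
    rintro _ ⟨i, rfl⟩
    exact ⟨N + K, Ideal.subset_span ⟨i, rfl⟩⟩
  obtain ⟨c, hc⟩ := Ideal.mem_span_range_iff_exists_fun.1 (htop ▸ Submodule.mem_top (x := (1 : R)))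
  refine ⟨∑ j, c j • f j ^ K • b j, fun i => ?_⟩
  have hmain : f i ^ (N + K) • ∑ j, c j • f j ^ K • b j = f i ^ K • b i := by
    rw [Finset.smul_sum]
    conv_rhs => rw [← one_smul R (f i ^ K • b i), ← hc, Finset.sum_smul]
    refine Finset.sum_congr rfl fun j _ => ?_
    rw [smul_comm, ← hb, ← mul_smul]
  have hu := IsLocalizedModule.map_units (g i) (⟨f i ^ (N + K), N + K, rfl⟩ : Submonoid.powers (f i))
  apply ((Module.End.isUnit_iff _).1 hu).1
  simp only [Module.algebraMap_end_apply]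
  rw [← map_smul, hmain, map_smul, ha'', smul_smul, ← pow_add, add_comm]

end Groth.Agent.S9658
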