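import Groth.Statements.S9659
import Mathlib.RingTheory.GradedAlgebra.Radical
import Mathlib.RingTheory.Spectrum.Prime.Topology
import Mathlib.RingTheory.GradedAlgebra.Basic
import Mathlib.Algebra.Order.Ring.Int
import Mathlib.Tactic.Ring

set_option autoImplicit false
universe u
open CAlg

namespace Groth.Agent.S9659

/-- Let S be a ℤ-graded ring which contains an invertible homogeneous element of positive degree. Then
the set of homogeneous prime ideals of S, with the topology induced from Spec(S), maps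
homeomorphically onto Spec(S₀) by p ↦ p ∩ S₀. -/
theorem result {R S : Type u} [CommRing R] [CommRing S] [Algebra R S] (𝒜 : ℤ → Submodule R S) [GradedAlgebra 𝒜]
    (f : S) (d : ℤ) (hd : 0 < d) (hf : f ∈ 𝒜 d) (hu : IsUnit f) :
    IsHomeomorph (fun p : {p : PrimeSpectrum S // p.asIdeal.IsHomogeneous 𝒜} => PrimeSpectrum.comap (SetLike.GradeZero.subring 𝒜).subtype p.1) := by
  classical
  obtain ⟨g, hfg⟩ := hu.exists_right_inv
  have hone : (1 : S) ∈ 𝒜 0 := SetLike.GradedOne.one_mem
  have hg : g ∈ 𝒜 (-d) := by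
    have h1 : (DirectSum.decompose 𝒜 (f * g) (d + -d) : S) = f * (DirectSum.decompose 𝒜 g (-d) : S) :=
      DirectSum.coe_decompose_mul_add_of_left_mem 𝒜 hf
    rw [hfg, add_neg_cancel, DirectSum.decompose_of_mem_same 𝒜 hone] at h1
    have h2 : g = (DirectSum.decompose 𝒜 g (-d) : S) := hu.mul_left_cancel (hfg.trans h1)
    rw [h2]; exact SetLike.coe_mem _
  set S₀ := SetLike.GradeZero.subring 𝒜
  have hdn : (d.toNat : ℤ) = d := Int.toNat_of_nonneg hd.le
  have hd0 : 0 < d.toNat := by omega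
  -- the degree zero element attached to a homogeneous one
  have hc : ∀ (i : ℤ) (a : S), a ∈ 𝒜 i → ∃ c : S₀, ∀ p : Ideal S, p.IsPrime → (a ∈ p ↔ (c : S) ∈ p) := by
    intro i a ha
    have hpow : a ^ d.toNat ∈ 𝒜 ((d.toNat : ℤ) * i) := by simpa [nsmul_eq_mul] using SetLike.pow_mem_graded d.toNat ha
    rcases le_or_gt 0 i with hi | hi
    · refine ⟨⟨a ^ d.toNat * g ^ i.toNat, ?_⟩, fun p hp => ?_⟩
      · have := SetLike.mul_mem_graded hpow (SetLike.pow_mem_graded i.toNat hg)
        show _ ∈ 𝒜 0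
        convert this using 2
        rw [nsmul_eq_mul, hdn, Int.toNat_of_nonneg hi]; ring
      · have hgu : g ^ i.toNat ∉ p := fun h => hp.ne_top (Ideal.eq_top_of_isUnit_mem _ h ((IsUnit.of_mul_eq_one_right f hfg).pow _))
        exact ⟨fun h => p.mul_mem_right _ (p.pow_mem_of_mem h _ hd0), fun h => hp.mem_of_pow_mem _ ((hp.mem_or_mem h).resolve_right hgu)⟩
    · refine ⟨⟨a ^ d.toNat * f ^ (-i).toNat, ?_⟩, fun p hp => ?_⟩
      · have := SetLike.mul_mem_graded hpow (SetLike.pow_mem_graded (-i).toNat hf)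
        show _ ∈ 𝒜 0
        convert this using 2
        rw [nsmul_eq_mul, hdn, Int.toNat_of_nonneg (by omega)]; ring
      · have hfu : f ^ (-i).toNat ∉ p := fun h => hp.ne_top (Ideal.eq_top_of_isUnit_mem _ h (hu.pow _))
        exact ⟨fun h => p.mul_mem_right _ (p.pow_mem_of_mem h _ hd0), fun h => hp.mem_of_pow_mem _ ((hp.mem_or_mem h).resolve_right hfu)⟩
  choose c hc using hc
  set Φ := fun p : {p : PrimeSpectrum S // p.asIdeal.IsHomogeneous 𝒜} => PrimeSpectrum.comap S₀.subtype p.1
  have hmem : ∀ (p : {p : PrimeSpectrum S // p.asIdeal.IsHomogeneous 𝒜}) (i : ℤ) (a : S) (ha : a ∈ 𝒜 i),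
      a ∈ p.1.asIdeal ↔ c i a ha ∈ (Φ p).asIdeal := fun p i a ha => hc i a ha _ p.1.isPrime
  have hcont : Continuous Φ := (PrimeSpectrum.continuous_comap S₀.subtype).comp continuous_subtype_val
  have hsurj : Function.Surjective Φ := by
    intro q
    have hcomap : (q.asIdeal.map S₀.subtype).comap S₀.subtype = q.asIdeal := by
      refine le_antisymm (fun z hz => ?_) Ideal.le_comap_map
      have key : ∀ y ∈ q.asIdeal.map S₀.subtype, ∀ s : S, (⟨(DirectSum.decompose 𝒜 (s * y) 0 : S), SetLike.coe_mem _⟩ : S₀) ∈ q.asIdeal := by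
        intro y hy
        rw [Ideal.map, ← Ideal.submodule_span_eq] at hy
        induction hy using Submodule.span_induction with
        | mem x hx =>
          intro s
          obtain ⟨w, hw, rfl⟩ := hx
          convert q.asIdeal.mul_mem_left (⟨(DirectSum.decompose 𝒜 s 0 : S), SetLike.coe_mem _⟩ : S₀) hw using 1
          refine Subtype.ext ?_
          have := DirectSum.coe_decompose_mul_add_of_right_mem 𝒜 (a := s) (b := S₀.subtype w) (i := 0) (j := 0) w.2
          rw [add_zero] at this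
          exact this
        | zero => intro s; convert q.asIdeal.zero_mem using 1; exact Subtype.ext (by simp)
        | add x y _ _ hx hy => intro s; convert q.asIdeal.add_mem (hx s) (hy s) using 1; refine Subtype.ext ?_; show ((DirectSum.decompose 𝒜 (s * (x + y))) 0 : S) = _; rw [mul_add, DirectSum.decompose_add, DirectSum.add_apply]; rfl
        | smul r x _ hx => intro s; convert hx (s * r) using 1; exact Subtype.ext (by simp [mul_assoc])
      convert key _ hz 1 using 1
      exact Subtype.ext (by rw [one_mul]; exact (DirectSum.decompose_of_mem_same 𝒜 z.2).symm)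
    obtain ⟨p, hp, hpq⟩ := (Ideal.comap_map_eq_self_iff_of_isPrime (f := S₀.subtype) q.asIdeal).mp hcomap
    refine ⟨⟨⟨(p.homogeneousCore 𝒜).toIdeal, hp.homogeneousCore⟩, (p.homogeneousCore 𝒜).isHomogeneous⟩, PrimeSpectrum.ext (Ideal.ext fun z => ?_)⟩
    rw [← hpq]
    exact ⟨fun h => Ideal.toIdeal_homogeneousCore_le 𝒜 p h, fun h => Ideal.mem_homogeneousCore_of_homogeneous_of_mem ⟨0, z.2⟩ h⟩
  refine ⟨hcont, ?_, ⟨?_, hsurj⟩⟩
  · -- open
    refine (PrimeSpectrum.isTopologicalBasis_basic_opens.isInducing Topology.IsInducing.subtypeVal).isOpenMap_iff.mpr ?_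
    rintro _ ⟨_, ⟨x, rfl⟩, rfl⟩
    have : Φ '' (Subtype.val ⁻¹' (PrimeSpectrum.basicOpen x : Set (PrimeSpectrum S))) =
        ⋃ i : ℤ, (PrimeSpectrum.basicOpen (c i _ (SetLike.coe_mem (DirectSum.decompose 𝒜 x i))) : Set (PrimeSpectrum S₀)) := by
      ext q
      simp only [Set.mem_image, Set.mem_preimage, SetLike.mem_coe, PrimeSpectrum.mem_basicOpen, Set.mem_iUnion]
      constructor
      · rintro ⟨p, hp, rfl⟩
        by_contra! h
        exact hp ((p.2.mem_iff).mpr fun i => (hmem p i _ (SetLike.coe_mem _)).mpr (h i))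
      · rintro ⟨i, hi⟩
        obtain ⟨p, rfl⟩ := hsurj q
        exact ⟨p, fun hx => hi ((hmem p i _ (SetLike.coe_mem _)).mp ((p.2.mem_iff).mp hx i)), rfl⟩
    exact this ▸ isOpen_iUnion fun i => (PrimeSpectrum.basicOpen (c i _ (SetLike.coe_mem (DirectSum.decompose 𝒜 x i)))).2
  · -- injective
    intro p p' h
    refine Subtype.ext (PrimeSpectrum.ext (Ideal.ext fun x => ?_))
    rw [p.2.mem_iff, p'.2.mem_iff]
    exact forall_congr' fun i => by rw [hmem p i _ (SetLike.coe_mem _), hmem p' i _ (SetLike.coe_mem _), h]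

end Groth.Agent.S9659
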