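import Groth.Statements.S9660
import Mathlib.RingTheory.GradedAlgebra.Radical

set_option autoImplicit false
universe u
open CAlg

namespace Groth.Agent.S9660

/-- Let S be an ℕ-graded ring and I a homogeneous ideal of S. Then V₊(I) ⊆ Proj(S) is empty if and only
if S₊ ⊆ √I. -/
theorem result {R S : Type u} [CommRing R] [CommRing S] [Algebra R S] (𝒜 : ℕ → Submodule R S) [GradedAlgebra 𝒜] (I : HomogeneousIdeal 𝒜) :
    ProjectiveSpectrum.zeroLocus 𝒜 (I : Set S) = ∅ ↔ (HomogeneousIdeal.irrelevant 𝒜).toIdeal ≤ I.toIdeal.radical := by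
  constructor
  · intro h x hx
    rw [Ideal.radical_eq_sInf, Submodule.mem_sInf]
    rintro P ⟨hIP, hP⟩
    by_contra hxP
    have hcore : I.toIdeal ≤ (Ideal.homogeneousCore 𝒜 P).toIdeal := by
      rw [← I.toIdeal_homogeneousCore_eq_self]
      exact Ideal.homogeneousCore_mono 𝒜 hIP
    have hrel : ¬ HomogeneousIdeal.irrelevant 𝒜 ≤ Ideal.homogeneousCore 𝒜 P := fun hle =>
      hxP (Ideal.toIdeal_homogeneousCore_le 𝒜 P (hle hx))
    exact Set.eq_empty_iff_forall_notMem.1 h ⟨Ideal.homogeneousCore 𝒜 P, Ideal.IsPrime.homogeneousCore hP, hrel⟩ hcore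
  · intro h
    rw [Set.eq_empty_iff_forall_notMem]
    intro x hx
    refine x.not_irrelevant_le fun a ha => ?_
    exact (x.isPrime.radical_le_iff.2 (show I.toIdeal ≤ x.asHomogeneousIdeal.toIdeal from hx)) (h ha)

end Groth.Agent.S9660
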