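import Groth.Statements.S9661
import Groth.Agent.L06.HilbertSamuel
import Mathlib.RingTheory.MvPolynomial.Homogeneous
import Mathlib.RingTheory.MvPolynomial.Basic
import Mathlib.RingTheory.Polynomial.Basic
import Mathlib.RingTheory.Length
import Mathlib.LinearAlgebra.FiniteDimensional.Basic
import Mathlib.RingTheory.GradedAlgebra.Homogeneous.Ideal
import Mathlib.RingTheory.MvPolynomial.WeightedHomogeneous

set_option autoImplicit false
universe u
attribute [local instance] MvPolynomial.gradedAlgebra
open CAlg

namespace Groth.Agent.S9661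

open MvPolynomial Groth.L06.HilbertSystem

/-- The degree `n` part of an ideal. -/
noncomputable abbrev part {k : Type u} [Field k] {d : ℕ} (J : Ideal (MvPolynomial (Fin d) k)) (n : ℕ) :
    Submodule k (homogeneousSubmodule (Fin d) k n) :=
  (J.restrictScalars k).comap (homogeneousSubmodule (Fin d) k n).subtype

lemma finite_part {k : Type u} [Field k] (d n : ℕ) : Module.Finite k (homogeneousSubmodule (Fin d) k n) :=
  Module.Finite.iff_fg.mpr (homogeneousSubmodule_fg (Fin d) k n)

/-- The Hilbert function of a quotient by an ideal has vanishing `d`-th difference eventually. -/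
lemma diffZero_quot {k : Type u} [Field k] {d : ℕ} (J : Ideal (MvPolynomial (Fin d) k)) :
    DiffZero d fun n => ((Module.length k (homogeneousSubmodule (Fin d) k n ⧸ part J n)).toNat : ℤ) := by
  classical
  let H := homogeneousSubmodule (Fin d) k
  have hX : ∀ (i : Fin d) (n : ℕ) (p : MvPolynomial (Fin d) k), p ∈ H n → X i * p ∈ H (n + 1) := fun i n p hp => by
    rw [add_comm n 1]
    exact (isHomogeneous_X k i).mul hp
  let mulX : Fin d → ∀ n, H n →ₗ[k] H (n + 1) := fun i n =>
    (LinearMap.mulLeft k (X i)).restrict fun p hp => hX i n p hp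
  let x : Fin d → ∀ n, (H n ⧸ part J n) →ₗ[k] (H (n + 1) ⧸ part J (n + 1)) := fun i n =>
    (part J n).mapQ (part J (n + 1)) (mulX i n) fun p hp => by
      show X i * (p : MvPolynomial (Fin d) k) ∈ J
      exact J.mul_mem_left _ hp
  have hfin : ∀ n, Module.Finite k (H n) := finite_part d
  refine diffZero_length d (fun n => H n ⧸ part J n) x (fun i j n => ?_) ?_ (fun n => ?_)
  · refine Submodule.linearMap_qext _ (LinearMap.ext fun p => ?_)
    refine congrArg (Submodule.Quotient.mk (p := part J (n + 1 + 1))) (Subtype.ext ?_)
    show X i * (X j * p.1) = X j * (X i * p.1)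
    ring
  · let pull : Stab d (fun n => H n ⧸ part J n) x → ∀ n, Submodule k (MvPolynomial (Fin d) k) := fun N n =>
      ((N.1 n).comap (part J n).mkQ).map (H n).subtype
    have hpull : ∀ N n, pull N n ≤ H n := fun N n => by rintro _ ⟨z, -, rfl⟩; exact z.2
    have hpullX : ∀ N n i (p : MvPolynomial (Fin d) k), p ∈ pull N n → X i * p ∈ pull N (n + 1) := by
      rintro N n i _ ⟨z, hz, rfl⟩
      exact ⟨mulX i n z, N.2 i n ⟨_, hz, rfl⟩, rfl⟩
    let Φ : Stab d (fun n => H n ⧸ part J n) x → Ideal (MvPolynomial (Fin d) k) := fun N =>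
      { carrier := {s | ∀ n, homogeneousComponent n s ∈ pull N n}
        zero_mem' := fun n => by rw [map_zero]; exact zero_mem _
        add_mem' := fun ha hb n => by rw [map_add]; exact add_mem (ha n) (hb n)
        smul_mem' := by
          intro a
          induction a using MvPolynomial.induction_on with
          | C c =>
            intro s hs n
            rw [smul_eq_mul, homogeneousComponent_C_mul, ← smul_eq_C_mul]
            exact Submodule.smul_mem _ c (hs n)
          | add a b ha hb => intro s hs n; rw [add_smul, map_add]; exact add_mem (ha hs n) (hb hs n)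
          | mul_X a i ha =>
            intro s hs
            rw [smul_eq_mul, mul_assoc]
            refine ha fun n => ?_
            rw [← sum_homogeneousComponent s, Finset.mul_sum, map_sum]
            refine Submodule.sum_mem _ fun j _ => ?_
            rw [homogeneousComponent_of_mem ((mem_homogeneousSubmodule (j + 1) _).mpr (hX i j _ (homogeneousComponent_mem j s)))]
            split_ifs with h
            · rw [h]; exact hpullX N j i _ (hs j)
            · exact zero_mem _ }
    have hmono : StrictMono Φ := Monotone.strictMono_of_injective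
      (fun a b h s hs n => Submodule.map_mono (Submodule.comap_mono (h n)) (hs n))
      (fun a b h => Subtype.ext (funext fun n => Submodule.comap_injective_of_surjective (Submodule.mkQ_surjective _)
        (Submodule.map_injective_of_injective (Submodule.injective_subtype (H n)) (by
          have hiff : ∀ (N : Stab d (fun n => H n ⧸ part J n) x) (p : MvPolynomial (Fin d) k), p ∈ H n → (p ∈ pull N n ↔ p ∈ Φ N) := by
            intro N p hp
            constructor
            · intro hpN m
              rw [homogeneousComponent_of_mem hp]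
              split_ifs with hm
              · exact hm ▸ hpN
              · exact zero_mem _
            · intro hpN
              have := hpN n
              rwa [homogeneousComponent_of_mem hp, if_pos rfl] at this
          refine SetLike.ext fun p => ⟨fun hp => ?_, fun hp => ?_⟩
          · exact (hiff b p (hpull a n hp)).mpr (h ▸ (hiff a p (hpull a n hp)).mp hp)
          · exact (hiff a p (hpull b n hp)).mpr (h ▸ (hiff b p (hpull b n hp)).mp hp)))))
    haveI : WellFoundedGT (Ideal (MvPolynomial (Fin d) k)) := wellFoundedGT
    exact ⟨Subrelation.wf (fun {a b} h => hmono h) (InvImage.wf Φ wellFounded_gt)⟩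
  · have := hfin n
    rw [Module.length_eq_finrank]
    exact ENat.natCast_ne_top _


/-- Let k be a field, d ≥ 1, and I a nonzero homogeneous ideal of the standard-graded polynomial ring
k[X_1, …, X_d]; put M = k[X_1, …, X_d]/I. Then the function n ↦ dim_k M_n (equal to dim_k of the
degree-n part of the polynomial ring minus dim_k of the degree-n part of I) coincides for all large
n with a polynomial of degree < d - 1, the zero polynomial if d = 1. -/
theorem result {k : Type u} [Field k] (d : ℕ) (hd : 0 < d)
    (I : HomogeneousIdeal (MvPolynomial.homogeneousSubmodule (Fin d) k)) (hI : I ≠ ⊥) :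
    ∃ P : Polynomial ℚ, P.degree < ((d - 1 : ℕ) : WithBot ℕ) ∧ ∃ N : ℕ, ∀ n : ℕ, N ≤ n →
      ((Module.finrank k ↥(MvPolynomial.homogeneousSubmodule (Fin d) k n) : ℚ) -
        (Module.finrank k ↥(I.toIdeal.restrictScalars k ⊓ MvPolynomial.homogeneousSubmodule (Fin d) k n) : ℚ)) = P.eval (n : ℚ) := by
  classical
  let H := homogeneousSubmodule (Fin d) k
  have hfin : ∀ n, Module.Finite k (H n) := finite_part d
  let F : Ideal (MvPolynomial (Fin d) k) → ℕ → ℕ := fun J n => (Module.length k (H n ⧸ part J n)).toNat
  have hF : ∀ J n, F J n + Module.finrank k ↥(J.restrictScalars k ⊓ H n) = Module.finrank k (H n) := fun J n => by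
    have := hfin n
    have e : Module.finrank k ↥(J.restrictScalars k ⊓ H n) = Module.finrank k (part J n) := by
      rw [inf_comm, ← Submodule.map_comap_subtype]
      exact Submodule.finrank_map_subtype_eq _ _
    rw [e]
    show (Module.length k (H n ⧸ part J n)).toNat + _ = _
    rw [Module.length_eq_finrank, ENat.toNat_natCast, Submodule.finrank_quotient_add_finrank]
  -- a nonzero homogeneous element of `I`
  obtain ⟨e, f, hf, hfI, hf0⟩ : ∃ (e : ℕ) (f : MvPolynomial (Fin d) k), f ∈ H e ∧ f ∈ I.toIdeal ∧ f ≠ 0 := by
    have hne : I.toIdeal ≠ ⊥ := fun h => hI (HomogeneousIdeal.toIdeal_injective (by simpa using h))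
    obtain ⟨p, hp, hp0⟩ := Submodule.exists_mem_ne_zero_of_ne_bot hne
    obtain ⟨e, he⟩ : ∃ e, homogeneousComponent e p ≠ 0 := by
      by_contra! h
      apply hp0
      rw [← sum_homogeneousComponent p, Finset.sum_eq_zero fun i _ => h i]
    refine ⟨e, _, homogeneousComponent_mem e p, ?_, he⟩
    exact homogeneousComponent_mem_of_mem (I.isHomogeneous) hp e
  have hbound : ∀ n, F I.toIdeal (n + e) + Module.finrank k (H n) ≤ Module.finrank k (H (n + e)) := fun n => by
    have := hfin (n + e)
    have := hfin n
    let μ : H n →ₗ[k] ↥(I.toIdeal.restrictScalars k ⊓ H (n + e)) :=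
      ((LinearMap.mulLeft k f).comp (H n).subtype).codRestrict _ fun p =>
        ⟨I.toIdeal.mul_mem_right _ hfI, by rw [add_comm n e]; exact IsHomogeneous.mul hf p.2⟩
    have hμ : Function.Injective μ := fun a b h => Subtype.ext (mul_left_cancel₀ hf0 (congrArg Subtype.val h))
    have := LinearMap.finrank_le_finrank_of_injective hμ
    have := hF I.toIdeal (n + e)
    omega
  -- the difference of the two free Hilbert functions
  let h : ℕ → ℤ := fun n => (F ⊥ n : ℤ)
  have hh : ∀ n, (Module.finrank k (H n) : ℤ) = h n := fun n => by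
    have := hF ⊥ n
    have h0 : Module.finrank k ↥((⊥ : Ideal (MvPolynomial (Fin d) k)).restrictScalars k ⊓ H n) = 0 := by
      rw [Submodule.restrictScalars_bot, bot_inf_eq, finrank_bot]
    show _ = (F ⊥ n : ℤ)
    omega
  obtain ⟨d, rfl⟩ : ∃ d', d = d' + 1 := ⟨d - 1, by omega⟩
  have hzero : ∀ m : ℕ, DiffZero m (fun _ => (0 : ℤ)) := by
    intro m
    induction m with
    | zero => exact ⟨0, fun _ _ => rfl⟩
    | succ m ih => show DiffZero m _; simpa using ih
  have hdiff : ∀ j : ℕ, DiffZero d (fun n => h (n + j) - h n) := by
    intro j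
    induction j with
    | zero => simpa using hzero d
    | succ j ih =>
      have h1 : DiffZero d (fun n => h (n + 1) - h n) := diffZero_quot (d := d + 1) ⊥
      refine DiffZero.congr (ih.shift.sub ((hzero d).sub h1)) ⟨0, fun n _ => ?_⟩
      simp only [Pi.sub_apply]
      rw [show n + 1 + j = n + (j + 1) by omega]
      ring
  obtain ⟨P, hPd, N, hP⟩ := (diffZero_quot (d := d + 1) I.toIdeal).exists_polynomial
  have heq : ∀ n, (Module.finrank k (H n) : ℚ) - (Module.finrank k ↥(I.toIdeal.restrictScalars k ⊓ H n) : ℚ) = (F I.toIdeal n : ℚ) := fun n => by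
    rw [← hF I.toIdeal n]; push_cast; ring
  rcases d with _ | d
  · obtain ⟨N', hN'⟩ := hdiff e
    refine ⟨0, by simp, max N' N + e, fun n hn => ?_⟩
    rw [heq, Polynomial.eval_zero]
    have h1 := hbound (n - e)
    have h2 : h (n - e + e) - h (n - e) = 0 := hN' (n - e) (by omega)
    rw [Nat.sub_add_cancel (by omega : e ≤ n)] at h1 h2
    have := hh n
    have := hh (n - e)
    have : F I.toIdeal n = 0 := by omega
    rw [this, Nat.cast_zero]
  · obtain ⟨Q, hQd, N', hQ⟩ := (hdiff e).exists_polynomial
    have hgr : Groth.L06.HilbertSamuel.Growth d (F I.toIdeal) := by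
      refine Groth.L06.HilbertSamuel.growth_of_poly (P := Q.comp (Polynomial.X - Polynomial.C (e : ℚ))) ?_ ⟨N' + e, fun n hn => ?_⟩
      · rw [Polynomial.natDegree_comp, Polynomial.natDegree_X_sub_C, mul_one]; exact hQd
      · rw [Polynomial.eval_comp, Polynomial.eval_sub, Polynomial.eval_X, Polynomial.eval_C, ← Nat.cast_sub (by omega : e ≤ n),
          ← hQ (n - e) (by omega), Nat.sub_add_cancel (by omega : e ≤ n)]
        have h1 := hbound (n - e)
        rw [Nat.sub_add_cancel (by omega : e ≤ n)] at h1
        have := hh n
        have := hh (n - e)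
        have : (F I.toIdeal n : ℤ) ≤ h n - h (n - e) := by omega
        exact_mod_cast this
    have hP' : ∀ n, N ≤ n → (F I.toIdeal n : ℚ) = P.eval (n : ℚ) := fun n hn => by
      rw [← hP n hn]; norm_cast
    refine ⟨P, lt_of_le_of_lt Polynomial.degree_le_natDegree ?_, N, fun n hn => (heq n).trans (hP' n hn)⟩
    have := Groth.L06.HilbertSamuel.natDegree_le_of_growth hgr ⟨N, hP'⟩
    exact_mod_cast (show P.natDegree < d + 1 + 1 - 1 by omega)

end Groth.Agent.S9661
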