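import Groth.Statements.S9662
import Groth.Agent.L03.HilbertClass
import Mathlib.RingTheory.GradedAlgebra.Homogeneous.Ideal
import Mathlib.RingTheory.GradedAlgebra.Basic
import Mathlib.RingTheory.Noetherian.Basic
import Mathlib.RingTheory.Adjoin.Basic

set_option autoImplicit false
universe u
open CategoryTheory
open CAlg

namespace Groth.Agent.S9662

/-- Let S be a Noetherian ℕ-graded ring, presented as a graded algebra over a ring A mapping onto S₀,
whose irrelevant ideal S₊ is generated as an ideal by the degree-1 part S₁, and let M be a finitely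
generated graded S-module, graded in nonnegative degrees. (The published statement allows modules
graded in all integer degrees; this row takes modules graded in degrees ≥ 0, which loses nothing for
large n.) Write K'₀(A) for the Grothendieck group of finite A-modules (the free abelian group on the
finite A-modules modulo the relations given by short exact sequences) and [M_n] for the class of the
finite A-module M_n. Then n ↦ [M_n] is a numerical polynomial: there are a_0, …, a_{r-1} in K'₀(A)
with [M_n] = Σ_i C(n, i) · a_i for all large n. (When A → S₀ is bijective K'₀(A) is K'₀(S₀), the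
group of the published statement; in general the classes are taken after restricting scalars along A
→ S₀.) -/
theorem result {A S : Type u} [CommRing A] [CommRing S] [Algebra A S] [IsNoetherianRing S] (𝒜 : ℕ → Submodule A S) [GradedAlgebra 𝒜]
    (h0 : ∀ s ∈ 𝒜 0, s ∈ Set.range (algebraMap A S))
    (h1 : (HomogeneousIdeal.irrelevant 𝒜).toIdeal = Ideal.span (𝒜 1 : Set S))
    (M : Type u) [AddCommGroup M] [Module A M] [Module S M] [IsScalarTower A S M] [Module.Finite S M] (ℳ : ℕ → Submodule A M) [DirectSum.Decomposition ℳ] [SetLike.GradedSMul 𝒜 ℳ] :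
    ∃ (r : ℕ) (a : Fin r → KZero.K0sub (fun X : ModuleCat.{u} A => Module.Finite A X)) (N : ℕ), ∀ n : ℕ, N ≤ n →
      KZero.clSub (fun X : ModuleCat.{u} A => Module.Finite A X) (ModuleCat.of A ↥(ℳ n)) = ∑ i : Fin r, ((n.choose (i : ℕ) : ℕ) : ℤ) • a i := by
  classical
  obtain ⟨s, hs, hspan⟩ := (Submodule.fg_span_iff_fg_span_finset_subset (R := S) (𝒜 1 : Set S)).1
    (IsNoetherian.noetherian _)
  have hspan' : Ideal.span (𝒜 1 : Set S) = Ideal.span (s : Set S) := hspan
  have hS : Algebra.adjoin A (s : Set S) = ⊤ := by
    have key : ∀ n, ∀ z ∈ 𝒜 n, z ∈ Algebra.adjoin A (s : Set S) := by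
      intro n
      induction n with
      | zero => intro z hz; obtain ⟨a, rfl⟩ := h0 z hz; exact Subalgebra.algebraMap_mem _ a
      | succ n ih =>
        intro z hz
        have hmem : z ∈ (HomogeneousIdeal.irrelevant 𝒜).toIdeal := by
          change GradedRing.proj 𝒜 0 z = 0
          rw [GradedRing.proj_apply, DirectSum.decompose_of_mem_ne 𝒜 hz (Nat.succ_ne_zero n)]
        rw [h1, hspan'] at hmem
        obtain ⟨c, -, hc⟩ := Submodule.mem_span_finset.1 hmem
        have hzd : ((DirectSum.decompose 𝒜 z (1 + n) : 𝒜 (1 + n)) : S) = z := by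
          rw [add_comm]; exact DirectSum.decompose_of_mem_same 𝒜 hz
        rw [← hc, DirectSum.decompose_sum, DFinsupp.finsetSum_apply, AddSubmonoidClass.coe_finsetSum, hc] at hzd
        rw [← hzd]
        refine sum_mem fun t ht => ?_
        rw [smul_eq_mul, mul_comm, DirectSum.coe_decompose_mul_add_of_left_mem 𝒜 (hs ht)]
        exact mul_mem (Algebra.subset_adjoin ht) (ih _ (Subtype.prop _))
    refine top_le_iff.1 fun z _ => ?_
    rw [← DirectSum.sum_support_decompose 𝒜 z]
    exact sum_mem fun i _ => key i _ (Subtype.prop _)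
  let e := s.equivFin
  have he : ∀ j, ((e.symm j : {a // a ∈ s}) : S) ∈ 𝒜 1 := fun j => hs (e.symm j).2
  let x : Fin s.card → ∀ n, ℳ n →ₗ[A] ℳ (n + 1) := fun j n =>
    ((LinearMap.lsmul S M ((e.symm j : {a // a ∈ s}) : S)).restrictScalars A).restrict fun z hz => by
      rw [add_comm]; exact SetLike.GradedSMul.smul_mem (he j) hz
  have hcomm : ∀ i j n, (x i (n + 1)).comp (x j n) = (x j (n + 1)).comp (x i n) := fun i j n =>
    LinearMap.ext fun z => Subtype.ext (smul_comm _ _ (z : M))
  let pr : ∀ n, M →ₗ[A] ℳ n := fun n =>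
    DirectSum.component A ℕ (fun i => ℳ i) n ∘ₗ (DirectSum.decomposeLinearEquiv ℳ).toLinearMap
  have hpr : ∀ n (z : M), ((pr n z : ℳ n) : M) = (DirectSum.decompose ℳ z n : M) := fun _ _ => rfl
  have hprx : ∀ j n (z : M), pr (n + 1) (((e.symm j : {a // a ∈ s}) : S) • z) = x j n (pr n z) := by
    intro j n z
    induction z using DirectSum.Decomposition.inductionOn ℳ with
    | zero => simp
    | @homogeneous i w =>
      refine Subtype.ext ?_
      have hm : ((e.symm j : {a // a ∈ s}) : S) • (w : M) ∈ ℳ (i + 1) := by
        rw [add_comm]; exact SetLike.GradedSMul.smul_mem (he j) w.2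
      show _ = ((e.symm j : {a // a ∈ s}) : S) • ((pr n w : ℳ n) : M)
      rw [hpr, hpr]
      rcases eq_or_ne i n with rfl | hne
      · rw [DirectSum.decompose_of_mem_same ℳ hm, DirectSum.decompose_of_mem_same ℳ w.2]
      · rw [DirectSum.decompose_of_mem_ne ℳ hm (by omega), DirectSum.decompose_of_mem_ne ℳ w.2 hne, smul_zero]
    | add a b ha hb => rw [smul_add, map_add, map_add, map_add, ha, hb]
  have hpr0 : ∀ j (z : M), pr 0 (((e.symm j : {a // a ∈ s}) : S) • z) = 0 := by
    intro j z
    induction z using DirectSum.Decomposition.inductionOn ℳ with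
    | zero => simp
    | @homogeneous i w =>
      refine Subtype.ext ?_
      have hm : ((e.symm j : {a // a ∈ s}) : S) • (w : M) ∈ ℳ (1 + i) := SetLike.GradedSMul.smul_mem (he j) w.2
      rw [hpr, DirectSum.decompose_of_mem_ne ℳ hm (by omega)]; rfl
    | add a b ha hb => rw [smul_add, map_add, ha, hb, add_zero]
  let Ψ : Groth.L03.HilbertClass.Stab s.card (fun n => ℳ n) x → Submodule S M := fun N =>
    Submodule.span S (⋃ n, (fun z : ℳ n => (z : M)) '' (N.1 n : Set (ℳ n)))
  have hrec : ∀ N n (z : M), z ∈ Ψ N → pr n z ∈ N.1 n := by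
    intro N n z hz
    have hmul : ∀ (r : S) (z : M), (∀ n, pr n z ∈ N.1 n) → ∀ n, pr n (r • z) ∈ N.1 n := by
      intro r
      have hr : r ∈ Algebra.adjoin A (s : Set S) := hS ▸ Algebra.mem_top
      induction hr using Algebra.adjoin_induction with
      | mem r hr =>
        intro z hz n
        have hr' : r = ((e.symm (e ⟨r, hr⟩) : {a // a ∈ s}) : S) := by simp
        rw [hr']
        cases n with
        | zero => rw [hpr0]; exact zero_mem _
        | succ n => rw [hprx]; exact N.2 _ n ⟨_, hz n, rfl⟩
      | algebraMap a => intro z hz n; rw [algebraMap_smul, map_smul]; exact Submodule.smul_mem _ _ (hz n)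
      | add a b _ _ ha hb => intro z hz n; rw [add_smul, map_add]; exact add_mem (ha z hz n) (hb z hz n)
      | mul a b _ _ ha hb => intro z hz n; rw [mul_smul]; exact ha _ (hb z hz) n
    induction hz using Submodule.span_induction generalizing n with
    | mem z hz =>
      simp only [Set.mem_iUnion, Set.mem_image] at hz
      obtain ⟨i, w, hw, rfl⟩ := hz
      rcases eq_or_ne i n with rfl | hne
      · rw [show pr i (w : M) = w from Subtype.ext (DirectSum.decompose_of_mem_same ℳ w.2)]; exact hw
      · rw [show pr n (w : M) = 0 from Subtype.ext (DirectSum.decompose_of_mem_ne ℳ w.2 hne)]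
        exact zero_mem _
    | zero => rw [map_zero]; exact zero_mem _
    | add a b _ _ ha hb => rw [map_add]; exact add_mem (ha n) (hb n)
    | smul r a _ ha => exact hmul r a ha n
  have hle : ∀ N N', Ψ N ≤ Ψ N' → N ≤ N' := fun N N' h n z hz => by
    have h1 := hrec N' n (z : M) (h (Submodule.subset_span (Set.mem_iUnion.2 ⟨n, z, hz, rfl⟩)))
    rwa [show pr n (z : M) = z from Subtype.ext (DirectSum.decompose_of_mem_same ℳ z.2)] at h1
  have hΨ : StrictMono Ψ := Monotone.strictMono_of_injective
    (fun N N' h => Submodule.span_mono (Set.iUnion_mono fun n => Set.image_mono (h n)))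
    (fun N N' h => le_antisymm (hle _ _ h.le) (hle _ _ h.ge))
  haveI : IsNoetherian S M := isNoetherian_of_isNoetherianRing_of_finite S M
  have hwf : WellFoundedGT (Groth.L03.HilbertClass.Stab s.card (fun n => ℳ n) x) :=
    ⟨Subrelation.wf (fun {a b} h => hΨ h) (InvImage.wf Ψ wellFounded_gt)⟩
  have hnoeth : ∀ n, IsNoetherian A (ℳ n) := fun n => by
    let U : Submodule A (ℳ n) → Groth.L03.HilbertClass.Stab s.card (fun n => ℳ n) x := fun P =>
      ⟨fun m => if h : m = n then (h ▸ P : Submodule A (ℳ m)) else if m < n then ⊥ else ⊤, fun j m => by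
        dsimp only
        rcases lt_trichotomy m n with hm | rfl | hm
        · rw [dif_neg hm.ne, if_pos hm, Submodule.map_bot]; exact bot_le
        · rw [dif_pos rfl, dif_neg (Nat.succ_ne_self _), if_neg (by omega)]; exact le_top
        · rw [dif_neg (show ¬ m + 1 = n by omega), if_neg (show ¬ m + 1 < n by omega)]; exact le_top⟩
    have hUn : ∀ P, (U P).1 n = P := fun P => dif_pos rfl
    have hUm : StrictMono U := Monotone.strictMono_of_injective
      (fun P P' h m => by
        show dite _ _ _ ≤ dite _ _ _
        split_ifs with h1 h2 <;> first | exact le_rfl | (subst h1; exact h))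
      (fun P P' h => by rw [← hUn P, ← hUn P', h])
    haveI := hwf
    rw [isNoetherian_iff]
    exact Subrelation.wf (fun {a b} h => hUm h) (InvImage.wf U wellFounded_gt)
  obtain ⟨c, N, hc⟩ := (Groth.L03.HilbertClass.diffZero_cl s.card (fun n => ℳ n) x hcomm hwf hnoeth).exists_binomial
  refine ⟨s.card, fun i => c i, N, fun n hn => ?_⟩
  rw [hc n hn, Finset.sum_range]

end Groth.Agent.S9662
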