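import Groth.Statements.S9663


set_option autoImplicit false
universe u
open CAlg

namespace Groth.Agent.S9663

/-- Let R be a ring and f_i, i in a finite index set, elements of R (no condition on the ideal they
generate). Suppose given for each i an R-module M_i on which f_i acts invertibly, for each pair (i,
j) an R-linear isomorphism ψ_ij : (M_i)_{f_j} → (M_j)_{f_i}, and suppose the cocycle condition ψ_jk
∘ ψ_ij = ψ_ik holds as maps (M_i)_{f_j f_k} → (M_k)_{f_i f_j} for all triples (i, j, k). All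
localizations are given through their universal properties: (M_i)_{f_j} with its map g from M_i;
(M_i)_{f_j f_k} with its map t from M_i and the compatible maps u from (M_i)_{f_j} and v from
(M_i)_{f_k}; and the three localized isomorphisms Ψ₁ (ψ_ij on (M_i)_{f_j f_k}), Ψ₂ (ψ_jk on
(M_j)_{f_i f_k}) and Ψ₃ (ψ_ik on (M_i)_{f_j f_k}) are given as maps compatible with the ψ's. Let M ⊆
Π_i M_i be the submodule of families (m_i) with m_i/1 = ψ_ji(m_j/1) in (M_i)_{f_j} for all i, j.
Then for each i the projection M → M_i exhibits M_i as the localization of M at f_i. -/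
theorem result {R : Type u} [CommRing R] {ι : Type u} [Finite ι] (f : ι → R)
    (Mi : ι → Type u) [∀ i, AddCommGroup (Mi i)] [∀ i, Module R (Mi i)]
    (hMi : ∀ i, IsUnit (algebraMap R (Module.End R (Mi i)) (f i)))
    (Mij : ι → ι → Type u) [∀ i j, AddCommGroup (Mij i j)] [∀ i j, Module R (Mij i j)]
    (g : ∀ i j, Mi i →ₗ[R] Mij i j) [∀ i j, IsLocalizedModule (Submonoid.powers (f j)) (g i j)]
    (ψ : ∀ i j, Mij i j ≃ₗ[R] Mij j i)
    (T : ι → ι → ι → Type u) [∀ i j k, AddCommGroup (T i j k)] [∀ i j k, Module R (T i j k)]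
    (t : ∀ i j k, Mi i →ₗ[R] T i j k) [∀ i j k, IsLocalizedModule (Submonoid.powers (f j * f k)) (t i j k)]
    (u : ∀ i j k, Mij i j →ₗ[R] T i j k) (hu : ∀ i j k, u i j k ∘ₗ g i j = t i j k)
    (v : ∀ i j k, Mij i k →ₗ[R] T i j k) (hv : ∀ i j k, v i j k ∘ₗ g i k = t i j k)
    (Ψ₁ : ∀ i j k, T i j k →ₗ[R] T j i k) (hΨ₁ : ∀ i j k, Ψ₁ i j k ∘ₗ u i j k = u j i k ∘ₗ (ψ i j).toLinearMap)
    (Ψ₂ : ∀ i j k, T j i k →ₗ[R] T k i j) (hΨ₂ : ∀ i j k, Ψ₂ i j k ∘ₗ v j i k = v k i j ∘ₗ (ψ j k).toLinearMap)
    (Ψ₃ : ∀ i j k, T i j k →ₗ[R] T k i j) (hΨ₃ : ∀ i j k, Ψ₃ i j k ∘ₗ v i j k = u k i j ∘ₗ (ψ i k).toLinearMap)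
    (hcoc : ∀ i j k, Ψ₂ i j k ∘ₗ Ψ₁ i j k = Ψ₃ i j k)
    (M : Submodule R (∀ i, Mi i)) (hM : ∀ m : ∀ i, Mi i, m ∈ M ↔ ∀ i j, g i j (m i) = ψ j i (g j i (m j))) (i : ι) :
    IsLocalizedModule (Submonoid.powers (f i)) ((LinearMap.proj i).comp M.subtype : ↥M →ₗ[R] Mi i) := by
  classical
  have := Fintype.ofFinite ι
  -- powers of units cancel
  have hinv : ∀ (i : ι) (n : ℕ) (x : Mi i), f i ^ n • x = 0 → x = 0 := fun i n x hx => by
    have hu := (hMi i).pow n
    rw [← map_pow] at hu
    refine ((Module.End.isUnit_iff _).1 hu).injective ?_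
    rw [map_zero, Module.algebraMap_end_apply, hx]
  have heq : ∀ (i j : ι) (x y : Mi i), g i j x = g i j y → ∃ n : ℕ, f j ^ n • x = f j ^ n • y := by
    intro i j x y hxy
    obtain ⟨⟨c, n, rfl⟩, hc⟩ := (IsLocalizedModule.eq_iff_exists (Submonoid.powers (f j)) (g i j)).1 hxy
    exact ⟨n, by simpa [Submonoid.smul_def] using hc⟩
  constructor
  · rintro ⟨c, n, rfl⟩
    rw [map_pow]
    exact (hMi i).pow n
  · intro m
    -- a uniform denominator
    have hden : ∀ j, ∃ n : ℕ, ∀ k, n ≤ k → ∃ y : Mi j, g j i y = f i ^ k • ψ i j (g i j m) := by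
      intro j
      obtain ⟨⟨y, c, n, rfl⟩, hy⟩ := IsLocalizedModule.surj (Submonoid.powers (f i)) (g j i) (ψ i j (g i j m))
      refine ⟨n, fun k hk => ⟨f i ^ (k - n) • y, ?_⟩⟩
      rw [map_smul, ← hy, Submonoid.smul_def, smul_smul, ← pow_add, Nat.sub_add_cancel hk]
    choose n hn using hden
    choose y hy using fun j => hn j _ (Finset.le_sup (Finset.mem_univ j))
    set N := Finset.univ.sup n with hN
    -- vanishing in the triple overlap means killed by a power of `f i`
    have hker : ∀ j k, ∃ p : ℕ, f i ^ p • (g k j (y k) - ψ j k (g j k (y j))) = 0 := by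
      intro j k
      have hA₁ : u i j k (g i j (f i ^ N • m)) = t i j k (f i ^ N • m) := LinearMap.congr_fun (hu i j k) _
      have hA₂ : v i j k (g i k (f i ^ N • m)) = t i j k (f i ^ N • m) := LinearMap.congr_fun (hv i j k) _
      have h1 : Ψ₁ i j k (t i j k (f i ^ N • m)) = v j i k (g j k (y j)) := by
        rw [← hA₁, show Ψ₁ i j k (u i j k _) = u j i k (ψ i j _) from LinearMap.congr_fun (hΨ₁ i j k) _,
          map_smul (g i j), map_smul (ψ i j), ← hy j,
          show u j i k (g j i (y j)) = t j i k (y j) from LinearMap.congr_fun (hu j i k) _,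
          show v j i k (g j k (y j)) = t j i k (y j) from LinearMap.congr_fun (hv j i k) _]
      have h2 : Ψ₂ i j k (Ψ₁ i j k (t i j k (f i ^ N • m))) = v k i j (ψ j k (g j k (y j))) := by
        rw [h1]
        exact LinearMap.congr_fun (hΨ₂ i j k) _
      have h3 : Ψ₃ i j k (t i j k (f i ^ N • m)) = v k i j (g k j (y k)) := by
        rw [← hA₂, show Ψ₃ i j k (v i j k _) = u k i j (ψ i k _) from LinearMap.congr_fun (hΨ₃ i j k) _,
          map_smul (g i k), map_smul (ψ i k), ← hy k,
          show u k i j (g k i (y k)) = t k i j (y k) from LinearMap.congr_fun (hu k i j) _,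
          show v k i j (g k j (y k)) = t k i j (y k) from LinearMap.congr_fun (hv k i j) _]
      have h4 : v k i j (g k j (y k) - ψ j k (g j k (y j))) = 0 := by
        rw [map_sub, ← h3, ← h2, ← hcoc i j k, LinearMap.comp_apply, sub_self]
      generalize g k j (y k) - ψ j k (g j k (y j)) = z at h4 ⊢
      obtain ⟨⟨a, c, q, rfl⟩, ha⟩ := IsLocalizedModule.surj (Submonoid.powers (f j)) (g k j) z
      simp only [Submonoid.smul_def] at ha
      have h5 : t k i j a = 0 := by
        rw [show t k i j a = v k i j (g k j a) from (LinearMap.congr_fun (hv k i j) _).symm, ← ha,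
          map_smul, h4, smul_zero]
      obtain ⟨⟨c, p, rfl⟩, hp⟩ := (IsLocalizedModule.eq_zero_iff (Submonoid.powers (f i * f j)) (t k i j)).1 h5
      simp only [Submonoid.smul_def] at hp
      refine ⟨p, ?_⟩
      have h6 : f j ^ (p + q) • (f i ^ p • z) = 0 := by
        have := congrArg (g k j) hp
        rw [map_smul, map_zero, ← ha, smul_smul] at this
        rw [smul_smul, ← this]
        congr 1
        ring
      have hu' := IsLocalizedModule.map_units (S := Submonoid.powers (f j)) (g k j) ⟨f j ^ (p + q), p + q, rfl⟩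
      refine ((Module.End.isUnit_iff _).1 hu').injective ?_
      rw [map_zero, Module.algebraMap_end_apply]
      exact h6
    choose p hp using hker
    set P := Finset.univ.sup fun jk : ι × ι => p jk.1 jk.2 with hP
    have hP' : ∀ j k, g k j (f i ^ P • y k) = ψ j k (g j k (f i ^ P • y j)) := by
      intro j k
      have hle : p j k ≤ P := Finset.le_sup (f := fun jk : ι × ι => p jk.1 jk.2) (Finset.mem_univ (j, k))
      rw [← sub_eq_zero]
      simp only [map_smul, ← smul_sub]
      rw [← Nat.sub_add_cancel hle, pow_add, mul_smul, hp, smul_zero]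
    have hψinj := (ψ i i).injective
    have hyi : y i = f i ^ N • m := by
      have h1 : g i i (y i) = ψ i i (g i i (y i)) := by
        have h := hP' i i
        simp only [map_smul] at h
        have hu' := IsLocalizedModule.map_units (S := Submonoid.powers (f i)) (g i i) ⟨f i ^ P, P, rfl⟩
        refine ((Module.End.isUnit_iff _).1 hu').injective ?_
        rw [Module.algebraMap_end_apply, Module.algebraMap_end_apply]
        exact h
      have h2 : g i i (y i) = g i i (f i ^ N • m) := by
        apply hψinj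
        rw [← h1, hy i, map_smul, map_smul]
      obtain ⟨e, he⟩ := heq i i _ _ h2
      rw [← sub_eq_zero]
      exact hinv i e _ (by rw [smul_sub, he, sub_self])
    refine ⟨⟨⟨fun j => f i ^ P • y j, (hM _).2 fun a b => hP' b a⟩, ⟨f i ^ (P + N), P + N, rfl⟩⟩, ?_⟩
    show f i ^ (P + N) • m = f i ^ P • y i
    rw [hyi, smul_smul, pow_add]
  · intro x y hxy
    have hd : (x - y).1 i = 0 := by
      show x.1 i - y.1 i = 0
      exact sub_eq_zero.2 hxy
    have hmem := (hM (x - y).1).1 (x - y).2
    have hkill : ∀ j, ∃ n : ℕ, f i ^ n • (x - y).1 j = 0 := fun j => by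
      have h0 : g j i ((x - y).1 j) = g j i 0 := by
        rw [hmem j i, hd]
        simp
      obtain ⟨n, hn⟩ := heq j i _ _ h0
      exact ⟨n, by simpa using hn⟩
    choose n hn using hkill
    refine ⟨⟨f i ^ Finset.univ.sup n, _, rfl⟩, ?_⟩
    rw [Submonoid.smul_def, Submonoid.smul_def, ← sub_eq_zero, ← smul_sub]
    refine Subtype.ext (funext fun j => ?_)
    show f i ^ Finset.univ.sup n • (x - y).1 j = 0
    rw [← Nat.sub_add_cancel (Finset.le_sup (Finset.mem_univ j)), pow_add, mul_smul, hn, smul_zero]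

end Groth.Agent.S9663
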