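import Groth.Statements.S9667
import Groth.Agent.L03.FibreAss
-- import your own Groth.Agent.* helpers here

set_option autoImplicit false
universe u
open CAlg

namespace Groth.Agent.S9667

open TensorProduct in
/-- Part (3): (B = B_fin): let R → S be a ring map with S Noetherian, N an S-module, M an R-module and q
a prime of S; an associated prime of a module is a prime ideal equal to the annihilator of some
element. If q is an associated prime of the S-module N ⊗_R M, then there is a finitely generated
R-submodule M' ⊆ M such that q is an associated prime of the S-module N ⊗_R M'. -/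
theorem result {R S : Type u} [CommRing R] [CommRing S] [Algebra R S] (N : Type u) [AddCommGroup N] [Module S N] [Module R N] [IsScalarTower R S N] [IsNoetherianRing S]
    (M : Type u) [AddCommGroup M] [Module R M] (q : Ideal S) [q.IsPrime] (h : q ∈ FlatCA.ass S (N ⊗[R] M)) :
    ∃ M' : Submodule R M, M'.FG ∧ q ∈ FlatCA.ass S (N ⊗[R] ↥M') := by
  classical
  obtain ⟨hqp, z, hz⟩ := h
  obtain ⟨G, hG⟩ := IsNoetherian.noetherian q
  let ι := fun (P : Submodule R M) => TensorProduct.AlgebraTensorModule.lTensor S N P.subtype
  have hz0 : ∃ P : Submodule R M, P.FG ∧ ∃ t, ι P t = z := by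
    obtain ⟨P, hP, t, ht⟩ := TensorProduct.exists_of_fg (TensorProduct.comm R N M z)
    refine ⟨P, hP, TensorProduct.comm R _ _ t, (TensorProduct.comm R N M).injective ?_⟩
    rw [← ht]
    exact LinearMap.congr_fun (TensorProduct.ext' fun a b => rfl :
      (TensorProduct.comm R N M).toLinearMap ∘ₗ ((ι P).restrictScalars R) ∘ₗ (TensorProduct.comm R ↥P N).toLinearMap =
        LinearMap.rTensor N P.subtype) t
  have key : ∀ T : Finset S, (∀ g ∈ T, g • z = 0) → ∃ P : Submodule R M, P.FG ∧ ∃ t, ι P t = z ∧ ∀ g ∈ T, g • t = 0 := by
    intro T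
    induction T using Finset.induction with
    | empty => exact fun _ => let ⟨P, hP, t, ht⟩ := hz0; ⟨P, hP, t, ht, by simp⟩
    | insert a T _ ih =>
      intro hT
      obtain ⟨P, hP, t, ht, hTt⟩ := ih fun g hg => hT g (Finset.mem_insert_of_mem hg)
      have h0 : LinearMap.rTensor N P.subtype (TensorProduct.comm R N ↥P (a • t)) = 0 := by
        have h1 : ι P (a • t) = 0 := by rw [map_smul, ht, hT a (Finset.mem_insert_self a T)]
        have h2 := congrArg (TensorProduct.comm R N M) h1
        rw [map_zero] at h2
        refine Eq.trans ?_ h2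
        exact LinearMap.congr_fun (TensorProduct.ext' fun a b => rfl :
          LinearMap.rTensor N P.subtype ∘ₗ (TensorProduct.comm R N ↥P).toLinearMap =
            (TensorProduct.comm R N M).toLinearMap ∘ₗ (ι P).restrictScalars R) (a • t)
      obtain ⟨P', hPP', hP', h'⟩ := TensorProduct.eq_zero_of_fg_of_subtype_eq_zero hP h0
      let inc := TensorProduct.AlgebraTensorModule.lTensor S N (Submodule.inclusion hPP')
      have h3 : inc (a • t) = 0 := by
        refine (TensorProduct.comm R N ↥P').injective ?_
        rw [map_zero, ← h']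
        exact LinearMap.congr_fun (TensorProduct.ext' fun a b => rfl :
          (TensorProduct.comm R N ↥P').toLinearMap ∘ₗ inc.restrictScalars R =
            LinearMap.rTensor N (Submodule.inclusion hPP') ∘ₗ (TensorProduct.comm R N ↥P).toLinearMap) (a • t)
      refine ⟨P', hP', inc t, ?_, fun g hg => ?_⟩
      · rw [← ht]
        exact LinearMap.congr_fun (TensorProduct.ext' fun a b => rfl :
          (ι P').restrictScalars R ∘ₗ inc.restrictScalars R = (ι P).restrictScalars R) t
      · rcases Finset.mem_insert.1 hg with rfl | hg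
        · rw [← map_smul, h3]
        · rw [← map_smul, hTt g hg, map_zero]
  obtain ⟨P, hP, t, ht, hGt⟩ := key G fun g hg =>
    Groth.L03.WeakAss.mem_annE.1 (hz.le (hG ▸ Submodule.subset_span hg))
  refine ⟨P, hP, hqp, t, le_antisymm ?_ fun b hb => hz.ge (Groth.L03.WeakAss.mem_annE.2 ?_)⟩
  · rw [← hG]
    exact Submodule.span_le.2 fun g hg => Groth.L03.WeakAss.mem_annE.2 (hGt g hg)
  · rw [← ht, ← map_smul, Groth.L03.WeakAss.mem_annE.1 hb, map_zero]

end Groth.Agent.S9667
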