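import Groth.Statements.S9668
import Groth.Agent.L03.FibreAss
-- import your own Groth.Agent.* helpers here

set_option autoImplicit false
universe u
open CAlg

namespace Groth.Agent.S9668

open TensorProduct in
/-- Part (4): (B = B_fin): let R → S be a ring map, N an S-module flat over R, M an R-module and q a
prime of S; an associated prime of a module is a prime ideal equal to the annihilator of some
element. If q is an associated prime of the S-module N ⊗_R M, then there is a finitely generated
R-submodule M' ⊆ M such that q is an associated prime of the S-module N ⊗_R M'. -/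
theorem result {R S : Type u} [CommRing R] [CommRing S] [Algebra R S] (N : Type u) [AddCommGroup N] [Module S N] [Module R N] [IsScalarTower R S N] [Module.Flat R N]
    (M : Type u) [AddCommGroup M] [Module R M] (q : Ideal S) [q.IsPrime] (h : q ∈ FlatCA.ass S (N ⊗[R] M)) :
    ∃ M' : Submodule R M, M'.FG ∧ q ∈ FlatCA.ass S (N ⊗[R] ↥M') := by
  obtain ⟨hqp, z, hz⟩ := h
  obtain ⟨P, hP, t, ht⟩ := TensorProduct.exists_of_fg (TensorProduct.comm R N M z)
  let ι := TensorProduct.AlgebraTensorModule.lTensor S N P.subtype
  have hι : Function.Injective ι := Module.Flat.lTensor_preserves_injective_linearMap P.subtype P.subtype_injective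
  have htz : ι (TensorProduct.comm R _ _ t) = z := by
    refine (TensorProduct.comm R N M).injective ?_
    rw [← ht]
    exact LinearMap.congr_fun (TensorProduct.ext' fun a b => rfl :
      (TensorProduct.comm R N M).toLinearMap ∘ₗ (ι.restrictScalars R) ∘ₗ (TensorProduct.comm R ↥P N).toLinearMap =
        LinearMap.rTensor N P.subtype) t
  exact ⟨P, hP, hqp, TensorProduct.comm R _ _ t, hz.trans (by
    rw [← htz]; exact Groth.L03.WeakAss.annE_map_of_injective ι hι _)⟩

end Groth.Agent.S9668
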