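import Groth.Statements.S9670
import Groth.Agent.L03.FibreAss
-- import your own Groth.Agent.* helpers here

set_option autoImplicit false
universe u
open CAlg

namespace Groth.Agent.S9670

open TensorProduct in
/-- Part (5): (B_fin ⊆ A_fin): let R → S be a ring map with R Noetherian, N an S-module flat over R, M a
finite R-module, q a prime of S and p the prime of R below q; an associated prime of a module is a
prime ideal equal to the annihilator of some element. If q is an associated prime of the S-module N
⊗_R M, then q is an associated prime of the S-module N/pN. -/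
theorem result {R S : Type u} [CommRing R] [CommRing S] [Algebra R S] (N : Type u) [AddCommGroup N] [Module S N] [Module R N] [IsScalarTower R S N] [IsNoetherianRing R] [Module.Flat R N]
    (M : Type u) [AddCommGroup M] [Module R M] [Module.Finite R M] (p : Ideal R) [p.IsPrime] (q : Ideal S) [q.IsPrime] (hq : q.comap (algebraMap R S) = p)
    (h : q ∈ FlatCA.ass S (N ⊗[R] M)) :
    q ∈ FlatCA.ass S (N ⧸ (p.map (algebraMap R S)) • (⊤ : Submodule S N)) := by
  rw [Groth.L03.FibreAss.ass_quotient_eq]
  refine IsNoetherianRing.induction_on_isQuotientEquivQuotientPrime (A := R) (M := M) inferInstance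
    (motive := fun X [AddCommGroup X] [Module R X] [Module.Finite R X] =>
      q ∈ FlatCA.ass S (N ⊗[R] X) → q ∈ FlatCA.ass S (N ⊗[R] (R ⧸ p))) ?_ ?_ ?_ h
  · intro X _ _ _ _ hX
    obtain ⟨hqp, z, hz⟩ := hX
    exact absurd (Ideal.eq_top_iff_one _ |>.2 (hz.ge (Groth.L03.WeakAss.mem_annE.2
      (by rw [Subsingleton.elim z 0, smul_zero])))) hqp.ne_top
  · intro X _ _ _ pp e hX
    have h1 : q ∈ FlatCA.ass S (N ⊗[R] (R ⧸ pp.1)) :=
      Groth.L03.WeakAss.ass_subset_of_injective (TensorProduct.AlgebraTensorModule.lTensor S N e.toLinearMap)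
        (Module.Flat.lTensor_preserves_injective_linearMap e.toLinearMap e.injective) hX
    haveI := pp.2
    have h2 := h1
    rw [Groth.L03.FibreAss.ass_tensor_eq_ass_fibre_of_flat] at h2
    obtain rfl : pp.1 = p := (Groth.L03.FibreAss.comap_eq_of_mem_ass_fibre N pp.1 h2).symm.trans hq
    exact h1
  · intro X₁ _ _ _ X₂ _ _ _ X₃ _ _ _ f g hf hg hfg ih₁ ih₃ hX
    rcases Groth.L03.FibreAss.mem_ass_or (TensorProduct.AlgebraTensorModule.lTensor S N f)
      (TensorProduct.AlgebraTensorModule.lTensor S N g)
      (Module.Flat.lTensor_preserves_injective_linearMap f hf) (lTensor_exact N hfg hg) hX with h | h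
    · exact ih₁ h
    · exact ih₃ h

end Groth.Agent.S9670
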