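import Groth.Statements.S9671
import Mathlib.RingTheory.GradedAlgebra.HomogeneousLocalization
import Mathlib.RingTheory.GradedAlgebra.Basic
import Mathlib.RingTheory.FiniteType
import Mathlib.RingTheory.Adjoin.Basic
import Mathlib.RingTheory.Localization.Away.Basic
import Mathlib.Algebra.Polynomial.AlgebraMap

set_option autoImplicit false
universe u
open CAlg


namespace Groth.Agent.S9671
open Polynomial

variable {R P : Type u} [CommRing R] [CommRing P] [Algebra R P]

/-- elements concentrated in exponent `d` -/
def deg (S : Subalgebra R P[X]) (d : ℕ) : Submodule R S where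
  carrier := {z | ∀ m : ℕ, m ≠ d → (z : P[X]).coeff m = 0}
  zero_mem' := fun m _ => by simp
  add_mem' {a b} ha hb := fun m hm => by simp [ha m hm, hb m hm]
  smul_mem' r a ha := fun m hm => by simp [ha m hm]

instance (S : Subalgebra R P[X]) : SetLike.GradedMonoid (deg S) where
  one_mem m hm := by simp [coeff_one, hm]
  mul_mem {i j a b} ha hb m hm := by
    rw [Subalgebra.coe_mul, coeff_mul]
    refine Finset.sum_eq_zero fun p hp => ?_
    rw [Finset.mem_antidiagonal] at hp
    by_cases h : p.1 = i
    · rw [hb p.2 (by omega), mul_zero]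
    · rw [ha p.1 h, zero_mul]

theorem iSupIndep_deg (S : Subalgebra R P[X]) : iSupIndep (deg S) := by
  refine fun i => disjoint_iff.2 (eq_bot_iff.2 fun z hz => ?_)
  obtain ⟨hz, hz'⟩ := Submodule.mem_inf.1 hz
  rw [Submodule.mem_bot]
  have key : ∀ w ∈ ⨆ j : {j : ℕ // j ≠ i}, deg S j, (w : P[X]).coeff i = 0 := fun w hw => by
    induction hw using Submodule.iSup_induction' with
    | mem j a ha => exact ha i (Ne.symm j.2)
    | zero => simp
    | add a b _ _ ha hb => simp [ha, hb]
  have : (z : P[X]).coeff i = 0 := key z (by rwa [iSup_subtype'] at hz')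
  refine Subtype.ext (Polynomial.ext fun m => ?_)
  rw [ZeroMemClass.coe_zero, coeff_zero]
  rcases eq_or_ne m i with rfl | hm
  · exact this
  · exact hz m hm

theorem iSup_deg_eq_top (S : Subalgebra R P[X]) (G : Set S) (hG : ∀ z ∈ G, ∃ i, z ∈ deg S i)
    (hadj : Algebra.adjoin R G = ⊤) : ⨆ i, deg S i = ⊤ := by
  refine eq_top_iff.2 fun z _ => ?_
  have hz : z ∈ Algebra.adjoin R G := hadj ▸ Algebra.mem_top
  induction hz using Algebra.adjoin_induction with
  | mem z hz => obtain ⟨i, hi⟩ := hG z hz; exact Submodule.mem_iSup_of_mem i hi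
  | algebraMap r =>
    rw [Algebra.algebraMap_eq_smul_one]
    exact Submodule.smul_mem _ _ (Submodule.mem_iSup_of_mem 0 SetLike.GradedOne.one_mem)
  | add a b _ _ ha hb => exact add_mem (ha trivial) (hb trivial)
  | mul a b _ _ ha hb =>
    have h1 : ∀ i, ∀ x ∈ deg S i, ∀ w ∈ ⨆ j, deg S j, x * w ∈ ⨆ j, deg S j := fun i x hx w hw => by
      induction hw using Submodule.iSup_induction' with
      | mem j b hb => exact Submodule.mem_iSup_of_mem (i + j) (SetLike.GradedMul.mul_mem hx hb)
      | zero => simp
      | add x y _ _ hx hy => rw [mul_add]; exact add_mem hx hy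
    have h2 : ∀ u ∈ ⨆ j, deg S j, ∀ w ∈ ⨆ j, deg S j, u * w ∈ ⨆ j, deg S j := fun u hu => by
      induction hu using Submodule.iSup_induction' with
      | mem i x hx => exact h1 i x hx
      | zero => simp
      | add x y _ _ hx hy => intro w hw; rw [add_mul]; exact add_mem (hx w hw) (hy w hw)
    exact h2 a (ha trivial) b (hb trivial)

end Groth.Agent.S9671

open Polynomial

namespace Groth.Agent.S9671

/-- Let R be a ring and R' an R-algebra of finite type. Then there are an ℕ-graded R-algebra S such that
R → S₀ is bijective and S is generated as an R-algebra by a finite set of degree-1 elements, an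
element f ∈ S₁, and a ring isomorphism e between the degree-zero part S_(f) of the localization S_f
and R' which matches r/1 with the image of r in R' for every r ∈ R (so R' is identified with S_(f)
as an R-algebra). The published statement also produces, from a finite R'-module, a finite graded
S-module whose degree-zero localization at f recovers it; that half is not part of this row. -/
theorem result (R R' : Type u) [CommRing R] [CommRing R'] [Algebra R R'] [Algebra.FiniteType R R'] :
    ∃ (S : Type u) (_ : CommRing S) (_ : Algebra R S) (𝒜 : ℕ → Submodule R S) (_ : GradedAlgebra 𝒜) (f : S) (_ : f ∈ 𝒜 1) (s : Finset S)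
      (e : HomogeneousLocalization.Away 𝒜 f ≃+* R'),
      Function.Injective (algebraMap R S) ∧ (∀ x ∈ 𝒜 0, x ∈ Set.range (algebraMap R S)) ∧
      (↑s ⊆ (𝒜 1 : Set S)) ∧ Algebra.adjoin R (s : Set S) = ⊤ ∧
      ∀ r : R, (e.symm (algebraMap R R' r)).val = algebraMap S (Localization.Away f) (algebraMap R S r) := by
  classical
  obtain ⟨t, ht⟩ := (inferInstance : Algebra.FiniteType R R').out
  let g : Option {x // x ∈ t} → (R' × R)[X] := fun o => monomial 1 (o.elim 1 (fun x => (x : R')), 0)
  let S := Algebra.adjoin R (Set.range g)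
  let gS : Option {x // x ∈ t} → S := fun o => ⟨g o, Algebra.subset_adjoin ⟨o, rfl⟩⟩
  let f : S := gS none
  have hmem : ∀ o, gS o ∈ deg S 1 := fun o m hm => by
    show (monomial 1 _ : (R' × R)[X]).coeff m = 0
    rw [coeff_monomial, if_neg (Ne.symm hm)]
  have hadj : Algebra.adjoin R (↑(Finset.univ.image gS) : Set S) = ⊤ := by
    rw [← Algebra.adjoin_adjoin_coe_preimage (R := R) (s := Set.range g)]
    refine congrArg (Algebra.adjoin R) (Set.ext fun z => ?_)
    simp only [Finset.coe_image, Finset.coe_univ, Set.image_univ, Set.mem_preimage, Set.mem_range]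
    exact ⟨fun ⟨o, ho⟩ => ⟨o, congrArg Subtype.val ho⟩, fun ⟨o, ho⟩ => ⟨o, Subtype.ext ho⟩⟩
  have htop : ⨆ i, deg S i = ⊤ := iSup_deg_eq_top S _ (fun z hz => by
    obtain ⟨o, -, rfl⟩ := Finset.mem_image.1 hz; exact ⟨1, hmem o⟩) hadj
  letI : GradedAlgebra (deg S) := DirectSum.IsInternal.gradedAlgebra
    (DirectSum.isInternal_submodule_of_iSupIndep_of_iSup_eq_top (iSupIndep_deg S) htop)
  have hc0 : ∀ z : S, ∃ r : R, (z : (R' × R)[X]).coeff 0 = algebraMap R (R' × R) r := fun z => by
    obtain ⟨z, hz⟩ := z
    induction hz using Algebra.adjoin_induction with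
    | mem z hz =>
      obtain ⟨o, rfl⟩ := hz
      exact ⟨0, by rw [map_zero]; show (monomial 1 _ : (R' × R)[X]).coeff 0 = 0; simp⟩
    | algebraMap r => exact ⟨r, by simp [Polynomial.algebraMap_apply]⟩
    | add a b _ _ ha hb =>
      obtain ⟨r, hr⟩ := ha; obtain ⟨r', hr'⟩ := hb
      exact ⟨r + r', by simp [hr, hr']⟩
    | mul a b _ _ ha hb =>
      obtain ⟨r, hr⟩ := ha; obtain ⟨r', hr'⟩ := hb
      exact ⟨r * r', by simp [hr, hr']⟩
  let θ : S →ₐ[R] R' :=
    ((AlgHom.fst R R' R).comp ((Polynomial.aeval (1 : R' × R)).restrictScalars R)).comp S.val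
  have hθg : ∀ o, θ (gS o) = o.elim 1 (fun x => (x : R')) := fun o => by
    show ((Polynomial.aeval (1 : R' × R)) (monomial 1 (o.elim 1 (fun x => (x : R')), (0 : R)))).1 = _
    simp
  have hf1 : IsUnit (θ f) := by rw [hθg]; exact isUnit_one
  let L : Localization.Away f →+* R' := IsLocalization.Away.lift f (g := θ.toRingHom) hf1
  have hL : ∀ z, L (algebraMap S (Localization.Away f) z) = θ z := IsLocalization.Away.lift_eq f hf1
  let Φ : HomogeneousLocalization.Away (deg S) f →+* R' :=
    L.comp (algebraMap (HomogeneousLocalization.Away (deg S) f) (Localization.Away f))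
  have hΦmk : ∀ n x hx, Φ (HomogeneousLocalization.Away.mk (deg S) (hmem none) n x hx) = θ x := fun n x hx => by
    show L (HomogeneousLocalization.Away.mk (deg S) (hmem none) n x hx).val = _
    rw [HomogeneousLocalization.Away.val_mk, Localization.mk_eq_mk']
    have h := congrArg L (IsLocalization.mk'_spec (Localization.Away f) x (⟨f ^ n, n, rfl⟩ : Submonoid.powers f))
    rw [map_mul, hL, hL, map_pow, show θ f = 1 from hθg none, one_pow, mul_one] at h
    exact h
  have hinj : Function.Injective Φ := by
    rw [injective_iff_map_eq_zero]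
    intro z hz
    obtain ⟨n, x, hx, rfl⟩ := HomogeneousLocalization.Away.mk_surjective (deg S) (hmem none) z
    rw [hΦmk] at hz
    apply HomogeneousLocalization.val_injective
    rw [HomogeneousLocalization.Away.val_mk, HomogeneousLocalization.val_zero, Localization.mk_eq_mk',
      IsLocalization.mk'_eq_zero_iff]
    refine ⟨⟨f, 1, pow_one f⟩, Subtype.ext ?_⟩
    rw [smul_eq_mul, mul_one] at hx
    have hx' : (x : (R' × R)[X]) = monomial n ((x : (R' × R)[X]).coeff n) := Polynomial.ext fun m => by
      rw [coeff_monomial]; split_ifs with h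
      · rw [h]
      · exact hx m (Ne.symm h)
    have hval : θ x = ((x : (R' × R)[X]).coeff n).1 := by
      show ((Polynomial.aeval (1 : R' × R)) (x : (R' × R)[X])).1 = _
      conv_lhs => rw [hx']
      simp
    show monomial 1 ((1 : R'), (0 : R)) * (x : (R' × R)[X]) = 0
    rw [hx', monomial_mul_monomial, Prod.mul_def, ← hval, hz]
    simp
  have hr : ∀ r : R, (HomogeneousLocalization.fromZeroRingHom (deg S) (Submonoid.powers f) (algebraMap R (deg S 0) r)).val =
      algebraMap S (Localization.Away f) (algebraMap R S r) := fun r => by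
    rw [← Localization.mk_one_eq_algebraMap]
    rfl
  have hΦr : ∀ r : R, Φ (HomogeneousLocalization.fromZeroRingHom (deg S) (Submonoid.powers f) (algebraMap R (deg S 0) r)) = algebraMap R R' r := fun r => by
    show L (HomogeneousLocalization.fromZeroRingHom (deg S) (Submonoid.powers f) (algebraMap R (deg S 0) r)).val = _
    rw [hr, hL, AlgHom.commutes]
  have hsurj : Function.Surjective Φ := fun y => by
    have hy : y ∈ Algebra.adjoin R (t : Set R') := ht ▸ Algebra.mem_top
    induction hy using Algebra.adjoin_induction with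
    | mem x hx => exact ⟨HomogeneousLocalization.Away.mk (deg S) (hmem none) 1 (gS (some ⟨x, hx⟩))
        (by rw [one_smul]; exact hmem _), by rw [hΦmk, hθg]; rfl⟩
    | algebraMap r => exact ⟨_, hΦr r⟩
    | add a b _ _ ha hb =>
      obtain ⟨a, rfl⟩ := ha; obtain ⟨b, rfl⟩ := hb
      exact ⟨a + b, map_add _ _ _⟩
    | mul a b _ _ ha hb =>
      obtain ⟨a, rfl⟩ := ha; obtain ⟨b, rfl⟩ := hb
      exact ⟨a * b, map_mul _ _ _⟩
  let e : HomogeneousLocalization.Away (deg S) f ≃+* R' := RingEquiv.ofBijective Φ ⟨hinj, hsurj⟩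
  have he : ∀ r : R, (e.symm (algebraMap R R' r)).val = algebraMap S (Localization.Away f) (algebraMap R S r) := fun r => by
    rw [← hr r, ← hΦr r]
    exact congrArg HomogeneousLocalization.val (e.symm_apply_apply _)
  refine ⟨S, inferInstance, inferInstance, deg S, inferInstance, f, hmem none, Finset.univ.image gS,
    e, fun r r' h => ?_, fun z hz => ?_, ?_, hadj, he⟩
  · have := congrArg (fun z : S => ((z : (R' × R)[X]).coeff 0).2) h
    simpa [Polynomial.algebraMap_apply] using this
  · obtain ⟨r, hr'⟩ := hc0 z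
    refine ⟨r, Subtype.ext (Polynomial.ext fun m => ?_)⟩
    show (algebraMap R (R' × R)[X] r).coeff m = _
    rw [Polynomial.algebraMap_apply, coeff_C]
    split_ifs with h
    · rw [h, hr']
    · exact (hz m h).symm
  · intro z hz
    obtain ⟨o, -, rfl⟩ := Finset.mem_image.1 hz
    exact hmem o

end Groth.Agent.S9671
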