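import Groth.Statements.S9672
import Mathlib.AlgebraicGeometry.Normalization

set_option autoImplicit false
set_option backward.isDefEq.respectTransparency.types false
set_option backward.isDefEq.respectTransparency false
set_option linter.style.haveILetI false
universe u
open CategoryTheory CategoryTheory.Limits AlgebraicGeometry
open Mor

namespace Groth.Agent.S9672

/-- Let f : Y ⟶ X be quasi-compact and quasi-separated, and write X' for the normalization of X relative
to Y. If x' ∈ X' is the generic point of some irreducible component of X', then there is a point y ∈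
Y that is generic in an irreducible component of Y and is sent to x' by the canonical morphism Y ⟶
X'. -/
theorem result {X Y : Scheme.{u}} (f : Y ⟶ X)
    [QuasiCompact f] [QuasiSeparated f] (x' : ↥f.normalization)
    (hx' : closure {x'} ∈ irreducibleComponents ↥f.normalization) :
    ∃ y : Y, closure {y} ∈ irreducibleComponents ↥Y ∧ f.toNormalization.base y = x' := by
  let g := f.toNormalization
  obtain ⟨W, hW, hxW, -⟩ := exists_isAffineOpen_mem_and_subset (x := x') (U := (⊤ : f.normalization.Opens)) trivial
  have hQc : IsCompact ((g ⁻¹ᵁ W : Y.Opens) : Set Y) := QuasiCompact.isCompact_preimage (f := g) _ W.2 hW.isCompact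
  obtain ⟨R, q, hq⟩ := isCompact_iff_exists.mp hQc
  have hsub : Set.range (q ≫ g) ⊆ Set.range hW.fromSpec := by
    rw [hW.range_fromSpec]
    rintro _ ⟨z, rfl⟩
    exact (show q z ∈ (g ⁻¹ᵁ W : Y.Opens) from hq.subset ⟨z, rfl⟩)
  obtain ⟨l, hl⟩ : ∃ l : Spec R ⟶ Spec Γ(f.normalization, W), l ≫ hW.fromSpec = q ≫ g :=
    ⟨IsOpenImmersion.lift hW.fromSpec _ hsub, IsOpenImmersion.lift_fac _ _ _⟩
  have himg : hW.fromSpec '' Set.range l = (W : Set f.normalization) ∩ Set.range g := by
    rw [← Set.range_comp]
    have : (hW.fromSpec ∘ l : _ → f.normalization) = g ∘ q := by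
      funext z
      show (l ≫ hW.fromSpec) z = (q ≫ g) z
      rw [hl]
    rw [this, Set.range_comp, hq]
    exact Set.image_preimage_eq_inter_range
  obtain ⟨φ, rfl⟩ : ∃ φ, Spec.map φ = l := ⟨Spec.preimage l, Spec.map_preimage l⟩
  have hdense : DenseRange (PrimeSpectrum.comap φ.hom) := by
    intro p
    rw [mem_closure_iff]
    intro O hO hpO
    obtain ⟨z, ⟨w, hwO, rfl⟩, ⟨y, hy⟩⟩ := g.denseRange.inter_open_nonempty (hW.fromSpec '' O)
      (hW.fromSpec.isOpenEmbedding.isOpenMap _ hO) ⟨_, p, hpO, rfl⟩
    have : hW.fromSpec w ∈ hW.fromSpec '' Set.range (Spec.map φ) := by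
      rw [himg]
      exact ⟨hW.range_fromSpec.subset ⟨w, rfl⟩, ⟨y, hy⟩⟩
    obtain ⟨w', hw', he⟩ := this
    exact ⟨w, hwO, hW.fromSpec.isOpenEmbedding.injective he ▸ hw'⟩
  obtain ⟨p, hp⟩ := hW.range_fromSpec.ge hxW
  have hmax : ∀ z : ↥f.normalization, z ⤳ x' → z = x' := by
    intro z hz
    have hsub' : closure ({x'} : Set ↥f.normalization) ⊆ closure {z} :=
      closure_minimal (Set.singleton_subset_iff.mpr hz.mem_closure) isClosed_closure
    have h2 := hx'.2 isIrreducible_singleton.closure hsub'
    exact (specializes_iff_mem_closure.mpr (h2 (subset_closure rfl))).antisymm hz |>.eq.symm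
  have hmin : p.asIdeal ∈ minimalPrimes Γ(f.normalization, W) := by
    refine PrimeSpectrum.isMin_iff.mp fun p' hp' => ?_
    have h1 := hmax (hW.fromSpec p') (hp ▸ ((PrimeSpectrum.le_iff_specializes _ _).mp hp').map hW.fromSpec.continuous)
    rw [← hp] at h1
    exact le_of_eq (α := PrimeSpectrum Γ(f.normalization, W)) (hW.fromSpec.isOpenEmbedding.injective h1).symm
  obtain ⟨w, hw⟩ := (PrimeSpectrum.denseRange_comap_iff_minimalPrimes φ.hom).mp hdense _ hmin
  have hy : g (q w) = x' := by
    rw [← Scheme.Hom.comp_apply, ← hl, Scheme.Hom.comp_apply, ← hp]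
    exact congrArg hW.fromSpec hw
  obtain ⟨η, hη⟩ := QuasiSober.sober (isIrreducible_irreducibleComponent (x := q w)) isClosed_irreducibleComponent
  refine ⟨η, hη.def.symm ▸ irreducibleComponent_mem_irreducibleComponents _, hmax _ ?_⟩
  rw [← hy]
  exact (hη.specializes mem_irreducibleComponent).map g.continuous

end Groth.Agent.S9672
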