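import Groth.Statements.S9678
import Groth.Agent.L19.GenericIso

set_option autoImplicit false
set_option backward.isDefEq.respectTransparency.types false
set_option backward.isDefEq.respectTransparency false
set_option linter.style.haveILetI false
universe u
open CategoryTheory CategoryTheory.Limits AlgebraicGeometry
open Mor

namespace Groth.Agent.S9678

/-- Suppose X and Y have finitely many irreducible components and f : X ⟶ Y is birational, i.e. f
restricts to a bijection between the generic points of the irreducible components of X and those of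
Y and induces an isomorphism of local rings at every generic point of an irreducible component of X.
Suppose moreover that Y is reduced and f is locally of finite type, or alternatively that f is
locally finitely presented. Then there are dense opens U ⊆ X and V ⊆ Y with f(U) ⊆ V such that the
restriction U ⟶ V of f is an isomorphism. -/
theorem result {X Y : Scheme.{u}} (f : X ⟶ Y)
    (hXfin : (irreducibleComponents ↥X).Finite) (hYfin : (irreducibleComponents ↥Y).Finite)
    (hbij : Set.BijOn (fun x : X => f.base x) {x : X | closure {x} ∈ irreducibleComponents ↥X}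
      {y : Y | closure {y} ∈ irreducibleComponents ↥Y})
    (hiso : ∀ x : X, closure {x} ∈ irreducibleComponents ↥X → IsIso (f.stalkMap x))
    (hf : (LocallyOfFiniteType f ∧ IsReduced Y) ∨ LocallyOfFinitePresentation f) :
    ∃ (U : X.Opens) (V : Y.Opens) (hUV : U ≤ f ⁻¹ᵁ V), Dense (U : Set ↥X) ∧ Dense (V : Set ↥Y) ∧
      IsIso (f.resLE V U hUV) := by
  haveI : LocallyOfFiniteType f := by
    rcases hf with ⟨h, _⟩ | h
    · exact h
    · infer_instance
  obtain ⟨U, hUgen, hU⟩ := Groth.L19.GenericIso.exists_dense_opens f hbij hiso hXfin hYfin hf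
  refine ⟨U, (U.ι ≫ f).opensRange, fun z hz => ⟨⟨z, hz⟩, rfl⟩, ?_, ?_, ?_⟩
  · refine Dense.mono (s₁ := {x : X | closure {x} ∈ irreducibleComponents X}) hUgen ?_
    rw [dense_iff_closure_eq]; exact genericPoints.closure
  · refine Dense.mono (s₁ := {y : Y | closure {y} ∈ irreducibleComponents Y}) (fun y hy => ?_) ?_
    · obtain ⟨ξ, hξ, rfl⟩ := hbij.surjOn hy
      exact ⟨⟨ξ, hUgen ξ hξ⟩, rfl⟩
    · rw [dense_iff_closure_eq]; exact genericPoints.closure
  · have h : f.resLE (U.ι ≫ f).opensRange U (fun z hz => ⟨⟨z, hz⟩, rfl⟩) = (U.ι ≫ f).isoOpensRange.hom := by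
      rw [← cancel_mono (U.ι ≫ f).opensRange.ι, Scheme.Hom.resLE_comp_ι, Scheme.Hom.isoOpensRange]
      simp
    rw [h]
    infer_instance

end Groth.Agent.S9678
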