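import Groth.Statements.S9681
import Groth.Agent.L19.BiratStalk

set_option autoImplicit false
set_option backward.isDefEq.respectTransparency.types false
set_option backward.isDefEq.respectTransparency false
set_option linter.style.haveILetI false
universe u
open CategoryTheory CategoryTheory.Limits AlgebraicGeometry
open Mor

namespace Groth.Agent.S9681

/-- Suppose X and Y are integral S-schemes, each locally of finite type over S, with generic points x
and y. Then X and Y are S-birational (they admit S-isomorphic nonempty opens) if and only if x and y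
map to the same point s of S and the residue fields of x and y are isomorphic as extensions of the
residue field of s. -/
theorem result {S X Y : Scheme.{u}}
    [IsIntegral X] [IsIntegral Y] (sX : X ⟶ S) (sY : Y ⟶ S)
    [LocallyOfFiniteType sX] [LocallyOfFiniteType sY] :
    Scheme.BirationalOver sX sY ↔
      ∃ (hs : sX.base (genericPoint ↥X) = sY.base (genericPoint ↥Y))
        (e : X.residueField (genericPoint ↥X) ≅ Y.residueField (genericPoint ↥Y)),
        sX.residueFieldMap (genericPoint ↥X) ≫ e.hom =
          eqToHom (congrArg S.residueField hs) ≫ sY.residueFieldMap (genericPoint ↥Y) := by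
  have hr : ∀ (Z : Scheme.{u}) [IsIntegral Z], IsIso (Z.residue (genericPoint Z)) := by
    intro Z _
    rw [ConcreteCategory.isIso_iff_bijective]
    refine ⟨(injective_iff_map_eq_zero (Z.residue (genericPoint Z)).hom).2 fun a ha => ?_,
      Z.residue_surjective _⟩
    by_contra h0
    have hu : IsUnit (show Z.functionField from a) := isUnit_iff_ne_zero.2 h0
    exact not_isUnit_zero (ha ▸ (RingHom.isUnit_map (Z.residue (genericPoint Z)).hom hu))
  have hrX := hr X
  have hrY := hr Y
  have nat : ∀ (s t : S) (h : s = t), eqToHom (congrArg S.presheaf.stalk h) ≫ S.residue t =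
      S.residue s ≫ eqToHom (congrArg S.residueField h) := by
    rintro s t rfl
    simp
  constructor
  · intro h
    obtain ⟨hs, e, he⟩ := Groth.L19.BiratStalk.exists_stalkIso_of_birationalOver sX sY h
    refine ⟨hs, (asIso (X.residue _)).symm ≪≫ e ≪≫ asIso (Y.residue _), ?_⟩
    rw [← cancel_epi (S.residue (sX (genericPoint X)))]
    simp only [Iso.trans_hom, Iso.symm_hom, asIso_inv, asIso_hom]
    rw [Scheme.residue_residueFieldMap_assoc, IsIso.hom_inv_id_assoc, reassoc_of% he,
      ← Scheme.residue_residueFieldMap sY, reassoc_of% (nat _ _ hs)]
  · rintro ⟨hs, e, he⟩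
    refine Groth.L19.BiratStalk.birationalOver_of_spread sX sY hs
      (asIso (X.residue _) ≪≫ e ≪≫ (asIso (Y.residue _)).symm) ?_
      (fun φ hφ => spread_out_of_isGermInjective' sX sY φ hφ)
      (fun φ hφ => spread_out_of_isGermInjective' sY sX φ hφ)
    simp only [Iso.trans_hom, Iso.symm_hom, asIso_inv, asIso_hom]
    rw [← cancel_mono (Y.residue (genericPoint Y))]
    simp only [Category.assoc, IsIso.inv_hom_id, Category.comp_id]
    rw [← Scheme.residue_residueFieldMap_assoc, he, ← Scheme.residue_residueFieldMap sY,
      reassoc_of% (nat _ _ hs)]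

end Groth.Agent.S9681
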