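import Groth.Statements.S9682
import Groth.Agent.L19.GenericFinite

set_option autoImplicit false
set_option backward.isDefEq.respectTransparency.types false
set_option backward.isDefEq.respectTransparency false
set_option linter.style.haveILetI false
universe u
open CategoryTheory CategoryTheory.Limits AlgebraicGeometry
open Mor

namespace Groth.Agent.S9682

/-- Take f : X ⟶ Y locally of finite type and η the generic point of some irreducible component of Y.
Three conditions turn out to coincide: (1) each point of X mapping to η is the generic point of some
irreducible component of X; (2) f is quasi-finite at every point over η; (3) f is quasi-finite at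
each point over η that is generic in some irreducible component of X. Stated as (1) iff (2) together
with (1) iff (3). -/
theorem result {X Y : Scheme.{u}} (f : X ⟶ Y)
    [LocallyOfFiniteType f] (η : Y) (hη : closure {η} ∈ irreducibleComponents ↥Y) :
    ((∀ x : X, f.base x = η → closure {x} ∈ irreducibleComponents ↥X) ↔
      (∀ x : X, f.base x = η → f.QuasiFiniteAt x)) ∧
    ((∀ x : X, f.base x = η → closure {x} ∈ irreducibleComponents ↥X) ↔
      (∀ x : X, f.base x = η → closure {x} ∈ irreducibleComponents ↥X → f.QuasiFiniteAt x)) := by
  have key : (∀ x : X, f.base x = η → closure {x} ∈ irreducibleComponents X → f.QuasiFiniteAt x) →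
      ∀ x : X, f.base x = η → closure {x} ∈ irreducibleComponents X := fun h x hx => by
    obtain ⟨ξ, hξ, hs⟩ := Groth.L19.GenericIso.exists_generic_specializes x
    have he : f ξ = η := Groth.L19.GenericIso.eq_of_specializes hη (hx ▸ hs.map f.continuous)
    exact Groth.L19.GenericFinite.eq_of_specializes_of_quasiFiniteAt f (h ξ he hξ) hs
      (he.trans hx.symm) ▸ hξ
  have key2 : (∀ x : X, f.base x = η → closure {x} ∈ irreducibleComponents X) →
      ∀ x : X, f.base x = η → f.QuasiFiniteAt x := fun h x hx =>
    Groth.L19.GenericFinite.quasiFiniteAt_of_forall_specializes f x fun a b _ hb hab =>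
      Groth.L19.GenericIso.eq_of_specializes (h b (hb.trans hx)) hab
  exact ⟨⟨key2, fun h => key fun x hx _ => h x hx⟩, ⟨fun h x hx _ => key2 h x hx, key⟩⟩

end Groth.Agent.S9682
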