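import Groth.Statements.S9686
import Groth.Agent.L19.DimTrdeg
import Groth.Agent.L15.CohFlat

set_option autoImplicit false
set_option backward.isDefEq.respectTransparency.types false
set_option backward.isDefEq.respectTransparency false
set_option linter.style.haveILetI false
universe u
open CategoryTheory CategoryTheory.Limits AlgebraicGeometry
open Mor

namespace Groth.Agent.S9686

/-- Let Y be locally Noetherian and f : X ⟶ Y locally of finite type. If E bounds the transcendence
degree of κ(ξ) over κ(f ξ) for every generic point ξ of an irreducible component of X, then dim X ≤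
dim Y + E. (The published bound is the supremum of these transcendence degrees; the statement with
any upper bound E is equivalent.) -/
theorem result {X Y : Scheme.{u}} [IsLocallyNoetherian Y]
    (f : X ⟶ Y) [LocallyOfFiniteType f] (E : ℕ)
    (hE : ∀ ξ : X, closure {ξ} ∈ irreducibleComponents ↥X →
      letI := (f.residueFieldMap ξ).hom.toAlgebra
      Algebra.trdeg (Y.residueField (f.base ξ)) (X.residueField ξ) ≤ E) :
    topologicalKrullDim ↥X ≤ topologicalKrullDim ↥Y + E := by
  refine Groth.L19.DimTrdeg.dim_le_of_stalks fun x => ?_
  obtain ⟨n, -, hn⟩ := Groth.L07.DimToolkit.exists_fdim_rtrdeg f x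
  have h := Groth.Agent.S9687.result f x n E hn (fun ξ hξ _ => hE ξ hξ)
  have h0 : ringKrullDim (X.presheaf.stalk x) + (0 : WithBot ℕ∞) ≤ ringKrullDim (X.presheaf.stalk x) + n := by
    gcongr
    simp
  rw [add_zero] at h0
  refine h0.trans (h.trans ?_)
  gcongr
  exact Groth.L15.CohFlat.ringKrullDim_stalk_le _

end Groth.Agent.S9686
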