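import Groth.Statements.S9685
import Groth.Agent.S9686

set_option autoImplicit false
set_option backward.isDefEq.respectTransparency.types false
set_option backward.isDefEq.respectTransparency false
set_option linter.style.haveILetI false
universe u
open CategoryTheory CategoryTheory.Limits AlgebraicGeometry
open Mor

namespace Groth.Agent.S9685

/-- Let X and Y be integral schemes with Y locally Noetherian and f : X ⟶ Y dominant and locally of
finite type. If n is the transcendence degree of the function field of X over the function field of
Y (computed on residue fields at the generic points), then dim X ≤ dim Y + n, and equality holds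
when the underlying map of f is closed. -/
theorem result {X Y : Scheme.{u}} [IsIntegral X] [IsIntegral Y]
    [IsLocallyNoetherian Y] (f : X ⟶ Y) [IsDominant f] [LocallyOfFiniteType f] (n : ℕ)
    (hn : letI := (f.residueFieldMap (genericPoint ↥X)).hom.toAlgebra
      Algebra.trdeg (Y.residueField (f.base (genericPoint ↥X))) (X.residueField (genericPoint ↥X)) = n) :
    topologicalKrullDim ↥X ≤ topologicalKrullDim ↥Y + n ∧
      (IsClosedMap f.base → topologicalKrullDim ↥X = topologicalKrullDim ↥Y + n) := by
  haveI : IrreducibleSpace X := inferInstance
  have hgen : f (genericPoint X) = genericPoint Y :=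
    (((genericPoint_spec X).image f.continuous).eq (by
      simpa [f.denseRange.closure_range] using genericPoint_spec Y))
  refine ⟨Groth.Agent.S9686.result f n fun ξ hξ => ?_, fun hc => le_antisymm ?_ ?_⟩
  · have : ξ = genericPoint X := by
      rw [irreducibleComponents_eq_singleton] at hξ
      exact (show IsGenericPoint ξ Set.univ from Set.mem_singleton_iff.mp hξ).eq (genericPoint_spec X)
    subst this
    exact hn.le
  · exact Groth.Agent.S9686.result f n fun ξ hξ => by
      have : ξ = genericPoint X := by
        rw [irreducibleComponents_eq_singleton] at hξ
        exact (show IsGenericPoint ξ Set.univ from Set.mem_singleton_iff.mp hξ).eq (genericPoint_spec X)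
      subst this
      exact hn.le
  · exact Groth.L19.DimTrdeg.fdim_add_le f hc hgen n hn

end Groth.Agent.S9685
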