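import Groth.Statements.S9688
import Groth.Agent.L22.Norm.Affine
import Groth.Prelude.Def_Found
import Mathlib.AlgebraicGeometry.Morphisms.Finite

set_option autoImplicit false
set_option backward.isDefEq.respectTransparency.types false
set_option backward.isDefEq.respectTransparency false
set_option linter.style.haveILetI false
universe u
open CategoryTheory CategoryTheory.Limits AlgebraicGeometry
open Mor

namespace Groth.Agent.S9688

/-- Let X be an integral Japanese scheme (every nonempty affine open has Japanese, i.e. N-2, coordinate
ring). Then the normalization morphism X^ν ⟶ X is finite. (The quasi-compactness and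
quasi-separatedness binders on Spec K(X) ⟶ X always hold; they are only needed to form the
normalization.) -/
theorem result (X : Scheme.{u}) [IsIntegral X] [QuasiCompact (X.fromSpecStalk (genericPoint ↥X))] [QuasiSeparated (X.fromSpecStalk (genericPoint ↥X))]
    (hJ : ∀ (U : X.Opens), IsAffineOpen U → ∀ (hne : Nonempty ↥U),
      @CAlg.IsN2 ↑Γ(X, U) _ (@IsIntegral.component_integral X _ U hne)) :
    IsFinite (Curv2.normalizationι X) := by
  unfold Curv2.normalizationι
  refine { toIsAffineHom := inferInstance, finite_app := fun U hU => ?_ }
  rcases isEmpty_or_nonempty U with he | hne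
  · have hpre : (X.fromSpecStalk (genericPoint X)).fromNormalization ⁻¹ᵁ U = ⊥ := by
      ext x
      simpa using fun hx => he.false ⟨_, hx⟩
    have : Subsingleton Γ((X.fromSpecStalk (genericPoint X)).normalization, (X.fromSpecStalk (genericPoint X)).fromNormalization ⁻¹ᵁ U) :=
      hpre ▸ (inferInstance : Subsingleton Γ((X.fromSpecStalk (genericPoint X)).normalization, ⊥))
    exact RingHom.Finite.of_surjective _ fun b => ⟨0, @Subsingleton.elim _ this _ _⟩
  have hne' : (U : Set X).Nonempty := Set.nonempty_coe_sort.mp hne
  letI algB : Algebra Γ(X, U) Γ(Curv2.normalization X, Curv2.normalizationι X ⁻¹ᵁ U) :=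
    ((Curv2.normalizationι X).app U).hom.toAlgebra
  obtain ⟨κ, hκ⟩ := Groth.L22.Norm.exists_isIntegralClosure X hU hne'
  letI := κ.toAlgebra
  obtain ⟨_, _⟩ := hκ
  haveI : IsDomain Γ(X, U) := IsIntegral.component_integral U
  haveI := functionField_isFractionRing_of_isAffineOpen X U hU
  letI : Algebra (FractionRing Γ(X, U)) X.functionField := FractionRing.liftAlgebra _ _
  haveI : IsScalarTower Γ(X, U) (FractionRing Γ(X, U)) X.functionField := FractionRing.isScalarTower_liftAlgebra _ _
  have hfd : FiniteDimensional (FractionRing Γ(X, U)) X.functionField := by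
    have e := FractionRing.algEquiv Γ(X, U) X.functionField
    refine Module.Finite.of_surjective (Algebra.linearMap (FractionRing Γ(X, U)) X.functionField) fun x => ?_
    refine ⟨e.symm x, ?_⟩
    have h : (IsScalarTower.toAlgHom Γ(X, U) (FractionRing Γ(X, U)) X.functionField) = e.toAlgHom :=
      AlgHom.coe_ringHom_injective (IsLocalization.ringHom_ext (nonZeroDivisors Γ(X, U)) (RingHom.ext fun a => by simp [← IsScalarTower.algebraMap_apply]))
    exact (congrArg (fun φ => φ (e.symm x)) h).trans (e.apply_symm_apply x)
  haveI := hJ U hU hne X.functionField hfd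
  haveI := Module.Finite.equiv (IsIntegralClosure.equiv Γ(X, U) (integralClosure Γ(X, U) X.functionField)
    X.functionField Γ(Curv2.normalization X, Curv2.normalizationι X ⁻¹ᵁ U)).toLinearEquiv
  exact RingHom.finite_algebraMap.mpr this

end Groth.Agent.S9688
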