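import Groth.Statements.S9692
import Groth.Agent.L18.SegreOver

set_option autoImplicit false
set_option backward.isDefEq.respectTransparency.types false
set_option backward.isDefEq.respectTransparency false
set_option linter.style.haveILetI false
universe u
open CategoryTheory CategoryTheory.Limits AlgebraicGeometry
open Mor

namespace Groth.Agent.S9692

/-- A composition of H-projective morphisms (closed immersions into a projective space P^n over the
target, followed by the projection) is H-projective. -/
theorem result {X Y Z : Scheme.{u}} (f : X ⟶ Y) (g : Y ⟶ Z)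
    (hf : RelProj.IsHProjective f) (hg : RelProj.IsHProjective g) :
    RelProj.IsHProjective (f ≫ g) := by
  obtain ⟨m, i, hi, rfl⟩ := hf
  obtain ⟨n, j, hj, rfl⟩ := hg
  obtain ⟨seg, hseg, hseg'⟩ := Groth.L18.PS.segre_over Z n m
  let a : CohB1.ProjSpaceOver m Z ⟶ _ := pullback.fst _ _
  have h0 : specULiftZIsTerminal.from Y =
      (j ≫ CohB1.ProjSpaceOver.toBase n Z) ≫ specULiftZIsTerminal.from Z :=
    specULiftZIsTerminal.hom_ext _ _
  let q : CohB1.ProjSpaceOver m Y ⟶ CohB1.ProjSpaceOver m Z :=
    pullback.lift (pullback.fst _ _)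
      (CohB1.ProjSpaceOver.toBase m Y ≫ j ≫ CohB1.ProjSpaceOver.toBase n Z)
      (by rw [Category.assoc, ← h0]; exact pullback.condition)
  have hout : IsPullback (q ≫ a) (CohB1.ProjSpaceOver.toBase m Y)
      (CohB1.ProjSpace.toSpec m (ULift.{u} ℤ))
      ((j ≫ CohB1.ProjSpaceOver.toBase n Z) ≫ specULiftZIsTerminal.from Z) := by
    rw [show q ≫ a = pullback.fst _ _ from pullback.lift_fst _ _ _, ← h0]
    exact IsPullback.of_hasPullback _ _
  have hq : IsPullback q (CohB1.ProjSpaceOver.toBase m Y) (CohB1.ProjSpaceOver.toBase m Z)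
      (j ≫ CohB1.ProjSpaceOver.toBase n Z) :=
    IsPullback.of_right hout (pullback.lift_snd _ _ _) (IsPullback.of_hasPullback _ _)
  let φ : CohB1.ProjSpaceOver m Y ⟶
      pullback (CohB1.ProjSpaceOver.toBase n Z) (CohB1.ProjSpaceOver.toBase m Z) :=
    pullback.lift (CohB1.ProjSpaceOver.toBase m Y ≫ j) q (by rw [Category.assoc]; exact hq.w.symm)
  have hφ : IsPullback φ (CohB1.ProjSpaceOver.toBase m Y) (pullback.fst _ _) j := by
    refine IsPullback.of_right ?_ (pullback.lift_fst _ _ _) (IsPullback.of_hasPullback _ _).flip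
    rw [show φ ≫ pullback.snd _ _ = q from pullback.lift_snd _ _ _]
    exact hq
  haveI : IsClosedImmersion φ := MorphismProperty.of_isPullback hφ.flip hj
  refine ⟨n * m + n + m, i ≫ φ ≫ seg, inferInstance, ?_⟩
  rw [Category.assoc, Category.assoc, hseg', ← Category.assoc φ, pullback.lift_fst]
  simp only [Category.assoc]

end Groth.Agent.S9692
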