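import Groth.Statements.S9693
import Mathlib.AlgebraicGeometry.Morphisms.ClosedImmersion

set_option autoImplicit false
set_option backward.isDefEq.respectTransparency.types false
set_option backward.isDefEq.respectTransparency false
set_option linter.style.haveILetI false
universe u
open CategoryTheory CategoryTheory.Limits AlgebraicGeometry
open Mor

namespace Groth.Agent.S9693

/-- A base change of an H-projective morphism (a closed immersion into some P^n over the base followed
by the projection) is H-projective. -/
theorem result {X S S' : Scheme.{u}} (f : X ⟶ S) (hf : RelProj.IsHProjective f)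
    (g : S' ⟶ S) : RelProj.IsHProjective (pullback.snd f g) := by
  obtain ⟨n, i, hi, rfl⟩ := hf
  let a : CohB1.ProjSpaceOver n S ⟶ _ := pullback.fst _ _
  have h0 : specULiftZIsTerminal.from S' = g ≫ specULiftZIsTerminal.from S := specULiftZIsTerminal.hom_ext _ _
  let q : CohB1.ProjSpaceOver n S' ⟶ CohB1.ProjSpaceOver n S :=
    pullback.lift (pullback.fst _ _) (CohB1.ProjSpaceOver.toBase n S' ≫ g)
      (by rw [Category.assoc, ← h0]; exact pullback.condition)
  have hout : IsPullback (q ≫ a) (CohB1.ProjSpaceOver.toBase n S')
      (CohB1.ProjSpace.toSpec n (ULift.{u} ℤ)) (g ≫ specULiftZIsTerminal.from S) := by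
    rw [show q ≫ a = pullback.fst _ _ from pullback.lift_fst _ _ _, ← h0]
    exact IsPullback.of_hasPullback _ _
  have hq : IsPullback q (CohB1.ProjSpaceOver.toBase n S') (CohB1.ProjSpaceOver.toBase n S) g :=
    IsPullback.of_right hout (pullback.lift_snd _ _ _) (IsPullback.of_hasPullback _ _)
  let j : pullback (i ≫ CohB1.ProjSpaceOver.toBase n S) g ⟶ CohB1.ProjSpaceOver n S' :=
    hq.lift (pullback.fst _ _ ≫ i) (pullback.snd _ _) (by rw [Category.assoc]; exact pullback.condition)
  have hj : IsPullback j (pullback.fst (i ≫ CohB1.ProjSpaceOver.toBase n S) g) q i := by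
    refine IsPullback.of_right ?_ (hq.lift_fst _ _ _) hq.flip
    rw [show j ≫ CohB1.ProjSpaceOver.toBase n S' = pullback.snd _ _ from hq.lift_snd _ _ _]
    exact (IsPullback.of_hasPullback _ _).flip
  exact ⟨n, j, MorphismProperty.of_isPullback hj.flip hi, hq.lift_snd _ _ _⟩

end Groth.Agent.S9693
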