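import Groth.Statements.S9694
import Groth.Agent.L19.AmpleAffineLocus

set_option autoImplicit false
set_option backward.isDefEq.respectTransparency.types false
set_option backward.isDefEq.respectTransparency false
set_option linter.style.haveILetI false
universe u
open CategoryTheory CategoryTheory.Limits AlgebraicGeometry
open Mor

namespace Groth.Agent.S9694

/-- Let f : X ⟶ S be universally closed, L an O_X-module ample relative to f and s a global section of
L, viewed as a morphism O_X ⟶ L. Then the open subscheme X_s of X where s generates L is affine over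
S: the inclusion of X_s followed by f is an affine morphism. -/
theorem result {X S : Scheme.{u}} (f : X ⟶ S) [UniversallyClosed f]
    (L : X.Modules) (hL : RelAmple.IsRelAmple f L) (s : Coh.structureModule X ⟶ L) :
    IsAffineHom ((CohB1.genLocus L s).ι ≫ f) := by
  refine ⟨fun V hV => ?_⟩
  haveI : IsAffine (V : S.Opens).toScheme := hV
  let W : X.Opens := f ⁻¹ᵁ V
  have hA : CohB1.IsAmple ((Scheme.Modules.pullback W.ι).obj L) :=
    (Groth.L18.Ample.isAmple_restrict_iff_pullback W.ι).mp (hL.2 ⟨V, hV⟩)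
  have hinv : PicF.IsInvertible L := by
    refine Groth.L18.GenLoc.isInvertible_of_frames fun x => ?_
    obtain ⟨_, ⟨V', hV', rfl⟩, hxV', -⟩ := S.isBasis_affineOpens.exists_subset_of_mem_open
      (Set.mem_univ (f x)) isOpen_univ
    obtain ⟨U, e, hxU, he⟩ := Groth.L18.Frame.exists_frame (hL.2 ⟨V', hV'⟩).1 ⟨x, hxV'⟩
    exact ⟨(f ⁻¹ᵁ V').ι ''ᵁ U, e, ⟨⟨x, hxV'⟩, hxU, rfl⟩,
      (Groth.L18.Ample.isFrame_restrict_iff L (f ⁻¹ᵁ V') U e).mp he⟩
  haveI : UniversallyClosed (f ∣_ V) := IsZariskiLocalAtTarget.restrict ‹_› V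
  have h := Groth.L19.AmpleAffine.isAffineOpen_genLocus (f ∣_ V) hA (Groth.L18.Ample.pullHom W.ι s)
  rw [Groth.L18.Ample.genLocus_pullHom W.ι hinv s, ← Scheme.Hom.isAffineOpen_iff_of_isOpenImmersion W.ι,
    Scheme.Hom.image_preimage_eq_opensRange_inf, Scheme.Opens.opensRange_ι] at h
  rw [← Scheme.Hom.isAffineOpen_iff_of_isOpenImmersion (CohB1.genLocus L s).ι, Scheme.Hom.comp_preimage,
    Scheme.Hom.image_preimage_eq_opensRange_inf, Scheme.Opens.opensRange_ι, inf_comm]
  exact h

end Groth.Agent.S9694
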