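import Groth.Statements.S9695
import Groth.Agent.L18.PBundle.AmpleVA
import Groth.Agent.L18.PBundle.Ample
import Groth.Agent.L18.RelAmpleLocal
import Groth.Agent.L18.AmpleOps

set_option autoImplicit false
universe u
open CategoryTheory CategoryTheory.Limits AlgebraicGeometry
open Mor

namespace Groth.Agent.S9695

/-- Suppose f : X ⟶ S is a morphism of finite type and L is an invertible O_X-module. Then L is
f-relatively ample exactly when S can be covered by open subsets V with the following property: for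
every such V there is an integer d ≥ 1 for which the tensor power L^{⊗d}, restricted to f⁻¹(V), is
isomorphic to the pullback of O(1) under some V-immersion of f⁻¹(V) into a projective space P^n_V. -/
theorem result {X S : Scheme.{u}} (f : X ⟶ S)
    [LocallyOfFiniteType f] [QuasiCompact f] (L : X.Modules) (hLinv : PicF.IsInvertible L) :
    RelAmple.IsRelAmple f L ↔
      ∃ (ι : Type u) (V : ι → S.Opens), (⨆ j, V j) = ⊤ ∧
        ∀ j, ∃ d : ℕ, 0 < d ∧
          RelAmple.IsRelVeryAmplePn (f ∣_ V j) ((CohB1.tensorPow L d).restrict (f ⁻¹ᵁ V j).ι) := by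
  constructor
  · intro h
    haveI := h.1
    refine ⟨S.affineOpens, fun V => V.1, TopologicalSpace.Opens.ext (Set.eq_univ_of_forall fun s => ?_), fun V => ?_⟩
    · obtain ⟨_, ⟨V, hV, rfl⟩, hsV, -⟩ :=
        S.isBasis_affineOpens.exists_subset_of_mem_open (Set.mem_univ s) isOpen_univ
      exact TopologicalSpace.Opens.mem_iSup.2 ⟨⟨V, hV⟩, hsV⟩
    · haveI : LocallyOfFiniteType (f ∣_ V.1) := IsZariskiLocalAtTarget.restrict (P := @LocallyOfFiniteType) inferInstance V.1
      haveI : QuasiCompact (f ∣_ V.1) := IsZariskiLocalAtTarget.restrict (P := @QuasiCompact) inferInstance V.1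
      obtain ⟨n₀, hn₀⟩ := Groth.L00.VeryAmpleBase.exists_forall_isRelVeryAmplePn (f ∣_ V.1) (h.2 V)
      refine ⟨max n₀ 1, Nat.lt_of_lt_of_le Nat.one_pos (le_max_right _ _), ?_⟩
      obtain ⟨m, r, hr, hrf, ⟨e⟩⟩ := hn₀ (max n₀ 1) (le_max_left _ _)
      exact ⟨m, r, hr, hrf, ⟨(Groth.L00.Tensor.tensorPowRestrict _ L _).symm ≪≫ e⟩⟩
  · rintro ⟨ι, V, hV, h⟩
    refine Groth.L18.Ample.isRelAmple_of_cover f V hV fun i => ?_
    obtain ⟨d, hd, hva⟩ := h i
    haveI : QuasiCompact (f ∣_ V i) := IsZariskiLocalAtTarget.restrict (P := @QuasiCompact) inferInstance (V i)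
    have h1 := Groth.L18.PBundle.isRelAmple_of_isRelVeryAmple (Groth.L18.PBundle.isRelVeryAmple_of_Pn _ hva)
    refine ⟨inferInstance, fun W => ?_⟩
    have hinv : PicF.IsInvertible ((L.restrict (f ⁻¹ᵁ V i).ι).restrict ((f ∣_ V i) ⁻¹ᵁ W.1).ι) :=
      Groth.L18.Ample.isInvertible_of_iso ((Scheme.Modules.restrictFunctorIsoPullback _).app _).symm
        (Groth.L18.Ample.isInvertible_pullback _ (Groth.L18.Ample.isInvertible_of_iso
          ((Scheme.Modules.restrictFunctorIsoPullback _).app _).symm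
          (Groth.L18.Ample.isInvertible_pullback _ hLinv)))
    rw [Groth.L18.Ample.isAmple_pow_iff hinv hd]
    exact Groth.L18.Ample.isAmple_of_iso
      ((Scheme.Modules.restrictFunctor _).mapIso (Groth.L00.Tensor.tensorPowRestrict _ L d).symm ≪≫
        (Groth.L00.Tensor.tensorPowRestrict _ _ d).symm) (h1.2 W)

end Groth.Agent.S9695
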