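import Groth.Statements.S9698
import Mathlib.AlgebraicGeometry.QuasiAffine
import Mathlib.AlgebraicGeometry.AffineSpace
import Mathlib.AlgebraicGeometry.Morphisms.Immersion

set_option autoImplicit false
set_option backward.isDefEq.respectTransparency.types false
set_option backward.isDefEq.respectTransparency false
set_option linter.style.haveILetI false
universe u
open CategoryTheory CategoryTheory.Limits AlgebraicGeometry
open Mor

namespace Groth.Agent.S9698

/-- Let π : X ⟶ S be locally of finite type with X quasi-affine. Then there exist n ≥ 0 and an immersion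
i : X ⟶ A^n_S over S (affine n-space on the index type Fin n, lifted to the ambient universe). -/
theorem result {X S : Scheme.{u}} (π : X ⟶ S)
    [LocallyOfFiniteType π] [X.IsQuasiAffine] :
    ∃ (n : ℕ) (i : X ⟶ 𝔸(ULift.{u} (Fin n); S)), IsImmersion i ∧ i ≫ (𝔸(ULift.{u} (Fin n); S) ↘ S) = π := by
  classical
  have hloc : ∀ x : X, ∃ (V : S.Opens) (r : Γ(X, ⊤)), IsAffineOpen V ∧ IsAffineOpen (X.basicOpen r) ∧
      X.basicOpen r ≤ π ⁻¹ᵁ V ∧ x ∈ X.basicOpen r := by
    intro x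
    obtain ⟨_, ⟨V, hV, rfl⟩, hxV, -⟩ := S.isBasis_affineOpens.exists_subset_of_mem_open
      (Set.mem_univ (π x)) isOpen_univ
    obtain ⟨_, ⟨_, ⟨r, hr, rfl⟩, rfl⟩, hxr, hle⟩ :=
      (Scheme.IsQuasiAffine.isBasis_basicOpen X).exists_subset_of_mem_open hxV (π ⁻¹ᵁ V).2
    exact ⟨V, r, hV, hr, hle, hxr⟩
  choose V r hV hr hle hxr using hloc
  obtain ⟨F, hF⟩ := isCompact_univ.elim_finite_subcover (fun x : X => (X.basicOpen (r x) : Set X))
    (fun x => (X.basicOpen (r x)).2) (fun x _ => Set.mem_iUnion.mpr ⟨x, hxr x⟩)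
  have hgen : ∀ x : X, ∃ T : Finset Γ(X, ⊤), ∀ R : Subring Γ(X, X.basicOpen (r x)),
      (∀ a, π.appLE (V x) _ (hle x) a ∈ R) →
      (∀ t ∈ insert (r x) T, X.presheaf.map (homOfLE le_top).op t ∈ R) →
      (∀ w : Γ(X, X.basicOpen (r x)), X.presheaf.map (homOfLE le_top).op (r x) * w = 1 → w ∈ R) →
      R = ⊤ := by
    intro x
    letI := (π.appLE (V x) _ (hle x)).hom.toAlgebra
    haveI : Algebra.FiniteType Γ(S, V x) Γ(X, X.basicOpen (r x)) := π.finiteType_appLE (hV x) (hr x) (hle x)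
    obtain ⟨G, hG⟩ := Algebra.FiniteType.out (R := Γ(S, V x)) (A := Γ(X, X.basicOpen (r x)))
    letI : Algebra Γ(X, ⊤) Γ(X, X.basicOpen (r x)) :=
      (X.presheaf.map (homOfLE le_top).op).hom.toAlgebra
    haveI : IsLocalization.Away (r x) Γ(X, X.basicOpen (r x)) :=
      isLocalization_basicOpen_of_qcqs isCompact_univ isQuasiSeparated_univ (r x)
    choose n a ha using fun g : Γ(X, X.basicOpen (r x)) => IsLocalization.Away.surj (r x) g
    refine ⟨G.image a, fun R hA hT hinv => ?_⟩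
    obtain ⟨w, hw⟩ := isUnit_iff_exists_inv.mp (IsLocalization.Away.algebraMap_isUnit (R := Γ(X, ⊤)) (r x) (S := Γ(X, X.basicOpen (r x))))
    have hwR := hinv w hw
    rw [eq_top_iff]
    intro z _
    have hz : z ∈ Algebra.adjoin Γ(S, V x) (G : Set Γ(X, X.basicOpen (r x))) := by rw [hG]; trivial
    induction hz using Algebra.adjoin_induction with
    | mem g hg =>
      have h1 : g = algebraMap Γ(X, ⊤) Γ(X, X.basicOpen (r x)) (a g) * w ^ n g := by
        rw [← ha g, mul_assoc, ← mul_pow, hw, one_pow, mul_one]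
      rw [h1]
      exact R.mul_mem (hT _ (Finset.mem_insert_of_mem (Finset.mem_image_of_mem a hg))) (R.pow_mem hwR _)
    | algebraMap c => exact hA c
    | add a b _ _ ha hb => exact R.add_mem (ha trivial) (hb trivial)
    | mul a b _ _ ha hb => exact R.mul_mem (ha trivial) (hb trivial)
  choose T hT using hgen
  let All : Finset Γ(X, ⊤) := F.biUnion fun x => insert (r x) (T x)
  let v : ULift.{u} (Fin All.card) → Γ(X, ⊤) := fun j => (All.equivFin.symm j.down).1
  have hv : ∀ x ∈ F, ∀ t ∈ insert (r x) (T x), ∃ j, v j = t := fun x hx t ht =>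
    ⟨⟨All.equivFin ⟨t, Finset.mem_biUnion.mpr ⟨x, hx, ht⟩⟩⟩, by simp [v]⟩
  let i : X ⟶ 𝔸(ULift.{u} (Fin All.card); S) := AffineSpace.homOfVector π v
  have hi : i ≫ (𝔸(ULift.{u} (Fin All.card); S) ↘ S) = π := AffineSpace.homOfVector_over ..
  have hicoord : ∀ j, i.appTop (AffineSpace.coord S j) = v j := fun j =>
    AffineSpace.homOfVector_appTop_coord π v j
  have hchart : ∀ x ∈ F, ∃ O : (𝔸(ULift.{u} (Fin All.card); S)).Opens,
      i ⁻¹ᵁ O = X.basicOpen (r x) ∧ IsClosedImmersion (i ∣_ O) := by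
    intro x hx
    obtain ⟨j₀, hj₀⟩ := hv x hx (r x) (Finset.mem_insert_self _ _)
    let P : (𝔸(ULift.{u} (Fin All.card); S)).Opens := (𝔸(ULift.{u} (Fin All.card); S) ↘ S) ⁻¹ᵁ V x
    have hP : IsAffineOpen P := (hV x).preimage _
    let O : (𝔸(ULift.{u} (Fin All.card); S)).Opens := (𝔸(ULift.{u} (Fin All.card); S)).basicOpen
      ((𝔸(ULift.{u} (Fin All.card); S)).presheaf.map (homOfLE le_top).op (AffineSpace.coord S j₀) : Γ(_, P))
    have hOaff : IsAffineOpen O := hP.basicOpen _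
    have hO : O = P ⊓ (𝔸(ULift.{u} (Fin All.card); S)).basicOpen (AffineSpace.coord S j₀) := by
      simp only [O]; rw [Scheme.basicOpen_res]
    have hpre : i ⁻¹ᵁ O = X.basicOpen (r x) := by
      rw [hO, Scheme.Hom.preimage_inf, Scheme.preimage_basicOpen_top, hicoord, hj₀,
        ← Scheme.Hom.comp_preimage, hi]
      exact inf_eq_right.mpr (hle x)
    refine ⟨O, hpre, ?_⟩
    haveI : IsAffine O := hOaff
    haveI : IsAffine (i ⁻¹ᵁ O : X.Opens) := by rw [hpre]; exact hr x
    refine IsClosedImmersion.of_surjective_of_isAffine _ ?_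
    rw [show (i ∣_ O).appTop = (i ∣_ O).app ⊤ from rfl, morphismRestrict_app']
    have h6 : Function.Surjective (i.appLE O (X.basicOpen (r x)) hpre.ge) := by
      rw [← RingHom.range_eq_top]
      have hres : ∀ t, i.appLE O (X.basicOpen (r x)) hpre.ge
          ((𝔸(ULift.{u} (Fin All.card); S)).presheaf.map (homOfLE le_top).op (AffineSpace.coord S t)) =
          X.presheaf.map (homOfLE le_top).op (v t) := fun t => by
        rw [← CommRingCat.comp_apply, Scheme.Hom.map_appLE, ← hicoord t]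
        rfl
      refine hT x _ (fun a => ?_) (fun t ht => ?_) (fun w hw => ?_)
      · refine ⟨(𝔸(ULift.{u} (Fin All.card); S) ↘ S).appLE (V x) O (by rw [hO]; exact inf_le_left) a, ?_⟩
        show ((𝔸(ULift.{u} (Fin All.card); S) ↘ S).appLE (V x) O _ ≫ i.appLE O _ _) a = _
        rw [Scheme.Hom.appLE_comp_appLE]
        simp only [hi]
      · obtain ⟨j, hj⟩ := hv x hx t ht
        exact ⟨_, (hres j).trans (by rw [hj])⟩
      · have hu : IsUnit ((𝔸(ULift.{u} (Fin All.card); S)).presheaf.map (homOfLE (le_top : O ≤ ⊤)).op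
            (AffineSpace.coord S j₀)) := by
          have h := (𝔸(ULift.{u} (Fin All.card); S)).toRingedSpace.isUnit_res_basicOpen
            ((𝔸(ULift.{u} (Fin All.card); S)).presheaf.map (homOfLE le_top).op (AffineSpace.coord S j₀) : Γ(_, P))
          rw [← CommRingCat.comp_apply, ← Functor.map_comp] at h
          exact h
        obtain ⟨c, hc⟩ := isUnit_iff_exists_inv.mp hu
        refine ⟨c, ?_⟩
        have h7 : (i.appLE O (X.basicOpen (r x)) hpre.ge) _ * (i.appLE O (X.basicOpen (r x)) hpre.ge) c = 1 :=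
          ((map_mul _ _ _).symm.trans (congrArg _ hc)).trans (map_one _)
        rw [hres j₀, hj₀] at h7
        exact (left_inv_eq_right_inv (by rw [mul_comm]; exact h7) hw)
    have e2 : (i ⁻¹ᵁ O).ι ''ᵁ ((i ∣_ O) ⁻¹ᵁ ⊤) = X.basicOpen (r x) := by simp [hpre]
    exact (Scheme.Hom.appLE_congr i _ (by simp) e2 (fun φ => Function.Surjective φ.hom)).2 h6
  choose O hOpre hOcl using hchart
  let Ω : (𝔸(ULift.{u} (Fin All.card); S)).Opens := ⨆ x : {x // x ∈ F}, O x.1 x.2
  have hΩ : i ⁻¹ᵁ Ω = ⊤ := by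
    rw [eq_top_iff]
    intro z _
    obtain ⟨x, hx, hzx⟩ := Set.mem_iUnion₂.mp (hF (Set.mem_univ z))
    exact TopologicalSpace.Opens.mem_iSup.mpr
      ⟨⟨x, hx⟩, show z ∈ i ⁻¹ᵁ O x hx by rw [hOpre]; exact hzx⟩
  haveI : IsClosedImmersion (i ∣_ Ω) := by
    refine IsZariskiLocalAtTarget.of_iSup_eq_top (P := @IsClosedImmersion)
      (fun x : {x // x ∈ F} => Ω.ι ⁻¹ᵁ O x.1 x.2) ?_ fun x => ?_
    · rw [← Scheme.Hom.preimage_iSup, Scheme.Opens.ι_preimage_self]
    · exact (MorphismProperty.arrow_mk_iso_iff @IsClosedImmersion (morphismRestrictRestrict i _ _ ≪≫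
        eqToIso (by rw [Scheme.Hom.image_preimage_eq_opensRange_inf, Scheme.Opens.opensRange_ι,
          inf_eq_right.mpr (le_iSup (fun x : {x // x ∈ F} => O x.1 x.2) x)]))).mpr (hOcl x.1 x.2)
  refine ⟨All.card, i, ?_, hi⟩
  have he : i = (Scheme.topIso X).inv ≫ (Scheme.isoOfEq X hΩ.symm).hom ≫ (i ∣_ Ω) ≫ Ω.ι := by
    simp [morphismRestrict_ι]
  rw [he]
  infer_instance

end Groth.Agent.S9698
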