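import Groth.Statements.S9700
import Groth.Agent.L18.ValCrit2

set_option autoImplicit false
set_option backward.isDefEq.respectTransparency.types false
set_option backward.isDefEq.respectTransparency false
universe u
open CategoryTheory CategoryTheory.Limits AlgebraicGeometry
open Mor

namespace Groth.Agent.S9700

/-- Let f : X ⟶ S and h : U ⟶ X be quasi-compact with h(U) dense in X. Suppose each valuative square
over f, whose map Spec K ⟶ X factors through h, has a unique diagonal lift. Then f is universally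
closed, and f is also separated provided it is quasi-separated. -/
theorem result {U X S : Scheme.{u}} (f : X ⟶ S) (h : U ⟶ X)
    [QuasiCompact f] [QuasiCompact h] (hd : DenseRange h.base)
    (H : ∀ sq : ValuativeCommSq f, (∃ i : Spec (.of sq.K) ⟶ U, i ≫ h = sq.i₁) →
      Nonempty (Unique sq.commSq.LiftStruct)) :
    UniversallyClosed f ∧ (QuasiSeparated f → IsSeparated f) := by
  have huniq : ∀ (z : U) (R : ValuationSubring (U.residueField z))
      (φ₁ φ₂ : Spec (CommRingCat.of R) ⟶ X),
      Spec.map (CommRingCat.ofHom R.subtype) ≫ φ₁ = U.fromSpecResidueField z ≫ h →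
      Spec.map (CommRingCat.ofHom R.subtype) ≫ φ₂ = U.fromSpecResidueField z ≫ h →
      φ₁ ≫ f = φ₂ ≫ f → φ₁ = φ₂ := by
    intro z R φ₁ φ₂ e₁ e₂ e
    obtain ⟨hu⟩ := H { R := R, K := U.residueField z, i₁ := (U.fromSpecResidueField z ≫ h), i₂ := φ₁ ≫ f, commSq := ⟨by rw [← e₁, Category.assoc]; rfl⟩ } ⟨(U.fromSpecResidueField z :), rfl⟩
    exact congrArg CommSq.LiftStruct.l
      (Subsingleton.elim (α := CommSq.LiftStruct _) ⟨φ₁, e₁, rfl⟩ ⟨φ₂, e₂, e.symm⟩)
  refine ⟨.of_valuativeCriterion f (Groth.L18.existence_of_residueField f fun y V φ w => ?_),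
    fun _ => .of_valuativeCriterion f (Groth.L18.uniqueness_of_residueField f
      fun y V l₁ l₂ e e₁ e₂ => ?_)⟩
  · obtain ⟨z, hz⟩ := Groth.L18.exists_specializes_of_denseRange h hd y
    refine Groth.L18.exists_lift_of_refined h f hz (fun R φ' w' => ?_) (huniq z) V φ w
    obtain ⟨hu⟩ := H { R := R, K := U.residueField z, i₁ := (U.fromSpecResidueField z ≫ h), i₂ := φ', commSq := ⟨(Category.assoc _ _ _).trans w'.symm⟩ } ⟨U.fromSpecResidueField z, rfl⟩
    exact ⟨hu.default.l, hu.default.fac_left, hu.default.fac_right⟩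
  · obtain ⟨z, hz⟩ := Groth.L18.exists_specializes_of_denseRange h hd y
    exact Groth.L18.ext_of_refined h f hz (huniq z) V l₁ l₂ e e₁ e₂

end Groth.Agent.S9700
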