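import Groth.Statements.S9701
import Groth.Agent.L19.ExtendValuation

set_option autoImplicit false
set_option backward.isDefEq.respectTransparency.types false
set_option backward.isDefEq.respectTransparency false
set_option linter.style.haveILetI false
universe u
open CategoryTheory CategoryTheory.Limits AlgebraicGeometry
open Mor

namespace Groth.Agent.S9701

/-- Let p : X ⟶ S and q : Y ⟶ S with q proper, let x be a point of X whose local ring is a valuation
ring, U ⊆ X an open with x in the closure of U, and f : U ⟶ Y a morphism over S. Assume that X is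
Noetherian, or else that X is reduced and has only finitely many irreducible components. Then there
are an open U' of X containing U and x and a morphism f' : U' ⟶ Y over S extending f. -/
theorem result {X Y S : Scheme.{u}} (p : X ⟶ S) (q : Y ⟶ S)
    [IsProper q] (x : X) (U : X.Opens) (f : (U : Scheme.{u}) ⟶ Y) (hf : f ≫ q = U.ι ≫ p)
    (hx : x ∈ closure (U : Set ↥X))
    (hX : (IsReduced X ∧ (irreducibleComponents ↥X).Finite) ∨ IsNoetherian X)
    (hdom : IsDomain (X.presheaf.stalk x)) (hval : @ValuationRing (X.presheaf.stalk x) _ hdom) :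
    ∃ (U' : X.Opens) (hUU' : U ≤ U'), x ∈ U' ∧
      ∃ f' : (U' : Scheme.{u}) ⟶ Y, f' ≫ q = U'.ι ≫ p ∧ X.homOfLE hUU' ≫ f' = f := by
  haveI := hdom
  haveI : X.IsGermInjectiveAt x := by
    rcases hX with ⟨hr, hfin⟩ | hn
    · haveI := hr
      exact Groth.L19.GenericIso.isGermInjectiveAt_of_finite hfin x
    · haveI := hn
      infer_instance
  obtain ⟨W, hxW, hW, hinj⟩ := X.exists_germ_injective x
  haveI : IsDomain Γ(X, W) := Function.Injective.isDomain (X.presheaf.germ W x hxW).hom hinj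
  haveI : Nonempty W.toScheme := ⟨⟨x, hxW⟩⟩
  haveI : IsIntegral (Spec Γ(X, W)) := inferInstance
  haveI : IsIntegral W.toScheme := isIntegral_of_isOpenImmersion hW.isoSpec.hom
  let z : W.toScheme := ⟨x, hxW⟩
  haveI : IsDomain (W.toScheme.presheaf.stalk z) :=
    Function.Injective.isDomain (W.stalkIso z).hom.hom
      (ConcreteCategory.bijective_of_isIso (W.stalkIso z).hom).1
  haveI : ValuationRing (W.toScheme.presheaf.stalk z) := by
    haveI : ValuationRing (X.presheaf.stalk x) := hval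
    exact Function.Surjective.valuationRing (R := X.presheaf.stalk x) (W.stalkIso z).inv.hom
      (ConcreteCategory.bijective_of_isIso (W.stalkIso z).inv).2
  have hηU : genericPoint W.toScheme ∈ W.ι ⁻¹ᵁ U := by
    obtain ⟨w, hwW, hwU⟩ := mem_closure_iff.mp hx W W.isOpen hxW
    exact (genericPoint_specializes (α := W.toScheme) (show W.toScheme from ⟨w, hwW⟩)).mem_open (W.ι ⁻¹ᵁ U).isOpen hwU
  obtain ⟨V, g, hzV, hg, hUV⟩ := Groth.L19.ExtendValuation.exists_extension (W.ι ≫ p) q z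
    (W.ι ⁻¹ᵁ U) hηU ((W.ι ∣_ U) ≫ f) (by rw [Category.assoc, hf, morphismRestrict_ι_assoc])
  let U' : X.Opens := U ⊔ W.ι ''ᵁ V
  have hUU' : U ≤ U' := le_sup_left
  let j : V.toScheme ⟶ U' := (W.ι.isoImage V).hom ≫ X.homOfLE le_sup_right
  have hj : j ≫ U'.ι = V.ι ≫ W.ι := by simp [j]
  haveI : IsOpenImmersion j := inferInstance
  have hagree : ∀ {T : Scheme.{u}} (v : T ⟶ U.toScheme) (w : T ⟶ V.toScheme),
      v ≫ X.homOfLE hUU' = w ≫ j → v ≫ f = w ≫ g := by
    intro T v w h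
    have h' := congrArg (· ≫ U'.ι) h
    simp only [Category.assoc, Scheme.homOfLE_ι, hj] at h'
    have hrange : Set.range (w ≫ V.ι) ⊆ Set.range (W.ι ⁻¹ᵁ U ⊓ V).ι := by
      rintro _ ⟨t, rfl⟩
      rw [Scheme.Opens.range_ι]
      refine ⟨?_, (w t).2⟩
      show W.ι ((w ≫ V.ι) t) ∈ U
      have h'' := congr($h' t)
      simp only [Scheme.Hom.comp_apply] at h'' ⊢
      rw [← h'']
      exact (v t).2
    let k := IsOpenImmersion.lift (W.ι ⁻¹ᵁ U ⊓ V).ι (w ≫ V.ι) hrange
    have hk : k ≫ (W.ι ⁻¹ᵁ U ⊓ V).ι = w ≫ V.ι := IsOpenImmersion.lift_fac ..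
    have hkw : k ≫ W.toScheme.homOfLE (inf_le_right : W.ι ⁻¹ᵁ U ⊓ V ≤ V) = w := by
      rw [← cancel_mono V.ι, Category.assoc, Scheme.homOfLE_ι, hk]
    have hkv : k ≫ W.toScheme.homOfLE (inf_le_left : W.ι ⁻¹ᵁ U ⊓ V ≤ W.ι ⁻¹ᵁ U) ≫ (W.ι ∣_ U) = v := by
      rw [← cancel_mono U.ι, Category.assoc, Category.assoc, morphismRestrict_ι,
        Scheme.homOfLE_ι_assoc, reassoc_of% hk, h']
    have h3 := congrArg (k ≫ ·) hUV
    simp only [← Category.assoc] at h3 hkv
    rwa [hkw, hkv] at h3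
  obtain ⟨f', ⟨h₁, h₂⟩, -⟩ := Groth.L09.Quillen.glue_two (X.homOfLE hUU') j (fun a => by
    rcases a.2 with ha | ha
    · exact Or.inl ⟨⟨a.1, ha⟩, Subtype.ext (Scheme.homOfLE_apply ..)⟩
    · obtain ⟨v, hv, hva⟩ := ha
      exact Or.inr ⟨⟨v, hv⟩, Subtype.ext ((congr($hj ⟨v, hv⟩)).trans hva)⟩) f g hagree
  refine ⟨U', hUU', Or.inr ⟨z, hzV, rfl⟩, f', ?_, h₁⟩
  · refine (Groth.L09.Quillen.glue_two (X.homOfLE hUU') j ?_ (U.ι ≫ p) (V.ι ≫ W.ι ≫ p) ?_).unique
      ⟨?_, ?_⟩ ⟨?_, ?_⟩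
    · intro a
      rcases a.2 with ha | ha
      · exact Or.inl ⟨⟨a.1, ha⟩, Subtype.ext (Scheme.homOfLE_apply ..)⟩
      · obtain ⟨v, hv, hva⟩ := ha
        exact Or.inr ⟨⟨v, hv⟩, Subtype.ext ((congr($hj ⟨v, hv⟩)).trans hva)⟩
    · intro T v w h
      have h' := congrArg (· ≫ U'.ι ≫ p) h
      simp only [Category.assoc, Scheme.homOfLE_ι_assoc, reassoc_of% hj] at h'
      exact h'
    · rw [← Category.assoc, h₁, hf]
    · rw [← Category.assoc, h₂, hg]
    · rw [Scheme.homOfLE_ι_assoc]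
    · rw [reassoc_of% hj]

end Groth.Agent.S9701
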