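import Groth.Statements.S9702
import Groth.Agent.L19.GenericFinite

set_option autoImplicit false
set_option backward.isDefEq.respectTransparency.types false
set_option backward.isDefEq.respectTransparency false
set_option linter.style.haveILetI false
universe u
open CategoryTheory CategoryTheory.Limits AlgebraicGeometry
open Mor

namespace Groth.Agent.S9702

/-- Let X, Y be integral and f : X ⟶ Y dominant and locally of finite type, with ξ the generic point of
X (so f ξ is the generic point of Y). Then the following are equivalent: the residue field of ξ is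
finite over that of f ξ; some nonempty affine opens U ⊆ X and V ⊆ Y with f(U) ⊆ V have U ⟶ V finite;
every point of X that f sends to the generic point of Y equals ξ. Under the extra assumption that f
is quasi-compact or separated, these are also equivalent to: f⁻¹(V) ⟶ V is finite for some nonempty
affine open V ⊆ Y. (The published statement also lists transcendence degree 0 of the function field
extension, which for this finitely generated extension is equivalent to finiteness; this row omits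
it.) -/
theorem result {X Y : Scheme.{u}} [IsIntegral X] [IsIntegral Y] (f : X ⟶ Y)
    [IsDominant f] [LocallyOfFiniteType f] :
    let ξ := genericPoint ↥X
    let A := letI := (f.residueFieldMap ξ).hom.toAlgebra
      Module.Finite (Y.residueField (f.base ξ)) (X.residueField ξ)
    let B := ∃ (U : X.Opens) (V : Y.Opens) (hUV : U ≤ f ⁻¹ᵁ V), IsAffineOpen U ∧ IsAffineOpen V ∧
      Nonempty ↥U ∧ IsFinite (f.resLE V U hUV)
    let C := ∀ x : X, f.base x = genericPoint ↥Y → x = ξ
    let D := ∃ V : Y.Opens, IsAffineOpen V ∧ Nonempty ↥V ∧ IsFinite (f ∣_ V)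
    (A ↔ B) ∧ (A ↔ C) ∧ (IsSeparated f ∨ QuasiCompact f → (A ↔ D)) := by
  have hξ : f (genericPoint X) = genericPoint Y := ((genericPoint_spec X).image f.continuous).eq (by
    rw [Set.image_univ, f.denseRange.closure_range]; exact genericPoint_spec Y)
  intro ξ A B C D
  have hAC : A → C := fun hA x hx => Groth.L19.GenericFinite.eq_genericPoint_of_finite f hξ hA hx
  have hfib : C → (f ⁻¹' {genericPoint Y}).Finite := fun hC =>
    (Set.finite_singleton ξ).subset fun x hx => hC x hx
  have hmin : ∀ y : Y, y ⤳ genericPoint Y → y = genericPoint Y := fun y hy =>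
    (hy.antisymm (genericPoint_specializes y)).eq
  have hCA : C → A := fun hC => Groth.L19.GenericFinite.finite_residueField_of_quasiFiniteAt f hξ
    (Groth.L19.GenericFinite.quasiFiniteAt_of_finite_fibre f _ (by rw [hξ]; exact hfib hC))
  have hCB : C → B := fun hC => by
    obtain ⟨_, ⟨V₁, hV₁, rfl⟩, hηV, -⟩ := Y.isBasis_affineOpens.exists_subset_of_mem_open
      (Set.mem_univ (f ξ)) isOpen_univ
    obtain ⟨_, ⟨U, hU, rfl⟩, hξU, hUV⟩ :=
      X.isBasis_affineOpens.exists_subset_of_mem_open hηV (f ⁻¹ᵁ V₁).2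
    change X.Opens at U
    change Y.Opens at V₁
    change U ≤ f ⁻¹ᵁ V₁ at hUV
    haveI : IsAffine U := hU
    haveI : IsAffine V₁ := hV₁
    let g := f.resLE V₁ U hUV
    haveI : QuasiCompact g := inferInstance
    have hgc : g ≫ V₁.ι = U.ι ≫ f := Scheme.Hom.resLE_comp_ι ..
    have hmin' : ∀ y : V₁.toScheme, y ⤳ g ⟨ξ, hξU⟩ → y = g ⟨ξ, hξU⟩ := fun y hy => by
      apply V₁.ι.isEmbedding.injective
      have h1 : V₁.ι (g ⟨ξ, hξU⟩) = f ξ := by
        rw [← Scheme.Hom.comp_apply, hgc]; rfl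
      have h2 := hy.map V₁.ι.continuous
      rw [h1] at h2 ⊢
      exact (hmin _ (h2.trans (specializes_of_eq hξ))).trans hξ.symm
    have hfin' : (g ⁻¹' {g ⟨ξ, hξU⟩}).Finite := by
      refine (Set.finite_singleton (⟨ξ, hξU⟩ : U.toScheme)).subset fun a ha => ?_
      apply U.ι.isEmbedding.injective
      have h1 : f (U.ι a) = f ξ := by
        have := congrArg V₁.ι (show g a = g ⟨ξ, hξU⟩ from ha)
        rwa [← Scheme.Hom.comp_apply, ← Scheme.Hom.comp_apply, hgc] at this
      exact hC _ (h1.trans hξ)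
    obtain ⟨W, hW, hξW, hWf⟩ := Groth.L19.GenericFinite.exists_affine_nhd_isFinite g hmin' hfin' ⊤
      (isAffineOpen_top _) (Set.subset_univ _)
    have hg' : IsFinite (f.resLE (V₁.ι ''ᵁ W) (U.ι ''ᵁ (g ⁻¹ᵁ W)) (fun z hz => by
        obtain ⟨a, ha, rfl⟩ := hz
        exact ⟨g a, ha, congr($hgc a)⟩)) := by
      refine (MorphismProperty.arrow_mk_iso_iff @IsFinite ?_).mp hWf
      refine Arrow.isoMk (U.ι.isoImage _) (V₁.ι.isoImage _) ?_
      rw [← cancel_mono (V₁.ι ''ᵁ W).ι]
      simp only [Arrow.mk_left, Arrow.mk_right, Arrow.mk_hom, Category.assoc,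
        Scheme.Hom.resLE_comp_ι, Scheme.Hom.isoImage_hom_ι, Scheme.Hom.isoImage_hom_ι_assoc,
        morphismRestrict_ι_assoc, hgc]
    refine ⟨_, _, _, (hW.preimage g).image_of_isOpenImmersion U.ι,
      hW.image_of_isOpenImmersion V₁.ι, ⟨⟨ξ, ⟨ξ, hξU⟩, hξW, rfl⟩⟩, hg'⟩
  have hBA : B → A := fun ⟨U, V, hUV, hU, hV, hne, hfin⟩ => by
    haveI := hfin
    have hξU : ξ ∈ U := ((genericPoint_spec X).mem_open_set_iff U.isOpen).mpr
      (by obtain ⟨z, hz⟩ := hne; exact ⟨z, trivial, hz⟩)
    refine Groth.L19.GenericFinite.finite_residueField_of_quasiFiniteAt f hξ ?_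
    have h1 : (f.resLE V U hUV ≫ V.ι).QuasiFiniteAt ⟨ξ, hξU⟩ :=
      Scheme.Hom.quasiFiniteAt_comp_iff.mpr (Scheme.Hom.quasiFiniteAt _ _)
    rw [Scheme.Hom.resLE_comp_ι, Scheme.Hom.quasiFiniteAt_comp_iff_of_isOpenImmersion] at h1
    exact h1
  refine ⟨⟨fun hA => hCB (hAC hA), hBA⟩, ⟨hAC, hCA⟩, fun hsq => ⟨fun hA => ?_, fun hD => ?_⟩⟩
  · rcases hsq with hsep | hqc
    · haveI : IsSeparated f := hsep
      obtain ⟨U, V, hUV, hU, hV, hne, hfin⟩ := hCB (hAC hA)
      haveI := hfin
      obtain ⟨z, hz⟩ := hne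
      haveI : Nonempty (f ⁻¹ᵁ V).toScheme := ⟨⟨z, hUV hz⟩⟩
      haveI : IsIntegral (f ⁻¹ᵁ V).toScheme := isIntegral_of_isOpenImmersion (f ⁻¹ᵁ V).ι
      let j := X.homOfLE hUV
      haveI : IsFinite (j ≫ (f ∣_ V)) := hfin
      haveI : IsFinite j := MorphismProperty.of_postcomp (W := @IsFinite) (W' := @IsSeparated) j
        (f ∣_ V) inferInstance inferInstance
      have hsurj : Set.range j = Set.univ :=
        (IsClopen.eq_univ ⟨j.isClosedMap.isClosed_range, j.isOpenEmbedding.isOpen_range⟩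
          ⟨j ⟨z, hz⟩, _, rfl⟩)
      haveI : Surjective j := ⟨Set.range_eq_univ.mp hsurj⟩
      haveI : IsIso j :=
        (isIso_iff_isOpenImmersion_and_surjective j).mpr ⟨inferInstance, inferInstance⟩
      exact ⟨V, hV, ⟨⟨f z, hUV hz⟩⟩,
        (MorphismProperty.cancel_left_of_respectsIso @IsFinite j (f ∣_ V)).mp hfin⟩
    · haveI : QuasiCompact f := hqc
      obtain ⟨_, ⟨U, hU, rfl⟩, hξU, -⟩ := X.isBasis_affineOpens.exists_subset_of_mem_open
        (Set.mem_univ ξ) isOpen_univ
      obtain ⟨V, hV, hηV, hVf⟩ := Groth.L19.GenericFinite.exists_affine_nhd_isFinite f hmin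
        (hfib (hAC hA)) U hU fun x hx => by rw [hAC hA x hx]; exact hξU
      exact ⟨V, hV, ⟨⟨_, hηV⟩⟩, hVf⟩
  · obtain ⟨V, hV, hne, hfin⟩ := hD
    haveI := hfin
    have hξV : f ξ ∈ V := by
      rw [hξ]
      exact ((genericPoint_spec Y).mem_open_set_iff V.isOpen).mpr
        (by obtain ⟨v, hv⟩ := hne; exact ⟨v, trivial, hv⟩)
    refine hBA ⟨f ⁻¹ᵁ V, V, le_rfl, (haveI : IsAffine V := hV; isAffine_of_isAffineHom (f ∣_ V)), hV, ⟨⟨ξ, hξV⟩⟩, ?_⟩
    rw [Scheme.Hom.resLE_eq_morphismRestrict]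
    exact hfin

end Groth.Agent.S9702
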