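import Groth.Statements.S9706
import Groth.Agent.L18.PBundle.FTProj


set_option autoImplicit false
universe u
open CategoryTheory CategoryTheory.Limits AlgebraicGeometry
open Mor

namespace Groth.Agent.S9706

/-- Let S be quasi-compact and quasi-separated and f : X ⟶ S quasi-projective. Then f factors as an open
immersion X ⟶ X' followed by a projective morphism X' ⟶ S. Here X' ⟶ S projective means isomorphic
over S to the relative Proj of a quasi-coherent graded algebra generated by its finite-type
degree-one part; the published definition uses closed subschemes of P(E) with E of finite type, an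
equivalent condition. -/
theorem result {X S : Scheme.{u}} [CompactSpace ↥S]
    [QuasiSeparatedSpace ↥S] (f : X ⟶ S) (hf : RelProj.IsQuasiProjective f) :
    ∃ (X' : Scheme.{u}) (j : X ⟶ X') (g : X' ⟶ S), IsOpenImmersion j ∧ RelProj.IsProjective g ∧ j ≫ g = f := by
  obtain ⟨h1, h2, L, hL, hva⟩ :=
    Groth.L18.PBundle.exists_isRelVeryAmple_of_isQuasiProjective f hf
  haveI := h1
  haveI := h2
  obtain ⟨𝒮, P, p, chart, O1, lam, i, hgen, hft, hP, -, hi, -, hip, -⟩ :=
    Groth.L18.PBundle.exists_openDense f hL hva
  exact ⟨P, i, p, hi, ⟨𝒮, P, p, chart, Iso.refl P, hgen, hft, hP, Category.id_comp p⟩, hip⟩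


end Groth.Agent.S9706
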