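import Groth.Statements.S9712
import Groth.Agent.L18.RelAmpleOps
import Groth.Agent.L18.AmpleOps
import Groth.Agent.L18.ChowExtra
import Groth.Agent.S4414


set_option autoImplicit false
universe u
open CategoryTheory CategoryTheory.Limits AlgebraicGeometry
open Mor

namespace Groth.Agent.S9712

theorem isPullback_restrict {X S : Scheme.{u}} (f : X ⟶ S) {W U : S.Opens} (h : W ≤ U) :
    IsPullback (X.homOfLE (f.preimage_mono h)) (f ∣_ W) (f ∣_ U) (S.homOfLE h) := by
  have h2 : IsPullback (f ⁻¹ᵁ U).ι (f ∣_ U) f U.ι := (isPullback_morphismRestrict f U).flip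
  refine IsPullback.of_right ?_ ?_ h2
  · rw [Scheme.homOfLE_ι, Scheme.homOfLE_ι]
    exact (isPullback_morphismRestrict f W).flip
  · rw [← cancel_mono U.ι, Category.assoc, morphismRestrict_ι, Scheme.homOfLE_ι_assoc, Category.assoc,
      Scheme.homOfLE_ι, morphismRestrict_ι]

/-- A morphism f : X ⟶ S is locally quasi-projective (S is covered by opens U with f⁻¹(U) ⟶ U
quasi-projective) if and only if S is covered by opens U such that f⁻¹(U) ⟶ U is H-quasi-projective
(a quasi-compact immersion into some P^n_U followed by the projection). -/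
theorem result {X S : Scheme.{u}} (f : X ⟶ S) :
    (∀ s : S, ∃ U : S.Opens, s ∈ U ∧ RelProj.IsQuasiProjective (f ∣_ U)) ↔
      (∀ s : S, ∃ U : S.Opens, s ∈ U ∧ RelProj.IsHQuasiProjective (f ∣_ U)) := by
  constructor
  · intro hf s
    obtain ⟨U, hU, hlft, hqc, L, hL⟩ := hf s
    obtain ⟨W, hW, hsW, hWU⟩ := TopologicalSpace.Opens.isBasis_iff_nbhd.mp S.isBasis_affineOpens hU
    refine ⟨W, hsW, ?_⟩
    haveI : IsAffine W := hW
    haveI := hlft
    haveI := hqc
    obtain ⟨_, hqc', r, i, hi, hif⟩ := (Groth.Agent.S4414.result ⟨_, Groth.L18.Ample.isAmple_structureModule⟩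
      (pullback.snd (f ∣_ U) (S.homOfLE hWU))).1
      ⟨inferInstance, inferInstance, _, Groth.L18.Ample.isRelAmple_baseChange _ _ hL⟩
    haveI : QuasiCompact i := by
      haveI : QuasiCompact (i ≫ CohB1.ProjSpaceOver.toBase r W) := by rw [hif]; exact hqc'
      exact QuasiCompact.of_comp i (CohB1.ProjSpaceOver.toBase r W)
    haveI := hi
    refine ⟨r, (isPullback_restrict f hWU).isoPullback.hom ≫ i, inferInstance, inferInstance, ?_⟩
    rw [Category.assoc, hif]
    exact (isPullback_restrict f hWU).isoPullback_hom_snd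
  · intro h s
    obtain ⟨U, hU, hp⟩ := h s
    exact ⟨U, hU, Groth.L18.ChowExtra.isQuasiProjective_of_isHQuasiProjective hp⟩

end Groth.Agent.S9712
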