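import Groth.Statements.S9713
import Groth.Agent.L18.ProjAlg.BaseChange
import Mathlib.AlgebraicGeometry.Morphisms.Basic


set_option autoImplicit false
universe u
open CategoryTheory CategoryTheory.Limits AlgebraicGeometry
open Mor

namespace Groth.Agent.S9713

/-- A base change of a locally projective morphism (every point of the base has an open neighbourhood U
with f⁻¹(U) ⟶ U projective) is locally projective. Here f⁻¹(U) ⟶ U projective means isomorphic over
U to the relative Proj of a quasi-coherent graded algebra generated by its finite-type degree-one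
part; the published definition uses closed subschemes of P(E) with E of finite type, an equivalent
condition. -/
theorem result {X S S' : Scheme.{u}} (f : X ⟶ S) (hf : RelProj.IsLocallyProjective f)
    (g : S' ⟶ S) : RelProj.IsLocallyProjective (pullback.snd f g) := by
  intro t
  obtain ⟨U, hU, hproj⟩ := hf (g.base t)
  refine ⟨g ⁻¹ᵁ U, hU, ?_⟩
  have h0 := Groth.L18.PullGrade.isProjective_baseChange (f ∣_ U) hproj (g ∣_ U)
  have h2 : IsPullback (f ⁻¹ᵁ U).ι (f ∣_ U) f U.ι := (isPullback_morphismRestrict f U).flip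
  have h1 : IsPullback (((pullback.snd f g) ⁻¹ᵁ (g ⁻¹ᵁ U)).ι ≫ pullback.fst f g)
      (pullback.snd f g ∣_ (g ⁻¹ᵁ U)) f ((g ∣_ U) ≫ U.ι) := by
    rw [morphismRestrict_ι]
    exact (isPullback_morphismRestrict (pullback.snd f g) (g ⁻¹ᵁ U)).flip.paste_horiz
      (IsPullback.of_hasPullback f g)
  have w : (((pullback.snd f g) ⁻¹ᵁ (g ⁻¹ᵁ U)).ι ≫ pullback.fst f g) ≫ f =
      ((pullback.snd f g ∣_ (g ⁻¹ᵁ U)) ≫ (g ∣_ U)) ≫ U.ι := by
    rw [Category.assoc _ (g ∣_ U)]; exact h1.w
  have h3 : IsPullback (h2.lift _ _ w) (pullback.snd f g ∣_ (g ⁻¹ᵁ U)) (f ∣_ U) (g ∣_ U) :=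
    IsPullback.of_right (by rw [h2.lift_fst]; exact h1) (h2.lift_snd _ _ w) h2
  obtain ⟨𝒮, P, p, chart, e, hgen, hft, hP, hef⟩ := h0
  refine ⟨𝒮, P, p, chart, h3.isoPullback ≪≫ e, hgen, hft, hP, ?_⟩
  rw [Iso.trans_hom, Category.assoc, hef]
  exact h3.isoPullback_hom_snd

end Groth.Agent.S9713
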