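import Groth.Statements.S9714
import Groth.Agent.S0658

set_option autoImplicit false
set_option backward.isDefEq.respectTransparency.types false
set_option backward.isDefEq.respectTransparency false
set_option linter.style.haveILetI false
universe u
open CategoryTheory CategoryTheory.Limits AlgebraicGeometry
open Mor

namespace Groth.Agent.S9714

/-- Let k be a field and X a scheme over k. The structure morphism X ⟶ Spec k is unramified (formally
unramified and locally of finite type) if and only if X is isomorphic over k to a disjoint union of
spectra of finite separable field extensions of k. -/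
theorem result (k : Type u) [Field k] {X : Scheme.{u}}
    (f : X ⟶ Spec (CommRingCat.of k)) :
    (FormallyUnramified f ∧ LocallyOfFiniteType f) ↔
      ∃ (ι : Type u) (K : ι → Type u) (_ : ∀ i, Field (K i)) (_ : ∀ i, Algebra k (K i)),
        (∀ i, FiniteDimensional k (K i) ∧ Algebra.IsSeparable k (K i)) ∧
        ∃ e : X ≅ ∐ (fun i => Spec (CommRingCat.of (K i))),
          e.hom ≫ Sigma.desc (fun i => Spec.map (CommRingCat.ofHom (algebraMap k (K i)))) = f := by
  constructor
  · rintro ⟨hfu, hft⟩
    haveI := hfu
    haveI := hft
    haveI : Subsingleton (Spec (CommRingCat.of k)) := inferInstanceAs (Subsingleton (PrimeSpectrum k))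
    haveI : LocallyOfFinitePresentation f := by infer_instance
    have he : Etale f := Etale.of_formallyUnramified_of_flat f
    obtain ⟨ι, K, _, _, h1, h2, e, he'⟩ := (Groth.Agent.S0658.result k X f).1 he
    refine ⟨ι, K, inferInstance, inferInstance, fun i => ⟨h1 i, h2 i⟩, e.symm, ?_⟩
    rw [Iso.symm_hom, Iso.inv_comp_eq]
    exact Sigma.hom_ext _ _ fun i => by rw [Sigma.ι_desc]; exact (he' i).symm
  · rintro ⟨ι, K, _, _, hK, e, he⟩
    have he' : Etale f := by
      refine (Groth.Agent.S0658.result k X f).2
        ⟨ι, K, inferInstance, inferInstance, fun i => (hK i).1, fun i => (hK i).2, e.symm, fun i => ?_⟩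
      rw [← he]
      simp
    exact ⟨inferInstance, inferInstance⟩

end Groth.Agent.S9714
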