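import Groth.Statements.S9715
import Groth.Agent.L07.PrinParts.Affine
import Groth.Agent.L07.PrinParts.Mod
import Groth.Agent.L14.PPFactor
import Groth.Agent.L16.HomSh.Basic

set_option autoImplicit false
set_option linter.style.haveILetI false
universe u
open CategoryTheory CategoryTheory.Limits AlgebraicGeometry
open Opposite
open Mor

namespace Groth.Agent.S9715

/-- Let f : X ⟶ S be a morphism of affine schemes, R = Γ(S, O_S) → A = Γ(X, O_X) the corresponding ring
map, F a quasi-coherent O_X-module and G an O_X-module, with global sections M and N. Every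
differential operator M → N of order at most k relative to A over R is induced on global sections by
a differential operator F → G of order at most k relative to X over S. (The published statement
asserts that D ↦ Γ(X, D) is a bijection between the two sets of operators of order at most k; its
injectivity is not verified in the published proof and is not claimed here. Differential operators
on X/S are taken in the principal-parts sense, those of A/R in the commutator sense.) -/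
theorem result {X S : Scheme.{u}} [IsAffine X] [IsAffine S] (f : X ⟶ S)
    (F G : X.Modules) (hF : Coh.IsQCoh F) (k : ℕ) :
    letI : Algebra Γ(S, ⊤) Γ(X, ⊤) := f.appTop.hom.toAlgebra
    letI : Module Γ(S, ⊤) Γ(F, ⊤) := Module.compHom Γ(F, ⊤) f.appTop.hom
    letI : Module Γ(S, ⊤) Γ(G, ⊤) := Module.compHom Γ(G, ⊤) f.appTop.hom
    haveI : IsScalarTower Γ(S, ⊤) Γ(X, ⊤) Γ(F, ⊤) := IsScalarTower.of_algebraMap_smul fun _ _ => rfl
    haveI : IsScalarTower Γ(S, ⊤) Γ(X, ⊤) Γ(G, ⊤) := IsScalarTower.of_algebraMap_smul fun _ _ => rfl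
    ∀ D' : Γ(F, ⊤) →ₗ[Γ(S, ⊤)] Γ(G, ⊤), Diff16.IsDiffOpLE Γ(S, ⊤) Γ(X, ⊤) Γ(F, ⊤) Γ(G, ⊤) k D' →
      ∃ D : F.presheaf ⟶ G.presheaf, PrinPart.IsDiffOpLE f F G k D ∧
        ∀ m : Γ(F, ⊤), (D.app (op ⊤)).hom m = D' m := by
  letI : Algebra Γ(S, ⊤) Γ(X, ⊤) := f.appTop.hom.toAlgebra
  letI : Module Γ(S, ⊤) Γ(F, ⊤) := Module.compHom Γ(F, ⊤) f.appTop.hom
  letI : Module Γ(S, ⊤) Γ(G, ⊤) := Module.compHom Γ(G, ⊤) f.appTop.hom
  haveI : IsScalarTower Γ(S, ⊤) Γ(X, ⊤) Γ(F, ⊤) := IsScalarTower.of_algebraMap_smul fun _ _ => rfl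
  haveI : IsScalarTower Γ(S, ⊤) Γ(X, ⊤) Γ(G, ⊤) := IsScalarTower.of_algebraMap_smul fun _ _ => rfl
  intro D' hD'
  haveI := hF
  haveI := Groth.L07.PrinParts.isQCoh_PMod f k hF
  have halg : (f.appLE ⊤ ⊤ le_top).hom.toAlgebra = (f.appTop.hom.toAlgebra : Algebra Γ(S, ⊤) Γ(X, ⊤)) := by
    rw [show f.appLE ⊤ ⊤ le_top = f.appTop from (Scheme.Hom.app_eq_appLE _).symm]
  obtain ⟨u0, hu1, hu2⟩ := ((Groth.L14.PP.factor_iff D').mp hD').exists
  obtain ⟨hW, Φ, hΦ, hΦ1, hΦ2⟩ := halg ▸ Groth.L07.PrinParts.exists_affine_iso f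
    (isAffineOpen_top X) (isAffineOpen_top S) le_top k
  let A := Γ(S, ⊤)
  let B := Γ(X, ⊤)
  let W := PrinPart.pr1 f k ⁻¹ᵁ (⊤ : X.Opens)
  let O := Γ(PrinPart.nbhd f k, W)
  let Ψ : PP16.P k A B ≃+* O := RingEquiv.ofBijective Φ hΦ
  let eS : O →+ PP16.Pr k A B := Ψ.symm.toAddEquiv.toAddMonoidHom
  let e := (PrinPart.preimage_pr1 f k (⊤ : X.Opens)).le
  let g := PrinPart.pr2 f k
  let Q := (Scheme.Modules.pullback g).obj F
  letI : Algebra B O := (g.appLE ⊤ W e).hom.toAlgebra
  letI : Module B Γ(Q, W) := Module.compHom _ (g.appLE ⊤ W e).hom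
  haveI : IsScalarTower B O Γ(Q, W) := IsScalarTower.of_algebraMap_smul fun _ _ => rfl
  have hbc : IsBaseChange O (Groth.L16.AffineBC.pullRes g F e) :=
    Groth.L16.AffineBC.isBaseChange_pull g F (isAffineOpen_top X) hW e
  let β : O →+ Γ(F, ⊤) →+ Γ(G, ⊤) :=
    AddMonoidHom.mk' (fun o => u0.comp
      (TensorProduct.mk B (PP16.Pr k A B) Γ(F, ⊤) (eS o)).toAddMonoidHom)
      fun o o' => by
        ext m
        exact (congrArg u0 ((congrArg (· ⊗ₜ[B] m) (map_add eS o o')).trans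
          (TensorProduct.add_tmul (R := B) _ _ m))).trans (map_add u0 _ _)
  have hbal : ∀ (c : B) (o : O) (m : Γ(F, ⊤)), β (c • o) m = β o (c • m) := fun c o m => by
    refine congrArg u0 ?_
    have h : eS (c • o) = c • eS o := by
      apply Ψ.injective
      refine (Ψ.apply_symm_apply _).trans ?_
      show _ = Φ (PP16.dn k A B c * Ψ.symm o)
      rw [map_mul]
      exact congrArg₂ (· * ·) (hΦ2 c).symm (Ψ.apply_symm_apply o).symm
    exact (congrArg (· ⊗ₜ[B] m) h).trans (TensorProduct.smul_tmul c (eS o) m)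
  let T := TensorProduct.liftAddHom β hbal
  have hT : ∀ (a : B) (t : TensorProduct B O Γ(F, ⊤)), T (((PrinPart.pr1 f k).app ⊤ a : O) • t) = a • T t := by
    intro a t
    induction t using TensorProduct.induction_on with
    | zero => rw [smul_zero, map_zero, smul_zero]
    | add x y hx hy => rw [smul_add, map_add, map_add, hx, hy, smul_add]
    | tmul o m =>
      show u0 (eS (((PrinPart.pr1 f k).app ⊤ a : O) * o) ⊗ₜ[B] m) = a • u0 (eS o ⊗ₜ[B] m)
      rw [← hu1]
      have h : eS (((PrinPart.pr1 f k).app ⊤ a : O) * o) = algebraMap B (PP16.P k A B) a • eS o := by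
        apply Ψ.injective
        refine (Ψ.apply_symm_apply _).trans ?_
        show _ = Φ (algebraMap B (PP16.P k A B) a * Ψ.symm o)
        rw [map_mul]
        exact congrArg₂ (· * ·) (hΦ1 a).symm (Ψ.apply_symm_apply o).symm
      exact congrArg u0 (congrArg (· ⊗ₜ[B] m) h)
  let ℓ : Γ(PrinPart.PMod f k F, ⊤) →ₗ[B] Γ(G, ⊤) :=
    { toFun := fun s => T (hbc.equiv.symm (show Γ(Q, W) from s))
      map_add' := fun s s' => (congrArg T (map_add hbc.equiv.symm (show Γ(Q, W) from s) (show Γ(Q, W) from s'))).trans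
        (map_add T _ _)
      map_smul' := fun a s => (congrArg T (map_smul hbc.equiv.symm ((PrinPart.pr1 f k).app ⊤ a)
        (show Γ(Q, W) from s))).trans (hT a _) }
  obtain ⟨φ, hφ⟩ := Groth.L16.HomSh.exists_sec_of_linear (isAffineOpen_top X) ℓ
  let u := Groth.L16.HomSh.toHom φ
  refine ⟨PrinPart.dPHom f k F ≫ u.mapPresheaf, ⟨u, fun U t => rfl⟩, fun m => ?_⟩
  refine (hφ (PrinPart.dP f k F ⊤ m)).trans ?_
  show T (hbc.equiv.symm (Groth.L16.AffineBC.pullRes g F e m)) = D' m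
  rw [IsBaseChange.equiv_symm_apply, ← hu2]
  exact congrArg u0 (congrArg (· ⊗ₜ[B] m) (map_one Ψ.symm))

end Groth.Agent.S9715
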