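import Groth.Statements.S9720
import Groth.Agent.L25.Unramified
import Mathlib.RingTheory.Etale.Field
import Mathlib.AlgebraicGeometry.Limits

set_option autoImplicit false
set_option backward.isDefEq.respectTransparency.types false
set_option backward.isDefEq.respectTransparency false
set_option linter.style.haveILetI false
universe u
open CategoryTheory CategoryTheory.Limits AlgebraicGeometry
open Mor

namespace Groth.Agent.S9720

/-- Let f : X ⟶ S be locally of finite type such that for every point s of S the fibre X_s is isomorphic
over κ(s) to a coproduct of schemes Spec K_i, each K_i a finite separable extension field of κ(s).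
In that case f is formally unramified (so unramified, being locally of finite type). -/
theorem result {X S : Scheme.{u}} (f : X ⟶ S) [LocallyOfFiniteType f]
    (H : ∀ s : S, ∃ (ι : Type u) (K : ι → Type u) (_ : ∀ i, Field (K i))
      (_ : ∀ i, Algebra (S.residueField s) (K i)),
      (∀ i, FiniteDimensional (S.residueField s) (K i) ∧ Algebra.IsSeparable (S.residueField s) (K i)) ∧
        ∃ e : f.fiber s ≅ ∐ (fun i => Spec (CommRingCat.of (K i))),
          e.hom ≫ Sigma.desc (fun i => Spec.map (CommRingCat.ofHom (algebraMap (S.residueField s) (K i)))) =
            f.fiberToSpecResidueField s) :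
    FormallyUnramified f := by
  refine Groth.L25.Unramified.formallyUnramified_of_fibres f fun s => ?_
  obtain ⟨ι, K, _, _, hK, e, he⟩ := H s
  rw [← he]
  haveI : FormallyUnramified (Sigma.desc (fun i => Spec.map
      (CommRingCat.ofHom (algebraMap (S.residueField s) (K i))))) := by
    refine IsZariskiLocalAtSource.sigmaDesc fun i => ?_
    rw [HasRingHomProperty.Spec_iff (P := @FormallyUnramified), CommRingCat.hom_ofHom,
      RingHom.formallyUnramified_algebraMap]
    haveI := (hK i).2
    exact Algebra.FormallyUnramified.of_isSeparable _ _
  exact MorphismProperty.comp_mem _ _ _ inferInstance this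

end Groth.Agent.S9720
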