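import Groth.Statements.S9721
import Mathlib.AlgebraicGeometry.Morphisms.Smooth

set_option autoImplicit false
set_option backward.isDefEq.respectTransparency.types false
set_option backward.isDefEq.respectTransparency false
set_option linter.style.haveILetI false
universe u
open CategoryTheory AlgebraicGeometry
open Mor

namespace Groth.Agent.S9721

/-- Let f : X ⟶ S be a morphism, x a point of X and V an affine open neighbourhood of f(x) in S. Then f
is smooth on some open neighbourhood of x if and only if there is an affine open neighbourhood U of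
x with f(U) ⊆ V such that the induced ring map Γ(S, V) ⟶ Γ(X, U) is standard smooth. -/
theorem result {X S : Scheme.{u}} (f : X ⟶ S) (x : X)
    (V : S.Opens) (hV : IsAffineOpen V) (hxV : f x ∈ V) :
    (∃ W : X.Opens, x ∈ W ∧ Smooth (W.ι ≫ f)) ↔
      ∃ (U : X.Opens) (_ : IsAffineOpen U) (_ : x ∈ U) (e : U ≤ f ⁻¹ᵁ V),
        (f.appLE V U e).hom.IsStandardSmooth := by
  constructor
  · rintro ⟨W, hxW, hW⟩
    obtain ⟨U', hU', V₀, hV₀, hx₀, e₀, h₀⟩ := Smooth.exists_isStandardSmooth (W.ι ≫ f) ⟨x, hxW⟩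
    have hV₁ : IsAffineOpen (W.ι ''ᵁ V₀) := hV₀.image_of_isOpenImmersion W.ι
    have e₁ : W.ι ''ᵁ V₀ ≤ f ⁻¹ᵁ U' := by
      rintro _ ⟨z, hz, rfl⟩
      exact e₀ hz
    have hx₁ : x ∈ W.ι ''ᵁ V₀ := ⟨⟨x, hxW⟩, hx₀, rfl⟩
    have hpre : V₀ ≤ W.ι ⁻¹ᵁ (W.ι ''ᵁ V₀) := (W.ι.preimage_image_eq V₀).ge
    haveI : IsIso (W.ι.appLE (W.ι ''ᵁ V₀) V₀ hpre) := by
      rw [← Scheme.Hom.appIso_hom']
      infer_instance
    have h₁ : (f.appLE U' (W.ι ''ᵁ V₀) e₁).hom.IsStandardSmooth := by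
      rw [← RingHom.isStandardSmooth_respectsIso.cancel_right_isIso _
        (W.ι.appLE (W.ι ''ᵁ V₀) V₀ hpre), ← CommRingCat.hom_comp, Scheme.Hom.appLE_comp_appLE]
      exact h₀
    obtain ⟨r, s, hxs, e₂, h₂⟩ := exists_basicOpen_le_appLE_of_appLE_of_isAffine
      RingHom.isStandardSmooth_stableUnderCompositionWithLocalizationAway.right
      RingHom.isStandardSmooth_localizationPreserves.away
      x ⟨V, hV⟩ ⟨U', hU'⟩ ⟨_, hV₁⟩ ⟨_, hV₁⟩ hx₁ hx₁ e₁ h₁ hxV
    refine ⟨X.basicOpen s, hV₁.basicOpen s, hxs, e₂.trans (f.preimage_mono (S.basicOpen_le r)), ?_⟩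
    have : IsLocalization.Away r Γ(S, S.basicOpen r) := hV.isLocalization_basicOpen r
    have heq : f.appLE V (X.basicOpen s) (e₂.trans (f.preimage_mono (S.basicOpen_le r))) =
        CommRingCat.ofHom (algebraMap Γ(S, V) Γ(S, S.basicOpen r)) ≫
          f.appLE (S.basicOpen r) (X.basicOpen s) e₂ := by
      rw [RingHom.algebraMap_toAlgebra, CommRingCat.ofHom_hom, Scheme.Hom.map_appLE]
    rw [heq]
    exact RingHom.isStandardSmooth_stableUnderCompositionWithLocalizationAway.left _ r _ h₂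
  · rintro ⟨U, hU, hxU, e, h⟩
    refine ⟨U, hxU, ?_⟩
    rw [Smooth.iff_forall_exists_isStandardSmooth]
    intro y
    have e' : (⊤ : U.toScheme.Opens) ≤ (U.ι ≫ f) ⁻¹ᵁ V := fun z _ => e z.2
    have hpre : (⊤ : U.toScheme.Opens) ≤ U.ι ⁻¹ᵁ U := fun z _ => z.2
    haveI : IsAffine U.toScheme := hU
    refine ⟨V, hV, ⊤, isAffineOpen_top _, trivial, e', ?_⟩
    haveI : IsIso (U.ι.appLE U ⊤ hpre) := by
      have : U.ι.appLE U ⊤ hpre = U.topIso.inv := by
        rw [Scheme.Opens.ι_appLE, Scheme.Opens.topIso_inv]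
        rfl
      rw [this]
      infer_instance
    rw [← Scheme.Hom.appLE_comp_appLE U.ι f V U ⊤ e hpre, CommRingCat.hom_comp,
      RingHom.isStandardSmooth_respectsIso.cancel_right_isIso]
    exact h

end Groth.Agent.S9721
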