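import Groth.Statements.S9722
import Mathlib.AlgebraicGeometry.Morphisms.Etale
import Mathlib.RingTheory.Unramified.LocalStructure

set_option autoImplicit false
set_option backward.isDefEq.respectTransparency.types false
set_option backward.isDefEq.respectTransparency false
set_option linter.style.haveILetI false
universe u
open CategoryTheory AlgebraicGeometry
open Mor

namespace Groth.Agent.S9722

lemma etale_resLE_iff {X S : Scheme.{u}} (f : X ⟶ S) {V : S.Opens} (hV : IsAffineOpen V)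
    {U : X.Opens} (hU : IsAffineOpen U) (e : U ≤ f ⁻¹ᵁ V) :
    Etale (f.resLE V U e) ↔ (f.appLE V U e).hom.Etale := by
  haveI : IsAffine U.toScheme := hU
  haveI : IsAffine V.toScheme := hV
  rw [HasRingHomProperty.iff_of_isAffine (P := @Etale), Scheme.Hom.appTop, Scheme.Hom.resLE_app_top, CommRingCat.hom_comp, CommRingCat.hom_comp]
  exact (RingHom.Etale.respectsIso.cancel_left_isIso V.topIso.hom (f.appLE V U e ≫ U.topIso.inv)).trans
    (RingHom.Etale.respectsIso.cancel_right_isIso (f.appLE V U e) U.topIso.inv)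

/-- Let f : X ⟶ S be a morphism, x a point of X and V an affine open neighbourhood of f(x) in S. Then f
is étale on some open neighbourhood of x if and only if there is an affine open neighbourhood U of x
with f(U) ⊆ V such that Γ(X, U) is a standard étale algebra over Γ(S, V) through the induced ring
map. -/
theorem result {X S : Scheme.{u}} (f : X ⟶ S) (x : X)
    (V : S.Opens) (hV : IsAffineOpen V) (hxV : f x ∈ V) :
    (∃ W : X.Opens, x ∈ W ∧ Etale (W.ι ≫ f)) ↔
      ∃ (U : X.Opens) (_ : IsAffineOpen U) (_ : x ∈ U) (e : U ≤ f ⁻¹ᵁ V),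
        letI := (f.appLE V U e).hom.toAlgebra
        Algebra.IsStandardEtale Γ(S, V) Γ(X, U) := by
  constructor
  · rintro ⟨W, hxW, hW⟩
    obtain ⟨U₀, hU₀, hxU₀, hle⟩ := exists_isAffineOpen_mem_and_subset (x := x) (U := W ⊓ f ⁻¹ᵁ V)
      ⟨hxW, hxV⟩
    have e₀ : U₀ ≤ f ⁻¹ᵁ V := fun y hy => (hle hy).2
    have hW₀ : (U₀ : X.Opens) ≤ W := fun y hy => (hle hy).1
    haveI hU₀e : Etale (U₀.ι ≫ f) := by
      rw [← X.homOfLE_ι hW₀, Category.assoc]
      infer_instance
    have hr : (f.appLE V U₀ e₀).hom.Etale := by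
      rw [← etale_resLE_iff f hV hU₀ e₀]
      have h1 : Etale (f.resLE V U₀ e₀ ≫ V.ι) := by rw [Scheme.Hom.resLE_comp_ι]; exact hU₀e
      exact Etale.of_comp (f.resLE V U₀ e₀) V.ι
    letI := (f.appLE V U₀ e₀).hom.toAlgebra
    haveI : Algebra.Etale Γ(S, V) Γ(X, U₀) := hr
    obtain ⟨g, hg, hstd⟩ := Algebra.IsEtaleAt.exists_isStandardEtale (R := Γ(S, V))
      (hU₀.primeIdealOf ⟨x, hxU₀⟩).asIdeal
    have hxg : x ∈ X.basicOpen g := by
      letI := X.presheaf.algebra_section_stalk (U := U₀) ⟨x, hxU₀⟩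
      have := hU₀.isLocalization_stalk ⟨x, hxU₀⟩
      rw [X.mem_basicOpen g x hxU₀]
      exact IsLocalization.map_units (X.presheaf.stalk x) (⟨g, hg⟩ : (hU₀.primeIdealOf ⟨x, hxU₀⟩).asIdeal.primeCompl)
    refine ⟨X.basicOpen g, hU₀.basicOpen g, hxg, (X.basicOpen_le g).trans e₀, ?_⟩
    letI := (f.appLE V (X.basicOpen g) ((X.basicOpen_le g).trans e₀)).hom.toAlgebra
    haveI : IsScalarTower Γ(S, V) Γ(X, U₀) Γ(X, X.basicOpen g) := IsScalarTower.of_algebraMap_eq' (by
      change _ = ((f.appLE V U₀ e₀) ≫ X.presheaf.map (homOfLE (X.basicOpen_le g)).op).hom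
      rw [Scheme.Hom.appLE_map]; rfl)
    haveI := hU₀.isLocalization_basicOpen g
    haveI := hstd
    exact Algebra.IsStandardEtale.of_equiv (R := Γ(S, V))
      ((IsLocalization.algEquiv (Submonoid.powers g) (Localization.Away g) Γ(X, X.basicOpen g)).restrictScalars Γ(S, V))
  · rintro ⟨U, hU, hxU, e, hstd⟩
    letI := (f.appLE V U e).hom.toAlgebra
    haveI := hstd
    refine ⟨U, hxU, ?_⟩
    have hr : (f.appLE V U e).hom.Etale := (inferInstance : Algebra.Etale Γ(S, V) Γ(X, U))
    haveI : Etale (f.resLE V U e) := (etale_resLE_iff f hV hU e).mpr hr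
    rw [← Scheme.Hom.resLE_comp_ι f e]
    infer_instance

end Groth.Agent.S9722
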