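import Groth.Statements.S9723
import Groth.Agent.L20.Thickening
import Mathlib.AlgebraicGeometry.Restrict

set_option autoImplicit false
universe u
open FlatMor

namespace Groth.Agent.S9723

open AlgebraicGeometry CategoryTheory in
/-- Let f : X ⟶ S be formally étale (unique infinitesimal lifting against square-zero thickenings of
affine schemes), and let U be an open subscheme of X and V an open subscheme of S such that f maps U
into V. Then the restricted morphism U ⟶ V is formally étale. -/
theorem result {X S : Scheme.{u}} (f : X ⟶ S) (hf : MoreMor.IsFormallyEtaleHom f)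
    (U : X.Opens) (V : S.Opens) (h : U ≤ f ⁻¹ᵁ V) : MoreMor.IsFormallyEtaleHom (f.resLE V U h) := by
  intro A _ I hI a b w
  obtain ⟨m, ⟨hm1, hm2⟩, hmu⟩ := hf A I hI (a ≫ U.ι) (b ≫ V.ι) (by
    rw [← Category.assoc, w, Category.assoc, Category.assoc, Scheme.Hom.resLE_comp_ι])
  have hr := Groth.L20.range_subset_of_comp_eq I hI U a m hm1
  refine ⟨IsOpenImmersion.lift U.ι m hr, ⟨?_, ?_⟩, fun l ⟨h1, h2⟩ => ?_⟩
  · rw [← cancel_mono U.ι, Category.assoc, IsOpenImmersion.lift_fac, hm1]
  · rw [← cancel_mono V.ι, Category.assoc, Scheme.Hom.resLE_comp_ι, ← Category.assoc,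
      IsOpenImmersion.lift_fac, hm2]
  · rw [← cancel_mono U.ι, IsOpenImmersion.lift_fac]
    refine hmu _ ⟨by rw [← Category.assoc, h1], ?_⟩
    rw [Category.assoc, ← Scheme.Hom.resLE_comp_ι f h, ← Category.assoc, h2]

end Groth.Agent.S9723
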