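import Groth.Statements.S9733
import Groth.Agent.L19.Thick.Basic

set_option autoImplicit false
set_option backward.isDefEq.respectTransparency.types false
set_option backward.isDefEq.respectTransparency false
universe u
open OmegaSh

namespace Groth.Agent.S9733

open AlgebraicGeometry CategoryTheory Limits in
/-- Let h : Z ⟶ X and f : Z ⟶ W make Z the fibre product of g : X ⟶ Y and a formally unramified h' : W ⟶
Y, and let (j : W ⟶ W', k : W' ⟶ Y) be universal first-order thickening data for h'. Then the map Z
⟶ X ×_Y W' with components h and f ≫ j, together with the first projection X ×_Y W' ⟶ X, is a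
universal first-order thickening for h. The published statement also asserts that h is formally
unramified and that the pullback along f of the conormal sheaf of W relative to Y surjects onto the
conormal sheaf of Z relative to X; this row states neither. -/
theorem result {Z X W Y W' : Scheme.{u}} (h : Z ⟶ X) (f : Z ⟶ W) (g : X ⟶ Y) (h' : W ⟶ Y)
    [FormallyUnramified h'] (hc : IsPullback h f g h') (j : W ⟶ W') (k : W' ⟶ Y) (hu : OmegaSh.IsUnivThickening h' j k) :
    OmegaSh.IsUnivThickening h (pullback.lift h (f ≫ j) (hc.w.trans (congrArg (f ≫ ·) hu.2.1).symm)) (pullback.fst g k) := by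
  obtain ⟨hj, hjk, hex⟩ := hu
  generalize hL : pullback.lift h (f ≫ j) (hc.w.trans (congrArg (f ≫ ·) hjk).symm) = L
  have hL1 : L ≫ pullback.fst g k = h := by rw [← hL, pullback.lift_fst]
  have hL2 : L ≫ pullback.snd g k = f ≫ j := by rw [← hL, pullback.lift_snd]
  have hP : IsPullback L f (pullback.snd g k) j := by
    refine IsPullback.of_right ?_ hL2 (IsPullback.of_hasPullback g k)
    rw [hL1, hjk]
    exact hc
  refine ⟨Groth.L19.Thick.firstOrder_of_isPullback hj hP, hL1, fun T T' t b a ht htb => ?_⟩
  obtain ⟨w, ⟨hw1, hw2⟩, hwu⟩ := hex T T' t (b ≫ g) (a ≫ f) ht (by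
    rw [reassoc_of% htb, hc.w, Category.assoc])
  refine ⟨pullback.lift b w hw2.symm, ⟨?_, pullback.lift_fst _ _ _⟩, fun a₂ h₂ => ?_⟩
  · apply pullback.hom_ext
    · rw [Category.assoc, pullback.lift_fst, Category.assoc, hL1, htb]
    · rw [Category.assoc, pullback.lift_snd, Category.assoc, hL2, hw1, Category.assoc]
  · apply pullback.hom_ext
    · rw [h₂.2, pullback.lift_fst]
    · rw [pullback.lift_snd]
      refine hwu _ ⟨?_, ?_⟩
      · rw [reassoc_of% h₂.1, hL2, Category.assoc]
      · rw [Category.assoc, ← pullback.condition, reassoc_of% h₂.2]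

end Groth.Agent.S9733
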