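import Groth.Statements.S9737
import Groth.Agent.L05.ModelFG
import Groth.Agent.L19.Limit.IsoStage
import Mathlib.AlgebraicGeometry.Noetherian
import Mathlib.RingTheory.FiniteType

set_option autoImplicit false
set_option backward.isDefEq.respectTransparency.types false
set_option backward.isDefEq.respectTransparency false
set_option linter.style.haveILetI false
universe u
open FlatMor

namespace Groth.Agent.S9737

open AlgebraicGeometry CategoryTheory Limits in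
/-- Suppose P and Q are classes of morphisms of schemes preserved by arbitrary pullback, and f : X ⟶ S
is a finitely presented morphism of affine schemes. If f arises by pullback from a finite-type
morphism f₁ : X₁ ⟶ S₁ satisfying P, and also from a finite-type morphism f₂ : X₂ ⟶ S₂ satisfying Q,
where all four schemes are affine and Γ(S₁), Γ(S₂) are finitely generated ℤ-algebras, then f arises
by pullback from a single finite-type morphism f₀ : X₀ ⟶ S₀ of affine schemes, with Γ(S₀) finitely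
generated over ℤ, satisfying both P and Q. -/
theorem result (P Q : MorphismProperty Scheme.{u}) [P.IsStableUnderBaseChange] [Q.IsStableUnderBaseChange]
    {X S : Scheme.{u}} (f : X ⟶ S) [IsAffine X] [IsAffine S] [LocallyOfFinitePresentation f]
    {X₁ S₁ X₂ S₂ : Scheme.{u}} [IsAffine X₁] [IsAffine S₁] [IsAffine X₂] [IsAffine S₂]
    (f₁ : X₁ ⟶ S₁) (g₁ : S ⟶ S₁) (g₁' : X ⟶ X₁) (h₁ : IsPullback g₁' f f₁ g₁)
    (f₂ : X₂ ⟶ S₂) (g₂ : S ⟶ S₂) (g₂' : X ⟶ X₂) (h₂ : IsPullback g₂' f f₂ g₂)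
    (hS₁ : Algebra.FiniteType ℤ Γ(S₁, ⊤)) (hS₂ : Algebra.FiniteType ℤ Γ(S₂, ⊤))
    [LocallyOfFiniteType f₁] [LocallyOfFiniteType f₂] (hP : P f₁) (hQ : Q f₂) :
    ∃ (X₀ S₀ : Scheme.{u}) (f₀ : X₀ ⟶ S₀) (g : S ⟶ S₀) (g' : X ⟶ X₀), IsAffine X₀ ∧ IsAffine S₀ ∧ IsPullback g' f f₀ g ∧
      Algebra.FiniteType ℤ Γ(S₀, ⊤) ∧ LocallyOfFiniteType f₀ ∧ P f₀ ∧ Q f₀ := by
  classical
  let A := Γ(S, ⊤)
  let φ₁ : Γ(S₁, ⊤) →+* A := g₁.appTop.hom
  let φ₂ : Γ(S₂, ⊤) →+* A := g₂.appTop.hom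
  let i₀ : Groth.L05.ModelFG.FG A := ⟨φ₁.toIntAlgHom.range ⊔ φ₂.toIntAlgHom.range,
    Subalgebra.FG.sup (by rw [← Algebra.map_top]; exact Subalgebra.FG.map _ hS₁.out)
      (by rw [← Algebra.map_top]; exact Subalgebra.FG.map _ hS₂.out)⟩
  let D := Groth.L05.ModelFG.specDiagram A
  let c := Groth.L05.ModelFG.specCone A
  have hmem₁ : ∀ x, φ₁ x ∈ i₀.1 := fun x =>
    (le_sup_left : φ₁.toIntAlgHom.range ≤ i₀.1) ⟨x, rfl⟩
  have hmem₂ : ∀ x, φ₂ x ∈ i₀.1 := fun x =>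
    (le_sup_right : φ₂.toIntAlgHom.range ≤ i₀.1) ⟨x, rfl⟩
  let ψ₁ : Γ(S₁, ⊤) →+* i₀.1 := φ₁.codRestrict i₀.1.toSubring hmem₁
  let ψ₂ : Γ(S₂, ⊤) →+* i₀.1 := φ₂.codRestrict i₀.1.toSubring hmem₂
  let r₁ : D.obj (Opposite.op i₀) ⟶ S₁ := Spec.map (CommRingCat.ofHom ψ₁) ≫ S₁.isoSpec.inv
  let r₂ : D.obj (Opposite.op i₀) ⟶ S₂ := Spec.map (CommRingCat.ofHom ψ₂) ≫ S₂.isoSpec.inv
  have hr₁ : c.π.app (Opposite.op i₀) ≫ r₁ = S.isoSpec.inv ≫ g₁ := by
    rw [← Scheme.isoSpec_inv_naturality]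
    change Spec.map (CommRingCat.ofHom (algebraMap i₀.1 A)) ≫
      Spec.map (CommRingCat.ofHom ψ₁) ≫ S₁.isoSpec.inv = _
    rw [← Spec.map_comp_assoc]
    rfl
  have hr₂ : c.π.app (Opposite.op i₀) ≫ r₂ = S.isoSpec.inv ≫ g₂ := by
    rw [← Scheme.isoSpec_inv_naturality]
    change Spec.map (CommRingCat.ofHom (algebraMap i₀.1 A)) ≫
      Spec.map (CommRingCat.ofHom ψ₂) ≫ S₂.isoSpec.inv = _
    rw [← Spec.map_comp_assoc]
    rfl
  -- the `IsPullback` of `f` over the limit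
  let a : X ⟶ c.pt := f ≫ S.isoSpec.hom
  have hb₁ : IsPullback g₁' a f₁ (S.isoSpec.inv ≫ g₁) :=
    h₁.of_iso (Iso.refl _) (Iso.refl _) S.isoSpec (Iso.refl _) (by simp) (by simp [a]) (by simp)
      (by simp)
  have hb₂ : IsPullback g₂' a f₂ (S.isoSpec.inv ≫ g₂) :=
    h₂.of_iso (Iso.refl _) (Iso.refl _) S.isoSpec (Iso.refl _) (by simp) (by simp [a]) (by simp)
      (by simp)
  have key : ∀ {X' S' : Scheme.{u}} (f' : X' ⟶ S') (r : D.obj (Opposite.op i₀) ⟶ S') (g' : X ⟶ X')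
      (ht : S ⟶ S') (_ : IsPullback g' a f' (S.isoSpec.inv ≫ ht))
      (_ : c.π.app (Opposite.op i₀) ≫ r = S.isoSpec.inv ≫ ht),
      ∃ qX : X ⟶ pullback f' r, IsPullback qX a (pullback.snd f' r) (c.π.app (Opposite.op i₀)) := by
    intro X' S' f' r g' ht hb hr
    have hw : g' ≫ f' = (a ≫ c.π.app (Opposite.op i₀)) ≫ r := by rw [Category.assoc, hr]; exact hb.w
    refine ⟨pullback.lift g' (a ≫ c.π.app (Opposite.op i₀)) hw, IsPullback.of_right ?_ (pullback.lift_snd _ _ _)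
      (IsPullback.of_hasPullback f' r)⟩
    rw [pullback.lift_fst, hr]; exact hb
  obtain ⟨q₁, hq₁⟩ := key f₁ r₁ g₁' g₁ hb₁ hr₁
  obtain ⟨q₂, hq₂⟩ := key f₂ r₂ g₂' g₂ hb₂ hr₂
  have fp : ∀ {X' S' : Scheme.{u}} [IsAffine S'] (f' : X' ⟶ S') [LocallyOfFiniteType f']
      (_ : Algebra.FiniteType ℤ Γ(S', ⊤)), LocallyOfFinitePresentation f' := by
    intro X' S' _ f' _ hft
    haveI := hft
    haveI : IsNoetherianRing Γ(S', ⊤) := Algebra.FiniteType.isNoetherianRing ℤ _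
    haveI : IsLocallyNoetherian S' :=
      isLocallyNoetherian_of_isOpenImmersion S'.isoSpec.hom
    infer_instance
  haveI := fp f₁ hS₁
  haveI := fp f₂ hS₂
  haveI : LocallyOfFinitePresentation (pullback.snd f₁ r₁) :=
    MorphismProperty.pullback_snd _ _ inferInstance
  haveI : LocallyOfFinitePresentation (pullback.snd f₂ r₂) :=
    MorphismProperty.pullback_snd _ _ inferInstance
  haveI : IsAffine (D.obj (Opposite.op i₀)) := inferInstance
  haveI : IsAffine (pullback f₁ r₁) := inferInstance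
  haveI : IsAffine (pullback f₂ r₂) := inferInstance
  haveI : IsAffineHom (pullback.snd f₁ r₁) := isAffineHom_of_isAffine _
  haveI : IsAffineHom (pullback.snd f₂ r₂) := isAffineHom_of_isAffine _
  obtain ⟨j, φ, e, he⟩ := Groth.L19.Limit.exists_iso_stage (Groth.L05.ModelFG.isLimitSpecCone A)
    (pullback.snd f₁ r₁) (pullback.snd f₂ r₂) hq₁ hq₂ (Iso.refl X) (Category.id_comp _)
  have hj : IsPullback (pullback.lift q₁ (a ≫ c.π.app j) (by rw [Category.assoc, c.w]; exact hq₁.w))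
      a (pullback.snd (pullback.snd f₁ r₁) (D.map φ)) (c.π.app j) :=
    IsPullback.of_right (by rw [pullback.lift_fst, c.w]; exact hq₁) (pullback.lift_snd _ _ _)
      (IsPullback.of_hasPullback _ _)
  refine ⟨pullback (pullback.snd f₁ r₁) (D.map φ), D.obj j,
    pullback.snd (pullback.snd f₁ r₁) (D.map φ), S.isoSpec.hom ≫ c.π.app j,
    pullback.lift q₁ (a ≫ c.π.app j) (by rw [Category.assoc, c.w]; exact hq₁.w),
    inferInstance, inferInstance, ?_, ?_, inferInstance, ?_, ?_⟩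
  · exact hj.of_iso (Iso.refl _) (Iso.refl _) S.isoSpec.symm (Iso.refl _) (by simp) (by simp [a])
      (by simp) (by simp)
  · haveI : Algebra.FiniteType ℤ j.unop.1 := (Subalgebra.fg_iff_finiteType _).mp j.unop.2
    exact Algebra.FiniteType.equiv (A := j.unop.1) inferInstance
      (Scheme.ΓSpecIso (CommRingCat.of j.unop.1)).symm.commRingCatIsoToRingEquiv.toIntAlgEquiv
  · exact MorphismProperty.pullback_snd _ _ (MorphismProperty.pullback_snd _ _ hP)
  · rw [← he, MorphismProperty.cancel_left_of_respectsIso Q]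
    exact MorphismProperty.pullback_snd _ _ (MorphismProperty.pullback_snd _ _ hQ)

end Groth.Agent.S9737
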