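import Groth.Statements.S9739
import Groth.Agent.L06.CMFibreDim
import Groth.Agent.L19.GenericIso

set_option autoImplicit false
set_option maxSynthPendingDepth 3
set_option linter.style.haveILetI false
universe u
open FlatMor

namespace Groth.Agent.S9739

open AlgebraicGeometry CategoryTheory Limits in
/-- Let f : X ⟶ S be flat and locally of finite presentation, and let x' ⤳ x be points of X. Assume the
closure of x in its fibre is one of that fibre's irreducible components. Then the fibre through x'
has the same local dimension at x' as the fibre through x has at x. -/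
theorem result {X S : Scheme.{u}} (f : X ⟶ S) [Flat f] [LocallyOfFinitePresentation f]
    (x x' : X) (hsp : x' ⤳ x) (hgen : ∃ Z ∈ irreducibleComponents ↥(f.fiber (f x)), IsGenericPoint (f.asFiber x) Z) :
    FlatMor.fibreDimAt f x' = FlatMor.fibreDimAt f x := by
  obtain ⟨Z, hZ, hg⟩ := hgen
  have hc : closure {f.asFiber x} ∈ irreducibleComponents ↥(f.fiber (f x)) := by rw [hg.def]; exact hZ
  refine Groth.L06.CMFibreDim.eq_of_specializes f hsp fun z hfz hzx => ?_
  obtain ⟨c, rfl⟩ : z ∈ Set.range (f.fiberι (f x)) := by rw [f.range_fiberι]; exact hfz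
  have h1 : f.fiberι (f x) c ⤳ f.fiberι (f x) (f.asFiber x) := by rw [f.fiberι_asFiber]; exact hzx
  replace hzx := (f.fiberι (f x)).isEmbedding.isInducing.specializes_iff.1 h1
  rw [Groth.L19.GenericIso.eq_of_specializes hc hzx, f.fiberι_asFiber]

end Groth.Agent.S9739
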