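import Groth.Statements.S9741
import Groth.Agent.L19.Thick.Basic

set_option autoImplicit false
set_option backward.isDefEq.respectTransparency.types false
set_option backward.isDefEq.respectTransparency false
universe u
open OmegaSh

namespace Groth.Agent.S9741

open AlgebraicGeometry CategoryTheory Limits in
/-- Let a : Z ⟶ Y and b : Y ⟶ X be formally unramified, let (i : Z ⟶ Z', c : Z' ⟶ X) be universal among
first order thickenings of Z relative to X (for a ≫ b), and (j : Y ⟶ Y', d : Y' ⟶ X) likewise for Y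
relative to X (for b). Then there is a morphism of thickenings m : Z' ⟶ Y' over X (i ≫ m = a ≫ j and
m ≫ d = c) such that Z ⟶ Y ×_{Y'} Z' (components a and i), together with the projection to Y, is
universal among first order thickenings of Z relative to Y (for a). The published statement also
asserts an exact sequence of conormal sheaves; this row states only the thickening assertion. -/
theorem result {Z Y X Z' Y' : Scheme.{u}} (a : Z ⟶ Y) (b : Y ⟶ X)
    [FormallyUnramified a] [FormallyUnramified b] (i : Z ⟶ Z') (c : Z' ⟶ X) (hZ : OmegaSh.IsUnivThickening (a ≫ b) i c)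
    (j : Y ⟶ Y') (d : Y' ⟶ X) (hY : OmegaSh.IsUnivThickening b j d) :
    ∃ (m : Z' ⟶ Y') (hm : i ≫ m = a ≫ j), m ≫ d = c ∧
      OmegaSh.IsUnivThickening a (pullback.lift a i hm.symm) (pullback.fst j m) := by
  obtain ⟨hi, hic, hexZ⟩ := hZ
  obtain ⟨hj, hjd, hexY⟩ := hY
  obtain ⟨m, ⟨hm, hmd⟩, -⟩ := hexY Z Z' i c a hi hic
  refine ⟨m, hm, hmd, ?_⟩
  generalize hL : pullback.lift a i hm.symm = L
  have hL1 : L ≫ pullback.fst j m = a := by rw [← hL, pullback.lift_fst]
  have hL2 : L ≫ pullback.snd j m = i := by rw [← hL, pullback.lift_snd]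
  have := hj.1.1
  have := hi.1.1
  have hP : IsPullback L (𝟙 Z) (pullback.snd j m) i := by
    refine IsPullback.of_isLimit' ⟨by rw [hL2, Category.id_comp]⟩
      (PullbackCone.IsLimit.mk (by rw [hL2, Category.id_comp]) (fun s => s.snd) (fun s => ?_)
        (fun s => Category.comp_id _) fun s n _ hn => by simpa using hn)
    rw [← cancel_mono (pullback.snd j m), Category.assoc, hL2]
    exact s.condition.symm
  refine ⟨Groth.L19.Thick.firstOrder_of_isPullback hi hP, hL1, fun T T' t b' a' ht htb => ?_⟩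
  obtain ⟨w, ⟨hw1, hw2⟩, hwu⟩ := hexZ T T' t (b' ≫ b) a' ht (by rw [reassoc_of% htb])
  obtain ⟨w', -, hwu'⟩ := hexY T T' t (b' ≫ b) (a' ≫ a) ht (by rw [reassoc_of% htb, Category.assoc])
  have hwm : b' ≫ j = w ≫ m := by
    rw [hwu' (b' ≫ j) ⟨by rw [reassoc_of% htb, Category.assoc], by rw [Category.assoc, hjd]⟩,
      hwu' (w ≫ m) ⟨by rw [reassoc_of% hw1, hm, Category.assoc], by rw [Category.assoc, hmd, hw2]⟩]
  refine ⟨pullback.lift b' w hwm, ⟨?_, pullback.lift_fst _ _ _⟩, fun a₂ h₂ => ?_⟩
  · apply pullback.hom_ext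
    · rw [Category.assoc, pullback.lift_fst, Category.assoc, hL1, htb]
    · rw [Category.assoc, pullback.lift_snd, Category.assoc, hL2, hw1]
  · apply pullback.hom_ext
    · rw [h₂.2, pullback.lift_fst]
    · rw [pullback.lift_snd]
      refine hwu _ ⟨?_, ?_⟩
      · rw [reassoc_of% h₂.1, hL2]
      · rw [Category.assoc, ← hmd, ← pullback.condition_assoc, reassoc_of% h₂.2, hjd]

end Groth.Agent.S9741
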