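import Groth.Statements.S9749
import Groth.Agent.L29.RelPC.Module
import Groth.Agent.L29.RelPC.Open
import Groth.Agent.L17.QCohExtension

set_option autoImplicit false
set_option backward.isDefEq.respectTransparency false
universe u
attribute [local instance] HasDerivedCategory.standard
open Groth.L29.RelPC
open Flatn

namespace Groth.Agent.S9749

open AlgebraicGeometry CategoryTheory Limits in
/-- For f : X ⟶ S locally of finite type and quasi-coherent O_X-modules F, F', relative finite
presentation over S of the biproduct F ⊞ F' implies the same property for each summand. -/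
theorem result {X S : Scheme.{u}} (f : X ⟶ S) [LocallyOfFiniteType f] (F F' : X.Modules) [Coh.IsQCoh F] [Coh.IsQCoh F']
    (h : Flatn.IsRelFP f (F ⊞ F')) : Flatn.IsRelFP f F ∧ Flatn.IsRelFP f F' := by
  haveI : Coh.IsQCoh (F ⊞ F') := Groth.L17.QCohExtension.isQCoh_extension
    (ShortComplex.mk (biprod.inl : F ⟶ F ⊞ F') biprod.snd biprod.inl_snd)
    (ShortComplex.Splitting.ofHasBinaryBiproduct F F').shortExact inferInstance inferInstance
  haveI := preservesBinaryBiproducts_of_preservesBiproducts (DerivedCategory.singleFunctor X.Modules 0)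
  have := rel_biprod (-1) (DCoh.inD X F) (DCoh.inD X F')
    (rel_iso ((DerivedCategory.singleFunctor X.Modules 0).mapBiprod F F') ((rel_negOne_iff (F ⊞ F')).2 ⟨inferInstance, h⟩))
  exact ⟨((rel_negOne_iff F).1 this.1).2, ((rel_negOne_iff F').1 this.2).2⟩

end Groth.Agent.S9749
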