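import Groth.Statements.S9750
import Groth.Agent.L19.Thick.ConormalInj
import Groth.Agent.L19.Thick.Glue
import Groth.Agent.L23.InfGlue
import Groth.Agent.L23.InfSpace

set_option autoImplicit false
set_option backward.isDefEq.respectTransparency.types false
set_option backward.isDefEq.respectTransparency false
set_option linter.style.haveILetI false
universe u
open FlatMor

namespace Groth.Agent.S9750

open AlgebraicGeometry CategoryTheory Limits in
/-- (1) ⇔ (2) ⇔ (3): a morphism f : X ⟶ S is formally étale (unique infinitesimal lifting against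
square-zero thickenings of affine schemes) if and only if f is formally unramified and X, through
the identity and f, is its own universal square-zero (first order) thickening relative to f; and,
for f formally unramified with universal first order thickening data (i : X ⟶ X', h' : X' ⟶ S), f is
formally étale if and only if the conormal sheaf of i (the conormal sheaf of f) is zero. The
published statement also lists a fourth equivalent condition, the vanishing of both the sheaf of
differentials and the conormal sheaf; this row omits it. -/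
theorem result {X S : Scheme.{u}} (f : X ⟶ S) :
    (MoreMor.IsFormallyEtaleHom f ↔ FormallyUnramified f ∧ OmegaSh.IsUnivThickening f (𝟙 X) f) ∧
    (∀ {X' : Scheme.{u}} (i : X ⟶ X') (h' : X' ⟶ S) [QuasiCompact i], FormallyUnramified f →
      OmegaSh.IsUnivThickening f i h' → (MoreMor.IsFormallyEtaleHom f ↔ IsZero (Omega.conormal i))) := by
  have part1 : MoreMor.IsFormallyEtaleHom f ↔ FormallyUnramified f ∧ OmegaSh.IsUnivThickening f (𝟙 X) f := by
    constructor
    · intro hf
      haveI := Groth.L23.formallyUnramified_of_formallyEtaleHom hf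
      refine ⟨inferInstance, Groth.L19.Thick.mk_firstOrder ?_, Category.id_comp f, fun T T' j b a hj hjb => ?_⟩
      · rw [(Scheme.Hom.ker_eq_bot_of_isIso (f := 𝟙 X))]
        exact le_bot_iff.1 fun U => by simp [Scheme.IdealSheafData.ideal_mul]
      have haff : ∀ {T T' : Scheme.{u}} [IsAffine T'] (j : T ⟶ T') (b : T' ⟶ S) (a : T ⟶ X),
          MoreMor.IsFirstOrderThickening j → j ≫ b = a ≫ f →
          ∃! a' : T' ⟶ X, Groth.L19.Thick.Lifts (𝟙 X) f j b a a' := by
        intro T T' _ j b a hj hjb
        let T₁ : Over T' := Over.mk (𝟙 T')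
        let T₀ : Over T' := Over.mk j
        haveI : IsAffine T₁.left := ‹IsAffine T'›
        obtain ⟨A, _, I, hI, str, ε₀, ε, hε⟩ :=
          Groth.L23.exists_std_thickening (Over.homMk j (Category.comp_id j) : T₀ ⟶ T₁) hj
        have hε' : ε₀.hom.left ≫ j = Spec.map (CommRingCat.ofHom (Ideal.Quotient.mk I)) ≫ ε.hom.left :=
          congrArg CommaMorphism.left hε
        let ε' : Spec (CommRingCat.of A) ≅ T' := (Over.forget _).mapIso ε
        let ε₀' : Spec (CommRingCat.of (A ⧸ I)) ≅ T := (Over.forget _).mapIso ε₀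
        obtain ⟨l, ⟨hl₁, hl₂⟩, hlu⟩ := hf A I hI (ε₀'.hom ≫ a) (ε'.hom ≫ b) (by
          rw [Category.assoc, ← hjb]
          exact ((Category.assoc _ _ _).symm.trans (congrArg (· ≫ b) hε'.symm)).trans (Category.assoc _ _ _))
        refine ⟨ε'.inv ≫ l, ⟨?_, by rw [Category.assoc, hl₂, ε'.inv_hom_id_assoc]⟩, fun a' ha' => ?_⟩
        · rw [← cancel_epi ε₀'.hom, Category.comp_id]
          have : ε₀'.hom ≫ j = Spec.map (CommRingCat.ofHom (Ideal.Quotient.mk I)) ≫ ε'.hom := hε'
          rw [reassoc_of% this, ε'.hom_inv_id_assoc, hl₁]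
        · rw [← cancel_epi ε'.hom, ε'.hom_inv_id_assoc]
          have : ε₀'.hom ≫ j = Spec.map (CommRingCat.ofHom (Ideal.Quotient.mk I)) ≫ ε'.hom := hε'
          refine hlu _ ⟨?_, by rw [Category.assoc, ha'.2]⟩
          rw [← reassoc_of% this, ha'.1, Category.comp_id]
      have huniq : ∀ {T T' : Scheme.{u}} (j : T ⟶ T') (b : T' ⟶ S) (a : T ⟶ X),
          MoreMor.IsFirstOrderThickening j → j ≫ b = a ≫ f → ∀ a₁ a₂ : T' ⟶ X,
          Groth.L19.Thick.Lifts (𝟙 X) f j b a a₁ → Groth.L19.Thick.Lifts (𝟙 X) f j b a a₂ → a₁ = a₂ := by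
        intro T T' j b a hj hjb a₁ a₂ h₁ h₂
        refine Groth.L19.Thick.eq_of_cover (fun W : T'.affineOpens => W.1) (AlgebraicGeometry.iSup_affineOpens_eq_top T')
          (fun W b₁ b₂ g₁ g₂ => ?_) h₁ h₂
        haveI : IsAffine W.1.toScheme := W.2
        exact (haff (j ∣_ W.1) (W.1.ι ≫ b) _ (Groth.L19.Thick.firstOrder_restrict hj _)
          (by rw [morphismRestrict_ι_assoc, hjb, Category.assoc])).unique g₁ g₂
      obtain ⟨a', ha'⟩ := Groth.L19.Thick.exists_of_cover (i := 𝟙 X) (h' := f) (j := j) (b := b) (a := a)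
        (fun W : T'.affineOpens => W.1) (AlgebraicGeometry.iSup_affineOpens_eq_top T') (fun W => by
          haveI : IsAffine W.1.toScheme := W.2
          exact (haff (j ∣_ W.1) (W.1.ι ≫ b) _ (Groth.L19.Thick.firstOrder_restrict hj _)
            (by rw [morphismRestrict_ι_assoc, hjb, Category.assoc])).exists)
        (fun k l a₁ a₂ g₁ g₂ => huniq _ _ _ (Groth.L19.Thick.firstOrder_restrict hj _)
            (by rw [morphismRestrict_ι_assoc, hjb, Category.assoc]) a₁ a₂ g₁ g₂)
      exact ⟨a', ha', fun a'' h'' => huniq j b a hj hjb a'' a' h'' ha'⟩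
    · rintro ⟨-, -, -, hu⟩ A _ I hI a b w
      have hj := Groth.L19.Thick.isFirstOrder_specMap (CommRingCat.ofHom (Ideal.Quotient.mk I))
        Ideal.Quotient.mk_surjective (by
          rw [show RingHom.ker (CommRingCat.ofHom (Ideal.Quotient.mk I)).hom = I from Ideal.mk_ker]
          exact hI)
      obtain ⟨l, ⟨hl₁, hl₂⟩, hlu⟩ := hu _ _ _ b a hj w
      exact ⟨l, ⟨by rw [hl₁, Category.comp_id], hl₂⟩,
        fun m hm => hlu m ⟨by rw [hm.1, Category.comp_id], hm.2⟩⟩
  refine ⟨part1, fun {X'} i h' _ hunr hu => ⟨fun hf => ?_, fun hz => ?_⟩⟩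
  · obtain ⟨e, he, -⟩ := Groth.L19.Thick.exists_iso_of_isUniv hu (part1.1 hf).2
    haveI : IsIso (i ≫ e.hom) := by rw [he]; infer_instance
    haveI : IsIso i := IsIso.of_isIso_comp_right i e.hom
    refine (IsZero.iff_id_eq_zero _).2 (Groth.L19.OmegaSh.conormal_hom_ext fun U s => ?_)
    have h0 : OmegaSh.idealSect i.ker U s = 0 := by
      apply (ConcreteCategory.bijective_of_isIso (i.app U)).1
      exact (Groth.L19.OmegaSh.app_idealSect i U s).trans (map_zero _).symm
    have hs : s = 0 := Groth.L19.OmegaSh.idealSect_injective i U (h0.trans (map_zero _).symm)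
    rw [hs, map_zero]
    simp
  · haveI : IsClosedImmersion i := hu.1.1.1
    haveI : Surjective i := hu.1.1.2
    have hker : i.ker = ⊥ := by
      refine Scheme.IdealSheafData.ext (funext fun W => ?_)
      rw [Scheme.IdealSheafData.ideal_bot, Pi.bot_apply, eq_bot_iff]
      intro t ht
      rw [Scheme.Hom.ker_apply, RingHom.mem_ker] at ht
      obtain ⟨s, rfl⟩ := Groth.L19.OmegaSh.exists_idealSect i W.1 t ht
      refine (Ideal.mem_bot).2 (Groth.L19.Thick.idealSect_eq_zero_of_conormalSect_eq_zero hu.1 W.2 s ?_)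
      have h1 := congr($(hz.eq_of_src (𝟙 (Omega.conormal i)) 0).app (i ⁻¹ᵁ W.1) (OmegaSh.conormalSect i W.1 s))
      exact h1
    haveI : IsIso i := IsClosedImmersion.isIso_iff_ker_eq_bot.2 hker
    refine part1.2 ⟨hunr, ?_⟩
    refine Groth.L19.Thick.isUniv_of_iso hu (Iso.refl X) (asIso i) (by simp) (by simp) ?_
    simp [hu.2.1]

end Groth.Agent.S9750
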