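import Groth.Statements.S9755
import Groth.Agent.L06.FibreBranches

set_option autoImplicit false
set_option maxSynthPendingDepth 3
set_option linter.style.haveILetI false
universe u
open Brnch

namespace Groth.Agent.S9755

open AlgebraicGeometry CategoryTheory Limits in
/-- For f : X ⟶ S and x ∈ X lying over s, the branch number of the fibre X_s at x equals the supremum,
over elementary étale neighbourhoods (U, u) of (X, x) (étale, u ↦ x, trivial residue field
extension), of how many irreducible components of U_s contain the point of U_s above u. -/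
theorem result {X S : Scheme.{u}} (f : X ⟶ S) (x : X) :
    Brnch.numBranchesAt (f.fiber (f x)) (f.asFiber x) = ⨆ (U : Scheme.{u}) (g : U ⟶ X) (u : U) (_ : Hens2.IsEtaleNbhd g u x),
      {Z : Set ↑((g ≫ f).fiber (f x)) | Z ∈ irreducibleComponents ↑((g ≫ f).fiber (f x)) ∧
        ∃ u' ∈ Z, (g ≫ f).fiberι (f x) u' = u}.encard := by
  refine le_antisymm (ENat.forall_natCast_le_iff_le.1 fun m hm => ?_)
    (iSup_le fun U => iSup_le fun g => iSup_le fun u => iSup_le fun h => ?_)
  · obtain ⟨U, g, u, hn, hle⟩ := Groth.L06.FibreBranches.exists_nbhd_ge f (f x) (f.asFiber x) m hm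
    rw [Scheme.Hom.fiberι_asFiber] at hn
    exact le_iSup_of_le U (le_iSup_of_le g (le_iSup_of_le u (le_iSup_of_le hn hle)))
  · refine Groth.L06.FibreBranches.components_le f g u (f x) (f.asFiber x) ?_
    rw [Scheme.Hom.fiberι_asFiber]
    exact h

end Groth.Agent.S9755
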