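import Groth.Prelude.Def_CAlg
import Mathlib.AlgebraicGeometry.Morphisms.Flat
import Mathlib.AlgebraicGeometry.Morphisms.FinitePresentation
import Mathlib.AlgebraicGeometry.AffineScheme
import Mathlib.AlgebraicGeometry.Fiber
import Mathlib.RingTheory.RingHom.Flat
import Mathlib.RingTheory.Ideal.Quotient.Basic
import Groth.Agent.L02.CAlg.QFSlice.FibreStalk

set_option autoImplicit false
namespace CAlg
end CAlg
universe u
open FlatMor

namespace Groth.Agent.S9756

open AlgebraicGeometry CategoryTheory Limits in
/-- Let f : X ⟶ S be locally of finite presentation and flat at a point x, and assume the local ring of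
the fibre X_{f x} at x has depth at least 1. Then there are an affine open U ∋ x and a
nonzerodivisor h' of Γ(X, U) vanishing at x such that the closed subscheme V(h') of U, an effective
Cartier divisor through x, is flat and locally of finite presentation over S. The published
statement concludes that V(h') ⟶ S is of finite presentation; this row concludes only that it is
flat and locally of finite presentation, which is what the published argument (slicing by a lift of
a fibrewise nonzerodivisor) yields, and which is equivalent when S is quasi-separated, V(h') being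
affine. -/
theorem result {X S : Scheme.{u}} (f : X ⟶ S) [LocallyOfFinitePresentation f] (x : X)
    (hflat : (f.stalkMap x).hom.Flat)
    (hdepth : 1 ≤ LocCoh.depth ↑((f.fiber (f x)).presheaf.stalk (f.asFiber x)) ↑((f.fiber (f x)).presheaf.stalk (f.asFiber x))) :
    ∃ (U : X.Opens) (hU : IsAffineOpen U) (hx : x ∈ U) (h' : Γ(X, U)), h' ∈ nonZeroDivisors Γ(X, U) ∧
      X.presheaf.germ U x hx h' ∈ IsLocalRing.maximalIdeal ↑(X.presheaf.stalk x) ∧
      Flat (Spec.map (CommRingCat.ofHom (Ideal.Quotient.mk (Ideal.span {h'}))) ≫ hU.fromSpec ≫ f) ∧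
      LocallyOfFinitePresentation (Spec.map (CommRingCat.ofHom (Ideal.Quotient.mk (Ideal.span {h'}))) ≫ hU.fromSpec ≫ f) := by
  obtain ⟨e, hs, hlen, hmem, hreg, -⟩ := L02.CAlg.QFSlice.exists_fibre_regular f x 1 (by simpa using hdepth)
  rcases hs with _ | ⟨h, t⟩
  · simp at hlen
  have hreg1 := hreg
  rw [List.map_cons, RingTheory.Sequence.isWeaklyRegular_cons_iff] at hreg1
  obtain ⟨U, hU, hx, hs', -, h0, hwr, -, -, h3, h4, -⟩ :=
    L02.CAlg.QFSlice.exists_slice f x hflat [h] (fun a ha => hmem a (by simp at ha; simp [ha]))
      (by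
        rw [List.map_singleton, RingTheory.Sequence.isWeaklyRegular_cons_iff]
        exact ⟨hreg1.1, RingTheory.Sequence.IsWeaklyRegular.nil _ _⟩) ⊤ trivial
  rcases hs' with _ | ⟨h', _ | ⟨h'', l⟩⟩
  · simp at h0
  · rw [List.map_singleton, List.singleton_inj] at h0
    rw [RingTheory.Sequence.isWeaklyRegular_cons_iff] at hwr
    rw [Ideal.ofList_singleton] at h3 h4
    refine ⟨U, hU, hx, h', mem_nonZeroDivisors_iff_right.mpr fun a ha => ?_, ?_, h3, h4⟩
    · exact hwr.1 (show h' • a = h' • 0 by rw [smul_zero, smul_eq_mul, mul_comm]; exact ha)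
    · rw [h0]; exact hmem h (by simp)
  · simp at h0

end Groth.Agent.S9756
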