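import Groth.Statements.S9758
import Groth.Agent.L07.SyntMor

set_option autoImplicit false
set_option linter.style.haveILetI false
universe u
open FlatMor

namespace Groth.Agent.S9758

open AlgebraicGeometry CategoryTheory Limits in
/-- A morphism of schemes f : X ⟶ S is flat and a local complete intersection morphism (Koszul at every
point) if and only if it is syntomic. -/
theorem result {X S : Scheme.{u}} (f : X ⟶ S) :
    (Flat f ∧ ∀ x : X, Synt.IsKoszulAt f x) ↔ Synt.IsSyntomicMor f := by
  rw [Groth.L07.SyntScheme.isSyntomicMor_iff]
  refine ⟨fun h => ?_, fun h => ⟨h.1, fun x => Groth.L07.SyntMor.isKoszulAt_of_isCIMorphism f h x⟩⟩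
  haveI := h.1
  exact Groth.L07.SyntMor.isCIMorphism_of_koszul f h.2

end Groth.Agent.S9758
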