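import Groth.Statements.S9762
import Groth.Agent.L16.FinPart.Union
import Groth.Agent.L23.QFDescent

set_option autoImplicit false
universe u
open FlatMor

namespace Groth.Agent.S9762

open AlgebraicGeometry CategoryTheory Limits in
/-- For f : X ⟶ S separated and locally of finite type, and a point s of S such that only finitely many
points of the fibre over s are isolated, some elementary étale neighbourhood (U, u) of (S, s) admits
an open and closed V ⊆ U ×_S X, finite over U, such that no point of the fibre over u lying outside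
V is isolated in that fibre. The published statement also asserts that the complement of V has empty
fibre over u when the fibre over s is finite; this row omits that clause. -/
theorem result {X S : Scheme.{u}} (f : X ⟶ S) [LocallyOfFiniteType f] [IsSeparated f] (s : S)
    (hfin : {x : ↑(f.fiber s) | IsOpen ({x} : Set ↑(f.fiber s))}.Finite) :
    ∃ (U : Scheme.{u}) (g : U ⟶ S) (u : U), Hens2.IsEtaleNbhd g u s ∧
      ∃ V : (pullback f g).Opens, IsClopen (V : Set ↑(pullback f g)) ∧ IsFinite (V.ι ≫ pullback.snd f g) ∧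
        ∀ w : ↑((pullback.snd f g).fiber u), (pullback.snd f g).fiberι u w ∉ V →
          ¬ IsOpen ({w} : Set ↑((pullback.snd f g).fiber u)) := by
  haveI := hfin.to_subtype
  have hxs : ∀ z : ↑(f.fiber s), f (f.fiberι s z) = s := fun z => by
    have := f.range_fiberι s
    exact (this ▸ Set.mem_range_self z : f.fiberι s z ∈ f ⁻¹' {s})
  have hqf : ∀ (s' : S) (z : ↑(f.fiber s')) (y : X), f.fiberι s' z = y → f y = s' →
      IsOpen ({z} : Set ↑(f.fiber s')) → f.QuasiFiniteAt y := by
    intro s' z y hy hs' ho
    subst hs'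
    refine Scheme.Hom.quasiFiniteAt_iff_isOpen_singleton_asFiber.mpr ?_
    rwa [(f.fiberι (f y)).isEmbedding.injective ((f.fiberι_asFiber y).trans hy.symm)]
  obtain ⟨U, g, u, hn, V, hV⟩ := Groth.L16.FinPart.exists_family f s
    (fun i : {x : ↑(f.fiber s) | IsOpen ({x} : Set ↑(f.fiber s))} => f.fiberι s i.1)
    (fun i => hxs _) (fun i => hqf s i.1 _ rfl (hxs _) i.2)
  haveI : ∀ i, IsFinite ((V i).ι ≫ pullback.snd f g) := fun i => (hV i).finite
  haveI : IsFinite ((⨆ i, V i).ι ≫ pullback.snd f g) := Groth.L16.FinPart.isFinite_iSup _ V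
  refine ⟨U, g, u, hn, ⨆ i, V i,
    ⟨Groth.L16.FinPart.isClosed_of_isFinite (pullback.snd f g) _, (⨆ i, V i).isOpen⟩, inferInstance,
    fun w hw ho => hw ?_⟩
  haveI := hn.etale
  obtain ⟨O', hO', hwO'⟩ := ((pullback.snd f g).fiberι u).isEmbedding.isInducing.isOpen_iff.1 ho
  have hwu : pullback.snd f g ((pullback.snd f g).fiberι u w) = u := by
    have := (pullback.snd f g).range_fiberι u
    exact (this ▸ Set.mem_range_self w : (pullback.snd f g).fiberι u w ∈ pullback.snd f g ⁻¹' {u})
  set a := (pullback.snd f g).fiberι u w with ha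
  have hfx : f (pullback.fst f g a) = s := by
    rw [← Scheme.Hom.comp_apply, pullback.condition, Scheme.Hom.comp_apply, hwu, hn.base_eq]
  let x' := (f.fiberHomeo s).symm ⟨pullback.fst f g a, hfx⟩
  have hx' : f.fiberι s x' = pullback.fst f g a := f.fiberι_fiberHomeo_symm s _
  have hx'o : IsOpen ({x'} : Set ↑(f.fiber s)) := by
    haveI := Groth.L23.locallyQuasiFinite_of_unramified g
    haveI : DiscreteTopology ↥(g ⁻¹' {s}) :=
      isDiscrete_iff_discreteTopology.1 (g.isDiscrete_preimage_singleton s)
    obtain ⟨O, hO, huO⟩ := isOpen_induced_iff.1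
      (isOpen_discrete ({⟨u, hn.base_eq⟩} : Set ↥(g ⁻¹' {s})))
    refine (f.fiberι s).isEmbedding.isInducing.isOpen_iff.2
      ⟨pullback.fst f g '' (O' ∩ pullback.snd f g ⁻¹' O),
        (pullback.fst f g).isOpenMap _ (hO'.inter (hO.preimage (Scheme.Hom.continuous _))), ?_⟩
    ext z
    simp only [Set.mem_preimage, Set.mem_singleton_iff]
    constructor
    · rintro ⟨b, ⟨hb', hb⟩, hbz⟩
      replace hbz : pullback.fst f g b = f.fiberι s z := hbz
      have hbs : g (pullback.snd f g b) = s := by
        rw [← Scheme.Hom.comp_apply, ← pullback.condition, Scheme.Hom.comp_apply, hbz, hxs]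
      have hbu : pullback.snd f g b = u :=
        congrArg Subtype.val (huO.le (show (⟨_, hbs⟩ : g ⁻¹' {s}) ∈ Subtype.val ⁻¹' O from hb))
      let w' := ((pullback.snd f g).fiberHomeo u).symm ⟨b, hbu⟩
      have hw' : (pullback.snd f g).fiberι u w' = b := (pullback.snd f g).fiberι_fiberHomeo_symm u _
      have : w' = w := hwO'.le (show (pullback.snd f g).fiberι u w' ∈ O' by rw [hw']; exact hb')
      apply (f.fiberι s).isEmbedding.injective
      rw [hx', ← hbz, ha, ← this, hw']
    · rintro rfl
      refine ⟨a, ⟨?_, ?_⟩, hx'.symm⟩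
      · exact hwO'.ge (Set.mem_singleton w)
      · show pullback.snd f g a ∈ O
        rw [hwu]
        exact huO.ge (Set.mem_singleton _)
  obtain ⟨v, hv, hvu, hvx⟩ := (hV ⟨x', hx'o⟩).exists_mem
  obtain ⟨w₀, -, -, -, huniq⟩ := Groth.L16.FinPart.exists_unique_point f g u hn.residue_bijective
    (pullback.fst f g a) (hfx.trans hn.base_eq.symm)
  rw [(huniq a rfl hwu).trans (huniq v (hvx.trans hx') hvu).symm]
  exact TopologicalSpace.Opens.mem_iSup.2 ⟨_, hv⟩
end Groth.Agent.S9762
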