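import Groth.Statements.S9766
import Groth.Agent.L02.CMMor.AffineChart

set_option autoImplicit false
universe u
open FlatMor

set_option backward.isDefEq.respectTransparency.types false
namespace Groth.Agent.S9766

open AlgebraicGeometry CategoryTheory Limits in
/-- For morphisms f : X ⟶ Y, g : Y ⟶ Z and a point x of X whose fibre under f ≫ g is locally Noetherian,
Cohen–Macaulayness of f at x (flat at x with Cohen–Macaulay local ring of the fibre at x) together
with that of g at f x implies that f ≫ g is Cohen–Macaulay at x. The published statement assumes all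
fibres of f, g and g ∘ f locally Noetherian; this row assumes only that the fibre of f ≫ g through x
is, which is all the argument uses. -/
theorem result {X Y Z : Scheme.{u}} (f : X ⟶ Y) (g : Y ⟶ Z) (x : X)
    (hN : IsLocallyNoetherian ((f ≫ g).fiber (g (f x))))
    (hf : MoreMor.IsCMAt f x) (hg : MoreMor.IsCMAt g (f x)) : MoreMor.IsCMAt (f ≫ g) x := by
  open IsLocalRing in
  rw [← L02.CMMor.grpd_isCMAt_iff] at hf hg ⊢
  letI := ((f ≫ g).stalkMap x).hom.toAlgebra
  obtain ⟨e⟩ := Groth.L07.CIScheme.exists_fiberStalkEquiv (f ≫ g) ((f ≫ g) x) ((f ≫ g).asFiber x) x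
    ((f ≫ g).fiberι_asFiber x)
  haveI : IsLocallyNoetherian ((f ≫ g).fiber ((f ≫ g) x)) := hN
  have hN' : IsNoetherianRing (X.presheaf.stalk x ⧸
      (IsLocalRing.maximalIdeal (Z.presheaf.stalk ((f ≫ g) x))).map ((f ≫ g).stalkMap x).hom) :=
    isNoetherianRing_of_ringEquiv _ e.symm
  have hc : ((f ≫ g).stalkMap x).hom = (f.stalkMap x).hom.comp (g.stalkMap (f x)).hom :=
    congrArg CommRingCat.Hom.hom (Scheme.Hom.stalkMap_comp f g x)
  haveI : IsNoetherianRing (X.presheaf.stalk x ⧸
      (IsLocalRing.maximalIdeal (Z.presheaf.stalk (g (f x)))).map ((f.stalkMap x).hom.comp (g.stalkMap (f x)).hom)) := by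
    rw [← hc]; exact hN'
  have := L02.CMMor.cm_comp (g.stalkMap (f x)).hom (f.stalkMap x).hom hg.1 hf.1 hg.2 hf.2
  unfold Grpd.IsCMAt
  rw [hc]
  exact this


end Groth.Agent.S9766
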