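import Groth.Statements.S9767
import Groth.Agent.L02.CMMor.AffineChart
import Groth.Agent.L19.FlatComp

set_option autoImplicit false
universe u
open FlatMor

set_option backward.isDefEq.respectTransparency.types false
namespace Groth.L20.CMDecomp

open AlgebraicGeometry CategoryTheory IsLocalRing L02.CMMor

theorem cm_decomp {R M L : Type u} [CommRing R] [IsLocalRing R] [CommRing M] [IsLocalRing M] [CommRing L]
    [IsLocalRing L] (ψ : R →+* M) (φ : M →+* L) [IsLocalHom ψ] [IsLocalHom φ] (hφ : φ.Flat)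
    (h : LocCoh.IsCohenMacaulayLocalRing (L ⧸ (maximalIdeal R).map (φ.comp ψ)))
    [IsNoetherianRing (M ⧸ (maximalIdeal R).map ψ)] :
    LocCoh.IsCohenMacaulayLocalRing (M ⧸ (maximalIdeal R).map ψ) ∧
      LocCoh.IsCohenMacaulayLocalRing (L ⧸ (maximalIdeal M).map φ) := by
  let I := (maximalIdeal R).map ψ
  let J := (maximalIdeal R).map (φ.comp ψ)
  have hJI : I.map φ = J := Ideal.map_map ψ φ
  let q : M ⧸ I →+* L ⧸ J := Ideal.quotientMap J φ (Ideal.map_le_iff_le_comap.mp hJI.le)
  haveI : Nontrivial (L ⧸ J) := Ideal.Quotient.nontrivial_iff.mpr fun hh => (maximalIdeal.isMaximal L).ne_top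
    (top_le_iff.mp (hh ▸ (IsLocalRing.map_maximalIdeal_le (φ.comp ψ))))
  haveI : Nontrivial (M ⧸ I) := Ideal.Quotient.nontrivial_iff.mpr fun hh => (maximalIdeal.isMaximal M).ne_top
    (top_le_iff.mp (hh ▸ (IsLocalRing.map_maximalIdeal_le ψ)))
  haveI : IsLocalRing (L ⧸ J) := IsLocalRing.of_surjective' _ Ideal.Quotient.mk_surjective
  haveI : IsLocalRing (M ⧸ I) := IsLocalRing.of_surjective' _ Ideal.Quotient.mk_surjective
  haveI := h
  haveI : IsNoetherianRing (L ⧸ J) := inferInstance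
  haveI : IsLocalHom q := by
    refine ⟨fun a ha => ?_⟩
    obtain ⟨a, rfl⟩ := Ideal.Quotient.mk_surjective a
    haveI : IsLocalHom (Ideal.Quotient.mk J) := IsLocalHom.of_surjective _ Ideal.Quotient.mk_surjective
    have h3 : IsUnit (φ a) := IsUnit.of_map (Ideal.Quotient.mk J) _ ha
    exact (IsUnit.of_map φ a h3).map _
  letI : Algebra (M ⧸ I) (L ⧸ J) := q.toAlgebra
  haveI : IsLocalHom (algebraMap (M ⧸ I) (L ⧸ J)) := ‹IsLocalHom q›
  haveI : Module.Flat (M ⧸ I) (L ⧸ J) := by
    letI := φ.toAlgebra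
    haveI : Module.Flat M L := hφ
    have hflat : Module.Flat (M ⧸ I) (TensorProduct M (M ⧸ I) L) := inferInstance
    let e := ((Algebra.TensorProduct.quotIdealMapEquivTensorQuot L I).restrictScalars M).toLinearEquiv ≪≫ₗ
      (Algebra.TensorProduct.comm M L (M ⧸ I)).toLinearEquiv
    let e' : L ⧸ J ≃+* L ⧸ I.map (algebraMap M L) := Ideal.quotEquivOfEq hJI.symm
    haveI : IsScalarTower M (M ⧸ I) (L ⧸ J) := IsScalarTower.of_algebraMap_eq fun _ => rfl
    let lin : (L ⧸ J) →ₗ[M ⧸ I] TensorProduct M (M ⧸ I) L :=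
      { toFun := fun z => e (e' z)
        map_add' := fun z w => by rw [map_add, map_add]
        map_smul' := fun r z => by
          obtain ⟨r, rfl⟩ := Ideal.Quotient.mk_surjective r
          obtain ⟨z, rfl⟩ := Ideal.Quotient.mk_surjective z
          rw [RingHom.id_apply, ← Ideal.Quotient.algebraMap_eq, algebraMap_smul, algebraMap_smul, ← map_smul e]
          congr 1 }
    exact Module.Flat.of_linearEquiv (LinearEquiv.ofBijective lin (e.bijective.comp e'.bijective))
  have hm : (maximalIdeal M).map (Ideal.Quotient.mk I) = maximalIdeal (M ⧸ I) :=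
    IsLocalRing.map_maximalIdeal_of_surjective _ Ideal.Quotient.mk_surjective
  obtain ⟨h₁, h₂⟩ := (cm_iff_of_flat (M ⧸ I) (L ⧸ J)).mp h
  refine ⟨h₁, cm_of_ringEquiv (RingEquiv.symm ?_) h₂⟩
  refine ((Ideal.quotEquivOfEq (show (maximalIdeal M).map φ = J ⊔ (maximalIdeal M).map φ from
    (sup_eq_right.mpr ((hJI.symm.le).trans (Ideal.map_mono (IsLocalRing.map_maximalIdeal_le ψ)))).symm)).trans
    (DoubleQuot.quotQuotEquivQuotSup J ((maximalIdeal M).map φ)).symm).trans (Ideal.quotEquivOfEq ?_)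
  show ((maximalIdeal M).map φ).map (Ideal.Quotient.mk J) = EGA4.mB (M ⧸ I) (L ⧸ J)
  show _ = (maximalIdeal (M ⧸ I)).map q
  rw [← hm, Ideal.map_map, Ideal.map_map]
  congr 1

theorem main {X Y Z : Scheme.{u}} (f : X ⟶ Y) (g : Y ⟶ Z) (x : X)
    (hNg : IsLocallyNoetherian (g.fiber (g (f x))))
    (h : MoreMor.IsCMAt (f ≫ g) x) (hfl : (f.stalkMap x).hom.Flat) :
    MoreMor.IsCMAt f x ∧ MoreMor.IsCMAt g (f x) := by
  have hgfl := Groth.L19.flat_stalkMap_of_comp f g x hfl h.1
  rw [← grpd_isCMAt_iff] at h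
  rw [← grpd_isCMAt_iff, ← grpd_isCMAt_iff]
  haveI : IsNoetherianRing (Y.presheaf.stalk (f x) ⧸
      (maximalIdeal (Z.presheaf.stalk (g (f x)))).map (g.stalkMap (f x)).hom) := by
    letI := (g.stalkMap (f x)).hom.toAlgebra
    obtain ⟨e⟩ := Groth.L07.CIScheme.exists_fiberStalkEquiv g (g (f x)) (g.asFiber (f x)) (f x)
      (g.fiberι_asFiber (f x))
    haveI := hNg
    exact isNoetherianRing_of_ringEquiv _ e.symm
  have hc : ((f ≫ g).stalkMap x).hom = (f.stalkMap x).hom.comp (g.stalkMap (f x)).hom :=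
    congrArg CommRingCat.Hom.hom (Scheme.Hom.stalkMap_comp f g x)
  have h2 : LocCoh.IsCohenMacaulayLocalRing (X.presheaf.stalk x ⧸
      (maximalIdeal (Z.presheaf.stalk (g (f x)))).map ((f.stalkMap x).hom.comp (g.stalkMap (f x)).hom)) := by
    rw [← hc]; exact h.2
  obtain ⟨h₁, h₃⟩ := cm_decomp (g.stalkMap (f x)).hom (f.stalkMap x).hom hfl h2
  exact ⟨⟨hfl, h₃⟩, ⟨hgfl, h₁⟩⟩

end Groth.L20.CMDecomp
namespace Groth.Agent.S9767

open AlgebraicGeometry CategoryTheory Limits in
/-- For f : X ⟶ Y, g : Y ⟶ Z and a point x of X such that the fibre of f through x and the fibre of g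
through f x are locally Noetherian, suppose the stalk map of f at x is flat and f ≫ g is
Cohen–Macaulay at x; then Cohen–Macaulayness passes to f at x and to g at the image point f x. The
published statement assumes all fibres of f, g and g ∘ f locally Noetherian; this row assumes only
the fibres of f and g through x and f x. -/
theorem result {X Y Z : Scheme.{u}} (f : X ⟶ Y) (g : Y ⟶ Z) (x : X)
    (hNf : IsLocallyNoetherian (f.fiber (f x))) (hNg : IsLocallyNoetherian (g.fiber (g (f x))))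
    (h : MoreMor.IsCMAt (f ≫ g) x) (hfl : (f.stalkMap x).hom.Flat) : MoreMor.IsCMAt f x ∧ MoreMor.IsCMAt g (f x) := by
  exact Groth.L20.CMDecomp.main f g x hNg h hfl


end Groth.Agent.S9767
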