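import Groth.Statements.S9774
import Groth.Agent.L14.FlatMor.CompPair

set_option autoImplicit false
universe u
attribute [local instance] HasDerivedCategory.standard
open FlatMor

namespace Groth.Agent.S9774

open AlgebraicGeometry CategoryTheory Limits in
/-- Let S be a locally Noetherian scheme, g : Y ⟶ S locally of finite type, f : X ⟶ Y a perfect morphism
(perfect ring maps on all pairs of affine opens), and assume the composite f ≫ g is Koszul at every
point of X (a local complete intersection morphism). Then f is Koszul at every point of X, and g is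
Koszul at the point f x for each x ∈ X. -/
theorem result {X Y S : Scheme.{u}} (f : X ⟶ Y) (g : Y ⟶ S) [IsLocallyNoetherian S] [LocallyOfFiniteType g]
    (hf : MoreMor.IsPerfectMor f) (h : ∀ x : X, Synt.IsKoszulAt (f ≫ g) x) :
    (∀ x : X, Synt.IsKoszulAt f x) ∧ ∀ x : X, Synt.IsKoszulAt g (f x) := by
  haveI : IsLocallyNoetherian Y := LocallyOfFiniteType.isLocallyNoetherian g
  refine forall_and.mp fun x => Groth.L14.FlatMor.koszulAt_pair f g x (h x) ?_
  intro U V hU hV e n α hα hαC q hq E _ _ _ _
  haveI : IsNoetherianRing Γ(Y, V) := IsLocallyNoetherian.component_noetherian ⟨V, hV⟩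
  letI := (f.appLE V U e).hom.toAlgebra
  let π : MvPolynomial (Fin n) Γ(Y, V) →ₐ[Γ(Y, V)] Γ(X, U) :=
    { α with commutes' := fun b => RingHom.congr_fun hαC b }
  have hπ : Function.Surjective π := hα
  have h1 : DRing.HasFiniteTorDim Γ(Y, V) (MvPolynomial (Fin n) Γ(Y, V) ⧸ RingHom.ker α) := by
    obtain ⟨d, hd⟩ := (hf U V hU hV e).2
    exact ⟨d, Groth.L07.DiagRes.hasTorDimLE_congr
      (Ideal.quotientKerAlgEquivOfSurjective (f := π) hπ).symm.toLinearEquiv hd⟩
  obtain ⟨k, hk⟩ := Groth.L14.FlatMor.res_mvPolynomial (n := n) (MvPolynomial (Fin n) Γ(Y, V) ⧸ RingHom.ker α) h1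
  haveI : Module.Flat (MvPolynomial (Fin n) Γ(Y, V)) E := IsLocalization.flat E q.primeCompl
  exact ⟨k, Groth.L07.DiagRes.res_baseChange_flat hk⟩

end Groth.Agent.S9774
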