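import Groth.Statements.S9778
import Groth.Agent.L20.Weight.Isolate

set_option autoImplicit false
universe u
open FlatMor

set_option linter.style.haveILetI false
set_option backward.isDefEq.respectTransparency.types false

namespace Groth.Agent.S9778

open AlgebraicGeometry CategoryTheory Limits in
/-- Let f : X ⟶ S be separated and locally of finite type, s a point of S and x_1, …, x_n pairwise
distinct points of X over s at which f is quasi-finite (isolated points of the fibre). Then there
are an étale morphism g : U ⟶ S with a point u over s and finitely many pairwise disjoint open and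
closed subschemes V_{i,j} of X_U = X ×_S U, each finite over U and containing exactly one point
v_{i,j} over u, with v_{i,j} mapping to x_i and κ(v_{i,j}) purely inseparable over κ(u), such that
every point of X_U over u mapping to some x_i lies in one of the V_{i,j} (so the open and closed
complement W of their union has no point over u mapping to any x_i). -/
theorem result {X S : Scheme.{u}} (f : X ⟶ S) [LocallyOfFiniteType f] [IsSeparated f] (s : S)
    {ι : Type} [Finite ι] (x : ι → ↑X) (hinj : Function.Injective x) (hs : ∀ i, f (x i) = s) (hx : ∀ i, f.QuasiFiniteAt (x i)) :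
    ∃ (U : Scheme.{u}) (g : U ⟶ S) (u : U), Etale g ∧ g u = s ∧
      ∃ (J : ι → Type) (_ : ∀ i, Finite (J i)) (V : ∀ i, J i → (pullback f g).Opens) (v : ∀ i, J i → ↑(pullback f g)),
        (∀ i j, IsClopen ((V i j : Set ↑(pullback f g)))) ∧
        (∀ i j i' j', ((V i j : Set ↑(pullback f g)) ∩ (V i' j')).Nonempty → i = i' ∧ HEq j j') ∧
        (∀ i j, v i j ∈ V i j ∧ IsFinite ((V i j).ι ≫ pullback.snd f g) ∧ pullback.snd f g (v i j) = u ∧
          (∀ w : ↑(pullback f g), w ∈ V i j → pullback.snd f g w = u → w = v i j) ∧
          (letI := ((pullback.snd f g).residueFieldMap (v i j)).hom.toAlgebra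
           IsPurelyInseparable ↑(U.residueField (pullback.snd f g (v i j))) ↑((pullback f g).residueField (v i j))) ∧
          pullback.fst f g (v i j) = x i) ∧
        (∀ (w : ↑(pullback f g)) (i : ι), pullback.snd f g w = u → pullback.fst f g w = x i → ∃ j, w ∈ V i j) := by
  classical
  haveI := Fintype.ofFinite ι
  obtain ⟨U, g, u, hg, hus, κ, _, W, v, hWc, hWd, hWv, hWcov⟩ :=
    Groth.L20.Weight.exists_isolate f s (Finset.univ.image x) (fun y hy => by
      obtain ⟨i, -, rfl⟩ := Finset.mem_image.1 hy; exact hx i)
  let K : ι → Set κ := fun i => {a | pullback.fst f g (v a) = x i}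
  let e : ∀ i, Fin (Nat.card (K i)) ≃ K i := fun i => (Finite.equivFin (K i)).symm
  refine ⟨U, g, u, hg, hus, fun i => Fin (Nat.card (K i)), fun i => inferInstance,
    fun i j => W (e i j).1, fun i j => v (e i j).1, fun i j => hWc _, ?_, fun i j => ?_, ?_⟩
  · intro i j i' j' h
    have h1 : (e i j).1 = (e i' j').1 := hWd _ _ h
    have hii : i = i' := hinj (by
      have h2 := (e i j).2
      have h3 := (e i' j').2
      simp only [K, Set.mem_ofPred_eq] at h2 h3
      rw [← h2, ← h3, h1])
    subst hii
    exact ⟨rfl, heq_of_eq ((e i).injective (Subtype.ext h1))⟩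
  · obtain ⟨h1, h2, h3, h4, h5, -⟩ := hWv (e i j).1
    exact ⟨h1, h2, h3, h4, h5, (e i j).2⟩
  · intro w i hwu hwx
    obtain ⟨a, ha⟩ := hWcov w hwu (Finset.mem_image.2 ⟨i, Finset.mem_univ _, hwx.symm⟩)
    obtain ⟨h1, h2, h3, h4, h5, h6⟩ := hWv a
    have hva : a ∈ K i := by
      show pullback.fst f g (v a) = x i
      rw [← h4 w ha hwu, hwx]
    exact ⟨(e i).symm ⟨a, hva⟩, by show w ∈ W (e i _).1; rw [Equiv.apply_symm_apply]; exact ha⟩

end Groth.Agent.S9778
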