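import Groth.Statements.S9781
import Groth.Agent.L23.BranchNbhd

set_option autoImplicit false
set_option backward.isDefEq.respectTransparency.types false
universe u
open Brnch

namespace Groth.Agent.S9781

open AlgebraicGeometry CategoryTheory Limits in
/-- The local ring of X at x is unibranch exactly when, for each étale morphism g : U ⟶ X and point u
over x with trivial residue field extension (an elementary étale neighbourhood), the point u lies on
a single irreducible component of U. -/
theorem result (X : Scheme.{u}) (x : X) :
    CAlg2.IsUnibranch ↑(X.presheaf.stalk x) ↔ ∀ (U : Scheme.{u}) (g : U ⟶ X) (u : U), Hens2.IsEtaleNbhd g u x →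
      {Z : Set ↑U | Z ∈ irreducibleComponents ↑U ∧ u ∈ Z}.encard = 1 := by
  rw [← Groth.L23.Branch.numBranches_eq_one_iff]
  have hid : Hens2.IsEtaleNbhd (𝟙 X) x x := ⟨inferInstance, rfl, by
    rw [Scheme.residueFieldMap_id]
    exact Function.bijective_id⟩
  have hpos : ∀ (U : Scheme.{u}) (u : U), 1 ≤ {Z : Set U | Z ∈ irreducibleComponents U ∧ u ∈ Z}.encard :=
    fun U u => Set.one_le_encard_iff_nonempty.2
      ⟨irreducibleComponent u, irreducibleComponent_mem_irreducibleComponents u, mem_irreducibleComponent⟩
  refine ⟨fun h U g u hg => le_antisymm ((Groth.L23.Branch.components_le_numBranchesAt hg).trans_eq h) (hpos U u),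
    fun h => le_antisymm (ENat.forall_natCast_le_iff_le.1 fun m hm => ?_)
      ((hpos X x).trans (Groth.L23.Branch.components_le_numBranchesAt hid))⟩
  obtain ⟨U, g, u, hg, hle⟩ := Groth.L23.Branch.exists_nbhd_components_ge X x m hm
  exact hle.trans_eq (h U g u hg)

end Groth.Agent.S9781
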