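import Groth.Statements.S9791
import Groth.Agent.S2351
import Groth.Agent.L19.NormalFactor
import Groth.Agent.L25.Extend.Codim
import Mathlib.AlgebraicGeometry.Morphisms.UniversallyOpen
import Mathlib.AlgebraicGeometry.PullbackCarrier
import Mathlib.AlgebraicGeometry.Morphisms.Preimmersion

set_option autoImplicit false
set_option linter.style.haveILetI false
universe u
open CategoryTheory CategoryTheory.Limits AlgebraicGeometry
open FlatMor

namespace Groth.Agent.S9791

/-- In the case of integral schemes: let f : X ⟶ Y be a smooth morphism with X and Y integral, and let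
X^ν ⟶ X and Y^ν ⟶ Y be the normalizations (in the function fields). Then X^ν is isomorphic over X to
the fibre product X ×_Y Y^ν, and such an isomorphism is unique. (The published statement requires
only that each quasi-compact open subset of Y meet finitely many irreducible components of Y, and
also derives this for X; this row assumes X and Y integral, the case in which the normalization used
here is defined. The quasi-compactness and quasi-separatedness binders on Spec K(X) → X and Spec
K(Y) → Y always hold and are needed only to form the normalization.) -/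
theorem result {X Y : Scheme.{u}} (f : X ⟶ Y) [Smooth f] [IsIntegral X] [IsIntegral Y]
    [QuasiCompact (X.fromSpecStalk (genericPoint X))] [QuasiSeparated (X.fromSpecStalk (genericPoint X))]
    [QuasiCompact (Y.fromSpecStalk (genericPoint Y))] [QuasiSeparated (Y.fromSpecStalk (genericPoint Y))] :
    ∃! e : Curv2.normalization X ≅ pullback f (Curv2.normalizationι Y),
      e.hom ≫ pullback.fst f (Curv2.normalizationι Y) = Curv2.normalizationι X := by
  haveI := Groth.Agent.S2351.result Y |>.choose
  haveI := Groth.Agent.S2351.result X |>.choose
  obtain ⟨_, hnY, -, hgY, -⟩ := Groth.Agent.S2351.result Y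
  obtain ⟨_, hnX, -, hgX, -⟩ := Groth.Agent.S2351.result X
  let νX := Curv2.normalizationι X
  let νY := Curv2.normalizationι Y
  let N' := pullback f νY
  have hmaxI : ∀ (Z : Scheme.{u}) [IsIntegral Z] (z : Z), (∀ z' : Z, z' ⤳ z → z' = z) → z = genericPoint Z :=
    fun Z _ z hz => (hz _ ((genericPoint_spec Z).specializes trivial)).symm
  have hN : Pi1.IsNormalScheme N' := Groth.L25.Extend.isNormalScheme_of_smooth (pullback.snd f νY) hnY
  have hgfη : f (genericPoint X) = genericPoint Y := by
    have hdense : DenseRange (f : X → Y) := by
      have ho : IsOpen (Set.range (f : X → Y)) := f.isOpenMap.isOpen_range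
      exact ho.dense (Set.range_nonempty _)
    exact IsGenericPoint.eq (by
      have h := (genericPoint_spec X).image f.continuous
      rwa [Set.image_univ, hdense.closure_eq] at h) (genericPoint_spec Y)
  have hmax : ∀ z : N', (∀ z' : N', z' ⤳ z → z' = z) →
      pullback.fst f νY z = genericPoint X ∧ (pullback.fst f νY ≫ f) z = genericPoint Y := by
    intro z hz
    let w := pullback.snd f νY z
    have hw : w = genericPoint (Curv2.normalization Y) := by
      obtain ⟨z', hz'z, hz'⟩ := Flat.generalizingMap (pullback.snd f νY)
        ((genericPoint_spec (Curv2.normalization Y)).specializes (y := w) trivial)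
      rw [← hz']
      exact (congrArg (pullback.snd f νY) (hz z' hz'z)).symm
    let t := (Y.fromSpecStalk (genericPoint Y)).toNormalization
    let k : pullback (pullback.snd f νY) t ⟶ X := pullback.fst (pullback.snd f νY) t ≫ pullback.fst f νY
    have hk : IsPullback k (pullback.snd (pullback.snd f νY) t) f (t ≫ νY) :=
      ((IsPullback.of_hasPullback (pullback.snd f νY) t).flip.paste_vert (IsPullback.of_hasPullback f νY).flip).flip
    have htν : t ≫ νY = Y.fromSpecStalk (genericPoint Y) := Scheme.Hom.toNormalization_fromNormalization _
    have hη : νY (t (IsLocalRing.closedPoint _)) = genericPoint Y :=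
      (Scheme.Hom.comp_apply t νY _).symm.trans ((congrArg (fun φ => φ (IsLocalRing.closedPoint _)) htν).trans Scheme.fromSpecStalk_closedPoint)
    haveI hpre : IsPreimmersion k := by
      haveI : IsPreimmersion (t ≫ νY) := by
        rw [htν]; infer_instance
      exact MorphismProperty.of_isPullback (P := @IsPreimmersion) hk.flip inferInstance
    have htw : t (IsLocalRing.closedPoint _) = w := by
      rw [hw]
      exact Groth.L18.NormField.toNormalization_base _
    obtain ⟨p, hp, -⟩ := Scheme.Pullback.exists_preimage_pullback (f := pullback.snd f νY) (g := t) z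
      (IsLocalRing.closedPoint _) htw.symm
    have hfx : f (pullback.fst f νY z) = genericPoint Y := by
      rw [← Scheme.Hom.comp_apply, pullback.condition, Scheme.Hom.comp_apply]
      show νY w = _
      rw [← htw]
      exact hη
    obtain ⟨p', hp', -⟩ := Scheme.exists_preimage_of_isPullback hk (genericPoint X)
      (IsLocalRing.closedPoint _) (hgfη.trans hη.symm)
    have hsp : p' ⤳ p := by
      rw [← k.isEmbedding.isInducing.specializes_iff]
      show k.base p' ⤳ k p
      rw [hp']
      exact (genericPoint_spec X).specializes trivial
    have heq := hz _ (hp ▸ hsp.map (pullback.fst (pullback.snd f νY) t).continuous)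
    refine ⟨?_, by rw [Scheme.Hom.comp_apply]; exact hfx⟩
    rw [← heq]
    exact hp'
  have hX : ∀ z, (∀ z' : Curv2.normalization X, z' ⤳ z → z' = z) → νX z = genericPoint X := fun z hz => by
    rw [hmaxI _ z hz]; exact hgX
  have hXY : ∀ z, (∀ z' : Curv2.normalization X, z' ⤳ z → z' = z) → (νX ≫ f) z = genericPoint Y := fun z hz => by
    rw [Scheme.Hom.comp_apply, hX z hz, hgfη]
  obtain ⟨c, hc, hcu⟩ := Groth.L19.NormalFactor.existsUnique_factor Y (νX ≫ f) hnX hXY
  obtain ⟨b, hb, -⟩ := Groth.L19.NormalFactor.existsUnique_factor X (pullback.fst f νY) hN (fun z hz => (hmax z hz).1)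
  let a : Curv2.normalization X ⟶ N' := pullback.lift νX c hc.symm
  have ha : a ≫ pullback.fst f νY = νX := pullback.lift_fst _ _ _
  have hab : a ≫ b = 𝟙 _ :=
    (Groth.L19.NormalFactor.existsUnique_factor X νX hnX hX).unique
      (show (a ≫ b) ≫ νX = νX by rw [Category.assoc, hb, ha]) (Category.id_comp νX)
  have hba : b ≫ a = 𝟙 _ := by
    apply pullback.hom_ext
    · rw [Category.assoc, ha, hb, Category.id_comp]
    · refine (Groth.L19.NormalFactor.existsUnique_factor Y (pullback.fst f νY ≫ f) hN
        (fun z hz => (hmax z hz).2)).unique ?_ ?_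
      · show ((b ≫ a) ≫ pullback.snd f νY) ≫ νY = _
        rw [Category.assoc, ← pullback.condition, Category.assoc, reassoc_of% ha, reassoc_of% hb]
      · show (𝟙 _ ≫ pullback.snd f νY) ≫ νY = _
        rw [Category.id_comp, ← pullback.condition]
  refine ⟨⟨a, b, hab, hba⟩, ha, fun e he => Iso.ext ?_⟩
  apply pullback.hom_ext
  · exact he.trans ha.symm
  · refine (hcu (e.hom ≫ pullback.snd f νY) ?_).trans (pullback.lift_snd _ _ _).symm
    show (e.hom ≫ pullback.snd f νY) ≫ νY = νX ≫ f
    rw [Category.assoc, ← pullback.condition, reassoc_of% he]

end Groth.Agent.S9791
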