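import Mathlib.RingTheory.Ideal.KrullsHeightTheorem
import Groth.Statements.S9794
-- import your own Groth.Agent.* helpers here

set_option autoImplicit false
universe u
open CategoryTheory AlgebraicGeometry TopologicalSpace
open Props

namespace Groth.Agent.S9794

/-- In a Noetherian scheme, an infinite dense set of points contains a countable subset which is dense. -/
theorem result (S : Scheme.{u}) [IsNoetherian S]
    (T : Set S) (hT : T.Infinite) (hd : Dense T) :
    ∃ E : Set S, E ⊆ T ∧ E.Countable ∧ Dense E := by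
  have main : ∀ W : TopologicalSpace.Closeds S, IsIrreducible (W : Set S) → closure (T ∩ W) = (W : Set S) →
      ∃ E : Set S, E ⊆ T ∧ E.Countable ∧ closure E = (W : Set S) := by
    intro W
    induction W using WellFoundedLT.induction with
    | _ W ih =>
    intro hW hWT
    obtain ⟨w, hw⟩ := QuasiSober.sober hW W.isClosed
    by_cases hwT : w ∈ T
    · exact ⟨{w}, by simpa using hwT, Set.countable_singleton w, hw.def⟩
    let L : Set (Set S) := {V | IsClosed V ∧ IsIrreducible V ∧ V ⊆ W ∧ V ≠ W ∧ closure (T ∩ V) = V}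
    let M : Set (Set S) := {V | V ∈ L ∧ ∀ V' ∈ L, V ⊆ V' → V' = V}
    have hmax : ∀ t ∈ T ∩ W, ∃ V ∈ M, t ∈ V := by
      rintro t ⟨htT, htW⟩
      let P : Set (Spec (S.presheaf.stalk t)) := {z | closure {S.fromSpecStalk t z} ∈ L}
      have hP : (IsLocalRing.closedPoint (S.presheaf.stalk t)) ∈ P := by
        show closure {S.fromSpecStalk t _} ∈ L
        rw [Scheme.fromSpecStalk_closedPoint]
        refine ⟨isClosed_closure, isIrreducible_singleton.closure, W.isClosed.closure_subset_iff.mpr (by simpa using htW),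
          fun e => hwT (((show IsGenericPoint t (W : Set S) from e).eq hw) ▸ htT), ?_⟩
        refine le_antisymm ((closure_mono Set.inter_subset_right).trans closure_closure.le) (closure_mono ?_)
        simpa using ⟨htT, subset_closure (Set.mem_singleton t)⟩
      obtain ⟨_, ⟨z, hz, rfl⟩, hmin⟩ := wellFounded_lt.has_min ((fun z => z.asIdeal.height) '' P) ⟨_, _, hP, rfl⟩
      refine ⟨closure {S.fromSpecStalk t z}, ⟨hz, fun V' hV' hle => ?_⟩,
        specializes_iff_mem_closure.mp ((Scheme.range_fromSpecStalk (X := S) (x := t)).le ⟨z, rfl⟩)⟩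
      obtain ⟨v, hv⟩ := QuasiSober.sober hV'.2.1 hV'.1
      have h1 : v ⤳ S.fromSpecStalk t z := hv.specializes (hle (subset_closure (Set.mem_singleton _)))
      obtain ⟨z', rfl⟩ : v ∈ Set.range (S.fromSpecStalk t) :=
        (Scheme.range_fromSpecStalk (X := S) (x := t)).ge
          (h1.trans ((Scheme.range_fromSpecStalk (X := S) (x := t)).le ⟨z, rfl⟩))
      have h2 : z'.asIdeal ≤ z.asIdeal :=
        (PrimeSpectrum.le_iff_specializes z' z).mpr ((S.fromSpecStalk t).isEmbedding.isInducing.specializes_iff.mp h1)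
      rcases eq_or_lt_of_le h2 with e | hlt
      · rw [← hv.def, PrimeSpectrum.ext e]
      · haveI : IsNoetherianRing (S.presheaf.stalk t) := inferInstance
        haveI : z'.asIdeal.FiniteHeight := Ideal.finiteHeight_of_isNoetherianRing _
        haveI : z.asIdeal.FiniteHeight := Ideal.finiteHeight_of_isNoetherianRing _
        exact absurd (Ideal.height_strict_mono_of_isPrime hlt)
          (hmin _ ⟨z', show closure {S.fromSpecStalk t z'} ∈ L from hv.def.symm ▸ hV', rfl⟩)
    have hMinf : M.Infinite := by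
      intro hfin
      have hsub : (W : Set S) ⊆ ⋃ V ∈ M, V := by
        rw [← hWT]
        refine (hfin.isClosed_biUnion fun V hV => hV.1.1).closure_subset_iff.mpr fun t ht => ?_
        obtain ⟨V, hV, htV⟩ := hmax t ht
        exact Set.mem_iUnion₂.mpr ⟨V, hV, htV⟩
      obtain ⟨V, hV, hwV⟩ := Set.mem_iUnion₂.mp (hsub hw.mem)
      exact hV.1.2.2.2.1 (hV.1.2.2.1.antisymm (hw.def ▸ hV.1.1.closure_subset_iff.mpr (by simpa using hwV)))
    let v : ℕ ↪ M := hMinf.natEmbedding
    choose E hET hEc hEcl using fun n => ih ⟨(v n).1, (v n).2.1.1⟩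
      (lt_of_le_of_ne (v n).2.1.2.2.1 fun e => (v n).2.1.2.2.2.1 (congrArg SetLike.coe e))
      (v n).2.1.2.1 (v n).2.1.2.2.2.2
    let E' : Set S := ⋃ n, E n
    have hsubW : closure E' ⊆ (W : Set S) := W.isClosed.closure_subset_iff.mpr (Set.iUnion_subset fun n =>
      subset_closure.trans ((hEcl n).le.trans (v n).2.1.2.2.1))
    refine ⟨E', Set.iUnion_subset hET, Set.countable_iUnion hEc, hsubW.antisymm ?_⟩
    obtain ⟨C, hCfin, hCcl, hCirr, hCeq, hCant⟩ : ∃ C : Set (Set S), C.Finite ∧ (∀ A ∈ C, IsClosed A) ∧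
        (∀ A ∈ C, IsIrreducible A) ∧ closure E' = ⋃₀ C ∧ ∀ A ∈ C, ∀ B ∈ C, A ⊆ B → B = A := by
      obtain ⟨C, hCfin, hCcl, hCirr, hCeq⟩ :=
        TopologicalSpace.NoetherianSpace.exists_finite_set_isClosed_irreducible (isClosed_closure (s := E'))
      refine ⟨{A | Maximal (· ∈ C) A}, hCfin.subset fun A hA => hA.1, fun A hA => hCcl A hA.1,
        fun A hA => hCirr A hA.1, hCeq.trans (Set.Subset.antisymm ?_ (Set.sUnion_subset_sUnion fun A hA => hA.1)),
        fun A hA B hB hAB => hA.eq_of_ge hB.1 hAB⟩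
      rintro x ⟨A, hA, hxA⟩
      obtain ⟨B, hAB, hB⟩ := hCfin.exists_le_maximal hA
      exact ⟨B, hB, hAB hxA⟩
    by_contra hne
    -- every `v n` lies in some member of `C`, which is then in `L`
    have hn : ∀ n, ∃ A : C, (v n).1 ⊆ A.1 := fun n => by
      have h1 : (v n).1 ⊆ ⋃₀ C := by
        rw [← hCeq]
        exact (hEcl n).ge.trans (closure_mono (Set.subset_iUnion E n))
      obtain ⟨A, hA, hsub⟩ := isIrreducible_iff_sUnion_isClosed.mp (v n).2.1.2.1 hCfin.toFinset
        (fun A hA => hCcl A (hCfin.mem_toFinset.mp hA)) (by rwa [hCfin.coe_toFinset])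
      exact ⟨⟨A, hCfin.mem_toFinset.mp hA⟩, hsub⟩
    choose A hA using hn
    haveI := hCfin.to_subtype
    obtain ⟨n, m, hnm, heq⟩ := Finite.exists_ne_map_eq_of_infinite A
    have hAW : (A n).1 ⊆ W := (Set.subset_sUnion_of_mem (A n).2).trans (hCeq ▸ hsubW)
    have hAne : (A n).1 ≠ W := fun e => hne (e ▸ (hCeq.symm ▸ Set.subset_sUnion_of_mem (A n).2))
    -- shrink to the closure of the part of `T`
    obtain ⟨B, hB, hBT, hnB, hmB⟩ : ∃ B, B ⊆ (A n).1 ∧ B ∈ L ∧ (v n).1 ⊆ B ∧ (v m).1 ⊆ B := by
      obtain ⟨D, hDfin, hDcl, hDirr, hDeq⟩ :=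
        TopologicalSpace.NoetherianSpace.exists_finite_set_isClosed_irreducible (isClosed_closure (s := T ∩ (A n).1))
      have hvn : ∀ l, (v l).1 ⊆ (A n).1 → (v l).1 ⊆ closure (T ∩ (A n).1) := fun l hl =>
        (hEcl l).ge.trans (closure_mono (Set.subset_inter (hET l) (subset_closure.trans ((hEcl l).le.trans hl))))
      by_cases hD : (A n).1 ⊆ closure (T ∩ (A n).1)
      · exact ⟨(A n).1, subset_rfl, ⟨hCcl _ (A n).2, hCirr _ (A n).2, hAW, hAne,
          Set.Subset.antisymm ((hCcl _ (A n).2).closure_subset_iff.mpr Set.inter_subset_right) hD⟩, hA n, heq ▸ hA m⟩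
      · exfalso
        refine hD ?_
        -- `E'` is dense in `C`'s union, and `(A n)` is irreducible
        have hcov : (A n).1 ⊆ ⋃₀ (insert (closure (T ∩ (A n).1)) (C \ {(A n).1})) := by
          intro y hy
          have hy' : y ∈ closure E' := hCeq ▸ ⟨_, (A n).2, hy⟩
          have : E' ⊆ ⋃₀ (insert (closure (T ∩ (A n).1)) (C \ {(A n).1})) := by
            intro e he
            by_cases heA : e ∈ (A n).1
            · refine ⟨_, Set.mem_insert _ _, subset_closure ⟨?_, heA⟩⟩
              obtain ⟨l, hl⟩ := Set.mem_iUnion.mp he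
              exact hET l hl
            · obtain ⟨B, hB, heB⟩ := (hCeq ▸ subset_closure he : e ∈ ⋃₀ C)
              exact ⟨B, Set.mem_insert_of_mem _ ⟨hB, fun e' => heA (e' ▸ heB)⟩, heB⟩
          refine (IsClosed.closure_subset_iff ?_).mpr this hy'
          rw [Set.sUnion_eq_biUnion]
          refine (hCfin.sdiff.insert _).isClosed_biUnion fun B hB => ?_
          rcases Set.mem_insert_iff.mp hB with rfl | hB
          · exact isClosed_closure
          · exact hCcl B hB.1
        classical
        have hDf : (insert (closure (T ∩ (A n).1)) (C \ {(A n).1})).Finite := hCfin.sdiff.insert _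
        obtain ⟨B, hB, hsub⟩ := isIrreducible_iff_sUnion_isClosed.mp (hCirr _ (A n).2) hDf.toFinset
          (fun B hB => by
            rcases Set.mem_insert_iff.mp (hDf.mem_toFinset.mp hB) with rfl | hB
            · exact isClosed_closure
            · exact hCcl B hB.1) (by rwa [Set.Finite.coe_toFinset])
        rcases Set.mem_insert_iff.mp (hDf.mem_toFinset.mp hB) with rfl | hB'
        · exact hsub
        · exfalso
          -- then enlarge `A n`: use a maximal member
          exact hB'.2 (hCant (A n).1 (A n).2 B hB'.1 hsub)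
    have e1 := (v n).2.2 B hBT hnB
    have e2 := (v m).2.2 B hBT hmB
    exact hnm (v.injective (Subtype.ext (e1.symm.trans e2)))
  -- the components
  have hfinC : (irreducibleComponents S).Finite := TopologicalSpace.NoetherianSpace.finite_irreducibleComponents
  have hZ : ∀ Z ∈ irreducibleComponents S, closure (T ∩ Z) = Z := by
    intro Z hZ
    refine ((isClosed_of_mem_irreducibleComponents Z hZ).closure_subset_iff.mpr Set.inter_subset_right).antisymm ?_
    conv_lhs => rw [← closure_sUnion_irreducibleComponents_sdiff_singleton hfinC Z hZ]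
    have hO : IsOpen (⋃₀ (irreducibleComponents S \ {Z}))ᶜ := by
      rw [Set.sUnion_eq_biUnion, isOpen_compl_iff]
      exact hfinC.sdiff.isClosed_biUnion fun W hW => isClosed_of_mem_irreducibleComponents W hW.1
    refine (closure_minimal (hd.open_subset_closure_inter hO) isClosed_closure).trans (closure_mono ?_)
    rintro x ⟨hxO, hxT⟩
    obtain ⟨W, hW, hxW⟩ : x ∈ ⋃₀ irreducibleComponents S := by rw [sUnion_irreducibleComponents]; trivial
    by_cases hWZ : W = Z
    · exact ⟨hxT, hWZ ▸ hxW⟩
    · exact absurd ⟨W, ⟨hW, hWZ⟩, hxW⟩ hxO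
  choose E hET hEc hEcl using fun Z : irreducibleComponents S =>
    main ⟨Z.1, isClosed_of_mem_irreducibleComponents Z.1 Z.2⟩ Z.2.1 (hZ Z.1 Z.2)
  haveI := hfinC.to_subtype
  refine ⟨⋃ Z, E Z, Set.iUnion_subset hET, Set.countable_iUnion hEc, dense_iff_closure_eq.mpr (Set.eq_univ_of_forall fun x => ?_)⟩
  obtain ⟨W, hW, hxW⟩ : x ∈ ⋃₀ irreducibleComponents S := by rw [sUnion_irreducibleComponents]; trivial
  exact closure_mono (Set.subset_iUnion E ⟨W, hW⟩) ((hEcl ⟨W, hW⟩).ge hxW)

end Groth.Agent.S9794
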