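import Groth.Agent.L06.NormalAscent
import Groth.Agent.L21.Curve.SmoothDescent
import Groth.Statements.S9800
-- import your own Groth.Agent.* helpers here

set_option autoImplicit false
universe u
open CategoryTheory AlgebraicGeometry TopologicalSpace
open Props

namespace Groth.Agent.S9800

/-- A locally Noetherian normal scheme of dimension at most one is regular, that is, all of its local
rings are regular local rings. -/
theorem result (X : Scheme.{u})
    [IsLocallyNoetherian X] (hN : Pi1.IsNormalScheme X) (hd : topologicalKrullDim X ≤ 1) (x : X) :
    IsRegularLocalRing (X.presheaf.stalk x) := by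
  obtain ⟨h1, h2⟩ := hN x
  haveI := h1
  haveI := h2
  exact Groth.L06.NormalAscent.regular_of_normal_dim_le_one
    ((Groth.L21.SmoothDescent.ringKrullDim_stalk_le x).trans hd)

end Groth.Agent.S9800
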