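import Groth.Agent.L06.NormalAscent
import Groth.Agent.L21.Curve.SmoothDescent
import Groth.Agent.L04.CMLoc
import Groth.Statements.S9801
-- import your own Groth.Agent.* helpers here

set_option autoImplicit false
universe u
open CategoryTheory AlgebraicGeometry TopologicalSpace
open Props

namespace Groth.Agent.S9801

/-- A locally Noetherian normal scheme of dimension at most two is Cohen-Macaulay, that is, all of its
local rings are Cohen-Macaulay local rings. -/
theorem result (X : Scheme.{u})
    [IsLocallyNoetherian X] (hN : Pi1.IsNormalScheme X) (hd : topologicalKrullDim X ≤ 2) (x : X) :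
    LocCoh.IsCohenMacaulayLocalRing (X.presheaf.stalk x) := by
  obtain ⟨h1, h2⟩ := hN x
  haveI := h1
  haveI := h2
  by_cases h : ringKrullDim (X.presheaf.stalk x) ≤ 1
  · haveI := Groth.L06.NormalAscent.regular_of_normal_dim_le_one h
    exact Groth.L04.isCohenMacaulayLocalRing_of_regular _
  · have hdep := Groth.L06.NormalAscent.two_le_depth_of_normal h
    refine { supportDim_eq_depth := le_antisymm ?_ Groth.L04.depth_le_supportDim }
    rw [Module.supportDim_self_eq_ringKrullDim]
    refine ((Groth.L21.SmoothDescent.ringKrullDim_stalk_le x).trans hd).trans ?_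
    exact (WithBot.coe_le_coe (a := (2 : ℕ∞))).mpr hdep

end Groth.Agent.S9801
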