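import Groth.Statements.S9802
import Groth.Agent.L01.NagataFiniteType
import Groth.Agent.L01.NagataComplete
import Groth.Agent.L18.KerReduced
import Groth.Agent.S9833

set_option linter.style.haveILetI false
set_option backward.isDefEq.respectTransparency.types false
open TopologicalSpace

set_option autoImplicit false
universe u
open CategoryTheory AlgebraicGeometry TopologicalSpace
open Props

namespace Groth.Agent.S9802

/-- A locally Noetherian scheme is Nagata (every affine open has a Nagata coordinate ring) if and only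
if every integral closed subscheme is Japanese (every nonempty affine open of it has an N-2
coordinate ring). -/
theorem result (X : Scheme.{u})
    [IsLocallyNoetherian X] :
    (∀ U : X.Opens, IsAffineOpen U → CAlg.IsNagata Γ(X, U)) ↔
      ∀ (Z : Scheme.{u}) (i : Z ⟶ X) [IsClosedImmersion i] [IsIntegral Z]
        (V : Z.Opens) [Nonempty V], IsAffineOpen V → CAlg.IsN2 Γ(Z, V) := by
  constructor
  · intro h Z i hi hZ V hVne hV
    haveI : IsLocallyNoetherian X := inferInstance
    refine Groth.L01.Nagata.isN2_of_isNagata (Groth.Agent.S9833.result Z (fun W : X.affineOpens => i ⁻¹ᵁ W.1) ?_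
      (fun W => W.2.preimage i) (fun W => ?_) V hV)
    · rw [← Scheme.Hom.preimage_iSup, iSup_affineOpens_eq_top, Scheme.Hom.preimage_top]
    · exact Groth.L01.Nagata.isNagata_of_surjective (i.app W.1).hom (i.app_surjective W.1 W.2) (h _ W.2)
  · intro h U hU
    haveI : IsNoetherianRing Γ(X, U) := IsLocallyNoetherian.component_noetherian ⟨U, hU⟩
    refine ⟨inferInstance, fun p hp => ?_⟩
    let P : ↥(Spec Γ(X, U)) := ⟨p, hp⟩
    let x := hU.fromSpec P
    let C : Closeds X := ⟨closure {x}, isClosed_closure⟩
    let J := Scheme.IdealSheafData.vanishingIdeal C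
    have hirr : IsIrreducible (C : Set X) := isIrreducible_singleton.closure
    haveI : IsReduced J.subscheme := Groth.L18.isReduced_vanishingIdeal_subscheme C
    have hrange : Set.range J.subschemeι = (C : Set X) := by
      rw [J.range_subschemeι, Scheme.IdealSheafData.coe_support_vanishingIdeal]
    haveI : Nonempty J.subscheme := by
      obtain ⟨t, _⟩ : x ∈ Set.range J.subschemeι := hrange ▸ subset_closure rfl
      exact ⟨t⟩
    haveI : PreirreducibleSpace J.subscheme := ⟨fun A B hA hB hu hv => by
      obtain ⟨A', hA', rfl⟩ := J.subschemeι.isEmbedding.isInducing.isOpen_iff.1 hA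
      obtain ⟨B', hB', rfl⟩ := J.subschemeι.isEmbedding.isInducing.isOpen_iff.1 hB
      obtain ⟨a, -, ha⟩ := hu
      obtain ⟨b, -, hb⟩ := hv
      obtain ⟨z, hz, hc⟩ := hirr.isPreirreducible A' B' hA' hB'
        ⟨_, hrange ▸ ⟨a, rfl⟩, ha⟩ ⟨_, hrange ▸ ⟨b, rfl⟩, hb⟩
      obtain ⟨c, rfl⟩ : z ∈ Set.range J.subschemeι := hrange ▸ hz
      exact ⟨c, trivial, hc⟩⟩
    haveI : IrreducibleSpace J.subscheme := ⟨‹_›⟩
    haveI : IsIntegral J.subscheme := isIntegral_of_irreducibleSpace_of_isReduced _
    let V := J.subschemeι ⁻¹ᵁ U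
    haveI : Nonempty V := by
      obtain ⟨t, ht⟩ : x ∈ Set.range J.subschemeι := hrange ▸ subset_closure rfl
      refine ⟨⟨t, ?_⟩⟩
      show J.subschemeι t ∈ U
      rw [ht, ← SetLike.mem_coe, ← hU.range_fromSpec]
      exact ⟨P, rfl⟩
    have hN2 := h J.subscheme J.subschemeι V (hU.preimage _)
    have hI : J.ideal ⟨U, hU⟩ = p := by
      have hpre : hU.fromSpec ⁻¹' closure {x} = closure ({P} : Set ↥(Spec Γ(X, U))) := by
        rw [hU.fromSpec.isOpenEmbedding.isOpenMap.preimage_closure_eq_closure_preimage
          hU.fromSpec.continuous]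
        exact congrArg _ (Set.ext fun y =>
          ⟨fun hy => hU.fromSpec.isOpenEmbedding.injective hy, fun hy => congrArg _ hy⟩)
      refine (congrArg PrimeSpectrum.vanishingIdeal hpre).trans ?_
      exact (PrimeSpectrum.vanishingIdeal_closure _).trans (PrimeSpectrum.vanishingIdeal_singleton P)
    have e := ((J.subschemeObjIso ⟨U, hU⟩).commRingCatIsoToRingEquiv).trans (Ideal.quotEquivOfEq hI)
    exact Groth.L01.NagataComplete.isN2_of_ringEquiv e hN2

end Groth.Agent.S9802
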