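import Groth.Statements.S9803
import Mathlib.AlgebraicGeometry.AffineSpace
import Mathlib.AlgebraicGeometry.QuasiAffine
import Mathlib.AlgebraicGeometry.Pullbacks

set_option autoImplicit false
universe u
open CategoryTheory AlgebraicGeometry TopologicalSpace
open Props

namespace Groth.Agent.S9803

section Helpers
open MvPolynomial TensorProduct

variable {A : Type u} [CommRing A] {ι : Type u} [Fintype ι] (f : ι → A)
variable {B : Type u} [CommRing B] [Algebra A B]

theorem exists_equiv {T : Type u} [CommRing T] [Algebra A T] (v : Option ι → T)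
    (hv : ∑ i, algebraMap A T (f i) * v (some i) = 1)
    (hlift : ∀ {D : Type u} [CommRing D] [Algebra A D] (w : Option ι → D),
      ∑ i, algebraMap A D (f i) * w (some i) = 1 → ∃ φ : T →ₐ[A] D, ∀ o, φ (v o) = w o)
    (hext : ∀ {D : Type u} [CommRing D] [Algebra A D] (φ φ' : T →ₐ[A] D),
      (∀ o, φ (v o) = φ' (v o)) → φ = φ')
    (b : ι → B) (hb : ∑ i, algebraMap A B (f i) * b i = 1) :
    Nonempty (B ⊗[A] T ≃ₐ[B] MvPolynomial ι B) := by
  classical
  let g : ι → B := fun i => algebraMap A B (f i)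
  let s : MvPolynomial ι B := ∑ i, C (g i) * X i
  have hb' : ∑ i, C (g i) * C (b i) = (1 : MvPolynomial ι B) := by
    simp only [← map_mul, ← map_sum, g, hb, map_one]
  have hw : ∑ i, algebraMap A (MvPolynomial ι B) (f i) * (X i - (s - 1) * C (b i)) = 1 := by
    have e : ∀ i, algebraMap A (MvPolynomial ι B) (f i) = C (g i) := fun i => rfl
    simp only [e, mul_sub, Finset.sum_sub_distrib, mul_left_comm _ (s - 1) (C _), ← Finset.mul_sum, hb']
    ring
  obtain ⟨η, hη⟩ := hlift (fun o => o.elim s (fun i => X i - (s - 1) * C (b i))) hw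
  let F : B ⊗[A] T →ₐ[B] MvPolynomial ι B :=
    Algebra.TensorProduct.lift (Algebra.ofId B _) η fun _ _ => Commute.all _ _
  let z : B ⊗[A] T := 1 ⊗ₜ v none
  let y : ι → B ⊗[A] T := fun i => 1 ⊗ₜ v (some i)
  let G : MvPolynomial ι B →ₐ[B] B ⊗[A] T :=
    aeval fun i => y i + (b i ⊗ₜ (1 : T)) * (z - 1)
  have hF1 : ∀ o, F (1 ⊗ₜ v o) = o.elim s (fun i => X i - (s - 1) * C (b i)) := fun o => by
    simp [F, hη]
  have hF2 : ∀ c : B, F (c ⊗ₜ 1) = C c := fun c => by
    simp [F, ← MvPolynomial.algebraMap_eq]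
  have hFG : F.comp G = AlgHom.id B _ := by
    refine MvPolynomial.algHom_ext fun i => ?_
    simp only [AlgHom.comp_apply, G, aeval_X, map_add, map_mul, map_sub, map_one, y, z, hF1, hF2,
      Option.elim, AlgHom.id_apply]
    ring
  have hy : ∑ i, (g i ⊗ₜ[A] (1 : T)) * y i = 1 := by
    refine Eq.trans ?_ (congrArg (fun t => (1 : B) ⊗ₜ[A] t) hv)
    rw [TensorProduct.tmul_sum]
    refine Finset.sum_congr rfl fun i _ => ?_
    simp only [y, g, Algebra.TensorProduct.tmul_mul_tmul, mul_one, one_mul]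
    rw [Algebra.algebraMap_eq_smul_one, TensorProduct.smul_tmul, Algebra.smul_def]
  have hgb : ∑ i, (g i ⊗ₜ[A] (1 : T)) * (b i ⊗ₜ[A] (1 : T)) = 1 := by
    simp only [Algebra.TensorProduct.tmul_mul_tmul, one_mul, ← TensorProduct.sum_tmul, g, hb]
    rfl
  have hGC : ∀ c : B, G (C c) = c ⊗ₜ (1 : T) := fun c => by
    simp [G, Algebra.TensorProduct.algebraMap_apply]
  have hGs : G s = z := by
    simp only [s, map_sum, map_mul, hGC]
    simp only [G, aeval_X, mul_add, Finset.sum_add_distrib, ← mul_assoc, ← Finset.sum_mul, hy, hgb]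
    ring
  have hGF : G.comp F = AlgHom.id B _ := by
    refine Algebra.TensorProduct.ext (Subsingleton.elim _ _) (hext _ _ fun o => ?_)
    show G (F (1 ⊗ₜ v o)) = 1 ⊗ₜ v o
    rw [hF1]
    cases o with
    | none => simpa using hGs
    | some i =>
      simp only [Option.elim, map_sub, map_mul, map_one, hGs, hGC]
      simp only [G, aeval_X, y, z]
      ring
  exact ⟨AlgEquiv.ofAlgHom F G hFG hGF⟩

omit [Fintype ι] in
/-- The torsor ring. -/
theorem exists_torsor [Fintype ι] : ∃ (T : Type u) (_ : CommRing T) (_ : Algebra A T) (y : ι → T),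
    ∑ i, algebraMap A T (f i) * y i = 1 ∧
      ∀ (B : Type u) [CommRing B] [Algebra A B] (b : ι → B), ∑ i, algebraMap A B (f i) * b i = 1 →
        Nonempty (B ⊗[A] T ≃ₐ[B] MvPolynomial ι B) := by
  classical
  let I : Ideal (MvPolynomial (Option ι) A) := Ideal.span {(∑ i, C (f i) * X (some i)) - 1}
  let v : Option ι → MvPolynomial (Option ι) A ⧸ I := fun o => Ideal.Quotient.mk I (X o)
  have hv : ∑ i, algebraMap A (MvPolynomial (Option ι) A ⧸ I) (f i) * v (some i) = 1 := by
    refine Eq.trans ?_ (Ideal.Quotient.eq.2 (show (∑ i, C (f i) * X (some i)) - 1 ∈ I from Ideal.subset_span rfl))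
    rw [map_sum]
    exact Finset.sum_congr rfl fun i _ => (map_mul (Ideal.Quotient.mk I) (C (f i)) (X (some i))).symm
  refine ⟨_, inferInstance, inferInstance, fun i => v (some i), hv, fun B _ _ b hb =>
    exists_equiv f v hv ?_ ?_ b hb⟩
  · intro D _ _ w hw
    refine ⟨Ideal.Quotient.liftₐ I (aeval w) fun a ha => ?_, fun o => aeval_X w o⟩
    have hle : I ≤ RingHom.ker (aeval (R := A) w) := by
      rw [Ideal.span_le, Set.singleton_subset_iff, SetLike.mem_coe, RingHom.mem_ker]
      simp [hw]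
    exact hle ha
  · intro D _ _ φ φ' h
    exact Ideal.Quotient.algHom_ext A (MvPolynomial.algHom_ext h)

open CategoryTheory in
theorem exists_iso {C : Type u} [CommRing C] [Algebra A C] {ι : Type u}
    (e : B ⊗[A] C ≃ₐ[B] MvPolynomial ι B) :
    ∃ E : Limits.pullback (Spec.map (CommRingCat.ofHom (algebraMap A B)))
        (Spec.map (CommRingCat.ofHom (algebraMap A C))) ≅ Spec (CommRingCat.of (MvPolynomial ι B)),
      E.hom ≫ Spec.map (CommRingCat.ofHom (MvPolynomial.C : B →+* MvPolynomial ι B)) =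
        Limits.pullback.fst _ _ := by
  refine ⟨pullbackSpecIso A B C ≪≫ Scheme.Spec.mapIso e.toRingEquiv.toCommRingCatIso.op.symm, ?_⟩
  rw [Iso.trans_hom, Category.assoc]
  have h4 : (Scheme.Spec.mapIso e.toRingEquiv.toCommRingCatIso.op.symm).hom ≫
      Spec.map (CommRingCat.ofHom (MvPolynomial.C : B →+* MvPolynomial ι B)) =
      Spec.map (CommRingCat.ofHom Algebra.TensorProduct.includeLeftRingHom) := by
    show Spec.map _ ≫ _ = _
    rw [← Spec.map_comp]
    congr 1
    ext c
    exact e.symm.commutes c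
  rw [h4, ← pullbackSpecIso_inv_fst, Iso.hom_inv_id_assoc]

end Helpers


/-- A quasi-affine scheme X admits a morphism from an affine scheme T which, after base change to any
affine scheme over X, becomes isomorphic over that affine scheme to an affine space of fixed
dimension n. -/
theorem result (X : Scheme.{u}) [X.IsQuasiAffine] :
    ∃ (n : ℕ) (T : Scheme.{u}) (_ : IsAffine T) (p : T ⟶ X),
      ∀ (X' : Scheme.{u}) [IsAffine X'] (g : X' ⟶ X),
        ∃ e : Limits.pullback g p ≅ 𝔸(ULift.{u} (Fin n); X'),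
          e.hom ≫ (𝔸(ULift.{u} (Fin n); X') ↘ X') = Limits.pullback.fst g p := by
  classical
  let A : Type u := Γ(X, ⊤)
  let j : X ⟶ Spec (CommRingCat.of A) := X.toSpecΓ
  haveI : IsOpenImmersion j := inferInstanceAs (IsOpenImmersion X.toSpecΓ)
  haveI : CompactSpace X := inferInstance
  obtain ⟨s, hs⟩ := PrimeSpectrum.isCompact_isOpen_iff.1
    (⟨isCompact_range j.continuous, j.isOpenEmbedding.isOpen_range⟩ :
      IsCompact (Set.range j : Set (PrimeSpectrum A)) ∧ IsOpen (Set.range j : Set (PrimeSpectrum A)))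
  let ι : Type u := ULift.{u} (Fin s.card)
  let f : ι → A := fun i => (s.equivFin.symm i.down).1
  have hf : ∀ a ∈ s, ∃ i, f i = a := fun a ha => ⟨⟨s.equivFin ⟨a, ha⟩⟩, by simp [f]⟩
  obtain ⟨R, _, _, y, hy, hRB⟩ := exists_torsor f
  let ψ : A →+* R := algebraMap A R
  let T : Scheme.{u} := Spec (CommRingCat.of R)
  have hrange : Set.range (Spec.map (CommRingCat.ofHom ψ)) ⊆ Set.range j := by
    rintro _ ⟨q, rfl⟩
    refine (congrArg (fun S : Set (PrimeSpectrum A) => (Spec.map (CommRingCat.ofHom ψ) q) ∈ S) hs).mp ?_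
    intro hq
    refine q.isPrime.ne_top ((Ideal.eq_top_iff_one _).2 ?_)
    have h1 : ∀ i, ψ (f i) ∈ q.asIdeal := fun i => hq (s.equivFin.symm i.down).2
    rw [← hy]
    exact Ideal.sum_mem _ fun i _ => Ideal.mul_mem_right _ _ (h1 i)
  let p : T ⟶ X := IsOpenImmersion.lift j (Spec.map (CommRingCat.ofHom ψ)) hrange
  have hp : p ≫ j = Spec.map (CommRingCat.ofHom ψ) := IsOpenImmersion.lift_fac _ _ _
  refine ⟨s.card, T, inferInstance, p, fun X' _ g => ?_⟩
  let B : Type u := Γ(X', ⊤)
  letI : Algebra A B := g.appTop.hom.toAlgebra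
  have hg : g ≫ j = X'.isoSpec.hom ≫ Spec.map (CommRingCat.ofHom (algebraMap A B)) :=
    Scheme.toSpecΓ_naturality g
  have hunit : Ideal.span (Set.range fun i => algebraMap A B (f i)) = ⊤ := by
    by_contra hne
    obtain ⟨M, hM, hle⟩ := Ideal.exists_le_maximal _ hne
    haveI := hM.isPrime
    let x := X'.isoSpec.inv ⟨M, inferInstance⟩
    have hx : j (g x) = Spec.map (CommRingCat.ofHom (algebraMap A B)) (⟨M, inferInstance⟩ : PrimeSpectrum B) := by
      rw [← Scheme.Hom.comp_apply, hg, Scheme.Hom.comp_apply, ← Scheme.Hom.comp_apply _ X'.isoSpec.hom,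
        Iso.inv_hom_id]
      rfl
    have hmem : (Spec.map (CommRingCat.ofHom (algebraMap A B)) (⟨M, inferInstance⟩ : PrimeSpectrum B) :
        PrimeSpectrum A) ∈ (PrimeSpectrum.zeroLocus (s : Set A))ᶜ := by
      rw [hs]; exact ⟨g x, hx⟩
    refine hmem fun a ha => ?_
    obtain ⟨i, rfl⟩ := hf a ha
    exact hle (Ideal.subset_span ⟨i, rfl⟩)
  obtain ⟨b, hb⟩ := (Ideal.mem_span_range_iff_exists_fun).1 ((Ideal.eq_top_iff_one _).1 hunit)
  obtain ⟨e⟩ := hRB B b (by rw [← hb]; exact Finset.sum_congr rfl fun i _ => mul_comm _ _)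
  let Φ : Limits.pullback g p ⟶ Limits.pullback (Spec.map (CommRingCat.ofHom (algebraMap A B)))
      (Spec.map (CommRingCat.ofHom ψ)) :=
    Limits.pullback.map _ _ _ _ X'.isoSpec.hom (𝟙 T) j hg (by rw [Category.id_comp]; exact hp)
  haveI : IsIso Φ := by
    refine ⟨Limits.pullback.lift (Limits.pullback.fst _ _ ≫ X'.isoSpec.inv) (Limits.pullback.snd _ _) ?_, ?_, ?_⟩
    · rw [← cancel_mono j, Category.assoc, Category.assoc, Category.assoc, hg, hp, Iso.inv_hom_id_assoc]
      exact Limits.pullback.condition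
    · apply Limits.pullback.hom_ext
      · rw [Category.assoc, Category.id_comp, Limits.pullback.lift_fst]
        erw [Limits.pullback.lift_fst_assoc]
        rw [Category.assoc, Iso.hom_inv_id, Category.comp_id]
      · rw [Category.assoc, Category.id_comp, Limits.pullback.lift_snd]
        erw [Limits.pullback.lift_snd]
        exact Category.comp_id _
    · apply Limits.pullback.hom_ext
      · rw [Category.assoc, Category.id_comp]
        erw [Limits.pullback.lift_fst, Limits.pullback.lift_fst_assoc]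
        rw [Category.assoc, Iso.inv_hom_id, Category.comp_id]
      · rw [Category.assoc, Category.id_comp]
        erw [Limits.pullback.lift_snd, Category.comp_id, Limits.pullback.lift_snd]
  obtain ⟨E, hE⟩ := exists_iso e
  refine ⟨asIso Φ ≪≫ E ≪≫ (AffineSpace.isoOfIsAffine ι X').symm, ?_⟩
  rw [Iso.trans_hom, Iso.trans_hom, Category.assoc, Category.assoc, Iso.symm_hom,
    AffineSpace.isoOfIsAffine_inv_over, reassoc_of% hE]
  rw [asIso_hom]
  erw [Limits.pullback.lift_fst_assoc]
  rw [Category.assoc, Iso.hom_inv_id, Category.comp_id]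

end Groth.Agent.S9803
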