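import Groth.Statements.S9804
-- import your own Groth.Agent.* helpers here

set_option autoImplicit false
universe u
open CategoryTheory AlgebraicGeometry TopologicalSpace
open Props

namespace Groth.Agent.S9804

/-- For quasi-affine schemes U and V and an open immersion j : U → V, the scheme U is the fibre product
of the composite U → V → Spec Γ(V, O_V) and the morphism Spec Γ(U, O_U) → Spec Γ(V, O_V) induced by
restriction of sections along j: the square whose sides are the identity of U, the canonical
morphism U → Spec Γ(U, O_U), that composite and that induced morphism is cartesian. -/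
theorem result {U V : Scheme.{u}} (j : U ⟶ V)
    [IsOpenImmersion j] [U.IsQuasiAffine] [V.IsQuasiAffine] :
    IsPullback (𝟙 U) U.toSpecΓ (j ≫ V.toSpecΓ) (Spec.map j.appTop) := by
  refine (IsOpenImmersion.isPullback (𝟙 U) U.toSpecΓ (j ≫ V.toSpecΓ) (Spec.map j.appTop)
    (by rw [Category.id_comp, Scheme.toSpecΓ_naturality]) ?_)
  ext q
  constructor
  · intro hq
    obtain ⟨_, ⟨_, ⟨r, rfl⟩, rfl⟩, hpr, hrsub⟩ := (PrimeSpectrum.isBasis_basic_opens
      (R := Γ(V, ⊤))).exists_subset_of_mem_open hq (j ≫ V.toSpecΓ).opensRange.2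
    have e : (j ≫ V.toSpecΓ) ⁻¹ᵁ (PrimeSpectrum.basicOpen r) = U.basicOpen (j.appTop r) := by
      rw [Scheme.Hom.comp_preimage, Scheme.toSpecΓ_preimage_basicOpen, Scheme.preimage_basicOpen_top]
    have haff : IsAffineOpen (U.basicOpen (j.appTop r)) := by
      rw [← e, ← Scheme.Hom.isAffineOpen_iff_of_isOpenImmersion (j ≫ V.toSpecΓ)]
      convert! IsAffineOpen.Spec_basicOpen r
      exact SetLike.coe_injective (Set.image_preimage_eq_of_subset hrsub)
    have := isLocalization_basicOpen_of_qcqs (X := U) isCompact_univ isQuasiSeparated_univ (j.appTop r)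
    have hs : (show PrimeSpectrum Γ(U, ⊤) from q) ∈ PrimeSpectrum.basicOpen (j.appTop r) := hpr
    rw [← SetLike.mem_coe, ← PrimeSpectrum.localization_away_comap_range Γ(U, U.basicOpen (j.appTop r))] at hs
    obtain ⟨q', hq'⟩ := hs
    refine ⟨(U.basicOpen (j.appTop r)).ι (haff.isoSpec.inv q'), ?_⟩
    have h2 : haff.isoSpec.inv ≫ (U.basicOpen (j.appTop r)).ι ≫ U.toSpecΓ =
        Spec.map (U.presheaf.map (homOfLE le_top).op) := by
      rw [← Scheme.Opens.toSpecΓ_SpecMap_presheaf_map_top]
      exact (haff.isoSpec.inv_hom_id_assoc _)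
    exact congr($(h2) q').trans hq'
  · rintro ⟨u, rfl⟩
    -- opensRange
    refine ⟨u, ?_⟩
    exact congr($(Scheme.toSpecΓ_naturality j) u)

end Groth.Agent.S9804
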