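import Groth.Agent.L18.ClosedPoint
import Groth.Agent.L04.CMLoc
import Groth.Agent.L07.SyntCM
import Groth.Statements.S9808
-- import your own Groth.Agent.* helpers here

set_option autoImplicit false
universe u
open CategoryTheory AlgebraicGeometry TopologicalSpace
open Props

namespace Groth.Agent.S9808

/-- A locally Noetherian scheme is Cohen-Macaulay (all local rings Cohen-Macaulay) as soon as its local
rings at closed points are Cohen-Macaulay, and conversely. -/
theorem result (X : Scheme.{u}) [IsLocallyNoetherian X] :
    (∀ x : X, LocCoh.IsCohenMacaulayLocalRing (X.presheaf.stalk x)) ↔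
      ∀ x : X, IsClosed ({x} : Set X) → LocCoh.IsCohenMacaulayLocalRing (X.presheaf.stalk x) := by
  exact Groth.L18.ClosedPoint.forall_stalk_iff_forall_closed (fun R _ => LocCoh.IsCohenMacaulayLocalRing R)
    (fun A B _ _ e h => Groth.L07.Synt.isCM_ringEquiv e h)
    (fun A _ _ _ h p _ => (Groth.L04.isCohenMacaulayRing_of_local A).isCohenMacaulayLocalRing_localization p)

end Groth.Agent.S9808
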