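import Groth.Statements.S9818
-- import your own Groth.Agent.* helpers here
import Groth.Agent.S4348
import Groth.Agent.L21.Mod.Locality

set_option autoImplicit false
universe u
open CategoryTheory CategoryTheory.Limits AlgebraicGeometry TopologicalSpace Opposite
open Props

namespace Groth.Agent.S9818

/-- For an open subscheme U of a scheme X with quasi-compact inclusion, a quasi-coherent module G on U
with a map to the restriction of a quasi-coherent module F on X extends to a quasi-coherent module H
on X with a map to F restricting to the given one. Taking F = 0, every quasi-coherent module on U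
extends to a quasi-coherent module on X. -/
theorem result {X : Scheme.{u}} (U : X.Opens) [QuasiCompact U.ι]
    (F : X.Modules) [Coh.IsQCoh F] (G : (U : Scheme.{u}).Modules) [Coh.IsQCoh G] (φ : G ⟶ F.restrict U.ι) :
    ∃ (H : X.Modules) (ψ : H ⟶ F) (e : H.restrict U.ι ≅ G), Coh.IsQCoh H ∧
      e.hom ≫ φ = (Scheme.Modules.restrictFunctor U.ι).map ψ := by
  classical
  let R := Scheme.Modules.restrictFunctor U.ι
  let P := Scheme.Modules.pushforward U.ι
  let adj := Scheme.Modules.restrictAdjunction U.ι
  let η : F ⟶ P.obj (F.restrict U.ι) := adj.unit.app F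
  haveI hFU : Coh.IsQCoh (F.restrict U.ι) := Scheme.Modules.isQuasicoherent_restrictFunctor _ F
  haveI : IsIso (R.map η) := by
    have h := adj.left_triangle_components F
    haveI : IsIso (adj.counit.app (R.obj F)) := inferInstance
    exact IsIso.of_isIso_fac_right h
  let H := Limits.pullback (P.map φ) η
  have hH : Coh.IsQCoh H := Groth.Agent.S4348.isQCoh_pullback' _ _
    (Groth.L16.QcqsPush.isQCoh_push G U.ι) inferInstance (Groth.L16.QcqsPush.isQCoh_push (F.restrict U.ι) U.ι)
  let a : H ⟶ P.obj G := Limits.pullback.fst _ _
  let b : H ⟶ F := Limits.pullback.snd _ _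
  have hsq : IsPullback (R.map a) (R.map b) (R.map (P.map φ)) (R.map η) :=
    (IsPullback.of_hasPullback (P.map φ) η).map R
  haveI : IsIso (R.map a) := hsq.isIso_fst_of_isIso
  refine ⟨H, b, (asIso (R.map a)) ≪≫ asIso (adj.counit.app G), hH, ?_⟩
  have hnat : R.map (P.map φ) ≫ adj.counit.app (F.restrict U.ι) = adj.counit.app G ≫ φ := adj.counit.naturality φ
  have htri : R.map η ≫ adj.counit.app (F.restrict U.ι) = 𝟙 _ := adj.left_triangle_components F
  show (R.map a ≫ adj.counit.app G) ≫ φ = R.map b
  rw [Category.assoc, ← hnat]
  exact (Category.assoc _ _ _).symm.trans ((congrArg (· ≫ adj.counit.app (F.restrict U.ι)) hsq.w).trans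
    ((Category.assoc _ _ _).trans ((congrArg (R.map b ≫ ·) htri).trans (Category.comp_id _))))

end Groth.Agent.S9818
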