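import Groth.Statements.S9820
import Groth.Agent.L19.FPExtend.FTColim
import Groth.Agent.L17.Approx.RestrictFP
import Groth.Agent.L05.Prufer.Sheaf
import Groth.Agent.L29.DCoh.QCohOps

set_option autoImplicit false
set_option linter.style.haveILetI false
universe u
open CategoryTheory CategoryTheory.Limits AlgebraicGeometry TopologicalSpace Opposite
open Props

namespace Groth.Agent.S9820

theorem isFP_biprod {X : Scheme.{u}} {A B : X.Modules} (hA : CohB1.IsFP A) (hB : CohB1.IsFP B) :
    CohB1.IsFP (A ⊞ B) := by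
  let P : ULift.{u} Bool → X.Modules := fun b => cond b.down A B
  let e : (∐ P) ≅ A ⊞ B :=
    { hom := Sigma.desc fun b => match b with
        | ⟨true⟩ => biprod.inl
        | ⟨false⟩ => biprod.inr
      inv := biprod.desc (Sigma.ι P ⟨true⟩) (Sigma.ι P ⟨false⟩)
      hom_inv_id := Sigma.hom_ext _ _ fun b => by
        rcases b with ⟨(_ | _)⟩ <;> simp [P]
      inv_hom_id := by
        apply biprod.hom_ext' <;> simp [P] }
  exact Groth.L22.Inter.FlatTwist.isFP_of_iso e (Groth.L19.FPExtend.isFP_sigma P fun b => by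
    rcases b with ⟨(_ | _)⟩ <;> assumption)

/-- On a quasi-compact quasi-separated scheme, a quasi-coherent module of finite type which is of finite
presentation over a quasi-compact open U is the quotient of a module of finite presentation by a
surjection which is an isomorphism over U. -/
theorem result {X : Scheme.{u}} [CompactSpace X]
    [QuasiSeparatedSpace X] (F : X.Modules) [Coh.IsQCoh F] (hF : CohB1.IsFT F) (U : X.Opens)
    (hU : IsCompact (U : Set X)) (hFU : CohB1.IsFP (F.restrict U.ι)) :
    ∃ (G : X.Modules) (φ : G ⟶ F), CohB1.IsFP G ∧ Epi φ ∧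
      IsIso ((Scheme.Modules.restrictFunctor U.ι).map φ) := by
  haveI := Groth.L17.Approx.quasiCompact_ι U hU
  obtain ⟨G', f, e, hG', he⟩ := Groth.L19.FPExtend.exists_fp_extension F U hU (F.restrict U.ι) hFU (𝟙 _)
  obtain ⟨P, p, hP, hp⟩ := Groth.L19.LimMod.exists_fp_epi F ⟨inferInstance, hF⟩
  haveI := hp
  haveI : Coh.IsQCoh G' := Groth.L05.Prufer.isQCoh_of_isFP hG'
  haveI : Coh.IsQCoh P := Groth.L05.Prufer.isQCoh_of_isFP hP
  let R := Scheme.Modules.restrictFunctor U.ι
  haveI : R.Additive := inferInstance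
  haveI hfU : IsIso (R.map f) := by
    rw [← he, Category.comp_id]
    infer_instance
  let H : X.Modules := G' ⊞ P
  have hH : CohB1.IsFP H := isFP_biprod hG' hP
  haveI : Coh.IsQCoh H := Groth.L05.Prufer.isQCoh_of_isFP hH
  let q : H ⟶ F := biprod.desc f p
  haveI : Epi q := by
    haveI : Epi (biprod.inr ≫ q) := by
      show Epi (biprod.inr ≫ biprod.desc f p)
      rw [biprod.inr_desc]; exact hp
    exact epi_of_epi biprod.inr q
  haveI : Coh.IsQCoh (kernel q) := Groth.L29.DC.isQCoh_kernel' _ inferInstance inferInstance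
  let s : R.obj P ⟶ R.obj H := R.map biprod.inr - (R.map p ≫ inv (R.map f)) ≫ R.map biprod.inl
  have hsq : s ≫ R.map q = 0 := by
    simp only [s, Preadditive.sub_comp, Category.assoc, ← R.map_comp, q, biprod.inr_desc, biprod.inl_desc]
    rw [IsIso.inv_hom_id, Category.comp_id, sub_self]
  obtain ⟨R', r, e', hR', he'⟩ := Groth.L19.FPExtend.exists_fp_extension (kernel q) U hU (R.obj P)
    (Groth.L17.Approx.isFP_restrict U.ι P hP)
    (kernel.lift (R.map q) s hsq ≫ (PreservesKernel.iso R q).inv)
  have hr : R.map (r ≫ kernel.ι q) = e'.hom ≫ s := by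
    have he2 : R.map r = e'.hom ≫ kernel.lift (R.map q) s hsq ≫ (PreservesKernel.iso R q).inv := he'.symm
    rw [R.map_comp, he2, Category.assoc, Category.assoc, PreservesKernel.iso_inv_ι, kernel.lift_ι]
  let g := r ≫ kernel.ι q
  refine ⟨cokernel g, cokernel.desc g q (by simp [g]), Groth.L19.FPExtend.isFP_cokernel hR' hH g, ?_, ?_⟩
  · haveI : Epi (cokernel.π g ≫ cokernel.desc g q (by simp [g])) := by
      rw [cokernel.π_desc]; infer_instance
    exact epi_of_epi (cokernel.π g) _
  let φ := R.map (cokernel.desc g q (by simp [g]))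
  haveI := (Scheme.Modules.restrictAdjunction U.ι).isLeftAdjoint
  haveI : Epi (R.map (cokernel.π g)) := inferInstance
  have hπ : R.map (cokernel.π g) ≫ φ = R.map q := by rw [← R.map_comp, cokernel.π_desc]
  have h1 : (inv (R.map f) ≫ R.map biprod.inl ≫ R.map (cokernel.π g)) ≫ φ = 𝟙 _ := by
    rw [Category.assoc, Category.assoc, hπ, ← R.map_comp, biprod.inl_desc, IsIso.inv_hom_id]
  refine ⟨⟨inv (R.map f) ≫ R.map biprod.inl ≫ R.map (cokernel.π g), ?_, h1⟩⟩
  have hs : R.map biprod.inr ≫ R.map (cokernel.π g) =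
      (R.map p ≫ inv (R.map f)) ≫ R.map biprod.inl ≫ R.map (cokernel.π g) := by
    have h0 : (e'.hom ≫ s) ≫ R.map (cokernel.π g) = 0 := by
      rw [← hr, ← R.map_comp, cokernel.condition, R.map_zero]
    rw [Category.assoc, ← cancel_epi e'.hom] at *
    rw [← sub_eq_zero, ← Preadditive.comp_sub]
    refine Eq.trans ?_ h0
    simp only [s, Preadditive.sub_comp, Category.assoc]
  rw [← cancel_epi (R.map (cokernel.π g)), ← Category.assoc, hπ, Category.comp_id]
  have hid : R.map (𝟙 H) ≫ R.map q ≫ inv (R.map f) ≫ R.map biprod.inl ≫ R.map (cokernel.π g) =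
      R.map (𝟙 H) ≫ R.map (cokernel.π g) := by
    rw [← biprod.total, R.map_add, Preadditive.add_comp, Preadditive.add_comp]
    congr 1
    · simp only [R.map_comp, Category.assoc]
      rw [← R.map_comp_assoc biprod.inl q, biprod.inl_desc, IsIso.hom_inv_id_assoc]
    · simp only [R.map_comp, Category.assoc]
      rw [← R.map_comp_assoc biprod.inr q, biprod.inr_desc]
      simp only [Category.assoc] at hs
      rw [hs]
  simpa using hid

end Groth.Agent.S9820
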