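import Mathlib.AlgebraicGeometry.Limits
import Groth.Statements.S9822
-- import your own Groth.Agent.* helpers here

set_option autoImplicit false
universe u
open CategoryTheory CategoryTheory.Limits AlgebraicGeometry TopologicalSpace Opposite
open Props

namespace Groth.Agent.S9822

/-- A scheme is irreducible if and only if it is nonempty and every nonempty affine open subset is
irreducible. -/
theorem result (X : Scheme.{u}) :
    IrreducibleSpace X ↔ Nonempty X ∧ ∀ U : X.Opens, IsAffineOpen U → (U : Set X).Nonempty → IsIrreducible (U : Set X) := by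
  constructor
  · intro h
    exact ⟨inferInstance, fun U _ hne =>
      ⟨hne, (PreirreducibleSpace.isPreirreducible_univ (X := X)).open_subset U.2 (Set.subset_univ _)⟩⟩
  · rintro ⟨hne, h⟩
    haveI : PreirreducibleSpace X := by
      refine ⟨fun u v hu hv hun hvn => ?_⟩
      obtain ⟨a, -, hau⟩ := hun
      obtain ⟨b, -, hbv⟩ := hvn
      obtain ⟨_, ⟨U, hU, rfl⟩, haU, hUu⟩ := X.isBasis_affineOpens.exists_subset_of_mem_open hau hu
      obtain ⟨_, ⟨V, hV, rfl⟩, hbV, hVv⟩ := X.isBasis_affineOpens.exists_subset_of_mem_open hbv hv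
      by_contra hdis
      have hUV : ∀ z, z ∈ (U : Set X) → z ∉ (V : Set X) := fun z h1 h2 => hdis ⟨z, trivial, hUu h1, hVv h2⟩
      let W : Bool → X.Opens := fun b => cond b U V
      have hW : IsAffineOpen (⨆ b, W b) := IsAffineOpen.iSup_of_disjoint (fun b => by cases b <;> assumption)
        (fun p q hpq => by
          rw [Function.onFun, disjoint_iff_inf_le]
          cases p <;> cases q <;> first | exact absurd rfl hpq | (rintro z ⟨h1, h2⟩; first | exact hUV z h1 h2 | exact hUV z h2 h1))
      obtain ⟨z, -, h1, h2⟩ := (h _ hW ⟨a, TopologicalSpace.Opens.mem_iSup.mpr ⟨true, haU⟩⟩).2 U V U.2 V.2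
        ⟨a, TopologicalSpace.Opens.mem_iSup.mpr ⟨true, haU⟩, haU⟩ ⟨b, TopologicalSpace.Opens.mem_iSup.mpr ⟨false, hbV⟩, hbV⟩
      exact hUV z h1 h2
    exact { toNonempty := hne }

end Groth.Agent.S9822
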