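import Groth.Agent.L18.ZeroDim
import Groth.Statements.S9830
-- import your own Groth.Agent.* helpers here

set_option autoImplicit false
universe u
open CategoryTheory AlgebraicGeometry TopologicalSpace
open Props

namespace Groth.Agent.S9830

/-- A scheme whose underlying space is Hausdorff is separated. (The published statement assumes X of
dimension zero; a Hausdorff scheme always has dimension at most zero, so this row omits that
hypothesis.) -/
theorem result (X : Scheme.{u}) [T2Space X] : X.IsSeparated := by
  haveI := Groth.L18.ZeroDim.quasiSeparated_of_t2 X
  exact Groth.L18.ZeroDim.isSeparated (Groth.L18.ZeroDim.dim_le_zero_of_t2 X)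

end Groth.Agent.S9830
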