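import Groth.Statements.S9831
-- import your own Groth.Agent.* helpers here
import Groth.Agent.L17.Approx.Extend

set_option autoImplicit false
universe u
open CategoryTheory CategoryTheory.Limits AlgebraicGeometry TopologicalSpace Opposite
open Props

namespace Groth.Agent.S9831

/-- On a quasi-compact quasi-separated scheme, a quasi-coherent module of finite type on a quasi-compact
open U is the restriction of a quasi-coherent module of finite type on the whole scheme. -/
theorem result {X : Scheme.{u}} [CompactSpace X]
    [QuasiSeparatedSpace X] (U : X.Opens) (hU : IsCompact (U : Set X)) (G : (U : Scheme.{u}).Modules)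
    [Coh.IsQCoh G] (hG : CohB1.IsFT G) :
    ∃ G' : X.Modules, Coh.IsQCoh G' ∧ CohB1.IsFT G' ∧ Nonempty (G'.restrict U.ι ≅ G) := by
  classical
  haveI := Groth.L17.Approx.quasiCompact_ι U hU
  haveI : Coh.IsQCoh ((Scheme.Modules.pushforward U.ι).obj G) := Groth.L16.QcqsPush.isQCoh_push G U.ι
  let i : G ⟶ ((Scheme.Modules.pushforward U.ι).obj G).restrict U.ι :=
    inv ((Scheme.Modules.restrictAdjunction U.ι).counit.app G)
  obtain ⟨G', i', e, hi, hq, hft, -⟩ := Groth.L17.Approx.exists_extension U hU _ G hG i
  exact ⟨G', hq, hft, ⟨e⟩⟩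

end Groth.Agent.S9831
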