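import Groth.Statements.S9832
import Mathlib.Topology.JacobsonSpace
import Groth.Agent.L00.ArtinTate
-- import your own Groth.Agent.* helpers here

set_option autoImplicit false
universe u
open Props

namespace Groth.Agent.S9832

/-- For a Noetherian ring R and an ideal I inside the Jacobson radical of R, the complement of V(I) in
Spec R is a Jacobson topological space. -/
theorem result (R : Type u) [CommRing R] [IsNoetherianRing R]
    (I : Ideal R) (hI : I ≤ (⊥ : Ideal R).jacobson) :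
    JacobsonSpace ↥((PrimeSpectrum.zeroLocus (I : Set R))ᶜ) := by
  classical
  refine jacobsonSpace_iff_locallyClosed.mpr fun s hs hs' => ?_
  obtain ⟨z, hz⟩ := hs
  obtain ⟨o, c, ho, hc, rfl⟩ := hs'
  obtain ⟨O, hO, rfl⟩ := isOpen_induced_iff.mp ho
  obtain ⟨C, hC, rfl⟩ := isClosed_induced_iff.mp hc
  have hO' : IsOpen (O ∩ (PrimeSpectrum.zeroLocus (I : Set R))ᶜ) :=
    hO.inter (PrimeSpectrum.isClosed_zeroLocus _).isOpen_compl
  obtain ⟨_, ⟨_, ⟨f, rfl⟩, rfl⟩, hzf, hfO⟩ :=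
    PrimeSpectrum.isBasis_basic_opens.exists_subset_of_mem_open
      (show z.1 ∈ O ∩ (PrimeSpectrum.zeroLocus (I : Set R))ᶜ from ⟨hz.1, z.2⟩) hO'
  obtain ⟨r, ⟨hr, hzr, hfr⟩, hrmax⟩ := (wellFounded_gt (α := Ideal R)).has_min
    {r : Ideal R | r.IsPrime ∧ z.1.asIdeal ≤ r ∧ f ∉ r} ⟨_, z.1.2, le_rfl, hzf⟩
  haveI := hr
  have hrO : (⟨r, hr⟩ : PrimeSpectrum R) ∈ O ∩ (PrimeSpectrum.zeroLocus (I : Set R))ᶜ := hfO hfr
  have hmem : ∀ q : Ideal R, q.IsPrime → r ≤ q → q ≠ r → f ∈ q := fun q hq hrq hne => by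
    by_contra hf
    exact hrmax q ⟨hq, hzr.trans hrq, hf⟩ (lt_of_le_of_ne hrq (Ne.symm hne))
  have hrC : (⟨r, hr⟩ : PrimeSpectrum R) ∈ C :=
    ((PrimeSpectrum.le_iff_specializes z.1 ⟨r, hr⟩).mp hzr).mem_closed hC hz.2
  refine ⟨⟨⟨r, hr⟩, hrO.2⟩, ⟨hrO.1, hrC⟩, ?_⟩
  rw [mem_closedPoints_iff]
  convert (isClosed_closure (s := ({⟨r, hr⟩} : Set (PrimeSpectrum R)))).preimage continuous_subtype_val
  ext w
  refine ⟨fun hw => ?_, fun hw => ?_⟩
  · rw [Set.mem_singleton_iff.mp hw]; exact subset_closure rfl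
  · have hle : r ≤ w.1.asIdeal :=
      (PrimeSpectrum.le_iff_specializes ⟨r, hr⟩ w.1).mpr (specializes_iff_mem_closure.mpr hw)
    by_cases e : w.1.asIdeal = r
    · exact Subtype.ext (PrimeSpectrum.ext e)
    · exfalso
      obtain ⟨m, hm, hwm⟩ := w.1.asIdeal.exists_le_maximal w.1.2.ne_top
      have := Groth.L00.ArtinTate.eq_of_le hfr hmem hle e hwm
      have h1 : (⊥ : Ideal R).jacobson ≤ m := sInf_le ⟨bot_le, hm⟩
      refine w.2 ?_
      rw [PrimeSpectrum.mem_zeroLocus, this]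
      exact hI.trans h1

end Groth.Agent.S9832
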