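import Groth.Statements.S9836
import Groth.Agent.L06.RelFPModules
import Groth.Agent.L07.PrinParts.HomFP
import Groth.Agent.L19.FPExtend.Ops
import Groth.Agent.L29.DCoh.QCohLocal
import Groth.Agent.L22.ExtSh.DualSheaf

set_option linter.style.haveILetI false
set_option backward.isDefEq.respectTransparency false
set_option backward.isDefEq.respectTransparency.types false


set_option autoImplicit false
universe u
open CategoryTheory CategoryTheory.Limits AlgebraicGeometry
open Props

namespace Groth.Agent.S9836

/-- For a closed immersion i : Z → X with ideal sheaf of finite type and a quasi-coherent O_X-module F,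
the subsheaf of sections of F annihilated by the ideal, namely i_* Hom(O_Z, F) for the right adjoint
Hom(O_Z, -) of i_*, is a quasi-coherent O_X-module. -/
theorem result {Z X : Scheme.{u}} (i : Z ⟶ X)
    [IsClosedImmersion i] [LocallyOfFinitePresentation i] [Dual3.HasHomO i] (F : X.Modules) [Coh.IsQCoh F] :
    Coh.IsQCoh ((Scheme.Modules.pushforward i).obj ((Dual3.homO i).obj F)) := by
  haveI := Groth.L19.Conormal.isQCoh_structureModule Z
  obtain ⟨e⟩ := Groth.L22.DualSheaf.nonempty_homO_push i
  have hfp := (Groth.L06.RelFPModules.isFP_iff_push i (Coh.structureModule Z)).1 (Groth.L19.FPExtend.isFP_structureModule Z)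
  haveI := Groth.L07.PrinParts.HomFP.isQCoh_homMod hfp F
  exact Groth.L29.DC.isQCoh_of_iso' (e.app F).symm this


end Groth.Agent.S9836
#print axioms Groth.Agent.S9836.result
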