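import Groth.Statements.S9838
import Groth.Agent.L07.PrinParts.Mod
set_option linter.style.haveILetI false
set_option backward.isDefEq.respectTransparency false
set_option backward.isDefEq.respectTransparency.types false


set_option autoImplicit false
open CategoryTheory CategoryTheory.Limits AlgebraicGeometry Opposite
universe u
open Desc

namespace Groth.Agent.S9838

/-- Let f : X ⟶ Y be a finite morphism of schemes and F a quasi-coherent O_X-module. The pushforward
f_*F is of finite type as an O_Y-module exactly when F itself is of finite type as an O_X-module. -/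
theorem result {X Y : Scheme.{u}} (f : X ⟶ Y) [IsFinite f]
    (F : X.Modules) [F.IsQuasicoherent] :
    SheafOfModules.IsFiniteType (R := X.ringCatSheaf) F ↔
      SheafOfModules.IsFiniteType (R := Y.ringCatSheaf) ((Scheme.Modules.pushforward f).obj F) := by
  have hF : Coh.IsQCoh F := ‹F.IsQuasicoherent›
  haveI := hF
  constructor
  · intro h
    exact (Groth.L07.PrinParts.isCoh_pushforward_finite f ⟨hF, h⟩).2
  · intro h
    haveI hq : Coh.IsQCoh ((Scheme.Modules.pushforward f).obj F) := Groth.L16.QcqsPush.isQCoh_push (M := F) f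
    refine (Groth.L16.CohClosedPush.isCoh_of_finite_sections F fun x => ?_).2
    obtain ⟨V, hV, hxV, -⟩ := exists_isAffineOpen_mem_and_subset (X := Y) (x := f x) (U := (⊤ : Y.Opens)) trivial
    refine ⟨f ⁻¹ᵁ V, hxV, hV.preimage f, ?_⟩
    haveI := Groth.L20.ModStalk.finite_sections ((Scheme.Modules.pushforward f).obj F) ⟨hq, h⟩ hV
    letI : Algebra Γ(Y, V) Γ(X, f ⁻¹ᵁ V) := (f.app V).hom.toAlgebra
    letI : Module Γ(Y, V) Γ(F, f ⁻¹ᵁ V) := Module.compHom _ (f.app V).hom
    haveI : IsScalarTower Γ(Y, V) Γ(X, f ⁻¹ᵁ V) Γ(F, f ⁻¹ᵁ V) :=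
      ⟨fun a b m => mul_smul ((f.app V).hom a) b m⟩
    let e : Γ((Scheme.Modules.pushforward f).obj F, V) ≃ₗ[Γ(Y, V)] Γ(F, f ⁻¹ᵁ V) :=
      { toFun := fun s => s
        invFun := fun s => s
        map_add' := fun _ _ => rfl
        map_smul' := fun _ _ => rfl }
    haveI : Module.Finite Γ(Y, V) Γ(F, f ⁻¹ᵁ V) := Module.Finite.equiv e
    exact Module.Finite.of_restrictScalars_finite Γ(Y, V) Γ(X, f ⁻¹ᵁ V) _


end Groth.Agent.S9838
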