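import Groth.Statements.S9839
import Groth.Agent.L19.FpqcCover
import Mathlib.AlgebraicGeometry.Morphisms.FlatDescent

set_option autoImplicit false
open CategoryTheory CategoryTheory.Limits AlgebraicGeometry Opposite
universe u
open Desc

namespace Groth.Agent.S9839

/-- Let f i : T i ⟶ T be an fpqc covering family of a scheme T (a family in the fpqc precoverage) and W
i ⊆ T i open subsets such that for all i, j the inverse images of W i and W j under the two
projections of T i ×_T T j coincide. Then there is a unique open subset W ⊆ T with (f i)⁻¹(W) = W i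
for every i. -/
theorem result {ι : Type u} {T : Scheme.{u}} {Ti : ι → Scheme.{u}}
    (f : ∀ i, Ti i ⟶ T) (hf : Presieve.ofArrows Ti f ∈ Scheme.fpqcPrecoverage T)
    (W : ∀ i, (Ti i).Opens)
    (hW : ∀ i j, (pullback.fst (f i) (f j)) ⁻¹ᵁ (W i) = (pullback.snd (f i) (f j)) ⁻¹ᵁ (W j)) :
    ∃! V : T.Opens, ∀ i, (f i) ⁻¹ᵁ V = W i := by
  let V : Set T := ⋃ i, (f i) '' (W i : Set (Ti i))
  have hpre : ∀ i, (f i) ⁻¹' V = (W i : Set (Ti i)) := by
    intro i
    ext x
    refine ⟨fun hx => ?_, fun hx => Set.mem_iUnion.mpr ⟨i, x, hx, rfl⟩⟩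
    obtain ⟨j, y, hy, hyx⟩ := Set.mem_iUnion.mp (Set.mem_preimage.mp hx)
    obtain ⟨z, hz1, hz2⟩ := Scheme.Pullback.exists_preimage_pullback x y hyx.symm
    have h1 : z ∈ (pullback.snd (f i) (f j)) ⁻¹ᵁ (W j) := show _ ∈ W j by rw [hz2]; exact hy
    rw [← hW i j] at h1
    exact hz1 ▸ h1
  have hopen : IsOpen V := by
    rw [TopologicalSpace.IsOpenCover.isOpen_iff_inter
      (U := fun U : T.affineOpens => U.1) (iSup_affineOpens_eq_top T)]
    intro U
    obtain ⟨n, a, Vk, d, hV, hs, hfl, hq, hd⟩ := Groth.L19.exists_desc_of_mem_fpqc hf U.2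
    have hopenU : IsOpen (U.1.ι ⁻¹' V) := by
      rw [← (Flat.isQuotientMap_of_surjective d).isOpen_preimage]
      let 𝒱 := sigmaOpenCover (fun k => (Vk k : Scheme.{u}))
      have hk : ∀ k, IsOpen ((Sigma.ι (fun k => (Vk k : Scheme.{u})) k) ⁻¹' (d ⁻¹' (U.1.ι ⁻¹' V))) := by
        intro k
        have e : ∀ x : (Vk k : Scheme.{u}),
            U.1.ι (d (Sigma.ι (fun k => (Vk k : Scheme.{u})) k x)) = f (a k) ((Vk k).ι x) :=
          fun x => by simp only [← Scheme.Hom.comp_apply, Category.assoc, hd]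
        simp only [Set.preimage_preimage, e]
        exact ((hpre (a k)).symm ▸ (W (a k)).2 : IsOpen ((f (a k)) ⁻¹' V)).preimage (Vk k).ι.continuous
      have : d ⁻¹' (U.1.ι ⁻¹' V) = ⋃ k, (𝒱.f k) '' ((𝒱.f k) ⁻¹' (d ⁻¹' (U.1.ι ⁻¹' V))) := by
        ext x
        refine ⟨fun hx => ?_, fun hx => ?_⟩
        · obtain ⟨k, y, rfl⟩ := 𝒱.exists_eq x
          exact Set.mem_iUnion.mpr ⟨k, y, hx, rfl⟩
        · obtain ⟨k, y, hy, rfl⟩ := Set.mem_iUnion.mp hx
          exact hy
      rw [this]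
      exact isOpen_iUnion fun k => (𝒱.f k).isOpenEmbedding.isOpenMap _ (hk k)
    have := U.1.ι.isOpenEmbedding.isOpenMap _ hopenU
    rwa [Set.image_preimage_eq_inter_range, Scheme.Opens.range_ι] at this
  refine ⟨⟨V, hopen⟩, fun i => TopologicalSpace.Opens.ext (hpre i), fun V' hV' => ?_⟩
  ext x
  obtain ⟨i, y, rfl⟩ := Groth.L19.exists_mem_range_of_mem_fpqc hf x
  show y ∈ (f i) ⁻¹' (V' : Set T) ↔ y ∈ (f i) ⁻¹' V
  rw [hpre i, ← hV' i]
  rfl

end Groth.Agent.S9839
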