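import Groth.Statements.S9842
import Mathlib.AlgebraicGeometry.Morphisms.UniversallyOpen
import Mathlib.AlgebraicGeometry.PullbackCarrier

set_option autoImplicit false
open CategoryTheory CategoryTheory.Limits AlgebraicGeometry Opposite
universe u
open Desc

namespace Groth.Agent.S9842

/-- Let E/k be a field extension, Y a scheme over k and f : X ⟶ Y a morphism. Writing Y_E = Y ×_k Spec
E, the morphism f is dominant if and only if its base change X ×_Y Y_E ⟶ Y_E is dominant. -/
theorem result {k E : Type u} [Field k] [Field E] [Algebra k E]
    {X Y : Scheme.{u}} (f : X ⟶ Y) (q : Y ⟶ Spec (.of k)) :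
    IsDominant f ↔
      IsDominant (pullback.snd f (pullback.fst q (Spec.map (CommRingCat.ofHom (algebraMap k E))))) := by
  set g := pullback.fst q (Spec.map (CommRingCat.ofHom (algebraMap k E)))
  haveI : Surjective g := inferInstance
  haveI : UniversallyOpen g := inferInstance
  simp only [isDominant_iff, DenseRange, Scheme.Pullback.range_snd]
  refine ⟨fun h => h.preimage g.isOpenMap, fun h => ?_⟩
  exact (g.surjective.denseRange.dense_image g.continuous h).mono (Set.image_preimage_subset _ _)

end Groth.Agent.S9842
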