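import Groth.Statements.S9843
import Groth.Agent.L19.Fppf
import Mathlib.AlgebraicGeometry.PullbackCarrier
import Mathlib.AlgebraicGeometry.Morphisms.UnderlyingMap

set_option autoImplicit false
open CategoryTheory CategoryTheory.Limits AlgebraicGeometry Opposite
universe u
open Desc

namespace Groth.Agent.S9843

/-- Being dominant is fppf local on the base: for every fppf covering family Y i ⟶ Y (flat, locally of
finite presentation, jointly surjective), a morphism X ⟶ Y is dominant if and only if all its base
changes X ×_Y Y i ⟶ Y i are. -/
theorem result :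
    MorphismProperty.IsLocalAtTarget (@IsDominant : MorphismProperty Scheme.{u}) Scheme.fppfPrecoverage := by
  refine { pullbackSnd := ?_, of_forall_pullbackSnd := ?_ }
  · intro Y X f R U g hR hg hf _
    refine ⟨?_⟩
    rw [DenseRange, dense_iff_closure_eq, Scheme.Pullback.range_snd,
      ← IsOpenMap.preimage_closure_eq_closure_preimage (Groth.L19.isOpenMap_of_mem_fppf hR hg)
        g.continuous, dense_iff_closure_eq.mp hf.denseRange, Set.preimage_univ]
  · intro Y X f R hR h
    refine ⟨?_⟩
    rw [DenseRange, dense_iff_closure_eq, Set.eq_univ_iff_forall]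
    intro s
    obtain ⟨U, g, hg, u', rfl⟩ := (Groth.L19.fppf_mem_cover hR).1 s
    have hd := (h (g := g) hg).denseRange
    rw [DenseRange, dense_iff_closure_eq, Scheme.Pullback.range_snd,
      ← IsOpenMap.preimage_closure_eq_closure_preimage (Groth.L19.isOpenMap_of_mem_fppf hR hg)
        g.continuous] at hd
    exact (Set.eq_univ_iff_forall.mp hd u' :)

end Groth.Agent.S9843
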