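import Groth.Statements.S9845
import Groth.Agent.L19.Fppf

set_option autoImplicit false
open CategoryTheory CategoryTheory.Limits AlgebraicGeometry Opposite
universe u
open Desc

namespace Groth.Agent.S9845

/-- Being an open morphism (open underlying map) is fppf local on the source: for every fppf covering
family g i : X i ⟶ X, a morphism f : X ⟶ Y has open underlying map if and only if every composite g
i ≫ f does. -/
theorem result :
    MorphismProperty.IsLocalAtSource (topologically (fun f => IsOpenMap f) : MorphismProperty Scheme.{u})
      Scheme.fppfPrecoverage := by
  haveI : (topologically (fun f => IsOpenMap f) : MorphismProperty Scheme.{u}).RespectsIso := inferInstance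
  refine { comp := fun {X Y f R} hR {U} g hg hf => ?_, of_forall_comp := fun {X Y f R} hR h => ?_ }
  · show IsOpenMap (g ≫ f)
    rw [Scheme.Hom.comp_base]
    exact hf.comp (Groth.L19.isOpenMap_of_mem_fppf hR hg)
  · exact Groth.L19.isOpenMap_of_fppf_comp f hR h

end Groth.Agent.S9845
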