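import Groth.Statements.S9846
import Groth.Agent.L19.Fppf

set_option autoImplicit false
open CategoryTheory CategoryTheory.Limits AlgebraicGeometry Opposite
universe u
open Desc

namespace Groth.Agent.S9846

/-- Being universally open is fppf local on the source: for every fppf covering family g i : X i ⟶ X, a
morphism f : X ⟶ Y is universally open if and only if every composite g i ≫ f is. -/
theorem result :
    MorphismProperty.IsLocalAtSource (@UniversallyOpen : MorphismProperty Scheme.{u}) Scheme.fppfPrecoverage := by
  haveI : MorphismProperty.RespectsIso (@UniversallyOpen : MorphismProperty Scheme.{u}) := inferInstance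
  refine { comp := fun {X Y f R} hR {U} g hg hf => ?_, of_forall_comp := fun {X Y f R} hR h => ?_ }
  · haveI := Groth.L19.universallyOpen_of_mem_fppf hR hg
    infer_instance
  · obtain ⟨𝒰, rfl⟩ := Precoverage.mem_iff_exists_zeroHypercover.mp hR
    refine ⟨fun X' Y' i₁ i₂ f' H => ?_⟩
    refine Groth.L19.isOpenMap_of_fppf_comp f' (𝒰.pullback₁ i₁).mem₀ ?_
    rintro U g ⟨i⟩
    exact (h (Presieve.ofArrows.mk i)).out (f := _)
      (pullback.snd i₁ (𝒰.f i)) i₂ _ ((IsPullback.of_hasPullback i₁ (𝒰.f i)).paste_horiz H)

end Groth.Agent.S9846
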