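import Groth.Statements.S9848
import Groth.Agent.L07.SyntScheme
import Groth.Agent.L23.QFDescent

set_option autoImplicit false
set_option linter.style.haveILetI false
open CategoryTheory CategoryTheory.Limits AlgebraicGeometry Opposite
universe u
open Desc

namespace Groth.Agent.S9848

/-- Being syntomic is fpqc local on the base; the descent direction, stated for a single flat surjective
quasi-compact base change g : Y' ⟶ Y: if the base change X ×_Y Y' ⟶ Y' of f : X ⟶ Y is syntomic,
then f is syntomic. (With Zariski-locality on the target this gives the statement for arbitrary fpqc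
coverings; stability of syntomic morphisms under base change is the other direction.) -/
theorem result {X Y Y' : Scheme.{u}} (f : X ⟶ Y) (g : Y' ⟶ Y)
    [Flat g] [Surjective g] [QuasiCompact g] (h : Synt.IsSyntomicMor (pullback.snd f g)) :
    Synt.IsSyntomicMor f := by
  obtain ⟨hflat, hlfp, hCI⟩ := (Groth.L07.SyntScheme.isSyntomicMor_iff _).mp h
  haveI : LocallyOfFinitePresentation f :=
    MorphismProperty.of_pullback_snd_of_descendsAlong (P := @LocallyOfFinitePresentation)
      (Q := @Surjective ⊓ @Flat ⊓ @QuasiCompact) ⟨⟨inferInstance, inferInstance⟩, inferInstance⟩ hlfp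
  haveI : Flat f :=
    MorphismProperty.of_pullback_snd_of_descendsAlong (P := @Flat)
      (Q := @Surjective ⊓ @Flat ⊓ @QuasiCompact) ⟨⟨inferInstance, inferInstance⟩, inferInstance⟩ hflat
  refine (Groth.L07.SyntScheme.isSyntomicMor_iff f).mpr ⟨inferInstance, inferInstance, fun x => ?_⟩
  obtain ⟨x', rfl⟩ := (pullback.fst f g).surjective x
  exact (Groth.L07.CIBaseChange.isCI_fiberStalk_baseChange f (IsPullback.of_hasPullback f g) x').mp (hCI x')

end Groth.Agent.S9848
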