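import Groth.Statements.S9850
import Groth.Agent.L07.SyntDescent

set_option autoImplicit false
set_option linter.style.haveILetI false
open CategoryTheory CategoryTheory.Limits AlgebraicGeometry Opposite
universe u
open Desc

namespace Groth.Agent.S9850

/-- Let f : X ⟶ Y be surjective, flat and locally of finite presentation and q : Y ⟶ S a morphism such
that f ≫ q is syntomic. Then q is syntomic, and so is f. -/
theorem result {X Y S : Scheme.{u}} (f : X ⟶ Y) (q : Y ⟶ S)
    [Surjective f] [Flat f] [LocallyOfFinitePresentation f] (h : Synt.IsSyntomicMor (f ≫ q)) :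
    Synt.IsSyntomicMor q ∧ Synt.IsSyntomicMor f := by
  rw [Groth.L07.SyntScheme.isSyntomicMor_iff] at h
  rw [Groth.L07.SyntScheme.isSyntomicMor_iff, Groth.L07.SyntScheme.isSyntomicMor_iff]
  exact Groth.L07.SyntDescent.isCIMorphism_of_comp f q h

end Groth.Agent.S9850
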