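import Groth.Statements.S9851
import Groth.Agent.L20.SchDesc.Points

set_option linter.style.haveILetI false
set_option backward.isDefEq.respectTransparency false
open Groth.L20.SchDesc


set_option autoImplicit false
open CategoryTheory CategoryTheory.Limits AlgebraicGeometry Opposite
universe u
open Desc

namespace Groth.Agent.S9851

/-- Let f i : X i ⟶ S be a family of morphisms of schemes and X = ∐ X i with its morphism to S. The
canonical functor from descent data for schemes relative to X ⟶ S to descent data relative to the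
family, which pulls a datum back along the coprojections X i ⟶ X, is an equivalence of categories.
(The published statement names the quasi-inverse functor, sending a family (V i, φ ij) to (∐ V i, ∐
φ ij); asserting that the canonical pullback functor is an equivalence is the same result.) -/
theorem result {ι : Type u} {S : Scheme.{u}} {X : ι → Scheme.{u}} (f : ∀ i, X i ⟶ S) :
    (Desc.SchDDFam.ofSchDD (Sigma.desc f) ⋙
      Desc.pullDDFam (f := fun _ : PUnit.{u + 1} => Sigma.desc f) (f' := f) (α := fun _ => PUnit.unit)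
        (p := 𝟙 S) (p' := fun i => Sigma.ι X i)
        (fun i => (Sigma.ι_desc f i).trans (Category.comp_id (f i)).symm)).IsEquivalence := by

  let p := Sigma.desc f
  let α : ι → PUnit.{u + 1} := fun _ => PUnit.unit
  let w : ∀ i, Sigma.ι X i ≫ p = f i ≫ 𝟙 S := fun i => (Sigma.ι_desc f i).trans (Category.comp_id (f i)).symm
  let R := pullR (u := f) (v := fun _ : PUnit.{u + 1} => p) (α := α) (g := fun i => Sigma.ι X i) w
  haveI : (Desc.SchDDFam.ofSchDD.{u, u} p).IsEquivalence :=
    inferInstanceAs (Desc.SchDDFam.oneEquiv p).inverse.IsEquivalence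
  have hff := pullR_full_faithful (u := f) (v := fun _ : PUnit.{u + 1} => p) (α := α)
    (g := fun i => Sigma.ι X i) w fun _ => ⟨ι, X, fun i => Sigma.ι X i, id, fun i => 𝟙 _,
      Scheme.zariskiPrecoverage_le_fpqcPrecoverage (∐ X) (sigmaOpenCover X).mem₀, fun i => by
        rw [Category.id_comp]; exact Sigma.ι_desc f i⟩
  haveI := hff.1
  haveI := hff.2
  have hess : R.EssSurj := ⟨fun D => by
    let P := famPre D
    have hc : ∀ {T : Scheme.{u}} {x₀ x₁ : T ⟶ ∐ X} (v : Desc.Lifts (Over.mk (famHom D)) x₀),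
        x₀ ≫ p = x₁ ≫ p → v.1 ≫ famHom D ≫ p = x₁ ≫ p := fun v h => by
      rw [← h, ← Category.assoc]
      exact congrArg (· ≫ p) v.2
    have hs : ∀ {T : Scheme.{u}} {x : T ⟶ ∐ X} (v : Desc.Lifts (Over.mk (famHom D)) x),
        P.act v.1 x (hc v rfl) = v.1 := fun v => by
      obtain ⟨v, rfl⟩ := v
      exact P.self v _
    let D₁ : Desc.SchDDFam (fun _ : PUnit.{u + 1} => p) :=
      { obj := fun _ => Over.mk (famHom D)
        φ := fun T _ _ x₀ x₁ h =>
          { toFun := fun v => ⟨P.act v.1 x₁ (hc v h), P.hom _ _ _⟩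
            invFun := fun v => ⟨P.act v.1 x₀ (hc v h.symm), P.hom _ _ _⟩
            left_inv := fun v => Subtype.ext
              ((P.comp v.1 x₁ x₀ (hc v h) (hc (x₀ := x₁) ⟨P.act v.1 x₁ (hc v h), P.hom _ _ _⟩ h.symm) (hc v rfl)).trans (hs v))
            right_inv := fun v => Subtype.ext
              ((P.comp v.1 x₀ x₁ (hc v h.symm) (hc (x₀ := x₀) ⟨P.act v.1 x₀ (hc v h.symm), P.hom _ _ _⟩ h) (hc v rfl)).trans (hs v)) }
        φ_natural := fun T T' g _ _ x₀ x₁ h y₀ y₁ hy₀ hy₁ h' v v' hv =>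
          (P.natural' g v.1 x₁ (hc v h) (hc v' h') hv.symm hy₁).symm
        φ_self := fun T _ x v => Subtype.ext (hs v)
        φ_comp := fun T _ _ _ x₀ x₁ x₂ h₀₁ h₁₂ v => Subtype.ext (P.comp v.1 x₁ x₂ (hc v h₀₁)
          (hc (x₀ := x₁) ⟨P.act v.1 x₁ (hc v h₀₁), P.hom _ _ _⟩ h₁₂) (hc v (h₀₁.trans h₁₂))) }
    have hpb : ∀ i, IsPullback (D.obj i).hom (famι D i) (Sigma.ι X i) (famHom D) := fun i =>
      isPullback_sigmaMap (fun i => (D.obj i).hom) i
    let eq₂ : ∀ (i : ι) {T : Scheme.{u}} (x : T ⟶ X i),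
        Desc.Lifts (Over.mk (famHom D)) (x ≫ Sigma.ι X i) ≃ Desc.Lifts (D.obj i) x := fun i {T} x =>
      { toFun := fun v => ⟨(hpb i).lift x v.1 v.2.symm, (hpb i).lift_fst _ _ _⟩
        invFun := fun v => ⟨v.1 ≫ famι D i, (Category.assoc _ _ _).trans
          ((congrArg (v.1 ≫ ·) (famι_hom D i)).trans ((Category.assoc _ _ _).symm.trans
            (congrArg (· ≫ Sigma.ι X i) v.2)))⟩
        left_inv := fun v => Subtype.ext ((hpb i).lift_snd _ _ _)
        right_inv := fun v => Subtype.ext ((hpb i).hom_ext (((hpb i).lift_fst _ _ _).trans v.2.symm)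
          ((hpb i).lift_snd _ _ _)) }
    refine ⟨D₁, ⟨PointsEquiv.iso
      { equiv := fun i {T} x => (Desc.liftsPullbackEquiv (D₁.obj (α i)) (Sigma.ι X i) x).trans (eq₂ i x)
        natural := fun i {T T'} g x x' hx a a' ha => (hpb i).hom_ext ?_ ?_
        compat := fun {T} i j x₀ x₁ h a => ?_ }⟩⟩
    · rw [Category.assoc]
      exact ((hpb i).lift_fst _ _ _).trans (hx.symm.trans (congrArg (g ≫ ·) ((hpb i).lift_fst _ _ _).symm))
    · rw [Category.assoc]
      refine ((hpb i).lift_snd _ _ _).trans ?_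
      refine Eq.trans ?_ (congrArg (g ≫ ·) ((hpb i).lift_snd _ _ _).symm)
      exact (congrArg (· ≫ pullback.fst _ _) ha).trans (Category.assoc _ _ _)
    · refine Eq.trans ?_ (congrArg (eq₂ j x₁) (Equiv.apply_symm_apply
        (Desc.liftsPullbackEquiv (D₁.obj (α j)) (Sigma.ι X j) x₁) _).symm)
      show D.φ x₀ x₁ h (eq₂ i x₀ (Desc.liftsPullbackEquiv (D₁.obj (α i)) (Sigma.ι X i) x₀ a)) =
        eq₂ j x₁ (D₁.φ (i := α i) (j := α j) _ _ (Desc.pull_compat (f := fun _ : PUnit.{u + 1} => p) (α := α) (f' := f) (p' := fun i => Sigma.ι X i) w x₀ x₁ h)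
          (Desc.liftsPullbackEquiv (D₁.obj (α i)) (Sigma.ι X i) x₀ a))
      generalize Desc.liftsPullbackEquiv (D₁.obj (α i)) (Sigma.ι X i) x₀ a = c
      obtain ⟨b, rfl⟩ := (eq₂ i x₀).symm.surjective c
      refine (congrArg (D.φ x₀ x₁ h) ((eq₂ i x₀).apply_symm_apply b)).trans ?_
      refine ((eq₂ j x₁).symm_apply_eq).1 ?_
      apply Subtype.ext
      obtain ⟨b, rfl⟩ := b
      have hh : (b ≫ famι D i) ≫ famHom D ≫ p = (x₁ ≫ Sigma.ι X j) ≫ p := by
        rw [Category.assoc, reassoc_of% (famι_hom D i), Sigma.ι_desc, Category.assoc, Sigma.ι_desc, ← h,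
          Category.assoc]
      have hw := (exists_rel D hh).choose_spec (𝟙 T) i j b x₁ h (Category.id_comp _).symm (Category.id_comp _).symm
      rw [Category.id_comp] at hw
      exact hw.symm⟩
  haveI : R.IsEquivalence := { faithful := hff.2, full := hff.1, essSurj := hess }
  exact Functor.isEquivalence_trans (Desc.SchDDFam.ofSchDD p) R


end Groth.Agent.S9851
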