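import Groth.Statements.S9852
import Groth.Agent.L20.SchDesc.Refine

set_option autoImplicit false
open CategoryTheory CategoryTheory.Limits AlgebraicGeometry Opposite
universe u
open Desc

set_option backward.isDefEq.respectTransparency.types false
set_option linter.style.haveILetI false

namespace Groth.Agent.S9852

/-- Let g : X ⟶ X' be a morphism of schemes over S, with structure morphisms a : X ⟶ S and a' : X' ⟶ S,
and assume a is surjective and flat. Then the pullback functor along g, from descent data for
schemes relative to X' ⟶ S to descent data relative to X ⟶ S, is faithful. (Descent data relative to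
a single morphism are written as descent data relative to the corresponding one-member family.) -/
theorem result {X X' S : Scheme.{u}} (a : X ⟶ S) (a' : X' ⟶ S) (g : X ⟶ X')
    (h : g ≫ a' = a) [Surjective a] [Flat a] :
    (Desc.pullDDFam (f := fun _ : PUnit.{u + 1} => a') (f' := fun _ : PUnit.{u + 1} => a) (α := fun j => j)
        (p := 𝟙 S) (p' := fun _ => g) (fun _ => (h).trans (Category.comp_id a).symm)).Faithful := by
  refine Groth.L20.SchDesc.pullR_faithful _ fun j T Z x p q hpq => ?_
  let e := pullback.fst (x ≫ a') a
  have : Flat e := MorphismProperty.pullback_fst _ _ inferInstance
  have : Surjective e := MorphismProperty.pullback_fst _ _ inferInstance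
  have := Flat.epi_of_flat_of_surjective e
  exact (cancel_epi e).1 (hpq e PUnit.unit (pullback.snd _ _)
    ((Category.assoc _ _ _).trans pullback.condition))

end Groth.Agent.S9852
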