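import Groth.Statements.S9855
import Groth.Agent.Lead.ZarDesc

set_option linter.style.haveILetI false
set_option backward.isDefEq.respectTransparency false
set_option backward.isDefEq.respectTransparency.types false
open Groth.L20.SchDesc

set_option autoImplicit false
open CategoryTheory CategoryTheory.Limits AlgebraicGeometry Opposite
universe u
open Desc

namespace Groth.Agent.S9855

/-- Let u i : U i ⟶ S and v j : V j ⟶ S be two families of morphisms with target S and (α, g) a morphism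
of families over the identity of S, i.e. g i : U i ⟶ V (α i) with g i ≫ v (α i) = u i. Assume that
for every index j the family of those g i with α i = j is a Zariski covering of V j (jointly
surjective open immersions). Then the pullback functor from descent data for schemes relative to (v
j) to descent data relative to (u i) is an equivalence of categories. -/
theorem result {ι κ : Type u} {S : Scheme.{u}} {U : ι → Scheme.{u}} {V : κ → Scheme.{u}}
    (u : ∀ i, U i ⟶ S) (v : ∀ j, V j ⟶ S) (α : ι → κ) (g : ∀ i, U i ⟶ V (α i)) (w : ∀ i, g i ≫ v (α i) = u i)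
    (hcov : ∀ j, Presieve.ofArrows (fun i : {i // α i = j} => U i.1)
      (fun i => g i.1 ≫ eqToHom (congrArg V i.2)) ∈ Scheme.zariskiPrecoverage (V j)) :
    (Desc.pullDDFam (f := v) (f' := u) (α := α) (p := 𝟙 S) (p' := g) (fun i => (w i).trans (Category.comp_id (u i)).symm)).IsEquivalence := by
  have hw : ∀ i, g i ≫ v (α i) = u i ≫ 𝟙 S := fun i => (w i).trans (Category.comp_id (u i)).symm
  let R := pullR (u := u) (v := v) (α := α) (g := g) hw
  have hop : ∀ i, IsOpenImmersion (g i) := fun i => by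
    have := ((Scheme.ofArrows_mem_precoverage_iff (P := @IsOpenImmersion)).1 (hcov (α i))).2 ⟨i, rfl⟩
    rwa [eqToHom_refl, Category.comp_id] at this
  have hsurj : ∀ (j : κ) (z : V j), ∃ (i : {i // α i = j}) (t : U i.1),
      (g i.1 ≫ eqToHom (congrArg V i.2)) t = z := fun j z =>
    by
      obtain ⟨i, t, ht⟩ := ((Scheme.ofArrows_mem_precoverage_iff (P := @IsOpenImmersion)).1 (hcov j)).1 z
      exact ⟨i, t, ht⟩
  have hff := pullR_full_faithful (u := u) (v := v) (α := α) (g := g) hw fun j =>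
    ⟨{i // α i = j}, fun k => U k.1, fun k => g k.1 ≫ eqToHom (congrArg V k.2), fun k => k.1,
      fun k => 𝟙 _, Scheme.zariskiPrecoverage_le_fpqcPrecoverage (V j) (hcov j), fun k => by
        obtain ⟨i, rfl⟩ := k
        simp [w]⟩
  haveI := hff.1
  haveI := hff.2
  let q := Sigma.desc v
  let h : ∀ i, U i ⟶ ∐ V := fun i => g i ≫ Sigma.ι V (α i)
  have hq : ∀ i, h i ≫ q = u i := fun i => by
    show (g i ≫ Sigma.ι V (α i)) ≫ Sigma.desc v = u i
    rw [Category.assoc, Sigma.ι_desc, w]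
  haveI : ∀ i, IsOpenImmersion (h i) := fun i => by
    have := hop i
    exact inferInstanceAs (IsOpenImmersion (g i ≫ Sigma.ι V (α i)))
  have hh : ∀ z : ↥(∐ V), ∃ (i : ι) (t : U i), h i t = z := fun z => by
    obtain ⟨j, z, rfl⟩ := exists_sigmaι_eq z
    obtain ⟨⟨i, rfl⟩, t, ht⟩ := hsurj j z
    refine ⟨i, t, ?_⟩
    rw [eqToHom_refl, Category.comp_id] at ht
    show (g i ≫ Sigma.ι V (α i)) t = _
    rw [Scheme.Hom.comp_apply, ht]
  have hmem : Presieve.ofArrows U h ∈ Scheme.fpqcPrecoverage (∐ V) :=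
    Scheme.zariskiPrecoverage_le_fpqcPrecoverage (∐ V)
      ((Scheme.ofArrows_mem_precoverage_iff (P := @IsOpenImmersion)).2 ⟨hh, fun i => inferInstance⟩)
  haveI hess : R.EssSurj := ⟨fun D => by
    obtain ⟨G⟩ := Groth.Lead.ZarDesc.exists_glued hq D hmem
    let P := G.pre hh
    let p : κ → PUnit.{u + 1} := fun _ => PUnit.unit
    have hc : ∀ {T : Scheme.{u}} {x₀ x₁ : T ⟶ ∐ V} (l : Desc.Lifts (Over.mk G.a) x₀),
        x₀ ≫ q = x₁ ≫ q → l.1 ≫ G.a ≫ q = x₁ ≫ q := fun l e => by
      rw [← e, ← Category.assoc]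
      exact congrArg (· ≫ q) l.2
    have hs : ∀ {T : Scheme.{u}} {x : T ⟶ ∐ V} (l : Desc.Lifts (Over.mk G.a) x),
        P.act l.1 x (hc l rfl) = l.1 := fun l => by
      obtain ⟨l, rfl⟩ := l
      exact P.self l _
    let D₀ : Desc.SchDDFam (fun _ : PUnit.{u + 1} => q) :=
      { obj := fun _ => Over.mk G.a
        φ := fun T _ _ x₀ x₁ e =>
          { toFun := fun l => ⟨P.act l.1 x₁ (hc l e), P.hom _ _ _⟩
            invFun := fun l => ⟨P.act l.1 x₀ (hc l e.symm), P.hom _ _ _⟩
            left_inv := fun l => Subtype.ext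
              ((P.comp l.1 x₁ x₀ (hc l e) (hc (x₀ := x₁) ⟨P.act l.1 x₁ (hc l e), P.hom _ _ _⟩ e.symm) (hc l rfl)).trans (hs l))
            right_inv := fun l => Subtype.ext
              ((P.comp l.1 x₀ x₁ (hc l e.symm) (hc (x₀ := x₀) ⟨P.act l.1 x₀ (hc l e.symm), P.hom _ _ _⟩ e) (hc l rfl)).trans (hs l)) }
        φ_natural := fun T T' r _ _ x₀ x₁ e y₀ y₁ hy₀ hy₁ e' l l' hl =>
          (P.natural' r l.1 x₁ (hc l e) (hc l' e') hl.symm hy₁).symm
        φ_self := fun T _ x l => Subtype.ext (hs l)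
        φ_comp := fun T _ _ _ x₀ x₁ x₂ h₀₁ h₁₂ l => Subtype.ext (P.comp l.1 x₁ x₂ (hc l h₀₁)
          (hc (x₀ := x₁) ⟨P.act l.1 x₁ (hc l h₀₁), P.hom _ _ _⟩ h₁₂) (hc l (h₀₁.trans h₁₂))) }
    have wv : ∀ j, Sigma.ι V j ≫ q = v j ≫ 𝟙 S := fun j =>
      (Sigma.ι_desc v j).trans (Category.comp_id (v j)).symm
    let D₁ := (Desc.pullDDFam (f := fun _ : PUnit.{u + 1} => q) (f' := v) (α := p)
      (p := 𝟙 S) (p' := fun j => Sigma.ι V j) wv).obj D₀
    let eq₃ : ∀ (i : ι) {T : Scheme.{u}} (x : T ⟶ U i),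
        Desc.Lifts (Over.mk G.a) ((x ≫ g i) ≫ Sigma.ι V (α i)) ≃ Desc.Lifts (D.obj i) x := fun i {T} x =>
      { toFun := fun l => ⟨(G.isPullback i).lift x l.1 ((Category.assoc _ _ _).symm.trans l.2.symm),
          (G.isPullback i).lift_fst _ _ _⟩
        invFun := fun l => ⟨l.1 ≫ G.m i, (Category.assoc _ _ _).trans
          ((congrArg (l.1 ≫ ·) (G.isPullback i).w.symm).trans ((Category.assoc _ _ _).symm.trans
            ((congrArg (· ≫ h i) l.2).trans (Category.assoc _ _ _).symm)))⟩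
        left_inv := fun l => Subtype.ext ((G.isPullback i).lift_snd _ _ _)
        right_inv := fun l => Subtype.ext ((G.isPullback i).hom_ext
          (((G.isPullback i).lift_fst _ _ _).trans l.2.symm) ((G.isPullback i).lift_snd _ _ _)) }
    refine ⟨D₁, ⟨PointsEquiv.iso
      { equiv := fun i {T} x => (Desc.liftsPullbackEquiv (D₁.obj (α i)) (g i) x).trans
          ((Desc.liftsPullbackEquiv (D₀.obj (p (α i))) (Sigma.ι V (α i)) (x ≫ g i)).trans (eq₃ i x))
        natural := fun i {T T'} r x x' hx a a' ha => (G.isPullback i).hom_ext ?_ ?_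
        compat := fun {T} i j x₀ x₁ e a => ?_ }⟩⟩
    · refine Eq.trans ?_ (Category.assoc _ _ _).symm
      exact ((G.isPullback i).lift_fst _ _ _).trans
        (hx.symm.trans (congrArg (r ≫ ·) ((G.isPullback i).lift_fst _ _ _).symm))
    · refine Eq.trans ?_ (Category.assoc _ _ _).symm
      refine ((G.isPullback i).lift_snd _ _ _).trans ?_
      refine Eq.trans ?_ (congrArg (r ≫ ·) ((G.isPullback i).lift_snd _ _ _).symm)
      exact ((congrArg (· ≫ pullback.fst _ _) ((congrArg (· ≫ pullback.fst _ _) ha).trans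
        (Category.assoc _ _ _))).trans (Category.assoc _ _ _))
    · let E : ∀ (k : ι) (y : T ⟶ U k), Desc.Lifts ((R.obj D₁).obj k) y ≃ Desc.Lifts (D.obj k) y :=
        fun k y => (Desc.liftsPullbackEquiv (D₁.obj (α k)) (g k) y).trans
          ((Desc.liftsPullbackEquiv (D₀.obj (p (α k))) (Sigma.ι V (α k)) (y ≫ g k)).trans (eq₃ k y))
      obtain ⟨l, rfl⟩ := (E i x₀).symm.surjective a
      show D.φ x₀ x₁ e (E i x₀ ((E i x₀).symm l)) = E j x₁ ((R.obj D₁).φ x₀ x₁ e ((E i x₀).symm l))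
      have e₀ : ((x₀ ≫ g i) ≫ Sigma.ι V (α i)) ≫ q = ((x₁ ≫ g j) ≫ Sigma.ι V (α j)) ≫ q := by
        simp only [Category.assoc, q, Sigma.ι_desc, w]
        exact e
      have hR : (R.obj D₁).φ x₀ x₁ e ((E i x₀).symm l) =
          (Desc.liftsPullbackEquiv (D₁.obj (α j)) (g j) x₁).symm
            ((Desc.liftsPullbackEquiv (D₀.obj (p (α j))) (Sigma.ι V (α j)) (x₁ ≫ g j)).symm
              (D₀.φ (i := p (α i)) (j := p (α j)) _ _ e₀ ((eq₃ i x₀).symm l))) := by
        show (Desc.liftsPullbackEquiv (D₁.obj (α j)) (g j) x₁).symm (D₁.φ _ _ _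
          (Desc.liftsPullbackEquiv (D₁.obj (α i)) (g i) x₀
            ((Desc.liftsPullbackEquiv (D₁.obj (α i)) (g i) x₀).symm _))) = _
        rw [Equiv.apply_symm_apply]
        refine congrArg _ ?_
        show (Desc.liftsPullbackEquiv (D₀.obj (p (α j))) (Sigma.ι V (α j)) (x₁ ≫ g j)).symm (D₀.φ _ _ _
          (Desc.liftsPullbackEquiv (D₀.obj (p (α i))) (Sigma.ι V (α i)) (x₀ ≫ g i)
            ((Desc.liftsPullbackEquiv (D₀.obj (p (α i))) (Sigma.ι V (α i)) (x₀ ≫ g i)).symm _))) = _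
        rw [Equiv.apply_symm_apply]
      rw [Equiv.apply_symm_apply, hR]
      refine Eq.trans ?_ (congrArg (eq₃ j x₁) ((congrArg _ (Equiv.apply_symm_apply _ _)).trans
        (Equiv.apply_symm_apply _ _)).symm)
      refine ((eq₃ j x₁).symm_apply_eq).1 ?_
      apply Subtype.ext
      obtain ⟨l, rfl⟩ := l
      have hh' : (l ≫ G.m i) ≫ G.a ≫ q = ((x₁ ≫ g j) ≫ Sigma.ι V (α j)) ≫ q :=
        hc ((eq₃ i (l ≫ (D.obj i).hom)).symm ⟨l, rfl⟩) e₀
      have key := (G.exists_rel hh hh').choose_spec (𝟙 T) i j l x₁ (Category.id_comp _).symm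
        ((Category.assoc _ _ _).symm.trans (Category.id_comp _).symm) e
      rw [Category.id_comp] at key
      exact key.symm⟩
  exact { faithful := hff.2, full := hff.1, essSurj := hess }

end Groth.Agent.S9855
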