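import Groth.Statements.S9857
import Groth.Agent.L22.Cyc.BaseChange
import Groth.Agent.L23.FibreDimBC

set_option autoImplicit false
set_option backward.isDefEq.respectTransparency.types false
open CategoryTheory CategoryTheory.Limits AlgebraicGeometry Opposite
universe u
open Desc

namespace Groth.Agent.S9857

/-- The property of a morphism being locally of finite type with relative dimension d may be checked
fpqc locally on the target; the descent direction for the dimension condition, stated for a single
flat surjective quasi-compact base change g : Y' ⟶ Y of a morphism f : X ⟶ Y locally of finite type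
and a cartesian square with base change f' : X' ⟶ Y': if every irreducible component of every fibre
of f' has dimension d, then every irreducible component of every fibre of f has dimension d. (Local
finite type itself descends along g by a separate result; stability under base change is the other
direction.) -/
theorem result {X Y X' Y' : Scheme.{u}} (f : X ⟶ Y) [LocallyOfFiniteType f] (g : Y' ⟶ Y)
    [Flat g] [Surjective g] [QuasiCompact g] (g' : X' ⟶ X) (f' : X' ⟶ Y') (hsq : IsPullback g' f' f g)
    (d : ℕ) (h : Cyc.HasRelDim f' d) : Cyc.HasRelDim f d := by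
  haveI : LocallyOfFiniteType f' := MorphismProperty.of_isPullback hsq ‹LocallyOfFiniteType f›
  refine Groth.L22.Cyc.hasRelDim_of_rtrdeg f fun t ht => ?_
  obtain ⟨w, hw⟩ := g.surjective (f t)
  obtain ⟨v, hv1, hv2⟩ := Scheme.exists_preimage_of_isPullback hsq t w hw.symm
  obtain ⟨v', hv', hmax⟩ : ∃ v', (f' v' = f' v ∧ v' ⤳ v) ∧ Groth.L22.Cyc.FibGen f' v' := by
    obtain ⟨z, hz, hz'⟩ := Groth.L23.exists_maximal_generization (f'.asFiber v)
    refine ⟨f'.fiberι _ z, ⟨(f'.range_fiberι _).subset ⟨z, rfl⟩, ?_⟩,
      Groth.L22.Cyc.fibGen_of_maximal hz'⟩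
    have := hz.map (f'.fiberι (f' v)).continuous
    rwa [f'.fiberι_asFiber] at this
  have e : g' v' = t := by
    refine ht _ ?_ (hv1 ▸ hv'.2.map g'.continuous)
    rw [← Scheme.Hom.comp_apply, hsq.w, Scheme.Hom.comp_apply, hv'.1, hv2, hw]
  rw [← e, ← Groth.L22.Cyc.rtrdeg_baseChange hsq hmax]
  exact Groth.L22.Cyc.rtrdeg_eq_of_hasRelDim f' h hmax

end Groth.Agent.S9857
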