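import Groth.Statements.S9859
import Mathlib.AlgebraicGeometry.Sites.Fpqc
import Mathlib.AlgebraicGeometry.Restrict
import Mathlib.AlgebraicGeometry.Morphisms.UniversallyOpen

set_option autoImplicit false
set_option backward.isDefEq.respectTransparency.types false
set_option backward.isDefEq.respectTransparency false
set_option linter.style.haveILetI false
open CategoryTheory CategoryTheory.Limits AlgebraicGeometry Opposite
universe u
open Desc

namespace Groth.Agent.S9859

/-- Case τ = fppf: let P be a property of morphisms of schemes which is fppf local on the base and f : X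
⟶ Y a morphism. There is a largest open W of Y such that the restriction of f over W has P;
moreover, first, if g : Y' ⟶ Y is flat and locally of finite presentation and the base change of f
to Y' has P, then the image of g lies in W; and second, for such g the largest open of Y' over which
the base change of f has P is exactly g⁻¹(W). -/
theorem result (P : MorphismProperty Scheme.{u})
    [MorphismProperty.IsLocalAtTarget P Scheme.fppfPrecoverage] {X Y : Scheme.{u}} (f : X ⟶ Y) :
    ∃ W : Y.Opens, P (f ∣_ W) ∧ (∀ W₀ : Y.Opens, P (f ∣_ W₀) → W₀ ≤ W) ∧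
      (∀ (Y' : Scheme.{u}) (g : Y' ⟶ Y), Flat g → LocallyOfFinitePresentation g →
        P (pullback.snd f g) → Set.range g.base ⊆ (W : Set Y)) ∧
      (∀ (Y' : Scheme.{u}) (g : Y' ⟶ Y), Flat g → LocallyOfFinitePresentation g →
        ∀ W' : Y'.Opens, P (pullback.snd f g ∣_ W') → (∀ W₀ : Y'.Opens, P (pullback.snd f g ∣_ W₀) → W₀ ≤ W') →
          W' = g ⁻¹ᵁ W) := by
  let Q : MorphismProperty Scheme.{u} := @Flat ⊓ @LocallyOfFinitePresentation
  have hiso : ∀ {X Y Y' X₁ : Scheme.{u}} {f : X ⟶ Y} {g : Y' ⟶ Y} {a : X₁ ⟶ X} {b : X₁ ⟶ Y'},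
      IsPullback a b f g → (P b ↔ P (pullback.snd f g)) := by
    intro X Y Y' X₁ f g a b h
    rw [← h.isoPullback_hom_snd, P.cancel_left_of_respectsIso]
  have hA : ∀ {X Y Y' : Scheme.{u}} (f : X ⟶ Y) (g : Y' ⟶ Y), Q g → P f → P (pullback.snd f g) := by
    intro X Y Y' f g hg hf
    let E : PreZeroHypercover.{u} Y :=
      { I₀ := Option PUnit.{u + 1}
        X := fun i => i.elim Y (fun _ => Y')
        f := fun i => match i with | none => 𝟙 Y | some _ => g }
    refine MorphismProperty.IsLocalAtTarget.pullbackSnd (K := Scheme.fppfPrecoverage) (R := E.presieve₀) ?_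
      (Presieve.ofArrows.mk (some PUnit.unit)) hf
    refine (Scheme.presieve₀_mem_precoverage_iff E).mpr ⟨fun x => ⟨none, x, rfl⟩, fun i => match i with
      | none => ⟨inferInstanceAs (Flat (𝟙 Y)), inferInstanceAs (LocallyOfFinitePresentation (𝟙 Y))⟩
      | some _ => hg⟩
  have hopen : ∀ {U V : Scheme.{u}} (g : U ⟶ V), IsOpenImmersion g → Q g :=
    fun g _ => ⟨inferInstance, inferInstance⟩
  have hB : ∀ {X Y : Scheme.{u}} (f : X ⟶ Y) (E : PreZeroHypercover.{u} Y),
      (∀ y, ∃ i, y ∈ Set.range (E.f i)) → (∀ i, Q (E.f i)) →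
      (∀ i, P (pullback.snd f (E.f i))) → P f := by
    intro X Y f E hs hQ hP
    refine MorphismProperty.IsLocalAtTarget.of_forall_pullbackSnd (K := Scheme.fppfPrecoverage)
      ((Scheme.presieve₀_mem_precoverage_iff E).mpr ⟨hs, hQ⟩) ?_
    rintro U g _ ⟨i⟩
    exact hP i
  have hres : ∀ {X Y Y' : Scheme.{u}} (f : X ⟶ Y) (U : Y.Opens) (h : Y' ⟶ U.toScheme),
      P (pullback.snd (f ∣_ U) h) ↔ P (pullback.snd f (h ≫ U.ι)) := fun f U h =>
    hiso ((IsPullback.of_hasPullback (f ∣_ U) h).paste_horiz (isPullback_morphismRestrict f U).flip)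
  have hresU : ∀ {X Y : Scheme.{u}} (f : X ⟶ Y) (U : Y.Opens), P (f ∣_ U) ↔ P (pullback.snd f U.ι) :=
    fun f U => hiso (isPullback_morphismRestrict f U).flip
  let W : Y.Opens := ⨆ U : {U : Y.Opens // P (f ∣_ U)}, U.1
  have hle : ∀ U : Y.Opens, P (f ∣_ U) → U ≤ W := fun U hU =>
    le_iSup (fun U : {U : Y.Opens // P (f ∣_ U)} => U.1) ⟨U, hU⟩
  have hW : P (f ∣_ W) := by
    refine hB _
      { I₀ := {U : Y.Opens // P (f ∣_ U)}
        X := fun U => U.1.toScheme
        f := fun U => Y.homOfLE (hle U.1 U.2) } (fun x => ?_) (fun U => hopen _ inferInstance)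
      fun U => ?_
    · obtain ⟨U, hU⟩ := TopologicalSpace.Opens.mem_iSup.mp x.2
      refine ⟨U, ⟨x.1, hU⟩, W.ι.isOpenEmbedding.injective ?_⟩
      rw [← Scheme.Hom.comp_apply, Scheme.homOfLE_ι]
      rfl
    · rw [hres, Scheme.homOfLE_ι, ← hresU]
      exact U.2
  have hrange : ∀ (Y' : Scheme.{u}) (g : Y' ⟶ Y), Flat g → LocallyOfFinitePresentation g →
      P (pullback.snd f g) → Set.range g.base ⊆ (W : Set Y) := by
    intro Y' g _ _ hg
    haveI : UniversallyOpen g := UniversallyOpen.of_flat g
    let O : Y.Opens := ⟨Set.range g, g.isOpenMap.isOpen_range⟩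
    let h : Y' ⟶ O.toScheme := IsOpenImmersion.lift O.ι g (by rw [Scheme.Opens.range_ι]; exact subset_rfl)
    have e : h ≫ O.ι = g := IsOpenImmersion.lift_fac _ _ _
    have hh : Q h := by
      have sq : IsPullback (𝟙 Y') h g O.ι := IsPullback.of_horiz_isIso_mono ⟨by simp [e]⟩
      exact ⟨MorphismProperty.of_isPullback (P := @Flat) sq ‹_›,
        MorphismProperty.of_isPullback (P := @LocallyOfFinitePresentation) sq ‹_›⟩
    have hO : P (f ∣_ O) := by
      refine hB _ { I₀ := PUnit.{u + 1}, X := fun _ => Y', f := fun _ => h } (fun x => ?_)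
        (fun _ => hh) fun _ => ?_
      · obtain ⟨y, hy⟩ := x.2
        refine ⟨PUnit.unit, y, O.ι.isOpenEmbedding.injective ?_⟩
        exact (congr($e y)).trans hy
      · rw [hres, e]
        exact hg
    exact hle O hO
  refine ⟨W, hW, hle, hrange, fun Y' g hg1 hg2 W' hW' hmax => le_antisymm ?_ ?_⟩
  · have h1 : P (pullback.snd f (W'.ι ≫ g)) :=
      (hiso ((isPullback_morphismRestrict (pullback.snd f g) W').flip.paste_horiz
        (IsPullback.of_hasPullback f g))).mp hW'
    intro y hy
    exact hrange _ (W'.ι ≫ g) inferInstance inferInstance h1 ⟨⟨y, hy⟩, rfl⟩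
  · refine hmax _ ?_
    have hgW : Q (g ∣_ W) :=
      ⟨MorphismProperty.of_isPullback (P := @Flat) (isPullback_morphismRestrict g W).flip hg1,
        MorphismProperty.of_isPullback (P := @LocallyOfFinitePresentation) (isPullback_morphismRestrict g W).flip hg2⟩
    have h1 := (hres f W (g ∣_ W)).mp (hA _ _ hgW hW)
    rw [morphismRestrict_ι] at h1
    exact (hiso ((isPullback_morphismRestrict (pullback.snd f g) (g ⁻¹ᵁ W)).flip.paste_horiz
      (IsPullback.of_hasPullback f g))).mpr h1

end Groth.Agent.S9859
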