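import Groth.Statements.S9860
import Mathlib.CategoryTheory.Sites.EffectiveEpimorphic
import Mathlib.AlgebraicGeometry.Cover.Open

set_option linter.style.haveILetI false
set_option backward.isDefEq.respectTransparency.types false

set_option autoImplicit false
open CategoryTheory CategoryTheory.Limits AlgebraicGeometry Opposite
universe u
open Desc

namespace Groth.Agent.S9860

/-- Consider morphisms of schemes f i : X i ⟶ X indexed by i. Suppose that, whenever Y is an affine
scheme and g : Y ⟶ X is a morphism, the sieve on Y obtained by pulling back along g (generated by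
the base changes X i ×_X Y ⟶ Y) is effective epimorphic. Then the pulled-back sieve along every
morphism Y ⟶ X of schemes is effective epimorphic; in other words, within schemes the family forms a
universal effective epimorphism. -/
theorem result {ι : Type u} {X : Scheme.{u}} {Xi : ι → Scheme.{u}} (f : ∀ i, Xi i ⟶ X)
    (h : ∀ (Y : Scheme.{u}) (g : Y ⟶ X), IsAffine Y → ((Sieve.ofArrows Xi f).pullback g).EffectiveEpimorphic)
    {Y : Scheme.{u}} (g : Y ⟶ X) : ((Sieve.ofArrows Xi f).pullback g).EffectiveEpimorphic := by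
  rw [Sieve.EffectiveEpimorphic.iff_forall_isSheafFor_yoneda]
  intro Z
  have haff : ∀ {V : Scheme.{u}} (q : V ⟶ X), IsAffine V →
      Presieve.IsSheafFor (yoneda.obj Z) ((Sieve.ofArrows Xi f).pullback q : Presieve V) := fun q hV =>
    (Sieve.EffectiveEpimorphic.iff_forall_isSheafFor_yoneda _).1 (h _ q hV) Z
  -- morphisms are determined by their restrictions to members of the sieve
  have hsep : ∀ {W : Scheme.{u}} (q : W ⟶ X) (a b : W ⟶ Z),
      (∀ {T : Scheme.{u}} (t : T ⟶ W), Sieve.ofArrows Xi f (t ≫ q) → t ≫ a = t ≫ b) → a = b := by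
    intro W q a b hab
    refine W.affineCover.hom_ext _ _ fun k => (haff (W.affineCover.f k ≫ q) inferInstance).isSeparatedFor.ext
      fun T t ht => ?_
    show t ≫ W.affineCover.f k ≫ a = t ≫ W.affineCover.f k ≫ b
    rw [← Category.assoc, ← Category.assoc]
    exact hab _ (by rw [Category.assoc]; exact ht)
  intro x hx
  rw [Presieve.compatible_iff_sieveCompatible] at hx
  have xcongr : ∀ {T : Scheme.{u}} {a b : T ⟶ Y} (e : a = b) ha hb, x a ha = x b hb := by
    intro T a b e ha hb; subst e; rfl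
  let 𝒰 := Y.affineCover
  let xk : ∀ k, Presieve.FamilyOfElements (yoneda.obj Z)
      ((Sieve.ofArrows Xi f).pullback (𝒰.f k ≫ g) : Presieve (𝒰.X k)) := fun k T t ht =>
    x (t ≫ 𝒰.f k) (show Sieve.ofArrows Xi f ((t ≫ 𝒰.f k) ≫ g) by rw [Category.assoc]; exact ht)
  have hxk : ∀ k, (xk k).Compatible := fun k => by
    rw [Presieve.compatible_iff_sieveCompatible]
    intro T T' t s ht
    exact (xcongr (Category.assoc _ _ _) _ _).trans (hx (t ≫ 𝒰.f k) s (show Sieve.ofArrows Xi f ((t ≫ 𝒰.f k) ≫ g) by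
      rw [Category.assoc]; exact ht))
  let m : ∀ k, 𝒰.X k ⟶ Z := fun k => (haff (𝒰.f k ≫ g) inferInstance).amalgamate (xk k) (hxk k)
  have hm : ∀ k {T : Scheme.{u}} (t : T ⟶ 𝒰.X k) (ht : Sieve.ofArrows Xi f ((t ≫ 𝒰.f k) ≫ g)),
      t ≫ m k = x (t ≫ 𝒰.f k) ht := fun k T t ht =>
    (haff (𝒰.f k ≫ g) inferInstance).valid_glue (hxk k) t (show Sieve.ofArrows Xi f (t ≫ 𝒰.f k ≫ g) by
      rw [← Category.assoc]; exact ht)
  have hglue : ∀ k l, pullback.fst (𝒰.f k) (𝒰.f l) ≫ m k = pullback.snd (𝒰.f k) (𝒰.f l) ≫ m l := fun k l => by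
    refine hsep (pullback.fst (𝒰.f k) (𝒰.f l) ≫ 𝒰.f k ≫ g) _ _ fun {T} t ht => ?_
    rw [← Category.assoc, ← Category.assoc, hm k, hm l]
    · exact xcongr (by simp only [Category.assoc, pullback.condition]) _ _
    · rw [Category.assoc, Category.assoc, ← pullback.condition_assoc]; exact ht
    · rw [Category.assoc, Category.assoc]; exact ht
  let M := 𝒰.glueMorphisms m hglue
  have hM : ∀ {T : Scheme.{u}} (t : T ⟶ Y) (ht : Sieve.ofArrows Xi f (t ≫ g)), t ≫ M = x t ht := by
    intro T t ht
    refine Scheme.Cover.hom_ext (𝒰.pullback₁ t) _ _ fun k => ?_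
    show pullback.fst t (𝒰.f k) ≫ t ≫ M = pullback.fst t (𝒰.f k) ≫ x t ht
    have h1 : pullback.fst t (𝒰.f k) ≫ t ≫ M = pullback.snd t (𝒰.f k) ≫ m k := by
      rw [pullback.condition_assoc, 𝒰.ι_glueMorphisms]
    rw [h1, hm k _ (by
      rw [← pullback.condition, Category.assoc]
      exact (Sieve.ofArrows Xi f).downward_closed ht _)]
    exact (xcongr (pullback.condition).symm _ ((Sieve.pullback g (Sieve.ofArrows Xi f)).downward_closed ht _)).trans (hx t _ ht)
  exact ⟨M, fun T t ht => hM t ht, fun M' hM' => hsep g _ _ fun {T} t ht =>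
    (hM' t ht).trans (hM t ht).symm⟩

end Groth.Agent.S9860
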