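import Groth.Statements.S9861
import Groth.Agent.L15.FittFree
import Groth.Agent.L02.Quot.RankLocus
import Groth.Agent.L19.FpqcCover
import Groth.Agent.L18.LocFreeFP
import Groth.Agent.L16.AffineBC.Pullback
import Groth.Agent.L16.CohClosedPush
import Groth.Agent.L13.Fitting.Fibre

set_option autoImplicit false
open CategoryTheory CategoryTheory.Limits AlgebraicGeometry Opposite
universe u
open Desc

set_option backward.isDefEq.respectTransparency.types false
set_option linter.style.haveILetI false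
set_option backward.isDefEq.respectTransparency false

noncomputable section

namespace Groth.Agent.S9861
open scoped TensorProduct
open TopologicalSpace

/-- finiteness descends along a jointly surjective finite family of flat algebras -/
theorem finite_of_family {A : Type u} [CommRing A] {M : Type u} [AddCommGroup M] [Module A M] {n : ℕ}
    (B : Fin n → Type u) [∀ k, CommRing (B k)] [∀ k, Algebra A (B k)] [∀ k, Module.Flat A (B k)]
    (hsurj : ∀ p : Ideal A, p.IsMaximal → ∃ k, ∃ q : Ideal (B k), q.IsPrime ∧ q.comap (algebraMap A (B k)) = p)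
    (hfin : ∀ k, Module.Finite (B k) (B k ⊗[A] M)) : Module.Finite A M := by
  classical
  have hs : ∀ k, ∃ s : Finset M, Submodule.span (B k) ((fun m => (1 : B k) ⊗ₜ[A] m) '' (s : Set M)) = ⊤ := by
    intro k
    obtain ⟨t, ht⟩ := (hfin k).fg_top
    choose s hs using fun z : B k ⊗[A] M => TensorProduct.exists_finset z
    refine ⟨t.biUnion fun z => (s z).image Prod.snd, top_le_iff.1 (ht.ge.trans (Submodule.span_le.2 fun z hz => ?_))⟩
    rw [SetLike.mem_coe, hs z]
    refine Submodule.sum_mem _ fun i hi => ?_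
    rw [show i.1 ⊗ₜ[A] i.2 = i.1 • ((1 : B k) ⊗ₜ[A] i.2) by rw [TensorProduct.smul_tmul', smul_eq_mul, mul_one]]
    exact Submodule.smul_mem _ _ (Submodule.subset_span ⟨i.2,
      Finset.mem_coe.2 (Finset.mem_biUnion.2 ⟨z, hz, Finset.mem_image.2 ⟨i, hi, rfl⟩⟩), rfl⟩)
  choose s hs using hs
  let N : Submodule A M := Submodule.span A (↑(Finset.univ.biUnion s) : Set M)
  suffices h : N = ⊤ from ⟨⟨_, h⟩⟩
  by_contra hN
  obtain ⟨x, hx⟩ : ∃ x, x ∉ N := not_forall.1 fun h => hN (eq_top_iff.2 fun x _ => h x)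
  let J : Ideal A := Ideal.torsionOf A (M ⧸ N) (N.mkQ x)
  have hJ : J ≠ ⊤ := fun h => hx ((Submodule.Quotient.mk_eq_zero N).1 ((Ideal.torsionOf_eq_top_iff _ _).1 h))
  obtain ⟨p, hp, hJp⟩ := Ideal.exists_le_maximal J hJ
  obtain ⟨k, q, hq, hqp⟩ := hsurj p hp
  let l : (A ⧸ J) →ₗ[A] M ⧸ N := Submodule.liftQ J (LinearMap.toSpanSingleton A _ (N.mkQ x)) le_rfl
  have hl : Function.Injective l := LinearMap.ker_eq_bot.1 (Submodule.ker_liftQ_eq_bot _ _ _ le_rfl)
  have h0 : ∀ z : B k ⊗[A] (M ⧸ N), z = 0 := by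
    intro z
    obtain ⟨w, rfl⟩ := (LinearMap.lTensor_surjective (B k) (Submodule.mkQ_surjective N)) z
    have hw : w ∈ Submodule.span (B k) ((fun m => (1 : B k) ⊗ₜ[A] m) '' s k) := (hs k).ge trivial
    induction hw using Submodule.span_induction with
    | mem y hy =>
      obtain ⟨m, hm, rfl⟩ := hy
      have hm' : N.mkQ m = 0 := (Submodule.Quotient.mk_eq_zero N).2
        (Submodule.subset_span (Finset.mem_coe.2 (Finset.mem_biUnion.2 ⟨k, Finset.mem_univ _, hm⟩)))
      rw [LinearMap.lTensor_tmul, hm', TensorProduct.tmul_zero]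
    | zero => exact map_zero _
    | add a b _ _ ha hb => rw [map_add, ha, hb, add_zero]
    | smul c a _ ha =>
      show (N.mkQ.lTensor (B k)) (c • a) = 0
      rw [show (N.mkQ.lTensor (B k)) (c • a) = c • (N.mkQ.lTensor (B k)) a from
        (N.mkQ.baseChange (B k)).map_smul c a, ha, smul_zero]
  have h1 : ((1 : B k) ⊗ₜ[A] (Ideal.Quotient.mk J 1) : B k ⊗[A] (A ⧸ J)) = 0 :=
    Module.Flat.lTensor_preserves_injective_linearMap (M := B k) l hl ((h0 _).trans (h0 _).symm)
  have h2 : (1 : B k) ∈ q := by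
    have hJq : J.map (algebraMap A (B k)) ≤ q := Ideal.map_le_iff_le_comap.2 (hJp.trans hqp.ge)
    let φ : B k ⊗[A] (A ⧸ J) →ₐ[A] B k ⧸ q := Algebra.TensorProduct.lift (Ideal.Quotient.mkₐ A q)
      (Ideal.Quotient.liftₐ J (Algebra.ofId A (B k ⧸ q)) fun a ha => Ideal.Quotient.eq_zero_iff_mem.2
        (hJq (Ideal.mem_map_of_mem _ ha))) fun _ _ => Commute.all _ _
    have h3 := congrArg φ h1
    rw [map_zero, Algebra.TensorProduct.lift_tmul, map_one (Ideal.Quotient.mk J), map_one, map_one, mul_one] at h3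
    exact Ideal.Quotient.eq_zero_iff_mem.1 (show (Ideal.Quotient.mk q) 1 = 0 by rw [map_one]; exact h3)
  exact hq.ne_top ((Ideal.eq_top_iff_one q).2 h2)

/-- epimorphisms from a free module with more generators -/
theorem exists_epi_freeMod {X : Scheme.{u}} {I : Type u} [Finite I] {r : ℕ} (h : Nat.card I ≤ r) :
    ∃ q : FlatMod.freeMod X r ⟶ SheafOfModules.free (R := X.ringCatSheaf) I, Epi q := by
  classical
  let ι : I → Fin r := Fin.castLE h ∘ Finite.equivFin I
  have hι : Function.Injective ι := (Fin.castLE_injective h).comp (Finite.equivFin I).injective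
  let q : FlatMod.freeMod X r ⟶ SheafOfModules.free (R := X.ringCatSheaf) I := Sigma.desc fun k =>
    if hk : ∃ i, ι i = k then SheafOfModules.ιFree (R := X.ringCatSheaf) hk.choose else 0
  let s : SheafOfModules.free (R := X.ringCatSheaf) I ⟶ FlatMod.freeMod X r :=
    Sigma.desc fun i => Sigma.ι (fun _ : Fin r => Coh.structureModule X) (ι i)
  have hsq : s ≫ q = 𝟙 _ := by
    refine Sigma.hom_ext _ _ fun i => ?_
    have hk : ∃ j, ι j = ι i := ⟨i, rfl⟩
    refine ((Category.assoc _ _ _).symm.trans ?_).trans (Category.comp_id _).symm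
    refine (congrArg (· ≫ q) (Sigma.ι_desc _ i)).trans ?_
    refine (Sigma.ι_desc _ (ι i)).trans ?_
    rw [dif_pos hk, hι hk.choose_spec]
    rfl
  haveI : IsSplitEpi q := ⟨⟨⟨s, hsq⟩⟩⟩
  exact ⟨q, inferInstance⟩

end Groth.Agent.S9861

namespace Groth.Agent.S9861

/-- Let F be a quasi-coherent O_X-module, r a natural number and f i : X i ⟶ X an fpqc covering family
such that every pullback (f i)^* F is locally generated by at most r sections. Then F is locally
generated by at most r sections. ('Locally generated by at most r sections' is written as: there are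
local generators data for the module, indexed in the universe of the scheme, all of whose generating
families are indexed by finite types of cardinality at most r.) -/
theorem result {ι : Type u} {X : Scheme.{u}} {Xi : ι → Scheme.{u}} (f : ∀ i, Xi i ⟶ X)
    (hf : Presieve.ofArrows Xi f ∈ Scheme.fpqcPrecoverage X) (F : X.Modules) [F.IsQuasicoherent] (r : ℕ)
    (h : ∀ i, ∃ σ : SheafOfModules.LocalGeneratorsData.{u} (R := (Xi i).ringCatSheaf) ((Scheme.Modules.pullback (f i)).obj F),
      ∀ k, Finite (σ.generators k).I ∧ Nat.card (σ.generators k).I ≤ r) :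
    ∃ σ : SheafOfModules.LocalGeneratorsData.{u} (R := X.ringCatSheaf) F,
      ∀ k, Finite (σ.generators k).I ∧ Nat.card (σ.generators k).I ≤ r := by
  classical
  have hPgen : ∀ i (y : Xi i), ∃ (U : (Xi i).Opens) (τ : (((Scheme.Modules.pullback (f i)).obj F).restrict U.ι).GeneratingSections),
      y ∈ U ∧ Finite τ.I ∧ Nat.card τ.I ≤ r := by
    intro i y
    obtain ⟨σ, hσ⟩ := h i
    have hc : TopologicalSpace.IsOpenCover σ.X := (Opens.coversTop_iff _ σ.X).1 σ.coversTop
    obtain ⟨j, hj⟩ := TopologicalSpace.Opens.mem_iSup.1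
      (show y ∈ ⨆ j, σ.X j from hc.symm ▸ TopologicalSpace.Opens.mem_top y)
    haveI : PreservesColimitsOfSize.{u, u} (Scheme.Modules.overEquiv (σ.X j)).functor := inferInstance
    exact ⟨σ.X j, ((σ.generators j).map (Scheme.Modules.overEquiv (σ.X j)).functor
      (TopologicalSpace.Opens.sheafOfModulesEquivOverUnit (σ.X j) (Xi i).ringCatSheaf).symm).ofEpi
        ((Scheme.Modules.overFunctorEquiv (σ.X j)).app _).hom, hj, (hσ j).1, (hσ j).2⟩
  haveI hPq : ∀ i, Coh.IsQCoh ((Scheme.Modules.pullback (f i)).obj F) := fun i =>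
    Groth.L16.AffineBC.isQCoh_pullback (f i) F
  have hPft : ∀ i, CohB1.IsFT ((Scheme.Modules.pullback (f i)).obj F) := fun i =>
    Groth.L00.Local.isFT_of_generators _ fun y => by
      obtain ⟨U, τ, hy, hf, -⟩ := hPgen i y
      exact ⟨U, τ, hy, hf⟩
  have hft : CohB1.IsFT F := by
    refine (Groth.L16.CohClosedPush.isCoh_of_finite_sections F fun x => ?_).2
    obtain ⟨_, ⟨U, hU, rfl⟩, hxU, -⟩ :=
      X.isBasis_affineOpens.exists_subset_of_mem_open (Set.mem_univ x) isOpen_univ
    refine ⟨U, hxU, hU, ?_⟩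
    obtain ⟨n, a, V, hV, hVU⟩ := Groth.L19.exists_affineOpens_of_mem_fpqc hf hU
    have e : ∀ k, V k ≤ f (a k) ⁻¹ᵁ U := fun k y hy =>
      (Set.ext_iff.1 hVU _).1 (Set.mem_iUnion.2 ⟨k, y, hy, rfl⟩)
    letI : ∀ k, Algebra Γ(X, U) Γ(Xi (a k), V k) := fun k => ((f (a k)).appLE U (V k) (e k)).hom.toAlgebra
    haveI : ∀ k, Module.Flat Γ(X, U) Γ(Xi (a k), V k) := fun k => by
      haveI := Groth.L19.flat_of_mem_fpqc hf (a k)
      exact Flat.flat_appLE (f (a k)) hU (hV k) (e k)
    refine Groth.Agent.S9861.finite_of_family (fun k => Γ(Xi (a k), V k)) (fun p hp => ?_) fun k => ?_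
    · obtain ⟨z, hz, hzp⟩ := Groth.L16.AffineBC.exists_point hU p
      obtain ⟨k, y, hy, hyz⟩ := Set.mem_iUnion.1 ((Set.ext_iff.1 hVU z).2 hz)
      refine ⟨k, ((hV k).primeIdealOf ⟨y, hy⟩).asIdeal, inferInstance, ?_⟩
      subst hyz
      rw [← hzp]
      have := IsAffineOpen.comap_primeIdealOf_appLE (f := f (a k)) U hU (V k) (hV k) (e k) hy
      exact congrArg PrimeSpectrum.asIdeal this
    · let P := (Scheme.Modules.pullback (f (a k))).obj F
      letI := Module.compHom Γ(P, V k) ((f (a k)).appLE U (V k) (e k)).hom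
      haveI : IsScalarTower Γ(X, U) Γ(Xi (a k), V k) Γ(P, V k) := IsScalarTower.of_algebraMap_smul fun _ _ => rfl
      haveI := Groth.L20.ModStalk.finite_sections P ⟨inferInstance, hPft (a k)⟩ (hV k)
      exact Module.Finite.equiv (Groth.L16.AffineBC.isBaseChange_pull (f (a k)) F hU (hV k) (e k)).equiv.symm
  have hnot : ∀ x : X, x ∉ (Fitt.sheafIdeal F r).support := by
    intro x hx
    obtain ⟨i, y, rfl⟩ := Groth.L19.exists_mem_range_of_mem_fpqc hf x
    obtain ⟨U, τ, hyU, hfin, hcard⟩ := hPgen i y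
    haveI := hfin
    let P := (Scheme.Modules.pullback (f i)).obj F
    obtain ⟨q, hq⟩ := Groth.Agent.S9861.exists_epi_freeMod (X := (U : Scheme.{u})) hcard
    haveI := hq
    haveI : Epi (τ.π : SheafOfModules.free (R := (U : Scheme.{u}).ringCatSheaf) τ.I ⟶ P.restrict U.ι) := τ.epi
    obtain ⟨_, ⟨W, hW, rfl⟩, hyW, hWU⟩ :=
      (Xi i).isBasis_affineOpens.exists_subset_of_mem_open (a := y) hyU U.2
    obtain ⟨φ, hφ, -⟩ := Groth.L15.FittSheaf.exists_sections_of_free_hom P
      (show FlatMod.freeMod (U : Scheme.{u}) r ⟶ P.restrict U.ι from q ≫ τ.π) hW hWU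
    haveI : Module.Finite Γ(Xi i, W) Γ(P, W) := Module.Finite.of_surjective φ hφ
    have htop : Fitt.ideal Γ(Xi i, W) Γ(P, W) r = ⊤ := by
      refine Groth.L13.Fitting.ideal_eq_top_of_gens (fun j : Fin r => φ (Finsupp.single ⟨j⟩ 1)) ?_ le_rfl
      refine top_le_iff.1 fun z _ => ?_
      obtain ⟨c, rfl⟩ := hφ z
      rw [← c.sum_single, map_finsuppSum]
      refine Submodule.finsuppSum_mem _ _ _ _ fun j _ => ?_
      rw [← Finsupp.smul_single_one, map_smul]
      exact Submodule.smul_mem _ _ (Submodule.subset_span ⟨j.down, rfl⟩)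
    have h1 : y ∉ (Fitt.sheafIdeal P r).support := by
      rw [Groth.L15.FittSheaf.notMem_support_iff P (hPft i) r (U := ⟨W, hW⟩) hyW, htop, top_le_iff]
      exact ((hW.primeIdealOf ⟨y, hyW⟩).2).ne_top
    refine h1 ?_
    rw [Groth.L02.Quot.sheafIdeal_pullback (f i) F ⟨inferInstance, hft⟩ ⟨inferInstance, hPft i⟩ r,
      Scheme.IdealSheafData.support_comap]
    exact hx
  have hgen : ∀ x : X, ∃ (U : X.Opens) (τ : (F.restrict U.ι).GeneratingSections),
      x ∈ U ∧ Finite τ.I ∧ Nat.card τ.I ≤ r := by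
    intro x
    obtain ⟨W, hW, hxW, φ, hφ⟩ := Groth.L15.FittSheaf.exists_gens_of_notMem_support F hft (hnot x)
    obtain ⟨q, hq, -⟩ := Groth.L15.FittSheaf.exists_free_hom_of_sections F hW φ hφ
    haveI := hq
    let U := hW.fromSpec.opensRange
    let π : SheafOfModules.free (R := (U : Scheme.{u}).ringCatSheaf) (ULift.{u} (Fin r)) ⟶ F.restrict U.ι :=
      (Groth.L18.LFP.uliftIso _ r).hom ≫ q
    haveI : Epi π := inferInstance
    let τ : (F.restrict U.ι).GeneratingSections :=
      { I := ULift.{u} (Fin r)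
        s := SheafOfModules.freeHomEquiv _ π
        epi := by rw [Equiv.symm_apply_apply]; infer_instance }
    exact ⟨U, τ, by rw [show U = W from hW.opensRange_fromSpec]; exact hxW, inferInstanceAs (Finite (ULift (Fin r))),
      by show Nat.card (ULift.{u} (Fin r)) ≤ r; simp⟩
  choose U τ hU hfin hcard using hgen
  exact ⟨SheafOfModules.LocalGeneratorsData.mk.{u, u, u, u} (R := X.ringCatSheaf) (M := F) (↥X) U
    (Groth.L00.Local.coversTop_of_forall_exists U fun x => ⟨x, hU x⟩) fun x =>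
      ((τ x).map (Scheme.Modules.overEquiv (U x)).inverse (Groth.L00.Local.overInverseUnit (U x))).ofEpi
        (Groth.L00.Local.overIso F (U x)).hom, fun x => ⟨hfin x, hcard x⟩⟩

end Groth.Agent.S9861
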