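import Groth.Statements.S9864
import Groth.Agent.L20.SchDesc.Points

set_option autoImplicit false
open CategoryTheory CategoryTheory.Limits AlgebraicGeometry Opposite
universe u
open Desc

set_option backward.isDefEq.respectTransparency.types false
set_option linter.style.haveILetI false

namespace Groth.Agent.S9864

/-- Let a : X ⟶ S be a morphism of schemes and f : X ⟶ X a morphism over S (f ≫ a = a). Then the
pullback functor along f on the category of descent data for schemes relative to X ⟶ S is isomorphic
to the identity functor. (Existence of an isomorphism of functors only; descent data relative to a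
single morphism are written as descent data relative to the corresponding one-member family.) -/
theorem result {X S : Scheme.{u}} (a : X ⟶ S) (f : X ⟶ X) (h : f ≫ a = a) :
    Nonempty (Desc.pullDDFam (f := fun _ : PUnit.{u + 1} => a) (f' := fun _ : PUnit.{u + 1} => a) (α := fun j => j)
        (p := 𝟙 S) (p' := fun _ => f) (fun _ => (h).trans (Category.comp_id a).symm) ≅
      𝟭 (Desc.SchDDFam (fun _ : PUnit.{u + 1} => a))) := by
  let E : ∀ D : Desc.SchDDFam (fun _ : PUnit.{u + 1} => a), Groth.L20.SchDesc.PointsEquiv
      ((Desc.pullDDFam (f := fun _ : PUnit.{u + 1} => a) (f' := fun _ : PUnit.{u + 1} => a)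
        (α := fun j => j) (p := 𝟙 S) (p' := fun _ => f)
        (fun _ => (h).trans (Category.comp_id a).symm)).obj D) D := fun D =>
    { equiv := fun i T x => (Desc.liftsPullbackEquiv (D.obj i) f x).trans
        (D.φ (i := i) (j := i) (x ≫ f) x (by rw [Category.assoc, h]))
      natural := fun i T T' r x x' hx z z' hz => by
        refine D.φ_natural r _ _ _ _ _ (by rw [← hx, Category.assoc]) hx _ _ _ ?_
        exact (congrArg (· ≫ pullback.fst _ _) hz).trans (Category.assoc _ _ _)
      compat := fun {T} i j x₀ x₁ hx z => by
        show D.φ x₀ x₁ hx (D.φ _ x₀ _ (Desc.liftsPullbackEquiv (D.obj i) f x₀ z)) =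
          D.φ _ x₁ _ (Desc.liftsPullbackEquiv (D.obj j) f x₁
            ((Desc.liftsPullbackEquiv (D.obj j) f x₁).symm _))
        rw [Equiv.apply_symm_apply, D.φ_comp, D.φ_comp] }
  refine ⟨NatIso.ofComponents (fun D => (E D).iso) fun {D D'} m => ?_⟩
  refine Desc.SchDDFam.hom_ext (funext fun i => Over.OverMorphism.ext ?_)
  refine ((E D').mapHom_apply i (x := pullback.snd (D.obj i).hom f)
    ⟨_, pullback.lift_snd _ _ _ |>.trans (Category.comp_id _)⟩).symm.trans ?_
  exact m.comm (i := i) (j := i) _ _ _ _ _
    ((pullback.lift_fst _ _ _).trans (congrArg (· ≫ (m.hom i).left) (Category.id_comp _).symm))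

end Groth.Agent.S9864
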