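import Groth.Statements.S9865
import Groth.Agent.L20.SchDesc.Points

set_option autoImplicit false
open CategoryTheory CategoryTheory.Limits AlgebraicGeometry Opposite
universe u
open Desc

set_option backward.isDefEq.respectTransparency.types false
set_option linter.style.haveILetI false

namespace Groth.Agent.S9865

/-- Let f : X' ⟶ X be a morphism of schemes over S, with structure morphisms a' : X' ⟶ S and a : X ⟶ S,
and assume there exists a morphism g : X ⟶ X' over S (for instance a section of f). Then the
pullback functor along f, from descent data for schemes relative to X ⟶ S to descent data relative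
to X' ⟶ S, is an equivalence of categories. (Descent data relative to a single morphism are written
as descent data relative to the corresponding one-member family.) -/
theorem result {X X' S : Scheme.{u}} (a : X ⟶ S) (a' : X' ⟶ S) (f : X' ⟶ X)
    (h : f ≫ a = a') (hg : ∃ g : X ⟶ X', g ≫ a' = a) :
    (Desc.pullDDFam (f := fun _ : PUnit.{u + 1} => a) (f' := fun _ : PUnit.{u + 1} => a') (α := fun j => j)
        (p := 𝟙 S) (p' := fun _ => f) (fun _ => (h).trans (Category.comp_id a').symm)).IsEquivalence := by
  obtain ⟨g, hg⟩ := hg
  have hff := Groth.L20.SchDesc.pullR_full_faithful (u := fun _ : PUnit.{u + 1} => a')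
    (v := fun _ : PUnit.{u + 1} => a) (α := fun j => j) (g := fun _ => f)
    (fun _ => (h).trans (Category.comp_id a').symm) fun _ =>
      ⟨PUnit, fun _ => X, fun _ => 𝟙 X, id, fun _ => g, by
        rw [Presieve.ofArrows_pUnit]
        exact Scheme.Hom.singleton_mem_fpqcPrecoverage _, fun _ => by rw [Category.id_comp, hg]⟩
  have := hff.1
  have := hff.2
  have : (Groth.L20.SchDesc.pullR (u := fun _ : PUnit.{u + 1} => a')
    (v := fun _ : PUnit.{u + 1} => a) (α := fun j => j) (g := fun _ => f)
    (fun _ => (h).trans (Category.comp_id a').symm)).EssSurj := ⟨fun D' => by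
    refine ⟨(Desc.pullDDFam (f := fun _ : PUnit.{u + 1} => a') (f' := fun _ : PUnit.{u + 1} => a)
      (α := fun j => j) (p := 𝟙 S) (p' := fun _ => g)
      (fun _ => (hg).trans (Category.comp_id a).symm)).obj D', ⟨Groth.L20.SchDesc.PointsEquiv.iso
      { equiv := fun i T x => (Desc.liftsPullbackEquiv _ f x).trans
          ((Desc.liftsPullbackEquiv (D'.obj i) g (x ≫ f)).trans
            (D'.φ (i := i) (j := i) ((x ≫ f) ≫ g) x (by rw [Category.assoc, hg, Category.assoc, h])))
        natural := fun i T T' r x x' hx z z' hz => by
          refine D'.φ_natural r _ _ _ _ _ (by subst hx; simp only [Category.assoc]) hx _ _ _ ?_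
          exact (congrArg (fun t => (t ≫ pullback.fst _ _) ≫ pullback.fst _ _) hz).trans
            ((congrArg (· ≫ pullback.fst _ _) (Category.assoc _ _ _)).trans (Category.assoc _ _ _))
        compat := fun {T} i j x₀ x₁ hx z => by
          show D'.φ x₀ x₁ hx (D'.φ _ x₀ _ (Desc.liftsPullbackEquiv (D'.obj i) g (x₀ ≫ f) _)) =
            D'.φ _ x₁ _ (Desc.liftsPullbackEquiv (D'.obj j) g (x₁ ≫ f) (Desc.liftsPullbackEquiv _ f x₁
              ((Desc.liftsPullbackEquiv _ f x₁).symm
                ((Desc.liftsPullbackEquiv (D'.obj j) g (x₁ ≫ f)).symm _))))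
          rw [Equiv.apply_symm_apply, Equiv.apply_symm_apply, D'.φ_comp, D'.φ_comp] }⟩⟩⟩
  exact { faithful := hff.2, full := hff.1, essSurj := this }

end Groth.Agent.S9865
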