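import Groth.Statements.S9866
import Groth.Agent.L20.SchDesc.Glue

set_option autoImplicit false
open CategoryTheory CategoryTheory.Limits AlgebraicGeometry Opposite
universe u
open Desc

set_option backward.isDefEq.respectTransparency.types false
set_option linter.style.haveILetI false

namespace Groth.Agent.S9866

/-- Let p : X ⟶ S be a surjective, flat, quasi-compact morphism of schemes and D = (V, φ) a descent
datum for schemes relative to p. Suppose every point v of V lies in the image of some morphism of
descent data D' ⟶ D whose underlying morphism of schemes over X is an open immersion and whose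
source D' is effective (isomorphic to the canonical descent datum of a scheme over S). Then D is
effective. (A φ-stable open W ⊆ V with its restricted descent datum, as in the published statement,
is the same thing as such a morphism D' ⟶ D up to isomorphism.) -/
theorem result {X S : Scheme.{u}} (p : X ⟶ S) [Surjective p] [Flat p] [QuasiCompact p]
    (D : Desc.SchDD p)
    (h : ∀ v : D.obj.left, ∃ (D' : Desc.SchDD p) (j : D' ⟶ D), IsOpenImmersion j.hom.left ∧
      v ∈ Set.range j.hom.left.base ∧ ∃ U' : Over S, Nonempty ((Desc.toDD p).obj U' ≅ D')) :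
    ∃ U : Over S, Nonempty ((Desc.toDD p).obj U ≅ D) := by
  refine Groth.L20.SchDesc.exists_iso_toDD D
    (Groth.L20.SchDesc.effective_of_cover _ fun v => ?_)
  obtain ⟨D', j, hj, hv, U', ⟨e⟩⟩ := h v
  refine ⟨j.hom.left.opensRange, hv,
    Groth.L20.SchDesc.effective_restrict_of_hom (Groth.L20.SchDesc.ofSchDD D') _ j.hom.left
      (Over.w j.hom) (fun {T} w x hw hw' => ?_) (Groth.L20.SchDesc.effective_of_iso D' e)⟩
  have hc := j.comm (w ≫ D'.obj.hom) x ((Category.assoc _ _ _).trans hw) ⟨w, rfl⟩
    (j.push ⟨w, rfl⟩) rfl
  exact hc.symm.trans (Groth.L20.SchDesc.ofSchDD_act_eq D _ x _ rfl hw')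

end Groth.Agent.S9866
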