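import Groth.Statements.S9870
import Groth.Agent.L23.QuotOpen
import Groth.Agent.L23.LocP
import Mathlib.AlgebraicGeometry.Morphisms.UniversallyOpen

set_option autoImplicit false
universe u
open CategoryTheory CategoryTheory.Limits AlgebraicGeometry
open AlgSp

namespace Groth.Agent.S9870

/-- Let `s, t : R ⟶ U` be a pre-relation on a scheme `U` over `S` which is an equivalence relation (on
`T`-points, for every scheme `T` over `S`), with `s` and `t` surjective, flat and locally of finite
presentation, and let `g : U' ⟶ U` be flat and locally of finite presentation. Let `s', t' : R' ⟶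
U'` be the restriction of the pre-relation to `U'`, i.e. `R'` with `(t', s')` and `R' ⟶ R` is the
fibre product of `U' ×_S U'` and `R` over `U ×_S U`. Then the map of fppf quotient sheaves `U'/R' ⟶
U/R` induced by `g` (the unique map under the quotient maps compatible with `h_g`) is representable
and an open immersion. -/
theorem result (S : Scheme.{u}) {R U R' U' : Over S} (s t : R ⟶ U)
    (g : U' ⟶ U) (s' t' : R' ⟶ U') (r : R' ⟶ R)
    (hsq : IsPullback (prod.lift t' s') r (prod.map g g) (prod.lift t s))
    (hR : AlgSp.IsEqvRel s t)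
    [Surjective s.left] [Flat s.left] [LocallyOfFinitePresentation s.left]
    [Surjective t.left] [Flat t.left] [LocallyOfFinitePresentation t.left]
    [Flat g.left] [LocallyOfFinitePresentation g.left]
    (φ : QuotSh.quot Scheme.fppfPrecoverage s' t' ⟶ QuotSh.quot Scheme.fppfPrecoverage s t)
    (hφ : QuotSh.quotπ Scheme.fppfPrecoverage s' t' ≫ φ = QuotSh.repMap Scheme.fppfPrecoverage g ≫ QuotSh.quotπ Scheme.fppfPrecoverage s t) :
    AlgSp.RepWith @IsOpenImmersion φ := by
  refine Groth.L23.QO.repWith_of_quotIso g φ hφ fun ψ hψ => ?_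
  have hopen : IsOpen (s.left '' (t.left ⁻¹' Set.range g.left)) :=
    s.left.isOpenMap _ (g.left.isOpenMap.isOpen_range.preimage t.left.continuous)
  let W : U.left.Opens := ⟨_, hopen⟩
  let q : pullback g.left t.left ⟶ U.left := pullback.snd g.left t.left ≫ s.left
  let P : Over S := Over.mk (q ≫ U.hom)
  let a : P ⟶ U' := Over.homMk (pullback.fst g.left t.left) (by
    show pullback.fst g.left t.left ≫ U'.hom = (pullback.snd g.left t.left ≫ s.left) ≫ U.hom
    rw [← Over.w g, pullback.condition_assoc, Category.assoc, Over.w s, Over.w t])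
  let ρ : P ⟶ R := Over.homMk (pullback.snd g.left t.left) (by
    show pullback.snd g.left t.left ≫ R.hom = (pullback.snd g.left t.left ≫ s.left) ≫ U.hom
    rw [Category.assoc, Over.w s])
  have hw : ρ ≫ t = a ≫ g := Over.OverMorphism.ext pullback.condition.symm
  have hrange : Set.range q ⊆ (W : Set U.left) := by
    rintro _ ⟨x, rfl⟩
    refine ⟨pullback.snd g.left t.left x, ⟨pullback.fst g.left t.left x, ?_⟩, (Scheme.Hom.comp_apply _ _ _).symm⟩
    rw [← Scheme.Hom.comp_apply, pullback.condition, Scheme.Hom.comp_apply]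
  let l : pullback g.left t.left ⟶ (W : Scheme.{u}) :=
    IsOpenImmersion.lift W.ι q (by rw [Scheme.Opens.range_ι]; exact hrange)
  have hl' : l ≫ W.ι = q := IsOpenImmersion.lift_fac _ _ _
  let hl : P ⟶ Over.mk (W.ι ≫ U.hom) := Over.homMk l (by
    show l ≫ W.ι ≫ U.hom = q ≫ U.hom
    rw [reassoc_of% hl'])
  have h1 : Flat l := Groth.L23.etLocal_flat.of_comp_etale l W.ι (by rw [hl']; infer_instance)
  have h2 : LocallyOfFinitePresentation l :=
    Groth.L23.etLocal_lfp.of_comp_etale l W.ι (by rw [hl']; infer_instance)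
  have h3 : Surjective l := ⟨fun w => by
    obtain ⟨r₀, ⟨u', hu'⟩, hs₀⟩ := w.2
    obtain ⟨x, -, hx⟩ := Scheme.Pullback.exists_preimage_pullback (f := g.left) (g := t.left) u' r₀ hu'
    refine ⟨x, W.ι.isOpenEmbedding.injective ?_⟩
    rw [← Scheme.Hom.comp_apply, hl']
    exact ((Scheme.Hom.comp_apply _ _ _).trans (congrArg _ hx)).trans hs₀⟩
  exact Groth.L23.QO.repWith_isOpenImmersion_restrict s t g
    (Groth.L24.Boot.isEqvRelSp_of_isEqvRel hR).equivalence (Groth.L23.QO.hlift_of_isPullback hsq) W rfl a ρ hw hl
    (Over.OverMorphism.ext hl') (Groth.L23.isLocallySurjective_of_repWith _ (Groth.L23.repWith_map h1)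
      (Groth.L23.repWith_map h2) (Groth.L23.repWith_map h3)) ψ hψ

end Groth.Agent.S9870
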