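import Groth.Statements.S9875
import Groth.Agent.L23.AlgSpace

set_option autoImplicit false
set_option backward.isDefEq.respectTransparency.types false
universe u
open CategoryTheory CategoryTheory.Limits AlgebraicGeometry
open AlgSp

namespace Groth.Agent.S9875

/-- The category of algebraic spaces over `S` has fibre products, and the inclusion functor into fppf
sheaves of sets over `S` preserves them (the fibre product of sheaves of two algebraic spaces over a
third is an algebraic space and is their fibre product as algebraic spaces). -/
theorem result (S : Scheme.{u}) :
    HasPullbacks (AlgSp.Space S) ∧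
      PreservesLimitsOfShape WalkingCospan (ObjectProperty.ι (AlgSp.IsAlgSpace (S := S))) := by
  have hc : ∀ (F : WalkingCospan ⥤ AlgSp.Space S),
      CreatesLimit F (ObjectProperty.ι (AlgSp.IsAlgSpace (S := S))) := fun F => by
    refine createsLimitFullSubcategoryInclusion _ ?_
    exact Groth.L23.isAlgSpace_of_isPullback
      (F.obj WalkingCospan.one).property.diag (F.obj WalkingCospan.left).property
      (F.obj WalkingCospan.right).property
      (IsPullback.of_isLimit_cone (limit.isLimit (F ⋙ ObjectProperty.ι _)))
  have : CreatesLimitsOfShape WalkingCospan (ObjectProperty.ι (AlgSp.IsAlgSpace (S := S))) :=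
    ⟨fun {K} => hc K⟩
  exact ⟨hasLimitsOfShape_of_hasLimitsOfShape_createsLimitsOfShape
    (ObjectProperty.ι (AlgSp.IsAlgSpace (S := S))), inferInstance⟩

end Groth.Agent.S9875
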