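import Groth.Statements.S9877
import Groth.Agent.L24.Boot.SpaceCofan

set_option autoImplicit false
universe u
open CategoryTheory CategoryTheory.Limits AlgebraicGeometry
open AlgSp

namespace Groth.Agent.S9877

/-- Let `F` be an fppf sheaf of sets over `S` and `F_i ⟶ F` a family of maps of sheaves such that each
`F_i` is an algebraic space over `S`, each `F_i ⟶ F` is representable by open immersions, the
induced map from the coproduct `∐ F_i` (in sheaves) to `F` is a surjective map of sheaves, and `∐
F_i` is an algebraic space. Then `F` is an algebraic space over `S`. -/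
theorem result (S : Scheme.{u}) (F : AlgSp.Sp S) {ι : Type u} (Fi : ι → AlgSp.Sp S)
    (f : ∀ i, Fi i ⟶ F) (halg : ∀ i, AlgSp.IsAlgSpace (Fi i))
    (hopen : ∀ i, AlgSp.RepWith @IsOpenImmersion (f i)) (c : Cofan Fi) (hc : IsColimit c)
    (hsurj : Sheaf.IsLocallySurjective (Cofan.IsColimit.desc hc f)) (hcop : AlgSp.IsAlgSpace c.pt) :
    AlgSp.IsAlgSpace F := by
  have : Epi (Cofan.IsColimit.desc hc f) := (Sheaf.isLocallySurjective_iff_epi' _ _).1 hsurj
  refine Groth.L24.Boot.isAlgSpace_of_flat_cover halg f (fun i => (repBySpWith_hom_iff _ _).2 fun T ξ P fst snd sq => ?_) fun y => ?_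
  · have hs := Groth.L23.repWith_of_isPullback sq (hopen i)
    exact ⟨Groth.L23.isAlgSpace_of_representable_to (IsAlgSpace.yon_obj T) hs.1,
      Groth.L23.locP_of_repWith Groth.L23.etLocal_flat (Groth.L23.repWith_mono (fun φ (hφ : IsOpenImmersion φ) => by infer_instance) hs),
      Groth.L23.locP_of_repWith Groth.L23.etLocal_lfp (Groth.L23.repWith_mono (fun φ (hφ : IsOpenImmersion φ) => by infer_instance) hs)⟩
  · obtain ⟨i, x, hx⟩ := Groth.L24.Boot.exists_point_of_epi_cofan halg hc (Cofan.IsColimit.desc hc f) y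
    exact ⟨i, x, by rw [← hx, Cofan.IsColimit.fac]⟩

end Groth.Agent.S9877
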