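import Groth.Statements.S9879
import Groth.Agent.L23.CoprodFinite

set_option autoImplicit false
set_option backward.isDefEq.respectTransparency.types false
universe u
open CategoryTheory CategoryTheory.Limits AlgebraicGeometry
open AlgSp

namespace Groth.Agent.S9879

/-- Let `U` be a scheme over `S` and `F_i` a family of fppf sheaves of sets over `S` whose coproduct in
sheaves is isomorphic to `h_U`. Then each `F_i` is representable by a scheme `V_i` over `S` such
that `V_i ⟶ U` (the morphism inducing `h_{V_i} ≅ F_i ⟶ ∐ F_i ≅ h_U`) is an open and closed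
immersion, and `U` is the coproduct of the `V_i` in schemes. -/
theorem result (S : Scheme.{u}) (U : Over S) {ι : Type u}
    (F : ι → AlgSp.Sp S) (c : Cofan F) (hc : IsColimit c) (e : c.pt ≅ (AlgSp.yon S).obj U) :
    ∃ (V : ι → Over S) (g : ∀ i, V i ⟶ U) (ei : ∀ i, (AlgSp.yon S).obj (V i) ≅ F i),
      (∀ i, IsOpenImmersion (g i).left ∧ IsClosedImmersion (g i).left) ∧
      (∀ i, (ei i).hom ≫ c.inj i ≫ e.hom = (AlgSp.yon S).map (g i)) ∧
      Nonempty (IsColimit (Cofan.mk U.left (fun i => (g i).left))) := by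
  choose V g fst sq using fun i => (Groth.L23.Coprod.repWith_inj hc i).1 e.inv
  have : ∀ i, IsIso (fst i) := fun i => (sq i).isIso_fst_of_isIso
  have hP := fun i => (Groth.L23.Coprod.repWith_inj hc i).2 e.inv (fst i) (g i) (sq i)
  have : ∀ i, IsOpenImmersion ((fun i => (g i).left) i) := fun i => (hP i).1
  refine ⟨V, g, fun i => asIso (fst i), hP, fun i => ?_, ?_⟩
  · show fst i ≫ c.inj i ≫ e.hom = _
    rw [← Category.assoc, (sq i).w, Category.assoc, e.inv_hom_id, Category.comp_id]
  · refine nonempty_isColimit_cofanMk_of (fun i => (g i).left) ?_ ?_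
    · refine eq_top_iff.2 fun x _ => ?_
      obtain ⟨i, y, hy⟩ := Groth.L23.Coprod.exists_mem hc (AlgSp.Points.ofPt e.inv x)
      obtain ⟨v, -, hv⟩ := Groth.L23.exists_point_of_isPullback (sq i) hy
      exact TopologicalSpace.Opens.mem_iSup.2 ⟨i, v, hv⟩
    · intro i j hij
      show Disjoint ((g i).left.opensRange) ((g j).left.opensRange)
      rw [← TopologicalSpace.Opens.coe_disjoint, Set.disjoint_left]
      rintro _ ⟨v, rfl⟩ ⟨w, hw⟩
      refine hij (Groth.L23.Coprod.eq_of_map_eq hc (y := AlgSp.Points.ofPt (fst i) v)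
        (z := AlgSp.Points.ofPt (fst j) w) ?_)
      rw [Groth.L23.map_ofPt_of_isPullback (sq i), Groth.L23.map_ofPt_of_isPullback (sq j), hw]

end Groth.Agent.S9879
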