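import Groth.Statements.S9886
import Groth.Agent.L23.AlgSpace

set_option autoImplicit false
set_option backward.isDefEq.respectTransparency.types false
universe u
open CategoryTheory CategoryTheory.Limits AlgebraicGeometry
open AlgSp

namespace Groth.Agent.S9886

attribute [local simp] prod.lift_fst prod.lift_snd prod.lift_fst_assoc prod.lift_snd_assoc


/-- Let `F` be an fppf sheaf of sets over `S` and `P` a property of morphisms of schemes stable under
base change. Assume that for all schemes `U`, `V` over `S` and all `a : h_U ⟶ F`, `b : h_V ⟶ F` the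
fibre product `h_U ×_F h_V` is represented by some scheme `W` over `S` with its projections induced
by morphisms `W ⟶ U`, `W ⟶ V`, and that for every such represented fibre product the morphism `W ⟶ U
×_S V` has `P`. Then the diagonal `F ⟶ F × F` is representable by schemes and has `P`. (The
published statement is for a presheaf of sets `F` and a property `P` that is also fppf local on the
base; this row takes `F` an fppf sheaf and `P` only stable under base change.) -/
theorem result (S : Scheme.{u}) (F : AlgSp.Sp S) (P : MorphismProperty Scheme.{u})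
    [P.IsStableUnderBaseChange]
    (h₁ : ∀ ⦃U V : Over S⦄ (a : (AlgSp.yon S).obj U ⟶ F) (b : (AlgSp.yon S).obj V ⟶ F),
      ∃ (W : Over S) (fst : W ⟶ U) (snd : W ⟶ V), IsPullback ((AlgSp.yon S).map fst) ((AlgSp.yon S).map snd) a b)
    (h₂ : ∀ ⦃U V W : Over S⦄ (a : (AlgSp.yon S).obj U ⟶ F) (b : (AlgSp.yon S).obj V ⟶ F) (fst : W ⟶ U)
      (snd : W ⟶ V), IsPullback ((AlgSp.yon S).map fst) ((AlgSp.yon S).map snd) a b → P (prod.lift fst snd).left) :
    AlgSp.RepWith P (Limits.diag F) := by
  refine Groth.L23.repWith_of_exists fun T g => ?_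
  obtain ⟨W, i, j, sq⟩ := h₁ (g ≫ prod.fst) (g ≫ prod.snd)
  have hP := h₂ _ _ _ _ sq
  let d : T ⟶ T ⨯ T := Limits.diag T
  let c : (AlgSp.yon S).obj (T ⨯ T) ⟶ _ := prodComparison (AlgSp.yon S) T T
  have sqD : IsPullback ((AlgSp.yon S).map i ≫ g ≫ prod.fst)
      ((AlgSp.yon S).map (prod.lift i j))
      (Limits.diag F) (c ≫ prod.map (g ≫ prod.fst) (g ≫ prod.snd)) := by
    have sq' := Groth.L23.isPullback_diag sq
    have hl : (AlgSp.yon S).map (prod.lift i j) ≫ c =
        prod.lift ((AlgSp.yon S).map i) ((AlgSp.yon S).map j) := by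
      ext <;> simp [c, ← Functor.map_comp]
    rw [← hl] at sq'
    refine IsPullback.of_iso sq' (Iso.refl _) (Iso.refl _) (asIso c).symm (Iso.refl _) ?_ ?_ ?_ ?_
    all_goals simp
  have hg : g = (AlgSp.yon S).map d ≫ c ≫ prod.map (g ≫ prod.fst) (g ≫ prod.snd) := by
    ext <;> simp [d, c, ← Functor.map_comp_assoc]
  have sqT := ((IsPullback.of_hasPullback (prod.lift i j) d).map (AlgSp.yon S))
  refine ⟨_, (AlgSp.yon S).map (pullback.fst (prod.lift i j) d) ≫ (AlgSp.yon S).map i ≫ g ≫ prod.fst,
    pullback.snd (prod.lift i j) d, ?_, P.of_isPullback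
    ((IsPullback.of_hasPullback (prod.lift i j) d).map (Over.forget S)) hP⟩
  have := sqT.paste_horiz sqD
  rwa [← hg] at this

end Groth.Agent.S9886
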