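import Groth.Statements.S9901
import Groth.Agent.L23.AlgSpace

set_option autoImplicit false
set_option backward.isDefEq.respectTransparency.types false
universe u
open CategoryTheory CategoryTheory.Limits AlgebraicGeometry
open AlgSp

namespace Groth.Agent.S9901

lemma mapDesc_isPullback {C : Type*} [Category C] [HasPullbacks C] {X Y Z T : C} (f : X ⟶ Z)
    (g : Y ⟶ Z) (h : Z ⟶ T) :
    IsPullback (pullback.fst f g ≫ f) (pullback.mapDesc f g h) (pullback.diagonal h)
      (pullback.map (f ≫ h) (g ≫ h) h h f g (𝟙 T) (by simp) (by simp)) :=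
  pullback_map_diagonal_isPullback f g h


/-- For f : X -> Z, g : Y -> Z and h : Z -> T, the canonical map X x_Z Y -> X x_T Y is representable by
schemes and, in the representable sense, a separated monomorphism that is locally of finite type and
locally quasi-finite; it is a closed immersion when h is separated and quasi-compact when h is
quasi-separated. (The published lemma also shows that the map is an immersion when h is locally
separated; this row omits that clause.) -/
theorem result {S : Scheme.{u}} {X Y Z T : AlgSp.Space S} (f : X ⟶ Z) (g : Y ⟶ Z)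
    (h : Z ⟶ T) :
    AlgSp.Representable (pullback.mapDesc f.hom g.hom h.hom) ∧
    AlgSp.RepWith @LocallyOfFiniteType (pullback.mapDesc f.hom g.hom h.hom) ∧
    AlgSp.RepWith (@LocallyQuasiFinite ⊓ @LocallyOfFiniteType) (pullback.mapDesc f.hom g.hom h.hom) ∧
    AlgSp.RepWith @IsSeparated (pullback.mapDesc f.hom g.hom h.hom) ∧
    AlgSp.RepWith (MorphismProperty.monomorphisms Scheme.{u}) (pullback.mapDesc f.hom g.hom h.hom) ∧
    (AlgSp.IsSeparatedMor h.hom → AlgSp.RepWith @IsClosedImmersion (pullback.mapDesc f.hom g.hom h.hom)) ∧
    (AlgSp.IsQuasiSeparatedMor h.hom → AlgSp.RepWith @QuasiCompact (pullback.mapDesc f.hom g.hom h.hom)) := by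
  have sq := mapDesc_isPullback f.hom g.hom h.hom
  have H := Groth.L23.repWith_of_isPullback sq (Groth.L23.diagonal_properties Z.property h.hom)
  exact ⟨H.1, Groth.L23.repWith_mono (fun _ h => h.1) H,
    Groth.L23.repWith_mono (fun f h => ⟨Groth.L23.diagProp_lqf f h, h.1⟩) H,
    Groth.L23.repWith_mono Groth.L23.diagProp_isSeparated H,
    Groth.L23.repWith_mono (fun _ h => h.2) H,
    fun hs => Groth.L23.repWith_of_isPullback sq hs,
    fun hs => Groth.L23.repWith_of_isPullback sq hs⟩

end Groth.Agent.S9901
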