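import Groth.Statements.S9902
import Groth.Agent.L23.AlgSpace

set_option autoImplicit false
set_option backward.isDefEq.respectTransparency.types false
universe u
open CategoryTheory CategoryTheory.Limits AlgebraicGeometry
open AlgSp

namespace Groth.Agent.S9902

attribute [local simp] pullback.lift_fst pullback.lift_snd pullback.lift_fst_assoc pullback.lift_snd_assoc

lemma section_isPullback {C : Type*} [Category C] [HasPullbacks C] {X T : C} (f : X ⟶ T)
    (s : T ⟶ X) (hs : s ≫ f = 𝟙 T) :
    IsPullback s s (pullback.diagonal f)
      (pullback.lift (𝟙 X) (f ≫ s) (by simp [hs])) := by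
  have hm : Mono s := mono_of_mono_fac hs
  refine IsPullback.mk' (by apply pullback.hom_ext <;> simp [reassoc_of% hs])
    (fun W φ φ' _ h₂ => (cancel_mono s).1 h₂) (fun W a b e => ?_)
  have e₁ : a = b := by simpa using e =≫ pullback.fst _ _
  have e₂ : a = b ≫ f ≫ s := by simpa using e =≫ pullback.snd _ _
  exact ⟨b ≫ f, by simp [e₂], by rw [Category.assoc, ← e₂, e₁]⟩


/-- Let s be a section of a morphism f : X -> T of algebraic spaces. Then s is representable by schemes
and, in the representable sense, a separated monomorphism that is locally of finite type and locally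
quasi-finite; when f is separated s is a closed immersion, and when f is quasi-separated s is
quasi-compact. (The published lemma also shows that s is an immersion when f is locally separated;
this row omits that clause.) -/
theorem result {S : Scheme.{u}} {X T : AlgSp.Space S} (f : X ⟶ T) (s : T ⟶ X)
    (hs : s ≫ f = 𝟙 T) :
    AlgSp.Representable s.hom ∧
    AlgSp.RepWith @LocallyOfFiniteType s.hom ∧
    AlgSp.RepWith (@LocallyQuasiFinite ⊓ @LocallyOfFiniteType) s.hom ∧
    AlgSp.RepWith @IsSeparated s.hom ∧
    AlgSp.RepWith (MorphismProperty.monomorphisms Scheme.{u}) s.hom ∧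
    (AlgSp.IsSeparatedMor f.hom → AlgSp.RepWith @IsClosedImmersion s.hom) ∧
    (AlgSp.IsQuasiSeparatedMor f.hom → AlgSp.RepWith @QuasiCompact s.hom) := by
  have sq := section_isPullback f.hom s.hom (congrArg (fun k => k.hom) hs)
  have H := Groth.L23.repWith_of_isPullback sq (Groth.L23.diagonal_properties X.property f.hom)
  exact ⟨H.1, Groth.L23.repWith_mono (fun _ h => h.1) H,
    Groth.L23.repWith_mono (fun f h => ⟨Groth.L23.diagProp_lqf f h, h.1⟩) H,
    Groth.L23.repWith_mono Groth.L23.diagProp_isSeparated H,
    Groth.L23.repWith_mono (fun _ h => h.2) H,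
    fun hs => Groth.L23.repWith_of_isPullback sq hs,
    fun hs => Groth.L23.repWith_of_isPullback sq hs⟩

end Groth.Agent.S9902
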