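import Groth.Statements.S9911
import Groth.Agent.L23.MorCalc

set_option autoImplicit false
set_option backward.isDefEq.respectTransparency.types false
universe u
open CategoryTheory CategoryTheory.Limits AlgebraicGeometry
open AlgSp

namespace Groth.Agent.S9911

/-- A morphism from an algebraic space to the spectrum of a field is universally open. -/
theorem result {S : Scheme.{u}} (X : AlgSp.Space S) {k : Type u} [Field k]
    (str : Spec (CommRingCat.of k) ⟶ S) (p : X ⟶ (AlgSp.ofScheme S).obj (Over.mk str)) :
    AlgSp.IsUnivOpenMor p.hom := by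
  obtain ⟨U, a, ha, has⟩ := X.property.atlas
  let p' : X.obj ⟶ (AlgSp.yon S).obj (Over.mk str) := p.hom
  show AlgSp.IsUnivOpenMor p'
  obtain ⟨φ, hφ⟩ := (AlgSp.yon S).map_surjective (a ≫ p')
  refine Groth.L23.univOpen_of_surjective_comp (f := a) ?_ (Groth.L23.surjective_map_of_repWith has)
  rw [← hφ]
  have : IsField (CommRingCat.of k) := Field.toIsField k
  let φ' : U.left ⟶ Spec (CommRingCat.of k) := φ.left
  have hφ' : UniversallyOpen φ' := inferInstance
  have h' : AlgSp.RepWith @UniversallyOpen ((AlgSp.yon S).map φ) := Groth.L23.repWith_map hφ'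
  exact (Groth.L23.repWith_universallyOpen_iff h'.1).1 h'

end Groth.Agent.S9911
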