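import Groth.Statements.S9915
import Groth.Agent.L23.Compact

set_option autoImplicit false
set_option backward.isDefEq.respectTransparency.types false
universe u
open CategoryTheory CategoryTheory.Limits AlgebraicGeometry
open AlgSp

namespace Groth.Agent.S9915

/-- In a commutative triangle of algebraic spaces with f : X -> Y surjective, if X -> Z is quasi-compact
then Y -> Z is quasi-compact. -/
theorem result {S : Scheme.{u}} {X Y Z : AlgSp.Space S} (f : X ⟶ Y)
    (p : X ⟶ Z) (q : Y ⟶ Z) (comm : f ≫ q = p) (hf : AlgSp.IsSurjectiveMor f.hom)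
    (hp : AlgSp.IsQuasiCompactMor p.hom) : AlgSp.IsQuasiCompactMor q.hom := by
  refine Groth.L23.isQuasiCompactMor_of_affine Y.property Z.property fun W hW g => ?_
  haveI := hW
  have comm' : f.hom ≫ q.hom = p.hom := congrArg (fun k => k.hom) comm
  have sqY := IsPullback.of_hasPullback q.hom g
  have sqX := IsPullback.of_hasPullback p.hom g
  let m := sqY.lift (pullback.fst p.hom g ≫ f.hom) (pullback.snd p.hom g)
    (by rw [Category.assoc, comm']; exact sqX.w)
  have sqm : IsPullback (pullback.fst p.hom g) m f.hom (pullback.fst q.hom g) := by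
    refine IsPullback.of_bot ?_ (sqY.lift_fst _ _ _).symm sqY
    rw [sqY.lift_snd, comm']
    exact sqX
  refine Groth.L23.qcSp_of_surjective (Groth.L23.isAlgSpace_of_isPullback Z.property.diag Y.property
    (AlgSp.IsAlgSpace.yon_obj W) sqY) m (fun y => ?_) (Groth.L23.isQuasiCompactMor_of_pullback hp g)
  obtain ⟨x, hx⟩ := hf (AlgSp.Points.map (pullback.fst q.hom g) y)
  obtain ⟨z, -, hz⟩ := Groth.L23.exists_of_isPullback sqm x y hx
  exact ⟨z, hz⟩

end Groth.Agent.S9915
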