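import Groth.Statements.S9916
import Groth.Agent.L23.Compact

set_option autoImplicit false
universe u
open CategoryTheory CategoryTheory.Limits AlgebraicGeometry
open AlgSp

namespace Groth.Agent.S9916

/-- Quasi-compactness of a morphism of algebraic spaces descends along a universally open surjective
base change. -/
theorem result {S : Scheme.{u}} {X Y Y' X' : AlgSp.Space S}
    (f : X ⟶ Y) (g : Y' ⟶ Y) (fst : X' ⟶ X) (f' : X' ⟶ Y') (sq : IsPullback fst.hom f'.hom f.hom g.hom)
    (hg : AlgSp.IsUnivOpenMor g.hom) (hgs : AlgSp.IsSurjectiveMor g.hom) (hf' : AlgSp.IsQuasiCompactMor f'.hom) :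
    AlgSp.IsQuasiCompactMor f.hom := by
  refine Groth.L23.isQuasiCompactMor_of_affine X.property Y.property fun W hW g₁ => ?_
  haveI := hW
  have sqW := IsPullback.of_hasPullback g.hom g₁
  have hW' : AlgSp.IsAlgSpace (pullback g.hom g₁) :=
    Groth.L23.isAlgSpace_of_isPullback Y.property.diag Y'.property (AlgSp.IsAlgSpace.yon_obj W) sqW
  have hopen : IsOpenMap (AlgSp.Points.map (pullback.snd g.hom g₁)) :=
    hg (AlgSp.IsAlgSpace.yon_obj W) g₁ _ _ sqW
  have hsurj : Function.Surjective (AlgSp.Points.map (pullback.snd g.hom g₁)) := fun w => by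
    obtain ⟨y', hy'⟩ := hgs (AlgSp.Points.map g₁ w)
    obtain ⟨p, -, hp⟩ := Groth.L23.exists_of_isPullback sqW y' w hy'
    exact ⟨p, hp⟩
  choose A a hA ha hmem using fun w : AlgSp.Points ((AlgSp.yon S).obj W) =>
    Groth.L23.exists_affine_etale_nhd hW' (hsurj w).choose
  let O : AlgSp.Points ((AlgSp.yon S).obj W) → Set (AlgSp.Points ((AlgSp.yon S).obj W)) := fun w =>
    AlgSp.Points.map (pullback.snd g.hom g₁) '' Set.range (AlgSp.Points.ofPt (a w))
  haveI : CompactSpace (AlgSp.Points ((AlgSp.yon S).obj W)) :=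
    Groth.L23.compactSpace_of_qcSp Groth.L23.isQuasiCompactSp_of_compactSpace
  obtain ⟨T, hT⟩ := isCompact_univ.elim_finite_subcover O
    (fun w => hopen _ (Groth.L23.isOpenMap_ofPt (ha w)).isOpen_range)
    (fun w _ => Set.mem_iUnion.2 ⟨w, _, hmem w, (hsurj w).choose_spec⟩)
  have hP : AlgSp.IsAlgSpace (pullback f.hom g₁) :=
    Groth.L23.isAlgSpace_of_isPullback Y.property.diag X.property (AlgSp.IsAlgSpace.yon_obj W)
      (IsPullback.of_hasPullback f.hom g₁)
  let k := fun w => a w ≫ pullback.fst g.hom g₁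
  have big := fun w => (IsPullback.of_hasPullback f'.hom (k w)).paste_horiz sq
  let l := fun w => (IsPullback.of_hasPullback f.hom g₁).lift (pullback.fst f'.hom (k w) ≫ fst.hom)
    (pullback.snd f'.hom (k w) ≫ a w ≫ pullback.snd g.hom g₁)
    (by rw [(big w).w]; simp only [k, Category.assoc, pullback.condition])
  have sql := fun w => IsPullback.of_right (h₁₁ := l w) (v₁₁ := pullback.snd f'.hom (k w))
    (h₂₁ := a w ≫ pullback.snd g.hom g₁) (by
      rw [(IsPullback.of_hasPullback f.hom g₁).lift_fst]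
      simpa only [k, Category.assoc, pullback.condition] using big w)
    ((IsPullback.of_hasPullback f.hom g₁).lift_snd _ _ _) (IsPullback.of_hasPullback f.hom g₁)
  have hcov : (Set.univ : Set (AlgSp.Points (pullback f.hom g₁))) =
      ⋃ w ∈ T, Set.range (AlgSp.Points.map (l w)) := by
    refine (Set.eq_univ_of_forall fun p => ?_).symm
    obtain ⟨w, hw, hz⟩ := Set.mem_iUnion₂.1 (hT (Set.mem_univ (AlgSp.Points.map (pullback.snd f.hom g₁) p)))
    obtain ⟨_, ⟨v, rfl⟩, hv⟩ := hz
    obtain ⟨q, hq, -⟩ := Groth.L23.exists_of_isPullback (sql w) p (AlgSp.Points.ofScheme (A w) v) (by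
      rw [AlgSp.Points.map_comp, ← AlgSp.Points.ofPt_eq_map_ofScheme]
      exact hv.symm)
    exact Set.mem_iUnion₂.2 ⟨w, hw, q, hq⟩
  refine Groth.L23.qcSp_of_compactSpace hP (isCompact_univ_iff.1 ?_)
  rw [hcov]
  refine T.finite_toSet.isCompact_biUnion fun w _ => ?_
  haveI := hA w
  haveI := Groth.L23.compactSpace_of_qcSp (Groth.L23.isQuasiCompactMor_of_pullback hf' (k w))
  exact isCompact_range (AlgSp.Points.continuous_map _)

end Groth.Agent.S9916
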