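import Groth.Statements.S9918
import Groth.Agent.L23.MorCalc

set_option autoImplicit false
set_option backward.isDefEq.respectTransparency.types false
universe u
open CategoryTheory CategoryTheory.Limits AlgebraicGeometry
open AlgSp

namespace Groth.Agent.S9918

/-- (5) ⇒ (1): quasi-compactness of a morphism of algebraic spaces descends along a surjective etale
base change of algebraic spaces. -/
theorem result {S : Scheme.{u}} {X Y Y' X' : AlgSp.Space S}
    (f : X ⟶ Y) (g : Y' ⟶ Y) (fst : X' ⟶ X) (f' : X' ⟶ Y') (sq : IsPullback fst.hom f'.hom f.hom g.hom)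
    (hg : AlgSp.IsEtaleMor g.hom) (hgs : AlgSp.IsSurjectiveMor g.hom) (hf' : AlgSp.IsQuasiCompactMor f'.hom) :
    AlgSp.IsQuasiCompactMor f.hom := by
  obtain ⟨V, c, hc, hcs⟩ := Y'.property.atlas
  have hp : AlgSp.RepWith @Etale (c ≫ g.hom) := hg c hc
  have hps : AlgSp.RepWith @Surjective (c ≫ g.hom) := Groth.L23.repWith_surjective_of_map hp.1 fun y => by
    obtain ⟨y', rfl⟩ := hgs y
    obtain ⟨z, rfl⟩ := Groth.L23.surjective_map_of_repWith hcs y'
    exact ⟨z, AlgSp.Points.map_comp _ _ _⟩
  have sqP := IsPullback.of_hasPullback f'.hom c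
  exact Groth.L23.isQuasiCompactMor_of_cover X.property Y.property hp hps (sqP.paste_horiz sq)
    (Groth.L23.qcMor_of_isPullback sqP hf')

end Groth.Agent.S9918
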