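import Groth.Statements.S9929
import Groth.Agent.L23.MonoField

set_option autoImplicit false
set_option backward.isDefEq.respectTransparency.types false
universe u
open CategoryTheory CategoryTheory.Limits AlgebraicGeometry
open AlgSp

namespace Groth.Agent.S9929
open Groth.L23

/-- A monomorphism from an algebraic space to the spectrum of a field is either the empty space or an
isomorphism. -/
theorem result {S : Scheme.{u}} {k : Type u} [Field k] (str : Spec (CommRingCat.of k) ⟶ S)
    (Z : AlgSp.Space S) (f : Z ⟶ (AlgSp.ofScheme S).obj (Over.mk str)) [Mono f.hom] :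
    IsEmpty (AlgSp.Points Z.obj) ∨ IsIso f := by
  refine (@isEmpty_or_isIso_of_mono_to_field S k _ str Z.obj Z.property f.hom ‹Mono f.hom›).imp id
    fun ⟨h⟩ => ?_
  obtain ⟨g, h₁, h₂⟩ := h
  exact ⟨⟨ObjectProperty.homMk g, InducedCategory.hom_ext h₁, InducedCategory.hom_ext h₂⟩⟩

end Groth.Agent.S9929
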