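import Groth.Statements.S9933
import Groth.Agent.L23.AlgSpace
import Groth.Agent.L23.AffineMor

set_option autoImplicit false
set_option backward.isDefEq.respectTransparency.types false
universe u
open CategoryTheory CategoryTheory.Limits AlgebraicGeometry
open AlgSp

namespace Groth.Agent.S9933

/-- Permanence for Z -> Y -> X: the five representable finiteness/separation properties of Z -> X pass
to Z -> Y, and a closed immersion Z -> X with Y -> X separated gives a closed immersion Z -> Y. -/
theorem result {S : Scheme.{u}} {Z Y X : AlgSp.Space S} (a : Z ⟶ Y) (b : Y ⟶ X) :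
    ((AlgSp.Representable (a ≫ b).hom ∧ AlgSp.RepWith @LocallyOfFiniteType (a ≫ b).hom ∧
        AlgSp.RepWith (@LocallyQuasiFinite ⊓ @LocallyOfFiniteType) (a ≫ b).hom ∧
        AlgSp.RepWith @IsSeparated (a ≫ b).hom ∧
        AlgSp.RepWith (MorphismProperty.monomorphisms Scheme.{u}) (a ≫ b).hom) →
      (AlgSp.Representable a.hom ∧ AlgSp.RepWith @LocallyOfFiniteType a.hom ∧
        AlgSp.RepWith (@LocallyQuasiFinite ⊓ @LocallyOfFiniteType) a.hom ∧
        AlgSp.RepWith @IsSeparated a.hom ∧
        AlgSp.RepWith (MorphismProperty.monomorphisms Scheme.{u}) a.hom)) ∧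
    (AlgSp.RepWith @IsClosedImmersion (a ≫ b).hom → AlgSp.IsSeparatedMor b.hom →
      AlgSp.RepWith @IsClosedImmersion a.hom) := by
  refine ⟨fun h => ?_, fun h hb => Groth.L23.repWith_of_comp_diagonal (g := a.hom) (q := b.hom) h hb⟩
  have h₀ : AlgSp.RepWith Groth.L23.diagProp (a ≫ b).hom :=
    Groth.L23.repWith_inf_iff.2 ⟨h.2.1, h.2.2.2.2⟩
  have hd := Groth.L23.repWith_of_comp_diagonal (g := a.hom) (q := b.hom) h₀
    (Groth.L23.diagonal_properties Y.property b.hom)
  exact ⟨hd.1, Groth.L23.repWith_mono (fun _ h => h.1) hd,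
    Groth.L23.repWith_mono (fun f h => ⟨Groth.L23.diagProp_lqf f h, h.1⟩) hd,
    Groth.L23.repWith_mono Groth.L23.diagProp_isSeparated hd,
    Groth.L23.repWith_mono (fun _ h => h.2) hd⟩

end Groth.Agent.S9933
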