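import Groth.Statements.S9937
import Groth.Agent.L23.Univ

set_option autoImplicit false
set_option backward.isDefEq.respectTransparency.types false
universe u
open CategoryTheory CategoryTheory.Limits AlgebraicGeometry
open AlgSp

namespace Groth.Agent.S9937

/-- Closed immersions between algebraic spaces are separated morphisms. -/
theorem result {S : Scheme.{u}} {X Y : AlgSp.Space S} (f : X ⟶ Y)
    (hf : AlgSp.RepWith @IsClosedImmersion f.hom) : AlgSp.IsSeparatedMor f.hom := 
  (Groth.L23.isSeparatedMor_iff hf.1).2
    (Groth.L23.repWith_mono (fun g (hg : IsClosedImmersion g) => by infer_instance) hf)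

end Groth.Agent.S9937
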