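import Groth.Statements.S9938
import Groth.Agent.L23.EtaleMono

set_option autoImplicit false
set_option backward.isDefEq.respectTransparency.types false
universe u
open CategoryTheory CategoryTheory.Limits AlgebraicGeometry
open AlgSp

namespace Groth.Agent.S9938
open Groth.L23

/-- For a morphism of algebraic spaces, injectivity on field-valued points, universal injectivity, and
surjectivity of the diagonal are equivalent. -/
theorem result {S : Scheme.{u}} {X Y : AlgSp.Space S} (f : X ⟶ Y) :
    ((∀ (K : Type u) [Field K] (str : Spec (CommRingCat.of K) ⟶ S),
        Function.Injective (fun a : (AlgSp.yon S).obj (Over.mk str) ⟶ X.obj => a ≫ f.hom)) ↔ AlgSp.IsUnivInjectiveMor f.hom) ∧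
    (AlgSp.IsUnivInjectiveMor f.hom ↔ AlgSp.IsSurjectiveMor (pullback.diagonal f.hom)) := ⟨⟨fun h => isUnivInjectiveMor_of_surjective_diagonal (surjective_diagonal_of_fieldInjective h),
    fun h K _ str => injective_comp_of_univInjective X.property h K str⟩,
   ⟨fun h => surjective_diagonal_of_fieldInjective
      (fun K _ str => injective_comp_of_univInjective X.property h K str),
    isUnivInjectiveMor_of_surjective_diagonal⟩⟩

end Groth.Agent.S9938
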