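import Groth.Statements.S9940
import Groth.Agent.L23.Univ

set_option autoImplicit false
set_option backward.isDefEq.respectTransparency.types false
universe u
open CategoryTheory CategoryTheory.Limits AlgebraicGeometry
open AlgSp

namespace Groth.Agent.S9940

/-- (4) ⇒ (1): universal injectivity of a morphism of algebraic spaces descends along a surjective base
change from a scheme. -/
theorem result {S : Scheme.{u}} {X Y : AlgSp.Space S} (f : X ⟶ Y)
    (Z : Over S) (g : (AlgSp.yon S).obj Z ⟶ Y.obj) (hg : AlgSp.IsSurjectiveMor g) {P : AlgSp.Sp S}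
    (fst : P ⟶ X.obj) (snd : P ⟶ (AlgSp.yon S).obj Z) (sq : IsPullback fst snd f.hom g)
    (h : AlgSp.IsUnivInjectiveMor snd) : AlgSp.IsUnivInjectiveMor f.hom := by
  intro T T' hT k fst' snd' sq' x₁ x₂ e
  have sqT := IsPullback.of_hasPullback k g
  have hW : AlgSp.IsAlgSpace (pullback k g) :=
    Groth.L23.isAlgSpace_of_isPullback Y.property.diag hT (AlgSp.IsAlgSpace.yon_obj Z) sqT
  obtain ⟨w₀, hw₀⟩ := hg (AlgSp.Points.map k (AlgSp.Points.map snd' x₁))
  obtain ⟨w, hw, -⟩ := Groth.L23.exists_of_isPullback sqT (AlgSp.Points.map snd' x₁) w₀ hw₀.symm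
  have sqW := IsPullback.of_hasPullback snd' (pullback.fst k g)
  have sqA := sqW.paste_horiz sq'
  let m := sq.lift (pullback.fst _ _ ≫ fst') (pullback.snd snd' (pullback.fst k g) ≫ pullback.snd k g)
    (by simp [sq'.w, pullback.condition_assoc, pullback.condition])
  have sqM : IsPullback m (pullback.snd snd' (pullback.fst k g)) snd (pullback.snd k g) := by
    refine IsPullback.of_right ?_ (sq.lift_snd _ _ _) sq
    rw [sq.lift_fst, ← sqT.w]
    exact sqA
  have hi := h hW _ _ _ sqM
  obtain ⟨z₁, h₁, h₁'⟩ := Groth.L23.exists_of_isPullback sqW x₁ w hw.symm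
  obtain ⟨z₂, h₂, h₂'⟩ := Groth.L23.exists_of_isPullback sqW x₂ w (e.symm.trans hw.symm)
  rw [← h₁, ← h₂, hi (h₁'.trans h₂'.symm)]

end Groth.Agent.S9940
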