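import Groth.Statements.S9942
import Groth.Agent.L23.AffineMor

set_option autoImplicit false
set_option backward.isDefEq.respectTransparency.types false
universe u
open CategoryTheory CategoryTheory.Limits AlgebraicGeometry
open AlgSp

namespace Groth.Agent.S9942
open Groth.L23

/-- (3) ⇒ (2): if X x_Y V is an affine scheme for every affine scheme V etale over Y, then f : X -> Y is
affine. -/
theorem result {S : Scheme.{u}} {X Y : AlgSp.Space S} (f : X ⟶ Y)
    (h : ∀ (V : Over S), IsAffine V.left → ∀ (b : (AlgSp.yon S).obj V ⟶ Y.obj), AlgSp.RepWith @Etale b →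
      ∀ (P : AlgSp.Sp S) (fst : P ⟶ X.obj) (snd : P ⟶ (AlgSp.yon S).obj V), IsPullback fst snd f.hom b →
      ∃ (W : Over S), IsAffine W.left ∧ Nonempty ((AlgSp.yon S).obj W ≅ P)) :
    AlgSp.IsAffineMor f.hom := by
  obtain ⟨V, p, hp, hps⟩ : ∃ (V : Over S) (p : (yon S).obj V ⟶ Y.obj),
      RepWith @Etale p ∧ RepWith @Surjective p := Y.property.2
  refine isAffineMor_of_cover hp hps (IsPullback.of_hasPullback f.hom p)
    (isAffineMor_of_affine_opens _ fun B => ?_)
  have hb : RepWith @Etale ((yon S).map (openOverι V B.1) ≫ p) :=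
    repWith_comp (repWith_map (inferInstanceAs (Etale B.1.ι))) hp
  have sq := IsPullback.of_hasPullback (pullback.snd f.hom p) ((yon S).map (openOverι V B.1))
  obtain ⟨W, hW, ⟨θ⟩⟩ := h (openOver V B.1) B.2 _ hb _ _ _
    (sq.paste_horiz (IsPullback.of_hasPullback f.hom p))
  obtain ⟨i, hi⟩ := (yon S).map_surjective (θ.hom ≫ pullback.snd (pullback.snd f.hom p) ((yon S).map (openOverι V B.1)))
  exact ⟨W, θ.hom ≫ pullback.fst _ _, i, sq.of_iso θ.symm (Iso.refl _) (Iso.refl _) (Iso.refl _)
    (by simp) (by simp [hi]) (by simp) (by simp), hW⟩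

end Groth.Agent.S9942
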