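import Groth.Statements.S9944
import Groth.Agent.L23.AffineMor

set_option autoImplicit false
set_option backward.isDefEq.respectTransparency.types false
universe u
open CategoryTheory CategoryTheory.Limits AlgebraicGeometry
open AlgSp

namespace Groth.Agent.S9944
open Groth.L23

/-- Let g : X -> Y be a morphism over a base algebraic space B with X affine over B. Then g is affine as
soon as the diagonal of Y over B is affine, and in particular as soon as Y is B-separated. (The
published lemma also has two versions with the absolute diagonal of Y; this row states the versions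
over B.) -/
theorem result {S : Scheme.{u}} {X Y B : AlgSp.Space S} (g : X ⟶ Y) (p : X ⟶ B)
    (q : Y ⟶ B) (comm : g ≫ q = p) (hp : AlgSp.IsAffineMor p.hom) :
    (AlgSp.IsAffineMor (pullback.diagonal q.hom) → AlgSp.IsAffineMor g.hom) ∧
    (AlgSp.IsSeparatedMor q.hom → AlgSp.IsAffineMor g.hom) := by
  subst comm
  have hp' : RepWith @IsAffineHom (g.hom ≫ q.hom) := repWith_isAffineHom_of_isAffineMor hp
  exact ⟨fun hd => isAffineMor_iff.2 (repWith_of_comp_diagonal hp' (isAffineMor_iff.1 hd)),
    fun hd => isAffineMor_iff.2 (repWith_of_comp_diagonal hp'
      (repWith_mono (fun _ (_ : IsClosedImmersion _) => by infer_instance) hd))⟩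

end Groth.Agent.S9944
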