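import Groth.Statements.S9945
import Groth.Agent.L23.AffineMor
import Groth.Agent.L23.LocalDimEtale
import Groth.Agent.L23.QcCalc
import Mathlib.AlgebraicGeometry.Artinian
import Mathlib.AlgebraicGeometry.ZariskisMainTheorem

set_option autoImplicit false
set_option backward.isDefEq.respectTransparency.types false
set_option linter.style.haveILetI false
universe u
open CategoryTheory CategoryTheory.Limits AlgebraicGeometry
open AlgSp

namespace Groth.Agent.S9945

/-- Over a base scheme with quasi-separated underlying space, every morphism from the spectrum of an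
Artinian ring to an algebraic space quasi-separated over S is affine. (The published statement
assumes X quasi-separated in the absolute sense over any base; this row assumes the base
quasi-separated and X quasi-separated over it, which on such bases is the same condition.) -/
theorem result {S : Scheme.{u}} [QuasiSeparatedSpace ↥S] (X : AlgSp.Space S)
    (hX : AlgSp.IsQuasiSeparatedSp X.obj) (A : Type u) [CommRing A] [IsArtinianRing A]
    (str : Spec (CommRingCat.of A) ⟶ S) (a : (AlgSp.yon S).obj (Over.mk str) ⟶ X.obj) :
    AlgSp.IsAffineMor a := by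
  obtain ⟨V, p, hp, hps⟩ := X.property.atlas
  obtain ⟨W, f, i, sq⟩ : ∃ (W : Over S) (f : W ⟶ Over.mk str) (i : W ⟶ V),
      IsPullback ((AlgSp.yon S).map f) ((AlgSp.yon S).map i) a p :=
    Groth.L23.exists_isPullback_of_representable (X.property.representable_from_yon a) p
  haveI : Etale f.left := Groth.L23.repWith_prop hp sq.flip
  haveI : CompactSpace (Over.mk str).left := inferInstanceAs (CompactSpace (Spec (CommRingCat.of A)))
  haveI : IsAffineHom i.left := by
    refine ⟨fun B hB => ?_⟩
    haveI : IsAffine (B : Scheme.{u}) := hB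
    let V' : Over S := Over.mk (B.ι ≫ V.hom)
    haveI : CompactSpace V'.left := inferInstanceAs (CompactSpace (B : Scheme.{u}))
    let jB : V' ⟶ V := Over.homMk B.ι rfl
    obtain ⟨P, g₁, g₂, sP⟩ : ∃ (P : Over S) (g₁ : P ⟶ Over.mk str) (g₂ : P ⟶ V'),
        IsPullback ((AlgSp.yon S).map g₁) ((AlgSp.yon S).map g₂) a ((AlgSp.yon S).map jB ≫ p) :=
      Groth.L23.exists_isPullback_of_representable (X.property.representable_from_yon a) _
    haveI : CompactSpace P.left := Groth.L23.compactSpace_of_qs hX sP
    let l := sq.lift ((AlgSp.yon S).map g₁) ((AlgSp.yon S).map (g₂ ≫ jB))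
      (by rw [sP.w, Functor.map_comp, Category.assoc])
    obtain ⟨l', hl'⟩ := (AlgSp.yon S).map_surjective l
    have s₂ : IsPullback ((AlgSp.yon S).map l') ((AlgSp.yon S).map g₂) ((AlgSp.yon S).map i) ((AlgSp.yon S).map jB) := by
      refine IsPullback.of_right (h₁₂ := (AlgSp.yon S).map f) ?_ ?_ sq
      · rw [hl', sq.lift_fst]; exact sP
      · rw [hl', sq.lift_snd, Functor.map_comp]
    have s₃ : IsPullback l'.left g₂.left i.left B.ι :=
      (IsPullback.of_map (AlgSp.yon S) ((AlgSp.yon S).map_injective (by simpa using s₂.w)) s₂).map (Over.forget S)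
    have hr : Set.range l'.left = i.left ⁻¹' (B : Set V.left) := by
      rw [← Scheme.Opens.range_ι B]
      rw [← s₃.isoPullback_hom_fst, Scheme.Hom.comp_base, TopCat.coe_comp, Set.range_comp,
        Set.range_eq_univ.2 s₃.isoPullback.hom.surjective, Set.image_univ, Scheme.Pullback.range_fst]
    have hc : IsCompact (i.left ⁻¹' (B : Set V.left)) := hr ▸ isCompact_range l'.left.continuous
    let O : W.left.Opens := i.left ⁻¹ᵁ B
    haveI : CompactSpace (O : Scheme.{u}) := isCompact_iff_compactSpace.1 hc
    haveI : Etale (O.ι ≫ f.left) := inferInstance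
    haveI : LocallyQuasiFinite (O.ι ≫ f.left) := Groth.L23.lqf_of_etale _
    haveI : IsAffine (Over.mk str).left := inferInstanceAs (IsAffine (Spec (CommRingCat.of A)))
    haveI : QuasiCompact (O.ι ≫ f.left) := (HasAffineProperty.iff_of_isAffine (P := @QuasiCompact)).2 ‹CompactSpace (O : Scheme.{u})›
    haveI : IsLocallyArtinian (Over.mk str).left :=
      inferInstanceAs (IsLocallyArtinian (Spec (CommRingCat.of A)))
    haveI : IsFinite (O.ι ≫ f.left) := IsFinite.of_locallyQuasiFinite _
    exact isAffine_of_isAffineHom (O.ι ≫ f.left)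
  exact Groth.L23.isAffineMor_of_cover hp hps sq (Groth.L23.isAffineMor_iff.2 (Groth.L23.repWith_map inferInstance))

end Groth.Agent.S9945
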