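import Groth.Statements.S9957
import Groth.Agent.L23.Decent3
import Groth.Agent.L23.LocP
import Groth.Agent.L23.AlgSpace

set_option autoImplicit false
set_option backward.isDefEq.respectTransparency.types false
universe u
open CategoryTheory CategoryTheory.Limits AlgebraicGeometry
open AlgSp Groth.L23

namespace Groth.Agent.S9957

/-- The source of a morphism of finite presentation whose target is Noetherian is itself Noetherian,
Noetherian meaning quasi-compact, quasi-separated over S and locally Noetherian. (The published
statement uses quasi-separatedness in the absolute sense; this row uses quasi-separatedness over S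
in hypothesis and conclusion.) -/
theorem result {S : Scheme.{u}} {X Y : AlgSp.Space S} (f : X ⟶ Y)
    (hf : AlgSp.IsFinitePresentationMor f.hom)
    (hY : AlgSp.IsQuasiCompactSp Y.obj ∧ AlgSp.IsQuasiSeparatedSp Y.obj ∧ AlgSp.IsLocNoethSp Y.obj) :
    AlgSp.IsQuasiCompactSp X.obj ∧ AlgSp.IsQuasiSeparatedSp X.obj ∧ AlgSp.IsLocNoethSp X.obj := by
  refine ⟨?_, ?_, ?_⟩
  · exact hf.2.1 Y.property hY.1 (𝟙 _) (𝟙 _) f.hom (IsPullback.of_horiz_isIso ⟨by simp⟩)
  · have hp := repWith_of_isPullback (Groth.L23.isPullback_diag (IsPullback.of_hasPullback f.hom f.hom)) hY.2.1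
    have e : pullback.diagonal f.hom ≫ prod.lift (pullback.fst f.hom f.hom) (pullback.snd f.hom f.hom) =
        Limits.diag X.obj := by ext <;> simp
    show AlgSp.RepWith @QuasiCompact (Limits.diag X.obj)
    rw [← e]
    exact repWith_comp hf.2.2 hp
  · obtain ⟨U, V, a, b, h, ha, has, hb, -, w⟩ := Groth.L23.exists_chart X.property Y.property f.hom
    have := Groth.L23.Pt.isLocallyNoetherian_of_chart Y.property hY.2.2 hb
    have : LocallyOfFinitePresentation h.left := hf.1 a b h ha hb w
    exact ⟨U, a, ha, has, LocallyOfFiniteType.isLocallyNoetherian h.left⟩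

end Groth.Agent.S9957
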