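import Groth.Statements.S9958
import Groth.Agent.L23.LocP
import Groth.Agent.L23.SchemeFacts

set_option autoImplicit false
set_option backward.isDefEq.respectTransparency.types false
universe u
open CategoryTheory CategoryTheory.Limits AlgebraicGeometry
open AlgSp

namespace Groth.Agent.S9958
open Groth.L23

/-- Over a locally Noetherian algebraic space, locally of finite type implies locally of finite
presentation. -/
theorem result {S : Scheme.{u}} {X Y : AlgSp.Space S} (f : X ⟶ Y)
    (hY : AlgSp.IsLocNoethSp Y.obj) (hf : AlgSp.LocP @LocallyOfFiniteType f.hom) :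
    AlgSp.LocP @LocallyOfFinitePresentation f.hom := by
  obtain ⟨V, b, hb, hbs, hN⟩ := hY
  obtain ⟨U, a, h, ha, w, has⟩ := exists_chart_over X.property Y.property f.hom hb
  have := hf a b h ha hb w
  exact locP_of_chart etLocal_lfp ha (has hbs) hb w (lfp_of_lft_locallyNoetherian h.left)

end Groth.Agent.S9958
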