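import Groth.Statements.S9977
import Groth.Agent.L23.FtPoint

set_option autoImplicit false
set_option backward.isDefEq.respectTransparency.types false
universe u
open CategoryTheory CategoryTheory.Limits AlgebraicGeometry
open AlgSp

namespace Groth.Agent.S9977

/-- Every nonempty locally closed subset of |X| contains a finite type point, and finite type points are
dense in every closed subset. -/
theorem result {S : Scheme.{u}} (X : AlgSp.Space S) :
    (∀ T : Set (AlgSp.Points X.obj), IsLocallyClosed T → T.Nonempty →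
      ∃ x ∈ T, (∃ (k : Type u) (_ : Field k) (str : Spec (CommRingCat.of k) ⟶ S) (ξ : (AlgSp.yon S).obj (Over.mk str) ⟶ X.obj),
        AlgSp.LocP @LocallyOfFiniteType ξ ∧ AlgSp.Points.ofPt ξ (IsLocalRing.closedPoint k) = x)) ∧
    (∀ T : Set (AlgSp.Points X.obj), IsClosed T →
      T ⊆ closure {x | x ∈ T ∧ (∃ (k : Type u) (_ : Field k) (str : Spec (CommRingCat.of k) ⟶ S) (ξ : (AlgSp.yon S).obj (Over.mk str) ⟶ X.obj),
        AlgSp.LocP @LocallyOfFiniteType ξ ∧ AlgSp.Points.ofPt ξ (IsLocalRing.closedPoint k) = x)}) := by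
  have key : ∀ T : Set (AlgSp.Points X.obj), IsLocallyClosed T → T.Nonempty →
      ∃ x ∈ T, Groth.L23.FtPt.IsFt x := by
    rintro T hT ⟨x, hx⟩
    obtain ⟨U, a, ha, has⟩ := X.property.atlas
    obtain ⟨u, rfl⟩ := Groth.L23.surjective_ofPt has x
    obtain ⟨v, hv, hft⟩ := Groth.L23.FtPt.exists_closed_chart ha (Z := AlgSp.Points.ofPt a ⁻¹' T)
      (hT.preimage (AlgSp.Points.continuous_ofPt a)) ⟨u, hx⟩
    exact ⟨_, hv, hft⟩
  refine ⟨key, fun T hT x hx => mem_closure_iff.2 fun O hO hxO => ?_⟩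
  obtain ⟨y, ⟨hyO, hyT⟩, hy⟩ := key (O ∩ T) (hO.isLocallyClosed.inter hT.isLocallyClosed) ⟨x, hxO, hx⟩
  exact ⟨y, hyO, hyT, hy⟩

end Groth.Agent.S9977
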