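import Groth.Prelude.Def_AlgSp4
import Groth.Prelude.Def_Found
import Groth.Agent.L02.SpRed.Main
import Groth.Agent.L18.AffineLocalRingProps

set_option autoImplicit false
namespace AlgSp
end AlgSp
universe u
open CategoryTheory CategoryTheory.Limits AlgebraicGeometry
open AlgSp

namespace Groth.Agent.S9978

/-- An algebraic space locally of finite type over a Nagata algebraic space is Nagata. -/
theorem result {S : Scheme.{u}} {X Y : AlgSp.Space S} (f : X ⟶ Y)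
    (hf : AlgSp.LocP @LocallyOfFiniteType f.hom)
    (hY : AlgSp.EtaleLocally (fun U => ∀ V : U.Opens, IsAffineOpen V → CAlg.IsNagata ↑Γ(U, V)) Y.obj) :
    AlgSp.EtaleLocally (fun U => ∀ V : U.Opens, IsAffineOpen V → CAlg.IsNagata ↑Γ(U, V)) X.obj := by
  obtain ⟨V, b, hb, hbs, hV⟩ := hY
  have sq := IsPullback.of_hasPullback f.hom b
  have hP : AlgSp.IsAlgSpace (pullback f.hom b) :=
    Groth.L23.isAlgSpace_of_isPullback Y.property.diag X.property (AlgSp.IsAlgSpace.yon_obj V) sq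
  obtain ⟨W, c, hc, hcs⟩ := hP.atlas
  obtain ⟨g, hg⟩ := (AlgSp.yon S).map_surjective (c ≫ pullback.snd f.hom b)
  haveI hlft : LocallyOfFiniteType g.left :=
    L02.SpRed.lfp_chart X.property Y.property Groth.L23.etLocal_lft hf sq hc g hg.symm
  refine ⟨W, c ≫ pullback.fst f.hom b, Groth.L23.repWith_comp hc (Groth.L23.repWith_of_isPullback sq.flip hb),
    Groth.L23.repWith_comp hcs (Groth.L23.repWith_of_isPullback sq.flip hbs), fun W₀ hW₀ => ?_⟩
  let ι := {p : V.left.affineOpens × W.left.affineOpens // p.2.1 ≤ g.left ⁻¹ᵁ p.1.1}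
  refine Groth.L18.AffLocal.isNagata_affine (fun i : ι => i.1.2.1) ?_ (fun i => i.1.2.2) (fun i => ?_) W₀ hW₀
  · refine eq_top_iff.2 fun w _ => ?_
    obtain ⟨V₁, hV₁, hwV, -⟩ := exists_isAffineOpen_mem_and_subset (X := V.left) (x := g.left w) (U := ⊤) trivial
    obtain ⟨W₁, hW₁, hwW, hle⟩ := exists_isAffineOpen_mem_and_subset (X := W.left) (x := w) (U := g.left ⁻¹ᵁ V₁) hwV
    exact TopologicalSpace.Opens.mem_iSup.2 ⟨⟨(⟨V₁, hV₁⟩, ⟨W₁, hW₁⟩), hle⟩, hwW⟩
  · obtain ⟨⟨⟨V₁, hV₁⟩, ⟨W₁, hW₁⟩⟩, hle⟩ := i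
    letI := (g.left.appLE V₁ W₁ hle).hom.toAlgebra
    haveI : Algebra.FiniteType Γ(V.left, V₁) Γ(W.left, W₁) := g.left.finiteType_appLE hV₁ hW₁ hle
    exact Groth.L01.Nagata.isNagata_of_finiteType (hV V₁ hV₁)

end Groth.Agent.S9978
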