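import Groth.Statements.S9981
import Groth.Agent.L23.LocP
import Groth.Agent.S4586

set_option autoImplicit false
set_option backward.isDefEq.respectTransparency.types false
universe u
open CategoryTheory CategoryTheory.Limits AlgebraicGeometry
open AlgSp

namespace Groth.Agent.S9981
open Groth.L23

/-- The inverse image of an etale locally constructible subset under a morphism of algebraic spaces is
etale locally constructible. -/
theorem result {S : Scheme.{u}} {X Y : AlgSp.Space S} (f : X ⟶ Y)
    (E : Set (AlgSp.Points Y.obj))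
    (hE : (∀ (U : Over S) (φ : (AlgSp.yon S).obj U ⟶ Y.obj), AlgSp.RepWith @Etale φ →
        Topology.IsLocallyConstructible (AlgSp.Points.ofPt φ ⁻¹' E))) :
    (∀ (U : Over S) (φ : (AlgSp.yon S).obj U ⟶ X.obj), AlgSp.RepWith @Etale φ →
        Topology.IsLocallyConstructible (AlgSp.Points.ofPt φ ⁻¹' (AlgSp.Points.map f.hom ⁻¹' E))) := fun U φ hφ => by
  obtain ⟨V, b, hb, hbs⟩ := Y.property.atlas
  obtain ⟨W, q, r, sq⟩ := exists_isPullback_of_representable hb.1 (φ ≫ f.hom)
  have hr : Etale r.left := repWith_prop hb sq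
  have hrs : Surjective r.left := repWith_prop hbs sq
  refine (Groth.Agent.S4586.result r.left (.inr inferInstance) _).1.2 ?_
  have e : r.left.base ⁻¹' (Points.ofPt φ ⁻¹' (Points.map f.hom ⁻¹' E))
      = q.left.base ⁻¹' (Points.ofPt b ⁻¹' E) := by
    ext w
    simp only [Set.mem_preimage, Points.map_ofPt]
    show Points.ofPt (φ ≫ f.hom) (r.left w) ∈ E ↔ Points.ofPt b (q.left w) ∈ E
    rw [← ofPt_comp r (φ ≫ f.hom) w, ← ofPt_comp q b w, sq.w]
  rw [e]
  have hl := hE V b hb
  rw [Groth.L06.ProCons.isLocallyConstructible_iff_cc] at hl ⊢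
  exact ⟨hl.1.preimage q.left, by rw [← Set.preimage_compl]; exact hl.2.preimage q.left⟩

end Groth.Agent.S9981
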