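import Groth.Statements.S9982
import Groth.Agent.L23.Compact
import Groth.Agent.L23.QsTop
import Groth.Agent.L23.Decent
import Mathlib.AlgebraicGeometry.Morphisms.FinitePresentation

set_option autoImplicit false
set_option backward.isDefEq.respectTransparency.types false
set_option linter.style.haveILetI false
universe u
open CategoryTheory CategoryTheory.Limits AlgebraicGeometry
open AlgSp

namespace Groth.Agent.S9982

/-- A quasi-compact morphism locally of finite presentation between algebraic spaces maps etale locally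
constructible sets to etale locally constructible sets. -/
theorem result {S : Scheme.{u}} {X Y : AlgSp.Space S} (f : X ⟶ Y)
    (hq : AlgSp.IsQuasiCompactMor f.hom) (hfp : AlgSp.LocP @LocallyOfFinitePresentation f.hom)
    (E : Set (AlgSp.Points X.obj))
    (hE : (∀ (U : Over S) (φ : (AlgSp.yon S).obj U ⟶ X.obj), AlgSp.RepWith @Etale φ →
        Topology.IsLocallyConstructible (AlgSp.Points.ofPt φ ⁻¹' E))) :
    (∀ (U : Over S) (φ : (AlgSp.yon S).obj U ⟶ Y.obj), AlgSp.RepWith @Etale φ →
        Topology.IsLocallyConstructible (AlgSp.Points.ofPt φ ⁻¹' (AlgSp.Points.map f.hom '' E))) := by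
  intro U φ hφ
  refine Topology.IsLocallyConstructible.of_isOpenCover
    (U := fun A : U.left.affineOpens => (A : U.left.Opens))
    (iSup_affineOpens_eq_top U.left) fun A => ?_
  let A' : Over S := Over.mk (A.1.ι ≫ U.hom)
  let i : (AlgSp.yon S).obj A' ⟶ (AlgSp.yon S).obj U := (AlgSp.yon S).map (Over.homMk A.1.ι rfl : A' ⟶ U)
  have hi : RepWith @Etale (i ≫ φ) := Groth.L23.repWith_comp (Groth.L23.repWith_etale_openMk A.1) hφ
  haveI : IsAffine A'.left := A.2
  have sq := IsPullback.of_hasPullback f.hom (i ≫ φ)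
  have hZ : IsAlgSpace (pullback f.hom (i ≫ φ)) :=
    Groth.L23.isAlgSpace_of_isPullback Y.property.diag X.property (IsAlgSpace.yon_obj _) sq
  have hAqc : IsQuasiCompactSp ((AlgSp.yon S).obj A') :=
    Groth.L23.qcSp_of_compactSpace (IsAlgSpace.yon_obj _) (Groth.L23.Pt.compact_yon)
  obtain ⟨D, sD, p, hp, hps⟩ :=
    Groth.L23.exists_affine_atlas (hq (IsAlgSpace.yon_obj _) hAqc _ _ _ sq)
  obtain ⟨m, hm⟩ := (AlgSp.yon S).map_surjective (p ≫ pullback.snd f.hom (i ≫ φ))
  have ha : RepWith @Etale (p ≫ pullback.fst f.hom (i ≫ φ)) :=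
    Groth.L23.repWith_comp hp (Groth.L23.repWith_of_isPullback sq.flip hi)
  haveI : LocallyOfFinitePresentation m.left :=
    hfp (p ≫ pullback.fst f.hom (i ≫ φ)) (i ≫ φ) m ha hi (by
      rw [Category.assoc, pullback.condition, ← Category.assoc, hm])
  let W : Over S := Over.mk sD
  haveI : IsAffine W.left := inferInstanceAs (IsAffine (Spec D))
  haveI : QuasiCompact m.left := inferInstance
  have key := Scheme.Hom.isLocallyConstructible_image m.left (hE _ _ ha)
  have e : m.left '' (Points.ofPt (p ≫ pullback.fst f.hom (i ≫ φ)) ⁻¹' E) =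
      ((↑) : ↥(A.1 : Set U.left) → U.left) ⁻¹' (Points.ofPt φ ⁻¹' (Points.map f.hom '' E)) := by
    ext z
    have hz : Points.ofPt (i ≫ φ) z = Points.ofPt φ z.1 := Groth.L23.ofPt_openMk A.1 φ z
    constructor
    · rintro ⟨w, hw, rfl⟩
      refine ⟨_, hw, ?_⟩
      rw [Points.map_ofPt, Category.assoc, pullback.condition, ← Category.assoc, ← hm,
        Groth.L23.ofPt_comp]
      exact hz
    · rintro ⟨x, hx, hxz⟩
      obtain ⟨ρ, h1, h2⟩ := Groth.L23.exists_of_isPullback sq x (Points.ofScheme A' z)
        (by rw [← Points.ofPt_eq_map_ofScheme, hz]; exact hxz)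
      obtain ⟨w, rfl⟩ := Groth.L23.surjective_ofPt hps ρ
      rw [Points.map_ofPt] at h1 h2
      refine ⟨w, by show Points.ofPt _ w ∈ E; exact h1.symm ▸ hx, ?_⟩
      rw [← hm] at h2
      have := congrArg (Points.toScheme A') h2
      rwa [Points.toScheme_ofPt, Points.toScheme_ofScheme] at this
  exact e ▸ key

end Groth.Agent.S9982
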