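import Groth.Statements.S9990
import Groth.Agent.L23.PushModFull
import Mathlib.CategoryTheory.Adjunction.FullyFaithful
-- import your own Groth.Agent.* helpers here

set_option autoImplicit false
set_option backward.isDefEq.respectTransparency.types false
universe u
open CategoryTheory CategoryTheory.Limits AlgebraicGeometry Opposite
open AlgSp

namespace Groth.Agent.S9990

/-- For a closed immersion i : Z ⟶ X of algebraic spaces over S and any O_Z-module G on the small etale
site, the counit i^* i_* G ⟶ G of the adjunction between i^* and i_* is invertible, so that i^* is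
left inverse to i_*. -/
theorem result {S : Scheme.{u}} {Z X : AlgSp.Space S} (i : Z ⟶ X)
    (hi : AlgSp.RepWith @IsClosedImmersion i.hom)
    [(SheafOfModules.pushforward.{u + 1} (AlgSp.bcRingHom hi.1)).IsRightAdjoint] (G : AlgSp.ModEt Z.obj) :
    IsIso ((AlgSp.pullPushAdjModEt hi.1).counit.app G) := by
  have hI : AlgSp.RepWith @IsIntegralHom i.hom :=
    Groth.L23.repWith_mono (Q := @IsIntegralHom) (fun f (_ : IsClosedImmersion f) => inferInstanceAs (IsIntegralHom f)) hi
  have hU : AlgSp.RepWith @UniversallyInjective i.hom :=
    Groth.L23.repWith_mono (Q := @UniversallyInjective)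
      (fun f (_ : IsClosedImmersion f) => inferInstanceAs (UniversallyInjective f)) hi
  haveI := Groth.L23.PushEt.faithful_pushModEt hi.1 hI hU
  haveI := Groth.L23.PushEt.full_pushModEt hi.1 hI hU (Groth.L23.ClosedPush.isLocallySurjective_bcRingHom hi)
  infer_instance

end Groth.Agent.S9990
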