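import Groth.Statements.S9992
import Groth.Agent.L09.ModEt.Ext

set_option autoImplicit false
universe u
open CategoryTheory CategoryTheory.Limits AlgebraicGeometry Opposite
open AlgSp

set_option backward.isDefEq.respectTransparency false
set_option backward.isDefEq.respectTransparency.types false

namespace Groth.Agent.S9992

/-- The image of a map into a subobject of an object with a property stable under kernels and cokernels. -/
theorem exists_image {C : Type*} [Category C] [Abelian C] (P : C → Prop)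
    (hcoker : ∀ {A B : C} (f : A ⟶ B), P A → P B → P (cokernel f))
    (hker : ∀ {A B : C} (f : A ⟶ B), P A → P B → P (kernel f))
    {G F : C} (ι : G ⟶ F) [Mono ι] (hF : P F) {D : C} (ψ : D ⟶ G) (hD : P D) :
    ∃ (G' : C) (κ : G' ⟶ G), Mono κ ∧ P G' ∧ ∀ {H : C} (φ : H ⟶ G),
      (∀ (Z : C) (g : G ⟶ Z), ψ ≫ g = 0 → φ ≫ g = 0) → ∃ a : H ⟶ G', a ≫ κ = φ := by
  let q := cokernel.π (ψ ≫ ι)
  have hfac : kernel.ι q ≫ cokernel.π ι = 0 := by
    have : cokernel.π ι = q ≫ cokernel.desc (ψ ≫ ι) (cokernel.π ι)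
        (by rw [Category.assoc, cokernel.condition, comp_zero]) := (cokernel.π_desc _ _ _).symm
    rw [this, kernel.condition_assoc, zero_comp]
  have hκ : Abelian.monoLift ι (kernel.ι q) hfac ≫ ι = kernel.ι q := Abelian.monoLift_comp ι _ hfac
  haveI : Mono (Abelian.monoLift ι (kernel.ι q) hfac ≫ ι) := by rw [hκ]; infer_instance
  refine ⟨kernel q, Abelian.monoLift ι (kernel.ι q) hfac, mono_of_mono _ ι, hker q hF (hcoker _ hD hF),
    fun {H} φ hφ => ⟨kernel.lift q (φ ≫ ι) ?_, ?_⟩⟩
  · rw [Category.assoc]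
    exact hφ _ (ι ≫ q) (by rw [← Category.assoc]; exact cokernel.condition _)
  · rw [← cancel_mono ι, Category.assoc, hκ, kernel.lift_ι]

/-- For a quasi-coherent O_X-module F on the small etale site of an algebraic space X and a submodule G
of F, there is a quasi-coherent submodule G' of G through which every map from a quasi-coherent
module to G factors uniquely; G' is the largest quasi-coherent submodule of F contained in G (it is
unique up to isomorphism over G, which is formal and not restated). -/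
theorem result {S : Scheme.{u}} (X : AlgSp.Space S) (F G : AlgSp.ModEt X.obj)
    [F.IsQuasicoherent] (ι : G ⟶ F) [Mono ι] :
    ∃ (G' : AlgSp.ModEt X.obj) (κ : G' ⟶ G), Mono κ ∧ G'.IsQuasicoherent ∧
      ∀ H : AlgSp.ModEt X.obj, H.IsQuasicoherent → Function.Bijective (fun φ : H ⟶ G' => φ ≫ κ) := by
  classical
  let rng : ∀ (H : AlgSp.ModEt X.obj), (H ⟶ G) → Set (Σ E : AlgSp.EtOver X.obj, AlgSp.sectModEt G E) :=
    fun H φ => {p | ∃ h, Groth.L09.ModEt.sapp φ p.1 h = p.2}
  let T := {t : Set (Σ E : AlgSp.EtOver X.obj, AlgSp.sectModEt G E) //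
    ∃ (H : AlgSp.ModEt X.obj) (φ : H ⟶ G), H.IsQuasicoherent ∧ rng H φ = t}
  choose Hs φs hqs hrng using fun t : T => t.2
  let D : Discrete T ⥤ AlgSp.ModEt X.obj := Discrete.functor Hs
  haveI : HasColimitsOfShape (Discrete T) (AlgSp.ModEt X.obj) := inferInstance
  let ψ : (∐ Hs) ⟶ G := Sigma.desc φs
  have hD : (∐ Hs).IsQuasicoherent :=
    Groth.L09.ModEt.isQuasicoherent_colimit D fun j => hqs j.as
  obtain ⟨G', κ, hκ, hG', hfac⟩ := exists_image (fun M : AlgSp.ModEt X.obj => M.IsQuasicoherent)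
    (fun {A B} f hA hB => Groth.L09.ModEt.isQuasicoherent_colimit (parallelPair f 0) fun j => by
      cases j
      · exact hA
      · exact hB)
    (fun {A B} f hA hB => Groth.L09.ModEt.isQuasicoherent_left (C := ShortComplex.mk (kernel.ι f) f (kernel.condition f))
      (ShortComplex.kernelSequence_exact f) inferInstance hA hB) ι ‹F.IsQuasicoherent› ψ hD
  haveI := hκ
  refine ⟨G', κ, hκ, hG', fun H hH => ⟨fun a b h => (cancel_mono κ).1 h, fun φ => ?_⟩⟩
  refine hfac φ fun Z g hg => ?_
  refine SheafOfModules.hom_ext (PresheafOfModules.Hom.ext (funext fun E => ModuleCat.hom_ext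
    (LinearMap.ext fun h => ?_)))
  let t : T := ⟨rng H φ, H, φ, hH, rfl⟩
  have hmem : (⟨E.unop, Groth.L09.ModEt.sapp φ E.unop h⟩ : Σ E, AlgSp.sectModEt G E) ∈ rng (Hs t) (φs t) := by
    rw [hrng t]
    exact ⟨h, rfl⟩
  obtain ⟨h', hh'⟩ := hmem
  have hψ : Sigma.ι Hs t ≫ ψ = φs t := Sigma.ι_desc φs t
  have h0 : φs t ≫ g = 0 := by rw [← hψ, Category.assoc, hg, comp_zero]
  have := congrArg (fun k => Groth.L09.ModEt.sapp k E.unop h') h0
  change Groth.L09.ModEt.sapp g E.unop (Groth.L09.ModEt.sapp (φs t) E.unop h') = 0 at this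
  rw [hh'] at this
  exact this

end Groth.Agent.S9992
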