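import Groth.Statements.S9999
import Groth.Agent.L09.ModEt.Closed
import Groth.Agent.S9992
import Groth.Agent.L23.PushModFull

set_option autoImplicit false
universe u
open CategoryTheory CategoryTheory.Limits AlgebraicGeometry Opposite
open AlgSp

set_option backward.isDefEq.respectTransparency false
set_option backward.isDefEq.respectTransparency.types false

namespace Groth.Agent.S9999

/-- For a closed immersion i : Z ⟶ X of algebraic spaces over S, the direct image functor i_* from
quasi-coherent O_Z-modules to quasi-coherent O_X-modules (on the small etale sites; that i_*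
preserves quasi-coherence is taken as a hypothesis) has a right adjoint. -/
theorem result {S : Scheme.{u}} {Z X : AlgSp.Space S} (i : Z ⟶ X)
    (hi : AlgSp.RepWith @IsClosedImmersion i.hom)
    (hq : ∀ G : AlgSp.ModEt Z.obj, G.IsQuasicoherent → ((AlgSp.pushModEt hi.1).obj G).IsQuasicoherent) :
    ((SheafOfModules.isQuasicoherent (AlgSp.OEtRing X.obj)).lift
        ((SheafOfModules.isQuasicoherent (AlgSp.OEtRing Z.obj)).ι ⋙ AlgSp.pushModEt hi.1)
        (fun G => hq G.obj G.property)).IsLeftAdjoint := by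
  let I := AlgSp.idealOfRep hi.1
  haveI := Groth.L23.PushEt.faithful_pushModEt hi.1
    (Groth.L23.repWith_mono (Q := @IsIntegralHom) (fun f (_ : IsClosedImmersion f) => inferInstanceAs (IsIntegralHom f)) hi)
    (Groth.L23.repWith_mono (Q := @UniversallyInjective)
      (fun f (_ : IsClosedImmersion f) => inferInstanceAs (UniversallyInjective f)) hi)
  haveI := Groth.L23.PushEt.full_pushModEt hi.1
    (Groth.L23.repWith_mono (Q := @IsIntegralHom) (fun f (_ : IsClosedImmersion f) => inferInstanceAs (IsIntegralHom f)) hi)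
    (Groth.L23.repWith_mono (Q := @UniversallyInjective)
      (fun f (_ : IsClosedImmersion f) => inferInstanceAs (UniversallyInjective f)) hi)
    (Groth.L23.ClosedPush.isLocallySurjective_bcRingHom hi)
  refine Functor.isLeftAdjoint_of_rightAdjointObjIsDefined_eq_top ?_
  ext M
  simp only [Pi.top_apply, Prop.top_eq_true, iff_true]
  haveI : M.obj.IsQuasicoherent := M.property
  obtain ⟨G', κ, hκ, hG', huniv⟩ := Groth.Agent.S9992.result X M.obj (Groth.L09.ModEt.killedMod I M.obj)
    (Groth.L09.ModEt.killedι I M.obj)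
  haveI := hκ
  haveI := hG'
  have hk : Groth.L09.ModEt.Killed I G' :=
    (Groth.L09.ModEt.killed_killedMod I M.obj).of_mono κ (Groth.L09.ModEt.injective_sapp_of_mono κ)
  haveI := Groth.L09.ModEt.isIso_unit hi G' hk
  let η := (AlgSp.pullPushAdjModEt hi.1).unit.app G'
  let R : (SheafOfModules.isQuasicoherent (AlgSp.OEtRing Z.obj)).FullSubcategory :=
    ⟨(AlgSp.pullModEt hi.1).obj G', Groth.L09.Pull.isQuasicoherent_pullM hi.1 G' X.property⟩
  let ε : (AlgSp.pushModEt hi.1).obj R.obj ⟶ M.obj := inv η ≫ κ ≫ Groth.L09.ModEt.killedι I M.obj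
  have hε : η ≫ ε = κ ≫ Groth.L09.ModEt.killedι I M.obj := IsIso.hom_inv_id_assoc η _
  refine (Functor.rightAdjointObjIsDefined_iff _ _).2 (Functor.RepresentableBy.isRepresentable (Y := R) ?_)
  refine
    { homEquiv := fun {N} => Equiv.ofBijective
        (fun g => ObjectProperty.homMk ((AlgSp.pushModEt hi.1).map g.hom ≫ ε)) ⟨fun g g' h => ?_, fun φ => ?_⟩
      homEquiv_comp := fun {N N'} a b => ?_ }
  · apply ObjectProperty.hom_ext
    refine (AlgSp.pushModEt hi.1).map_injective ?_
    have h' : (AlgSp.pushModEt hi.1).map g.hom ≫ ε = (AlgSp.pushModEt hi.1).map g'.hom ≫ ε :=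
      congrArg (fun k => k.hom) h
    exact (cancel_mono ε).1 h'
  · obtain ⟨ψ, hψ⟩ := Groth.L09.ModEt.exists_factor_killed I M.obj φ.hom (Groth.L09.ModEt.killed_push hi N.obj)
    obtain ⟨ψ', hψ'⟩ := (huniv _ (hq N.obj N.property)).2 ψ
    obtain ⟨g, hg⟩ := (AlgSp.pushModEt hi.1).map_surjective (ψ' ≫ η)
    refine ⟨ObjectProperty.homMk g, ObjectProperty.hom_ext _ ?_⟩
    show (AlgSp.pushModEt hi.1).map g ≫ ε = φ.hom
    refine (congrArg (fun t => t ≫ ε) hg).trans ((Category.assoc _ _ _).trans ((congrArg (fun t => ψ' ≫ t) hε).trans ?_))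
    exact (Category.assoc _ _ _).symm.trans
      ((congrArg (fun t => t ≫ Groth.L09.ModEt.killedι I M.obj) hψ').trans hψ)
  · apply ObjectProperty.hom_ext
    show (AlgSp.pushModEt hi.1).map (a.hom ≫ b.hom) ≫ ε =
      (AlgSp.pushModEt hi.1).map a.hom ≫ (AlgSp.pushModEt hi.1).map b.hom ≫ ε
    exact (congrArg (fun t => t ≫ ε) ((AlgSp.pushModEt hi.1).map_comp a.hom b.hom)).trans (Category.assoc _ _ _)

end Groth.Agent.S9999
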